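import Mathlib
import Cfsg.Prelude.Def_Blocks

/-!
# Schur's lemma, class sums and central characters (helper23)

For an irreducible complex representation `ρ` of a finite group `G`:
* `exists_scalar_of_commute`: an endomorphism commuting with `ρ` is a scalar;
* `classSumEnd_eq_smul`: the class sum of `g` acts as the scalar `|cl(g)| χ(g) / χ(1)`;
* `isIntegral_centralChar`: `Cfsg.centralChar χ g` is an algebraic integer for an irreducible
  character `χ` (in the sense of `Cfsg.IsIrrCharacter`);
* `center_smul`: a central group element acts as a scalar (a root of unity);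
* `sum_char_conj_mul`: `∑ a, χ (a x a⁻¹ y) = |G| χ x χ y / χ 1`.
-/

set_option autoImplicit false

namespace Cfsg.Agent.Lib.H23

open Representation

section Schur

variable {G : Type*} [Group G] {V : Type*} [AddCommGroup V] [Module ℂ V] [FiniteDimensional ℂ V]

/-- Schur's lemma over `ℂ`: an endomorphism commuting with an irreducible representation is a
scalar. -/
theorem exists_scalar_of_commute (ρ : Representation ℂ G V) [ρ.IsIrreducible]
    (T : V →ₗ[ℂ] V) (hT : ∀ g : G, T ∘ₗ ρ g = ρ g ∘ₗ T) :
    ∃ c : ℂ, T = c • LinearMap.id := by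
  let f : IntertwiningMap ρ ρ := ⟨T, hT⟩
  obtain ⟨c, hc⟩ :=
    (IsIrreducible.algebraMap_intertwiningMap_bijective_of_isAlgClosed (ρ := ρ)).2 f
  refine ⟨c, ?_⟩
  have := congrArg IntertwiningMap.toLinearMap hc
  rw [IntertwiningMap.algebraMap_apply] at this
  rw [← show f.toLinearMap = T from rfl, ← this]
  rfl

/-- The space of an irreducible representation is nontrivial. -/
theorem nontrivial_of_isIrreducible (ρ : Representation ℂ G V) [ρ.IsIrreducible] :
    Nontrivial V := by
  by_contra h
  rw [not_nontrivial_iff_subsingleton] at h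
  have hne : (⊥ : Subrepresentation ρ) ≠ ⊤ := bot_ne_top
  apply hne
  apply Subrepresentation.toSubmodule_injective
  exact Subsingleton.elim _ _

theorem finrank_pos_of_isIrreducible (ρ : Representation ℂ G V) [ρ.IsIrreducible] :
    0 < Module.finrank ℂ V := by
  have := nontrivial_of_isIrreducible ρ
  exact Module.finrank_pos

end Schur

section ClassSum

variable {G : Type*} [Group G] [Fintype G] {V : Type*} [AddCommGroup V] [Module ℂ V]
  [FiniteDimensional ℂ V]

open Classical in
/-- The conjugacy class of `g` as a finset. -/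
noncomputable def conjFinset (g : G) : Finset G := Finset.univ.filter (fun x => IsConj g x)

theorem mem_conjFinset {g x : G} : x ∈ conjFinset g ↔ IsConj g x := by
  classical
  simp [conjFinset]

theorem card_conjFinset (g : G) :
    (conjFinset g).card = (Subgroup.centralizer ({g} : Set G)).index := by
  classical
  have h1 : (Subgroup.centralizer ({g} : Set G)).index =
      (MulAction.stabilizer (ConjAct G) g).index := by
    rw [Subgroup.centralizer_eq_comap_stabilizer]
    exact Subgroup.index_comap_of_surjective (MulAction.stabilizer (ConjAct G) g)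
      (f := (ConjAct.toConjAct (G := G)).toMonoidHom) (MulEquiv.surjective _)
  rw [h1, MulAction.index_stabilizer, ← Set.ncard_coe_finset]
  congr 1
  ext x
  simp only [Finset.mem_coe, mem_conjFinset, ConjAct.mem_orbit_conjAct]
  exact isConj_comm

/-- The sum of `ρ x` over the conjugates `x` of `g`. -/
noncomputable def classSumEnd (ρ : Representation ℂ G V) (g : G) : V →ₗ[ℂ] V :=
  ∑ x ∈ conjFinset g, ρ x

theorem classSumEnd_comm (ρ : Representation ℂ G V) (g h : G) :
    classSumEnd ρ g ∘ₗ ρ h = ρ h ∘ₗ classSumEnd ρ g := by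
  classical
  simp only [classSumEnd, ← Module.End.mul_eq_comp, Finset.mul_sum, Finset.sum_mul]
  symm
  refine Finset.sum_equiv (MulAut.conj h).toEquiv ?_ ?_
  · intro x
    simp only [mem_conjFinset, MulEquiv.toEquiv_eq_coe, EquivLike.coe_coe, MulAut.conj_apply]
    constructor
    · intro hx
      exact hx.trans (isConj_iff.2 ⟨h, rfl⟩)
    · intro hx
      exact hx.trans (isConj_iff.2 ⟨h, rfl⟩).symm
  · intro x _
    simp only [MulEquiv.toEquiv_eq_coe, EquivLike.coe_coe, MulAut.conj_apply, ← map_mul]
    congr 1
    group

theorem trace_classSumEnd (ρ : Representation ℂ G V) (g : G) :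
    LinearMap.trace ℂ V (classSumEnd ρ g) =
      ((Subgroup.centralizer ({g} : Set G)).index : ℂ) * ρ.character g := by
  classical
  rw [classSumEnd, map_sum, ← card_conjFinset, ← nsmul_eq_mul, ← Finset.sum_const]
  refine Finset.sum_congr rfl ?_
  intro x hx
  obtain ⟨c, hc⟩ := isConj_iff.1 (mem_conjFinset.1 hx)
  rw [← hc]
  exact Representation.char_conj ρ g c

/-- The class sum of `g` acts on an irreducible representation as the scalar
`|cl(g)| χ(g) / χ(1)`. -/
theorem classSumEnd_eq_smul (ρ : Representation ℂ G V) [ρ.IsIrreducible] (g : G) :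
    classSumEnd ρ g =
      (((Subgroup.centralizer ({g} : Set G)).index : ℂ) * ρ.character g / ρ.character 1) •
        LinearMap.id := by
  obtain ⟨c, hc⟩ := exists_scalar_of_commute ρ (classSumEnd ρ g) (classSumEnd_comm ρ g)
  have h1 := trace_classSumEnd ρ g
  rw [hc, map_smul, LinearMap.trace_id, smul_eq_mul] at h1
  have hn : (Module.finrank ℂ V : ℂ) ≠ 0 :=
    Nat.cast_ne_zero.mpr (finrank_pos_of_isIrreducible ρ).ne'
  rw [hc, Representation.char_one, ← h1, mul_div_assoc, div_self hn, mul_one]

/-- `ρ` extended to the integral group ring. -/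
noncomputable def intGroupRingHom (ρ : Representation ℂ G V) :
    MonoidAlgebra ℤ G →ₐ[ℤ] Module.End ℂ V :=
  MonoidAlgebra.lift ℤ (Module.End ℂ V) G ρ

/-- The class sum of `g` is integral over `ℤ` as an endomorphism. -/
theorem isIntegral_classSumEnd (ρ : Representation ℂ G V) (g : G) :
    IsIntegral ℤ (classSumEnd ρ g) := by
  classical
  have hz : IsIntegral ℤ (∑ x ∈ conjFinset g, MonoidAlgebra.of ℤ G x) :=
    IsIntegral.of_finite ℤ _
  have := IsIntegral.map (intGroupRingHom ρ) hz
  rw [map_sum] at this
  simpa [intGroupRingHom, classSumEnd] using this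

/-- The central character value `|cl(g)| χ(g) / χ(1)` of an irreducible representation is an
algebraic integer. -/
theorem isIntegral_centralChar_rep (ρ : Representation ℂ G V) [ρ.IsIrreducible] (g : G) :
    IsIntegral ℤ
      (((Subgroup.centralizer ({g} : Set G)).index : ℂ) * ρ.character g / ρ.character 1) := by
  have := nontrivial_of_isIrreducible ρ
  have h := isIntegral_classSumEnd ρ g
  rw [classSumEnd_eq_smul ρ g] at h
  have hinj : Function.Injective (algebraMap ℂ (Module.End ℂ V)) :=
    FaithfulSMul.algebraMap_injective ℂ (Module.End ℂ V)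
  rw [← isIntegral_algebraMap_iff hinj]
  convert h using 1
  rw [Algebra.algebraMap_eq_smul_one]
  rfl

end ClassSum

section Cfsg

variable {G : Type*} [Group G] [Finite G]

/-- For an irreducible character `χ` of a finite group, the central character value
`Cfsg.centralChar χ g = |cl(g)| χ(g) / χ(1)` is an algebraic integer. -/
theorem isIntegral_centralChar (χ : G → ℂ) (hχ : Cfsg.IsIrrCharacter G χ) (g : G) :
    IsIntegral ℤ (Cfsg.centralChar χ g) := by
  obtain ⟨n, ρ, hirr, rfl⟩ := hχ
  haveI := Fintype.ofFinite G
  haveI : ρ.IsIrreducible := hirr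
  exact isIntegral_centralChar_rep ρ g

/-- The central character value as an element of `Cfsg.AlgInt`. -/
theorem centralChar_mem_algInt (χ : G → ℂ) (hχ : Cfsg.IsIrrCharacter G χ) (g : G) :
    Cfsg.centralChar χ g ∈ Cfsg.AlgInt :=
  isIntegral_centralChar χ hχ g

end Cfsg

end Cfsg.Agent.Lib.H23
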