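import Mathlib
import Cfsg.Prelude.Def_Blocks
import Cfsg.Agent.Lib.H23.CentralChar
import Cfsg.Agent.Lib.H24.CharOrth

/-!
# The complex group algebra and central characters (helper23)

For a finite group `G` (with `[Fintype G]`) and `A = MonoidAlgebra ℂ G`:

* `coeff_mul_eq_sum`, `ofFun`, `charEval χ z = ∑ g, z g * χ g`;
* `mem_center_of_classFunction`, `coeff_conj_of_mem_center`;
* `charEval_mul_of_mem_center`: `χ (z w) = ω_χ(z) χ(w)` for central `z` and irreducible `χ`;
* `omega`, `omegaHom`: the central character as an algebra homomorphism on the centre;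
* `classSum`, `omega_classSum`: `ω_χ` of a class sum is `Cfsg.centralChar χ g`;
* `coeff_eq_sum_omega`: Fourier inversion `z g = |G|⁻¹ ∑ χ, ω_χ(z) χ(1) conj χ(g)` on the centre;
* `eq_of_forall_omega_eq`: central elements are determined by their central character values.
-/

set_option autoImplicit false

namespace Cfsg.Agent.Lib.H23

open Cfsg MonoidAlgebra
open scoped ComplexConjugate

section GroupAlgebra

variable {G : Type*} [Group G] [Fintype G]

theorem coeff_mul_eq_sum (z w : MonoidAlgebra ℂ G) (g : G) :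
    (z * w).coeff g = ∑ h, z.coeff h * w.coeff (h⁻¹ * g) := by
  rw [MonoidAlgebra.coeff_mul_apply_left, Finsupp.sum_fintype]
  simp

theorem coeff_mul_eq_sum' (z w : MonoidAlgebra ℂ G) (g : G) :
    (z * w).coeff g = ∑ h, z.coeff (g * h⁻¹) * w.coeff h := by
  rw [MonoidAlgebra.coeff_mul_apply_right, Finsupp.sum_fintype]
  simp

/-- The group algebra element with prescribed coefficients. -/
noncomputable def ofFun (f : G → ℂ) : MonoidAlgebra ℂ G :=
  MonoidAlgebra.ofCoeff (Finsupp.equivFunOnFinite.symm f)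

@[simp] theorem coeff_ofFun (f : G → ℂ) (g : G) : (ofFun f).coeff g = f g := rfl

theorem ofFun_coeff (z : MonoidAlgebra ℂ G) : ofFun (fun g => z.coeff g) = z := by
  apply MonoidAlgebra.ext
  ext g
  rfl

theorem eq_sum_single (z : MonoidAlgebra ℂ G) :
    z = ∑ g, MonoidAlgebra.single g (z.coeff g) := by
  classical
  apply MonoidAlgebra.ext
  ext h
  simp [MonoidAlgebra.coeff_sum]

/-- Linear extension of a function on `G` to the group algebra. -/
noncomputable def charEval (χ : G → ℂ) (z : MonoidAlgebra ℂ G) : ℂ := ∑ g, z.coeff g * χ g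

theorem charEval_add (χ : G → ℂ) (z w : MonoidAlgebra ℂ G) :
    charEval χ (z + w) = charEval χ z + charEval χ w := by
  simp only [charEval, MonoidAlgebra.coeff_add, Finsupp.coe_add, Pi.add_apply, add_mul,
    Finset.sum_add_distrib]

theorem charEval_smul (χ : G → ℂ) (c : ℂ) (z : MonoidAlgebra ℂ G) :
    charEval χ (c • z) = c * charEval χ z := by
  simp only [charEval, MonoidAlgebra.coeff_smul, Finsupp.coe_smul, Pi.smul_apply, smul_eq_mul,
    Finset.mul_sum, mul_assoc]

theorem charEval_zero (χ : G → ℂ) : charEval χ 0 = 0 := by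
  simp [charEval]

theorem charEval_neg (χ : G → ℂ) (z : MonoidAlgebra ℂ G) : charEval χ (-z) = -charEval χ z := by
  have := charEval_smul χ (-1) z
  simpa using this

theorem charEval_sub (χ : G → ℂ) (z w : MonoidAlgebra ℂ G) :
    charEval χ (z - w) = charEval χ z - charEval χ w := by
  rw [sub_eq_add_neg, charEval_add, charEval_neg, sub_eq_add_neg]

theorem charEval_sum {ι : Type*} (s : Finset ι) (χ : G → ℂ) (f : ι → MonoidAlgebra ℂ G) :
    charEval χ (∑ i ∈ s, f i) = ∑ i ∈ s, charEval χ (f i) := by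
  classical
  induction s using Finset.induction_on with
  | empty => simp [charEval_zero]
  | insert a s ha ih => rw [Finset.sum_insert ha, Finset.sum_insert ha, charEval_add, ih]

theorem charEval_single (χ : G → ℂ) (g : G) (c : ℂ) :
    charEval χ (MonoidAlgebra.single g c) = c * χ g := by
  classical
  simp only [charEval, MonoidAlgebra.coeff_single, Finsupp.single_apply, ite_mul, zero_mul]
  rw [Finset.sum_ite_eq]
  simp

theorem charEval_one (χ : G → ℂ) : charEval χ 1 = χ 1 := by
  rw [MonoidAlgebra.one_def, charEval_single, one_mul]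

theorem charEval_ofFun (χ f : G → ℂ) : charEval χ (ofFun f) = ∑ g, f g * χ g := rfl

section Rep

variable {V : Type*} [AddCommGroup V] [Module ℂ V] [FiniteDimensional ℂ V]

theorem asAlgebraHom_eq_sum (ρ : Representation ℂ G V) (z : MonoidAlgebra ℂ G) :
    ρ.asAlgebraHom z = ∑ g, z.coeff g • ρ g := by
  rw [Representation.asAlgebraHom_def, MonoidAlgebra.lift_apply, Finsupp.sum_fintype]
  simp

theorem trace_asAlgebraHom (ρ : Representation ℂ G V) (z : MonoidAlgebra ℂ G) :
    LinearMap.trace ℂ V (ρ.asAlgebraHom z) = charEval ρ.character z := by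
  rw [asAlgebraHom_eq_sum, map_sum, charEval]
  refine Finset.sum_congr rfl (fun g _ => ?_)
  rw [map_smul, smul_eq_mul]
  rfl

/-- Schur's lemma for central elements of the group algebra. -/
theorem asAlgebraHom_of_mem_center (ρ : Representation ℂ G V) [ρ.IsIrreducible]
    {z : MonoidAlgebra ℂ G} (hz : z ∈ Subalgebra.center ℂ (MonoidAlgebra ℂ G)) :
    ρ.asAlgebraHom z = (charEval ρ.character z / ρ.character 1) • LinearMap.id := by
  have hcomm : ∀ g : G, ρ.asAlgebraHom z ∘ₗ ρ g = ρ g ∘ₗ ρ.asAlgebraHom z := by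
    intro g
    have h1 : ρ g = ρ.asAlgebraHom (MonoidAlgebra.single g 1) := by
      rw [Representation.asAlgebraHom_single, one_smul]
    rw [h1, ← Module.End.mul_eq_comp, ← Module.End.mul_eq_comp, ← map_mul, ← map_mul,
      (Subalgebra.mem_center_iff.1 hz) (MonoidAlgebra.single g 1)]
  obtain ⟨c, hc⟩ := exists_scalar_of_commute ρ _ hcomm
  have h1 := trace_asAlgebraHom ρ z
  rw [hc, map_smul, LinearMap.trace_id, smul_eq_mul] at h1
  have hn : (Module.finrank ℂ V : ℂ) ≠ 0 :=
    Nat.cast_ne_zero.mpr (finrank_pos_of_isIrreducible ρ).ne'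
  rw [hc, Representation.char_one, ← h1, mul_div_assoc, div_self hn, mul_one]

theorem charEval_mul_of_mem_center_rep (ρ : Representation ℂ G V) [ρ.IsIrreducible]
    {z : MonoidAlgebra ℂ G} (hz : z ∈ Subalgebra.center ℂ (MonoidAlgebra ℂ G))
    (w : MonoidAlgebra ℂ G) :
    charEval ρ.character (z * w) =
      charEval ρ.character z / ρ.character 1 * charEval ρ.character w := by
  rw [← trace_asAlgebraHom, map_mul, asAlgebraHom_of_mem_center ρ hz, smul_mul_assoc,
    map_smul, smul_eq_mul, ← trace_asAlgebraHom ρ w]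
  congr 1

end Rep

/-- For an irreducible character `χ` and a central element `z`: `χ(z w) = ω_χ(z) χ(w)`. -/
theorem charEval_mul_of_mem_center {χ : G → ℂ} (hχ : IsIrrCharacter G χ)
    {z : MonoidAlgebra ℂ G} (hz : z ∈ Subalgebra.center ℂ (MonoidAlgebra ℂ G))
    (w : MonoidAlgebra ℂ G) :
    charEval χ (z * w) = charEval χ z / χ 1 * charEval χ w := by
  obtain ⟨n, ρ, hirr, rfl⟩ := hχ
  haveI := hirr
  exact charEval_mul_of_mem_center_rep ρ hz w

/-- An element with class-function coefficients is central. -/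
theorem mem_center_of_classFunction {z : MonoidAlgebra ℂ G}
    (hz : ∀ g h : G, z.coeff (h * g * h⁻¹) = z.coeff g) :
    z ∈ Subalgebra.center ℂ (MonoidAlgebra ℂ G) := by
  rw [Subalgebra.mem_center_iff]
  intro b
  induction b using MonoidAlgebra.induction_on with
  | of g =>
    apply MonoidAlgebra.ext
    ext y
    rw [MonoidAlgebra.of_apply, MonoidAlgebra.coeff_single_mul_apply,
      MonoidAlgebra.coeff_mul_single_apply, one_mul, mul_one]
    have := hz (g⁻¹ * y) g
    rw [← this]
    congr 1
    group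
  | add x y hx hy => rw [add_mul, mul_add, hx, hy]
  | smul r x hx => rw [smul_mul_assoc, mul_smul_comm, hx]

theorem coeff_conj_of_mem_center {z : MonoidAlgebra ℂ G}
    (hz : z ∈ Subalgebra.center ℂ (MonoidAlgebra ℂ G)) (g h : G) :
    z.coeff (h * g * h⁻¹) = z.coeff g := by
  have h1 := (Subalgebra.mem_center_iff.1 hz) (MonoidAlgebra.single h⁻¹ 1)
  have h2 := congrArg (fun x : MonoidAlgebra ℂ G => x.coeff (g * h⁻¹)) h1
  simp only [MonoidAlgebra.coeff_single_mul_apply, MonoidAlgebra.coeff_mul_single_apply,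
    one_mul, mul_one, inv_inv] at h2
  rw [← mul_assoc] at h2
  rw [h2]
  congr 1
  group

theorem coeff_eq_of_isConj {z : MonoidAlgebra ℂ G}
    (hz : z ∈ Subalgebra.center ℂ (MonoidAlgebra ℂ G)) {g h : G} (hgh : IsConj g h) :
    z.coeff g = z.coeff h := by
  obtain ⟨c, rfl⟩ := isConj_iff.1 hgh
  exact (coeff_conj_of_mem_center hz g c).symm

/-- The central character of `χ` evaluated at a group algebra element. -/
noncomputable def omega (χ : G → ℂ) (z : MonoidAlgebra ℂ G) : ℂ := charEval χ z / χ 1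

theorem omega_add (χ : G → ℂ) (z w : MonoidAlgebra ℂ G) :
    omega χ (z + w) = omega χ z + omega χ w := by
  rw [omega, charEval_add, add_div]; rfl

theorem omega_smul (χ : G → ℂ) (c : ℂ) (z : MonoidAlgebra ℂ G) :
    omega χ (c • z) = c * omega χ z := by
  rw [omega, charEval_smul, mul_div_assoc]; rfl

theorem omega_sub (χ : G → ℂ) (z w : MonoidAlgebra ℂ G) :
    omega χ (z - w) = omega χ z - omega χ w := by
  rw [omega, charEval_sub, sub_div]; rfl

theorem omega_sum {ι : Type*} (s : Finset ι) (χ : G → ℂ) (f : ι → MonoidAlgebra ℂ G) :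
    omega χ (∑ i ∈ s, f i) = ∑ i ∈ s, omega χ (f i) := by
  rw [omega, charEval_sum, Finset.sum_div]; rfl

theorem omega_one {χ : G → ℂ} (hχ : χ 1 ≠ 0) : omega χ 1 = 1 := by
  rw [omega, charEval_one, div_self hχ]

theorem omega_mul {χ : G → ℂ} (hχ : IsIrrCharacter G χ)
    {z : MonoidAlgebra ℂ G} (hz : z ∈ Subalgebra.center ℂ (MonoidAlgebra ℂ G))
    (w : MonoidAlgebra ℂ G) : omega χ (z * w) = omega χ z * omega χ w := by
  rw [omega, charEval_mul_of_mem_center hχ hz, mul_div_assoc]; rfl

theorem omega_pow {χ : G → ℂ} (hχ : IsIrrCharacter G χ)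
    {z : MonoidAlgebra ℂ G} (hz : z ∈ Subalgebra.center ℂ (MonoidAlgebra ℂ G)) (k : ℕ) :
    omega χ (z ^ k) = omega χ z ^ k := by
  induction k with
  | zero =>
    rw [pow_zero, pow_zero]
    exact omega_one (Cfsg.Agent.Lib.H24.irr_one_ne_zero ⟨χ, hχ⟩)
  | succ k ih => rw [pow_succ', pow_succ', omega_mul hχ hz, ih]

theorem irr_one_ne_zero' {χ : G → ℂ} (hχ : IsIrrCharacter G χ) : χ 1 ≠ 0 :=
  Cfsg.Agent.Lib.H24.irr_one_ne_zero ⟨χ, hχ⟩

/-- The central character as an algebra homomorphism from the centre of the group algebra. -/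
noncomputable def omegaHom (χ : G → ℂ) (hχ : IsIrrCharacter G χ) :
    Subalgebra.center ℂ (MonoidAlgebra ℂ G) →ₐ[ℂ] ℂ where
  toFun z := omega χ (z : MonoidAlgebra ℂ G)
  map_one' := omega_one (irr_one_ne_zero' hχ)
  map_mul' z w := omega_mul hχ z.2 w
  map_zero' := by simp [omega, charEval_zero]
  map_add' z w := omega_add χ z w
  commutes' c := by
    have : ((algebraMap ℂ (Subalgebra.center ℂ (MonoidAlgebra ℂ G)) c :
        Subalgebra.center ℂ (MonoidAlgebra ℂ G)) : MonoidAlgebra ℂ G) =
        c • (1 : MonoidAlgebra ℂ G) := by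
      rw [Algebra.algebraMap_eq_smul_one]
      rfl
    simp only [this, omega_smul, omega_one (irr_one_ne_zero' hχ), mul_one]
    rfl

theorem omegaHom_apply (χ : G → ℂ) (hχ : IsIrrCharacter G χ)
    (z : Subalgebra.center ℂ (MonoidAlgebra ℂ G)) :
    omegaHom χ hχ z = omega χ (z : MonoidAlgebra ℂ G) := rfl

/-- The class sum of `g`. -/
noncomputable def classSum (g : G) : MonoidAlgebra ℂ G :=
  ∑ x ∈ conjFinset g, MonoidAlgebra.single x 1

theorem coeff_classSum (g h : G) [Decidable (IsConj g h)] :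
    (classSum g).coeff h = if IsConj g h then 1 else 0 := by
  classical
  rw [classSum, MonoidAlgebra.coeff_sum, Finsupp.finsetSum_apply]
  simp only [MonoidAlgebra.coeff_single, Finsupp.single_apply]
  rw [Finset.sum_ite_eq']
  simp only [mem_conjFinset]

theorem classSum_mem_center (g : G) :
    classSum g ∈ Subalgebra.center ℂ (MonoidAlgebra ℂ G) := by
  classical
  apply mem_center_of_classFunction
  intro x h
  rw [coeff_classSum, coeff_classSum]
  have : IsConj g (h * x * h⁻¹) ↔ IsConj g x := by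
    constructor
    · intro h1
      exact h1.trans (isConj_iff.mpr ⟨h⁻¹, by group⟩)
    · intro h1
      exact h1.trans (isConj_iff.mpr ⟨h, rfl⟩)
  simp only [this]

theorem charEval_classSum {χ : G → ℂ} (hχ : IsClassFunction G χ) (g : G) :
    charEval χ (classSum g) = ((Subgroup.centralizer ({g} : Set G)).index : ℂ) * χ g := by
  classical
  rw [classSum, charEval_sum, ← card_conjFinset, ← nsmul_eq_mul, ← Finset.sum_const]
  refine Finset.sum_congr rfl (fun x hx => ?_)
  rw [charEval_single, one_mul]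
  obtain ⟨c, rfl⟩ := isConj_iff.1 (mem_conjFinset.1 hx)
  exact hχ g c

theorem omega_classSum {χ : G → ℂ} (hχ : IsClassFunction G χ) (g : G) :
    omega χ (classSum g) = centralChar χ g := by
  rw [omega, charEval_classSum hχ, centralChar]

/-- Fourier inversion on the centre of the group algebra. -/
theorem coeff_eq_sum_omega [Fintype (IrrCharacter G)] {z : MonoidAlgebra ℂ G}
    (hz : z ∈ Subalgebra.center ℂ (MonoidAlgebra ℂ G)) (g : G) :
    z.coeff g = (Nat.card G : ℂ)⁻¹ *
      ∑ χ : IrrCharacter G, omega (χ : G → ℂ) z * ((χ : G → ℂ) 1 * conj ((χ : G → ℂ) g)) := by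
  classical
  have h1 : ∀ χ : IrrCharacter G,
      omega (χ : G → ℂ) z * ((χ : G → ℂ) 1 * conj ((χ : G → ℂ) g)) =
        ∑ h : G, z.coeff h * ((χ : G → ℂ) h * conj ((χ : G → ℂ) g)) := by
    intro χ
    have h0 := Cfsg.Agent.Lib.H24.irr_one_ne_zero χ
    have : omega (χ : G → ℂ) z * ((χ : G → ℂ) 1 * conj ((χ : G → ℂ) g)) =
        charEval (χ : G → ℂ) z * conj ((χ : G → ℂ) g) := by
      rw [omega]
      field_simp
    rw [this, charEval, Finset.sum_mul]
    refine Finset.sum_congr rfl (fun h _ => ?_)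
    ring
  simp only [h1]
  rw [Finset.sum_comm]
  simp only [← Finset.mul_sum]
  have h2 : ∀ h : G, ∑ χ : IrrCharacter G, (χ : G → ℂ) h * conj ((χ : G → ℂ) g) =
      if IsConj g h then (Nat.card (Subgroup.centralizer ({g} : Set G)) : ℂ) else 0 := by
    intro h
    have := Cfsg.Agent.Lib.H24.second_orthogonality (G := G) g h
    have hc : ∑ χ : IrrCharacter G, (χ : G → ℂ) h * conj ((χ : G → ℂ) g) =
        conj (∑ χ : IrrCharacter G, (χ : G → ℂ) g * conj ((χ : G → ℂ) h)) := by
      rw [map_sum]
      refine Finset.sum_congr rfl (fun χ _ => ?_)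
      rw [map_mul, Complex.conj_conj, mul_comm]
    rw [hc, this]
    split_ifs <;> simp
  simp only [h2, mul_ite, mul_zero]
  rw [← Finset.sum_filter]
  have h3 : ∀ h ∈ Finset.univ.filter (fun h => IsConj g h),
      z.coeff h * (Nat.card (Subgroup.centralizer ({g} : Set G)) : ℂ) =
        z.coeff g * (Nat.card (Subgroup.centralizer ({g} : Set G)) : ℂ) := by
    intro h hh
    rw [coeff_eq_of_isConj hz (Finset.mem_filter.1 hh).2]
  rw [Finset.sum_congr rfl h3, Finset.sum_const, nsmul_eq_mul]
  have h4 : (Finset.univ.filter (fun h => IsConj g h)).card =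
      (Subgroup.centralizer ({g} : Set G)).index := by
    rw [← card_conjFinset]
    congr 1
  rw [h4]
  have hmul : ((Subgroup.centralizer ({g} : Set G)).index : ℂ) *
      (Nat.card (Subgroup.centralizer ({g} : Set G)) : ℂ) = (Nat.card G : ℂ) := by
    exact_mod_cast Subgroup.index_mul_card (Subgroup.centralizer ({g} : Set G))
  have hG : (Nat.card G : ℂ) ≠ 0 := by exact_mod_cast (Nat.card_pos (α := G)).ne'
  rw [mul_comm (z.coeff g), ← mul_assoc, ← mul_assoc, mul_assoc _ _ (Nat.card _ : ℂ), hmul,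
    inv_mul_cancel₀ hG, one_mul]

/-- Central elements of the group algebra are determined by their central character values. -/
theorem eq_of_forall_omega_eq {z w : MonoidAlgebra ℂ G}
    (hz : z ∈ Subalgebra.center ℂ (MonoidAlgebra ℂ G))
    (hw : w ∈ Subalgebra.center ℂ (MonoidAlgebra ℂ G))
    (h : ∀ χ : IrrCharacter G, omega (χ : G → ℂ) z = omega (χ : G → ℂ) w) : z = w := by
  classical
  haveI := Fintype.ofFinite (IrrCharacter G)
  apply MonoidAlgebra.ext
  ext g
  rw [coeff_eq_sum_omega hz, coeff_eq_sum_omega hw]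
  simp only [h]

end GroupAlgebra

end Cfsg.Agent.Lib.H23
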