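import Mathlib
import Cfsg.Prelude.Def_Blocks

/-!
# The local ring at a maximal ideal of the algebraic integers (helper23)

For a prime ideal `M` of `Cfsg.AlgInt`, the complex numbers `a / b` with `a, b` algebraic
integers and `b ∉ M` form a subring `localRing M` of `ℂ` (`Cfsg.MemLocalRing`), and those with
`a ∈ M` an ideal of it (`Cfsg.MemLocalIdeal`).  This file collects the arithmetic of these two
predicates needed for block theory:

* closure properties, `memLocalIdeal_coe_iff`, `natCast_memLocalIdeal_iff`, units;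
* `exists_pow_sub_pow_mem_span`: powers of an algebraic integer are eventually periodic mod `p`;
* `exists_pow_div_mem`: a power of an element of the local ideal is divisible by `p`;
* `eq_zero_of_forall_div_pow`: only `0` is divisible by all powers of `p`;
* `exists_pow_sub_one_div`, `exists_pow_div`: `p`-adic convergence of `p^N`-th powers.
-/

set_option autoImplicit false

namespace Cfsg.Agent.Lib.H23

open Cfsg

section Basic

variable {M : Ideal AlgInt}

theorem coe_ne_zero_of_not_mem {b : AlgInt} (hb : b ∉ M) : (b : ℂ) ≠ 0 := by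
  intro h
  apply hb
  have : b = 0 := Subtype.ext h
  rw [this]
  exact M.zero_mem

theorem memLocalRing_coe (hM : M ≠ ⊤) (a : AlgInt) : MemLocalRing M (a : ℂ) :=
  ⟨a, 1, (Ideal.ne_top_iff_one M).1 hM, by simp⟩

theorem memLocalRing_zero (hM : M ≠ ⊤) : MemLocalRing M 0 := by
  simpa using memLocalRing_coe hM 0

theorem memLocalRing_one (hM : M ≠ ⊤) : MemLocalRing M 1 := by
  simpa using memLocalRing_coe hM 1

theorem memLocalRing_add [hP : M.IsPrime] {z w : ℂ} (hz : MemLocalRing M z)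
    (hw : MemLocalRing M w) : MemLocalRing M (z + w) := by
  obtain ⟨a, b, hb, rfl⟩ := hz
  obtain ⟨c, d, hd, rfl⟩ := hw
  refine ⟨a * d + c * b, b * d, fun h => (hP.mem_or_mem h).elim hb hd, ?_⟩
  have hb0 := coe_ne_zero_of_not_mem hb
  have hd0 := coe_ne_zero_of_not_mem hd
  push_cast
  field_simp

theorem memLocalRing_mul [hP : M.IsPrime] {z w : ℂ} (hz : MemLocalRing M z)
    (hw : MemLocalRing M w) : MemLocalRing M (z * w) := by
  obtain ⟨a, b, hb, rfl⟩ := hz
  obtain ⟨c, d, hd, rfl⟩ := hw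
  refine ⟨a * c, b * d, fun h => (hP.mem_or_mem h).elim hb hd, ?_⟩
  have hb0 := coe_ne_zero_of_not_mem hb
  have hd0 := coe_ne_zero_of_not_mem hd
  push_cast
  field_simp

theorem memLocalRing_neg {z : ℂ} (hz : MemLocalRing M z) : MemLocalRing M (-z) := by
  obtain ⟨a, b, hb, rfl⟩ := hz
  refine ⟨-a, b, hb, ?_⟩
  push_cast
  ring

/-- The local ring at the prime ideal `M`, as a subring of `ℂ`. -/
def localRing (M : Ideal AlgInt) [hP : M.IsPrime] : Subring ℂ where
  carrier := {z | MemLocalRing M z}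
  mul_mem' := memLocalRing_mul
  one_mem' := memLocalRing_one hP.ne_top
  add_mem' := memLocalRing_add
  zero_mem' := memLocalRing_zero hP.ne_top
  neg_mem' := memLocalRing_neg

theorem mem_localRing [M.IsPrime] {z : ℂ} : z ∈ localRing M ↔ MemLocalRing M z := Iff.rfl

theorem coe_mem_localRing [hP : M.IsPrime] (a : AlgInt) : (a : ℂ) ∈ localRing M :=
  memLocalRing_coe hP.ne_top a

theorem natCast_mem_localRing [M.IsPrime] (n : ℕ) : (n : ℂ) ∈ localRing M :=
  natCast_mem _ n

theorem intCast_mem_localRing [M.IsPrime] (n : ℤ) : (n : ℂ) ∈ localRing M :=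
  intCast_mem _ n

theorem isIntegral_mem_localRing [M.IsPrime] {z : ℂ} (hz : IsIntegral ℤ z) :
    z ∈ localRing M :=
  coe_mem_localRing (⟨z, hz⟩ : AlgInt)

theorem memLocalRing_of_memLocalIdeal {z : ℂ} (hz : MemLocalIdeal M z) : MemLocalRing M z := by
  obtain ⟨a, b, -, hb, rfl⟩ := hz
  exact ⟨a, b, hb, rfl⟩

theorem memLocalIdeal_zero (hM : M ≠ ⊤) : MemLocalIdeal M 0 :=
  ⟨0, 1, M.zero_mem, (Ideal.ne_top_iff_one M).1 hM, by simp⟩

theorem memLocalIdeal_add [hP : M.IsPrime] {z w : ℂ} (hz : MemLocalIdeal M z)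
    (hw : MemLocalIdeal M w) : MemLocalIdeal M (z + w) := by
  obtain ⟨a, b, ha, hb, rfl⟩ := hz
  obtain ⟨c, d, hc, hd, rfl⟩ := hw
  refine ⟨a * d + c * b, b * d, M.add_mem (M.mul_mem_right _ ha) (M.mul_mem_right _ hc),
    fun h => (hP.mem_or_mem h).elim hb hd, ?_⟩
  have hb0 := coe_ne_zero_of_not_mem hb
  have hd0 := coe_ne_zero_of_not_mem hd
  push_cast
  field_simp

theorem memLocalIdeal_neg {z : ℂ} (hz : MemLocalIdeal M z) : MemLocalIdeal M (-z) := by
  obtain ⟨a, b, ha, hb, rfl⟩ := hz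
  refine ⟨-a, b, M.neg_mem ha, hb, ?_⟩
  push_cast
  ring

theorem memLocalIdeal_sub [M.IsPrime] {z w : ℂ} (hz : MemLocalIdeal M z)
    (hw : MemLocalIdeal M w) : MemLocalIdeal M (z - w) := by
  rw [sub_eq_add_neg]
  exact memLocalIdeal_add hz (memLocalIdeal_neg hw)

theorem memLocalIdeal_mul_left [hP : M.IsPrime] {z w : ℂ} (hz : MemLocalRing M z)
    (hw : MemLocalIdeal M w) : MemLocalIdeal M (z * w) := by
  obtain ⟨a, b, hb, rfl⟩ := hz
  obtain ⟨c, d, hc, hd, rfl⟩ := hw
  refine ⟨a * c, b * d, M.mul_mem_left _ hc, fun h => (hP.mem_or_mem h).elim hb hd, ?_⟩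
  have hb0 := coe_ne_zero_of_not_mem hb
  have hd0 := coe_ne_zero_of_not_mem hd
  push_cast
  field_simp

theorem memLocalIdeal_mul_right [M.IsPrime] {z w : ℂ} (hz : MemLocalIdeal M z)
    (hw : MemLocalRing M w) : MemLocalIdeal M (z * w) := by
  rw [mul_comm]
  exact memLocalIdeal_mul_left hw hz

/-- The local ideal as an additive subgroup of `ℂ`. -/
def localIdeal (M : Ideal AlgInt) [hP : M.IsPrime] : AddSubgroup ℂ where
  carrier := {z | MemLocalIdeal M z}
  add_mem' := memLocalIdeal_add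
  zero_mem' := memLocalIdeal_zero hP.ne_top
  neg_mem' := memLocalIdeal_neg

theorem mem_localIdeal [M.IsPrime] {z : ℂ} : z ∈ localIdeal M ↔ MemLocalIdeal M z := Iff.rfl

theorem memLocalIdeal_sum [M.IsPrime] {ι : Type*} (s : Finset ι) (f : ι → ℂ)
    (h : ∀ i ∈ s, MemLocalIdeal M (f i)) : MemLocalIdeal M (∑ i ∈ s, f i) :=
  (localIdeal M).sum_mem h

theorem memLocalRing_sum [M.IsPrime] {ι : Type*} (s : Finset ι) (f : ι → ℂ)
    (h : ∀ i ∈ s, MemLocalRing M (f i)) : MemLocalRing M (∑ i ∈ s, f i) :=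
  (localRing M).sum_mem h

theorem memLocalRing_prod [M.IsPrime] {ι : Type*} (s : Finset ι) (f : ι → ℂ)
    (h : ∀ i ∈ s, MemLocalRing M (f i)) : MemLocalRing M (∏ i ∈ s, f i) :=
  (localRing M).prod_mem h

theorem memLocalRing_pow [M.IsPrime] {z : ℂ} (hz : MemLocalRing M z) (n : ℕ) :
    MemLocalRing M (z ^ n) :=
  (localRing M).pow_mem hz n

theorem memLocalRing_sub [M.IsPrime] {z w : ℂ} (hz : MemLocalRing M z)
    (hw : MemLocalRing M w) : MemLocalRing M (z - w) :=
  (localRing M).sub_mem hz hw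

/-- For an algebraic integer, lying in the local ideal means lying in `M`. -/
theorem memLocalIdeal_coe_iff [hP : M.IsPrime] (a : AlgInt) :
    MemLocalIdeal M (a : ℂ) ↔ a ∈ M := by
  constructor
  · rintro ⟨c, d, hc, hd, h⟩
    have hd0 := coe_ne_zero_of_not_mem hd
    have h1 : a * d = c := by
      apply Subtype.ext
      push_cast
      rw [← h]
      field_simp
    have h2 : a * d ∈ M := h1 ▸ hc
    exact (hP.mem_or_mem h2).resolve_right hd
  · intro ha
    exact ⟨a, 1, ha, (Ideal.ne_top_iff_one M).1 hP.ne_top, by simp⟩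

theorem not_memLocalIdeal_one [hP : M.IsPrime] : ¬ MemLocalIdeal M 1 := by
  have := (memLocalIdeal_coe_iff (M := M) 1).not.2 ((Ideal.ne_top_iff_one M).1 hP.ne_top)
  simpa using this

/-- Elements of the local ring outside the local ideal are units of the local ring. -/
theorem memLocalRing_inv [hP : M.IsPrime] {z : ℂ} (hz : MemLocalRing M z)
    (hz' : ¬ MemLocalIdeal M z) : MemLocalRing M z⁻¹ := by
  obtain ⟨a, b, hb, rfl⟩ := hz
  have ha : a ∉ M := fun ha => hz' ⟨a, b, ha, hb, rfl⟩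
  exact ⟨b, a, ha, by rw [inv_div]⟩

theorem ne_zero_of_not_memLocalIdeal [hP : M.IsPrime] {z : ℂ} (hz' : ¬ MemLocalIdeal M z) :
    z ≠ 0 := by
  rintro rfl
  exact hz' (memLocalIdeal_zero hP.ne_top)

/-- The complement of the local ideal in the local ring is closed under multiplication. -/
theorem not_memLocalIdeal_mul [hP : M.IsPrime] {z w : ℂ} (hz : MemLocalRing M z)
    (hz' : ¬ MemLocalIdeal M z) (hw' : ¬ MemLocalIdeal M w) : ¬ MemLocalIdeal M (z * w) := by
  intro h
  apply hw'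
  have hz0 := ne_zero_of_not_memLocalIdeal hz'
  have := memLocalIdeal_mul_left (memLocalRing_inv hz hz') h
  rwa [← mul_assoc, inv_mul_cancel₀ hz0, one_mul] at this

theorem memLocalIdeal_of_mul [hP : M.IsPrime] {z w : ℂ} (hz : MemLocalRing M z)
    (hz' : ¬ MemLocalIdeal M z) (h : MemLocalIdeal M (z * w)) : MemLocalIdeal M w := by
  by_contra hw
  exact not_memLocalIdeal_mul hz hz' hw h

end Basic

section Modular

variable {p : ℕ} {M : Ideal AlgInt}

theorem isPrime_of_isPModular (hM : IsPModular p M) : M.IsPrime := hM.2.1.isPrime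

theorem prime_of_isPModular (hM : IsPModular p M) : p.Prime := hM.1

theorem natCast_mem_of_isPModular (hM : IsPModular p M) : (p : AlgInt) ∈ M := hM.2.2

/-- An integer lies in `M` iff it is divisible by `p`. -/
theorem intCast_mem_iff (hM : IsPModular p M) (n : ℤ) : (n : AlgInt) ∈ M ↔ (p : ℤ) ∣ n := by
  have hP := (isPrime_of_isPModular hM)
  constructor
  · intro hn
    by_contra hdvd
    have hcop : IsCoprime (p : ℤ) n := by
      rw [Int.isCoprime_iff_gcd_eq_one]
      have := (Nat.Prime.coprime_iff_not_dvd (prime_of_isPModular hM)).2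
        (fun h : p ∣ n.natAbs => hdvd (Int.natCast_dvd.2 h))
      simpa [Int.gcd] using this
    obtain ⟨u, v, huv⟩ := hcop
    have h1 : (1 : AlgInt) ∈ M := by
      have : ((u * p + v * n : ℤ) : AlgInt) = 1 := by rw [huv]; simp
      rw [← this]
      push_cast
      exact M.add_mem (M.mul_mem_left _ (natCast_mem_of_isPModular hM)) (M.mul_mem_left _ hn)
    exact (Ideal.ne_top_iff_one M).1 hP.ne_top h1
  · rintro ⟨k, rfl⟩
    push_cast
    exact M.mul_mem_right _ (natCast_mem_of_isPModular hM)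

theorem natCast_mem_iff (hM : IsPModular p M) (n : ℕ) : (n : AlgInt) ∈ M ↔ p ∣ n := by
  have := intCast_mem_iff hM (n : ℤ)
  rw [Int.natCast_dvd_natCast] at this
  simpa using this

theorem natCast_memLocalIdeal_iff (hM : IsPModular p M) (n : ℕ) :
    MemLocalIdeal M (n : ℂ) ↔ p ∣ n := by
  have := (isPrime_of_isPModular hM)
  rw [← natCast_mem_iff hM n, ← memLocalIdeal_coe_iff]
  simp

theorem intCast_memLocalIdeal_iff (hM : IsPModular p M) (n : ℤ) :
    MemLocalIdeal M (n : ℂ) ↔ (p : ℤ) ∣ n := by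
  have := (isPrime_of_isPModular hM)
  rw [← intCast_mem_iff hM n, ← memLocalIdeal_coe_iff]
  simp

theorem memLocalIdeal_p (hM : IsPModular p M) : MemLocalIdeal M (p : ℂ) :=
  (natCast_memLocalIdeal_iff hM p).2 dvd_rfl

/-- A natural number prime to `p` is a unit of the local ring. -/
theorem memLocalRing_inv_natCast (hM : IsPModular p M) {n : ℕ} (hn : ¬ p ∣ n) :
    MemLocalRing M ((n : ℂ)⁻¹) := by
  have := (isPrime_of_isPModular hM)
  exact memLocalRing_inv (natCast_mem_localRing n) (fun h => hn ((natCast_memLocalIdeal_iff hM n).1 h))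

/-- The powers of an algebraic integer are eventually periodic modulo `p`. -/
theorem exists_pow_sub_pow_mem_span (hM : IsPModular p M) (u : AlgInt) :
    ∃ n t : ℕ, 0 < t ∧ ∃ r : AlgInt, u ^ n - u ^ (n + t) = (p : AlgInt) * r := by
  haveI : Fact p.Prime := ⟨(prime_of_isPModular hM)⟩
  have hP := (isPrime_of_isPModular hM)
  have hnu : (p : AlgInt) ∈ nonunits AlgInt := by
    intro hu
    exact hP.ne_top (Ideal.eq_top_of_isUnit_mem M (natCast_mem_of_isPModular hM) hu)
  let I : Ideal AlgInt := Ideal.span {(p : AlgInt)}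
  haveI : CharP (AlgInt ⧸ I) p := CharP.quotient AlgInt p hnu
  letI : Algebra (ZMod p) (AlgInt ⧸ I) := ZMod.algebra _ p
  let ub : AlgInt ⧸ I := Ideal.Quotient.mk I u
  have hu : IsIntegral ℤ u := by
    have h1 : IsIntegral ℤ (u : ℂ) := u.2
    exact (isIntegral_algHom_iff (Subalgebra.val AlgInt) Subtype.val_injective).1 h1
  have hub : IsIntegral ℤ ub := hu.map (Ideal.Quotient.mkₐ ℤ I)
  have hub' : IsIntegral (ZMod p) ub := by
    obtain ⟨f, hf, hf0⟩ := hub
    refine ⟨f.map (Int.castRingHom (ZMod p)), hf.map _, ?_⟩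
    rw [Polynomial.eval₂_map]
    have : (algebraMap (ZMod p) (AlgInt ⧸ I)).comp (Int.castRingHom (ZMod p)) =
        algebraMap ℤ (AlgInt ⧸ I) := RingHom.ext_int _ _
    rw [this]
    exact hf0
  have hfg := hub'.fg_adjoin_singleton
  haveI : Module.Finite (ZMod p) (Algebra.adjoin (ZMod p) {ub}) :=
    Module.Finite.of_fg hfg
  haveI : Finite (Algebra.adjoin (ZMod p) {ub}) := Module.finite_of_finite (ZMod p)
  let f : ℕ → Algebra.adjoin (ZMod p) {ub} := fun i =>
    ⟨ub ^ i, pow_mem (Algebra.subset_adjoin (Set.mem_singleton ub)) i⟩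
  obtain ⟨i, j, hij, hf⟩ := Finite.exists_ne_map_eq_of_infinite f
  have hf' : ub ^ i = ub ^ j := congrArg Subtype.val hf
  have key : ∀ a b : ℕ, a < b → ub ^ a = ub ^ b →
      ∃ n t : ℕ, 0 < t ∧ ∃ r : AlgInt, u ^ n - u ^ (n + t) = (p : AlgInt) * r := by
    intro a b hab h
    refine ⟨a, b - a, Nat.sub_pos_of_lt hab, ?_⟩
    have h2 : Ideal.Quotient.mk I (u ^ a) = Ideal.Quotient.mk I (u ^ (a + (b - a))) := by
      rw [Nat.add_sub_cancel' hab.le, map_pow, map_pow]
      exact h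
    rw [Ideal.Quotient.eq, Ideal.mem_span_singleton'] at h2
    obtain ⟨r, hr⟩ := h2
    exact ⟨r, by rw [← hr, mul_comm]⟩
  rcases lt_or_gt_of_ne hij with h | h
  · exact key i j h hf'
  · exact key j i h hf'.symm

/-- Some power of an element of the local ideal is divisible by `p` in the local ring. -/
theorem exists_pow_div_mem (hM : IsPModular p M) {z : ℂ} (hz : MemLocalIdeal M z) :
    ∃ n : ℕ, 0 < n ∧ MemLocalRing M (z ^ n / p) := by
  have hP := (isPrime_of_isPModular hM)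
  obtain ⟨u, b, hu, hb, rfl⟩ := hz
  obtain ⟨n, t, ht, r, hr⟩ := exists_pow_sub_pow_mem_span hM u
  have hb0 := coe_ne_zero_of_not_mem hb
  have hp0 : (p : ℂ) ≠ 0 := Nat.cast_ne_zero.2 (prime_of_isPModular hM).ne_zero
  -- `u^n (1 - u^t) = p r`, with `1 - u^t ∉ M`
  have hc : (1 - u ^ t : AlgInt) ∉ M := by
    intro h
    have : (1 : AlgInt) ∈ M := by
      have h2 : u ^ t ∈ M := M.pow_mem_of_mem hu t ht
      have := M.add_mem h h2
      simpa using this
    exact (Ideal.ne_top_iff_one M).1 hP.ne_top this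
  have hc0 : (1 - (u : ℂ) ^ t) ≠ 0 := by
    have := coe_ne_zero_of_not_mem hc
    push_cast at this
    exact this
  refine ⟨n + 1, Nat.succ_pos _, ?_⟩
  have hr' : (u : ℂ) ^ n * (1 - (u : ℂ) ^ t) = (p : ℂ) * (r : ℂ) := by
    have := congrArg (fun x : AlgInt => (x : ℂ)) hr
    push_cast at this
    rw [← this]
    ring
  have : ((u : ℂ) / (b : ℂ)) ^ (n + 1) / (p : ℂ) =
      (u : ℂ) * (r : ℂ) / ((1 - (u : ℂ) ^ t) * (b : ℂ) ^ (n + 1)) := by
    have h1 : (u : ℂ) ^ n = (p : ℂ) * (r : ℂ) / (1 - (u : ℂ) ^ t) := by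
      rw [eq_div_iff hc0]
      exact hr'
    rw [div_pow, pow_succ, h1]
    field_simp
  rw [this]
  refine ⟨u * r, (1 - u ^ t) * b ^ (n + 1), ?_, by push_cast; ring⟩
  intro h
  rcases hP.mem_or_mem h with h | h
  · exact hc h
  · exact hb (hP.mem_of_pow_mem _ h)

/-- Divisibility by `p ^ m` in the local ring, in terms of complex numbers. -/
theorem pow_dvd_iff [M.IsPrime] (hp : p ≠ 0) (m : ℕ) (x : localRing M) :
    ((p : localRing M) ^ m ∣ x) ↔ MemLocalRing M ((x : ℂ) / (p : ℂ) ^ m) := by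
  have hp0 : (p : ℂ) ^ m ≠ 0 := pow_ne_zero _ (Nat.cast_ne_zero.2 hp)
  constructor
  · rintro ⟨y, rfl⟩
    have : (((p : localRing M) ^ m * y : localRing M) : ℂ) / (p : ℂ) ^ m = (y : ℂ) := by
      push_cast
      field_simp
    rw [this]
    exact y.2
  · intro h
    refine ⟨⟨_, h⟩, ?_⟩
    apply Subtype.ext
    push_cast
    field_simp

/-- If `c / p ^ k` is a local integer for an integer `c`, then `p ^ k ∣ c`. -/
theorem pow_dvd_of_intCast_div_mem (hM : IsPModular p M) :
    ∀ (k : ℕ) (c : ℤ), MemLocalRing M ((c : ℂ) / (p : ℂ) ^ k) → (p : ℤ) ^ k ∣ c := by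
  have hP := isPrime_of_isPModular hM
  have hp0 : (p : ℂ) ≠ 0 := Nat.cast_ne_zero.2 (prime_of_isPModular hM).ne_zero
  intro k
  induction k with
  | zero => intro c _; simp
  | succ k ih =>
    intro c hc
    have h1 : MemLocalIdeal M (c : ℂ) := by
      have : (c : ℂ) = (p : ℂ) * ((p : ℂ) ^ k * ((c : ℂ) / (p : ℂ) ^ (k + 1))) := by
        field_simp
        ring
      rw [this]
      exact memLocalIdeal_mul_right (memLocalIdeal_p hM)
        (memLocalRing_mul (memLocalRing_pow (natCast_mem_localRing p) k) hc)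
    obtain ⟨c', rfl⟩ := (intCast_memLocalIdeal_iff hM c).1 h1
    have h2 : MemLocalRing M ((c' : ℂ) / (p : ℂ) ^ k) := by
      have : (c' : ℂ) / (p : ℂ) ^ k = ((p * c' : ℤ) : ℂ) / (p : ℂ) ^ (k + 1) := by
        push_cast
        field_simp
        ring
      rw [this]
      exact hc
    rw [pow_succ, mul_comm]
    exact mul_dvd_mul_left _ (ih c' h2)

/-- Only `0` is divisible by every power of `p` in the local ring. -/
theorem eq_zero_of_forall_div_pow (hM : IsPModular p M) {z : ℂ} (hz : MemLocalRing M z)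
    (h : ∀ k : ℕ, MemLocalRing M (z / (p : ℂ) ^ k)) : z = 0 := by
  have hP := isPrime_of_isPModular hM
  have hp := prime_of_isPModular hM
  obtain ⟨a, b, hb, rfl⟩ := hz
  have hb0 := coe_ne_zero_of_not_mem hb
  by_contra hne
  have ha0 : (a : ℂ) ≠ 0 := fun h0 => hne (by rw [h0, zero_div])
  have ha : ∀ k : ℕ, MemLocalRing M ((a : ℂ) / (p : ℂ) ^ k) := by
    intro k
    have : (a : ℂ) / (p : ℂ) ^ k = ((a : ℂ) / (b : ℂ)) / (p : ℂ) ^ k * (b : ℂ) := by
      field_simp
    rw [this]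
    exact memLocalRing_mul (h k) (coe_mem_localRing b)
  -- the constant term of the minimal polynomial
  have hint : IsIntegral ℤ (a : ℂ) := a.2
  set f := minpoly ℤ (a : ℂ) with hf
  have hc0 : f.coeff 0 ≠ 0 := by
    have h1 := minpoly.coeff_zero_ne_zero (A := ℚ) hint.tower_top ha0
    rw [minpoly.isIntegrallyClosed_eq_field_fractions' ℚ hint, Polynomial.coeff_map] at h1
    intro h0
    apply h1
    rw [← hf, h0]
    simp
  have hev : Polynomial.aeval (a : ℂ) f = 0 := minpoly.aeval ℤ (a : ℂ)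
  have hdec : Polynomial.aeval (a : ℂ) f.divX * (a : ℂ) + (f.coeff 0 : ℂ) = 0 := by
    rw [← hev]
    conv_rhs => rw [← Polynomial.divX_mul_X_add f]
    simp
  have hh : (Polynomial.aeval (a : ℂ) f.divX) ∈ localRing M := by
    rw [← Polynomial.aeval_subalgebra_coe]
    exact coe_mem_localRing _
  have hc : ∀ k : ℕ, MemLocalRing M ((f.coeff 0 : ℂ) / (p : ℂ) ^ k) := by
    intro k
    have : (f.coeff 0 : ℂ) / (p : ℂ) ^ k =
        -(Polynomial.aeval (a : ℂ) f.divX) * ((a : ℂ) / (p : ℂ) ^ k) := by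
      have : (f.coeff 0 : ℂ) = -(Polynomial.aeval (a : ℂ) f.divX * (a : ℂ)) := by
        linear_combination hdec
      rw [this]
      ring
    rw [this]
    exact memLocalRing_mul (memLocalRing_neg hh) (ha k)
  have hdvd : ∀ k : ℕ, (p : ℤ) ^ k ∣ f.coeff 0 := fun k =>
    pow_dvd_of_intCast_div_mem hM k _ (hc k)
  apply hc0
  apply Int.eq_zero_of_abs_lt_dvd (hdvd (f.coeff 0).natAbs)
  have h1 : (f.coeff 0).natAbs < p ^ (f.coeff 0).natAbs := Nat.lt_pow_self hp.one_lt
  rw [Int.abs_eq_natAbs]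
  exact_mod_cast h1

/-- If `a ≡ 1` modulo the local ideal, then `a ^ p ^ N ≡ 1` modulo `p ^ m` for all large `N`. -/
theorem exists_pow_sub_one_div (hM : IsPModular p M) {a : ℂ} (ha : MemLocalRing M a)
    (h1 : MemLocalIdeal M (a - 1)) (m : ℕ) :
    ∃ N₀ : ℕ, ∀ N : ℕ, N₀ ≤ N → MemLocalRing M ((a ^ p ^ N - 1) / (p : ℂ) ^ m) := by
  haveI hP := isPrime_of_isPModular hM
  have hp := prime_of_isPModular hM
  obtain ⟨j, hj, hju⟩ := exists_pow_div_mem hM h1
  refine ⟨j + m, ?_⟩
  intro N hN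
  obtain ⟨k, rfl⟩ : ∃ k, N = j + k := ⟨N - j, by omega⟩
  have hk : m ≤ k := by omega
  let u : localRing M := ⟨a - 1, memLocalRing_of_memLocalIdeal h1⟩
  let a' : localRing M := ⟨a, ha⟩
  have hua : a' = u + 1 := by
    apply Subtype.ext
    simp [u, a']
  -- `p ∣ u ^ j`
  have hpu : (p : localRing M) ∣ u ^ j := by
    have := (pow_dvd_iff (M := M) hp.ne_zero 1 (u ^ j)).2 (by simpa [u] using hju)
    simpa using this
  -- `p ∣ a ^ p ^ j - 1`
  have hstep1 : (p : localRing M) ∣ a' ^ p ^ j - 1 := by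
    obtain ⟨r, hr⟩ := exists_add_pow_prime_pow_eq hp u 1 j
    rw [hua, hr]
    have hle : j ≤ p ^ j := (Nat.lt_pow_self hp.one_lt).le
    have : u ^ p ^ j = u ^ j * u ^ (p ^ j - j) := by
      rw [← pow_add, Nat.add_sub_cancel' hle]
    rw [this, one_pow]
    obtain ⟨y, hy⟩ := hpu
    refine ⟨y * u ^ (p ^ j - j) + u * r, ?_⟩
    rw [hy]
    ring
  have hstep2 := dvd_sub_pow_of_dvd_sub (b := (1 : localRing M)) hstep1 k
  rw [one_pow, ← pow_mul, ← pow_add] at hstep2
  have hstep3 : (p : localRing M) ^ m ∣ a' ^ p ^ (j + k) - 1 :=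
    (pow_dvd_pow _ (by omega)).trans hstep2
  have := (pow_dvd_iff (M := M) hp.ne_zero m _).1 hstep3
  simpa [a'] using this

/-- If `a` lies in the local ideal, then `a ^ p ^ N ≡ 0` modulo `p ^ m` for all large `N`. -/
theorem exists_pow_div (hM : IsPModular p M) {a : ℂ} (ha : MemLocalIdeal M a) (m : ℕ) :
    ∃ N₀ : ℕ, ∀ N : ℕ, N₀ ≤ N → MemLocalRing M (a ^ p ^ N / (p : ℂ) ^ m) := by
  haveI hP := isPrime_of_isPModular hM
  have hp := prime_of_isPModular hM
  have hp0 : (p : ℂ) ≠ 0 := Nat.cast_ne_zero.2 hp.ne_zero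
  obtain ⟨j, hj, hju⟩ := exists_pow_div_mem hM ha
  refine ⟨j * m, ?_⟩
  intro N hN
  have hle : j * m ≤ p ^ N := hN.trans (Nat.lt_pow_self hp.one_lt).le
  have : a ^ p ^ N / (p : ℂ) ^ m = a ^ (p ^ N - j * m) * (a ^ j / (p : ℂ)) ^ m := by
    rw [div_pow, ← pow_mul, mul_div_assoc', ← pow_add, Nat.sub_add_cancel hle]
  rw [this]
  exact memLocalRing_mul (memLocalRing_pow (memLocalRing_of_memLocalIdeal ha) _) (memLocalRing_pow hju m)

end Modular

end Cfsg.Agent.Lib.H23
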