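import Mathlib
import Cfsg.Prelude.Def_Blocks
import Cfsg.Agent.Lib.H23.BlockLocal
import Cfsg.Agent.Lib.H23.BlockAlgebra

/-!
# Osima's theorem: block idempotents have local-integer coefficients (helper23)

* `intCoeff M`: the subring of `ℂ[G]` of elements with coefficients in the local ring at `M`;
* `eq_sum_classSum`: central elements are combinations of class sums;
* `omega_sub_memLocalIdeal`: `ω_χ(z) ≡ ω_ψ(z)` for `χ, ψ` in the same block and `z` central with
  local-integer coefficients;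
* `sameBlock_refl/symm/trans`;
* `exists_approx_idempotent`: for a block `B` and `m`, a central `z` with local-integer
  coefficients, `ω_χ(z) ≡ 1 (mod p ^ m)` for `χ ∈ B` and `ω_χ(z) = 0` for `χ ∉ B`;
* `memLocalRing_blockCoeff`: Osima's theorem.
-/

set_option autoImplicit false

namespace Cfsg.Agent.Lib.H23

open Cfsg MonoidAlgebra
open scoped ComplexConjugate

section IntCoeff

variable {G : Type*} [Group G] [Fintype G] (M : Ideal AlgInt) [hP : M.IsPrime]

/-- Elements of the complex group algebra with coefficients in the local ring at `M`. -/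
def intCoeff : Subring (MonoidAlgebra ℂ G) where
  carrier := {z | ∀ g, MemLocalRing M (z.coeff g)}
  mul_mem' := by
    intro z w hz hw g
    rw [coeff_mul_eq_sum]
    exact memLocalRing_sum _ _ (fun h _ => memLocalRing_mul (hz h) (hw _))
  one_mem' := by
    classical
    intro g
    rw [MonoidAlgebra.one_def, MonoidAlgebra.coeff_single, Finsupp.single_apply]
    split_ifs
    · exact memLocalRing_one hP.ne_top
    · exact memLocalRing_zero hP.ne_top
  add_mem' := by
    intro z w hz hw g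
    rw [MonoidAlgebra.coeff_add, Finsupp.coe_add, Pi.add_apply]
    exact memLocalRing_add (hz g) (hw g)
  zero_mem' := by
    intro g
    exact memLocalRing_zero hP.ne_top
  neg_mem' := by
    intro z hz g
    rw [MonoidAlgebra.coeff_neg, Finsupp.coe_neg, Pi.neg_apply]
    exact memLocalRing_neg (hz g)

variable {M}

theorem mem_intCoeff {z : MonoidAlgebra ℂ G} :
    z ∈ intCoeff (G := G) M ↔ ∀ g, MemLocalRing M (z.coeff g) := Iff.rfl

theorem smul_mem_intCoeff {c : ℂ} (hc : MemLocalRing M c) {z : MonoidAlgebra ℂ G}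
    (hz : z ∈ intCoeff (G := G) M) : c • z ∈ intCoeff (G := G) M := by
  intro g
  rw [MonoidAlgebra.coeff_smul, Finsupp.coe_smul, Pi.smul_apply, smul_eq_mul]
  exact memLocalRing_mul hc (hz g)

theorem classSum_mem_intCoeff (g : G) : classSum g ∈ intCoeff (G := G) M := by
  classical
  intro h
  rw [coeff_classSum]
  split_ifs
  · exact memLocalRing_one hP.ne_top
  · exact memLocalRing_zero hP.ne_top

theorem ofFun_mem_intCoeff {f : G → ℂ} (hf : ∀ g, MemLocalRing M (f g)) :
    ofFun f ∈ intCoeff (G := G) M := hf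

end IntCoeff

section ClassSums

variable {G : Type*} [Group G] [Fintype G]

/-- A representative of a conjugacy class. -/
noncomputable def classRep (c : ConjClasses G) : G := Classical.choose (ConjClasses.exists_rep c)

theorem mk_classRep (c : ConjClasses G) : ConjClasses.mk (classRep c) = c :=
  Classical.choose_spec (ConjClasses.exists_rep c)

/-- A central element is the combination of the class sums with its coefficients. -/
theorem eq_sum_classSum [Fintype (ConjClasses G)] {z : MonoidAlgebra ℂ G}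
    (hz : z ∈ Subalgebra.center ℂ (MonoidAlgebra ℂ G)) :
    z = ∑ c : ConjClasses G, z.coeff (classRep c) • classSum (classRep c) := by
  classical
  apply MonoidAlgebra.ext
  ext h
  rw [MonoidAlgebra.coeff_sum, Finsupp.finsetSum_apply]
  simp only [MonoidAlgebra.coeff_smul, Finsupp.coe_smul, Pi.smul_apply, smul_eq_mul,
    coeff_classSum, mul_ite, mul_one, mul_zero]
  rw [Finset.sum_eq_single (ConjClasses.mk h)]
  · have hc : IsConj (classRep (ConjClasses.mk h)) h := by
      rw [← ConjClasses.mk_eq_mk_iff_isConj, mk_classRep]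
    rw [if_pos hc, coeff_eq_of_isConj hz hc]
  · intro c _ hne
    rw [if_neg]
    intro hc
    apply hne
    rw [← ConjClasses.mk_eq_mk_iff_isConj, mk_classRep] at hc
    exact hc
  · intro h0
    exact absurd (Finset.mem_univ _) h0

theorem omega_eq_sum_centralChar [Fintype (ConjClasses G)] {χ : G → ℂ}
    (hχ : IsClassFunction G χ) {z : MonoidAlgebra ℂ G}
    (hz : z ∈ Subalgebra.center ℂ (MonoidAlgebra ℂ G)) :
    omega χ z = ∑ c : ConjClasses G, z.coeff (classRep c) * centralChar χ (classRep c) := by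
  conv_lhs => rw [eq_sum_classSum hz]
  rw [omega_sum]
  refine Finset.sum_congr rfl (fun c _ => ?_)
  rw [omega_smul, omega_classSum hχ]

end ClassSums

section SameBlock

variable {G : Type*} [Group G] {M : Ideal AlgInt} [hP : M.IsPrime]

theorem sameBlock_refl (χ : G → ℂ) : SameBlock M χ χ := by
  intro g
  rw [sub_self]
  exact memLocalIdeal_zero hP.ne_top

theorem sameBlock_symm {χ ψ : G → ℂ} (h : SameBlock M χ ψ) : SameBlock M ψ χ := by
  intro g
  have := memLocalIdeal_neg (h g)
  rwa [neg_sub] at this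

theorem sameBlock_trans {χ ψ φ : G → ℂ} (h1 : SameBlock M χ ψ) (h2 : SameBlock M ψ φ) :
    SameBlock M χ φ := by
  intro g
  have := memLocalIdeal_add (h1 g) (h2 g)
  rwa [sub_add_sub_cancel] at this

end SameBlock

section Omega

variable {G : Type*} [Group G] [Fintype G] {M : Ideal AlgInt} [hP : M.IsPrime]

/-- The central character of an irreducible character, as an algebraic integer. -/
noncomputable def omegaInt (χ : IrrCharacter G) (g : G) : AlgInt :=
  ⟨centralChar (χ : G → ℂ) g, isIntegral_centralChar _ χ.2 g⟩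

@[simp] theorem coe_omegaInt (χ : IrrCharacter G) (g : G) :
    (omegaInt χ g : ℂ) = centralChar (χ : G → ℂ) g := rfl

theorem sameBlock_iff_omegaInt (χ ψ : IrrCharacter G) :
    SameBlock M (χ : G → ℂ) (ψ : G → ℂ) ↔ ∀ g, omegaInt χ g - omegaInt ψ g ∈ M := by
  constructor
  · intro h g
    rw [← memLocalIdeal_coe_iff]
    push_cast
    exact h g
  · intro h g
    have := (memLocalIdeal_coe_iff (M := M) _).2 (h g)
    push_cast at this
    exact this

/-- `ω_χ(z)` is a local integer when `z` is central with local-integer coefficients. -/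
theorem omega_memLocalRing (χ : IrrCharacter G) {z : MonoidAlgebra ℂ G}
    (hz : z ∈ Subalgebra.center ℂ (MonoidAlgebra ℂ G)) (hz' : z ∈ intCoeff (G := G) M) :
    MemLocalRing M (omega (χ : G → ℂ) z) := by
  classical
  haveI := Fintype.ofFinite (ConjClasses G)
  rw [omega_eq_sum_centralChar (Cfsg.Agent.Lib.H24.irr_isClassFunction χ) hz]
  refine memLocalRing_sum _ _ (fun c _ => memLocalRing_mul (hz' _) ?_)
  exact coe_mem_localRing (omegaInt χ _)

/-- Characters in the same block have congruent central characters on central elements with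
local-integer coefficients. -/
theorem omega_sub_memLocalIdeal {χ ψ : IrrCharacter G}
    (h : SameBlock M (χ : G → ℂ) (ψ : G → ℂ)) {z : MonoidAlgebra ℂ G}
    (hz : z ∈ Subalgebra.center ℂ (MonoidAlgebra ℂ G)) (hz' : z ∈ intCoeff (G := G) M) :
    MemLocalIdeal M (omega (χ : G → ℂ) z - omega (ψ : G → ℂ) z) := by
  classical
  haveI := Fintype.ofFinite (ConjClasses G)
  rw [omega_eq_sum_centralChar (Cfsg.Agent.Lib.H24.irr_isClassFunction χ) hz,
    omega_eq_sum_centralChar (Cfsg.Agent.Lib.H24.irr_isClassFunction ψ) hz,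
    ← Finset.sum_sub_distrib]
  refine memLocalIdeal_sum _ _ (fun c _ => ?_)
  rw [← mul_sub]
  exact memLocalIdeal_mul_left (hz' _) (h _)

end Omega

section Osima

variable {G : Type*} [Group G] [Fintype G] {p : ℕ} {M : Ideal AlgInt}

theorem prod_sub_prod_mem {R : Type*} [CommRing R] (I : Ideal R) {ι : Type*}
    (s : Finset ι) (a b : ι → R) (h : ∀ i ∈ s, a i - b i ∈ I) :
    ∏ i ∈ s, a i - ∏ i ∈ s, b i ∈ I := by
  rw [← Ideal.Quotient.eq, map_prod, map_prod]
  exact Finset.prod_congr rfl (fun i hi => Ideal.Quotient.eq.2 (h i hi))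

/-- The class sum as an element of the centre. -/
noncomputable def classSumC (g : G) : Subalgebra.center ℂ (MonoidAlgebra ℂ G) :=
  ⟨classSum g, classSum_mem_center g⟩

/-- Central elements with local-integer coefficients, as a subring of the centre. -/
noncomputable def centerInt (M : Ideal AlgInt) [M.IsPrime] :
    Subring (Subalgebra.center ℂ (MonoidAlgebra ℂ G)) :=
  (intCoeff (G := G) M).comap (Subalgebra.center ℂ (MonoidAlgebra ℂ G)).val.toRingHom

theorem mem_centerInt [M.IsPrime] {z : Subalgebra.center ℂ (MonoidAlgebra ℂ G)} :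
    z ∈ centerInt (G := G) M ↔ (z : MonoidAlgebra ℂ G) ∈ intCoeff (G := G) M := Iff.rfl

theorem algebraMap_mem_centerInt [M.IsPrime] {c : ℂ} (hc : MemLocalRing M c) :
    algebraMap ℂ (Subalgebra.center ℂ (MonoidAlgebra ℂ G)) c ∈ centerInt (G := G) M := by
  rw [mem_centerInt]
  have : ((algebraMap ℂ (Subalgebra.center ℂ (MonoidAlgebra ℂ G)) c :
      Subalgebra.center ℂ (MonoidAlgebra ℂ G)) : MonoidAlgebra ℂ G) =
      c • (1 : MonoidAlgebra ℂ G) := by
    rw [Algebra.algebraMap_eq_smul_one]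
    rfl
  rw [this]
  exact smul_mem_intCoeff hc (Subring.one_mem _)

/-- A central element with algebraic-integer-like coefficients separating a block from the other
irreducible characters modulo the local ideal. -/
theorem exists_sep_element (hM : IsPModular p M) (χ₀ : IrrCharacter G) :
    ∃ z : MonoidAlgebra ℂ G, z ∈ Subalgebra.center ℂ (MonoidAlgebra ℂ G) ∧
      (∀ g, MemLocalRing M (z.coeff g)) ∧
      (∀ χ : IrrCharacter G, SameBlock M (χ₀ : G → ℂ) (χ : G → ℂ) →
        MemLocalIdeal M (omega (χ : G → ℂ) z - 1)) ∧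
      (∀ χ : IrrCharacter G, ¬ SameBlock M (χ₀ : G → ℂ) (χ : G → ℂ) →
        omega (χ : G → ℂ) z = 0) := by
  classical
  haveI := Fintype.ofFinite (IrrCharacter G)
  haveI hP := isPrime_of_isPModular hM
  have hsep : ∀ ψ : IrrCharacter G, ∃ g : G, ¬ SameBlock M (χ₀ : G → ℂ) (ψ : G → ℂ) →
      omegaInt χ₀ g - omegaInt ψ g ∉ M := by
    intro ψ
    by_cases h : SameBlock M (χ₀ : G → ℂ) (ψ : G → ℂ)
    · exact ⟨1, fun h' => absurd h h'⟩
    · have h2 := h
      rw [sameBlock_iff_omegaInt] at h2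
      obtain ⟨g, hg⟩ := not_forall.1 h2
      exact ⟨g, fun _ => hg⟩
  choose gs hgs using hsep
  set T : Finset (IrrCharacter G) :=
    Finset.univ.filter (fun ψ => ¬ SameBlock M (χ₀ : G → ℂ) (ψ : G → ℂ)) with hT
  set w : Subalgebra.center ℂ (MonoidAlgebra ℂ G) :=
    ∏ ψ ∈ T, (classSumC (gs ψ) -
      algebraMap ℂ (Subalgebra.center ℂ (MonoidAlgebra ℂ G)) (omegaInt ψ (gs ψ) : ℂ)) with hw
  set π₀ : AlgInt := ∏ ψ ∈ T, (omegaInt χ₀ (gs ψ) - omegaInt ψ (gs ψ)) with hπ₀
  have hπ₀M : π₀ ∉ M := by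
    rw [hπ₀, Ideal.IsPrime.prod_mem_iff]
    rintro ⟨ψ, hψ, hmem⟩
    exact hgs ψ (Finset.mem_filter.1 hψ).2 hmem
  obtain ⟨d, i, hi, hd⟩ := hM.2.1.exists_inv hπ₀M
  have hwint : w ∈ centerInt (G := G) M := by
    refine Subring.prod_mem _ (fun ψ _ => Subring.sub_mem _ ?_ ?_)
    · exact classSum_mem_intCoeff _
    · exact algebraMap_mem_centerInt (coe_mem_localRing _)
  have hωw : ∀ χ : IrrCharacter G, omega (χ : G → ℂ) (w : MonoidAlgebra ℂ G) =
      ∏ ψ ∈ T, (centralChar (χ : G → ℂ) (gs ψ) - (omegaInt ψ (gs ψ) : ℂ)) := by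
    intro χ
    rw [← omegaHom_apply (χ : G → ℂ) χ.2 w, hw, map_prod]
    refine Finset.prod_congr rfl (fun ψ _ => ?_)
    rw [map_sub, AlgHom.commutes, omegaHom_apply]
    congr 1
    exact omega_classSum (Cfsg.Agent.Lib.H24.irr_isClassFunction χ) _
  refine ⟨(d : ℂ) • (w : MonoidAlgebra ℂ G), Subalgebra.smul_mem _ w.2 _,
    smul_mem_intCoeff (coe_mem_localRing d) hwint, ?_, ?_⟩
  · intro χ hχ
    rw [omega_smul, hωw]
    have hmem : d * ∏ ψ ∈ T, (omegaInt χ (gs ψ) - omegaInt ψ (gs ψ)) - 1 ∈ M := by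
      have h1 : ∏ ψ ∈ T, (omegaInt χ (gs ψ) - omegaInt ψ (gs ψ)) - π₀ ∈ M := by
        refine prod_sub_prod_mem M T _ _ (fun ψ _ => ?_)
        have := (sameBlock_iff_omegaInt (M := M) χ₀ χ).1 hχ (gs ψ)
        have h2 := M.neg_mem this
        rw [neg_sub] at h2
        convert h2 using 1
        ring
      have h2 : d * ∏ ψ ∈ T, (omegaInt χ (gs ψ) - omegaInt ψ (gs ψ)) - 1 =
          d * (∏ ψ ∈ T, (omegaInt χ (gs ψ) - omegaInt ψ (gs ψ)) - π₀) - i := by
        rw [← hd]; ring
      rw [h2]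
      exact M.sub_mem (M.mul_mem_left _ h1) hi
    have := (memLocalIdeal_coe_iff (M := M) _).2 hmem
    push_cast at this
    exact this
  · intro χ hχ
    rw [omega_smul, hωw]
    have : ∏ ψ ∈ T, (centralChar (χ : G → ℂ) (gs ψ) - (omegaInt ψ (gs ψ) : ℂ)) = 0 := by
      refine Finset.prod_eq_zero (i := χ) (Finset.mem_filter.2 ⟨Finset.mem_univ _, hχ⟩) ?_
      rw [coe_omegaInt, sub_self]
    rw [this, mul_zero]

/-- For a block and any `m`, a central element with local-integer coefficients whose central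
character values are `≡ 1 (mod p ^ m)` on the block and `0` off the block. -/
theorem exists_approx_idempotent (hM : IsPModular p M) (χ₀ : IrrCharacter G) (m : ℕ) :
    ∃ z : MonoidAlgebra ℂ G, z ∈ Subalgebra.center ℂ (MonoidAlgebra ℂ G) ∧
      (∀ g, MemLocalRing M (z.coeff g)) ∧
      (∀ χ : IrrCharacter G, SameBlock M (χ₀ : G → ℂ) (χ : G → ℂ) →
        MemLocalRing M ((omega (χ : G → ℂ) z - 1) / (p : ℂ) ^ m)) ∧
      (∀ χ : IrrCharacter G, ¬ SameBlock M (χ₀ : G → ℂ) (χ : G → ℂ) →
        omega (χ : G → ℂ) z = 0) := by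
  classical
  haveI := Fintype.ofFinite (IrrCharacter G)
  haveI hP := isPrime_of_isPModular hM
  have hp := prime_of_isPModular hM
  obtain ⟨z₀, hz₀, hz₀', h1, h0⟩ := exists_sep_element hM χ₀
  have hN : ∀ χ : IrrCharacter G, ∃ N₀ : ℕ, SameBlock M (χ₀ : G → ℂ) (χ : G → ℂ) →
      ∀ N : ℕ, N₀ ≤ N →
        MemLocalRing M ((omega (χ : G → ℂ) z₀ ^ p ^ N - 1) / (p : ℂ) ^ m) := by
    intro χ
    by_cases h : SameBlock M (χ₀ : G → ℂ) (χ : G → ℂ)
    · obtain ⟨N₀, hN₀⟩ := exists_pow_sub_one_div hM (omega_memLocalRing χ hz₀ hz₀') (h1 χ h) m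
      exact ⟨N₀, fun _ => hN₀⟩
    · exact ⟨0, fun h' => absurd h' h⟩
  choose N₀ hN₀ using hN
  set N := Finset.univ.sup N₀ with hNdef
  have hz₀'' : z₀ ∈ intCoeff (G := G) M := hz₀'
  refine ⟨z₀ ^ p ^ N, Subalgebra.pow_mem _ hz₀ _, Subring.pow_mem _ hz₀'' _, ?_, ?_⟩
  · intro χ hχ
    rw [omega_pow χ.2 hz₀]
    exact hN₀ χ hχ N (Finset.le_sup (Finset.mem_univ χ))
  · intro χ hχ
    rw [omega_pow χ.2 hz₀, h0 χ hχ, zero_pow (pow_ne_zero _ hp.ne_zero)]

theorem finsum_mem_eq_sum_ite {ι : Type*} [Fintype ι] (B : Set ι) [DecidablePred (· ∈ B)]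
    (f : ι → ℂ) : ∑ᶠ i ∈ B, f i = ∑ i, if i ∈ B then f i else 0 := by
  rw [finsum_mem_eq_finite_toFinset_sum _ (Set.toFinite B), ← Finset.sum_filter]
  congr 1
  ext i
  simp

theorem blockCoeff_eq_sum [Fintype (IrrCharacter G)] (B : Set (IrrCharacter G))
    [DecidablePred (· ∈ B)] (g : G) :
    blockCoeff B g = (Nat.card G : ℂ)⁻¹ *
      ∑ χ : IrrCharacter G, if χ ∈ B then (χ : G → ℂ) 1 * conj ((χ : G → ℂ) g) else 0 := by
  rw [blockCoeff, finsum_mem_eq_sum_ite]

/-- **Osima's theorem**: the coefficients of a block idempotent are local integers. -/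
theorem memLocalRing_blockCoeff (hM : IsPModular p M) (χ₀ : IrrCharacter G) (g : G) :
    MemLocalRing M (blockCoeff (blockOf M (χ₀ : G → ℂ)) g) := by
  classical
  haveI := Fintype.ofFinite (IrrCharacter G)
  haveI hP := isPrime_of_isPModular hM
  have hp := prime_of_isPModular hM
  have hG0 : Nat.card G ≠ 0 := Nat.card_pos.ne'
  obtain ⟨a, n', hn', hcard⟩ := Nat.exists_eq_pow_mul_and_not_dvd hG0 p hp.ne_one
  obtain ⟨z, hz, hz', h1, h0⟩ := exists_approx_idempotent hM χ₀ a
  rw [blockCoeff_eq_sum]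
  have hinv := coeff_eq_sum_omega hz g
  -- the difference
  have hdiff : (Nat.card G : ℂ)⁻¹ * ∑ χ : IrrCharacter G,
      (if χ ∈ blockOf M (χ₀ : G → ℂ) then (χ : G → ℂ) 1 * conj ((χ : G → ℂ) g) else 0) =
      z.coeff g - ∑ χ : IrrCharacter G, (n' : ℂ)⁻¹ *
        (((omega (χ : G → ℂ) z - if χ ∈ blockOf M (χ₀ : G → ℂ) then 1 else 0) / (p : ℂ) ^ a) *
          ((χ : G → ℂ) 1 * conj ((χ : G → ℂ) g))) := by
    rw [hinv, Finset.mul_sum, Finset.mul_sum, ← Finset.sum_sub_distrib]
    refine Finset.sum_congr rfl (fun χ _ => ?_)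
    have hc : (Nat.card G : ℂ) = (p : ℂ) ^ a * (n' : ℂ) := by
      rw [hcard]; push_cast; ring
    have hp0 : (p : ℂ) ^ a ≠ 0 := pow_ne_zero _ (Nat.cast_ne_zero.2 hp.ne_zero)
    have hn0 : (n' : ℂ) ≠ 0 := by
      intro h
      have : n' = 0 := by exact_mod_cast h
      exact hn' (this ▸ dvd_zero p)
    rw [hc]
    split_ifs <;> field_simp <;> ring
  rw [hdiff]
  refine memLocalRing_sub (hz' g) (memLocalRing_sum _ _ (fun χ _ => ?_))
  refine memLocalRing_mul (memLocalRing_inv_natCast hM hn') (memLocalRing_mul ?_ ?_)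
  · by_cases hχ : χ ∈ blockOf M (χ₀ : G → ℂ)
    · rw [if_pos hχ]
      exact h1 χ hχ
    · rw [if_neg hχ, h0 χ hχ, sub_zero, zero_div]
      exact memLocalRing_zero hP.ne_top
  · obtain ⟨n, -, hn⟩ := Cfsg.Agent.Lib.H24.irr_one_eq χ
    rw [hn]
    refine memLocalRing_mul (natCast_mem_localRing n) ?_
    have hint : IsIntegral ℤ ((χ : G → ℂ) g) :=
      Cfsg.Agent.Lib.L0.isCharacter_isIntegral (Cfsg.Agent.Lib.L0.isCharacter_of_irr χ.2) g
    have hint' : IsIntegral ℤ (conj ((χ : G → ℂ) g)) := by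
      have := hint.map (Complex.conjAe.toAlgHom.restrictScalars ℤ)
      simpa using this
    exact isIntegral_mem_localRing hint'

end Osima

end Cfsg.Agent.Lib.H23
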