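import Mathlib
import Cfsg.Prelude.Def_Blocks
import Cfsg.Agent.Lib.H23.BlockOsima

/-!
# Block idempotents (helper23)

* `blockIdem B`: the sum of the central idempotents of the members of `B`, as an element of the
  complex group algebra (its coefficients are `Cfsg.blockCoeff B`);
* `omega_blockIdem`: `ω_ψ(f_B) = 1` or `0` according to `ψ ∈ B` or not;
* `blockIdem_mul_self`: `f_B` is idempotent; `blockIdem_mul_of_disjoint`;
* `subset_of_memLocalRing_blockCoeff`: a set of irreducible characters whose idempotent has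
  local-integer coefficients is a union of blocks;
* `exists_isDefectClass`: every block has a defect class.
-/

set_option autoImplicit false

namespace Cfsg.Agent.Lib.H23

open Cfsg MonoidAlgebra
open scoped ComplexConjugate

section Idem

variable {G : Type*} [Group G] [Fintype G]

/-- The block idempotent `f_B = ∑_{χ ∈ B} e_χ`. -/
noncomputable def blockIdem (B : Set (IrrCharacter G)) : MonoidAlgebra ℂ G :=
  ofFun (blockCoeff B)

@[simp] theorem coeff_blockIdem (B : Set (IrrCharacter G)) (g : G) :
    (blockIdem B).coeff g = blockCoeff B g := rfl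

theorem blockCoeff_conj (B : Set (IrrCharacter G)) (g h : G) :
    blockCoeff B (h * g * h⁻¹) = blockCoeff B g := by
  unfold blockCoeff
  congr 1
  refine finsum_congr (fun χ => ?_)
  refine finsum_congr (fun _ => ?_)
  rw [Cfsg.Agent.Lib.H24.irr_conj]

theorem blockIdem_mem_center (B : Set (IrrCharacter G)) :
    blockIdem B ∈ Subalgebra.center ℂ (MonoidAlgebra ℂ G) :=
  mem_center_of_classFunction (fun g h => blockCoeff_conj B g h)

theorem omega_blockIdem (B : Set (IrrCharacter G)) [DecidablePred (· ∈ B)]
    (ψ : IrrCharacter G) :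
    omega (ψ : G → ℂ) (blockIdem B) = if ψ ∈ B then 1 else 0 := by
  classical
  haveI := Fintype.ofFinite (IrrCharacter G)
  have hψ1 := Cfsg.Agent.Lib.H24.irr_one_ne_zero ψ
  rw [omega, blockIdem, charEval_ofFun]
  have h1 : ∑ g : G, blockCoeff B g * (ψ : G → ℂ) g =
      ∑ χ : IrrCharacter G, if χ ∈ B then (χ : G → ℂ) 1 *
        classInner (ψ : G → ℂ) (χ : G → ℂ) else 0 := by
    simp only [blockCoeff_eq_sum, Finset.mul_sum, Finset.sum_mul]
    rw [Finset.sum_comm]
    refine Finset.sum_congr rfl (fun χ _ => ?_)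
    split_ifs with h
    · rw [classInner, Finset.mul_sum, Finset.mul_sum]
      refine Finset.sum_congr rfl (fun g _ => ?_)
      ring
    · simp
  rw [h1]
  simp only [Cfsg.Agent.Lib.H24.irr_orthonormal]
  have h2 : ∀ χ : IrrCharacter G, (if χ ∈ B then (χ : G → ℂ) 1 *
      (if ψ = χ then (1 : ℂ) else 0) else 0) =
      if χ = ψ then (if ψ ∈ B then (ψ : G → ℂ) 1 else 0) else 0 := by
    intro χ
    by_cases hχψ : χ = ψ
    · subst hχψ
      simp
    · have : ¬ ψ = χ := fun h => hχψ h.symm
      simp [hχψ, this]
  simp only [h2]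
  rw [Finset.sum_ite_eq' Finset.univ ψ, if_pos (Finset.mem_univ _)]
  split_ifs
  · exact div_self hψ1
  · exact zero_div _

theorem blockIdem_mul_self (B : Set (IrrCharacter G)) :
    blockIdem B * blockIdem B = blockIdem B := by
  classical
  refine eq_of_forall_omega_eq
    (Subalgebra.mul_mem _ (blockIdem_mem_center B) (blockIdem_mem_center B))
    (blockIdem_mem_center B) (fun χ => ?_)
  rw [omega_mul χ.2 (blockIdem_mem_center B), omega_blockIdem]
  split_ifs <;> simp

theorem blockIdem_mul_of_disjoint (B B' : Set (IrrCharacter G)) (h : Disjoint B B') :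
    blockIdem B * blockIdem B' = 0 := by
  classical
  refine eq_of_forall_omega_eq
    (Subalgebra.mul_mem _ (blockIdem_mem_center B) (blockIdem_mem_center B'))
    (Subalgebra.zero_mem _) (fun χ => ?_)
  rw [omega_mul χ.2 (blockIdem_mem_center B), omega_blockIdem, omega_blockIdem]
  have h0 : omega (χ : G → ℂ) (0 : MonoidAlgebra ℂ G) = 0 := by simp [omega, charEval_zero]
  rw [h0]
  by_cases h1 : χ ∈ B
  · have h2 : χ ∉ B' := fun h2 => (Set.disjoint_left.1 h) h1 h2
    simp [h2]
  · simp [h1]

/-- `χ(f_B w) = χ(w)` or `0` according to `χ ∈ B` or not. -/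
theorem charEval_blockIdem_mul (B : Set (IrrCharacter G)) [DecidablePred (· ∈ B)]
    (χ : IrrCharacter G) (w : MonoidAlgebra ℂ G) :
    charEval (χ : G → ℂ) (blockIdem B * w) = if χ ∈ B then charEval (χ : G → ℂ) w else 0 := by
  rw [charEval_mul_of_mem_center χ.2 (blockIdem_mem_center B)]
  have := omega_blockIdem B χ
  rw [omega] at this
  rw [this]
  split_ifs <;> simp

end Idem

section Blocks

variable {G : Type*} [Group G] [Fintype G] {p : ℕ} {M : Ideal AlgInt}

theorem mem_blockOf_self [M.IsPrime] (χ : IrrCharacter G) : χ ∈ blockOf M (χ : G → ℂ) :=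
  sameBlock_refl _

theorem blockIdem_memLocalRing (hM : IsPModular p M) (χ₀ : IrrCharacter G) (g : G) :
    MemLocalRing M ((blockIdem (blockOf M (χ₀ : G → ℂ))).coeff g) :=
  memLocalRing_blockCoeff hM χ₀ g

/-- A set of irreducible characters whose idempotent has local-integer coefficients is a union
of blocks. -/
theorem subset_of_memLocalRing_blockCoeff [hP : M.IsPrime] (A : Set (IrrCharacter G))
    (hA : ∀ g : G, MemLocalRing M (blockCoeff A g)) {χ : IrrCharacter G} (hχ : χ ∈ A) :
    blockOf M (χ : G → ℂ) ⊆ A := by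
  classical
  intro ψ hψ
  have h1 := omega_sub_memLocalIdeal (M := M) hψ (blockIdem_mem_center A)
    (show blockIdem A ∈ intCoeff (G := G) M from hA)
  rw [omega_blockIdem, omega_blockIdem, if_pos hχ] at h1
  by_contra hψA
  rw [if_neg hψA, sub_zero] at h1
  exact not_memLocalIdeal_one h1

/-- Every block has a defect class. -/
theorem exists_isDefectClass (hM : IsPModular p M) (χ₀ : IrrCharacter G) :
    ∃ g : G, IsDefectClass M (blockOf M (χ₀ : G → ℂ)) g := by
  classical
  haveI := Fintype.ofFinite (ConjClasses G)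
  haveI hP := isPrime_of_isPModular hM
  set B := blockOf M (χ₀ : G → ℂ) with hB
  have h1 := omega_blockIdem B χ₀
  rw [if_pos (mem_blockOf_self χ₀),
    omega_eq_sum_centralChar (Cfsg.Agent.Lib.H24.irr_isClassFunction χ₀)
      (blockIdem_mem_center B)] at h1
  -- some term is outside the local ideal
  have hex : ∃ c : ConjClasses G, ¬ MemLocalIdeal M
      ((blockIdem B).coeff (classRep c) * centralChar (χ₀ : G → ℂ) (classRep c)) := by
    by_contra hall
    have hall' : ∀ c : ConjClasses G, MemLocalIdeal M
        ((blockIdem B).coeff (classRep c) * centralChar (χ₀ : G → ℂ) (classRep c)) := by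
      intro c
      by_contra hc
      exact hall ⟨c, hc⟩
    have := memLocalIdeal_sum Finset.univ _ (fun c _ => hall' c)
    rw [h1] at this
    exact not_memLocalIdeal_one this
  obtain ⟨c, hc⟩ := hex
  set g := classRep c with hg
  have hβ : MemLocalRing M (blockCoeff B g) := memLocalRing_blockCoeff hM χ₀ g
  have hω : MemLocalRing M (centralChar (χ₀ : G → ℂ) g) := coe_mem_localRing (omegaInt χ₀ g)
  refine ⟨g, hβ, ?_, ?_⟩
  · intro h
    exact hc (memLocalIdeal_mul_right h hω)
  · intro χ hχ h
    apply hc
    refine memLocalIdeal_mul_left hβ ?_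
    have h2 : SameBlock M (χ₀ : G → ℂ) (χ : G → ℂ) := hχ
    have := memLocalIdeal_add (h2 g) h
    rwa [sub_add_cancel] at this

end Blocks

end Cfsg.Agent.Lib.H23
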