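import Mathlib
import Cfsg.Prelude.Def_Blocks
import Cfsg.Agent.Lib.H23.BlockOsima

/-!
# Words, cyclic rotation and traces of idempotents (helper23)

The coefficient of `g` in `x ^ N` (in the group algebra) is a sum over words of length `N`; the
cyclic group of order `N` acts on words by rotation, preserving weights and the conjugacy class
of the product.  For `N = p ^ n` this gives: if `ε` is an idempotent of the group algebra with
local-integer coefficients, then the sum of its coefficients over a `p`-singular class is `0`.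
-/

set_option autoImplicit false

namespace Cfsg.Agent.Lib.H23

open Cfsg MonoidAlgebra

section Words

variable {G : Type*} [Group G]

/-- The ordered product of a word. -/
def wordProd {N : ℕ} (w : Fin N → G) : G := (List.ofFn w).prod

/-- The weight of a word with respect to a group algebra element. -/
noncomputable def wordWeight (x : MonoidAlgebra ℂ G) {N : ℕ} (w : Fin N → G) : ℂ :=
  ∏ i, x.coeff (w i)

theorem wordProd_cons {N : ℕ} (h : G) (w : Fin N → G) :
    wordProd (Fin.cons h w : Fin (N + 1) → G) = h * wordProd w := by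
  simp [wordProd, List.ofFn_succ]

theorem wordWeight_cons (x : MonoidAlgebra ℂ G) {N : ℕ} (h : G) (w : Fin N → G) :
    wordWeight x (Fin.cons h w : Fin (N + 1) → G) = x.coeff h * wordWeight x w := by
  simp [wordWeight, Fin.prod_univ_succ]

theorem coeff_pow_eq_sum [Fintype G] [DecidableEq G] (x : MonoidAlgebra ℂ G) (N : ℕ) (g : G) :
    (x ^ N).coeff g = ∑ w : Fin N → G, if wordProd w = g then wordWeight x w else 0 := by
  induction N generalizing g with
  | zero =>
    simp [wordProd, wordWeight, MonoidAlgebra.one_def, Finsupp.single_apply]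
  | succ N ih =>
    rw [pow_succ', coeff_mul_eq_sum]
    simp only [ih]
    rw [← (Fin.consEquiv (fun _ : Fin (N + 1) => G)).sum_comp, Fintype.sum_prod_type]
    refine Finset.sum_congr rfl (fun h _ => ?_)
    rw [Finset.mul_sum]
    refine Finset.sum_congr rfl (fun w _ => ?_)
    have h1 : (Fin.consEquiv (fun _ : Fin (N + 1) => G)) (h, w) = Fin.cons h w := rfl
    rw [h1, wordProd_cons, wordWeight_cons]
    by_cases hw : wordProd w = h⁻¹ * g
    · rw [if_pos hw, if_pos (by rw [hw, mul_inv_cancel_left])]
    · rw [if_neg hw, if_neg (fun h2 => hw (by rw [← h2, inv_mul_cancel_left])), mul_zero]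

end Words

section Rotation

variable {G : Type*} [Group G] {N : ℕ} [NeZero N]

/-- Rotation of a word by `j` places. -/
def rot (j : ℕ) (w : Fin N → G) : Fin N → G :=
  fun i => w ⟨(i.val + j) % N, Nat.mod_lt _ (NeZero.pos N)⟩

theorem rot_zero (w : Fin N → G) : rot 0 w = w := by
  ext i
  simp only [rot, add_zero]
  congr 1
  exact Fin.ext (Nat.mod_eq_of_lt i.2)

theorem rot_add (j k : ℕ) (w : Fin N → G) : rot (j + k) w = rot j (rot k w) := by
  ext i
  simp only [rot]
  congr 1
  apply Fin.ext
  simp only
  rw [Nat.mod_add_mod, add_assoc]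

theorem rot_mod (j : ℕ) (w : Fin N → G) : rot (j % N) w = rot j w := by
  ext i
  simp only [rot]
  congr 1
  apply Fin.ext
  simp only
  rw [Nat.add_mod_mod]

theorem rot_self (w : Fin N → G) : rot N w = w := by
  rw [← rot_mod, Nat.mod_self, rot_zero]

/-- The rotation action of the cyclic group of order `N` on words of length `N`. -/
@[reducible] def rotAction : MulAction (Multiplicative (ZMod N)) (Fin N → G) where
  smul γ w := rot (Multiplicative.toAdd γ).val w
  one_smul w := by
    show rot (Multiplicative.toAdd (1 : Multiplicative (ZMod N))).val w = w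
    rw [toAdd_one, ZMod.val_zero, rot_zero]
  mul_smul γ₁ γ₂ w := by
    show rot (Multiplicative.toAdd (γ₁ * γ₂)).val w =
      rot (Multiplicative.toAdd γ₁).val (rot (Multiplicative.toAdd γ₂).val w)
    rw [toAdd_mul, ZMod.val_add, rot_mod, rot_add]

theorem rotAction_smul_def (γ : Multiplicative (ZMod N)) (w : Fin N → G) :
    (rotAction.toSMul.smul γ w : Fin N → G) = rot (Multiplicative.toAdd γ).val w := rfl

theorem wordProd_rot_one (w : Fin N → G) :
    ∃ c : G, wordProd (rot 1 w) = c⁻¹ * wordProd w * c := by
  obtain ⟨N', rfl⟩ : ∃ N', N = N' + 1 := ⟨N - 1, (Nat.succ_pred_eq_of_pos (NeZero.pos N)).symm⟩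
  refine ⟨w 0, ?_⟩
  have h1 : wordProd w = w 0 * (List.ofFn fun i : Fin N' => w i.succ).prod := by
    rw [wordProd, List.ofFn_succ, List.prod_cons]
  have h2 : wordProd (rot 1 w) = (List.ofFn fun i : Fin N' => w i.succ).prod * w 0 := by
    rw [wordProd, List.ofFn_succ', List.concat_eq_append, List.prod_append, List.prod_singleton]
    have e1 : (fun i : Fin N' => rot 1 w i.castSucc) = fun i : Fin N' => w i.succ := by
      funext i
      simp only [rot]
      congr 1
      apply Fin.ext
      simp only [Fin.val_castSucc, Fin.val_succ]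
      exact Nat.mod_eq_of_lt (by omega)
    have e2 : rot 1 w (Fin.last N') = w 0 := by
      simp only [rot]
      congr 1
      apply Fin.ext
      simp
    rw [e1, e2]
  rw [h1, h2]
  group

theorem wordProd_rot_mem_iff {C : Set G} (hC : ∀ g c : G, g ∈ C → c⁻¹ * g * c ∈ C) (j : ℕ)
    (w : Fin N → G) : wordProd (rot j w) ∈ C ↔ wordProd w ∈ C := by
  induction j with
  | zero => rw [rot_zero]
  | succ j ih =>
    rw [add_comm, rot_add, ← ih]
    obtain ⟨c, hc⟩ := wordProd_rot_one (rot j w)
    rw [hc]
    constructor
    · intro h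
      have := hC _ c⁻¹ h
      simpa [mul_assoc] using this
    · intro h
      exact hC _ c h

theorem wordWeight_rot (x : MonoidAlgebra ℂ G) (j : ℕ) (w : Fin N → G) :
    wordWeight x (rot j w) = wordWeight x w := by
  induction j with
  | zero => rw [rot_zero]
  | succ j ih =>
    rw [add_comm, rot_add, ← ih]
    generalize rot j w = v
    obtain ⟨N', rfl⟩ : ∃ N', N = N' + 1 := ⟨N - 1, (Nat.succ_pred_eq_of_pos (NeZero.pos N)).symm⟩
    rw [wordWeight, wordWeight, Fin.prod_univ_castSucc, Fin.prod_univ_succ, mul_comm]
    congr 1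
    · simp only [rot]
      congr 2
      apply Fin.ext
      simp
    · refine Finset.prod_congr rfl (fun i _ => ?_)
      simp only [rot]
      congr 2
      apply Fin.ext
      simp only [Fin.val_castSucc, Fin.val_succ]
      exact Nat.mod_eq_of_lt (by omega)

/-- A word of length `m * t` fixed by rotation by `t` places is an `m`-th power. -/
theorem exists_wordProd_eq_pow {m t : ℕ} [NeZero (m * t)] (w : Fin (m * t) → G)
    (hper : rot t w = w) : ∃ y : G, wordProd w = y ^ m := by
  have hmt : 0 < m * t := NeZero.pos _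
  have ht : 0 < t := Nat.pos_of_ne_zero (fun h => by rw [h, mul_zero] at hmt; exact lt_irrefl _ hmt)
  have hm : 0 < m := Nat.pos_of_ne_zero (fun h => by rw [h, zero_mul] at hmt; exact lt_irrefl _ hmt)
  have key : ∀ (i : ℕ) (j : ℕ) (h : i * t + j < m * t) (hj : j < m * t),
      w ⟨i * t + j, h⟩ = w ⟨j, hj⟩ := by
    intro i
    induction i with
    | zero =>
      intro j h hj
      congr 1
      apply Fin.ext
      simp
    | succ i ih =>
      intro j h hj
      have h' : i * t + j < m * t := by
        have : i * t + j ≤ (i + 1) * t + j := by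
          rw [Nat.add_mul]; omega
        omega
      rw [← ih j h' hj]
      have := congrFun hper ⟨i * t + j, h'⟩
      rw [← this]
      simp only [rot]
      congr 1
      apply Fin.ext
      simp only
      rw [Nat.mod_eq_of_lt (by rw [Nat.add_mul] at h; omega)]
      rw [Nat.add_mul]
      omega
  refine ⟨(List.ofFn fun j : Fin t => w ⟨j.val, lt_of_lt_of_le j.2 (Nat.le_mul_of_pos_left t
    hm)⟩).prod, ?_⟩
  rw [wordProd, List.ofFn_mul, List.prod_flatten]
  have : (List.ofFn fun i : Fin m => List.ofFn fun j : Fin t =>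
      w ⟨i.val * t + j.val, by
        calc i.val * t + j.val < (i.val + 1) * t := by rw [Nat.add_mul]; omega
          _ ≤ m * t := Nat.mul_le_mul_right t i.2⟩) =
      List.replicate m (List.ofFn fun j : Fin t => w ⟨j.val, lt_of_lt_of_le j.2
        (Nat.le_mul_of_pos_left t hm)⟩) := by
    rw [← List.ofFn_const]
    congr 1
    ext i : 1
    congr 1
    ext j : 1
    exact key i.val j.val _ _
  rw [this, List.map_replicate, List.prod_replicate]

theorem exists_wordProd_eq_pow' {m t : ℕ} (hN : N = m * t) (w : Fin N → G)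
    (hper : rot t w = w) : ∃ y : G, wordProd w = y ^ m := by
  subst hN
  exact exists_wordProd_eq_pow w hper

end Rotation

section Orbits

/-- If `f` is invariant under a group action and every orbit meeting the support of `f` has size
divisible by `k`, then the sum of `f` is `k` times an element of the additive subgroup generated
by the values. -/
theorem exists_sum_eq_mul_of_orbit_card_dvd {Γ W : Type*} [Group Γ] [MulAction Γ W] [Fintype W]
    (A : AddSubgroup ℂ) (f : W → ℂ) (hf : ∀ w, f w ∈ A)
    (hinv : ∀ (γ : Γ) (w : W), f (γ • w) = f w) (k : ℕ)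
    (hk : ∀ w, f w ≠ 0 → k ∣ Nat.card (MulAction.orbit Γ w)) :
    ∃ s ∈ A, ∑ w, f w = (k : ℂ) * s := by
  classical
  let q : W → MulAction.orbitRel.Quotient Γ W := Quotient.mk _
  haveI : Fintype (MulAction.orbitRel.Quotient Γ W) := Fintype.ofFinite _
  rw [← Finset.sum_fiberwise Finset.univ q f]
  have hfib : ∀ ω : MulAction.orbitRel.Quotient Γ W, ∀ w : W, q w = ω ↔
      w ∈ MulAction.orbit Γ (Quotient.out ω) := by
    intro ω w
    rw [← MulAction.orbitRel_apply]
    constructor
    · intro h
      have h2 : (⟦w⟧ : MulAction.orbitRel.Quotient Γ W) = ⟦Quotient.out ω⟧ := by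
        rw [Quotient.out_eq]; exact h
      exact Quotient.exact h2
    · intro h
      have := Quotient.sound (s := MulAction.orbitRel Γ W) h
      rw [Quotient.out_eq] at this
      exact this
  have hinner : ∀ ω : MulAction.orbitRel.Quotient Γ W,
      ∑ w ∈ Finset.univ.filter (fun w => q w = ω), f w =
        (Nat.card (MulAction.orbit Γ (Quotient.out ω)) : ℂ) * f (Quotient.out ω) := by
    intro ω
    have h1 : ∀ w ∈ Finset.univ.filter (fun w => q w = ω), f w = f (Quotient.out ω) := by
      intro w hw
      obtain ⟨γ, hγ⟩ := (hfib ω w).1 (Finset.mem_filter.1 hw).2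
      rw [← hγ]
      exact hinv γ _
    rw [Finset.sum_congr rfl h1, Finset.sum_const, nsmul_eq_mul]
    congr 2
    rw [Finset.filter_congr (fun w _ => hfib ω w), Nat.card_eq_fintype_card,
      Fintype.card_subtype]
  simp only [hinner]
  have hterm : ∀ ω : MulAction.orbitRel.Quotient Γ W, ∃ s ∈ A,
      (Nat.card (MulAction.orbit Γ (Quotient.out ω)) : ℂ) * f (Quotient.out ω) = (k : ℂ) * s := by
    intro ω
    by_cases h0 : f (Quotient.out ω) = 0
    · exact ⟨0, A.zero_mem, by rw [h0, mul_zero, mul_zero]⟩
    · obtain ⟨c, hc⟩ := hk _ h0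
      refine ⟨c • f (Quotient.out ω), A.nsmul_mem (hf _) c, ?_⟩
      rw [hc, nsmul_eq_mul]
      push_cast
      ring
  choose s hsA hs using hterm
  refine ⟨∑ ω, s ω, A.sum_mem (fun ω _ => hsA ω), ?_⟩
  rw [Finset.mul_sum]
  exact Finset.sum_congr rfl (fun ω _ => hs ω)

end Orbits

section OrbitSize

variable {G : Type*} [Group G] {N : ℕ} [NeZero N]

attribute [local instance] rotAction

theorem smul_eq_rot (γ : Multiplicative (ZMod N)) (w : Fin N → G) :
    γ • w = rot (Multiplicative.toAdd γ).val w := rfl

/-- Orbits of words whose product avoids `p ^ a`-th powers are large. -/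
theorem pow_dvd_card_orbit {p n a : ℕ} (hp : p.Prime) (han : a ≤ n)
    (hN : N = p ^ n) (C : Set G) (hCpow : ∀ y : G, y ^ p ^ a ∉ C) (w : Fin N → G)
    (hw : wordProd w ∈ C) :
    p ^ (n - a + 1) ∣ Nat.card (MulAction.orbit (Multiplicative (ZMod N)) w) := by
  set H := MulAction.stabilizer (Multiplicative (ZMod N)) w with hH
  have hidx : H.index = Nat.card (MulAction.orbit (Multiplicative (ZMod N)) w) := by
    rw [MulAction.index_stabilizer]
    rfl
  have hdvd : H.index ∣ p ^ n := by
    have := Subgroup.index_dvd_card H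
    rw [Nat.card_eq_fintype_card, Fintype.card_multiplicative, ZMod.card] at this
    exact hN ▸ this
  obtain ⟨j, hjn, hj⟩ := (Nat.dvd_prime_pow hp).1 hdvd
  rw [← hidx, hj]
  by_cases hcase : n - a + 1 ≤ j
  · exact pow_dvd_pow p hcase
  · exfalso
    have hj' : j ≤ n - a := by omega
    set γ₁ : Multiplicative (ZMod N) := Multiplicative.ofAdd 1 with hγ₁
    have h1 : γ₁ ^ p ^ j ∈ H := by
      have := Subgroup.pow_index_mem H γ₁
      rwa [hj] at this
    have h2 : γ₁ ^ p ^ (n - a) ∈ H := by
      have : p ^ (n - a) = p ^ j * p ^ (n - a - j) := by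
        rw [← pow_add]; congr 1; omega
      rw [this, pow_mul]
      exact H.pow_mem h1 _
    have h3 : rot (p ^ (n - a)) w = w := by
      have := MulAction.mem_stabilizer_iff.1 h2
      rw [smul_eq_rot, toAdd_pow, hγ₁, toAdd_ofAdd, nsmul_one, ZMod.val_natCast, rot_mod] at this
      exact this
    have hN' : N = p ^ a * p ^ (n - a) := by
      rw [hN, ← pow_add]; congr 1; omega
    obtain ⟨y, hy⟩ := exists_wordProd_eq_pow' hN' w h3
    rw [hy] at hw
    exact hCpow y hw

end OrbitSize

section Idempotent

variable {G : Type*} [Group G] [Fintype G] {p : ℕ} {M : Ideal AlgInt}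

attribute [local instance] rotAction

/-- **Key lemma**: for an idempotent of the group algebra with local-integer coefficients, the
sum of the coefficients over a conjugation-invariant set of elements which are not `p ^ a`-th
powers vanishes. -/
theorem sum_coeff_eq_zero_of_idempotent (hM : IsPModular p M) (ε : MonoidAlgebra ℂ G)
    (hε : ε * ε = ε) (hint : ∀ g, MemLocalRing M (ε.coeff g)) (C : Set G)
    [DecidablePred (· ∈ C)] (hC : ∀ g c : G, g ∈ C → c⁻¹ * g * c ∈ C) (a : ℕ)
    (hCpow : ∀ y : G, y ^ p ^ a ∉ C) :
    ∑ g : G, (if g ∈ C then ε.coeff g else 0) = 0 := by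
  classical
  haveI hP := isPrime_of_isPModular hM
  have hp := prime_of_isPModular hM
  have hp0 : (p : ℂ) ≠ 0 := Nat.cast_ne_zero.2 hp.ne_zero
  apply eq_zero_of_forall_div_pow hM
  · refine memLocalRing_sum _ _ (fun g _ => ?_)
    split_ifs
    · exact hint g
    · exact memLocalRing_zero hP.ne_top
  intro k
  set n := a + k with hn
  set N := p ^ n with hNdef
  haveI : NeZero N := ⟨pow_ne_zero _ hp.ne_zero⟩
  have hεN : ε ^ N = ε := by
    obtain ⟨N', hN'⟩ : ∃ N', N = N' + 1 :=
      ⟨N - 1, (Nat.succ_pred_eq_of_pos (NeZero.pos N)).symm⟩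
    rw [hN']
    exact IsIdempotentElem.pow_succ_eq N' hε
  have hsum : ∑ g : G, (if g ∈ C then ε.coeff g else 0) =
      ∑ w : Fin N → G, if wordProd w ∈ C then wordWeight ε w else 0 := by
    have h1 : ∀ g : G, (if g ∈ C then ε.coeff g else 0) =
        ∑ w : Fin N → G, if wordProd w = g ∧ g ∈ C then wordWeight ε w else 0 := by
      intro g
      by_cases hg : g ∈ C
      · rw [if_pos hg]
        conv_lhs => rw [← hεN, coeff_pow_eq_sum]
        refine Finset.sum_congr rfl (fun w _ => ?_)
        simp [hg]
      · rw [if_neg hg]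
        symm
        refine Finset.sum_eq_zero (fun w _ => ?_)
        rw [if_neg (fun h => hg h.2)]
    simp only [h1]
    rw [Finset.sum_comm]
    refine Finset.sum_congr rfl (fun w _ => ?_)
    rw [Finset.sum_eq_single (wordProd w)]
    · by_cases hw : wordProd w ∈ C
      · rw [if_pos ⟨rfl, hw⟩, if_pos hw]
      · rw [if_neg (fun h => hw h.2), if_neg hw]
    · intro g _ hg
      rw [if_neg (fun h => hg h.1.symm)]
    · intro h
      exact absurd (Finset.mem_univ _) h
  rw [hsum]
  obtain ⟨s, hs, hsum2⟩ := exists_sum_eq_mul_of_orbit_card_dvd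
    (Γ := Multiplicative (ZMod N)) (localRing M).toAddSubgroup
    (fun w : Fin N → G => if wordProd w ∈ C then wordWeight ε w else 0)
    (by
      intro w
      show MemLocalRing M _
      split_ifs
      · exact memLocalRing_prod _ _ (fun i _ => hint _)
      · exact memLocalRing_zero hP.ne_top)
    (by
      intro γ w
      rw [smul_eq_rot]
      simp only [wordProd_rot_mem_iff hC, wordWeight_rot])
    (p ^ (n - a + 1))
    (by
      intro w hw
      have hwC : wordProd w ∈ C := by
        by_contra h
        exact hw (if_neg h)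
      exact pow_dvd_card_orbit hp (by omega) hNdef C hCpow w hwC)
  rw [hsum2]
  have hna : n - a + 1 = k + 1 := by omega
  rw [hna]
  have : ((p ^ (k + 1) : ℕ) : ℂ) * s / (p : ℂ) ^ k = (p : ℂ) * s := by
    push_cast
    rw [pow_succ]
    field_simp
  rw [this]
  exact memLocalRing_mul (natCast_mem_localRing p) hs

end Idempotent

end Cfsg.Agent.Lib.H23
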