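import Mathlib
import Cfsg.Prelude.Def_Blocks
import Cfsg.Agent.Lib.H23.BlockIdem
import Cfsg.Agent.Lib.H23.BlockNecklace

/-!
# Vanishing on `p`-singular elements and weak block orthogonality (helper23)

* `sum_charEval_mul_conj_eq_zero`: for an idempotent `ε` of the group algebra with local-integer
  coefficients and a `p`-singular `g`, `∑ χ, χ(ε) conj χ(g) = 0`;
* `blockCoeff_eq_zero_of_dvd_orderOf`: block idempotents are supported on `p`-regular elements;
* `weak_block_orthogonality`: `∑_{χ ∈ B} χ(x) conj χ(y) = 0` for `x` `p`-regular, `y` `p`-singular.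
-/

set_option autoImplicit false

namespace Cfsg.Agent.Lib.H23

open Cfsg MonoidAlgebra
open scoped ComplexConjugate

section Vanish

variable {G : Type*} [Group G] [Fintype G] {p : ℕ} {M : Ideal AlgInt}

theorem not_dvd_orderOf_pow_ordProj (hp : p.Prime) (y : G) :
    ¬ p ∣ orderOf (y ^ p ^ (Nat.card G).factorization p) := by
  intro h
  have hG0 : Nat.card G ≠ 0 := Nat.card_pos.ne'
  have h1 : (y ^ p ^ (Nat.card G).factorization p) ^
      (Nat.card G / p ^ (Nat.card G).factorization p) = 1 := by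
    rw [← pow_mul, Nat.ordProj_mul_ordCompl_eq_self]
    exact pow_card_eq_one'
  exact Nat.not_dvd_ordCompl hp hG0 (h.trans (orderOf_dvd_of_pow_eq_one h1))

theorem orderOf_eq_of_isConj {g h : G} (hgh : IsConj g h) : orderOf g = orderOf h := by
  obtain ⟨c, rfl⟩ := isConj_iff.1 hgh
  exact ((MulAut.conj c).orderOf_eq g).symm

theorem sum_charEval_mul_conj_eq_zero [Fintype (IrrCharacter G)] (hM : IsPModular p M)
    (ε : MonoidAlgebra ℂ G) (hε : ε * ε = ε) (hint : ∀ g, MemLocalRing M (ε.coeff g)) (g : G)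
    (hg : p ∣ orderOf g) :
    ∑ χ : IrrCharacter G, charEval (χ : G → ℂ) ε * conj ((χ : G → ℂ) g) = 0 := by
  classical
  have hp := prime_of_isPModular hM
  have h2 : ∀ h : G, ∑ χ : IrrCharacter G, (χ : G → ℂ) h * conj ((χ : G → ℂ) g) =
      if IsConj g h then (Nat.card (Subgroup.centralizer ({g} : Set G)) : ℂ) else 0 := by
    intro h
    have := Cfsg.Agent.Lib.H24.second_orthogonality (G := G) g h
    have hc : ∑ χ : IrrCharacter G, (χ : G → ℂ) h * conj ((χ : G → ℂ) g) =
        conj (∑ χ : IrrCharacter G, (χ : G → ℂ) g * conj ((χ : G → ℂ) h)) := by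
      rw [map_sum]
      refine Finset.sum_congr rfl (fun χ _ => ?_)
      rw [map_mul, Complex.conj_conj, mul_comm]
    rw [hc, this]
    split_ifs <;> simp
  simp only [charEval, Finset.sum_mul]
  rw [Finset.sum_comm]
  simp only [mul_assoc, ← Finset.mul_sum, h2, mul_ite, mul_zero]
  have key := sum_coeff_eq_zero_of_idempotent hM ε hε hint {h | IsConj g h}
    (by
      intro h c hh
      exact hh.trans (isConj_iff.2 ⟨c⁻¹, by group⟩))
    ((Nat.card G).factorization p)
    (by
      intro y hy
      have h1 : orderOf g = orderOf (y ^ p ^ (Nat.card G).factorization p) :=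
        orderOf_eq_of_isConj hy
      exact not_dvd_orderOf_pow_ordProj hp y (h1 ▸ hg))
  simp only [Set.mem_ofPred_eq] at key
  have : ∀ h : G, (if IsConj g h then ε.coeff h *
      (Nat.card (Subgroup.centralizer ({g} : Set G)) : ℂ) else 0) =
      (if IsConj g h then ε.coeff h else 0) *
        (Nat.card (Subgroup.centralizer ({g} : Set G)) : ℂ) := by
    intro h
    split_ifs <;> simp
  simp only [this]
  rw [← Finset.sum_mul, key, zero_mul]

theorem charEval_blockIdem (B : Set (IrrCharacter G)) [DecidablePred (· ∈ B)]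
    (χ : IrrCharacter G) :
    charEval (χ : G → ℂ) (blockIdem B) = if χ ∈ B then (χ : G → ℂ) 1 else 0 := by
  have h := omega_blockIdem B χ
  have h1 := Cfsg.Agent.Lib.H24.irr_one_ne_zero χ
  rw [omega, div_eq_iff h1] at h
  rw [h]
  split_ifs <;> simp

/-- Block idempotents are supported on `p`-regular elements. -/
theorem blockCoeff_eq_zero_of_dvd_orderOf (hM : IsPModular p M) (χ₀ : IrrCharacter G) (g : G)
    (hg : p ∣ orderOf g) : blockCoeff (blockOf M (χ₀ : G → ℂ)) g = 0 := by
  classical
  haveI := Fintype.ofFinite (IrrCharacter G)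
  have h := sum_charEval_mul_conj_eq_zero hM (blockIdem (blockOf M (χ₀ : G → ℂ)))
    (blockIdem_mul_self _) (fun g => memLocalRing_blockCoeff hM χ₀ g) g hg
  rw [blockCoeff_eq_sum]
  simp only [charEval_blockIdem, ite_mul, zero_mul] at h
  rw [h, mul_zero]

end Vanish

section Fourier

/-- Discrete Fourier inversion on `range o`. -/
theorem sum_pow_mul_sum_pow_mul {o : ℕ} (ho : 0 < o) {ω : ℂ} (hω : IsPrimitiveRoot ω o)
    (F : ℕ → ℂ) :
    ∑ j ∈ Finset.range o, ω ^ (j * (o - 1)) * ∑ i ∈ Finset.range o, (ω ^ j) ^ i * F i =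
      (o : ℂ) * F (1 % o) := by
  simp only [Finset.mul_sum]
  rw [Finset.sum_comm]
  have h1 : ∀ i ∈ Finset.range o, ∑ j ∈ Finset.range o, ω ^ (j * (o - 1)) * ((ω ^ j) ^ i * F i) =
      if i = 1 % o then (o : ℂ) * F i else 0 := by
    intro i hi
    have hi' : i < o := Finset.mem_range.1 hi
    have h2 : ∀ j : ℕ, ω ^ (j * (o - 1)) * ((ω ^ j) ^ i * F i) = (ω ^ (o - 1 + i)) ^ j * F i := by
      intro j
      rw [← pow_mul, ← pow_mul, ← mul_assoc, ← pow_add]
      congr 2
      ring
    simp only [h2, ← Finset.sum_mul]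
    by_cases h3 : i = 1 % o
    · rw [if_pos h3]
      have h4 : ω ^ (o - 1 + i) = 1 := by
        rw [hω.pow_eq_one_iff_dvd]
        rcases Nat.lt_or_ge 1 o with h5 | h5
        · rw [h3, Nat.mod_eq_of_lt h5]
          exact ⟨1, by omega⟩
        · have : o = 1 := by omega
          subst this
          exact one_dvd _
      simp [h4]
    · rw [if_neg h3]
      have h4 : ω ^ (o - 1 + i) ≠ 1 := by
        rw [Ne, hω.pow_eq_one_iff_dvd]
        rintro ⟨c, hc⟩
        apply h3
        rcases Nat.lt_or_ge 1 o with h5 | h5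
        · rw [Nat.mod_eq_of_lt h5]
          have hc1 : c = 1 := by
            rcases c with _ | _ | c
            · omega
            · rfl
            · exfalso
              have : o * (c + 1 + 1) ≥ 2 * o := by nlinarith
              omega
          subst hc1
          omega
        · have : o = 1 := by omega
          subst this
          omega
      have h5 : (ω ^ (o - 1 + i)) ^ o = 1 := by
        rw [← pow_mul, mul_comm, pow_mul, hω.pow_eq_one, one_pow]
      have h6 : ∑ j ∈ Finset.range o, (ω ^ (o - 1 + i)) ^ j = 0 := by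
        have := mul_geom_sum (ω ^ (o - 1 + i)) o
        rw [h5, sub_self] at this
        exact (mul_eq_zero.1 this).resolve_left (sub_ne_zero.2 h4)
      rw [h6, zero_mul]
  rw [Finset.sum_congr rfl h1, Finset.sum_ite_eq' (Finset.range o) (1 % o),
    if_pos (Finset.mem_range.2 (Nat.mod_lt _ ho))]

end Fourier

section Weak

variable {G : Type*} [Group G] [Fintype G] {p : ℕ} {M : Ideal AlgInt}

/-- The idempotent `o⁻¹ ∑ i, ζ ^ i x ^ i` attached to a `p`-regular element `x` of order `o` and
an `o`-th root of unity `ζ`. -/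
theorem exists_cyclic_idempotent (hM : IsPModular p M) (x : G) (hx : ¬ p ∣ orderOf x) (ζ : ℂ)
    (hζ : ζ ^ orderOf x = 1) :
    ∃ e : MonoidAlgebra ℂ G, e * e = e ∧ (∀ g, MemLocalRing M (e.coeff g)) ∧
      ∀ χ : G → ℂ, charEval χ e =
        (orderOf x : ℂ)⁻¹ * ∑ i ∈ Finset.range (orderOf x), ζ ^ i * χ (x ^ i) := by
  classical
  haveI hP := isPrime_of_isPModular hM
  set o := orderOf x with ho
  have hopos : 0 < o := orderOf_pos x
  have ho0 : (o : ℂ) ≠ 0 := Nat.cast_ne_zero.2 hopos.ne'
  set v : MonoidAlgebra ℂ G := ζ • MonoidAlgebra.single x 1 with hv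
  have hvpow : ∀ i : ℕ, v ^ i = ζ ^ i • MonoidAlgebra.single (x ^ i) 1 := by
    intro i
    rw [hv, smul_pow, MonoidAlgebra.single_pow, one_pow]
  have hvo : v ^ o = 1 := by
    rw [hvpow, hζ, one_smul, ho, pow_orderOf_eq_one, MonoidAlgebra.one_def]
  set s : MonoidAlgebra ℂ G := ∑ i ∈ Finset.range o, v ^ i with hs
  have hvs : v * s = s := by
    have := mul_geom_sum v o
    rw [hvo, sub_self, sub_mul, one_mul, sub_eq_zero] at this
    exact this
  have hvis : ∀ i : ℕ, v ^ i * s = s := by
    intro i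
    induction i with
    | zero => rw [pow_zero, one_mul]
    | succ i ih => rw [pow_succ, mul_assoc, hvs, ih]
  have hss : s * s = (o : ℂ) • s := by
    conv_lhs => rw [hs, Finset.sum_mul]
    rw [Finset.sum_congr rfl (fun i _ => hvis i), Finset.sum_const, Finset.card_range,
      ← Nat.cast_smul_eq_nsmul ℂ]
  refine ⟨(o : ℂ)⁻¹ • s, ?_, ?_, ?_⟩
  · rw [smul_mul_smul_comm, hss, smul_smul, mul_assoc, inv_mul_cancel₀ ho0, mul_one]
  · have hζint : IsIntegral ℤ ζ :=
      ⟨Polynomial.X ^ o - 1, Polynomial.monic_X_pow_sub_C 1 hopos.ne', by simp [hζ]⟩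
    have hvint : v ∈ intCoeff (G := G) M := by
      refine smul_mem_intCoeff (isIntegral_mem_localRing hζint) ?_
      intro g
      rw [MonoidAlgebra.coeff_single, Finsupp.single_apply]
      split_ifs
      · exact memLocalRing_one hP.ne_top
      · exact memLocalRing_zero hP.ne_top
    have hsint : s ∈ intCoeff (G := G) M :=
      Subring.sum_mem _ (fun i _ => Subring.pow_mem _ hvint i)
    exact smul_mem_intCoeff (memLocalRing_inv_natCast hM hx) hsint
  · intro χ
    rw [charEval_smul, hs, charEval_sum]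
    congr 1
    refine Finset.sum_congr rfl (fun i _ => ?_)
    rw [hvpow, charEval_smul, charEval_single, one_mul]

/-- **Weak block orthogonality.** -/
theorem weak_block_orthogonality [Fintype (IrrCharacter G)] (hM : IsPModular p M)
    (χ₀ : IrrCharacter G) [DecidablePred (· ∈ blockOf M (χ₀ : G → ℂ))] (x y : G)
    (hx : ¬ p ∣ orderOf x) (hy : p ∣ orderOf y) :
    ∑ χ : IrrCharacter G, (if χ ∈ blockOf M (χ₀ : G → ℂ) then
      (χ : G → ℂ) x * conj ((χ : G → ℂ) y) else 0) = 0 := by
  classical
  haveI hP := isPrime_of_isPModular hM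
  set B := blockOf M (χ₀ : G → ℂ) with hB
  set o := orderOf x with ho
  have hopos : 0 < o := orderOf_pos x
  have ho0 : (o : ℂ) ≠ 0 := Nat.cast_ne_zero.2 hopos.ne'
  -- the function `Θ h = ∑_{χ ∈ B} χ(h) conj χ(y)`
  set Θ : G → ℂ := fun h => ∑ χ : IrrCharacter G,
    (if χ ∈ B then (χ : G → ℂ) h * conj ((χ : G → ℂ) y) else 0) with hΘ
  have hkey : ∀ ζ : ℂ, ζ ^ o = 1 → ∑ i ∈ Finset.range o, ζ ^ i * Θ (x ^ i) = 0 := by
    intro ζ hζ
    obtain ⟨e, he, heint, hechar⟩ := exists_cyclic_idempotent hM x hx ζ hζ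
    set ε := blockIdem B * e with hε
    have hεidem : ε * ε = ε := by
      have hcomm : e * blockIdem B = blockIdem B * e :=
        (Subalgebra.mem_center_iff.1 (blockIdem_mem_center B)) e
      calc ε * ε = blockIdem B * (e * blockIdem B) * e := by rw [hε]; noncomm_ring
        _ = (blockIdem B * blockIdem B) * (e * e) := by rw [hcomm]; noncomm_ring
        _ = ε := by rw [blockIdem_mul_self, he]
    have hεint : ∀ g, MemLocalRing M (ε.coeff g) := by
      have h1 : blockIdem B ∈ intCoeff (G := G) M := fun g => memLocalRing_blockCoeff hM χ₀ g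
      have h2 : e ∈ intCoeff (G := G) M := heint
      exact Subring.mul_mem _ h1 h2
    have h := sum_charEval_mul_conj_eq_zero hM ε hεidem hεint y hy
    simp only [hε, charEval_blockIdem_mul, hechar, ite_mul, zero_mul] at h
    have h3 : ∑ χ : IrrCharacter G, (if χ ∈ B then
        ((o : ℂ)⁻¹ * ∑ i ∈ Finset.range o, ζ ^ i * (χ : G → ℂ) (x ^ i)) *
          conj ((χ : G → ℂ) y) else 0) =
        (o : ℂ)⁻¹ * ∑ i ∈ Finset.range o, ζ ^ i * Θ (x ^ i) := by
      simp only [hΘ, Finset.mul_sum]
      rw [Finset.sum_comm]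
      refine Finset.sum_congr rfl (fun χ _ => ?_)
      split_ifs
      · rw [Finset.sum_mul]
        refine Finset.sum_congr rfl (fun i _ => ?_)
        ring
      · simp
    rw [h3] at h
    exact (mul_eq_zero.1 h).resolve_left (inv_ne_zero ho0)
  -- Fourier inversion
  have hω := Complex.isPrimitiveRoot_exp o hopos.ne'
  set ω := Complex.exp (2 * Real.pi * Complex.I / o) with hωdef
  have hinv := sum_pow_mul_sum_pow_mul hopos hω (fun i => Θ (x ^ i))
  have hzero : ∑ j ∈ Finset.range o, ω ^ (j * (o - 1)) *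
      ∑ i ∈ Finset.range o, (ω ^ j) ^ i * Θ (x ^ i) = 0 := by
    refine Finset.sum_eq_zero (fun j _ => ?_)
    rw [hkey (ω ^ j) (by rw [← pow_mul, mul_comm, pow_mul, hω.pow_eq_one, one_pow]), mul_zero]
  rw [hzero] at hinv
  have h1 : Θ (x ^ (1 % o)) = 0 := by
    have := hinv.symm
    exact (mul_eq_zero.1 this).resolve_left ho0
  rw [ho, pow_mod_orderOf, pow_one] at h1
  rw [← h1, hΘ]
  refine Finset.sum_congr rfl (fun χ _ => ?_)
  congr

end Weak

end Cfsg.Agent.Lib.H23
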