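import Mathlib
import Cfsg.Agent.Lib.H23.CentralChar
import Cfsg.Agent.Lib.L0.CharBasic

set_option autoImplicit false

namespace Cfsg.Agent.Lib.H23

open Representation Module
open scoped ComplexConjugate

section Degree

variable {G : Type*} [Group G] [Fintype G] {V : Type*} [AddCommGroup V] [Module ℂ V]
  [FiniteDimensional ℂ V]

/-- The endomorphism `∑ g, χ(g⁻¹) ρ(g)`. -/
noncomputable def charSumEnd (ρ : Representation ℂ G V) : V →ₗ[ℂ] V :=
  ∑ g : G, ρ.character g⁻¹ • ρ g

theorem charSumEnd_comm (ρ : Representation ℂ G V) (h : G) :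
    charSumEnd ρ ∘ₗ ρ h = ρ h ∘ₗ charSumEnd ρ := by
  classical
  simp only [charSumEnd, ← Module.End.mul_eq_comp, Finset.mul_sum, Finset.sum_mul]
  symm
  refine Fintype.sum_equiv (MulAut.conj h).toEquiv _ _ ?_
  intro x
  simp only [MulEquiv.toEquiv_eq_coe, EquivLike.coe_coe, MulAut.conj_apply, mul_smul_comm,
    smul_mul_assoc, ← map_mul]
  congr 1
  · rw [mul_inv_rev, mul_inv_rev, inv_inv, ← mul_assoc]
    exact (Representation.char_conj ρ x⁻¹ h).symm
  · congr 1; group

theorem trace_charSumEnd (ρ : Representation ℂ G V) [ρ.IsIrreducible] :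
    LinearMap.trace ℂ V (charSumEnd ρ) = (Nat.card G : ℂ) := by
  classical
  letI := Cfsg.Agent.Lib.L0.invertibleCard G
  have h := Representation.char_orthonormal ρ ρ
  rw [if_pos ⟨Representation.Equiv.refl ρ⟩] at h
  have hne : (Nat.card G : ℂ) ≠ 0 := by exact_mod_cast (Nat.card_pos (α := G)).ne'
  rw [charSumEnd, map_sum]
  simp only [map_smul, smul_eq_mul]
  have h2 : ∑ g : G, ρ.character g * ρ.character g⁻¹ = (Nat.card G : ℂ) := by
    field_simp at h
    simpa using h
  rw [← h2]
  refine Finset.sum_congr rfl fun g _ => ?_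
  rw [mul_comm]; rfl

theorem charSumEnd_eq_smul (ρ : Representation ℂ G V) [ρ.IsIrreducible] :
    charSumEnd ρ = ((Nat.card G : ℂ) / (finrank ℂ V : ℂ)) • LinearMap.id := by
  obtain ⟨c, hc⟩ := exists_scalar_of_commute ρ (charSumEnd ρ) (charSumEnd_comm ρ)
  have h1 := trace_charSumEnd ρ
  rw [hc, map_smul, LinearMap.trace_id, smul_eq_mul] at h1
  have hn : (finrank ℂ V : ℂ) ≠ 0 :=
    Nat.cast_ne_zero.mpr (finrank_pos_of_isIrreducible ρ).ne'
  rw [hc, ← h1, mul_div_assoc, div_self hn, mul_one]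

/-- `ρ` extended to the group ring over the algebraic integers. -/
noncomputable def algIntGroupRingHom (ρ : Representation ℂ G V) :
    MonoidAlgebra (integralClosure ℤ ℂ) G →ₐ[integralClosure ℤ ℂ] Module.End ℂ V :=
  MonoidAlgebra.lift (integralClosure ℤ ℂ) (Module.End ℂ V) G ρ

theorem isIntegral_charSumEnd (ρ : Representation ℂ G V) :
    IsIntegral (integralClosure ℤ ℂ) (charSumEnd ρ) := by
  classical
  have hz : IsIntegral (integralClosure ℤ ℂ)
      (∑ g : G, (⟨ρ.character g⁻¹, Cfsg.Agent.Lib.L0.isIntegral_char ρ g⁻¹⟩ :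
        integralClosure ℤ ℂ) • MonoidAlgebra.of (integralClosure ℤ ℂ) G g) :=
    IsIntegral.of_finite _ _
  have := IsIntegral.map (algIntGroupRingHom ρ) hz
  rw [map_sum] at this
  simp only [map_smul, algIntGroupRingHom, MonoidAlgebra.lift_of] at this
  exact this

theorem isIntegral_card_div_finrank (ρ : Representation ℂ G V) [ρ.IsIrreducible] :
    IsIntegral ℤ ((Nat.card G : ℂ) / (finrank ℂ V : ℂ)) := by
  have := nontrivial_of_isIrreducible ρ
  have h := isIntegral_charSumEnd ρ
  rw [charSumEnd_eq_smul ρ] at h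
  have hinj : Function.Injective (algebraMap ℂ (Module.End ℂ V)) :=
    FaithfulSMul.algebraMap_injective ℂ (Module.End ℂ V)
  have h2 : IsIntegral (integralClosure ℤ ℂ) ((Nat.card G : ℂ) / (finrank ℂ V : ℂ)) := by
    rw [← isIntegral_algebraMap_iff hinj]
    convert h using 1
    rw [Algebra.algebraMap_eq_smul_one]
    rfl
  exact isIntegral_trans _ h2

/-- The degree of an irreducible complex representation divides the group order. -/
theorem finrank_dvd_card (ρ : Representation ℂ G V) [ρ.IsIrreducible] :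
    finrank ℂ V ∣ Nat.card G := by
  have h := isIntegral_card_div_finrank ρ
  have hn : (finrank ℂ V : ℚ) ≠ 0 :=
    Nat.cast_ne_zero.mpr (finrank_pos_of_isIrreducible ρ).ne'
  have h2 : IsIntegral ℤ ((Nat.card G : ℚ) / (finrank ℂ V : ℚ)) := by
    rw [← isIntegral_algebraMap_iff (algebraMap ℚ ℂ).injective]
    simpa using h
  obtain ⟨y, hy⟩ := IsIntegrallyClosed.isIntegral_iff.mp h2
  have h3 : (Nat.card G : ℚ) = (finrank ℂ V : ℚ) * y := by
    rw [eq_div_iff hn] at hy
    simp only [algebraMap_int_eq, eq_intCast] at hy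
    linarith
  have h4 : (Nat.card G : ℤ) = (finrank ℂ V : ℤ) * y := by exact_mod_cast h3
  exact Int.natCast_dvd_natCast.mp ⟨y, h4⟩

end Degree

section Cfsg

variable {G : Type*} [Group G] [Finite G]

/-- The value at `1` of an irreducible character is a positive natural number dividing `|G|`. -/
theorem irr_apply_one_dvd_card (χ : G → ℂ) (hχ : Cfsg.IsIrrCharacter G χ) :
    ∃ n : ℕ, 0 < n ∧ χ 1 = n ∧ n ∣ Nat.card G := by
  obtain ⟨n, ρ, hirr, rfl⟩ := hχ
  haveI := Fintype.ofFinite G
  haveI : ρ.IsIrreducible := hirr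
  refine ⟨finrank ℂ (Fin n → ℂ), finrank_pos_of_isIrreducible ρ, ?_, finrank_dvd_card ρ⟩
  exact Representation.char_one ρ

/-- `Cfsg.charDegree χ` is the natural number `χ 1` for a character. -/
theorem charDegree_eq_of_apply_one {χ : G → ℂ} {n : ℕ} (h : χ 1 = n) : Cfsg.charDegree χ = n := by
  unfold Cfsg.charDegree
  rw [h]
  simp

/-- The degree of an irreducible character divides the order of the group. -/
theorem charDegree_dvd_card (χ : G → ℂ) (hχ : Cfsg.IsIrrCharacter G χ) :
    Cfsg.charDegree χ ∣ Nat.card G := by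
  obtain ⟨n, _, h1, h2⟩ := irr_apply_one_dvd_card χ hχ
  rw [charDegree_eq_of_apply_one h1]
  exact h2

theorem charDegree_pos (χ : G → ℂ) (hχ : Cfsg.IsIrrCharacter G χ) :
    0 < Cfsg.charDegree χ := by
  obtain ⟨n, h0, h1, _⟩ := irr_apply_one_dvd_card χ hχ
  rw [charDegree_eq_of_apply_one h1]
  exact h0

theorem apply_one_eq_charDegree (χ : G → ℂ) (hχ : Cfsg.IsIrrCharacter G χ) :
    χ 1 = (Cfsg.charDegree χ : ℂ) := by
  obtain ⟨n, _, h1, _⟩ := irr_apply_one_dvd_card χ hχ
  rw [charDegree_eq_of_apply_one h1]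
  exact h1

end Cfsg

end Cfsg.Agent.Lib.H23
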