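import Mathlib
import Cfsg.Prelude.Def_Blocks
import Cfsg.Agent.Lib.H23.BlockVanish
import Cfsg.Agent.Lib.H23.DegreeDvd
import Cfsg.Agent.Lib.H4.CentRingA

/-!
# The order of a defect group (helper23)

* `isIntegral_average_char`: `|D|⁻¹ ∑_{u ∈ D} χ(g u)` is an algebraic integer when `g` centralizes
  the subgroup `D`;
* `card_defectGroup`: a defect group of the block `B` has order `p ^ d(B)`.
-/

set_option autoImplicit false

namespace Cfsg.Agent.Lib.H23

open Cfsg MonoidAlgebra
open scoped ComplexConjugate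

section Average

variable {G : Type*} [Group G] [Finite G]

theorem isIntegral_average_rep {n : ℕ} (ρ : Representation ℂ G (Fin n → ℂ)) (D : Subgroup G)
    [Fintype D] (g : G) (hg : ∀ u ∈ D, u * g = g * u) :
    IsIntegral ℤ ((Nat.card D : ℂ)⁻¹ * ∑ u : D, ρ.character (g * (u : G))) := by
  classical
  have hD0 : (Nat.card D : ℂ) ≠ 0 := by exact_mod_cast (Nat.card_pos (α := D)).ne'
  set a : Module.End ℂ (Fin n → ℂ) := ρ g with ha
  set E : Module.End ℂ (Fin n → ℂ) := (Nat.card D : ℂ)⁻¹ • ∑ u : D, ρ (u : G) with hE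
  have haint : IsIntegral ℤ a := by
    have ho : 0 < orderOf g := orderOf_pos g
    refine ⟨Polynomial.X ^ orderOf g - 1, Polynomial.monic_X_pow_sub_C 1 ho.ne', ?_⟩
    simp [ha, ← map_pow, pow_orderOf_eq_one]
  have hsum : ∀ u : D, ρ (u : G) * ∑ v : D, ρ (v : G) = ∑ v : D, ρ (v : G) := by
    intro u
    rw [Finset.mul_sum]
    refine Fintype.sum_equiv (Equiv.mulLeft u) _ _ (fun v => ?_)
    simp [map_mul]
  have he : E * E = E := by
    rw [hE, smul_mul_smul_comm, Finset.sum_mul]
    simp only [hsum]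
    rw [Finset.sum_const, Finset.card_univ, ← Nat.card_eq_fintype_card,
      ← Nat.cast_smul_eq_nsmul ℂ, smul_smul, mul_assoc, inv_mul_cancel₀ hD0, mul_one]
  have hc : a * E = E * a := by
    rw [hE, mul_smul_comm, smul_mul_assoc, Finset.mul_sum, Finset.sum_mul]
    congr 1
    refine Finset.sum_congr rfl (fun u _ => ?_)
    rw [ha, ← map_mul, ← map_mul, hg u u.2]
  have h1 := Cfsg.Agent.Lib.H4.CentRing.isIntegral_mul_idempotent a E haint he hc
  have h2 : IsIntegral ℤ (LinearMap.toMatrixAlgEquiv' (R := ℂ) (n := Fin n) (a * E)) :=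
    IsIntegral.map (LinearMap.toMatrixAlgEquiv' (R := ℂ) (n := Fin n)) h1
  have h3 := Cfsg.Agent.Lib.H4.CentRing.isIntegral_trace_of_isIntegral _ h2
  have h4 : (LinearMap.toMatrixAlgEquiv' (R := ℂ) (n := Fin n) (a * E)).trace =
      LinearMap.trace ℂ (Fin n → ℂ) (a * E) := by
    rw [LinearMap.trace_eq_matrix_trace ℂ (Pi.basisFun ℂ (Fin n))]
    rfl
  rw [h4] at h3
  convert h3 using 1
  rw [hE, mul_smul_comm, map_smul, smul_eq_mul, Finset.mul_sum (a := a), map_sum]
  congr 1
  refine Finset.sum_congr rfl (fun u _ => ?_)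
  rw [ha, ← map_mul]
  rfl

theorem isIntegral_average_char {χ : G → ℂ} (hχ : IsCharacter G χ) (D : Subgroup G)
    [Fintype D] (g : G) (hg : ∀ u ∈ D, u * g = g * u) :
    IsIntegral ℤ ((Nat.card D : ℂ)⁻¹ * ∑ u : D, χ (g * (u : G))) := by
  obtain ⟨n, ρ, rfl⟩ := hχ
  exact isIntegral_average_rep ρ D g hg

end Average

section Defect

variable {G : Type*} [Group G] [Fintype G] {p : ℕ} [Fact p.Prime] {M : Ideal AlgInt}

theorem isIntegral_conj {z : ℂ} (hz : IsIntegral ℤ z) : IsIntegral ℤ (conj z) := by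
  have := hz.map (Complex.conjAe.toAlgHom.restrictScalars ℤ)
  simpa using this

theorem irr_isIntegral (χ : IrrCharacter G) (g : G) : IsIntegral ℤ ((χ : G → ℂ) g) :=
  Cfsg.Agent.Lib.L0.isCharacter_isIntegral (Cfsg.Agent.Lib.L0.isCharacter_of_irr χ.2) g

/-- If the central character of `χ` at `g` is a unit modulo `M`, the `p`-part of the class size
of `g` divides `χ(1)`. -/
theorem index_factorization_le_of_centralChar (hM : IsPModular p M) (χ : IrrCharacter G) (g : G)
    (hω : ¬ MemLocalIdeal M (centralChar (χ : G → ℂ) g)) :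
    ((Subgroup.centralizer ({g} : Set G)).index).factorization p ≤
      (charDegree (χ : G → ℂ)).factorization p := by
  haveI hP := isPrime_of_isPModular hM
  have hp := prime_of_isPModular hM
  by_contra hlt
  rw [not_le] at hlt
  apply hω
  set k := (Subgroup.centralizer ({g} : Set G)).index with hk
  set c := charDegree (χ : G → ℂ) with hc
  have hcpos : 0 < c := charDegree_pos (χ : G → ℂ) χ.2
  have hχ1 : (χ : G → ℂ) 1 = (c : ℂ) := apply_one_eq_charDegree (χ : G → ℂ) χ.2
  have hk1 := Nat.ordProj_mul_ordCompl_eq_self k p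
  have hc1 := Nat.ordProj_mul_ordCompl_eq_self c p
  have hc' : ¬ p ∣ c / p ^ c.factorization p := Nat.not_dvd_ordCompl hp hcpos.ne'
  set νk := k.factorization p
  set νc := c.factorization p
  set k' := k / p ^ νk
  set c' := c / p ^ νc
  have hp0 : (p : ℂ) ≠ 0 := Nat.cast_ne_zero.2 hp.ne_zero
  have hc'0 : (c' : ℂ) ≠ 0 := by
    intro h0
    have : c' = 0 := by exact_mod_cast h0
    exact hc' (this ▸ dvd_zero p)
  obtain ⟨e, he⟩ : ∃ e, νk = νc + 1 + e := ⟨νk - νc - 1, by omega⟩
  have : centralChar (χ : G → ℂ) g =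
      (p : ℂ) * ((p : ℂ) ^ e * (k' : ℂ) * (χ : G → ℂ) g * (c' : ℂ)⁻¹) := by
    rw [centralChar, hχ1, ← hk, ← hk1, ← hc1, he]
    push_cast
    rw [pow_add, pow_add, pow_one]
    have hpc : (p : ℂ) ^ νc ≠ 0 := pow_ne_zero _ hp0
    field_simp
  rw [this]
  refine memLocalIdeal_mul_right (memLocalIdeal_p hM) ?_
  refine memLocalRing_mul (memLocalRing_mul (memLocalRing_mul ?_ ?_) ?_) ?_
  · exact memLocalRing_pow (natCast_mem_localRing p) _
  · exact natCast_mem_localRing k'
  · exact isIntegral_mem_localRing (irr_isIntegral χ g)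
  · exact memLocalRing_inv_natCast hM hc'

/-- If all degrees in the block are divisible by `p ^ j` and `g` is centralized by a `p`-subgroup
`D` with `j + ν(|D|) > ν(|G|)`, then the block idempotent coefficient at `g` lies in the local
ideal. -/
theorem blockCoeff_memLocalIdeal_of_pow_dvd (hM : IsPModular p M) (χ₀ : IrrCharacter G) (g : G)
    (D : Subgroup G) (hDp : IsPGroup p D) (hDg : ∀ u ∈ D, u * g = g * u) (j : ℕ)
    (hj : ∀ χ ∈ blockOf M (χ₀ : G → ℂ), p ^ j ∣ charDegree (χ : G → ℂ))
    (hlarge : (Nat.card G).factorization p < j + (Nat.card D).factorization p) :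
    MemLocalIdeal M (blockCoeff (blockOf M (χ₀ : G → ℂ)) g) := by
  classical
  haveI := Fintype.ofFinite (IrrCharacter G)
  haveI : Fintype D := Fintype.ofFinite D
  haveI hP := isPrime_of_isPModular hM
  have hp := prime_of_isPModular hM
  set B := blockOf M (χ₀ : G → ℂ) with hB
  by_cases hgreg : p ∣ orderOf g
  · rw [blockCoeff_eq_zero_of_dvd_orderOf hM χ₀ g hgreg]
    exact memLocalIdeal_zero hP.ne_top
  -- `β(g u) = 0` for `1 ≠ u ∈ D`
  have hvan : ∀ u : D, u ≠ 1 → blockCoeff B (g * (u : G)) = 0 := by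
    intro u hu
    apply blockCoeff_eq_zero_of_dvd_orderOf hM χ₀
    obtain ⟨k, hk⟩ := (IsPGroup.iff_orderOf.1 hDp) u
    have hk' : orderOf (u : G) = p ^ k := by rw [Subgroup.orderOf_coe, hk]
    have hk0 : k ≠ 0 := by
      rintro rfl
      rw [pow_zero, orderOf_eq_one_iff] at hk
      exact hu hk
    have hcomm : Commute g (u : G) := (hDg u u.2).symm
    have hcop : (orderOf g).Coprime (orderOf (u : G)) := by
      rw [hk']
      exact Nat.Coprime.pow_right k ((Nat.Prime.coprime_iff_not_dvd hp).2 hgreg).symm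
    rw [hcomm.orderOf_mul_eq_mul_orderOf_of_coprime hcop, hk']
    exact dvd_mul_of_dvd_right (dvd_pow_self p hk0) _
  have hsum : ∑ u : D, blockCoeff B (g * (u : G)) = blockCoeff B g := by
    rw [Finset.sum_eq_single (1 : D)]
    · simp
    · intro u _ hu
      exact hvan u hu
    · intro h
      exact absurd (Finset.mem_univ _) h
  rw [← hsum]
  -- expand
  have hG0 : Nat.card G ≠ 0 := Nat.card_pos.ne'
  have hD0 : Nat.card D ≠ 0 := Nat.card_pos.ne'
  set a := (Nat.card G).factorization p with ha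
  set d := (Nat.card D).factorization p with hd
  have hDcard : Nat.card D = p ^ d := by
    obtain ⟨k, hk⟩ := IsPGroup.iff_card.1 hDp
    rw [hd, hk, Nat.Prime.factorization_pow hp]
    simp
  have hGcard := Nat.ordProj_mul_ordCompl_eq_self (Nat.card G) p
  have hm' : ¬ p ∣ Nat.card G / p ^ a := Nat.not_dvd_ordCompl hp hG0
  set m := Nat.card G / p ^ a with hm
  have hp0 : (p : ℂ) ≠ 0 := Nat.cast_ne_zero.2 hp.ne_zero
  have hm0 : (m : ℂ) ≠ 0 := by
    intro h0
    have : m = 0 := by exact_mod_cast h0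
    exact hm' (this ▸ dvd_zero p)
  have hterm : ∑ u : D, blockCoeff B (g * (u : G)) =
      ∑ χ : IrrCharacter G, if χ ∈ B then
        (p : ℂ) * ((p : ℂ) ^ (j + d - a - 1) * (m : ℂ)⁻¹ *
          ((charDegree (χ : G → ℂ) / p ^ j : ℕ) : ℂ) *
          conj ((Nat.card D : ℂ)⁻¹ * ∑ u : D, (χ : G → ℂ) (g * (u : G)))) else 0 := by
    simp only [blockCoeff_eq_sum]
    simp only [Finset.mul_sum]
    rw [Finset.sum_comm]
    refine Finset.sum_congr rfl (fun χ _ => ?_)
    by_cases hχ : χ ∈ B
    · simp only [if_pos hχ]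
      obtain ⟨c', hc'⟩ := hj χ hχ
      have hχ1 : (χ : G → ℂ) 1 = (charDegree (χ : G → ℂ) : ℂ) :=
        apply_one_eq_charDegree (χ : G → ℂ) χ.2
      have hdiv : charDegree (χ : G → ℂ) / p ^ j = c' := by
        rw [hc']; exact Nat.mul_div_cancel_left c' (pow_pos hp.pos j)
      rw [hdiv]
      have hL : ∑ u : D, (Nat.card G : ℂ)⁻¹ * ((χ : G → ℂ) 1 *
          conj ((χ : G → ℂ) (g * (u : G)))) =
          ((Nat.card G : ℂ)⁻¹ * (χ : G → ℂ) 1) *
            ∑ u : D, conj ((χ : G → ℂ) (g * (u : G))) := by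
        rw [Finset.mul_sum]
        refine Finset.sum_congr rfl (fun u _ => ?_)
        ring
      have hR : (p : ℂ) * ((p : ℂ) ^ (j + d - a - 1) * (m : ℂ)⁻¹ * (c' : ℂ) *
          conj (∑ u : D, (Nat.card D : ℂ)⁻¹ * (χ : G → ℂ) (g * (u : G)))) =
          ((p : ℂ) * (p : ℂ) ^ (j + d - a - 1) * (m : ℂ)⁻¹ * (c' : ℂ) * (Nat.card D : ℂ)⁻¹) *
            ∑ u : D, conj ((χ : G → ℂ) (g * (u : G))) := by
        rw [← Finset.mul_sum, map_mul, map_inv₀, Complex.conj_natCast, map_sum]
        ring
      rw [hL, hR]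
      congr 1
      rw [hχ1, hc', hDcard, ← hGcard]
      obtain ⟨e', he'⟩ : ∃ e', j + d = a + 1 + e' := ⟨j + d - a - 1, by omega⟩
      have he'' : j + d - a - 1 = e' := by omega
      rw [he'']
      have hpow : (p : ℂ) ^ j * (p : ℂ) ^ d = (p : ℂ) ^ a * (p : ℂ) * (p : ℂ) ^ e' := by
        rw [← pow_add, he', pow_add, pow_add, pow_one]
      push_cast
      have hpd : (p : ℂ) ^ d ≠ 0 := pow_ne_zero _ hp0
      have hpa : (p : ℂ) ^ a ≠ 0 := pow_ne_zero _ hp0
      field_simp
      linear_combination (c' : ℂ) * hpow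
    · simp [if_neg hχ]
  rw [hterm]
  refine memLocalIdeal_sum _ _ (fun χ _ => ?_)
  split_ifs with hχ
  · refine memLocalIdeal_mul_right (memLocalIdeal_p hM) ?_
    refine memLocalRing_mul (memLocalRing_mul (memLocalRing_mul ?_ ?_) ?_) ?_
    · exact memLocalRing_pow (natCast_mem_localRing p) _
    · exact memLocalRing_inv_natCast hM hm'
    · exact natCast_mem_localRing _
    · exact isIntegral_mem_localRing (isIntegral_conj
        (isIntegral_average_char (Cfsg.Agent.Lib.L0.isCharacter_of_irr χ.2) D g hDg))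
  · exact memLocalIdeal_zero hP.ne_top

/-- A defect group of a block `B` has order `p ^ d(B)`. -/
theorem card_defectGroup (hM : IsPModular p M) (χ₀ : IrrCharacter G) (D : Subgroup G)
    (hD : IsDefectGroup p M (blockOf M (χ₀ : G → ℂ)) D) :
    Nat.card D = p ^ blockDefect p (blockOf M (χ₀ : G → ℂ)) := by
  classical
  haveI hP := isPrime_of_isPModular hM
  have hp := prime_of_isPModular hM
  set B := blockOf M (χ₀ : G → ℂ) with hB
  obtain ⟨g, ⟨hβS, hβP, hω⟩, P, rfl⟩ := hD
  have hcardD : Nat.card ((P : Subgroup (Subgroup.centralizer ({g} : Set G))).map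
      (Subgroup.centralizer ({g} : Set G)).subtype) =
      p ^ (Nat.card (Subgroup.centralizer ({g} : Set G))).factorization p := by
    rw [Subgroup.card_map_of_injective (Subgroup.subtype_injective _), Sylow.card_eq_multiplicity]
  set d := (Nat.card (Subgroup.centralizer ({g} : Set G))).factorization p with hd
  set a := (Nat.card G).factorization p with ha
  set i := (Subgroup.centralizer ({g} : Set G)).index.factorization p with hi
  have hC0 : Nat.card (Subgroup.centralizer ({g} : Set G)) ≠ 0 := Nat.card_pos.ne'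
  have hidx0 : (Subgroup.centralizer ({g} : Set G)).index ≠ 0 := by
    intro h0
    have := Subgroup.index_mul_card (Subgroup.centralizer ({g} : Set G))
    rw [h0, zero_mul] at this
    exact (Nat.card_pos (α := G)).ne' this.symm
  have hai : a = i + d := by
    rw [ha, ← Subgroup.index_mul_card (Subgroup.centralizer ({g} : Set G)),
      Nat.factorization_mul hidx0 hC0]
    rfl
  have h1 : ∀ χ ∈ B, i ≤ (charDegree (χ : G → ℂ)).factorization p := fun χ hχ =>
    index_factorization_le_of_centralChar hM χ g (hω χ hχ)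
  have h2 : ∃ χ ∈ B, (charDegree (χ : G → ℂ)).factorization p ≤ i := by
    by_contra hcon
    have hall : ∀ χ ∈ B, p ^ (i + 1) ∣ charDegree (χ : G → ℂ) := by
      intro χ hχ
      have hlt : i + 1 ≤ (charDegree (χ : G → ℂ)).factorization p := by
        by_contra hle
        exact hcon ⟨χ, hχ, by omega⟩
      exact (pow_dvd_pow p hlt).trans (Nat.ordProj_dvd _ p)
    apply hβP
    refine blockCoeff_memLocalIdeal_of_pow_dvd hM χ₀ g
      ((P : Subgroup (Subgroup.centralizer ({g} : Set G))).map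
        (Subgroup.centralizer ({g} : Set G)).subtype)
      (P.isPGroup'.map _) ?_ (i + 1) hall ?_
    · rintro u ⟨c, -, rfl⟩
      have := Subgroup.mem_centralizer_iff.1 c.2
      exact (this g rfl).symm
    · rw [hcardD, Nat.Prime.factorization_pow hp]
      simp only [Finsupp.single_eq_same]
      omega
  have hVne : ((fun χ : IrrCharacter G =>
      (charDegree (χ : G → ℂ)).factorization p) '' B).Nonempty :=
    ⟨_, χ₀, mem_blockOf_self χ₀, rfl⟩
  have hinf : sInf ((fun χ : IrrCharacter G => (charDegree (χ : G → ℂ)).factorization p) '' B)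
      = i := by
    apply le_antisymm
    · obtain ⟨χ, hχ, hle⟩ := h2
      refine (Nat.sInf_le (Set.mem_image_of_mem _ hχ)).trans hle
    · obtain ⟨χ, hχ, hχe⟩ := Nat.sInf_mem hVne
      rw [← hχe]
      exact h1 χ hχ
  rw [hcardD, blockDefect, hinf, ← ha, hai]
  congr 1
  omega

end Defect

end Cfsg.Agent.Lib.H23
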