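import Mathlib
import Cfsg.Prelude.Def_Blocks
import Cfsg.Agent.Lib.H23.BlockIdem
import Cfsg.Agent.Lib.H23.BlockNecklace
import Cfsg.Agent.Lib.H23.BlockDefect

/-!
# The min-max theorem for defect classes (helper23)

* `exists_pow_coeff_div`: a central element whose central character values all lie in the local
  ideal has a power with all coefficients divisible by `p`.
* `sum_memLocalIdeal_of_no_fixed`: fixed point lemma for conjugation-invariant sums.
* `exists_conj_centralized`: if `β_B(k) ∉ P` and `ω_χ(l) ∉ P` for some `χ ∈ B`, then every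
  `p`-subgroup of `C(k)` centralizes a conjugate of `l`.
-/

set_option autoImplicit false

namespace Cfsg.Agent.Lib.H23

open Cfsg MonoidAlgebra
open scoped ComplexConjugate

section NilCoeff

variable {G : Type*} [Group G] [Fintype G] {p : ℕ} {M : Ideal AlgInt}

/-- A central element all of whose central character values lie in the local ideal has a power
whose coefficients are all divisible by `p` in the local ring. -/
theorem exists_pow_coeff_div (hM : IsPModular p M) {z : MonoidAlgebra ℂ G}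
    (hz : z ∈ Subalgebra.center ℂ (MonoidAlgebra ℂ G))
    (hω : ∀ ψ : IrrCharacter G, MemLocalIdeal M (omega (ψ : G → ℂ) z)) :
    ∃ N : ℕ, 0 < N ∧ ∀ g, MemLocalRing M ((z ^ N).coeff g / p) := by
  classical
  haveI hP := isPrime_of_isPModular hM
  haveI := Fintype.ofFinite (IrrCharacter G)
  have hp := prime_of_isPModular hM
  have hp0 : (p : ℂ) ≠ 0 := Nat.cast_ne_zero.2 hp.ne_zero
  obtain ⟨v, c, hc, hcard⟩ := Nat.exists_eq_pow_mul_and_not_dvd
    (Nat.card_pos (α := G)).ne' p hp.ne_one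
  have hc0 : (c : ℂ) ≠ 0 := by
    rw [Nat.cast_ne_zero]
    rintro rfl
    exact hc (dvd_zero p)
  choose N₀ hN₀ using fun ψ : IrrCharacter G => exists_pow_div hM (hω ψ) (v + 1)
  set N' := Finset.univ.sup N₀ with hN'
  refine ⟨p ^ N', pow_pos hp.pos _, ?_⟩
  intro g
  have hzN : z ^ (p ^ N') ∈ Subalgebra.center ℂ (MonoidAlgebra ℂ G) := Subalgebra.pow_mem _ hz _
  rw [coeff_eq_sum_omega hzN g]
  have hrew : ((Nat.card G : ℂ)⁻¹ * ∑ χ : IrrCharacter G, omega (χ : G → ℂ) (z ^ p ^ N') *
      ((χ : G → ℂ) 1 * conj ((χ : G → ℂ) g))) / (p : ℂ) =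
      (c : ℂ)⁻¹ * ∑ χ : IrrCharacter G, (omega (χ : G → ℂ) z ^ p ^ N' / (p : ℂ) ^ (v + 1)) *
      ((χ : G → ℂ) 1 * conj ((χ : G → ℂ) g)) := by
    rw [hcard]
    push_cast
    rw [Finset.mul_sum, Finset.mul_sum, Finset.sum_div]
    refine Finset.sum_congr rfl ?_
    intro χ _
    rw [omega_pow χ.2 hz, pow_succ]
    field_simp
  rw [hrew]
  refine memLocalRing_mul (memLocalRing_inv_natCast hM hc) ?_
  refine memLocalRing_sum _ _ (fun χ _ => ?_)
  refine memLocalRing_mul (hN₀ χ N' (Finset.le_sup (Finset.mem_univ χ))) ?_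
  refine isIntegral_mem_localRing ?_
  exact (irr_isIntegral χ 1).mul (isIntegral_conj (irr_isIntegral χ g))

end NilCoeff

section FixedPoint

variable {G : Type*} [Group G] {p : ℕ} {M : Ideal AlgInt}

/-- Fixed point lemma: a `p`-group `Q` acts by conjugation on a finite stable set `K` without
fixed points; then any `Q`-invariant sum of local integers over `K` lies in the local ideal. -/
theorem sum_memLocalIdeal_of_no_fixed (hM : IsPModular p M) (Q : Subgroup G) (hQ : IsPGroup p Q)
    (K : Finset G) (hK : ∀ u ∈ Q, ∀ x ∈ K, u * x * u⁻¹ ∈ K)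
    (f : G → ℂ) (hf : ∀ x ∈ K, MemLocalRing M (f x))
    (hinv : ∀ u ∈ Q, ∀ x ∈ K, f (u * x * u⁻¹) = f x)
    (hfix : ∀ x ∈ K, ¬ Q ≤ Subgroup.centralizer ({x} : Set G)) :
    MemLocalIdeal M (∑ x ∈ K, f x) := by
  classical
  haveI hP := isPrime_of_isPModular hM
  haveI : Fact p.Prime := ⟨prime_of_isPModular hM⟩
  letI : MulAction Q {x // x ∈ K} :=
    { smul := fun u x => ⟨(u : G) * x * (u : G)⁻¹, hK u u.2 x x.2⟩
      one_smul := by
        intro x
        apply Subtype.ext
        show ((1 : Q) : G) * x * ((1 : Q) : G)⁻¹ = x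
        simp
      mul_smul := by
        intro u v x
        apply Subtype.ext
        show ((u * v : Q) : G) * x * ((u * v : Q) : G)⁻¹ =
          (u : G) * ((v : G) * x * (v : G)⁻¹) * (u : G)⁻¹
        simp [mul_assoc] }
  have hsm : ∀ (u : Q) (x : {x // x ∈ K}),
      ((u • x : {x // x ∈ K}) : G) = (u : G) * x * (u : G)⁻¹ := fun u x => rfl
  rw [← Finset.sum_coe_sort K f]
  obtain ⟨s, hs, hsum⟩ := exists_sum_eq_mul_of_orbit_card_dvd (Γ := Q)
    (localRing M).toAddSubgroup (fun x : {x // x ∈ K} => f (x : G))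
    (fun x => hf x x.2)
    (by
      intro u x
      show f ((u • x : {x // x ∈ K}) : G) = f x
      rw [hsm]
      exact hinv u u.2 x x.2)
    p
    (by
      intro x _
      obtain ⟨n, hn⟩ := hQ.card_orbit x
      rw [hn]
      rcases Nat.eq_zero_or_pos n with h0 | hpos
      · exfalso
        rw [h0, pow_zero, Nat.card_eq_fintype_card,
          ← MulAction.mem_fixedPoints_iff_card_orbit_eq_one] at hn
        apply hfix x x.2
        intro u hu
        rw [Subgroup.mem_centralizer_singleton_iff]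
        have := congrArg Subtype.val (hn ⟨u, hu⟩)
        rw [hsm] at this
        have h2 : u * (x : G) * u⁻¹ = x := this
        calc u * (x : G) = (u * (x : G) * u⁻¹) * u := by group
          _ = (x : G) * u := by rw [h2]
      · exact dvd_pow_self p hpos.ne')
  rw [hsum]
  exact memLocalIdeal_mul_right (memLocalIdeal_p hM) hs

end FixedPoint

section MinMax

variable {G : Type*} [Group G] [Fintype G] {p : ℕ} {M : Ideal AlgInt}

/-- **Min-max core.** If `β_B(k) ∉ P` and `ω_χ(l) ∉ P` for some `χ ∈ B`, then every `p`-subgroup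
of `C(k)` centralizes some conjugate of `l`. -/
theorem exists_conj_centralized (hM : IsPModular p M) (χ₀ : IrrCharacter G) (k l : G)
    (hβ : ¬ MemLocalIdeal M (blockCoeff (blockOf M (χ₀ : G → ℂ)) k))
    (χ : IrrCharacter G) (hχ : χ ∈ blockOf M (χ₀ : G → ℂ))
    (hω : ¬ MemLocalIdeal M (centralChar (χ : G → ℂ) l))
    (Q : Subgroup G) (hQ : IsPGroup p Q) (hQk : Q ≤ Subgroup.centralizer ({k} : Set G)) :
    ∃ x, IsConj l x ∧ Q ≤ Subgroup.centralizer ({x} : Set G) := by
  classical
  haveI hP := isPrime_of_isPModular hM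
  haveI := Fintype.ofFinite (IrrCharacter G)
  have hp := prime_of_isPModular hM
  have hp0 : (p : ℂ) ≠ 0 := Nat.cast_ne_zero.2 hp.ne_zero
  set B := blockOf M (χ₀ : G → ℂ) with hB
  set e := blockIdem B with he
  have hec : e ∈ Subalgebra.center ℂ (MonoidAlgebra ℂ G) := blockIdem_mem_center B
  have hei : e ∈ intCoeff (G := G) M := fun g => blockIdem_memLocalRing hM χ₀ g
  have hee : e * e = e := blockIdem_mul_self B
  set L := classSum l with hL
  have hLc : L ∈ Subalgebra.center ℂ (MonoidAlgebra ℂ G) := classSum_mem_center l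
  have hLi : L ∈ intCoeff (G := G) M := classSum_mem_intCoeff l
  set a := centralChar (χ : G → ℂ) l with ha
  have haS : MemLocalRing M a := coe_mem_localRing (omegaInt χ l)
  have ha0 : a ≠ 0 := ne_zero_of_not_memLocalIdeal hω
  have hainv : MemLocalRing M a⁻¹ := memLocalRing_inv haS hω
  have h1c : (1 : MonoidAlgebra ℂ G) ∈ Subalgebra.center ℂ (MonoidAlgebra ℂ G) :=
    Subalgebra.one_mem _
  have hLac : L - a • (1 : MonoidAlgebra ℂ G) ∈ Subalgebra.center ℂ (MonoidAlgebra ℂ G) :=
    Subalgebra.sub_mem _ hLc (Subalgebra.smul_mem _ h1c a)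
  have hLai : L - a • (1 : MonoidAlgebra ℂ G) ∈ intCoeff (G := G) M :=
    Subring.sub_mem _ hLi (smul_mem_intCoeff haS (Subring.one_mem _))
  set n := (L - a • (1 : MonoidAlgebra ℂ G)) * e with hn
  have hnc : n ∈ Subalgebra.center ℂ (MonoidAlgebra ℂ G) := Subalgebra.mul_mem _ hLac hec
  have hni : n ∈ intCoeff (G := G) M := Subring.mul_mem _ hLai hei
  have hne : n * e = n := by rw [hn, mul_assoc, hee]
  have hnω : ∀ ψ : IrrCharacter G, MemLocalIdeal M (omega (ψ : G → ℂ) n) := by
    intro ψ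
    rw [hn, omega_mul ψ.2 hLac e, omega_blockIdem]
    split_ifs with hψ
    · rw [mul_one, omega_sub, omega_smul, omega_one (irr_one_ne_zero' ψ.2), mul_one,
        omega_classSum (Cfsg.Agent.Lib.H24.irr_isClassFunction ψ)]
      have h1 : SameBlock M (χ : G → ℂ) (ψ : G → ℂ) :=
        sameBlock_trans (sameBlock_symm hχ) hψ
      have := memLocalIdeal_neg (h1 l)
      rwa [neg_sub] at this
    · rw [mul_zero]
      exact memLocalIdeal_zero hP.ne_top
  obtain ⟨N, hNpos, hN⟩ := exists_pow_coeff_div hM hnc hnω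
  set u := (-a⁻¹) • n with hu
  have huc : u ∈ Subalgebra.center ℂ (MonoidAlgebra ℂ G) := Subalgebra.smul_mem _ hnc _
  have hui : u ∈ intCoeff (G := G) M := smul_mem_intCoeff (memLocalRing_neg hainv) hni
  have hue : u * e = u := by rw [hu, smul_mul_assoc, hne]
  have heu : e * u = u := (Subalgebra.mem_center_iff.1 hec u).symm.trans hue
  have huN : ∀ g, MemLocalRing M ((u ^ N).coeff g / p) := by
    intro g
    rw [hu, smul_pow, MonoidAlgebra.coeff_smul, Finsupp.coe_smul, Pi.smul_apply, smul_eq_mul,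
      mul_div_assoc]
    exact memLocalRing_mul (memLocalRing_pow (memLocalRing_neg hainv) N) (hN g)
  have heuN : e * u ^ N = u ^ N := by
    obtain ⟨N', rfl⟩ : ∃ N', N = N' + 1 := ⟨N - 1, by omega⟩
    rw [pow_succ', ← mul_assoc, heu]
  set gs := ∑ i ∈ Finset.range N, u ^ i with hgs
  have hgsc : gs ∈ Subalgebra.center ℂ (MonoidAlgebra ℂ G) :=
    Subalgebra.sum_mem _ (fun i _ => Subalgebra.pow_mem _ huc i)
  have hgsi : gs ∈ intCoeff (G := G) M :=
    Subring.sum_mem _ (fun i _ => Subring.pow_mem _ hui i)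
  have hgeom : (e - u) * gs = e - u ^ N := by
    have h1 : e - u = e * (1 - u) := by rw [mul_sub, mul_one, heu]
    rw [h1, mul_assoc, mul_neg_geom_sum, mul_sub, mul_one, heuN]
  have hLe : L * e = a • (e - u) := by
    have h1 : a • u = -n := by
      rw [hu, smul_smul, mul_neg, mul_inv_cancel₀ ha0, neg_smul, one_smul]
    rw [smul_sub, h1, sub_neg_eq_add, hn, sub_mul, smul_mul_assoc, one_mul]
    abel
  set y := a⁻¹ • (e * gs) with hy
  have hyc : y ∈ Subalgebra.center ℂ (MonoidAlgebra ℂ G) :=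
    Subalgebra.smul_mem _ (Subalgebra.mul_mem _ hec hgsc) _
  have hyi : y ∈ intCoeff (G := G) M := smul_mem_intCoeff hainv (Subring.mul_mem _ hei hgsi)
  have hkey : L * y = e - u ^ N := by
    rw [hy, mul_smul_comm, ← mul_assoc, hLe, smul_mul_assoc, smul_smul, inv_mul_cancel₀ ha0,
      one_smul, hgeom]
  have hcoef : e.coeff k = (L * y).coeff k + (u ^ N).coeff k := by
    rw [hkey]
    simp
  have h1 : ¬ MemLocalIdeal M ((L * y).coeff k) := by
    intro h
    apply hβ
    show MemLocalIdeal M (e.coeff k)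
    rw [hcoef]
    refine memLocalIdeal_add h ?_
    have : (u ^ N).coeff k = (p : ℂ) * ((u ^ N).coeff k / p) := by field_simp
    rw [this]
    exact memLocalIdeal_mul_right (memLocalIdeal_p hM) (huN k)
  have h2 : (L * y).coeff k = ∑ x ∈ conjFinset l, y.coeff (x⁻¹ * k) := by
    rw [coeff_mul_eq_sum]
    simp only [hL, coeff_classSum, ite_mul, one_mul, zero_mul]
    rw [← Finset.sum_filter]
    rfl
  rw [h2] at h1
  by_contra hcon
  apply h1
  refine sum_memLocalIdeal_of_no_fixed hM Q hQ (conjFinset l) ?_ (fun x => y.coeff (x⁻¹ * k))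
    (fun x _ => hyi _) ?_ ?_
  · intro v _ x hx
    rw [mem_conjFinset] at hx ⊢
    exact hx.trans (isConj_iff.2 ⟨v, rfl⟩)
  · intro v hv x _
    have hvk : v * k = k * v := Subgroup.mem_centralizer_singleton_iff.1 (hQk hv)
    have : (v * x * v⁻¹)⁻¹ * k = v * (x⁻¹ * k) * v⁻¹ := by
      have hk' : k = v * k * v⁻¹ := by rw [hvk]; group
      conv_lhs => rw [hk']
      group
    show y.coeff ((v * x * v⁻¹)⁻¹ * k) = y.coeff (x⁻¹ * k)
    rw [this]
    exact coeff_conj_of_mem_center hyc _ _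
  · intro x hx hQx
    exact hcon ⟨x, mem_conjFinset.1 hx, hQx⟩

end MinMax

section SylowCentralizer

variable {G : Type*} [Group G] {p : ℕ}

/-- A `p`-subgroup centralizing a conjugate of `l` lies in a conjugate of a Sylow `p`-subgroup
of `C(l)`. -/
theorem exists_sylow_centralizer_conj {l x : G} (Q : Subgroup G) (hQ : IsPGroup p Q)
    (hx : IsConj l x) (hQx : Q ≤ Subgroup.centralizer ({x} : Set G)) :
    ∃ (c : G) (R : Sylow p (Subgroup.centralizer ({l} : Set G))),
      Q ≤ ((R : Subgroup (Subgroup.centralizer ({l} : Set G))).map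
        (Subgroup.centralizer ({l} : Set G)).subtype).map (MulAut.conj c).toMonoidHom := by
  obtain ⟨c, rfl⟩ := isConj_iff.1 hx
  set Q' := Q.map (MulAut.conj c⁻¹).toMonoidHom with hQ'
  have hQ'l : Q' ≤ Subgroup.centralizer ({l} : Set G) := by
    rintro _ ⟨q, hq, rfl⟩
    have h1 := Subgroup.mem_centralizer_singleton_iff.1 (hQx hq)
    rw [Subgroup.mem_centralizer_singleton_iff]
    simp only [MulEquiv.coe_toMonoidHom, MulAut.conj_apply, inv_inv]
    calc c⁻¹ * q * c * l = c⁻¹ * (q * (c * l * c⁻¹)) * c := by group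
      _ = c⁻¹ * ((c * l * c⁻¹) * q) * c := by rw [h1]
      _ = l * (c⁻¹ * q * c) := by group
  have hQ'p : IsPGroup p Q' := hQ.map _
  have hsub : IsPGroup p (Q'.subgroupOf (Subgroup.centralizer ({l} : Set G))) :=
    hQ'p.comap_subtype
  obtain ⟨R, hR⟩ := hsub.exists_le_sylow
  refine ⟨c, R, ?_⟩
  intro q hq
  have hq' : c⁻¹ * q * c ∈ Q' := by
    refine ⟨q, hq, ?_⟩
    simp [MulAut.conj_apply]
  rw [Subgroup.mem_map]
  refine ⟨c⁻¹ * q * c, ?_, ?_⟩
  · rw [Subgroup.mem_map]
    exact ⟨⟨c⁻¹ * q * c, hQ'l hq'⟩, hR (Subgroup.mem_subgroupOf.2 hq'), rfl⟩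
  · simp only [MulEquiv.coe_toMonoidHom, MulAut.conj_apply]
    group

/-- Two Sylow `p`-subgroups of a subgroup `C`, viewed in `G`, are conjugate. -/
theorem sylow_map_conj [Finite G] [Fact p.Prime] (C : Subgroup G) (D R : Sylow p C) :
    ∃ d : G, (R : Subgroup C).map C.subtype =
      ((D : Subgroup C).map C.subtype).map (MulAut.conj d).toMonoidHom := by
  obtain ⟨d, hd⟩ := MulAction.exists_smul_eq C D R
  refine ⟨(d : G), ?_⟩
  rw [← hd]
  ext y
  simp only [Subgroup.mem_map, Sylow.pointwise_smul_def, Subgroup.mem_smul_pointwise_iff_exists,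
    MulAut.smul_def, MulAut.conj_apply, MulEquiv.coe_toMonoidHom, Subgroup.coe_subtype,
    exists_exists_and_eq_and]
  constructor
  · rintro ⟨_, ⟨s, hs, rfl⟩, rfl⟩
    exact ⟨s, hs, by simp⟩
  · rintro ⟨s, hs, rfl⟩
    exact ⟨d * s * d⁻¹, ⟨s, hs, rfl⟩, by simp⟩

theorem map_conj_map_conj (H : Subgroup G) (c d : G) :
    (H.map (MulAut.conj d).toMonoidHom).map (MulAut.conj c).toMonoidHom =
      H.map (MulAut.conj (c * d)).toMonoidHom := by
  rw [Subgroup.map_map]
  congr 1
  ext y
  simp [MulAut.conj_apply, mul_assoc]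

end SylowCentralizer

end Cfsg.Agent.Lib.H23
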