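import Mathlib
import Cfsg.Prelude.Def_Blocks
import Cfsg.Agent.Lib.H23.BlockMinMax

/-!
# Functionals on the centre that are multiplicative modulo the local ideal (helper23)

* `blockOf_eq_of_mem`, `sum_blockIdem_eq_one`.
* `exists_block_of_hom`: a linear functional `μ` on `ℂ[G]` which on central elements with
  local-integer coefficients takes local-integer values, is multiplicative modulo the local ideal
  and has `μ 1 ≡ 1`, agrees modulo the local ideal with `ω_χ₀` for some irreducible `χ₀`.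
-/

set_option autoImplicit false

namespace Cfsg.Agent.Lib.H23

open Cfsg MonoidAlgebra
open scoped ComplexConjugate

section Blocks

variable {G : Type*} [Group G] [Fintype G] {p : ℕ} {M : Ideal AlgInt}

theorem blockOf_eq_of_mem [hP : M.IsPrime] {χ ψ : IrrCharacter G}
    (h : ψ ∈ blockOf M (χ : G → ℂ)) : blockOf M (ψ : G → ℂ) = blockOf M (χ : G → ℂ) := by
  ext φ
  constructor
  · intro h1
    exact sameBlock_trans (M := M) h h1
  · intro h1
    exact sameBlock_trans (M := M) (sameBlock_symm h) h1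

open scoped Classical in
theorem sum_blockIdem_eq_one [Fintype (IrrCharacter G)] [hP : M.IsPrime] :
    ∑ B ∈ (Finset.univ.image (fun χ : IrrCharacter G => blockOf M (χ : G → ℂ))),
      blockIdem B = (1 : MonoidAlgebra ℂ G) := by
  refine eq_of_forall_omega_eq
    (Subalgebra.sum_mem _ (fun B _ => blockIdem_mem_center B)) (Subalgebra.one_mem _) ?_
  intro ψ
  rw [omega_sum, omega_one (irr_one_ne_zero' ψ.2)]
  simp only [omega_blockIdem]
  rw [Finset.sum_eq_single (blockOf M (ψ : G → ℂ))]
  · rw [if_pos (mem_blockOf_self ψ)]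
  · intro B hB hne
    rw [if_neg]
    intro hψ
    apply hne
    obtain ⟨χ, _, rfl⟩ := Finset.mem_image.1 hB
    exact (blockOf_eq_of_mem hψ).symm
  · intro h
    exact absurd (Finset.mem_image.2 ⟨ψ, Finset.mem_univ _, rfl⟩) h

theorem memLocalIdeal_of_pow [hP : M.IsPrime] {a : ℂ} (ha : MemLocalRing M a) {N : ℕ}
    (h : MemLocalIdeal M (a ^ N)) : MemLocalIdeal M a := by
  by_contra hna
  have : ∀ j : ℕ, ¬ MemLocalIdeal M (a ^ j) := by
    intro j
    induction j with
    | zero => rw [pow_zero]; exact not_memLocalIdeal_one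
    | succ j ih => rw [pow_succ]; exact not_memLocalIdeal_mul (memLocalRing_pow ha j) ih hna
  exact this N h

/-- A functional on the centre which is a ring homomorphism modulo the local ideal comes from a
block. -/
theorem exists_block_of_hom [hP : M.IsPrime] (hM : IsPModular p M)
    (μ : MonoidAlgebra ℂ G →ₗ[ℂ] ℂ)
    (hS : ∀ z ∈ Subalgebra.center ℂ (MonoidAlgebra ℂ G), z ∈ intCoeff (G := G) M →
      MemLocalRing M (μ z))
    (hmul : ∀ z ∈ Subalgebra.center ℂ (MonoidAlgebra ℂ G), z ∈ intCoeff (G := G) M →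
      ∀ w ∈ Subalgebra.center ℂ (MonoidAlgebra ℂ G), w ∈ intCoeff (G := G) M →
      MemLocalIdeal M (μ (z * w) - μ z * μ w))
    (hone : MemLocalIdeal M (μ 1 - 1)) :
    ∃ χ₀ : IrrCharacter G, ∀ z ∈ Subalgebra.center ℂ (MonoidAlgebra ℂ G),
      z ∈ intCoeff (G := G) M → MemLocalIdeal M (μ z - omega (χ₀ : G → ℂ) z) := by
  classical
  haveI := Fintype.ofFinite (IrrCharacter G)
  have hp0 : (p : ℂ) ≠ 0 := Nat.cast_ne_zero.2 (prime_of_isPModular hM).ne_zero
  -- some block idempotent has μ outside the local ideal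
  have hex : ∃ χ₀ : IrrCharacter G,
      ¬ MemLocalIdeal M (μ (blockIdem (blockOf M (χ₀ : G → ℂ)))) := by
    by_contra hall
    have hall' : ∀ χ₀ : IrrCharacter G,
        MemLocalIdeal M (μ (blockIdem (blockOf M (χ₀ : G → ℂ)))) := by
      intro χ₀
      by_contra h
      exact hall ⟨χ₀, h⟩
    have h1 : MemLocalIdeal M (μ 1) := by
      rw [← sum_blockIdem_eq_one (M := M), map_sum]
      refine memLocalIdeal_sum _ _ (fun B hB => ?_)
      obtain ⟨χ, _, rfl⟩ := Finset.mem_image.1 hB
      exact hall' χ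
    have h2 := memLocalIdeal_sub h1 hone
    rw [sub_sub_cancel] at h2
    exact not_memLocalIdeal_one h2
  obtain ⟨χ₀, hχ₀⟩ := hex
  refine ⟨χ₀, ?_⟩
  set e := blockIdem (blockOf M (χ₀ : G → ℂ)) with he
  have hec : e ∈ Subalgebra.center ℂ (MonoidAlgebra ℂ G) := blockIdem_mem_center _
  have hei : e ∈ intCoeff (G := G) M := fun g => blockIdem_memLocalRing hM χ₀ g
  have hee : e * e = e := blockIdem_mul_self _
  have hμe : MemLocalIdeal M (μ e - 1) := by
    have h1 := hmul e hec hei e hec hei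
    rw [hee] at h1
    have h2 : μ e * (μ e - 1) = -(μ e - μ e * μ e) := by ring
    have h3 : MemLocalIdeal M (μ e * (μ e - 1)) := by
      rw [h2]; exact memLocalIdeal_neg h1
    exact memLocalIdeal_of_mul (hS e hec hei) hχ₀ h3
  intro z hzc hzi
  set a := omega (χ₀ : G → ℂ) z with ha
  have haS : MemLocalRing M a := omega_memLocalRing χ₀ hzc hzi
  have h1c : (1 : MonoidAlgebra ℂ G) ∈ Subalgebra.center ℂ (MonoidAlgebra ℂ G) :=
    Subalgebra.one_mem _
  have hzac : z - a • (1 : MonoidAlgebra ℂ G) ∈ Subalgebra.center ℂ (MonoidAlgebra ℂ G) :=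
    Subalgebra.sub_mem _ hzc (Subalgebra.smul_mem _ h1c a)
  have hzai : z - a • (1 : MonoidAlgebra ℂ G) ∈ intCoeff (G := G) M :=
    Subring.sub_mem _ hzi (smul_mem_intCoeff haS (Subring.one_mem _))
  set n := (z - a • (1 : MonoidAlgebra ℂ G)) * e with hn
  have hnc : n ∈ Subalgebra.center ℂ (MonoidAlgebra ℂ G) := Subalgebra.mul_mem _ hzac hec
  have hni : n ∈ intCoeff (G := G) M := Subring.mul_mem _ hzai hei
  have hnω : ∀ ψ : IrrCharacter G, MemLocalIdeal M (omega (ψ : G → ℂ) n) := by
    intro ψ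
    rw [hn, omega_mul ψ.2 hzac e, omega_blockIdem]
    split_ifs with hψ
    · rw [mul_one, omega_sub, omega_smul, omega_one (irr_one_ne_zero' ψ.2), mul_one]
      have := omega_sub_memLocalIdeal (M := M) hψ hzc hzi
      have h2 := memLocalIdeal_neg this
      rwa [neg_sub] at h2
    · rw [mul_zero]
      exact memLocalIdeal_zero hP.ne_top
  obtain ⟨N, hNpos, hN⟩ := exists_pow_coeff_div hM hnc hnω
  -- μ (n ^ N) lies in the local ideal
  have hμnN : MemLocalIdeal M (μ (n ^ N)) := by
    set t : MonoidAlgebra ℂ G := (p : ℂ)⁻¹ • n ^ N with ht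
    have htc : t ∈ Subalgebra.center ℂ (MonoidAlgebra ℂ G) :=
      Subalgebra.smul_mem _ (Subalgebra.pow_mem _ hnc N) _
    have hti : t ∈ intCoeff (G := G) M := by
      intro g
      rw [ht, MonoidAlgebra.coeff_smul, Finsupp.coe_smul, Pi.smul_apply, smul_eq_mul,
        inv_mul_eq_div]
      exact hN g
    have h1 : n ^ N = (p : ℂ) • t := by
      rw [ht, smul_smul, mul_inv_cancel₀ hp0, one_smul]
    rw [h1, map_smul, smul_eq_mul]
    exact memLocalIdeal_mul_right (memLocalIdeal_p hM) (hS t htc hti)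
  -- μ (n ^ k) ≡ μ n ^ k
  have hpow : ∀ k : ℕ, 0 < k → MemLocalIdeal M (μ (n ^ k) - μ n ^ k) := by
    intro k hk
    induction k with
    | zero => exact absurd hk (lt_irrefl 0)
    | succ k ih =>
      rcases Nat.eq_zero_or_pos k with h0 | hkpos
      · subst h0
        rw [zero_add, pow_one, pow_one, sub_self]
        exact memLocalIdeal_zero hP.ne_top
      · have h1 := hmul (n ^ k) (Subalgebra.pow_mem _ hnc k) (Subring.pow_mem _ hni k) n hnc hni
        have h2 := memLocalIdeal_mul_right (ih hkpos) (hS n hnc hni)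
        have h3 := memLocalIdeal_add h1 h2
        have h4 : μ (n ^ k * n) - μ (n ^ k) * μ n + (μ (n ^ k) - μ n ^ k) * μ n =
            μ (n ^ (k + 1)) - μ n ^ (k + 1) := by
          rw [pow_succ, pow_succ]; ring
        rwa [h4] at h3
  have hμn : MemLocalIdeal M (μ n) := by
    have h1 := memLocalIdeal_sub hμnN (hpow N hNpos)
    rw [sub_sub_cancel] at h1
    exact memLocalIdeal_of_pow (hS n hnc hni) h1
  -- μ n = μ (z e) - a μ e
  have hμn' : μ n = μ (z * e) - a * μ e := by
    rw [hn, sub_mul, smul_mul_assoc, one_mul, map_sub, map_smul, smul_eq_mul]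
  have h5 := hmul z hzc hzi e hec hei
  -- combine
  have h6 : μ z - a = (μ z * μ e - μ (z * e)) + μ n - μ z * (μ e - 1) + a * (μ e - 1) := by
    rw [hμn']; ring
  rw [h6]
  refine memLocalIdeal_add (memLocalIdeal_sub (memLocalIdeal_add ?_ hμn) ?_) ?_
  · have := memLocalIdeal_neg h5
    rwa [neg_sub] at this
  · exact memLocalIdeal_mul_left (hS z hzc hzi) hμe
  · exact memLocalIdeal_mul_left haS hμe

end Blocks

end Cfsg.Agent.Lib.H23
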