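import Mathlib
import Cfsg.Prelude.Def_Blocks
import Cfsg.Agent.Lib.H23.BlockIdem

/-!
# Induced blocks via restriction of central elements (helper23)

* `resAlg H z`: the element of `ℂ[H]` whose coefficients are those of `z ∈ ℂ[G]` on `H`.
* `inducedCentralChar_eq_omega`: `inducedCentralChar H ξ g = ω_ξ(resAlg H (classSum g))`.
* `IsInducedBlock.omega_sub`: if `b^G = B` then `ω_ξ(resAlg H z) ≡ ω_χ(z)` for `ξ ∈ b`, `χ ∈ B`
  and `z` central with local-integer coefficients.
-/

set_option autoImplicit false

namespace Cfsg.Agent.Lib.H23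

open Cfsg MonoidAlgebra
open scoped ComplexConjugate

section ResAlg

variable {G : Type*} [Group G] [Fintype G] (H : Subgroup G) [Fintype H]

/-- Restriction of the coefficient function to a subgroup. -/
noncomputable def resAlg (z : MonoidAlgebra ℂ G) : MonoidAlgebra ℂ H :=
  ofFun (fun h : H => z.coeff (h : G))

@[simp] theorem coeff_resAlg (z : MonoidAlgebra ℂ G) (h : H) :
    (resAlg H z).coeff h = z.coeff (h : G) := rfl

theorem resAlg_add (z w : MonoidAlgebra ℂ G) : resAlg H (z + w) = resAlg H z + resAlg H w := by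
  apply MonoidAlgebra.ext
  ext h
  simp

theorem resAlg_smul (c : ℂ) (z : MonoidAlgebra ℂ G) : resAlg H (c • z) = c • resAlg H z := by
  apply MonoidAlgebra.ext
  ext h
  simp [MonoidAlgebra.coeff_smul]

theorem resAlg_zero : resAlg H (0 : MonoidAlgebra ℂ G) = 0 := by
  apply MonoidAlgebra.ext
  ext h
  simp

theorem resAlg_sum {ι : Type*} (s : Finset ι) (f : ι → MonoidAlgebra ℂ G) :
    resAlg H (∑ i ∈ s, f i) = ∑ i ∈ s, resAlg H (f i) := by
  classical
  induction s using Finset.induction_on with
  | empty => simp [resAlg_zero]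
  | insert a s ha ih => rw [Finset.sum_insert ha, Finset.sum_insert ha, resAlg_add, ih]

theorem resAlg_mem_center {z : MonoidAlgebra ℂ G}
    (hz : z ∈ Subalgebra.center ℂ (MonoidAlgebra ℂ G)) :
    resAlg H z ∈ Subalgebra.center ℂ (MonoidAlgebra ℂ H) := by
  apply mem_center_of_classFunction
  intro g h
  simp only [coeff_resAlg]
  have : ((h * g * h⁻¹ : H) : G) = (h : G) * (g : G) * (h : G)⁻¹ := by simp
  rw [this]
  exact coeff_conj_of_mem_center hz _ _

theorem resAlg_mem_intCoeff {M : Ideal AlgInt} [M.IsPrime] {z : MonoidAlgebra ℂ G}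
    (hz : z ∈ intCoeff (G := G) M) : resAlg H z ∈ intCoeff (G := H) M :=
  fun h => hz (h : G)

/-- The induced central character as `ω_ξ` of a restricted class sum. -/
theorem inducedCentralChar_eq_omega (ξ : H → ℂ) (g : G) :
    inducedCentralChar H ξ g = omega ξ (resAlg H (classSum g)) := by
  classical
  unfold inducedCentralChar omega charEval
  rw [finsum_mem_eq_finite_toFinset_sum _ (Set.toFinite _), ← Finset.sum_div]
  congr 1
  simp only [coeff_resAlg, coeff_classSum, ite_mul, one_mul, zero_mul]
  rw [← Finset.sum_filter]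
  refine Finset.sum_congr ?_ (fun _ _ => rfl)
  ext h
  simp

end ResAlg

section Induced

variable {G : Type*} [Group G] [Fintype G] (H : Subgroup G) [Fintype H]
  {p : ℕ} {M : Ideal AlgInt}

/-- If `b` induces `B`, the induced central character agrees with `ω_χ` modulo the local ideal
on all central elements with local-integer coefficients. -/
theorem omega_resAlg_sub_memLocalIdeal [hPr : M.IsPrime] {b : Set (IrrCharacter H)}
    {B : Set (IrrCharacter G)} (hind : IsInducedBlock M H b B) {ξ : IrrCharacter H} (hξ : ξ ∈ b)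
    {χ : IrrCharacter G} (hχ : χ ∈ B) {z : MonoidAlgebra ℂ G}
    (hz : z ∈ Subalgebra.center ℂ (MonoidAlgebra ℂ G)) (hz' : z ∈ intCoeff (G := G) M) :
    MemLocalIdeal M (omega (ξ : H → ℂ) (resAlg H z) - omega (χ : G → ℂ) z) := by
  classical
  haveI := Fintype.ofFinite (ConjClasses G)
  have h1 : omega (ξ : H → ℂ) (resAlg H z) =
      ∑ c : ConjClasses G, z.coeff (classRep c) * inducedCentralChar H (ξ : H → ℂ) (classRep c) := by
    conv_lhs => rw [eq_sum_classSum hz]
    rw [resAlg_sum, omega_sum]
    refine Finset.sum_congr rfl (fun c _ => ?_)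
    rw [resAlg_smul, omega_smul, inducedCentralChar_eq_omega]
  rw [h1, omega_eq_sum_centralChar (Cfsg.Agent.Lib.H24.irr_isClassFunction χ) hz,
    ← Finset.sum_sub_distrib]
  refine memLocalIdeal_sum _ _ (fun c _ => ?_)
  rw [← mul_sub]
  exact memLocalIdeal_mul_left (hz' _) (hind.2.2 ξ hξ χ hχ _)

/-- Same-block characters of `H` have congruent induced central characters. -/
theorem inducedCentralChar_sub_memLocalIdeal [hPr : M.IsPrime] {ξ ξ' : IrrCharacter H}
    (h : SameBlock M (ξ : H → ℂ) (ξ' : H → ℂ)) (g : G) :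
    MemLocalIdeal M (inducedCentralChar H (ξ : H → ℂ) g - inducedCentralChar H (ξ' : H → ℂ) g) := by
  rw [inducedCentralChar_eq_omega, inducedCentralChar_eq_omega]
  exact omega_sub_memLocalIdeal h (resAlg_mem_center H (classSum_mem_center g))
    (resAlg_mem_intCoeff H (classSum_mem_intCoeff g))

end Induced

end Cfsg.Agent.Lib.H23
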