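import Mathlib
import Cfsg.Prelude.Def_Blocks
import Cfsg.Agent.Lib.H23.BlockInduce
import Cfsg.Agent.Lib.H23.BlockVanish
import Cfsg.Agent.Lib.H23.BlockNecklace
import Cfsg.Agent.Lib.H23.BlockMinMax
import Cfsg.Agent.Lib.H24.CharBasic
import Cfsg.Agent.Lib.H23.BlockHom

/-!
# The sum of the `p`-regular elements and the principal block (helper23)

`pRegSum G p = ∑_{y p-regular} y` is a central element of the group algebra with integer
coefficients.  Its central character values vanish outside the principal block, and are congruent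
to the number `R` of `p`-regular elements (a `p'`-number) on the principal block.  This yields
Brauer's third main theorem.
-/

set_option autoImplicit false

namespace Cfsg.Agent.Lib.H23

open Cfsg MonoidAlgebra
open scoped ComplexConjugate

section PRegSum

variable {G : Type*} [Group G] [Fintype G] (p : ℕ)

/-- The sum of the `p`-regular elements of `G` in the group algebra. -/
noncomputable def pRegSum (G : Type*) [Group G] [Fintype G] (p : ℕ) : MonoidAlgebra ℂ G :=
  ofFun (fun g => if p ∣ orderOf g then 0 else 1)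

theorem coeff_pRegSum (g : G) :
    (pRegSum G p).coeff g = if p ∣ orderOf g then 0 else 1 := rfl

theorem pRegSum_mem_center : pRegSum G p ∈ Subalgebra.center ℂ (MonoidAlgebra ℂ G) := by
  apply mem_center_of_classFunction
  intro g h
  rw [coeff_pRegSum, coeff_pRegSum]
  have : orderOf (h * g * h⁻¹) = orderOf g :=
    (orderOf_eq_of_isConj (isConj_iff.2 ⟨h, rfl⟩)).symm
  rw [this]

theorem pRegSum_mem_intCoeff {M : Ideal AlgInt} [hPr : M.IsPrime] :
    pRegSum G p ∈ intCoeff (G := G) M := by
  intro g
  rw [coeff_pRegSum]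
  split_ifs
  · exact memLocalRing_zero hPr.ne_top
  · exact memLocalRing_one hPr.ne_top

theorem resAlg_pRegSum (H : Subgroup G) [Fintype H] : resAlg H (pRegSum G p) = pRegSum H p := by
  apply MonoidAlgebra.ext
  ext h
  show (resAlg H (pRegSum G p)).coeff h = (pRegSum H p).coeff h
  rw [coeff_resAlg, coeff_pRegSum, coeff_pRegSum, Subgroup.orderOf_coe]

theorem charEval_pRegSum (χ : G → ℂ) :
    charEval χ (pRegSum G p) = ∑ g, if p ∣ orderOf g then 0 else χ g := by
  unfold charEval
  refine Finset.sum_congr rfl (fun g _ => ?_)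
  rw [coeff_pRegSum]
  split_ifs <;> simp

/-- The number of `p`-regular elements. -/
noncomputable def pRegCard (G : Type*) [Group G] [Fintype G] (p : ℕ) : ℕ :=
  (Finset.univ.filter (fun g : G => ¬ p ∣ orderOf g)).card

theorem omega_one_pRegSum :
    omega (fun _ : G => (1 : ℂ)) (pRegSum G p) = (pRegCard G p : ℂ) := by
  classical
  rw [omega, charEval_pRegSum, div_one, pRegCard, Finset.card_filter]
  push_cast
  refine Finset.sum_congr rfl (fun g _ => ?_)
  split_ifs <;> simp

end PRegSum

section Vanish

variable {G : Type*} [Group G] [Fintype G] {p : ℕ} {M : Ideal AlgInt}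

/-- The sum of the values of a nontrivial irreducible character vanishes. -/
theorem sum_irr_eq_zero (χ : IrrCharacter G) (hχ : (χ : G → ℂ) ≠ fun _ => 1) :
    ∑ g, (χ : G → ℂ) g = 0 := by
  classical
  have h := Cfsg.Agent.Lib.H24.irr_orthonormal χ (Cfsg.Agent.Lib.H24.trivialIrr G)
  have hne : χ ≠ Cfsg.Agent.Lib.H24.trivialIrr G := by
    intro h
    apply hχ
    rw [h]
    rfl
  rw [if_neg hne, classInner] at h
  have hG : (Nat.card G : ℂ) ≠ 0 := Nat.cast_ne_zero.2 Nat.card_pos.ne'
  have h2 := (mul_eq_zero.1 h).resolve_left (inv_ne_zero hG)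
  rw [← h2]
  refine Finset.sum_congr rfl (fun g _ => ?_)
  show (χ : G → ℂ) g = (χ : G → ℂ) g * conj (1 : ℂ)
  rw [map_one, mul_one]

/-- Outside the principal block, the character sums over the `p`-regular elements vanish. -/
theorem charEval_pRegSum_eq_zero (hM : IsPModular p M) (χ₀ : IrrCharacter G)
    (h1 : ¬ SameBlock M (χ₀ : G → ℂ) (fun _ => 1)) :
    charEval (χ₀ : G → ℂ) (pRegSum G p) = 0 := by
  classical
  haveI hP := isPrime_of_isPModular hM
  haveI := Fintype.ofFinite (IrrCharacter G)
  set B := blockOf M (χ₀ : G → ℂ) with hB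
  set S : IrrCharacter G → ℂ := fun χ => charEval (χ : G → ℂ) (pRegSum G p) with hS
  have hSdef : ∀ χ : IrrCharacter G, S χ = ∑ g, if p ∣ orderOf g then 0 else (χ : G → ℂ) g :=
    fun χ => charEval_pRegSum p _
  have hnontriv : ∀ χ ∈ B, ((χ : IrrCharacter G) : G → ℂ) ≠ fun _ => 1 := by
    intro χ hχ h
    apply h1
    have : SameBlock M (χ₀ : G → ℂ) (χ : G → ℂ) := hχ
    rwa [h] at this
  -- Step A
  have hA : ∀ x : G, ¬ p ∣ orderOf x →
      ∑ χ : IrrCharacter G, (if χ ∈ B then (χ : G → ℂ) x * conj (S χ) else 0) = 0 := by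
    intro x hx
    have e1 : ∑ χ : IrrCharacter G, (if χ ∈ B then (χ : G → ℂ) x * conj (S χ) else 0) =
        ∑ y : G, (if p ∣ orderOf y then 0 else
          ∑ χ : IrrCharacter G, (if χ ∈ B then (χ : G → ℂ) x * conj ((χ : G → ℂ) y) else 0)) := by
      have : ∀ y : G, (if p ∣ orderOf y then (0 : ℂ) else
          ∑ χ : IrrCharacter G, (if χ ∈ B then (χ : G → ℂ) x * conj ((χ : G → ℂ) y) else 0)) =
          ∑ χ : IrrCharacter G, (if χ ∈ B then (χ : G → ℂ) x *
            (if p ∣ orderOf y then 0 else conj ((χ : G → ℂ) y)) else 0) := by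
        intro y
        split_ifs
        · simp
        · rfl
      simp only [this]
      rw [Finset.sum_comm]
      refine Finset.sum_congr rfl (fun χ _ => ?_)
      split_ifs
      · rw [hSdef, map_sum, Finset.mul_sum]
        refine Finset.sum_congr rfl (fun y _ => ?_)
        split_ifs <;> simp
      · simp
    have e2 : ∑ y : G, (if p ∣ orderOf y then
          ∑ χ : IrrCharacter G, (if χ ∈ B then (χ : G → ℂ) x * conj ((χ : G → ℂ) y) else 0)
          else 0) = 0 := by
      refine Finset.sum_eq_zero (fun y _ => ?_)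
      split_ifs with hy
      · exact weak_block_orthogonality hM χ₀ x y hx hy
      · rfl
    have e3 : ∑ y : G,
          ∑ χ : IrrCharacter G, (if χ ∈ B then (χ : G → ℂ) x * conj ((χ : G → ℂ) y) else 0)
          = 0 := by
      rw [Finset.sum_comm]
      refine Finset.sum_eq_zero (fun χ _ => ?_)
      by_cases hχ : χ ∈ B
      · simp only [if_pos hχ]
        rw [← Finset.mul_sum, ← map_sum, sum_irr_eq_zero χ (hnontriv χ hχ), map_zero, mul_zero]
      · simp only [if_neg hχ, Finset.sum_const_zero]
    rw [e1]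
    have e4 : ∀ y : G, (if p ∣ orderOf y then (0 : ℂ) else
          ∑ χ : IrrCharacter G, (if χ ∈ B then (χ : G → ℂ) x * conj ((χ : G → ℂ) y) else 0)) =
        ∑ χ : IrrCharacter G, (if χ ∈ B then (χ : G → ℂ) x * conj ((χ : G → ℂ) y) else 0) -
        (if p ∣ orderOf y then
          ∑ χ : IrrCharacter G, (if χ ∈ B then (χ : G → ℂ) x * conj ((χ : G → ℂ) y) else 0)
          else 0) := by
      intro y
      split_ifs <;> simp
    simp only [e4]
    rw [Finset.sum_sub_distrib, e2, e3, sub_zero]
  -- Step B
  have hBsum : ∑ χ : IrrCharacter G, (if χ ∈ B then S χ * conj (S χ) else 0) = 0 := by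
    have : ∑ χ : IrrCharacter G, (if χ ∈ B then S χ * conj (S χ) else 0) =
        ∑ x : G, (if p ∣ orderOf x then 0 else
          ∑ χ : IrrCharacter G, (if χ ∈ B then (χ : G → ℂ) x * conj (S χ) else 0)) := by
      have h' : ∀ x : G, (if p ∣ orderOf x then (0 : ℂ) else
          ∑ χ : IrrCharacter G, (if χ ∈ B then (χ : G → ℂ) x * conj (S χ) else 0)) =
          ∑ χ : IrrCharacter G, (if χ ∈ B then
            (if p ∣ orderOf x then 0 else (χ : G → ℂ) x) * conj (S χ) else 0) := by
        intro x
        split_ifs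
        · simp
        · rfl
      simp only [h']
      rw [Finset.sum_comm]
      refine Finset.sum_congr rfl (fun χ _ => ?_)
      split_ifs
      · rw [hSdef, Finset.sum_mul]
      · simp
    rw [this]
    refine Finset.sum_eq_zero (fun x _ => ?_)
    split_ifs with hx
    · rfl
    · exact hA x hx
  -- Step C
  have hC : ∑ χ : IrrCharacter G, (if χ ∈ B then Complex.normSq (S χ) else 0) = 0 := by
    have : ((∑ χ : IrrCharacter G, (if χ ∈ B then Complex.normSq (S χ) else 0) : ℝ) : ℂ) = 0 := by
      rw [← hBsum]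
      push_cast
      refine Finset.sum_congr rfl (fun χ _ => ?_)
      split_ifs
      · rw [Complex.mul_conj]
      · simp
    exact_mod_cast this
  have hC2 := (Finset.sum_eq_zero_iff_of_nonneg (fun χ _ => by
    split_ifs
    · exact Complex.normSq_nonneg _
    · exact le_refl _)).1 hC χ₀ (Finset.mem_univ _)
  rw [if_pos (show χ₀ ∈ B from sameBlock_refl (M := M) _)] at hC2
  exact Complex.normSq_eq_zero.1 hC2

theorem omega_pRegSum_eq_zero (hM : IsPModular p M) (χ₀ : IrrCharacter G)
    (h1 : χ₀ ∉ principalBlock M G) : omega (χ₀ : G → ℂ) (pRegSum G p) = 0 := by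
  haveI hP := isPrime_of_isPModular hM
  rw [omega, charEval_pRegSum_eq_zero hM χ₀, zero_div]
  intro h
  exact h1 (sameBlock_symm h)

theorem omega_pRegSum_sub_memLocalIdeal (hM : IsPModular p M) (χ : IrrCharacter G)
    (hχ : χ ∈ principalBlock M G) :
    MemLocalIdeal M (omega (χ : G → ℂ) (pRegSum G p) - (pRegCard G p : ℂ)) := by
  haveI hP := isPrime_of_isPModular hM
  rw [← omega_one_pRegSum]
  have h : SameBlock M ((Cfsg.Agent.Lib.H24.trivialIrr G : IrrCharacter G) : G → ℂ) (χ : G → ℂ) := hχ
  have := omega_sub_memLocalIdeal (sameBlock_symm h) (pRegSum_mem_center (G := G) p)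
    (pRegSum_mem_intCoeff (G := G) (M := M) p)
  exact this

end Vanish

section Count

variable {G : Type*} [Group G] {N : ℕ} [NeZero N]

attribute [local instance] rotAction

theorem eq_const_of_rot_one (w : Fin N → G) (h : rot 1 w = w) :
    ∀ i : Fin N, w i = w ⟨0, NeZero.pos N⟩ := by
  have key : ∀ (k : ℕ) (hk : k < N), w ⟨k, hk⟩ = w ⟨0, NeZero.pos N⟩ := by
    intro k
    induction k with
    | zero => intro _; rfl
    | succ k ih =>
      intro hk
      have hk' : k < N := by omega
      rw [← ih hk']
      conv_rhs => rw [← h]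
      simp only [rot]
      congr 1
      apply Fin.ext
      simp only
      exact (Nat.mod_eq_of_lt hk).symm
  intro i
  exact key i.val i.2

theorem dvd_card_orbit_of_rot_one_ne {p n : ℕ} (hp : p.Prime) (hN : N = p ^ n) (w : Fin N → G)
    (hw : rot 1 w ≠ w) : p ∣ Nat.card (MulAction.orbit (Multiplicative (ZMod N)) w) := by
  set H := MulAction.stabilizer (Multiplicative (ZMod N)) w with hH
  have hidx : H.index = Nat.card (MulAction.orbit (Multiplicative (ZMod N)) w) := by
    rw [MulAction.index_stabilizer]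
    rfl
  have hdvd : H.index ∣ p ^ n := by
    have := Subgroup.index_dvd_card H
    rw [Nat.card_eq_fintype_card, Fintype.card_multiplicative, ZMod.card] at this
    exact hN ▸ this
  obtain ⟨j, hjn, hj⟩ := (Nat.dvd_prime_pow hp).1 hdvd
  rw [← hidx, hj]
  rcases Nat.eq_zero_or_pos j with rfl | hjpos
  · exfalso
    apply hw
    set γ₁ : Multiplicative (ZMod N) := Multiplicative.ofAdd 1 with hγ₁
    have h1 : γ₁ ∈ H := by
      have := Subgroup.pow_index_mem H γ₁
      rwa [hj, pow_zero, pow_one] at this
    have := MulAction.mem_stabilizer_iff.1 h1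
    rw [smul_eq_rot, hγ₁, toAdd_ofAdd] at this
    have h2 : rot ((1 : ZMod N).val) w = rot 1 w := by
      have : (1 : ZMod N).val = 1 % N := by
        have := ZMod.val_natCast (n := N) 1
        rwa [Nat.cast_one] at this
      rw [this, rot_mod]
    rw [← h2]
    exact this
  · exact dvd_pow_self p hjpos.ne'

end Count

section NotDvd

variable {G : Type*} [Group G] [Fintype G] {p : ℕ} {M : Ideal AlgInt}

attribute [local instance] rotAction

/-- The coefficient of `1` in the `p ^ n`-th power of the sum of the `p`-regular elements is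
congruent to `1` modulo `p`. -/
theorem coeff_pow_pRegSum_one (hM : IsPModular p M) (n : ℕ) :
    ∃ s : ℂ, MemLocalRing M s ∧ ((pRegSum G p) ^ (p ^ n)).coeff 1 = 1 + (p : ℂ) * s := by
  classical
  haveI hP := isPrime_of_isPModular hM
  have hp := prime_of_isPModular hM
  set N := p ^ n with hNdef
  haveI : NeZero N := ⟨pow_ne_zero _ hp.ne_zero⟩
  set z := pRegSum G p with hz
  rw [coeff_pow_eq_sum]
  set f : (Fin N → G) → ℂ := fun w => if wordProd w = 1 then wordWeight z w else 0 with hf
  set f' : (Fin N → G) → ℂ := fun w => if w = (fun _ => 1) then 0 else f w with hf'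
  have hwt : ∀ w : Fin N → G, wordWeight z w = if ∀ i, ¬ p ∣ orderOf (w i) then 1 else 0 := by
    intro w
    unfold wordWeight
    simp only [hz, coeff_pRegSum]
    have : ∀ i : Fin N, (if p ∣ orderOf (w i) then (0 : ℂ) else 1) =
        if ¬ p ∣ orderOf (w i) then 1 else 0 := by
      intro i
      split_ifs <;> rfl
    simp only [this]
    rw [Finset.prod_ite_zero]
    simp
  have hf1 : f (fun _ => 1) = 1 := by
    simp only [hf]
    have h1 : wordProd (fun _ : Fin N => (1 : G)) = 1 := by
      simp [wordProd, List.ofFn_const]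
    rw [if_pos h1, hwt, if_pos]
    intro i
    rw [orderOf_one]
    exact fun h => hp.one_lt.ne' (Nat.dvd_one.1 h)
  have hsplit : ∑ w : Fin N → G, f w = 1 + ∑ w : Fin N → G, f' w := by
    rw [← hf1, ← Finset.add_sum_erase Finset.univ f (Finset.mem_univ (fun _ : Fin N => (1 : G)))]
    congr 1
    rw [← Finset.sum_erase (s := Finset.univ) (a := (fun _ : Fin N => (1 : G))) (f := f')
      (by simp [hf'])]
    refine Finset.sum_congr rfl (fun w hw => ?_)
    simp only [hf']
    rw [if_neg (Finset.ne_of_mem_erase hw)]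
  rw [hsplit]
  obtain ⟨s, hs, hsum2⟩ := exists_sum_eq_mul_of_orbit_card_dvd
    (Γ := Multiplicative (ZMod N)) (localRing M).toAddSubgroup f'
    (by
      intro w
      show MemLocalRing M _
      simp only [hf', hf]
      split_ifs
      · exact memLocalRing_zero hP.ne_top
      · exact memLocalRing_prod _ _ (fun i _ => pRegSum_mem_intCoeff (G := G) (M := M) p _)
      · exact memLocalRing_zero hP.ne_top)
    (by
      intro γ w
      rw [smul_eq_rot]
      simp only [hf', hf]
      have h1 : rot (Multiplicative.toAdd γ).val w = (fun _ => 1) ↔ w = fun _ => 1 := by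
        constructor
        · intro h
          funext i
          have hlt : (Multiplicative.toAdd γ).val < N := ZMod.val_lt _
          have h3 : rot ((N - (Multiplicative.toAdd γ).val) + (Multiplicative.toAdd γ).val) w
              = w := by
            rw [Nat.sub_add_cancel hlt.le, rot_self]
          rw [rot_add, h] at h3
          rw [← h3]
          rfl
        · intro h
          rw [h]
          rfl
      have h2 : wordProd (rot (Multiplicative.toAdd γ).val w) = 1 ↔ wordProd w = 1 := by
        have := wordProd_rot_mem_iff (C := {(1 : G)})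
          (by
            intro g c hg
            rw [Set.mem_singleton_iff] at hg ⊢
            rw [hg]; group) (Multiplicative.toAdd γ).val w
        simpa using this
      simp only [h1, h2, wordWeight_rot])
    p
    (by
      intro w hw
      apply dvd_card_orbit_of_rot_one_ne hp hNdef
      intro hrot
      apply hw
      simp only [hf', hf]
      have hconst := eq_const_of_rot_one w hrot
      by_cases hw1 : w = fun _ => 1
      · rw [if_pos hw1]
      · rw [if_neg hw1]
        by_cases hprod : wordProd w = 1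
        · rw [if_pos hprod, hwt]
          rw [if_neg]
          intro hreg
          apply hw1
          set y := w ⟨0, NeZero.pos N⟩ with hy
          have hwy : w = fun _ => y := funext hconst
          have hpow : y ^ N = 1 := by
            rw [← hprod, hwy]
            simp [wordProd, List.ofFn_const]
          have hyreg : ¬ p ∣ orderOf y := hreg _
          have hdvd : orderOf y ∣ p ^ n := orderOf_dvd_of_pow_eq_one hpow
          obtain ⟨j, _, hj⟩ := (Nat.dvd_prime_pow hp).1 hdvd
          have hj0 : j = 0 := by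
            by_contra hj0
            exact hyreg (hj ▸ dvd_pow_self p hj0)
          rw [hj0, pow_zero, orderOf_eq_one_iff] at hj
          rw [hwy, hj]
        · rw [if_neg hprod])
  refine ⟨s, hs, ?_⟩
  rw [hsum2]

/-- The number of `p`-regular elements of a finite group is prime to `p`. -/
theorem not_dvd_pRegCard (hM : IsPModular p M) : ¬ p ∣ pRegCard G p := by
  classical
  haveI hP := isPrime_of_isPModular hM
  haveI := Fintype.ofFinite (IrrCharacter G)
  have hp := prime_of_isPModular hM
  have hp0 : (p : ℂ) ≠ 0 := Nat.cast_ne_zero.2 hp.ne_zero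
  intro hdvd
  have hR : MemLocalIdeal M (pRegCard G p : ℂ) := (natCast_memLocalIdeal_iff hM _).2 hdvd
  set z := pRegSum G p with hz
  have hzc : z ∈ Subalgebra.center ℂ (MonoidAlgebra ℂ G) := pRegSum_mem_center p
  have hzi : z ∈ intCoeff (G := G) M := pRegSum_mem_intCoeff p
  have hω : ∀ ψ : IrrCharacter G, MemLocalIdeal M (omega (ψ : G → ℂ) z) := by
    intro ψ
    by_cases hψ : ψ ∈ principalBlock M G
    · have := memLocalIdeal_add (omega_pRegSum_sub_memLocalIdeal hM ψ hψ) hR
      rwa [sub_add_cancel] at this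
    · rw [omega_pRegSum_eq_zero hM ψ hψ]
      exact memLocalIdeal_zero hP.ne_top
  obtain ⟨N, hNpos, hN⟩ := exists_pow_coeff_div hM hzc hω
  -- choose `n` with `N ≤ p ^ n`
  obtain ⟨n, hn⟩ : ∃ n, N ≤ p ^ n := ⟨N, (Nat.lt_pow_self hp.one_lt).le⟩
  have h1 : ((p : ℂ)⁻¹ • z ^ N) ∈ intCoeff (G := G) M := by
    intro g
    have := hN g
    rw [MonoidAlgebra.coeff_smul, Finsupp.smul_apply, smul_eq_mul, inv_mul_eq_div]
    exact this
  have h2 : ((p : ℂ)⁻¹ • z ^ N) * z ^ (p ^ n - N) ∈ intCoeff (G := G) M :=
    Subring.mul_mem _ h1 (Subring.pow_mem _ hzi _)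
  have h3 : ((p : ℂ)⁻¹ • z ^ N) * z ^ (p ^ n - N) = (p : ℂ)⁻¹ • z ^ (p ^ n) := by
    rw [smul_mul_assoc, ← pow_add, Nat.add_sub_cancel' hn]
  rw [h3] at h2
  have h4 := h2 1
  rw [MonoidAlgebra.coeff_smul, Finsupp.smul_apply, smul_eq_mul] at h4
  obtain ⟨s, hs, hcoef⟩ := coeff_pow_pRegSum_one (G := G) hM n
  rw [← hz] at hcoef
  rw [hcoef, mul_add, mul_one, ← mul_assoc, inv_mul_cancel₀ hp0, one_mul] at h4
  have h5 : MemLocalRing M ((p : ℂ)⁻¹) := by
    have := memLocalRing_sub h4 hs
    rwa [add_sub_cancel_right] at this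
  have h6 : MemLocalIdeal M ((p : ℂ) * (p : ℂ)⁻¹) := memLocalIdeal_mul_right (memLocalIdeal_p hM) h5
  rw [mul_inv_cancel₀ hp0] at h6
  exact not_memLocalIdeal_one h6

end NotDvd

section ThirdMain

variable {G : Type*} [Group G] [Fintype G] {p : ℕ} {M : Ideal AlgInt}

theorem trivialIrr_mem_principalBlock [hP : M.IsPrime] :
    Cfsg.Agent.Lib.H24.trivialIrr G ∈ principalBlock M G :=
  sameBlock_refl (M := M) _

theorem principalBlock_eq_blockOf [hP : M.IsPrime] {χ : IrrCharacter G}
    (h : χ ∈ principalBlock M G) : blockOf M (χ : G → ℂ) = principalBlock M G :=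
  blockOf_eq_of_mem (χ := Cfsg.Agent.Lib.H24.trivialIrr G) h

/-- If `ω_χ` of the sum of the `p`-regular elements is outside the local ideal, then `χ` is in
the principal block. -/
theorem mem_principalBlock_of_omega (hM : IsPModular p M) (χ : IrrCharacter G)
    (h : ¬ MemLocalIdeal M (omega (χ : G → ℂ) (pRegSum G p))) : χ ∈ principalBlock M G := by
  haveI hP := isPrime_of_isPModular hM
  by_contra hχ
  apply h
  rw [omega_pRegSum_eq_zero hM χ hχ]
  exact memLocalIdeal_zero hP.ne_top

theorem omega_pRegSum_not_memLocalIdeal (hM : IsPModular p M) (χ : IrrCharacter G)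
    (hχ : χ ∈ principalBlock M G) : ¬ MemLocalIdeal M (omega (χ : G → ℂ) (pRegSum G p)) := by
  haveI hP := isPrime_of_isPModular hM
  intro h
  have h1 := memLocalIdeal_sub h (omega_pRegSum_sub_memLocalIdeal hM χ hχ)
  rw [sub_sub_cancel] at h1
  exact not_dvd_pRegCard (G := G) hM ((natCast_memLocalIdeal_iff hM _).1 h1)

/-- **Brauer's third main theorem.** -/
theorem third_main (hM : IsPModular p M) (H : Subgroup G) [Fintype H]
    {b : Set (IrrCharacter H)} {B : Set (IrrCharacter G)} (hind : IsInducedBlock M H b B) :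
    B = principalBlock M G ↔ b = principalBlock M H := by
  haveI hP := isPrime_of_isPModular hM
  have hzc : pRegSum G p ∈ Subalgebra.center ℂ (MonoidAlgebra ℂ G) := pRegSum_mem_center p
  have hzi : pRegSum G p ∈ intCoeff (G := G) M := pRegSum_mem_intCoeff p
  obtain ⟨ξ₀, hξ₀⟩ := hind.1
  obtain ⟨χ₁, hχ₁⟩ := hind.2.1
  have hξ₀b : ξ₀ ∈ b := hξ₀ ▸ mem_blockOf_self ξ₀
  have hχ₁B : χ₁ ∈ B := hχ₁ ▸ mem_blockOf_self χ₁
  have hcong := omega_resAlg_sub_memLocalIdeal H hind hξ₀b hχ₁B hzc hzi
  rw [resAlg_pRegSum] at hcong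
  constructor
  · intro hB
    have h1 : χ₁ ∈ principalBlock M G := hB ▸ hχ₁B
    have h2 := omega_pRegSum_not_memLocalIdeal hM χ₁ h1
    have h3 : ¬ MemLocalIdeal M (omega (ξ₀ : H → ℂ) (pRegSum H p)) := by
      intro h
      apply h2
      have := memLocalIdeal_sub h hcong
      rwa [sub_sub_cancel] at this
    rw [hξ₀]
    exact principalBlock_eq_blockOf (mem_principalBlock_of_omega hM ξ₀ h3)
  · intro hb
    have h1 : ξ₀ ∈ principalBlock M H := hb ▸ hξ₀b
    have h2 := omega_pRegSum_not_memLocalIdeal hM ξ₀ h1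
    have h3 : ¬ MemLocalIdeal M (omega (χ₁ : G → ℂ) (pRegSum G p)) := by
      intro h
      apply h2
      have := memLocalIdeal_add hcong h
      rwa [sub_add_cancel] at this
    rw [hχ₁]
    exact principalBlock_eq_blockOf (mem_principalBlock_of_omega hM χ₁ h3)

end ThirdMain

end Cfsg.Agent.Lib.H23
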