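import Mathlib
import Cfsg.Prelude.Def_Blocks
import Cfsg.Agent.Lib.H21.AD.Defs
import Cfsg.Agent.Lib.H23.BlockPrincipal

/-!
# S4937 pieces (BR0), (BR) (helper23)

Brauer: an irreducible character lies in the principal `p`-block iff its sum over the `p`-regular
elements is nonzero.
-/

set_option autoImplicit false

open Cfsg.Agent.Lib.H21.AD

namespace Cfsg.Agent.Lib.H23.AD

variable {G : Type*} [Group G] [Finite G] {p : ℕ} {M : Ideal Cfsg.AlgInt}

/-- (BR0) Brauer: `χ ∈ B_0(X)` iff the sum of `χ` over the `p`-regular elements is nonzero -/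
theorem br0 {X : Type*} [Group X] [Finite X] (hM : Cfsg.IsPModular p M) (χ : Cfsg.IrrCharacter X) :
    χ ∈ Cfsg.principalBlock M X ↔ (∑ᶠ x : X, if p ∣ orderOf x then 0 else (χ : X → ℂ) x) ≠ 0 := by
  classical
  let _ := Fintype.ofFinite X
  have hP := Cfsg.Agent.Lib.H23.isPrime_of_isPModular hM
  have hsum : (∑ᶠ x : X, if p ∣ orderOf x then 0 else (χ : X → ℂ) x) =
      Cfsg.Agent.Lib.H23.charEval (χ : X → ℂ) (Cfsg.Agent.Lib.H23.pRegSum X p) := by
    rw [finsum_eq_sum_of_fintype, Cfsg.Agent.Lib.H23.charEval_pRegSum]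
  rw [hsum]
  constructor
  · intro hχ h0
    apply Cfsg.Agent.Lib.H23.omega_pRegSum_not_memLocalIdeal hM χ hχ
    rw [Cfsg.Agent.Lib.H23.omega, h0, zero_div]
    exact Cfsg.Agent.Lib.H23.memLocalIdeal_zero hP.ne_top
  · intro hne
    by_contra hχ
    apply hne
    apply Cfsg.Agent.Lib.H23.charEval_pRegSum_eq_zero hM χ
    intro h
    exact hχ (Cfsg.Agent.Lib.H23.sameBlock_symm h)

/-- `sSum` as a sum over the subgroup type -/
theorem sSum_eq_finsum_subtype (p : ℕ) (J : Subgroup G) (f : G → ℂ) :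
    sSum p J f = ∑ᶠ y : J, if p ∣ orderOf y then 0 else f y := by
  classical
  let _ := Fintype.ofFinite G
  unfold sSum
  rw [finsum_eq_sum_of_fintype, finsum_eq_sum_of_fintype]
  rw [← Finset.sum_subset (Finset.subset_univ (Finset.univ.filter (fun g : G => g ∈ J)))]
  · rw [Finset.sum_subtype (Finset.univ.filter (fun g : G => g ∈ J)) (p := fun g => g ∈ J)
      (fun x => by simp)]
    refine Finset.sum_congr rfl (fun y _ => ?_)
    rw [Subgroup.orderOf_coe]
    by_cases hp : p ∣ orderOf y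
    · simp [hp]
    · simp [hp, y.2]
  · intro g _ hg
    have : g ∉ J := by simpa using hg
    simp [this]

/-- (BR) the same for a subgroup `J` of `G` and a function on `G` -/
theorem br (hM : Cfsg.IsPModular p M) (J : Subgroup G) (f : G → ℂ)
    (hf : Cfsg.IsIrrCharacter J (fun y : J => f y)) :
    (⟨fun y : J => f y, hf⟩ : Cfsg.IrrCharacter J) ∈ Cfsg.principalBlock M J ↔ sSum p J f ≠ 0 := by
  rw [br0 hM, sSum_eq_finsum_subtype]

end Cfsg.Agent.Lib.H23.AD
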