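import Cfsg.Agent.Lib.H23.FullyRamified

/-!
# The Clifford correspondence (helper23)

`H` normal in `G`, `ϑ ∈ Irr(H)`, `T` the inertia group of `ϑ`.
* `classInner_comp_equiv`: inner products are invariant under group isomorphisms;
* `restrict_inertia_eq_smul`: for `ψ ∈ Irr(T)` over `ϑ`: `ψ_H = ⟨ψ_H, ϑ⟩ • ϑ`;
* `clifford_correspondence`: every `χ ∈ Irr(G)` over `ϑ` is induced from some `ψ ∈ Irr(T)` over `ϑ`,
  with the same multiplicity of `ϑ`.
-/

set_option autoImplicit false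

namespace Cfsg.Agent.Lib.H23

open Cfsg.Agent.Lib.L0
open scoped ComplexConjugate

section Equiv

/-- Inner products are invariant under group isomorphisms. -/
theorem classInner_comp_equiv {A B : Type*} [Group A] [Group B] [Fintype A] [Fintype B]
    (ι : A ≃* B) (a b : B → ℂ) :
    Cfsg.classInner (a ∘ ι) (b ∘ ι) = Cfsg.classInner a b := by
  unfold Cfsg.classInner
  rw [Nat.card_congr ι.toEquiv]
  congr 1
  exact Fintype.sum_equiv ι.toEquiv _ _ (fun _ => rfl)

end Equiv

section Restrict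

variable {G : Type*} [Group G] (H T : Subgroup G) (hHT : H ≤ T)

/-- Restriction of a function on `T` to `H ≤ T`. -/
def resTo (α : T → ℂ) : H → ℂ := fun n => α ⟨(n : G), hHT n.2⟩

theorem resTo_eq_comp (α : T → ℂ) : resTo H T hHT α = α ∘ (Subgroup.inclusion hHT) := rfl

theorem isCharacter_resTo {α : T → ℂ} (hα : Cfsg.IsCharacter T α) :
    Cfsg.IsCharacter H (resTo H T hHT α) :=
  isCharacter_comp (Subgroup.inclusion hHT) hα

theorem resTo_add (α β : T → ℂ) :
    resTo H T hHT (α + β) = resTo H T hHT α + resTo H T hHT β := rfl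

theorem resTo_list_sum (l : List (T → ℂ)) :
    resTo H T hHT l.sum = (l.map (resTo H T hHT)).sum := by
  induction l with
  | nil => rfl
  | cons a l ih => rw [List.sum_cons, resTo_add, ih, List.map_cons, List.sum_cons]

end Restrict

section Mult

variable {G : Type*} [Group G] (H T : Subgroup G) (hHT : H ≤ T) [Fintype H]

/-- If `ψ` occurs in the list `l` of irreducible characters of `T`, then the multiplicity of `ϑ` in
`(l.sum)_H` is that in `ψ_H` plus a natural number. -/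
theorem exists_classInner_resTo_list_sum_eq_add [Finite T] (ϑ : H → ℂ)
    (hϑ : Cfsg.IsIrrCharacter H ϑ)
    (l : List (T → ℂ)) (hl : ∀ α ∈ l, Cfsg.IsIrrCharacter T α) (ψ : T → ℂ) (hψ : ψ ∈ l) :
    ∃ k : ℕ, Cfsg.classInner (resTo H T hHT l.sum) ϑ =
      Cfsg.classInner (resTo H T hHT ψ) ϑ + k := by
  classical
  have h1 := List.sum_erase hψ
  have hrest : Cfsg.IsCharacter T (l.erase ψ).sum :=
    isCharacter_list_sum (fun α hα => isCharacter_of_irr (hl α (List.mem_of_mem_erase hα)))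
  obtain ⟨k, hk⟩ := classInner_char_irr_nat (isCharacter_resTo H T hHT hrest) hϑ
  refine ⟨k, ?_⟩
  rw [← h1, resTo_add, classInner_add_left, hk]

/-- Some irreducible constituent of a character `α` of `T` lies over `ϑ` if `α` does. -/
theorem exists_mem_classInner_resTo_ne_zero (ϑ : H → ℂ)
    (l : List (T → ℂ)) (h : Cfsg.classInner (resTo H T hHT l.sum) ϑ ≠ 0) :
    ∃ ψ ∈ l, Cfsg.classInner (resTo H T hHT ψ) ϑ ≠ 0 := by
  by_contra hcon
  push Not at hcon
  apply h
  rw [resTo_list_sum, classInner_list_sum_left]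
  apply List.sum_eq_zero
  intro x hx
  rw [List.mem_map] at hx
  obtain ⟨y, hy, rfl⟩ := hx
  rw [List.mem_map] at hy
  obtain ⟨ψ, hψ, rfl⟩ := hy
  exact hcon ψ hψ

end Mult

section Inertia

variable {G : Type*} [Group G] [Fintype G] (H T : Subgroup G) [hN : H.Normal] [Fintype H]
  [Fintype T] (hHT : H ≤ T)

/-- Clifford's theorem inside the inertia group: an irreducible character of `T` over the
`T`-invariant `ϑ` restricts to a multiple of `ϑ`. -/
theorem restrict_inertia_eq_smul (ϑ : H → ℂ) (hϑ : Cfsg.IsIrrCharacter H ϑ)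
    (hT : ∀ g ∈ T, ∀ n : H, ϑ ⟨g * n * g⁻¹, hN.conj_mem (n : G) n.2 g⟩ = ϑ n)
    (ψ : T → ℂ) (hψ : Cfsg.IsIrrCharacter T ψ)
    (hcon : Cfsg.classInner (resTo H T hHT ψ) ϑ ≠ 0) :
    resTo H T hHT ψ = Cfsg.classInner (resTo H T hHT ψ) ϑ • ϑ := by
  classical
  have : Fintype (H.subgroupOf T) := Fintype.ofFinite _
  have hN' : (H.subgroupOf T).Normal := Subgroup.normal_subgroupOf
  set ι : (H.subgroupOf T) ≃* H := Subgroup.subgroupOfEquivOfLe hHT with hι
  have hιcoe : ∀ n : H.subgroupOf T, ((ι n : H) : G) = ((n : T) : G) := fun n => rfl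
  have hϑ' : Cfsg.IsIrrCharacter (H.subgroupOf T) (ϑ ∘ ι) :=
    isIrrCharacter_comp_of_surjective ι.toMonoidHom ι.surjective hϑ
  have hres : (fun n : H.subgroupOf T => ψ (n : T)) = (resTo H T hHT ψ) ∘ ι := by
    funext n
    simp only [Function.comp_apply, resTo]
    congr 1
  have hcon' : Cfsg.classInner (fun n : H.subgroupOf T => ψ (n : T)) (ϑ ∘ ι) ≠ 0 := by
    rw [hres, classInner_comp_equiv]
    exact hcon
  have hinv' : ∀ (t : T) (n : H.subgroupOf T),
      (ϑ ∘ ι) ⟨t * n * t⁻¹, hN'.conj_mem (n : T) n.2 t⟩ = (ϑ ∘ ι) n := by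
    intro t n
    simp only [Function.comp_apply]
    have := hT (t : G) t.2 (ι n)
    rw [← this]
    congr 1
  have h := restrict_eq_smul_of_invariant (G := T) (H.subgroupOf T) ψ hψ (ϑ ∘ ι) hϑ' hcon' hinv'
  rw [hres, classInner_comp_equiv] at h
  funext n
  have h2 := congrFun h (ι.symm n)
  simp only [Function.comp_apply, Pi.smul_apply, MulEquiv.apply_symm_apply] at h2
  exact h2

/-- The multiplicity of `ϑ` in the restriction to `H` of the character induced from `ψ ∈ Irr(T)`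
with `ψ_H = c • ϑ` is `c`. -/
theorem classInner_restrict_indFun_inertia (ϑ : H → ℂ) (hϑ : Cfsg.IsIrrCharacter H ϑ)
    (hT : ∀ g : G, g ∈ T ↔ ∀ n : H, ϑ ⟨g * n * g⁻¹, hN.conj_mem (n : G) n.2 g⟩ = ϑ n)
    (ψ : T → ℂ) (c : ℂ) (hres : resTo H T hHT ψ = c • ϑ) :
    Cfsg.classInner (fun h : H => Cfsg.indFun T ψ (h : G)) ϑ = c := by
  classical
  have hTne : (Nat.card T : ℂ) ≠ 0 := Nat.cast_ne_zero.mpr Nat.card_pos.ne'
  have hfun : (fun h : H => Cfsg.indFun T ψ (h : G)) =
      ((Nat.card T : ℂ)⁻¹ * c) • ∑ x : G,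
        (fun n : H => ϑ ⟨x⁻¹ * n * x⁻¹⁻¹, hN.conj_mem (n : G) n.2 x⁻¹⟩) := by
    funext h
    simp only [Pi.smul_apply, Finset.sum_apply, smul_eq_mul]
    rw [indFun_apply, mul_assoc]
    congr 1
    rw [Finset.mul_sum]
    refine Finset.sum_congr rfl (fun x _ => ?_)
    have hmem : x⁻¹ * (h : G) * x ∈ H := by
      have := hN.conj_mem (h : G) h.2 x⁻¹
      simpa using this
    rw [extendByZero_apply_of_mem T ψ (hHT hmem)]
    have h1 := congrFun hres ⟨x⁻¹ * (h : G) * x, hmem⟩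
    simp only [resTo, Pi.smul_apply, smul_eq_mul] at h1
    rw [h1]
    congr 2
    apply Subtype.ext
    simp
  rw [hfun, classInner_smul_left, classInner_sum_left]
  have hterm : ∀ x : G, Cfsg.classInner
      (fun n : H => ϑ ⟨x⁻¹ * n * x⁻¹⁻¹, hN.conj_mem (n : G) n.2 x⁻¹⟩) ϑ =
      if x ∈ T then 1 else 0 := by
    intro x
    rw [irr_classInner_eq (Cfsg.Agent.Lib.H8.isIrrCharacter_conjNormal H ϑ hϑ x⁻¹) hϑ]
    have hiff : ((fun n : H => ϑ ⟨x⁻¹ * n * x⁻¹⁻¹, hN.conj_mem (n : G) n.2 x⁻¹⟩) = ϑ) ↔ x ∈ T := by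
      rw [← inv_mem_iff (H := T), hT x⁻¹]
      constructor
      · intro h n; exact congrFun h n
      · intro h; funext n; exact h n
    by_cases hx : x ∈ T
    · rw [if_pos hx, if_pos (hiff.mpr hx)]
    · rw [if_neg hx, if_neg (fun h => hx (hiff.mp h))]
  simp only [hterm]
  rw [Finset.sum_boole]
  have hcard : (Finset.univ.filter (fun x : G => x ∈ T)).card = Nat.card T := by
    rw [Nat.card_eq_fintype_card, Fintype.card_subtype]
  rw [hcard]
  field_simp

omit [Fintype G] hN [Fintype T] [Fintype H] in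
/-- Restriction to a subgroup of a list sum. -/
theorem restrict_list_sum (l : List (G → ℂ)) :
    (fun n : H => l.sum (n : G)) = (l.map (fun χ' : G → ℂ => fun n : H => χ' (n : G))).sum := by
  induction l with
  | nil => rfl
  | cons a l ih =>
    rw [List.map_cons, List.sum_cons, List.sum_cons, ← ih]
    rfl

omit [Fintype G] hN [Fintype T] in
/-- A lower bound for the multiplicity of `ϑ` in a sum of characters each containing `ϑ` at least
`fn` times. -/
theorem exists_classInner_restrict_list_sum (ϑ : H → ℂ) (fn : ℕ) (l : List (G → ℂ))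
    (h : ∀ χ' ∈ l, ∃ k : ℕ, Cfsg.classInner (fun n : H => χ' (n : G)) ϑ = (fn : ℂ) + k) :
    ∃ K : ℕ, Cfsg.classInner (fun n : H => l.sum (n : G)) ϑ = ((l.length * fn : ℕ) : ℂ) + K := by
  induction l with
  | nil =>
    refine ⟨0, ?_⟩
    have : (fun n : H => ([] : List (G → ℂ)).sum (n : G)) = 0 := rfl
    rw [this, classInner_zero_left]
    simp
  | cons a l ih =>
    obtain ⟨K, hK⟩ := ih (fun χ' hχ' => h χ' (by simp [hχ']))
    obtain ⟨k, hk⟩ := h a (by simp)
    refine ⟨k + K, ?_⟩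
    have : (fun n : H => (a :: l).sum (n : G)) =
        (fun n : H => a (n : G)) + (fun n : H => l.sum (n : G)) := by
      funext n
      simp [List.sum_cons]
    rw [this, classInner_add_left, hk, hK, List.length_cons]
    push_cast
    ring

/-- An irreducible character `ψ` of the inertia group lying over `ϑ` induces irreducibly to `G`,
and `ϑ` has the same multiplicity in `(Ind ψ)_H` as in `ψ_H`. -/
theorem isIrrCharacter_indFun_inertia (ϑ : H → ℂ) (hϑ : Cfsg.IsIrrCharacter H ϑ)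
    (hT : ∀ g : G, g ∈ T ↔ ∀ n : H, ϑ ⟨g * n * g⁻¹, hN.conj_mem (n : G) n.2 g⟩ = ϑ n)
    (ψ : T → ℂ) (hψ : Cfsg.IsIrrCharacter T ψ)
    (hf : Cfsg.classInner (resTo H T hHT ψ) ϑ ≠ 0) :
    Cfsg.IsIrrCharacter G (Cfsg.indFun T ψ) ∧
      Cfsg.classInner (fun n : H => Cfsg.indFun T ψ (n : G)) ϑ =
        Cfsg.classInner (resTo H T hHT ψ) ϑ := by
  classical
  obtain ⟨fn, hfn⟩ := classInner_char_irr_nat
    (isCharacter_resTo H T hHT (isCharacter_of_irr hψ)) hϑ
  have hfn0 : fn ≠ 0 := by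
    intro h0
    apply hf
    rw [hfn, h0]; simp
  have hres := restrict_inertia_eq_smul H T hHT ϑ hϑ (fun g hg => (hT g).mp hg) ψ hψ hf
  have hΦ : Cfsg.IsCharacter G (Cfsg.indFun T ψ) := isCharacter_indFun T (isCharacter_of_irr hψ)
  have hΦH := classInner_restrict_indFun_inertia H T hHT ϑ hϑ hT ψ _ hres
  refine ⟨?_, hΦH⟩
  obtain ⟨l', hl', hsum'⟩ := isCharacter_exists_irr_decomp hΦ
  have hlow : ∀ χ' ∈ l', ∃ k : ℕ,
      Cfsg.classInner (fun n : H => χ' (n : G)) ϑ = (fn : ℂ) + k := by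
    intro χ' hχ'l
    have hχ' := hl' χ' hχ'l
    have hne : Cfsg.classInner (Cfsg.indFun T ψ) χ' ≠ 0 := by
      rw [hsum', classInner_irr_list_sum hl' hχ']
      exact Nat.cast_ne_zero.mpr (List.count_pos_iff.mpr hχ'l).ne'
    rw [Cfsg.Agent.Lib.L0.frobenius_reciprocity T ψ χ'
      (isClassFunction_of_isCharacter (isCharacter_of_irr hχ'))] at hne
    obtain ⟨l'', hl'', hsum''⟩ := isCharacter_exists_irr_decomp
      (isCharacter_restrict T (isCharacter_of_irr hχ'))
    have hmem : ψ ∈ l'' := by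
      rw [hsum'', ← classInner_conj_symm, classInner_irr_list_sum hl'' hψ] at hne
      by_contra hnot
      apply hne
      rw [List.count_eq_zero_of_not_mem hnot]
      simp
    obtain ⟨k, hk⟩ := exists_classInner_resTo_list_sum_eq_add H T hHT ϑ hϑ l'' hl'' ψ hmem
    refine ⟨k, ?_⟩
    rw [← hfn, ← hk, ← hsum'']
    rfl
  obtain ⟨K, hK⟩ := exists_classInner_restrict_list_sum H ϑ fn l' hlow
  rw [← hsum', hΦH, hfn] at hK
  have hK' : fn = l'.length * fn + K := by exact_mod_cast hK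
  have hlen : l'.length ≤ 1 := by
    by_contra hgt
    push Not at hgt
    have : 2 * fn ≤ l'.length * fn := Nat.mul_le_mul_right fn hgt
    omega
  have hne' : l' ≠ [] := by
    rintro rfl
    apply hf
    rw [← hΦH, hsum']
    have h0 : (fun n : H => ([] : List (G → ℂ)).sum (n : G)) = 0 := rfl
    rw [h0, classInner_zero_left]
  match l', hl', hsum', hlen, hne' with
  | [], _, _, _, hne' => exact absurd rfl hne'
  | [a], hl', hsum', _, _ =>
    rw [hsum', List.sum_singleton]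
    exact hl' a (by simp)
  | a :: b :: r, _, _, hlen, _ => simp at hlen

/-- The Clifford correspondence is injective. -/
theorem indFun_inertia_injective (ϑ : H → ℂ) (hϑ : Cfsg.IsIrrCharacter H ϑ)
    (hT : ∀ g : G, g ∈ T ↔ ∀ n : H, ϑ ⟨g * n * g⁻¹, hN.conj_mem (n : G) n.2 g⟩ = ϑ n)
    (ψ ψ' : T → ℂ) (hψ : Cfsg.IsIrrCharacter T ψ) (hψ' : Cfsg.IsIrrCharacter T ψ')
    (hf : Cfsg.classInner (resTo H T hHT ψ) ϑ ≠ 0)
    (hf' : Cfsg.classInner (resTo H T hHT ψ') ϑ ≠ 0)
    (heq : Cfsg.indFun T ψ = Cfsg.indFun T ψ') : ψ = ψ' := by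
  classical
  by_contra hne
  obtain ⟨hirr, hmult⟩ := isIrrCharacter_indFun_inertia H T hHT ϑ hϑ hT ψ hψ hf
  obtain ⟨hirr', hmult'⟩ := isIrrCharacter_indFun_inertia H T hHT ϑ hϑ hT ψ' hψ' hf'
  set χ := Cfsg.indFun T ψ with hχdef
  have hcl := isClassFunction_of_isCharacter (isCharacter_of_irr hirr)
  obtain ⟨l, hl, hsum⟩ := isCharacter_exists_irr_decomp
    (isCharacter_restrict T (isCharacter_of_irr hirr))
  -- both ψ and ψ' occur in χ_T
  have hmem : ∀ φ : T → ℂ, Cfsg.IsIrrCharacter T φ → Cfsg.indFun T φ = χ → φ ∈ l := by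
    intro φ hφ hφχ
    have h1 : Cfsg.classInner (Cfsg.indFun T φ) χ = 1 := by
      rw [hφχ]; exact irr_classInner_self hirr
    rw [Cfsg.Agent.Lib.L0.frobenius_reciprocity T φ χ hcl, hsum, ← classInner_conj_symm,
      classInner_irr_list_sum hl hφ] at h1
    by_contra hnot
    rw [List.count_eq_zero_of_not_mem hnot] at h1
    simp at h1
  have hψl := hmem ψ hψ rfl
  have hψ'l := hmem ψ' hψ' heq.symm
  have hψ'l2 : ψ' ∈ l.erase ψ := (List.mem_erase_of_ne (fun h => hne h.symm)).mpr hψ'l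
  -- multiplicities
  obtain ⟨k, hk⟩ := exists_classInner_resTo_list_sum_eq_add H T hHT ϑ hϑ (l.erase ψ)
    (fun α hα => hl α (List.mem_of_mem_erase hα)) ψ' hψ'l2
  have h1 := List.sum_erase hψl
  have h2 : Cfsg.classInner (resTo H T hHT l.sum) ϑ =
      Cfsg.classInner (resTo H T hHT ψ) ϑ + (Cfsg.classInner (resTo H T hHT ψ') ϑ + k) := by
    rw [← h1, resTo_add, classInner_add_left, hk]
  have h3 : Cfsg.classInner (resTo H T hHT l.sum) ϑ = Cfsg.classInner (resTo H T hHT ψ) ϑ := by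
    rw [← hsum, ← hmult]
    rfl
  rw [h3] at h2
  obtain ⟨fn', hfn'⟩ := classInner_char_irr_nat
    (isCharacter_resTo H T hHT (isCharacter_of_irr hψ')) hϑ
  rw [hfn'] at h2 hf'
  have h4 : ((fn' + k : ℕ) : ℂ) = 0 := by
    push_cast
    linear_combination -h2
  have h5 : fn' + k = 0 := by exact_mod_cast h4
  apply hf'
  have : fn' = 0 := by omega
  rw [this]; simp

/-- **Clifford correspondence**: an irreducible character `χ` of `G` lying over `ϑ ∈ Irr(H)` is
induced from an irreducible character `ψ` of the inertia group `T` of `ϑ`, with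
`⟨ψ_H, ϑ⟩ = ⟨χ_H, ϑ⟩`. -/
theorem clifford_correspondence (ϑ : H → ℂ) (hϑ : Cfsg.IsIrrCharacter H ϑ)
    (hT : ∀ g : G, g ∈ T ↔ ∀ n : H, ϑ ⟨g * n * g⁻¹, hN.conj_mem (n : G) n.2 g⟩ = ϑ n)
    (χ : G → ℂ) (hχ : Cfsg.IsIrrCharacter G χ)
    (hcon : Cfsg.classInner (fun n : H => χ n) ϑ ≠ 0) :
    ∃ ψ : T → ℂ, Cfsg.IsIrrCharacter T ψ ∧ Cfsg.indFun T ψ = χ ∧
      Cfsg.classInner (resTo H T hHT ψ) ϑ = Cfsg.classInner (fun n : H => χ n) ϑ := by
  classical
  -- decompose `χ_T`
  have hχT : Cfsg.IsCharacter T (fun t : T => χ t) :=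
    isCharacter_restrict T (isCharacter_of_irr hχ)
  obtain ⟨l, hl, hsum⟩ := isCharacter_exists_irr_decomp hχT
  have hcon1 : Cfsg.classInner (resTo H T hHT l.sum) ϑ ≠ 0 := by
    rw [← hsum]; exact hcon
  obtain ⟨ψ, hψl, hf⟩ := exists_mem_classInner_resTo_ne_zero H T hHT ϑ l hcon1
  have hψ := hl ψ hψl
  obtain ⟨fn, hfn⟩ := classInner_char_irr_nat
    (isCharacter_resTo H T hHT (isCharacter_of_irr hψ)) hϑ
  have hfn0 : fn ≠ 0 := by
    intro h0
    apply hf
    rw [hfn, h0]; simp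
  have hres := restrict_inertia_eq_smul H T hHT ϑ hϑ (fun g hg => (hT g).mp hg) ψ hψ hf
  have hΦ : Cfsg.IsCharacter G (Cfsg.indFun T ψ) := isCharacter_indFun T (isCharacter_of_irr hψ)
  have hΦH := classInner_restrict_indFun_inertia H T hHT ϑ hϑ hT ψ _ hres
  obtain ⟨l', hl', hsum'⟩ := isCharacter_exists_irr_decomp hΦ
  -- every constituent of `Ind ψ` contains `ϑ` at least `fn` times
  have hlow : ∀ χ' ∈ l', ∃ k : ℕ,
      Cfsg.classInner (fun n : H => χ' (n : G)) ϑ = (fn : ℂ) + k := by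
    intro χ' hχ'l
    have hχ' := hl' χ' hχ'l
    have hne : Cfsg.classInner (Cfsg.indFun T ψ) χ' ≠ 0 := by
      rw [hsum', classInner_irr_list_sum hl' hχ']
      exact Nat.cast_ne_zero.mpr (List.count_pos_iff.mpr hχ'l).ne'
    rw [Cfsg.Agent.Lib.L0.frobenius_reciprocity T ψ χ'
      (isClassFunction_of_isCharacter (isCharacter_of_irr hχ'))] at hne
    obtain ⟨l'', hl'', hsum''⟩ := isCharacter_exists_irr_decomp
      (isCharacter_restrict T (isCharacter_of_irr hχ'))
    have hmem : ψ ∈ l'' := by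
      rw [hsum'', ← classInner_conj_symm, classInner_irr_list_sum hl'' hψ] at hne
      by_contra hnot
      apply hne
      rw [List.count_eq_zero_of_not_mem hnot]
      simp
    obtain ⟨k, hk⟩ := exists_classInner_resTo_list_sum_eq_add H T hHT ϑ hϑ l'' hl'' ψ hmem
    refine ⟨k, ?_⟩
    rw [← hfn, ← hk, ← hsum'']
    rfl
  obtain ⟨K, hK⟩ := exists_classInner_restrict_list_sum H ϑ fn l' hlow
  rw [← hsum', hΦH, hfn] at hK
  have hK' : fn = l'.length * fn + K := by exact_mod_cast hK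
  have hlen : l'.length ≤ 1 := by
    by_contra hgt
    push Not at hgt
    have : 2 * fn ≤ l'.length * fn := Nat.mul_le_mul_right fn hgt
    omega
  -- `χ` occurs in `Ind ψ`
  have hχmem : χ ∈ l' := by
    have hne : Cfsg.classInner (Cfsg.indFun T ψ) χ ≠ 0 := by
      rw [Cfsg.Agent.Lib.L0.frobenius_reciprocity T ψ χ
        (isClassFunction_of_isCharacter (isCharacter_of_irr hχ)), hsum, ← classInner_conj_symm,
        classInner_irr_list_sum hl hψ]
      simp only [map_natCast]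
      exact Nat.cast_ne_zero.mpr (List.count_pos_iff.mpr hψl).ne'
    rw [hsum', classInner_irr_list_sum hl' hχ] at hne
    by_contra hnot
    apply hne
    rw [List.count_eq_zero_of_not_mem hnot]
    simp
  have hl'eq : l' = [χ] := by
    match l', hlen, hχmem with
    | [a], _, hm =>
      have : χ = a := by simpa using hm
      rw [this]
    | a :: b :: r, hlen, _ => simp at hlen
  have hind : Cfsg.indFun T ψ = χ := by
    rw [hsum', hl'eq, List.sum_singleton]
  refine ⟨ψ, hψ, hind, ?_⟩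
  rw [← hΦH, hind]

end Inertia

end Cfsg.Agent.Lib.H23
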