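import Mathlib
import Cfsg.Agent.Lib.H13.SympBasis

set_option autoImplicit false

/-!
# Unitary structures on symplectic spaces (helper23)

A *unitary structure* on a nondegenerate alternating space `(V, B)` over a finite field `F` of odd
order is an endomorphism `a` with `a² = δ` (a non-square) and `B (a u) v = - B u (a v)`.  We show
that `V` has a symplectic basis `e_i, f_i` with `a e_i = f_i` (`exists_adapted_basis`), hence any
two such structures with the same `δ` on spaces of the same dimension are isometric
(`exists_equiv`).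
-/

namespace Cfsg.Agent.Lib.H23.SpU

open Module Polynomial
open Cfsg.Agent.Lib.H13

section basic

variable {F : Type*} [Field F] {V : Type*} [AddCommGroup V] [Module F V]

/-- a skew-adjoint endomorphism with scalar square on a nondegenerate alternating space -/
structure UStr (B : LinearMap.BilinForm F V) (a : Module.End F V) (δ : F) : Prop where
  alt : ∀ v, B v v = 0
  nd : ∀ v, (∀ w, B v w = 0) → v = 0
  sq : ∀ v, a (a v) = δ • v
  skew : ∀ u v, B (a u) v = - B u (a v)

variable {B : LinearMap.BilinForm F V} {a : Module.End F V} {δ : F}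

theorem UStr.swap (h : UStr B a δ) (u v : V) : B u v = - B v u := alt_skew B h.alt u v

/-- if `B v (a v)` vanishes identically then the space is trivial -/
theorem UStr.exists_aniso (h : UStr B a δ) (h2 : (2 : F) ≠ 0) (hδ : δ ≠ 0) [Nontrivial V] :
    ∃ v, B v (a v) ≠ 0 := by
  by_contra hcon
  push Not at hcon
  have key : ∀ u v, B u (a v) = 0 := by
    intro u v
    have h1 := hcon (u + v)
    simp only [map_add, LinearMap.add_apply, hcon u, hcon v, zero_add, add_zero] at h1
    have h3 : B v (a u) = B u (a v) := by
      rw [h.swap v (a u), h.skew u v, neg_neg]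
    rw [h3] at h1
    have h4 : (2 : F) * B u (a v) = 0 := by linear_combination h1
    rcases mul_eq_zero.mp h4 with h5 | h5
    · exact absurd h5 h2
    · exact h5
  obtain ⟨u, hu⟩ := exists_ne (0 : V)
  apply hu
  apply h.nd
  intro w
  have hw : w = a (δ⁻¹ • a w) := by
    rw [map_smul, h.sq, smul_smul, inv_mul_cancel₀ hδ, one_smul]
  rw [hw]
  exact key u _

/-- scaling by `s + t a` multiplies `B v (a v)` by the norm `s² - δ t²` -/
theorem UStr.norm_scale (h : UStr B a δ) (s t : F) (v : V) :
    B (s • v + t • a v) (a (s • v + t • a v)) = (s ^ 2 - δ * t ^ 2) * B v (a v) := by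
  have h1 : B (a v) v = - B v (a v) := h.swap _ _
  simp only [map_add, map_smul, LinearMap.add_apply, LinearMap.smul_apply, h.sq, h.alt, h1,
    smul_eq_mul]
  ring

end basic

section norm

variable {F : Type*} [Field F] [Fintype F]

/-- the norm form `s² - δ t²` represents every element of a finite field of odd order -/
theorem exists_norm_eq (hodd : Fintype.card F % 2 = 1) (δ c : F) (hδ : δ ≠ 0) :
    ∃ s t : F, s ^ 2 - δ * t ^ 2 = c := by
  have hf : degree (X ^ 2 - C c : F[X]) = 2 := degree_X_pow_sub_C (by decide) _
  have hg : degree (C (-δ) * X ^ 2 : F[X]) = 2 := by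
    rw [degree_C_mul (neg_ne_zero.mpr hδ), degree_X_pow]
    rfl
  obtain ⟨s, t, hst⟩ := FiniteField.exists_root_sum_quadratic hf hg hodd
  refine ⟨s, t, ?_⟩
  simp only [eval_sub, eval_pow, eval_X, eval_C, eval_mul] at hst
  linear_combination hst

end norm

section adapted

variable {F : Type*} [Field F] [Fintype F]

theorem adapted_aux (hodd : Fintype.card F % 2 = 1) (h2 : (2 : F) ≠ 0) (δ : F) (hδ : δ ≠ 0) (n : ℕ) :
    ∀ {V : Type*} [AddCommGroup V] [Module F V] [FiniteDimensional F V]
    (B : LinearMap.BilinForm F V) (a : Module.End F V), UStr B a δ → finrank F V = n →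
    ∃ (ι : Type) (_ : Fintype ι) (_ : DecidableEq ι) (b : Basis (ι ⊕ ι) F V), IsSymp B b ∧
      ∀ i, a (b (.inl i)) = b (.inr i) := by
  induction n using Nat.strong_induction_on with
  | _ n ih =>
    intro V _ _ _ B a h hn
    by_cases h0 : n = 0
    · subst h0
      have : Subsingleton V := by
        rw [Module.finrank_zero_iff] at hn
        exact hn
      refine ⟨Empty, inferInstance, inferInstance, Basis.empty V, ?_, fun i => i.elim⟩
      constructor <;> intro i <;> exact i.elim
    · have hpos : 0 < finrank F V := by omega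
      have : Nontrivial V := Module.finrank_pos_iff.mp hpos
      obtain ⟨v, hv⟩ := h.exists_aniso h2 hδ
      obtain ⟨s, t, hst⟩ := exists_norm_eq hodd δ (B v (a v))⁻¹ hδ
      set e := s • v + t • a v with he
      set f := a e with hf
      have hef : B e f = 1 := by
        rw [hf, he, h.norm_scale, hst, inv_mul_cancel₀ hv]
      have hfe : B f e = -1 := by rw [h.swap, hef]
      have haf : a f = δ • e := h.sq e
      have hW : ∀ w ∈ pairOrthB B e f, a w ∈ pairOrthB B e f := by
        intro w hw
        rw [mem_pairOrthB] at hw ⊢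
        constructor
        · have := h.skew e w
          rw [← hf, hw.2] at this
          rw [eq_comm, neg_eq_zero] at this
          exact this
        · have := h.skew f w
          rw [haf, map_smul, LinearMap.smul_apply, hw.1, smul_zero] at this
          rw [eq_comm, neg_eq_zero] at this
          exact this
      have hfr := finrank_pairOrthB B h.alt e f hef
      have hU : UStr (restrictB B (pairOrthB B e f)) (a.restrict hW) δ := by
        refine ⟨fun x => h.alt x, nondeg_pairOrthB B h.alt e f hef h.nd, ?_, ?_⟩
        · intro x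
          apply Subtype.ext
          exact h.sq x
        · intro x y
          exact h.skew x y
      obtain ⟨ι, hι, hdec, b', hb', hab'⟩ := ih (n - 2) (by omega)
        (restrictB B (pairOrthB B e f)) (a.restrict hW) hU (by omega)
      refine ⟨Unit ⊕ ι, inferInstance, inferInstance, consBasisB B h.alt e f hef b',
        IsSymp.cons B h.alt e f hef b' hb', ?_⟩
      rintro (⟨⟩ | i)
      · rw [consBasisB_e, consBasisB_f]
      · rw [consBasisB_l, consBasisB_r, ← hab' i]
        rfl

/-- a unitary structure has an adapted symplectic basis -/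
theorem exists_adapted_basis (hodd : Fintype.card F % 2 = 1) (h2 : (2 : F) ≠ 0) (δ : F) (hδ : δ ≠ 0)
    {V : Type*} [AddCommGroup V] [Module F V] [FiniteDimensional F V]
    (B : LinearMap.BilinForm F V) (a : Module.End F V) (h : UStr B a δ) {m : ℕ}
    (hV : finrank F V = 2 * m) :
    ∃ b : Basis (Fin m ⊕ Fin m) F V, IsSymp B b ∧ (∀ i, a (b (.inl i)) = b (.inr i)) ∧
      ∀ i, a (b (.inr i)) = δ • b (.inl i) := by
  classical
  obtain ⟨ι, hι, hdec, b, hb, hab⟩ := adapted_aux hodd h2 δ hδ (finrank F V) B a h rfl
  have hcard : Fintype.card ι = m := by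
    have := Module.finrank_eq_card_basis b
    rw [Fintype.card_sum, hV] at this
    omega
  let e : ι ≃ Fin m := Fintype.equivFinOfCardEq hcard
  have h1 : ∀ i, a ((b.reindex (e.sumCongr e)) (.inl i)) = (b.reindex (e.sumCongr e)) (.inr i) := by
    intro i
    simp only [Basis.reindex_apply, Equiv.sumCongr_symm, Equiv.sumCongr_apply, Sum.map_inl,
      Sum.map_inr]
    exact hab _
  refine ⟨b.reindex (e.sumCongr e), IsSymp.reindex B b hb e, h1, ?_⟩
  intro i
  rw [← h1 i, h.sq]

end adapted

section equiv

variable {F : Type*} [Field F] [Fintype F]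

omit [Fintype F] in
theorem IsSymp.swap_pair {V : Type*} [AddCommGroup V] [Module F V] {B : LinearMap.BilinForm F V}
    (halt : ∀ v, B v v = 0) {ι : Type*} [DecidableEq ι] {b : ι ⊕ ι → V} (h : IsSymp B b) (i j : ι) :
    B (b (.inr i)) (b (.inl j)) = if i = j then -1 else 0 := by
  rw [alt_skew B halt, h.pair]
  by_cases hij : i = j
  · rw [if_pos hij, if_pos hij.symm]
  · rw [if_neg hij, if_neg (Ne.symm hij), neg_zero]

/-- two unitary structures with the same `δ` in the same dimension are isometric -/
theorem exists_equiv (hodd : Fintype.card F % 2 = 1) (h2 : (2 : F) ≠ 0) (δ : F) (hδ : δ ≠ 0)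
    {V V' : Type*} [AddCommGroup V] [Module F V] [FiniteDimensional F V]
    [AddCommGroup V'] [Module F V'] [FiniteDimensional F V']
    (B : LinearMap.BilinForm F V) (a : Module.End F V) (h : UStr B a δ)
    (B' : LinearMap.BilinForm F V') (a' : Module.End F V') (h' : UStr B' a' δ) {m : ℕ}
    (hV : finrank F V = 2 * m) (hV' : finrank F V' = 2 * m) :
    ∃ φ : V ≃ₗ[F] V', (∀ u v, B' (φ u) (φ v) = B u v) ∧ ∀ v, φ (a v) = a' (φ v) := by
  classical
  obtain ⟨b, hb, hab, hab2⟩ := exists_adapted_basis hodd h2 δ hδ B a h hV
  obtain ⟨b', hb', hab', hab2'⟩ := exists_adapted_basis hodd h2 δ hδ B' a' h' hV'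
  set φ : V ≃ₗ[F] V' := b.equiv b' (Equiv.refl _) with hφ
  have hφb : ∀ x, φ (b x) = b' x := by
    intro x
    rw [hφ, Basis.equiv_apply]
    rfl
  refine ⟨φ, ?_, ?_⟩
  · have key : B'.compl₁₂ (φ : V →ₗ[F] V') (φ : V →ₗ[F] V') = B := by
      apply LinearMap.BilinForm.ext_basis b
      intro x y
      rw [LinearMap.compl₁₂_apply, LinearEquiv.coe_coe, hφb, hφb]
      rcases x with i | i <;> rcases y with j | j
      · rw [hb.iso_l, hb'.iso_l]
      · rw [hb.pair, hb'.pair]
      · rw [IsSymp.swap_pair h.alt hb, IsSymp.swap_pair h'.alt hb']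
      · rw [hb.iso_r, hb'.iso_r]
    intro u v
    have := congrArg (fun T : LinearMap.BilinForm F V => T u v) key
    simpa using this
  · have key : (φ : V →ₗ[F] V') ∘ₗ a = a' ∘ₗ (φ : V →ₗ[F] V') := by
      apply b.ext
      intro x
      rw [LinearMap.comp_apply, LinearMap.comp_apply, LinearEquiv.coe_coe, hφb]
      rcases x with i | i
      · rw [hab, hφb, hab']
      · rw [hab2, map_smul, hφb, hab2']
    intro v
    exact congrArg (fun T : V →ₗ[F] V' => T v) key

end equiv

end Cfsg.Agent.Lib.H23.SpU
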