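import Mathlib
import Cfsg.Prelude.Def_GeometricClasses
import Cfsg.Agent.Lib.H23.SpUA
import Cfsg.Agent.Lib.H13.SpInvolCount

set_option autoImplicit false

/-!
# The subalgebra `K` of a unitary-type subgroup of `Sp_{2d}(q)` (helper23)

`K = F[α]` with `α² = δ` a non-square and `α` skew-adjoint; the normalizer of `K` consists of the
matrices commuting or anticommuting with `α`.
-/

namespace Cfsg.Agent.Lib.H23.SpU

open Module Matrix
open Cfsg.Agent.Lib.H13 Cfsg.Agent.Lib.H13.SpInvolCount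

section adj

variable {F : Type*} [Field F] {d : ℕ}

/-- `A'` is the adjoint of `A` for the symplectic form -/
def Adj (A A' : Matrix (Fin d ⊕ Fin d) (Fin d ⊕ Fin d) F) : Prop :=
  ∀ u v, Cfsg.sympForm d F (A *ᵥ u) v = Cfsg.sympForm d F u (A' *ᵥ v)

theorem Adj.symm {A A' : Matrix (Fin d ⊕ Fin d) (Fin d ⊕ Fin d) F} (h : Adj A A') : Adj A' A := by
  intro u v
  rw [Cfsg.Agent.Lib.H4.sympForm_swap, ← h v u, Cfsg.Agent.Lib.H4.sympForm_swap, neg_neg]

theorem Adj.sub {A A' C C' : Matrix (Fin d ⊕ Fin d) (Fin d ⊕ Fin d) F} (h : Adj A A')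
    (h' : Adj C C') : Adj (A - C) (A' - C') := by
  intro u v
  rw [← sympB_apply, ← sympB_apply, Matrix.sub_mulVec, Matrix.sub_mulVec, map_sub, map_sub,
    LinearMap.sub_apply, sympB_apply, sympB_apply, sympB_apply, sympB_apply, h u v, h' u v]

theorem Adj.mul {A A' C C' : Matrix (Fin d ⊕ Fin d) (Fin d ⊕ Fin d) F} (h : Adj A A')
    (h' : Adj C C') : Adj (A * C) (C' * A') := by
  intro u v
  rw [← Matrix.mulVec_mulVec, ← Matrix.mulVec_mulVec, h, h']

theorem Adj.lin {A A' : Matrix (Fin d ⊕ Fin d) (Fin d ⊕ Fin d) F} (h : Adj A A') (s t : F) :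
    Adj (s • 1 + t • A) (s • 1 + t • A') := by
  intro u v
  rw [Matrix.add_mulVec, Matrix.add_mulVec, Matrix.smul_mulVec,
    Matrix.smul_mulVec, Matrix.smul_mulVec, Matrix.smul_mulVec, Matrix.one_mulVec,
    Matrix.one_mulVec, Cfsg.Agent.Lib.H4.sympForm_add_left, Cfsg.Agent.Lib.H4.sympForm_add_right,
    Cfsg.Agent.Lib.H4.sympForm_smul_left, Cfsg.Agent.Lib.H4.sympForm_smul_left,
    Cfsg.Agent.Lib.H4.sympForm_smul_right, Cfsg.Agent.Lib.H4.sympForm_smul_right, h u v]

theorem Adj.unique {A A' A'' : Matrix (Fin d ⊕ Fin d) (Fin d ⊕ Fin d) F} (h : Adj A A')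
    (h' : Adj A A'') : A' = A'' := by
  apply Matrix.toLin'.injective
  apply LinearMap.ext
  intro v
  rw [Matrix.toLin'_apply, Matrix.toLin'_apply, ← sub_eq_zero]
  apply (sympB_nondeg (F := F) d).2
  intro u
  rw [map_sub, sympB_apply, sympB_apply, ← h u v, ← h' u v, sub_self]

end adj

section alpha

variable {F : Type*} [Field F] {d : ℕ}

/-- the data extracted from the subalgebra `K` -/
structure KData (K : Subalgebra F (Matrix (Fin d ⊕ Fin d) (Fin d ⊕ Fin d) F))
    (α : Matrix (Fin d ⊕ Fin d) (Fin d ⊕ Fin d) F) (δ : F) : Prop where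
  mem : α ∈ K
  sq : α * α = δ • 1
  nsq : ∀ c : F, c * c ≠ δ
  skew : Adj α (-α)
  span : ∀ k ∈ K, ∃ s t : F, k = s • 1 + t • α

theorem one_ne_zero' (hd : 1 ≤ d) : (1 : Matrix (Fin d ⊕ Fin d) (Fin d ⊕ Fin d) F) ≠ 0 := by
  have : Nonempty (Fin d ⊕ Fin d) := ⟨Sum.inl ⟨0, hd⟩⟩
  exact one_ne_zero

theorem smul_one_eq_zero (hd : 1 ≤ d) (c : F)
    (h : c • (1 : Matrix (Fin d ⊕ Fin d) (Fin d ⊕ Fin d) F) = 0) : c = 0 := by
  rcases smul_eq_zero.mp h with h | h
  · exact h
  · exact absurd h (one_ne_zero' hd)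

theorem exists_alpha (hd : 1 ≤ d) (h2 : (2 : F) ≠ 0)
    (K : Subalgebra F (Matrix (Fin d ⊕ Fin d) (Fin d ⊕ Fin d) F))
    (hK : Cfsg.Geo.IsFieldSubalgebra 2 K)
    (hKf : Cfsg.Geo.IsAdjointClosedFor (Cfsg.sympForm d F) K)
    (hKns : ¬ Cfsg.Geo.IsSelfAdjointFor (Cfsg.sympForm d F) K) :
    ∃ (α : Matrix (Fin d ⊕ Fin d) (Fin d ⊕ Fin d) F) (δ : F), KData K α δ := by
  classical
  unfold Cfsg.Geo.IsSelfAdjointFor at hKns
  push Not at hKns
  obtain ⟨k, hkK, u₀, v₀, huv⟩ := hKns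
  obtain ⟨k', hk'K, hkk'⟩ := hKf k hkK
  have hadj : Adj k k' := hkk'
  set β := k - k' with hβ
  have hβK : β ∈ K := K.sub_mem hkK hk'K
  have hβadj : Adj β (-β) := by
    have := hadj.sub hadj.symm
    rwa [← neg_sub k k'] at this
  have hβ0 : β ≠ 0 := by
    intro h0
    apply huv
    have : k = k' := sub_eq_zero.mp h0
    rw [hadj u₀ v₀, ← this]
  -- `β` is not a scalar
  have hβsc : ∀ c : F, β ≠ c • 1 := by
    intro c hc
    have h1 : Adj (c • (1 : Matrix (Fin d ⊕ Fin d) (Fin d ⊕ Fin d) F)) (c • 1) := by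
      have := (show Adj (1 : Matrix (Fin d ⊕ Fin d) (Fin d ⊕ Fin d) F) 1 from fun u v => by
        rw [Matrix.one_mulVec, Matrix.one_mulVec]).lin 0 c
      simpa using this
    have h3 : Adj (c • (1 : Matrix (Fin d ⊕ Fin d) (Fin d ⊕ Fin d) F)) (-(c • 1)) := by
      rw [← hc]; exact hβadj
    have h4 := h1.unique h3
    have h5 : ((2 : F) * c) • (1 : Matrix (Fin d ⊕ Fin d) (Fin d ⊕ Fin d) F) = 0 := by
      rw [mul_smul, two_smul]
      nth_rewrite 1 [h4]
      exact neg_add_cancel _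
    have h6 := smul_one_eq_zero hd _ h5
    have hc0 : c = 0 := by
      rcases mul_eq_zero.mp h6 with h | h
      · exact absurd h h2
      · exact h
    apply hβ0
    rw [hc, hc0, zero_smul]
  -- linear independence
  have hli : LinearIndependent F ![(1 : Matrix (Fin d ⊕ Fin d) (Fin d ⊕ Fin d) F), β] := by
    rw [LinearIndependent.pair_iff]
    intro s t hst
    by_cases ht : t = 0
    · subst ht
      rw [zero_smul, add_zero] at hst
      exact ⟨smul_one_eq_zero hd s hst, rfl⟩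
    · exfalso
      apply hβsc (-(t⁻¹ * s))
      have : β = t⁻¹ • (t • β) := by rw [smul_smul, inv_mul_cancel₀ ht, one_smul]
      rw [this, eq_neg_of_add_eq_zero_right hst, smul_neg, smul_smul, neg_smul]
  have hspan : Submodule.span F (Set.range ![(1 : Matrix (Fin d ⊕ Fin d) (Fin d ⊕ Fin d) F), β]) =
      Subalgebra.toSubmodule K := by
    apply Submodule.eq_of_le_of_finrank_eq
    · rw [Submodule.span_le]
      rintro x ⟨i, rfl⟩
      fin_cases i
      · exact K.one_mem
      · exact hβK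
    · rw [finrank_span_eq_card hli, Fintype.card_fin]
      exact hK.finrank_eq.symm
  have hKspan : ∀ x ∈ K, ∃ s t : F, x = s • 1 + t • β := by
    intro x hx
    have hx' : x ∈ Submodule.span F (Set.range ![(1 : Matrix (Fin d ⊕ Fin d) (Fin d ⊕ Fin d) F), β]) := by
      rw [hspan]; exact hx
    rw [Submodule.mem_span_range_iff_exists_fun] at hx'
    obtain ⟨c, hc⟩ := hx'
    rw [Fin.sum_univ_two] at hc
    exact ⟨c 0, c 1, hc.symm⟩
  -- the square of `β` is a scalar
  obtain ⟨s, t, hst⟩ := hKspan (β * β) (K.mul_mem hβK hβK)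
  have ht0 : t = 0 := by
    have h1 : Adj (β * β) (β * β) := by
      have := hβadj.mul hβadj
      rwa [neg_mul_neg] at this
    have h3 : Adj (s • 1 + t • β) (s • 1 + t • -β) := hβadj.lin s t
    rw [← hst] at h3
    have h4 := h1.unique h3
    rw [hst] at h4
    have h5 : ((2 : F) * t) • β = 0 := by
      rw [mul_smul, two_smul]
      have : t • β = t • -β := add_left_cancel h4
      nth_rewrite 1 [this]
      rw [smul_neg]
      exact neg_add_cancel _
    rcases smul_eq_zero.mp h5 with h | h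
    · rcases mul_eq_zero.mp h with h' | h'
      · exact absurd h' h2
      · exact h'
    · exact absurd h hβ0
  rw [ht0, zero_smul, add_zero] at hst
  refine ⟨β, s, hβK, hst, ?_, hβadj, hKspan⟩
  -- `s` is not a square
  intro c hc
  have hprod : (β - c • 1) * (β + c • 1) = 0 := by
    have : (β - c • 1) * (β + c • 1) = β * β - (c * c) • 1 := by
      simp only [sub_mul, mul_add, Matrix.smul_mul, Matrix.mul_smul, Matrix.one_mul,
        Matrix.mul_one, smul_smul]
      abel
    rw [this, hst, hc, sub_self]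
  by_cases hx : β - c • 1 = 0
  · exact hβsc c (sub_eq_zero.mp hx)
  · obtain ⟨y, hyK, hy⟩ := hK.inv _ (K.sub_mem hβK (K.smul_mem K.one_mem c)) hx
    have hy' : y * (β - c • 1) = 1 := by
      rw [← hK.comm _ (K.sub_mem hβK (K.smul_mem K.one_mem c)) _ hyK]; exact hy
    have : β + c • 1 = 0 := by
      calc β + c • 1 = (y * (β - c • 1)) * (β + c • 1) := by rw [hy', Matrix.one_mul]
        _ = 0 := by rw [Matrix.mul_assoc, hprod, Matrix.mul_zero]
    apply hβsc (-c)
    rw [neg_smul]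
    exact eq_neg_of_add_eq_zero_left this

end alpha

end Cfsg.Agent.Lib.H23.SpU
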