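import Mathlib
import Cfsg.Agent.Lib.H23.SpUB

set_option autoImplicit false

/-!
# Normalizer of `K = F[α]` and conjugacy of unitary structures in `Sp` (helper23)
-/

namespace Cfsg.Agent.Lib.H23.SpU

open Module Matrix
open Cfsg.Agent.Lib.H13 Cfsg.Agent.Lib.H13.SpInvolCount

section norm

variable {F : Type*} [Field F] {d : ℕ}
  {K : Subalgebra F (Matrix (Fin d ⊕ Fin d) (Fin d ⊕ Fin d) F)}
  {α : Matrix (Fin d ⊕ Fin d) (Fin d ⊕ Fin d) F} {δ : F}

theorem KData.ne_smul (h : KData K α δ) (hd : 1 ≤ d) (c : F) : α ≠ c • 1 := by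
  intro hc
  have := h.sq
  rw [hc, Matrix.smul_mul, Matrix.mul_smul, Matrix.one_mul, smul_smul, ← sub_eq_zero,
    ← sub_smul] at this
  exact h.nsq c (sub_eq_zero.mp (smul_one_eq_zero hd _ this))

theorem KData.delta_ne (h : KData K α δ) : δ ≠ 0 := by
  intro h0
  exact h.nsq 0 (by rw [h0, mul_zero])

theorem KData.indep (h : KData K α δ) (hd : 1 ≤ d) (s t : F) (hst : s • 1 + t • α = 0) :
    s = 0 ∧ t = 0 := by
  by_cases ht : t = 0
  · subst ht
    rw [zero_smul, add_zero] at hst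
    exact ⟨smul_one_eq_zero hd s hst, rfl⟩
  · exfalso
    apply h.ne_smul hd (-(t⁻¹ * s))
    have : α = t⁻¹ • (t • α) := by rw [smul_smul, inv_mul_cancel₀ ht, one_smul]
    rw [this, eq_neg_of_add_eq_zero_right hst, smul_neg, smul_smul, neg_smul]

theorem KData.mem_iff (h : KData K α δ) (k : Matrix (Fin d ⊕ Fin d) (Fin d ⊕ Fin d) F) :
    k ∈ K ↔ ∃ s t : F, k = s • 1 + t • α := by
  constructor
  · exact h.span k
  · rintro ⟨s, t, rfl⟩
    exact K.add_mem (K.smul_mem K.one_mem s) (K.smul_mem h.mem t)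

theorem gl_mul_inv (g : GL (Fin d ⊕ Fin d) F) :
    (g : Matrix (Fin d ⊕ Fin d) (Fin d ⊕ Fin d) F) * ((g⁻¹ : GL (Fin d ⊕ Fin d) F) :
      Matrix (Fin d ⊕ Fin d) (Fin d ⊕ Fin d) F) = 1 := by
  rw [← Units.val_mul, mul_inv_cancel, Units.val_one]

theorem gl_inv_mul (g : GL (Fin d ⊕ Fin d) F) :
    ((g⁻¹ : GL (Fin d ⊕ Fin d) F) : Matrix (Fin d ⊕ Fin d) (Fin d ⊕ Fin d) F) *
      (g : Matrix (Fin d ⊕ Fin d) (Fin d ⊕ Fin d) F) = 1 := by
  rw [← Units.val_mul, inv_mul_cancel, Units.val_one]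

/-- conjugation relation from a (anti)commutation relation -/
theorem conj_of_comm (g : GL (Fin d ⊕ Fin d) F) (ε : F)
    (hg : (g : Matrix (Fin d ⊕ Fin d) (Fin d ⊕ Fin d) F) * α = ε • (α * g)) (s t : F) :
    (g : Matrix (Fin d ⊕ Fin d) (Fin d ⊕ Fin d) F) * (s • 1 + t • α) *
      ((g⁻¹ : GL (Fin d ⊕ Fin d) F) : Matrix (Fin d ⊕ Fin d) (Fin d ⊕ Fin d) F) =
      s • 1 + (t * ε) • α := by
  rw [Matrix.mul_add, Matrix.mul_smul, Matrix.mul_smul, Matrix.mul_one, hg, Matrix.add_mul,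
    Matrix.smul_mul, Matrix.smul_mul, Matrix.smul_mul, gl_mul_inv, Matrix.mul_assoc, gl_mul_inv,
    Matrix.mul_one, smul_smul]

theorem inv_comm (g : GL (Fin d ⊕ Fin d) F) (ε : F) (hε : ε * ε = 1)
    (hg : (g : Matrix (Fin d ⊕ Fin d) (Fin d ⊕ Fin d) F) * α = ε • (α * g)) :
    ((g⁻¹ : GL (Fin d ⊕ Fin d) F) : Matrix (Fin d ⊕ Fin d) (Fin d ⊕ Fin d) F) * α =
      ε • (α * ((g⁻¹ : GL (Fin d ⊕ Fin d) F) : Matrix (Fin d ⊕ Fin d) (Fin d ⊕ Fin d) F)) := by
  have h1 : α = ε • (((g⁻¹ : GL (Fin d ⊕ Fin d) F) : Matrix (Fin d ⊕ Fin d) (Fin d ⊕ Fin d) F) *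
      α * g) := by
    rw [Matrix.mul_assoc, ← Matrix.mul_smul, ← hg, ← Matrix.mul_assoc, gl_inv_mul, Matrix.one_mul]
  calc ((g⁻¹ : GL (Fin d ⊕ Fin d) F) : Matrix (Fin d ⊕ Fin d) (Fin d ⊕ Fin d) F) * α
      = (ε * ε) • (((g⁻¹ : GL (Fin d ⊕ Fin d) F) :
          Matrix (Fin d ⊕ Fin d) (Fin d ⊕ Fin d) F) * α * (g * ((g⁻¹ : GL (Fin d ⊕ Fin d) F) :
          Matrix (Fin d ⊕ Fin d) (Fin d ⊕ Fin d) F))) := by
        rw [hε, one_smul, gl_mul_inv, Matrix.mul_one]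
    _ = ε • (α * ((g⁻¹ : GL (Fin d ⊕ Fin d) F) :
          Matrix (Fin d ⊕ Fin d) (Fin d ⊕ Fin d) F)) := by
        rw [← Matrix.mul_assoc, mul_smul, ← Matrix.smul_mul ε, ← h1]

/-- the normalizer of `K` consists of the matrices commuting or anticommuting with `α` -/
theorem KData.mem_normalizer_iff (h : KData K α δ) (hd : 1 ≤ d) (h2 : (2 : F) ≠ 0)
    (g : GL (Fin d ⊕ Fin d) F) :
    g ∈ Cfsg.Geo.subalgebraNormalizer K ↔
      ((g : Matrix (Fin d ⊕ Fin d) (Fin d ⊕ Fin d) F) * α = α * g ∨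
       (g : Matrix (Fin d ⊕ Fin d) (Fin d ⊕ Fin d) F) * α = -(α * g)) := by
  constructor
  · intro hg
    have h1 : (g : Matrix (Fin d ⊕ Fin d) (Fin d ⊕ Fin d) F) * α *
        ((g⁻¹ : GL (Fin d ⊕ Fin d) F) : Matrix (Fin d ⊕ Fin d) (Fin d ⊕ Fin d) F) ∈ K :=
      (hg α).mp h.mem
    obtain ⟨s, t, hst⟩ := h.span _ h1
    have hsq : (s • 1 + t • α) * (s • 1 + t • α) = δ • (1 : Matrix (Fin d ⊕ Fin d) (Fin d ⊕ Fin d) F) := by
      rw [← hst]
      calc (g : Matrix (Fin d ⊕ Fin d) (Fin d ⊕ Fin d) F) * α *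
            ((g⁻¹ : GL (Fin d ⊕ Fin d) F) : Matrix (Fin d ⊕ Fin d) (Fin d ⊕ Fin d) F) *
            ((g : Matrix (Fin d ⊕ Fin d) (Fin d ⊕ Fin d) F) * α *
            ((g⁻¹ : GL (Fin d ⊕ Fin d) F) : Matrix (Fin d ⊕ Fin d) (Fin d ⊕ Fin d) F))
          = (g : Matrix (Fin d ⊕ Fin d) (Fin d ⊕ Fin d) F) * (α *
            (((g⁻¹ : GL (Fin d ⊕ Fin d) F) : Matrix (Fin d ⊕ Fin d) (Fin d ⊕ Fin d) F) *
            (g : Matrix (Fin d ⊕ Fin d) (Fin d ⊕ Fin d) F)) * α) *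
            ((g⁻¹ : GL (Fin d ⊕ Fin d) F) : Matrix (Fin d ⊕ Fin d) (Fin d ⊕ Fin d) F) := by
            simp only [Matrix.mul_assoc]
        _ = δ • 1 := by
            rw [gl_inv_mul, Matrix.mul_one, h.sq, Matrix.mul_smul, Matrix.mul_one, Matrix.smul_mul,
              gl_mul_inv]
    have hexp : (s • 1 + t • α) * (s • 1 + t • α) =
        (s * s + t * t * δ) • (1 : Matrix (Fin d ⊕ Fin d) (Fin d ⊕ Fin d) F) + (2 * s * t) • α := by
      simp only [add_mul, mul_add, Matrix.smul_mul, Matrix.mul_smul, Matrix.one_mul,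
        Matrix.mul_one, smul_smul, h.sq]
      rw [add_smul, mul_assoc 2 s t, two_mul, add_smul, mul_comm t s, mul_assoc t t δ]
      abel
    rw [hexp] at hsq
    have hz : (s * s + t * t * δ - δ) • (1 : Matrix (Fin d ⊕ Fin d) (Fin d ⊕ Fin d) F) +
        (2 * s * t) • α = 0 := by
      rw [sub_smul, sub_add_eq_add_sub, hsq, sub_self]
    obtain ⟨e1, e2⟩ := h.indep hd _ _ hz
    have hs0 : s = 0 := by
      by_contra hs
      have ht0 : t = 0 := by
        rcases mul_eq_zero.mp e2 with h' | h'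
        · rcases mul_eq_zero.mp h' with h'' | h''
          · exact absurd h'' h2
          · exact absurd h'' hs
        · exact h'
      rw [ht0] at e1
      apply h.nsq s
      linear_combination e1
    rw [hs0] at e1
    have ht1 : (t - 1) * (t + 1) = 0 := by
      have : (t * t - 1) * δ = 0 := by linear_combination e1
      rcases mul_eq_zero.mp this with h' | h'
      · linear_combination h'
      · exact absurd h' h.delta_ne
    rw [hs0, zero_smul, zero_add] at hst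
    have hga : (g : Matrix (Fin d ⊕ Fin d) (Fin d ⊕ Fin d) F) * α = t • (α * g) := by
      calc (g : Matrix (Fin d ⊕ Fin d) (Fin d ⊕ Fin d) F) * α
          = (g : Matrix (Fin d ⊕ Fin d) (Fin d ⊕ Fin d) F) * α *
            (((g⁻¹ : GL (Fin d ⊕ Fin d) F) : Matrix (Fin d ⊕ Fin d) (Fin d ⊕ Fin d) F) * g) := by
            rw [gl_inv_mul, Matrix.mul_one]
        _ = t • (α * g) := by rw [← Matrix.mul_assoc, hst, Matrix.smul_mul]
    rcases mul_eq_zero.mp ht1 with h' | h'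
    · left
      rw [hga, sub_eq_zero.mp h', one_smul]
    · right
      rw [hga, eq_neg_of_add_eq_zero_left h', neg_smul, one_smul]
  · intro hg
    obtain ⟨ε, hε, hgε⟩ : ∃ ε : F, ε * ε = 1 ∧
        (g : Matrix (Fin d ⊕ Fin d) (Fin d ⊕ Fin d) F) * α = ε • (α * g) := by
      rcases hg with hg | hg
      · exact ⟨1, one_mul 1, by rw [one_smul]; exact hg⟩
      · exact ⟨-1, by ring, by rw [neg_smul, one_smul]; exact hg⟩
    intro k
    constructor
    · intro hk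
      obtain ⟨s, t, rfl⟩ := h.span k hk
      rw [conj_of_comm g ε hgε]
      exact (h.mem_iff _).mpr ⟨s, t * ε, rfl⟩
    · intro hk
      obtain ⟨s, t, hst⟩ := h.span _ hk
      have hk' : k = ((g⁻¹ : GL (Fin d ⊕ Fin d) F) : Matrix (Fin d ⊕ Fin d) (Fin d ⊕ Fin d) F) *
          (s • 1 + t • α) * (((g⁻¹)⁻¹ : GL (Fin d ⊕ Fin d) F) :
            Matrix (Fin d ⊕ Fin d) (Fin d ⊕ Fin d) F) := by
        rw [← hst, inv_inv]
        calc k = (((g⁻¹ : GL (Fin d ⊕ Fin d) F) : Matrix (Fin d ⊕ Fin d) (Fin d ⊕ Fin d) F) * g) * k *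
              (((g⁻¹ : GL (Fin d ⊕ Fin d) F) : Matrix (Fin d ⊕ Fin d) (Fin d ⊕ Fin d) F) * g) := by
              rw [gl_inv_mul, Matrix.one_mul, Matrix.mul_one]
          _ = _ := by simp only [Matrix.mul_assoc]
      rw [hk', conj_of_comm g⁻¹ ε (inv_comm g ε hε hgε)]
      exact (h.mem_iff _).mpr ⟨s, t * ε, rfl⟩

/-- an element of the normalizer with an odd power scalar commutes with `α` -/
theorem KData.comm_of_odd (h : KData K α δ) (hd : 1 ≤ d) (h2 : (2 : F) ≠ 0)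
    (y : GL (Fin d ⊕ Fin d) F) (hy : y ∈ Cfsg.Geo.subalgebraNormalizer K) (r : ℕ) (hr : Odd r)
    (z : F) (hz : ((y ^ r : GL (Fin d ⊕ Fin d) F) : Matrix (Fin d ⊕ Fin d) (Fin d ⊕ Fin d) F) =
      z • 1) :
    (y : Matrix (Fin d ⊕ Fin d) (Fin d ⊕ Fin d) F) * α = α * y := by
  rcases (h.mem_normalizer_iff hd h2 y).mp hy with h1 | h1
  · exact h1
  · exfalso
    have hpow : ∀ n : ℕ, (y : Matrix (Fin d ⊕ Fin d) (Fin d ⊕ Fin d) F) ^ n * α =
        (-1 : F) ^ n • (α * (y : Matrix (Fin d ⊕ Fin d) (Fin d ⊕ Fin d) F) ^ n) := by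
      intro n
      induction n with
      | zero => simp
      | succ n ih =>
        rw [pow_succ, Matrix.mul_assoc, h1, Matrix.mul_neg, ← Matrix.mul_assoc, ih,
          Matrix.smul_mul, Matrix.mul_assoc, pow_succ, mul_smul, neg_smul, one_smul, smul_neg]
    have h3 := hpow r
    rw [← Units.val_pow_eq_pow_val, hz, hr.neg_one_pow, Matrix.smul_mul, Matrix.one_mul,
      Matrix.mul_smul, Matrix.mul_one, neg_smul, one_smul] at h3
    have h4 : ((2 : F) * z) • α = 0 := by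
      rw [mul_smul, two_smul]
      nth_rewrite 1 [h3]
      exact neg_add_cancel _
    have hz0 : z ≠ 0 := by
      intro hz0
      rw [hz0, zero_smul] at hz
      have h5 := gl_mul_inv (y ^ r)
      rw [hz, Matrix.zero_mul] at h5
      exact one_ne_zero' hd h5.symm
    have hα0 : α ≠ 0 := by
      intro h0
      apply h.ne_smul hd 0
      rw [h0, zero_smul]
    rcases smul_eq_zero.mp h4 with h' | h'
    · rcases mul_eq_zero.mp h' with h'' | h''
      · exact h2 h''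
      · exact hz0 h''
    · exact hα0 h'

end norm

end Cfsg.Agent.Lib.H23.SpU
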