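import Mathlib
import Cfsg.Agent.Lib.H23.SpUC
import Cfsg.Agent.Lib.H13.Singer

set_option autoImplicit false

/-!
# Conjugacy of unitary structures inside `Sp_{2d}(q)` (helper23)
-/

namespace Cfsg.Agent.Lib.H23.SpU

open Module Matrix
open Cfsg.Agent.Lib.H13 Cfsg.Agent.Lib.H13.SpInvolCount Cfsg.Agent.Lib.H13.Singer

section transport

variable {F : Type*} [Field F] {d : ℕ}

theorem mem_spGL_iff (g : GL (Fin d ⊕ Fin d) F) :
    g ∈ Cfsg.spGL d F ↔ ∀ u v, Cfsg.sympForm d F ((g : Matrix (Fin d ⊕ Fin d) (Fin d ⊕ Fin d) F) *ᵥ u)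
      ((g : Matrix (Fin d ⊕ Fin d) (Fin d ⊕ Fin d) F) *ᵥ v) = Cfsg.sympForm d F u v := Iff.rfl

/-- a matrix with scalar square and skew adjoint gives a unitary structure -/
theorem ustr_of_matrix (α : Matrix (Fin d ⊕ Fin d) (Fin d ⊕ Fin d) F) (δ : F)
    (hsq : α * α = δ • 1) (hskew : Adj α (-α)) :
    UStr (sympB (F := F) d) (Matrix.toLin' α) δ := by
  refine ⟨sympB_alt d, (sympB_nondeg d).1, ?_, ?_⟩
  · intro v
    rw [Matrix.toLin'_apply, Matrix.toLin'_apply, Matrix.mulVec_mulVec, hsq, Matrix.smul_mulVec,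
      Matrix.one_mulVec]
  · intro u v
    rw [sympB_apply, sympB_apply, Matrix.toLin'_apply, Matrix.toLin'_apply, hskew u v,
      Matrix.neg_mulVec, ← sympB_apply, ← sympB_apply, map_neg]

theorem finrank_II : finrank F (Fin d ⊕ Fin d → F) = 2 * d := by
  rw [Module.finrank_fintype_fun_eq_card, Fintype.card_sum, Fintype.card_fin, two_mul]

variable [Fintype F]

/-- two unitary structures with the same `δ` are conjugate under `Sp` -/
theorem exists_sp_conj (hodd : Fintype.card F % 2 = 1) (h2 : (2 : F) ≠ 0)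
    (α α' : Matrix (Fin d ⊕ Fin d) (Fin d ⊕ Fin d) F) (δ : F) (hδ : δ ≠ 0)
    (hsq : α * α = δ • 1) (hskew : Adj α (-α)) (hsq' : α' * α' = δ • 1) (hskew' : Adj α' (-α')) :
    ∃ g : GL (Fin d ⊕ Fin d) F, g ∈ Cfsg.spGL d F ∧
      (g : Matrix (Fin d ⊕ Fin d) (Fin d ⊕ Fin d) F) * α = α' * g := by
  obtain ⟨φ, hφB, hφa⟩ := exists_equiv hodd h2 δ hδ (sympB (F := F) d) (Matrix.toLin' α)
    (ustr_of_matrix α δ hsq hskew) (sympB (F := F) d) (Matrix.toLin' α')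
    (ustr_of_matrix α' δ hsq' hskew') finrank_II finrank_II
  refine ⟨glOf φ, ?_, ?_⟩
  · rw [mem_spGL_iff]
    intro u v
    rw [glOf_mulVec, glOf_mulVec, ← sympB_apply, ← sympB_apply, hφB]
  · apply Matrix.toLin'.injective
    apply LinearMap.ext
    intro u
    rw [Matrix.toLin'_apply, Matrix.toLin'_apply, ← Matrix.mulVec_mulVec, ← Matrix.mulVec_mulVec,
      glOf_mulVec, glOf_mulVec, ← Matrix.toLin'_apply, hφa, Matrix.toLin'_apply]

/-- if `x` commutes or anticommutes with some unitary structure with parameter `δ`, a conjugate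
of `x` normalizes `K` -/
theorem KData.exists_conj_mem {K : Subalgebra F (Matrix (Fin d ⊕ Fin d) (Fin d ⊕ Fin d) F)}
    {α : Matrix (Fin d ⊕ Fin d) (Fin d ⊕ Fin d) F} {δ : F} (h : KData K α δ) (hd : 1 ≤ d)
    (hodd : Fintype.card F % 2 = 1) (h2 : (2 : F) ≠ 0)
    (x : GL (Fin d ⊕ Fin d) F) (α' : Matrix (Fin d ⊕ Fin d) (Fin d ⊕ Fin d) F)
    (hsq' : α' * α' = δ • 1) (hskew' : Adj α' (-α'))
    (hx : (x : Matrix (Fin d ⊕ Fin d) (Fin d ⊕ Fin d) F) * α' = α' * x ∨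
      (x : Matrix (Fin d ⊕ Fin d) (Fin d ⊕ Fin d) F) * α' = -(α' * x)) :
    ∃ g ∈ Cfsg.spGL d F, g⁻¹ * x * g ∈ Cfsg.Geo.subalgebraNormalizer K := by
  obtain ⟨g, hg, hgα⟩ := exists_sp_conj hodd h2 α α' δ h.delta_ne h.sq h.skew hsq' hskew'
  refine ⟨g, hg, ?_⟩
  rw [h.mem_normalizer_iff hd h2]
  have hgi : ((g⁻¹ : GL (Fin d ⊕ Fin d) F) : Matrix (Fin d ⊕ Fin d) (Fin d ⊕ Fin d) F) * α' =
      α * ((g⁻¹ : GL (Fin d ⊕ Fin d) F) : Matrix (Fin d ⊕ Fin d) (Fin d ⊕ Fin d) F) := by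
    calc ((g⁻¹ : GL (Fin d ⊕ Fin d) F) : Matrix (Fin d ⊕ Fin d) (Fin d ⊕ Fin d) F) * α'
        = ((g⁻¹ : GL (Fin d ⊕ Fin d) F) : Matrix (Fin d ⊕ Fin d) (Fin d ⊕ Fin d) F) * (α' * g) *
            ((g⁻¹ : GL (Fin d ⊕ Fin d) F) : Matrix (Fin d ⊕ Fin d) (Fin d ⊕ Fin d) F) := by
          rw [Matrix.mul_assoc, Matrix.mul_assoc, gl_mul_inv, Matrix.mul_one]
      _ = α * ((g⁻¹ : GL (Fin d ⊕ Fin d) F) : Matrix (Fin d ⊕ Fin d) (Fin d ⊕ Fin d) F) := by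
          rw [← hgα, ← Matrix.mul_assoc, gl_inv_mul, Matrix.one_mul]
  have e1 : ((g⁻¹ * x * g : GL (Fin d ⊕ Fin d) F) : Matrix (Fin d ⊕ Fin d) (Fin d ⊕ Fin d) F) * α =
      ((g⁻¹ : GL (Fin d ⊕ Fin d) F) : Matrix (Fin d ⊕ Fin d) (Fin d ⊕ Fin d) F) *
        ((x : Matrix (Fin d ⊕ Fin d) (Fin d ⊕ Fin d) F) * α') * g := by
    rw [Units.val_mul, Units.val_mul, Matrix.mul_assoc, hgα]
    simp only [Matrix.mul_assoc]
  have e2 : α * ((g⁻¹ * x * g : GL (Fin d ⊕ Fin d) F) : Matrix (Fin d ⊕ Fin d) (Fin d ⊕ Fin d) F) =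
      ((g⁻¹ : GL (Fin d ⊕ Fin d) F) : Matrix (Fin d ⊕ Fin d) (Fin d ⊕ Fin d) F) *
        (α' * (x : Matrix (Fin d ⊕ Fin d) (Fin d ⊕ Fin d) F)) * g := by
    rw [Units.val_mul, Units.val_mul, ← Matrix.mul_assoc, ← Matrix.mul_assoc, ← hgi]
    simp only [Matrix.mul_assoc]
  rcases hx with hx | hx
  · left
    rw [e1, e2, hx]
  · right
    rw [e1, e2, hx, Matrix.mul_neg, Matrix.neg_mul]

end transport

end Cfsg.Agent.Lib.H23.SpU
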