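import Cfsg.Agent.Lib.H23.BlockPrincipalLocal

/-!
# The principal block of a group with a normal `p`-complement (helper23)

For `N ⊴ K` a `p'`-subgroup of `p`-power index:
* `mem_of_pRegular_of_index_pow`: the `p`-regular elements lie in `N`;
* `mem_principalBlock_iff_ker`: `χ ∈ B₀(K) ↔ N ≤ ker χ`;
* `sum_sq_of_ker`: `∑_{N ≤ ker χ} χ(1)² = |K : N|`;
* `sum_principal_sq`: `∑_{χ ∈ B₀(K)} |χ(y)|² = |K : N|` for `p`-regular `y`.
-/

set_option autoImplicit false

namespace Cfsg.Agent.Lib.H23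

open Cfsg MonoidAlgebra Cfsg.Agent.Lib.L0.BlockKer
open scoped ComplexConjugate

section NC

variable {K : Type*} [Group K] [Fintype K] {p : ℕ} {M : Ideal AlgInt}

theorem mem_of_pRegular_of_index_pow (hp : p.Prime) (N : Subgroup K) [N.Normal] {k : ℕ}
    (hidx : N.index = p ^ k) {y : K} (hy : ¬ p ∣ orderOf y) : y ∈ N := by
  rw [← QuotientGroup.eq_one_iff]
  set q : K ⧸ N := (y : K ⧸ N) with hq
  have h1 : orderOf q ∣ orderOf y := orderOf_map_dvd (QuotientGroup.mk' N) y
  have h2 : orderOf q ∣ p ^ k := by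
    rw [← hidx, Subgroup.index_eq_card]
    exact orderOf_dvd_natCard q
  obtain ⟨j, _, hj⟩ := (Nat.dvd_prime_pow hp).1 h2
  have hj0 : j = 0 := by
    by_contra hne
    apply hy
    exact dvd_trans (hj ▸ dvd_pow_self p hne) h1
  rw [hj0, pow_zero, orderOf_eq_one_iff] at hj
  exact hj

theorem not_dvd_orderOf_of_mem (N : Subgroup K) (hN : ¬ p ∣ Nat.card N) {y : K} (hy : y ∈ N) :
    ¬ p ∣ orderOf y := by
  intro h
  apply hN
  have h1 : orderOf (⟨y, hy⟩ : N) ∣ Nat.card N := orderOf_dvd_natCard _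
  rw [Subgroup.orderOf_mk] at h1
  exact dvd_trans h h1

theorem sum_sq_of_ker [Fintype (IrrCharacter K)] (N : Subgroup K) [N.Normal]
    [DecidablePred (fun χ : IrrCharacter K => ∀ n ∈ N, (χ : K → ℂ) n = (χ : K → ℂ) 1)] :
    ∑ χ : IrrCharacter K, (if (∀ n ∈ N, (χ : K → ℂ) n = (χ : K → ℂ) 1) then
      (χ : K → ℂ) 1 * conj ((χ : K → ℂ) 1) else 0) = (N.index : ℂ) := by
  classical
  have h1 := coeff_eq_sum_omega (avg_mem_center N) (1 : K)
  have h2 : (avg N).coeff (1 : K) = (Nat.card N : ℂ)⁻¹ := by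
    simp only [avg, coeff_ofFun]
    rw [if_pos N.one_mem]
  rw [h2] at h1
  have h3 : ∑ χ : IrrCharacter K, omega (χ : K → ℂ) (avg N) *
      ((χ : K → ℂ) 1 * conj ((χ : K → ℂ) 1)) =
      ∑ χ : IrrCharacter K, (if (∀ n ∈ N, (χ : K → ℂ) n = (χ : K → ℂ) 1) then
      (χ : K → ℂ) 1 * conj ((χ : K → ℂ) 1) else 0) := by
    refine Finset.sum_congr rfl (fun χ _ => ?_)
    rcases omega_avg χ N with ⟨hk, ho⟩ | ⟨hk, ho⟩
    · rw [if_pos hk, ho, one_mul]
    · rw [if_neg hk, ho, zero_mul]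
  rw [h3] at h1
  have hK0 : (Nat.card K : ℂ) ≠ 0 := Nat.cast_ne_zero.2 Nat.card_pos.ne'
  have hN0 : (Nat.card N : ℂ) ≠ 0 := Nat.cast_ne_zero.2 Nat.card_pos.ne'
  have h4 : (Nat.card K : ℂ) = (N.index : ℂ) * (Nat.card N : ℂ) := by
    rw [← Nat.cast_mul, Subgroup.index_mul_card]
  have h5 : ∑ χ : IrrCharacter K, (if (∀ n ∈ N, (χ : K → ℂ) n = (χ : K → ℂ) 1) then
      (χ : K → ℂ) 1 * conj ((χ : K → ℂ) 1) else 0) = (Nat.card K : ℂ) * (Nat.card N : ℂ)⁻¹ := by
    rw [h1, ← mul_assoc, mul_inv_cancel₀ hK0, one_mul]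
  rw [h5, h4, mul_assoc, mul_inv_cancel₀ hN0, mul_one]

theorem mem_principalBlock_iff_ker (hM : IsPModular p M) (N : Subgroup K) [N.Normal]
    (hN : ¬ p ∣ Nat.card N) {k : ℕ} (hidx : N.index = p ^ k) (χ : IrrCharacter K) :
    χ ∈ principalBlock M K ↔ ∀ n ∈ N, (χ : K → ℂ) n = (χ : K → ℂ) 1 := by
  classical
  haveI hPr := isPrime_of_isPModular hM
  have hp := prime_of_isPModular hM
  constructor
  · intro h
    exact principalBlock_ker hM N hN χ h
  · intro hker
    apply mem_principalBlock_of_omega hM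
    have h0 : (χ : K → ℂ) 1 ≠ 0 := Cfsg.Agent.Lib.H24.irr_one_ne_zero χ
    have h1 : omega (χ : K → ℂ) (pRegSum K p) = (Nat.card N : ℂ) := by
      rw [omega, charEval_pRegSum]
      have : ∀ g : K, (if p ∣ orderOf g then (0 : ℂ) else (χ : K → ℂ) g) =
          if g ∈ N then (χ : K → ℂ) 1 else 0 := by
        intro g
        by_cases hg : g ∈ N
        · rw [if_pos hg, if_neg (not_dvd_orderOf_of_mem N hN hg), hker g hg]
        · rw [if_neg hg, if_pos]
          by_contra hreg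
          exact hg (mem_of_pRegular_of_index_pow hp N hidx hreg)
      simp only [this]
      rw [← Finset.sum_filter, Finset.sum_const, nsmul_eq_mul]
      have hc : (Finset.univ.filter (fun g : K => g ∈ N)).card = Nat.card N := by
        rw [Nat.card_eq_fintype_card, Fintype.card_subtype]
      rw [hc]
      field_simp
    rw [h1, natCast_memLocalIdeal_iff hM]
    exact hN

theorem sum_principal_sq [Fintype (IrrCharacter K)] (hM : IsPModular p M) (N : Subgroup K)
    [N.Normal] (hN : ¬ p ∣ Nat.card N) {k : ℕ} (hidx : N.index = p ^ k)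
    [DecidablePred (· ∈ principalBlock M K)] {y : K} (hy : ¬ p ∣ orderOf y) :
    ∑ χ : IrrCharacter K, (if χ ∈ principalBlock M K then
      (χ : K → ℂ) y * conj ((χ : K → ℂ) y) else 0) = ((p ^ k : ℕ) : ℂ) := by
  classical
  have hp := prime_of_isPModular hM
  have hyN : y ∈ N := mem_of_pRegular_of_index_pow hp N hidx hy
  rw [← hidx, ← sum_sq_of_ker N]
  refine Finset.sum_congr rfl (fun χ _ => ?_)
  by_cases hχ : χ ∈ principalBlock M K
  · have hk := (mem_principalBlock_iff_ker hM N hN hidx χ).1 hχ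
    rw [if_pos hχ, if_pos hk, hk y hyN]
  · rw [if_neg hχ, if_neg]
    intro hk
    exact hχ ((mem_principalBlock_iff_ker hM N hN hidx χ).2 hk)

theorem factorization_of_index_pow (hp : p.Prime) (N : Subgroup K) (hN : ¬ p ∣ Nat.card N)
    {k : ℕ} (hidx : N.index = p ^ k) : (Nat.card K).factorization p = k := by
  have h1 : Nat.card K = N.index * Nat.card N := (Subgroup.index_mul_card N).symm
  rw [h1, hidx, Nat.factorization_mul (pow_ne_zero _ hp.ne_zero) Nat.card_pos.ne',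
    Finsupp.add_apply, Nat.Prime.factorization_pow hp, Finsupp.single_eq_same,
    Nat.factorization_eq_zero_of_not_dvd hN, add_zero]

end NC

end Cfsg.Agent.Lib.H23
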