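import Mathlib
import Cfsg.Prelude.Def_Blocks

/-!
# `p`-parts of group elements (helper23)

* `exists_isPPart`: every element of finite order has a `p`-part.
* `IsPPart.pow_data`: for `g`, `h` with `p`-parts `x`, `y` there are `c` prime to `p` and `e` with
  `g ^ (c p^e) = h ^ (c p^e) = 1`, `g ^ c = x ^ c`, `h ^ c = y ^ c`, and `g ^ c ∼ h ^ c → x ∼ y`.
-/

set_option autoImplicit false

namespace Cfsg.Agent.Lib.H23

open Cfsg

variable {G : Type*} [Group G] {p : ℕ}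

theorem exists_isPPart (hp : p.Prime) (g : G) (hg : IsOfFinOrder g) : ∃ z : G, IsPPart p g z := by
  set n := orderOf g with hn
  have hn0 : n ≠ 0 := (orderOf_pos_iff.2 hg).ne'
  set k := n.factorization p with hk
  set q := p ^ k with hq
  set m := n / q with hm
  have hqm : q * m = n := Nat.ordProj_mul_ordCompl_eq_self n p
  have hcop : Nat.Coprime p m := Nat.coprime_ordCompl hp hn0
  have hcop' : Nat.Coprime q m := Nat.Coprime.pow_left k hcop
  have hbez := Nat.gcd_eq_gcd_ab q m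
  rw [hcop'.gcd_eq_one] at hbez
  set a := Nat.gcdA q m
  set b := Nat.gcdB q m
  refine ⟨g ^ ((m : ℤ) * b), g ^ ((q : ℤ) * a), ?_, ?_, ?_, ?_⟩
  · rw [← zpow_add, add_comm, ← hbez]
    simp
  · exact (Commute.refl g).zpow_zpow _ _
  · have h1 : (g ^ ((m : ℤ) * b)) ^ q = 1 := by
      rw [← zpow_natCast, ← zpow_mul]
      have : (m : ℤ) * b * (q : ℤ) = (n : ℤ) * b := by
        rw [← hqm]; push_cast; ring
      rw [this, zpow_mul, zpow_natCast, hn, pow_orderOf_eq_one, one_zpow]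
    have h2 := orderOf_dvd_of_pow_eq_one h1
    obtain ⟨j, _, hj⟩ := (Nat.dvd_prime_pow hp).1 h2
    exact ⟨j, hj⟩
  · have h1 : (g ^ ((q : ℤ) * a)) ^ m = 1 := by
      rw [← zpow_natCast, ← zpow_mul]
      have : (q : ℤ) * a * (m : ℤ) = (n : ℤ) * a := by
        rw [← hqm]; push_cast; ring
      rw [this, zpow_mul, zpow_natCast, hn, pow_orderOf_eq_one, one_zpow]
    have h2 := orderOf_dvd_of_pow_eq_one h1
    intro h3
    exact (Nat.Prime.coprime_iff_not_dvd hp).1 hcop (h3.trans h2)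

theorem IsPPart.pow_data (hp : p.Prime) {g h x y : G} (hx : IsPPart p g x) (hy : IsPPart p h y) :
    ∃ c e : ℕ, ¬ p ∣ c ∧ g ^ (c * p ^ e) = 1 ∧ h ^ (c * p ^ e) = 1 ∧ g ^ c = x ^ c ∧
      h ^ c = y ^ c ∧ x ^ p ^ e = 1 ∧ y ^ p ^ e = 1 ∧ (IsConj (g ^ c) (h ^ c) → IsConj x y) := by
  obtain ⟨u, hxu, hcu, ⟨k, hk⟩, hpu⟩ := hx
  obtain ⟨v, hyv, hcv, ⟨k', hk'⟩, hpv⟩ := hy
  set c := orderOf u * orderOf v with hc
  set e := k + k' with he
  have hpc : ¬ p ∣ c := by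
    intro h1
    rcases (Nat.Prime.dvd_mul hp).1 h1 with h2 | h2
    · exact hpu h2
    · exact hpv h2
  have huc : u ^ c = 1 := by rw [hc, pow_mul, pow_orderOf_eq_one, one_pow]
  have hvc : v ^ c = 1 := by rw [hc, mul_comm, pow_mul, pow_orderOf_eq_one, one_pow]
  have hgc : g ^ c = x ^ c := by rw [← hxu, hcu.mul_pow, huc, mul_one]
  have hhc : h ^ c = y ^ c := by rw [← hyv, hcv.mul_pow, hvc, mul_one]
  have hxe : x ^ p ^ e = 1 := by rw [he, pow_add, pow_mul, ← hk, pow_orderOf_eq_one, one_pow]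
  have hye : y ^ p ^ e = 1 := by
    rw [he, add_comm, pow_add, pow_mul, ← hk', pow_orderOf_eq_one, one_pow]
  refine ⟨c, e, hpc, ?_, ?_, hgc, hhc, hxe, hye, ?_⟩
  · rw [pow_mul, hgc, ← pow_mul, mul_comm, pow_mul, hxe, one_pow]
  · rw [pow_mul, hhc, ← pow_mul, mul_comm, pow_mul, hye, one_pow]
  · intro hconj
    rw [hgc, hhc] at hconj
    obtain ⟨a, ha⟩ := isConj_iff.1 hconj
    have hw : ((x, y) : G × G) ^ p ^ e = 1 := by
      rw [Prod.pow_mk, hxe, hye]; rfl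
    obtain ⟨j, _, hj⟩ := (Nat.dvd_prime_pow hp).1 (orderOf_dvd_of_pow_eq_one hw)
    have hcop : Nat.Coprime c (orderOf ((x, y) : G × G)) := by
      rw [hj]
      exact Nat.Coprime.pow_right j
        (Nat.Coprime.symm ((Nat.Prime.coprime_iff_not_dvd hp).2 hpc))
    obtain ⟨m, hm⟩ := exists_pow_eq_self_of_coprime hcop
    rw [Prod.pow_mk, Prod.pow_mk, Prod.mk.injEq] at hm
    rw [isConj_iff]
    refine ⟨a, ?_⟩
    calc a * x * a⁻¹ = a * (x ^ c) ^ m * a⁻¹ := by rw [hm.1]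
      _ = (a * x ^ c * a⁻¹) ^ m := (conj_pow (a := a) (i := m) (b := x ^ c)).symm
      _ = y := by rw [ha, hm.2]

theorem IsPPart.conj {g x : G} (hx : IsPPart p g x) (t : G) :
    IsPPart p (t * g * t⁻¹) (t * x * t⁻¹) := by
  obtain ⟨u, hxu, hcu, ⟨k, hk⟩, hpu⟩ := hx
  refine ⟨t * u * t⁻¹, ?_, ?_, ⟨k, ?_⟩, ?_⟩
  · rw [← hxu]; group
  · show t * x * t⁻¹ * (t * u * t⁻¹) = t * u * t⁻¹ * (t * x * t⁻¹)
    have h1 : x * u = u * x := hcu
    calc t * x * t⁻¹ * (t * u * t⁻¹) = t * (x * u) * t⁻¹ := by group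
      _ = t * (u * x) * t⁻¹ := by rw [h1]
      _ = t * u * t⁻¹ * (t * x * t⁻¹) := by group
  · rw [← hk]
    exact (MulAut.conj t).orderOf_eq x
  · have : orderOf (t * u * t⁻¹) = orderOf u := (MulAut.conj t).orderOf_eq u
    rwa [this]

theorem exists_pow_pow_eq_self (hp : p.Prime) {c e : ℕ} (hpc : ¬ p ∣ c) {x : G}
    (hxe : x ^ p ^ e = 1) : ∃ m : ℕ, (x ^ c) ^ m = x := by
  obtain ⟨j, _, hj⟩ := (Nat.dvd_prime_pow hp).1 (orderOf_dvd_of_pow_eq_one hxe)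
  have hcop : Nat.Coprime c (orderOf x) := by
    rw [hj]
    exact Nat.Coprime.pow_right j (Nat.Coprime.symm ((Nat.Prime.coprime_iff_not_dvd hp).2 hpc))
  exact exists_pow_eq_self_of_coprime hcop

end Cfsg.Agent.Lib.H23
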