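import Mathlib
import Cfsg.Prelude.Def_Blocks
import Cfsg.Agent.Lib.H23.PPart

/-!
# Uniqueness of the `p`-part (helper23)
-/

set_option autoImplicit false

namespace Cfsg.Agent.Lib.H23

open Cfsg

variable {G : Type*} [Group G] {p : ℕ}

theorem exists_uniform_pow_pow_eq_self (hp : p.Prime) {c e : ℕ} (hpc : ¬ p ∣ c) :
    ∃ m : ℕ, ∀ x : G, x ^ p ^ e = 1 → (x ^ c) ^ m = x := by
  rcases Nat.eq_zero_or_pos e with he | he
  · subst he
    refine ⟨0, fun x hx => ?_⟩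
    rw [pow_zero, pow_one] at hx
    rw [hx, one_pow, pow_zero]
  · have hcop : Nat.Coprime c (p ^ e) :=
      Nat.Coprime.pow_right e (Nat.Coprime.symm ((Nat.Prime.coprime_iff_not_dvd hp).2 hpc))
    have h1 : 1 < p ^ e := Nat.one_lt_pow he.ne' hp.one_lt
    obtain ⟨m, -, hm⟩ := Nat.exists_mul_mod_eq_one_of_coprime hcop h1
    refine ⟨m, fun x hx => ?_⟩
    rw [← pow_mul, ← Nat.mod_add_div (c * m) (p ^ e), pow_add, pow_mul, hx, one_pow, mul_one, hm,
      pow_one]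

theorem IsPPart.unique (hp : p.Prime) {g x z : G} (hx : IsPPart p g x) (hz : IsPPart p g z) :
    x = z := by
  obtain ⟨c, e, hpc, _, _, hgx, hgz, hxe, hze, _⟩ := IsPPart.pow_data hp hx hz
  obtain ⟨m, hm⟩ := exists_uniform_pow_pow_eq_self (G := G) hp (e := e) hpc
  rw [← hm x hxe, ← hm z hze, ← hgx, ← hgz]

/-- The `p`-part of `x * y`, for a `p`-element `x` commuting with a `p`-regular `y`. -/
theorem isPPart_mul {x y : G} (hxy : Commute x y) (hx : ∃ k : ℕ, orderOf x = p ^ k)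
    (hy : ¬ p ∣ orderOf y) : IsPPart p (x * y) x :=
  ⟨y, rfl, hxy, hx, hy⟩

end Cfsg.Agent.Lib.H23
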