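import Cfsg.Agent.Lib.H23.BlockQuotient
import Cfsg.Agent.Lib.H23.BlockNormalComplement
import Cfsg.Agent.Lib.H23.PPart2
import Cfsg.Agent.Lib.L0.BlockPReg

/-!
# Blocks of `G ⧸ P` for a normal `p`-subgroup `P` with `G / C_G(P)` a `p`-group (helper23)

* `card_centralizer_mk_of_pRegular`: for `p`-regular `g`, the class of `g` maps bijectively onto
  the class of its image in `G ⧸ P`, so `centralChar (χ ∘ π) g = centralChar χ (π g)`;
* `exists_pRegular_preimage`;
* `sameBlock_infl_iff`;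
* `exists_infl_mem_block`.
-/

set_option autoImplicit false

namespace Cfsg.Agent.Lib.H23

open Cfsg MonoidAlgebra Cfsg.Agent.Lib.H24
open scoped ComplexConjugate

section QuotP

variable {G : Type*} [Group G] [Fintype G] {p : ℕ} {M : Ideal AlgInt}
  (P : Subgroup G) [P.Normal]

theorem isPPart_one_of_pRegular {g : G} (hg : ¬ p ∣ orderOf g) : IsPPart p g 1 :=
  ⟨g, one_mul g, Commute.one_left g, ⟨0, by rw [orderOf_one, pow_zero]⟩, hg⟩

/-- A `p`-regular element of the form `x * u` with `x` `p`-regular commuting with the `p`-element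
`u` forces `u = 1`. -/
theorem eq_one_of_pRegular_mul (hp : p.Prime) {x u : G} (hcomm : Commute u x)
    (hu : ∃ k : ℕ, orderOf u = p ^ k) (hx : ¬ p ∣ orderOf x) (hxu : ¬ p ∣ orderOf (u * x)) :
    u = 1 :=
  IsPPart.unique hp (isPPart_mul hcomm hu hx) (isPPart_one_of_pRegular hxu)

theorem index_centralizer_mk_of_pRegular (hp : p.Prime) (hP : IsPGroup p P) {k : ℕ}
    (hidx : (Subgroup.centralizer (P : Set G)).index = p ^ k) {g : G} (hg : ¬ p ∣ orderOf g) :
    (Subgroup.centralizer ({(g : G ⧸ P)} : Set (G ⧸ P))).index =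
      (Subgroup.centralizer ({g} : Set G)).index := by
  classical
  haveI : Fact p.Prime := ⟨hp⟩
  rw [index_centralizer_eq_card_conj, index_centralizer_eq_card_conj]
  symm
  have hreg : ∀ x : G, IsConj g x → ¬ p ∣ orderOf x := by
    intro x hx
    rwa [← orderOf_eq_of_isConj hx]
  have hcent : ∀ x : G, ¬ p ∣ orderOf x → x ∈ Subgroup.centralizer (P : Set G) :=
    fun x hx => mem_of_pRegular_of_index_pow hp _ hidx hx
  refine Nat.card_congr (Equiv.ofBijective
    (fun x : {x : G // IsConj g x} => (⟨(x.1 : G ⧸ P), by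
      obtain ⟨c, hc⟩ := isConj_iff.1 x.2
      rw [isConj_iff]
      exact ⟨(c : G ⧸ P), by rw [← hc]; rfl⟩⟩ : {q : G ⧸ P // IsConj (g : G ⧸ P) q})) ⟨?_, ?_⟩)
  · rintro ⟨x, hx⟩ ⟨x', hx'⟩ h
    have h1 : (x : G ⧸ P) = (x' : G ⧸ P) := congrArg Subtype.val h
    have h2 : x⁻¹ * x' ∈ P := QuotientGroup.eq.1 h1
    set u := x⁻¹ * x' with hu
    have hx'eq : x' = x * u := by rw [hu, mul_inv_cancel_left]
    have hcomm : Commute u x := by
      have := hcent x (hreg x hx)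
      exact (Subgroup.mem_centralizer_iff.1 this u h2)
    have hupow : ∃ k : ℕ, orderOf u = p ^ k := by
      obtain ⟨k, hk⟩ := (IsPGroup.iff_orderOf.1 hP) ⟨u, h2⟩
      exact ⟨k, by rw [← hk, Subgroup.orderOf_mk]⟩
    have hreg' : ¬ p ∣ orderOf (u * x) := by
      rw [hcomm.eq, ← hx'eq]
      exact hreg x' hx'
    have hu1 := eq_one_of_pRegular_mul hp hcomm hupow (hreg x hx) hreg'
    apply Subtype.ext
    show x = x'
    rw [hx'eq, hu1, mul_one]
  · rintro ⟨q, hq⟩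
    obtain ⟨c, hc⟩ := isConj_iff.1 hq
    obtain ⟨c₀, rfl⟩ := QuotientGroup.mk_surjective c
    refine ⟨⟨c₀ * g * c₀⁻¹, isConj_iff.2 ⟨c₀, rfl⟩⟩, ?_⟩
    apply Subtype.ext
    show ((c₀ * g * c₀⁻¹ : G) : G ⧸ P) = q
    rw [← hc]
    rfl

theorem centralChar_infl_of_pRegular (hp : p.Prime) (hP : IsPGroup p P) {k : ℕ}
    (hidx : (Subgroup.centralizer (P : Set G)).index = p ^ k) (χ : IrrCharacter (G ⧸ P))
    {g : G} (hg : ¬ p ∣ orderOf g) :
    centralChar ((χ : G ⧸ P → ℂ) ∘ QuotientGroup.mk) g = centralChar (χ : G ⧸ P → ℂ) (g : G ⧸ P) := by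
  haveI : Fintype (G ⧸ P) := Fintype.ofFinite _
  unfold centralChar
  rw [index_centralizer_mk_of_pRegular P hp hP hidx hg]
  simp only [Function.comp_apply, QuotientGroup.mk_one]

theorem exists_pRegular_preimage (hp : p.Prime) {q : G ⧸ P} (hq : ¬ p ∣ orderOf q) :
    ∃ g : G, ¬ p ∣ orderOf g ∧ (g : G ⧸ P) = q := by
  haveI : Fintype (G ⧸ P) := Fintype.ofFinite _
  obtain ⟨x, rfl⟩ := QuotientGroup.mk_surjective q
  obtain ⟨z, y, hzy, hcomm, ⟨k, hk⟩, hy⟩ := exists_isPPart hp x (isOfFinOrder_of_finite x)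
  refine ⟨y, hy, ?_⟩
  have h1 : orderOf (z : G ⧸ P) ∣ p ^ k := hk ▸ orderOf_map_dvd (QuotientGroup.mk' P) z
  obtain ⟨j, _, hj⟩ := (Nat.dvd_prime_pow hp).1 h1
  have h2 : ¬ p ∣ orderOf (y : G ⧸ P) := fun h =>
    hy (dvd_trans h (orderOf_map_dvd (QuotientGroup.mk' P) y))
  have h3 : Commute (z : G ⧸ P) (y : G ⧸ P) := by
    show (z : G ⧸ P) * (y : G ⧸ P) = (y : G ⧸ P) * (z : G ⧸ P)
    rw [← QuotientGroup.mk_mul, ← QuotientGroup.mk_mul, hcomm.eq]
  have h4 : (z : G ⧸ P) * (y : G ⧸ P) = (x : G ⧸ P) := by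
    rw [← QuotientGroup.mk_mul, hzy]
  have h5 : ¬ p ∣ orderOf ((z : G ⧸ P) * (y : G ⧸ P)) := by rwa [h4]
  have h6 := eq_one_of_pRegular_mul hp h3 ⟨j, hj⟩ h2 h5
  rw [← h4, h6, one_mul]

theorem sameBlock_infl_iff (hM : IsPModular p M) (hP : IsPGroup p P) {k : ℕ}
    (hidx : (Subgroup.centralizer (P : Set G)).index = p ^ k) (χ ψ : IrrCharacter (G ⧸ P)) :
    SameBlock M (χ : G ⧸ P → ℂ) (ψ : G ⧸ P → ℂ) ↔
      SameBlock M ((χ : G ⧸ P → ℂ) ∘ QuotientGroup.mk) ((ψ : G ⧸ P → ℂ) ∘ QuotientGroup.mk) := by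
  have hp := prime_of_isPModular hM
  haveI : Fintype (G ⧸ P) := Fintype.ofFinite _
  constructor
  · intro h
    apply Cfsg.Agent.Lib.L0.BlockPReg.sameBlock_of_pRegular hM (inflIrr P χ) (inflIrr P ψ)
    intro g hg
    have e1 := centralChar_infl_of_pRegular P hp hP hidx χ hg
    have e2 := centralChar_infl_of_pRegular P hp hP hidx ψ hg
    show MemLocalIdeal M (centralChar ((χ : G ⧸ P → ℂ) ∘ QuotientGroup.mk) g -
      centralChar ((ψ : G ⧸ P → ℂ) ∘ QuotientGroup.mk) g)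
    rw [e1, e2]
    exact h _
  · intro h
    apply Cfsg.Agent.Lib.L0.BlockPReg.sameBlock_of_pRegular hM χ ψ
    intro q hq
    obtain ⟨g, hg, rfl⟩ := exists_pRegular_preimage P hp hq
    rw [← centralChar_infl_of_pRegular P hp hP hidx χ hg,
      ← centralChar_infl_of_pRegular P hp hP hidx ψ hg]
    exact h g

theorem exists_infl_mem_block (hM : IsPModular p M) (hP : IsPGroup p P) (χ₀ : IrrCharacter G) :
    ∃ χ : IrrCharacter (G ⧸ P), ∃ θ ∈ blockOf M (χ₀ : G → ℂ),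
      (θ : G → ℂ) = (χ : G ⧸ P → ℂ) ∘ QuotientGroup.mk := by
  classical
  haveI hPr := isPrime_of_isPModular hM
  haveI := Fintype.ofFinite (IrrCharacter G)
  have hp := prime_of_isPModular hM
  haveI : Fact p.Prime := ⟨hp⟩
  set B := blockOf M (χ₀ : G → ℂ) with hB
  -- some `χ ∈ B` has nonzero sum over `P`
  have hex : ∃ θ ∈ B, ∑ n : P, (θ : G → ℂ) (n : G) ≠ 0 := by
    by_contra hcon
    push Not at hcon
    have h1 : ∑ n : P, blockCoeff B (n : G) = 0 := by
      simp only [blockCoeff_eq_sum]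
      rw [← Finset.mul_sum, Finset.sum_comm]
      have : ∀ θ : IrrCharacter G, ∑ n : P, (if θ ∈ B then
          (θ : G → ℂ) 1 * conj ((θ : G → ℂ) (n : G)) else 0) = 0 := by
        intro θ
        split_ifs with hθ
        · rw [← Finset.mul_sum, ← map_sum, hcon θ hθ, map_zero, mul_zero]
        · simp
      rw [Finset.sum_congr rfl (fun θ _ => this θ), Finset.sum_const_zero, mul_zero]
    have h2 : ∑ n : P, blockCoeff B (n : G) = blockCoeff B 1 := by
      rw [Finset.sum_eq_single (1 : P)]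
      · rfl
      · intro n _ hn
        apply blockCoeff_eq_zero_of_dvd_orderOf hM χ₀
        obtain ⟨j, hj⟩ := (IsPGroup.iff_orderOf.1 hP) n
        rw [Subgroup.orderOf_coe, hj]
        apply dvd_pow_self
        rintro rfl
        rw [pow_zero, orderOf_eq_one_iff] at hj
        exact hn hj
      · intro h
        exact absurd (Finset.mem_univ _) h
    exact Cfsg.Agent.Lib.L0.BlockKer.blockCoeff_one_ne_zero (M := M) χ₀ (by rw [← h2, h1])
  obtain ⟨θ, hθB, hθ⟩ := hex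
  have hker : ∀ n ∈ P, (θ : G → ℂ) n = (θ : G → ℂ) 1 := by
    rcases Cfsg.Agent.Lib.L0.BlockKer.normal_sum_dichotomy θ.2 P with h | h
    · exact h
    · exact absurd h hθ
  obtain ⟨χ, hχ⟩ := exists_deflation θ P hker
  refine ⟨χ, θ, hθB, ?_⟩
  funext g
  exact (hχ g).symm

end QuotP

end Cfsg.Agent.Lib.H23
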