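import Mathlib
import Cfsg.Prelude.Def_Blocks
import Cfsg.Agent.Lib.H23.BlockMinMax
import Cfsg.Agent.Lib.H23.BlockInduce
import Cfsg.Agent.Lib.H23.BlockHom

/-!
# Defect groups: conjugation, induced blocks (helper23)

* `classSum_eq_of_isConj`, `centralChar_eq_of_isConj`, `IsDefectClass.of_isConj`.
* `exists_isDefectGroup_ge`: a `p`-subgroup centralizing a defect class representative lies in a
  defect group.
* `exists_isDefectGroup_ge_of_blockCoeff`: if `β_B(l) ∉ P`, every `p`-subgroup of `C(l)` lies in a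
  defect group of `B`.
* `exists_class_of_induced`: if `b^G = B` there is `l ∈ H` with `β_B(l) ∉ P`, `ω_ξ(l^H) ∉ P`.
* `defectGroup_le_of_induced`: a defect group of `b` lies in a defect group of `b^G`.
-/

set_option autoImplicit false

namespace Cfsg.Agent.Lib.H23

open Cfsg MonoidAlgebra
open scoped ComplexConjugate

section Conj

variable {G : Type*} [Group G] [Fintype G] {p : ℕ} {M : Ideal AlgInt}

theorem classSum_eq_of_isConj {g x : G} (h : IsConj g x) : classSum g = classSum x := by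
  classical
  apply MonoidAlgebra.ext
  ext u
  rw [coeff_classSum, coeff_classSum]
  congr 1
  rw [eq_iff_iff]
  exact ⟨fun h1 => h.symm.trans h1, fun h1 => h.trans h1⟩

theorem centralChar_eq_of_isConj (χ : IrrCharacter G) {g x : G} (h : IsConj g x) :
    centralChar (χ : G → ℂ) g = centralChar (χ : G → ℂ) x := by
  rw [← omega_classSum (Cfsg.Agent.Lib.H24.irr_isClassFunction χ),
    ← omega_classSum (Cfsg.Agent.Lib.H24.irr_isClassFunction χ), classSum_eq_of_isConj h]

theorem blockCoeff_eq_of_isConj (B : Set (IrrCharacter G)) {g x : G} (h : IsConj g x) :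
    blockCoeff B g = blockCoeff B x := by
  obtain ⟨c, rfl⟩ := isConj_iff.1 h
  exact (blockCoeff_conj B g c).symm

theorem IsDefectClass.of_isConj {B : Set (IrrCharacter G)} {g x : G}
    (hg : IsDefectClass M B g) (h : IsConj g x) : IsDefectClass M B x := by
  refine ⟨?_, ?_, ?_⟩
  · rw [← blockCoeff_eq_of_isConj B h]; exact hg.1
  · rw [← blockCoeff_eq_of_isConj B h]; exact hg.2.1
  · intro χ hχ
    rw [← centralChar_eq_of_isConj χ h]
    exact hg.2.2 χ hχ

/-- A `p`-subgroup centralizing a defect class representative lies in a defect group. -/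
theorem exists_isDefectGroup_ge [Fact p.Prime] {B : Set (IrrCharacter G)} {x : G}
    (hx : IsDefectClass M B x) (Q : Subgroup G) (hQ : IsPGroup p Q)
    (hQx : Q ≤ Subgroup.centralizer ({x} : Set G)) :
    ∃ E : Subgroup G, IsDefectGroup p M B E ∧ Q ≤ E := by
  have hQ' : IsPGroup p (Q.subgroupOf (Subgroup.centralizer ({x} : Set G))) :=
    hQ.comap_of_injective _ (Subgroup.subtype_injective _)
  obtain ⟨R, hR⟩ := hQ'.exists_le_sylow
  refine ⟨(R : Subgroup (Subgroup.centralizer ({x} : Set G))).map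
    (Subgroup.centralizer ({x} : Set G)).subtype, ⟨x, hx, R, rfl⟩, ?_⟩
  intro q hq
  refine ⟨⟨q, hQx hq⟩, hR ?_, rfl⟩
  rw [Subgroup.mem_subgroupOf]
  exact hq

/-- If `β_B(l) ∉ P` then every `p`-subgroup of `C(l)` lies in a defect group of `B`. -/
theorem exists_isDefectGroup_ge_of_blockCoeff [Fact p.Prime] (hM : IsPModular p M)
    (χ₀ : IrrCharacter G) (l : G)
    (hβ : ¬ MemLocalIdeal M (blockCoeff (blockOf M (χ₀ : G → ℂ)) l))
    (Q : Subgroup G) (hQ : IsPGroup p Q) (hQl : Q ≤ Subgroup.centralizer ({l} : Set G)) :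
    ∃ E : Subgroup G, IsDefectGroup p M (blockOf M (χ₀ : G → ℂ)) E ∧ Q ≤ E := by
  haveI hP := isPrime_of_isPModular hM
  obtain ⟨k, hk⟩ := exists_isDefectClass hM χ₀
  obtain ⟨x, hx, hQx⟩ := exists_conj_centralized hM χ₀ l k hβ χ₀ (mem_blockOf_self χ₀)
    (hk.2.2 χ₀ (mem_blockOf_self χ₀)) Q hQ hQl
  exact exists_isDefectGroup_ge (IsDefectClass.of_isConj hk hx) Q hQ hQx

end Conj

section Induced

variable {G : Type*} [Group G] [Fintype G] {p : ℕ} {M : Ideal AlgInt} (H : Subgroup G)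
  [Fintype H]

/-- If `b^G = B`, some `l ∈ H` has `β_B(l) ∉ P` and `ω_ξ(l^H) ∉ P`. -/
theorem exists_class_of_induced (hM : IsPModular p M) {ξ₀ : IrrCharacter H} {χ₀ : IrrCharacter G}
    (hind : IsInducedBlock M H (blockOf M (ξ₀ : H → ℂ)) (blockOf M (χ₀ : G → ℂ))) :
    ∃ l : H, ¬ MemLocalIdeal M (blockCoeff (blockOf M (χ₀ : G → ℂ)) (l : G)) ∧
      ¬ MemLocalIdeal M (centralChar (ξ₀ : H → ℂ) l) := by
  classical
  haveI hP := isPrime_of_isPModular hM
  haveI := Fintype.ofFinite (ConjClasses H)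
  set B := blockOf M (χ₀ : G → ℂ) with hB
  have hec : blockIdem B ∈ Subalgebra.center ℂ (MonoidAlgebra ℂ G) := blockIdem_mem_center B
  have hei : blockIdem B ∈ intCoeff (G := G) M := fun g => blockIdem_memLocalRing hM χ₀ g
  have h1 := omega_resAlg_sub_memLocalIdeal H hind (mem_blockOf_self ξ₀) (mem_blockOf_self χ₀)
    hec hei
  rw [omega_blockIdem, if_pos (mem_blockOf_self χ₀)] at h1
  have h2 : ¬ MemLocalIdeal M (omega (ξ₀ : H → ℂ) (resAlg H (blockIdem B))) := by
    intro h3
    have := memLocalIdeal_sub h3 h1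
    rw [sub_sub_cancel] at this
    exact not_memLocalIdeal_one this
  rw [omega_eq_sum_centralChar (Cfsg.Agent.Lib.H24.irr_isClassFunction ξ₀)
    (resAlg_mem_center H hec)] at h2
  by_contra hcon
  apply h2
  refine memLocalIdeal_sum _ _ (fun c _ => ?_)
  rw [coeff_resAlg, coeff_blockIdem]
  by_contra h4
  apply hcon
  refine ⟨classRep c, ?_, ?_⟩
  · intro h5
    exact h4 (memLocalIdeal_mul_right h5 (coe_mem_localRing (omegaInt ξ₀ _)))
  · intro h5
    exact h4 (memLocalIdeal_mul_left (blockIdem_memLocalRing hM χ₀ _) h5)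

/-- A defect group of `b` lies in a defect group of `b^G`. -/
theorem defectGroup_le_of_induced [Fact p.Prime] (hM : IsPModular p M) {ξ₀ : IrrCharacter H}
    {χ₀ : IrrCharacter G}
    (hind : IsInducedBlock M H (blockOf M (ξ₀ : H → ℂ)) (blockOf M (χ₀ : G → ℂ)))
    (D : Subgroup H) (hD : IsDefectGroup p M (blockOf M (ξ₀ : H → ℂ)) D) :
    ∃ E : Subgroup G, IsDefectGroup p M (blockOf M (χ₀ : G → ℂ)) E ∧ D.map H.subtype ≤ E := by
  classical
  haveI hP := isPrime_of_isPModular hM
  obtain ⟨l, hlβ, hlω⟩ := exists_class_of_induced H hM hind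
  obtain ⟨k, hk, R, rfl⟩ := hD
  have hRp : IsPGroup p ((R : Subgroup (Subgroup.centralizer ({k} : Set H))).map
      (Subgroup.centralizer ({k} : Set H)).subtype) := R.2.map _
  obtain ⟨l', hl', hDl'⟩ := exists_conj_centralized hM ξ₀ k l hk.2.1 ξ₀ (mem_blockOf_self ξ₀) hlω
    _ hRp (by
      rintro _ ⟨q, _, rfl⟩
      exact q.2)
  have hconj : IsConj (l : G) (l' : G) := by
    obtain ⟨c, hc⟩ := isConj_iff.1 hl'
    rw [isConj_iff]
    refine ⟨(c : G), ?_⟩
    rw [← hc]
    simp
  have hβ' : ¬ MemLocalIdeal M (blockCoeff (blockOf M (χ₀ : G → ℂ)) (l' : G)) := by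
    rw [← blockCoeff_eq_of_isConj _ hconj]
    exact hlβ
  refine exists_isDefectGroup_ge_of_blockCoeff hM χ₀ (l' : G) hβ' _ (hRp.map _) ?_
  rintro _ ⟨d, hd, rfl⟩
  have h1 := hDl' hd
  rw [Subgroup.mem_centralizer_singleton_iff] at h1 ⊢
  have := congrArg Subtype.val h1
  simpa using this

end Induced

end Cfsg.Agent.Lib.H23
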