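import Mathlib
import Cfsg.Prelude.Def_Blocks
import Cfsg.Agent.Lib.H23.BlockLocal
import Cfsg.Agent.Lib.H23.BlockNecklace

/-!
# The twisted necklace trace lemma (helper23)

`E` an idempotent matrix over the local ring at `M`, indexed by a finite set `X`, commuting with a
permutation `θ` of `X` (`E (θ a) (θ b) = E a b`).  Let `c` be prime to `p` with `θ ^ (c * p ^ e) = 1`
and `F` the fixed points of `θ ^ c`.  Then for every `n` the twisted trace `∑ a, E a (θ a)` is
congruent modulo `p ^ n` to the twisted trace of the `p ^ n`-th power of the compression of `E`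
to `F`.  In particular it vanishes when `F = ∅`, or when the compression is nilpotent modulo `p`.
-/

set_option autoImplicit false

namespace Cfsg.Agent.Lib.H23

open Cfsg

section Combinatorics

variable {X : Type*} {N : ℕ} [NeZero N]

/-- Quasi-periodic extension of a word: `f̃ (i + N) = θ (f̃ i)`. -/
def qext (θ : Equiv.Perm X) (f : Fin N → X) (i : ℕ) : X :=
  (θ ^ (i / N)) (f ⟨i % N, Nat.mod_lt _ (NeZero.pos N)⟩)

/-- Twisted shift of a word. -/
def qshift (θ : Equiv.Perm X) (s : ℕ) (f : Fin N → X) : Fin N → X :=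
  fun i => qext θ f (i.val + s)

theorem qext_of_lt (θ : Equiv.Perm X) (f : Fin N → X) {i : ℕ} (hi : i < N) :
    qext θ f i = f ⟨i, hi⟩ := by
  unfold qext
  rw [Nat.div_eq_of_lt hi, pow_zero]
  simp only [Equiv.Perm.coe_one, id_eq]
  congr 1
  exact Fin.ext (Nat.mod_eq_of_lt hi)

theorem qext_add_mul (θ : Equiv.Perm X) (f : Fin N → X) (i c : ℕ) :
    qext θ f (i + N * c) = (θ ^ c) (qext θ f i) := by
  unfold qext
  have hN : 0 < N := NeZero.pos N
  have h1 : (i + N * c) / N = i / N + c := Nat.add_mul_div_left _ _ hN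
  have h2 : (⟨(i + N * c) % N, Nat.mod_lt _ hN⟩ : Fin N) = ⟨i % N, Nat.mod_lt _ hN⟩ :=
    Fin.ext (Nat.add_mul_mod_self_left _ _ _)
  rw [h1, h2, add_comm, pow_add]
  rfl

theorem qext_add_self (θ : Equiv.Perm X) (f : Fin N → X) (i : ℕ) :
    qext θ f (i + N) = θ (qext θ f i) := by
  have := qext_add_mul θ f i 1
  rwa [mul_one, pow_one] at this

theorem qext_qshift (θ : Equiv.Perm X) (s : ℕ) (f : Fin N → X) (i : ℕ) :
    qext θ (qshift θ s f) i = qext θ f (i + s) := by
  have hN : 0 < N := NeZero.pos N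
  have h1 : qext θ (qshift θ s f) i = (θ ^ (i / N)) (qext θ f (i % N + s)) := rfl
  rw [h1, ← qext_add_mul]
  congr 1
  have := Nat.mod_add_div i N
  omega

theorem qshift_zero (θ : Equiv.Perm X) (f : Fin N → X) : qshift θ 0 f = f := by
  funext i
  show qext θ f (i.val + 0) = f i
  rw [add_zero, qext_of_lt θ f i.2]

theorem qshift_add (θ : Equiv.Perm X) (s t : ℕ) (f : Fin N → X) :
    qshift θ (s + t) f = qshift θ s (qshift θ t f) := by
  funext i
  show qext θ f (i.val + (s + t)) = qext θ (qshift θ t f) (i.val + s)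
  rw [qext_qshift, add_assoc]

theorem qshift_mul (θ : Equiv.Perm X) (c : ℕ) (f : Fin N → X) :
    qshift θ (N * c) f = fun i => (θ ^ c) (f i) := by
  funext i
  show qext θ f (i.val + N * c) = _
  rw [qext_add_mul, qext_of_lt θ f i.2]

theorem qshift_mul_of_pow_eq_one (θ : Equiv.Perm X) {c : ℕ} (hc : θ ^ c = 1) (f : Fin N → X) :
    qshift θ (N * c) f = f := by
  rw [qshift_mul, hc]
  rfl

/-- Iterating the shift. -/
theorem qshift_iterate (θ : Equiv.Perm X) (s : ℕ) (k : ℕ) (f : Fin N → X) :
    (qshift θ s)^[k] f = qshift θ (s * k) f := by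
  induction k generalizing f with
  | zero => rw [Function.iterate_zero, id_eq, mul_zero, qshift_zero]
  | succ k ih =>
    rw [Function.iterate_succ, Function.comp_apply, ih, ← qshift_add, Nat.mul_succ]

end Combinatorics

section Weight

variable {X : Type*} {N : ℕ} [NeZero N]

/-- The weight of a twisted closed path. -/
noncomputable def pathWt (E : X → X → ℂ) (θ : Equiv.Perm X) (f : Fin N → X) : ℂ :=
  ∏ i ∈ Finset.range N, E (qext θ f i) (qext θ f (i + 1))

theorem pathWt_qshift_one (E : X → X → ℂ) (θ : Equiv.Perm X)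
    (hE : ∀ a b, E (θ a) (θ b) = E a b) (f : Fin N → X) :
    pathWt E θ (qshift θ 1 f) = pathWt E θ f := by
  obtain ⟨N', rfl⟩ : ∃ N', N = N' + 1 := ⟨N - 1, (Nat.succ_pred_eq_of_pos (NeZero.pos N)).symm⟩
  unfold pathWt
  simp only [qext_qshift]
  rw [Finset.prod_range_succ, Finset.prod_range_succ']
  have h1 : qext θ f (N' + 1 + 1) = θ (qext θ f (0 + 1)) := by
    rw [← qext_add_self]
    congr 1
    omega
  have h2 : qext θ f (N' + 1) = θ (qext θ f 0) := by
    rw [← qext_add_self]
    congr 1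
    omega
  rw [h1, h2, hE]

theorem pathWt_qshift (E : X → X → ℂ) (θ : Equiv.Perm X)
    (hE : ∀ a b, E (θ a) (θ b) = E a b) (s : ℕ) (f : Fin N → X) :
    pathWt E θ (qshift θ s f) = pathWt E θ f := by
  induction s with
  | zero => rw [qshift_zero]
  | succ s ih => rw [add_comm, qshift_add, pathWt_qshift_one E θ hE, ih]

end Weight

section PathFormula

variable {X : Type*} [Fintype X] [DecidableEq X]

/-- The weight of an open path with `n` edges. -/
noncomputable def openWt (E : X → X → ℂ) {n : ℕ} (f : Fin (n + 1) → X) : ℂ :=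
  ∏ i : Fin n, E (f i.castSucc) (f i.succ)

theorem openWt_cons (E : X → X → ℂ) {n : ℕ} (a : X) (g : Fin (n + 1) → X) :
    openWt E (Fin.cons a g : Fin (n + 2) → X) = E a (g 0) * openWt E g := by
  unfold openWt
  rw [Fin.prod_univ_succ]
  congr 1

theorem sum_openWt (E : X → X → ℂ) (n : ℕ) (φ : X → X → ℂ) :
    ∑ f : Fin (n + 1) → X, openWt E f * φ (f (Fin.last n)) (f 0) =
      ∑ a, ∑ b, ((Matrix.of E : Matrix X X ℂ) ^ n) a b * φ b a := by
  induction n generalizing φ with
  | zero =>
    rw [← (Equiv.funUnique (Fin 1) X).symm.sum_comp]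
    refine Finset.sum_congr rfl (fun a _ => ?_)
    simp [openWt, Matrix.one_apply]
  | succ n ih =>
    rw [← (Fin.consEquiv (fun _ : Fin (n + 2) => X)).sum_comp, Fintype.sum_prod_type]
    refine Finset.sum_congr rfl (fun a _ => ?_)
    have h1 : ∀ g : Fin (n + 1) → X,
        openWt E ((Fin.consEquiv (fun _ : Fin (n + 2) => X)) (a, g)) *
          φ ((Fin.consEquiv (fun _ : Fin (n + 2) => X)) (a, g) (Fin.last (n + 1)))
            ((Fin.consEquiv (fun _ : Fin (n + 2) => X)) (a, g) 0) =
        openWt E g * (E a (g 0) * φ (g (Fin.last n)) a) := by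
      intro g
      have h2 : (Fin.consEquiv (fun _ : Fin (n + 2) => X)) (a, g) = Fin.cons a g := rfl
      rw [h2, openWt_cons]
      have h3 : (Fin.cons a g : Fin (n + 2) → X) (Fin.last (n + 1)) = g (Fin.last n) := by
        rw [← Fin.succ_last, Fin.cons_succ]
      rw [h3, Fin.cons_zero]
      ring
    rw [Finset.sum_congr rfl (fun g _ => h1 g), ih (fun b c => E a c * φ b a)]
    rw [pow_succ']
    simp only [Matrix.mul_apply, Finset.sum_mul, Matrix.of_apply]
    rw [Finset.sum_comm]
    refine Finset.sum_congr rfl (fun b _ => ?_)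
    refine Finset.sum_congr rfl (fun c _ => ?_)
    ring

theorem pathWt_eq_openWt (E : X → X → ℂ) (θ : Equiv.Perm X) {n : ℕ} (f : Fin (n + 1) → X) :
    pathWt E θ f = openWt E f * E (f (Fin.last n)) (θ (f 0)) := by
  unfold pathWt openWt
  rw [Finset.prod_range_succ, Finset.prod_range]
  congr 1
  · refine Finset.prod_congr rfl (fun i _ => ?_)
    rw [qext_of_lt θ f (by omega : (i : ℕ) < n + 1),
      qext_of_lt θ f (by omega : (i : ℕ) + 1 < n + 1)]
    rfl
  · rw [qext_of_lt θ f (by omega : n < n + 1)]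
    have h1 : qext θ f (n + 1) = θ (qext θ f 0) := by
      rw [← qext_add_self]
      congr 1
      omega
    rw [h1, qext_of_lt θ f (by omega : 0 < n + 1)]
    rfl

/-- The sum of the weights of all twisted closed paths of length `n + 1` is the twisted trace of
the `(n + 1)`-st power. -/
theorem sum_pathWt (E : X → X → ℂ) (θ : Equiv.Perm X) (n : ℕ) :
    ∑ f : Fin (n + 1) → X, pathWt E θ f =
      ∑ a, ((Matrix.of E : Matrix X X ℂ) ^ (n + 1)) a (θ a) := by
  simp only [pathWt_eq_openWt]
  rw [sum_openWt E n (fun b a => E b (θ a))]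
  refine Finset.sum_congr rfl (fun a _ => ?_)
  rw [pow_succ, Matrix.mul_apply]
  simp only [Matrix.of_apply]

end PathFormula

section Orbit

variable {X : Type*} {N : ℕ} [NeZero N]

theorem qshift_mul_period (θ : Equiv.Perm X) (r : ℕ) (hr : ∀ f : Fin N → X, qshift θ r f = f)
    (k : ℕ) (f : Fin N → X) : qshift θ (r * k) f = f := by
  induction k with
  | zero => rw [mul_zero, qshift_zero]
  | succ k ih => rw [Nat.mul_succ, qshift_add, hr, ih]

theorem qshift_mul_mod (θ : Equiv.Perm X) (c q : ℕ)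
    (hr : ∀ f : Fin N → X, qshift θ (c * q) f = f) (t : ℕ) (f : Fin N → X) :
    qshift θ (c * (t % q)) f = qshift θ (c * t) f := by
  have h1 : c * t = c * (t % q) + c * q * (t / q) := by
    conv_lhs => rw [← Nat.mod_add_div t q]
    ring
  rw [h1, qshift_add, qshift_mul_period θ (c * q) hr]

/-- The action of the cyclic group of order `q` on words by twisted shifts by multiples of `c`. -/
@[reducible] def qAction (θ : Equiv.Perm X) (c q : ℕ) [NeZero q]
    (hr : ∀ f : Fin N → X, qshift θ (c * q) f = f) :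
    MulAction (Multiplicative (ZMod q)) (Fin N → X) where
  smul γ f := qshift θ (c * (Multiplicative.toAdd γ).val) f
  one_smul f := by
    show qshift θ (c * (Multiplicative.toAdd (1 : Multiplicative (ZMod q))).val) f = f
    rw [toAdd_one, ZMod.val_zero, mul_zero, qshift_zero]
  mul_smul γ₁ γ₂ f := by
    show qshift θ (c * (Multiplicative.toAdd (γ₁ * γ₂)).val) f =
      qshift θ (c * (Multiplicative.toAdd γ₁).val)
        (qshift θ (c * (Multiplicative.toAdd γ₂).val) f)
    rw [toAdd_mul, ZMod.val_add, qshift_mul_mod θ c q hr, mul_add, qshift_add]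

theorem fixed_qshift (θ : Equiv.Perm X) (c s : ℕ) (f : Fin N → X)
    (hf : ∀ i, (θ ^ c) (f i) = f i) (i : Fin N) :
    (θ ^ c) (qshift θ s f i) = qshift θ s f i := by
  show (θ ^ c) (qext θ f (i.val + s)) = qext θ f (i.val + s)
  unfold qext
  rw [← Equiv.Perm.mul_apply, ← pow_add, add_comm, pow_add, Equiv.Perm.mul_apply, hf]

end Orbit

section MainLemma

variable {X : Type*} [Fintype X] [DecidableEq X] {p : ℕ} {M : Ideal AlgInt}

/-- **Twisted necklace lemma**: modulo `p ^ n`, only the closed paths of length `p ^ n` all of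
whose vertices are fixed by `θ ^ c` contribute to the twisted trace. -/
theorem exists_sum_pathWt_eq (hM : IsPModular p M) (E : X → X → ℂ)
    (hES : ∀ a b, MemLocalRing M (E a b)) (θ : Equiv.Perm X)
    (hEθ : ∀ a b, E (θ a) (θ b) = E a b) (c e n : ℕ) (hθ : θ ^ (c * p ^ e) = 1)
    {N : ℕ} [NeZero N] (hN : N = p ^ n) :
    ∃ s, MemLocalRing M s ∧ ∑ f : Fin N → X, pathWt E θ f =
      (∑ f : Fin N → X, if ∀ i, (θ ^ c) (f i) = f i then pathWt E θ f else 0) +
        (p : ℂ) ^ n * s := by
  classical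
  subst hN
  haveI hP := isPrime_of_isPModular hM
  have hp := prime_of_isPModular hM
  haveI : NeZero (p ^ (n + e)) := ⟨pow_ne_zero _ hp.ne_zero⟩
  have hr : ∀ f : Fin (p ^ n) → X, qshift θ (c * p ^ (n + e)) f = f := by
    intro f
    have h1 : c * p ^ (n + e) = p ^ n * (c * p ^ e) := by rw [pow_add]; ring
    rw [h1]
    exact qshift_mul_of_pow_eq_one θ hθ f
  letI := qAction (N := p ^ n) θ c (p ^ (n + e)) hr
  have hsm : ∀ (γ : Multiplicative (ZMod (p ^ (n + e)))) (f : Fin (p ^ n) → X),
      γ • f = qshift θ (c * (Multiplicative.toAdd γ).val) f := fun γ f => rfl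
  have hfix : ∀ (γ : Multiplicative (ZMod (p ^ (n + e)))) (f : Fin (p ^ n) → X),
      (∀ i, (θ ^ c) ((γ • f) i) = (γ • f) i) ↔ ∀ i, (θ ^ c) (f i) = f i := by
    have hone : ∀ (γ : Multiplicative (ZMod (p ^ (n + e)))) (f : Fin (p ^ n) → X),
        (∀ i, (θ ^ c) (f i) = f i) → ∀ i, (θ ^ c) ((γ • f) i) = (γ • f) i := by
      intro γ f hf i
      rw [hsm]
      exact fixed_qshift θ c _ f hf i
    intro γ f
    constructor
    · intro h
      have := hone γ⁻¹ (γ • f) h
      rwa [inv_smul_smul] at this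
    · exact hone γ f
  have hsplit : ∑ f : Fin (p ^ n) → X, pathWt E θ f =
      (∑ f : Fin (p ^ n) → X, if ∀ i, (θ ^ c) (f i) = f i then pathWt E θ f else 0) +
      ∑ f : Fin (p ^ n) → X, if ∀ i, (θ ^ c) (f i) = f i then 0 else pathWt E θ f := by
    rw [← Finset.sum_add_distrib]
    refine Finset.sum_congr rfl (fun f _ => ?_)
    split_ifs <;> simp
  obtain ⟨s, hs, hsum⟩ := exists_sum_eq_mul_of_orbit_card_dvd
    (Γ := Multiplicative (ZMod (p ^ (n + e)))) (localRing M).toAddSubgroup
    (fun f : Fin (p ^ n) → X => if ∀ i, (θ ^ c) (f i) = f i then 0 else pathWt E θ f)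
    (by
      intro f
      show MemLocalRing M _
      split_ifs
      · exact memLocalRing_zero hP.ne_top
      · exact memLocalRing_prod _ _ (fun i _ => hES _ _))
    (by
      intro γ f
      simp only [hfix γ f]
      rw [hsm, pathWt_qshift E θ hEθ])
    (p ^ n)
    (by
      intro f hf
      have hnf : ¬ ∀ i, (θ ^ c) (f i) = f i := by
        intro h
        exact hf (if_pos h)
      set H := MulAction.stabilizer (Multiplicative (ZMod (p ^ (n + e)))) f with hH
      have hidx : H.index = Nat.card (MulAction.orbit (Multiplicative (ZMod (p ^ (n + e)))) f) := by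
        rw [MulAction.index_stabilizer]
        rfl
      have hdvd : H.index ∣ p ^ (n + e) := by
        have := Subgroup.index_dvd_card H
        rwa [Nat.card_eq_fintype_card, Fintype.card_multiplicative, ZMod.card] at this
      obtain ⟨j, _, hj⟩ := (Nat.dvd_prime_pow hp).1 hdvd
      rw [← hidx, hj]
      by_cases hcase : n ≤ j
      · exact pow_dvd_pow p hcase
      · exfalso
        apply hnf
        set γ₁ : Multiplicative (ZMod (p ^ (n + e))) := Multiplicative.ofAdd 1 with hγ₁
        have h1 : γ₁ ^ p ^ j ∈ H := by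
          have := Subgroup.pow_index_mem H γ₁
          rwa [hj] at this
        have h2 : γ₁ ^ p ^ n ∈ H := by
          have : p ^ n = p ^ j * p ^ (n - j) := by
            rw [← pow_add]; congr 1; omega
          rw [this, pow_mul]
          exact H.pow_mem h1 _
        have h3 := MulAction.mem_stabilizer_iff.1 h2
        rw [hsm, toAdd_pow, hγ₁, toAdd_ofAdd, nsmul_one, ZMod.val_natCast,
          qshift_mul_mod θ c _ hr, mul_comm, qshift_mul] at h3
        intro i
        exact congrFun h3 i)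
  refine ⟨s, hs, ?_⟩
  rw [hsplit, hsum]
  push_cast
  rfl

/-- Entrywise divisibility of a complex matrix by `p ^ m` in the local ring. -/
def MatDiv (M : Ideal AlgInt) (p m : ℕ) (A : Matrix X X ℂ) : Prop :=
  ∀ a b, MemLocalRing M (A a b / (p : ℂ) ^ m)

theorem MatDiv.mul [hP : M.IsPrime] {m m' : ℕ} {A B : Matrix X X ℂ} (hA : MatDiv M p m A)
    (hB : MatDiv M p m' B) : MatDiv M p (m + m') (A * B) := by
  intro a b
  rw [Matrix.mul_apply, Finset.sum_div]
  refine memLocalRing_sum _ _ (fun c _ => ?_)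
  have : A a c * B c b / (p : ℂ) ^ (m + m') = (A a c / (p : ℂ) ^ m) * (B c b / (p : ℂ) ^ m') := by
    rw [pow_add]
    by_cases hp0 : (p : ℂ) = 0
    · rcases Nat.eq_zero_or_pos m with h | h
      · rcases Nat.eq_zero_or_pos m' with h' | h'
        · subst h; subst h'; simp
        · simp [hp0, zero_pow h'.ne']
      · simp [hp0, zero_pow h.ne']
    · field_simp
  rw [this]
  exact memLocalRing_mul (hA a c) (hB c b)

theorem MatDiv.one [hP : M.IsPrime] : MatDiv M p 0 (1 : Matrix X X ℂ) := by
  intro a b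
  rw [pow_zero, div_one, Matrix.one_apply]
  split_ifs
  · exact memLocalRing_one hP.ne_top
  · exact memLocalRing_zero hP.ne_top

theorem MatDiv.pow [hP : M.IsPrime] {m : ℕ} {A : Matrix X X ℂ} (hA : MatDiv M p m A) (k : ℕ) :
    MatDiv M p (m * k) (A ^ k) := by
  induction k with
  | zero => rw [mul_zero, pow_zero]; exact MatDiv.one
  | succ k ih => rw [Nat.mul_succ, pow_succ]; exact ih.mul hA

/-- **Twisted trace theorem.**  If the compression of the idempotent `E` to the fixed points of
`θ ^ c` is nilpotent modulo `p`, the twisted trace of `E` vanishes. -/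
theorem twisted_trace_eq_zero (hM : IsPModular p M) (E : X → X → ℂ)
    (hES : ∀ a b, MemLocalRing M (E a b)) (hEE : ∀ a b, ∑ x, E a x * E x b = E a b)
    (θ : Equiv.Perm X) (hEθ : ∀ a b, E (θ a) (θ b) = E a b) (c e : ℕ)
    (hθ : θ ^ (c * p ^ e) = 1) (N₁ : ℕ)
    (hcomp : MatDiv M p 1 ((Matrix.of fun a b =>
      if (θ ^ c) a = a ∧ (θ ^ c) b = b then E a b else 0 : Matrix X X ℂ) ^ N₁)) :
    ∑ a, E a (θ a) = 0 := by
  classical
  haveI hP := isPrime_of_isPModular hM
  have hp := prime_of_isPModular hM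
  have hp0 : (p : ℂ) ≠ 0 := Nat.cast_ne_zero.2 hp.ne_zero
  set E' : X → X → ℂ := fun a b => if (θ ^ c) a = a ∧ (θ ^ c) b = b then E a b else 0 with hE'
  have hE'S : MatDiv M p 0 (Matrix.of E' : Matrix X X ℂ) := by
    intro a b
    rw [pow_zero, div_one, Matrix.of_apply, hE']
    simp only
    split_ifs
    · exact hES a b
    · exact memLocalRing_zero hP.ne_top
  have hzS : MemLocalRing M (∑ a, E a (θ a)) := memLocalRing_sum _ _ (fun a _ => hES _ _)
  refine eq_zero_of_forall_div_pow hM hzS ?_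
  intro m
  set n := (N₁ + 1) * m with hn
  have hnm : m ≤ n := by
    rw [hn]; nlinarith
  have hpn : (N₁ + 1) * m ≤ p ^ n := by
    calc (N₁ + 1) * m = n := hn.symm
      _ ≤ 2 ^ n := Nat.lt_two_pow_self.le
      _ ≤ p ^ n := Nat.pow_le_pow_left hp.two_le n
  obtain ⟨n', hn'⟩ : ∃ n', p ^ n = n' + 1 :=
    ⟨p ^ n - 1, (Nat.succ_pred_eq_of_pos (pow_pos hp.pos n)).symm⟩
  -- idempotency
  have hidem : IsIdempotentElem (Matrix.of E : Matrix X X ℂ) := by
    ext a b
    rw [Matrix.mul_apply]
    simp only [Matrix.of_apply]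
    exact hEE a b
  have h1 : ∑ a, E a (θ a) = ∑ f : Fin (n' + 1) → X, pathWt E θ f := by
    rw [sum_pathWt, hidem.pow_succ_eq]
    rfl
  obtain ⟨s, hs, h2⟩ := exists_sum_pathWt_eq hM E hES θ hEθ c e n hθ (N := n' + 1) hn'.symm
  have h3 : ∀ f : Fin (n' + 1) → X,
      (if ∀ i, (θ ^ c) (f i) = f i then pathWt E θ f else 0) = pathWt E' θ f := by
    intro f
    split_ifs with hf
    · unfold pathWt
      refine Finset.prod_congr rfl (fun i _ => ?_)
      have hq : ∀ j : ℕ, (θ ^ c) (qext θ f j) = qext θ f j := by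
        intro j
        unfold qext
        rw [← Equiv.Perm.mul_apply, ← pow_add, add_comm, pow_add, Equiv.Perm.mul_apply, hf]
      rw [hE']
      simp only
      rw [if_pos ⟨hq i, hq (i + 1)⟩]
    · rw [not_forall] at hf
      obtain ⟨i, hi⟩ := hf
      unfold pathWt
      symm
      refine Finset.prod_eq_zero (Finset.mem_range.2 i.2) ?_
      rw [qext_of_lt θ f i.2, hE']
      simp only
      rw [if_neg]
      intro h
      exact hi h.1
  rw [Finset.sum_congr rfl (fun f _ => h3 f), sum_pathWt E' θ n'] at h2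
  have h2' := h1.trans h2
  rw [← hn'] at h2'
  rw [h2', add_div]
  refine memLocalRing_add ?_ ?_
  · rw [Finset.sum_div]
    refine memLocalRing_sum _ _ (fun a _ => ?_)
    -- entries of E' ^ (p ^ n) divisible by p ^ m
    have h4 : p ^ n = N₁ * m + (p ^ n - N₁ * m) := by
      have : N₁ * m ≤ p ^ n := le_trans (by nlinarith) hpn
      omega
    have h5 : MatDiv M p (1 * m + 0 * (p ^ n - N₁ * m))
        (((Matrix.of E' : Matrix X X ℂ) ^ N₁) ^ m * (Matrix.of E' : Matrix X X ℂ) ^ (p ^ n - N₁ * m)) :=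
      (hcomp.pow m).mul (hE'S.pow _)
    rw [← pow_mul, ← pow_add, ← h4, one_mul, zero_mul, add_zero] at h5
    exact h5 a (θ a)
  · have : (p : ℂ) ^ n * s / (p : ℂ) ^ m = (p : ℂ) ^ (n - m) * s := by
      have : n = (n - m) + m := by omega
      conv_lhs => rw [this, pow_add]
      field_simp
    rw [this]
    exact memLocalRing_mul (memLocalRing_pow (natCast_mem_localRing p) _) hs

end MainLemma

end Cfsg.Agent.Lib.H23
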