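import Mathlib
import Cfsg.Prelude.Def_Blocks
import Cfsg.Agent.Lib.H23.BlockMinMax
import Cfsg.Agent.Lib.H23.BlockTrace

/-!
# The Brauer map on coefficient level (helper23)

* `resSub C z`: the element of `ℂ[G]` obtained from `z` by keeping the coefficients on the
  subgroup `C`.
* `InvUnder h z`: `z` is invariant under conjugation by `h`.
* `brauer_mul`, `brauer_pow`: for `Q`-invariant `z, w` with local-integer coefficients (`Q` a
  `p`-subgroup) and `u ∈ C_G(Q)`: `(z w)(u) ≡ (z_C w_C)(u)` and `(z^N)(u) ≡ (z_C^N)(u)` modulo `p`,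
  where `z_C = resSub (C_G(Q)) z`.
* `compress_pow`: powers of the compression of the right multiplication matrix to a subgroup.
-/

set_option autoImplicit false

namespace Cfsg.Agent.Lib.H23

open Cfsg MonoidAlgebra
open scoped ComplexConjugate

section ResSub

variable {G : Type*} [Group G] [Fintype G]

/-- Keep the coefficients on the subgroup `C`. -/
noncomputable def resSub (C : Subgroup G) (z : MonoidAlgebra ℂ G) : MonoidAlgebra ℂ G := by
  classical
  exact ofFun (fun k => if k ∈ C then z.coeff k else 0)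

theorem coeff_resSub (C : Subgroup G) (z : MonoidAlgebra ℂ G) (k : G) [Decidable (k ∈ C)] :
    (resSub C z).coeff k = if k ∈ C then z.coeff k else 0 := by
  unfold resSub
  rw [coeff_ofFun]
  congr

/-- `z` is supported on the subgroup `C`. -/
def SuppIn (C : Subgroup G) (z : MonoidAlgebra ℂ G) : Prop := ∀ k ∉ C, z.coeff k = 0

theorem suppIn_resSub (C : Subgroup G) (z : MonoidAlgebra ℂ G) : SuppIn C (resSub C z) := by
  classical
  intro k hk
  rw [coeff_resSub, if_neg hk]

theorem SuppIn.mul {C : Subgroup G} {z w : MonoidAlgebra ℂ G} (hz : SuppIn C z)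
    (hw : SuppIn C w) : SuppIn C (z * w) := by
  intro u hu
  rw [coeff_mul_eq_sum]
  refine Finset.sum_eq_zero (fun h _ => ?_)
  by_cases hh : h ∈ C
  · rw [hw (h⁻¹ * u) (fun h2 => hu (by
      have := C.mul_mem hh h2
      rwa [mul_inv_cancel_left] at this)), mul_zero]
  · rw [hz h hh, zero_mul]

theorem SuppIn.one (C : Subgroup G) : SuppIn C (1 : MonoidAlgebra ℂ G) := by
  classical
  intro u hu
  rw [MonoidAlgebra.one_def, MonoidAlgebra.coeff_single, Finsupp.single_apply, if_neg]
  rintro rfl
  exact hu C.one_mem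

theorem SuppIn.pow {C : Subgroup G} {z : MonoidAlgebra ℂ G} (hz : SuppIn C z) (N : ℕ) :
    SuppIn C (z ^ N) := by
  induction N with
  | zero => rw [pow_zero]; exact SuppIn.one C
  | succ N ih => rw [pow_succ]; exact ih.mul hz

/-- Invariance under conjugation by `h`. -/
def InvUnder (h : G) (z : MonoidAlgebra ℂ G) : Prop := ∀ k, z.coeff (h * k * h⁻¹) = z.coeff k

theorem InvUnder.mul {h : G} {z w : MonoidAlgebra ℂ G} (hz : InvUnder h z) (hw : InvUnder h w) :
    InvUnder h (z * w) := by
  intro k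
  rw [coeff_mul_eq_sum, coeff_mul_eq_sum]
  refine (Fintype.sum_equiv (MulAut.conj h).toEquiv _ _ (fun l => ?_)).symm
  simp only [MulEquiv.toEquiv_eq_coe, EquivLike.coe_coe, MulAut.conj_apply]
  rw [hz l, ← hw (l⁻¹ * k)]
  congr 2
  group

theorem InvUnder.one (h : G) : InvUnder h (1 : MonoidAlgebra ℂ G) := by
  classical
  intro k
  rw [MonoidAlgebra.one_def, MonoidAlgebra.coeff_single, Finsupp.single_apply,
    Finsupp.single_apply]
  congr 1
  rw [eq_iff_iff]
  constructor
  · intro h1
    have : k = h⁻¹ * (h * k * h⁻¹) * h := by group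
    rw [this, ← h1]; group
  · intro h1
    rw [← h1]; group

theorem InvUnder.pow {h : G} {z : MonoidAlgebra ℂ G} (hz : InvUnder h z) (N : ℕ) :
    InvUnder h (z ^ N) := by
  induction N with
  | zero => rw [pow_zero]; exact InvUnder.one h
  | succ N ih => rw [pow_succ]; exact ih.mul hz

theorem invUnder_of_mem_center {z : MonoidAlgebra ℂ G}
    (hz : z ∈ Subalgebra.center ℂ (MonoidAlgebra ℂ G)) (h : G) : InvUnder h z :=
  fun k => coeff_conj_of_mem_center hz k h

end ResSub

section Brauer

variable {G : Type*} [Group G] [Fintype G] {p : ℕ} {M : Ideal AlgInt}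

/-- Fixed point lemma, divisibility form. -/
theorem exists_sum_eq_p_mul_of_no_fixed (hM : IsPModular p M) (Q : Subgroup G)
    (hQ : IsPGroup p Q) (K : Finset G) (hK : ∀ u ∈ Q, ∀ x ∈ K, u * x * u⁻¹ ∈ K)
    (f : G → ℂ) (hf : ∀ x ∈ K, MemLocalRing M (f x))
    (hinv : ∀ u ∈ Q, ∀ x ∈ K, f (u * x * u⁻¹) = f x)
    (hfix : ∀ x ∈ K, ¬ Q ≤ Subgroup.centralizer ({x} : Set G)) :
    ∃ s, MemLocalRing M s ∧ ∑ x ∈ K, f x = (p : ℂ) * s := by
  classical
  haveI hP := isPrime_of_isPModular hM
  haveI : Fact p.Prime := ⟨prime_of_isPModular hM⟩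
  letI : MulAction Q {x // x ∈ K} :=
    { smul := fun u x => ⟨(u : G) * x * (u : G)⁻¹, hK u u.2 x x.2⟩
      one_smul := by
        intro x
        apply Subtype.ext
        show ((1 : Q) : G) * x * ((1 : Q) : G)⁻¹ = x
        simp
      mul_smul := by
        intro u v x
        apply Subtype.ext
        show ((u * v : Q) : G) * x * ((u * v : Q) : G)⁻¹ =
          (u : G) * ((v : G) * x * (v : G)⁻¹) * (u : G)⁻¹
        simp [mul_assoc] }
  have hsm : ∀ (u : Q) (x : {x // x ∈ K}),
      ((u • x : {x // x ∈ K}) : G) = (u : G) * x * (u : G)⁻¹ := fun u x => rfl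
  rw [← Finset.sum_coe_sort K f]
  obtain ⟨s, hs, hsum⟩ := exists_sum_eq_mul_of_orbit_card_dvd (Γ := Q)
    (localRing M).toAddSubgroup (fun x : {x // x ∈ K} => f (x : G))
    (fun x => hf x x.2)
    (by
      intro u x
      show f ((u • x : {x // x ∈ K}) : G) = f x
      rw [hsm]
      exact hinv u u.2 x x.2)
    p
    (by
      intro x _
      obtain ⟨n, hn⟩ := hQ.card_orbit x
      rw [hn]
      rcases Nat.eq_zero_or_pos n with h0 | hpos
      · exfalso
        rw [h0, pow_zero, Nat.card_eq_fintype_card,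
          ← MulAction.mem_fixedPoints_iff_card_orbit_eq_one] at hn
        apply hfix x x.2
        intro u hu
        rw [Subgroup.mem_centralizer_singleton_iff]
        have := congrArg Subtype.val (hn ⟨u, hu⟩)
        rw [hsm] at this
        have h2 : u * (x : G) * u⁻¹ = x := this
        calc u * (x : G) = (u * (x : G) * u⁻¹) * u := by group
          _ = (x : G) * u := by rw [h2]
      · exact dvd_pow_self p hpos.ne')
  exact ⟨s, hs, hsum⟩

/-- The Brauer map is multiplicative modulo `p`, coefficientwise. -/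
theorem brauer_mul (hM : IsPModular p M) (Q : Subgroup G) (hQ : IsPGroup p Q)
    (z w : MonoidAlgebra ℂ G) (hz : ∀ k, MemLocalRing M (z.coeff k))
    (hw : ∀ k, MemLocalRing M (w.coeff k)) (hzQ : ∀ q ∈ Q, InvUnder q z)
    (hwQ : ∀ q ∈ Q, InvUnder q w) (u : G) (hu : u ∈ Subgroup.centralizer (Q : Set G)) :
    ∃ s, MemLocalRing M s ∧ (z * w).coeff u =
      (resSub (Subgroup.centralizer (Q : Set G)) z *
        resSub (Subgroup.centralizer (Q : Set G)) w).coeff u + (p : ℂ) * s := by
  classical
  haveI hP := isPrime_of_isPModular hM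
  set C := Subgroup.centralizer (Q : Set G) with hC
  obtain ⟨s, hs, hsum⟩ := exists_sum_eq_p_mul_of_no_fixed hM Q hQ
    (Finset.univ.filter (fun k : G => k ∉ C))
    (by
      intro q hq x hx
      rw [Finset.mem_filter] at hx ⊢
      refine ⟨Finset.mem_univ _, fun h => hx.2 ?_⟩
      have hqC : ∀ c ∈ C, q * c * q⁻¹ = c := by
        intro c hc
        have := (Subgroup.mem_centralizer_iff.1 hc) q hq
        rw [this]; group
      -- x = q⁻¹ (q x q⁻¹) q and C is normalized by q (it is centralized)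
      have h1 : x = q⁻¹ * (q * x * q⁻¹) * q := by group
      rw [h1]
      rw [Subgroup.mem_centralizer_iff]
      intro r hr
      have h2 := (Subgroup.mem_centralizer_iff.1 h) (q * r * q⁻¹) (Q.mul_mem (Q.mul_mem hq hr) (Q.inv_mem hq))
      calc r * (q⁻¹ * (q * x * q⁻¹) * q) = q⁻¹ * ((q * r * q⁻¹) * (q * x * q⁻¹)) * q := by group
        _ = q⁻¹ * ((q * x * q⁻¹) * (q * r * q⁻¹)) * q := by rw [h2]
        _ = q⁻¹ * (q * x * q⁻¹) * q * r := by group)
    (fun k => z.coeff k * w.coeff (k⁻¹ * u))
    (fun k _ => memLocalRing_mul (hz k) (hw _))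
    (by
      intro q hq k _
      have hqu : q * u = u * q := ((Subgroup.mem_centralizer_iff.1 hu) q hq)
      show z.coeff (q * k * q⁻¹) * w.coeff ((q * k * q⁻¹)⁻¹ * u) = z.coeff k * w.coeff (k⁻¹ * u)
      rw [hzQ q hq k]
      congr 1
      rw [← hwQ q hq (k⁻¹ * u)]
      congr 1
      have : u = q * u * q⁻¹ := by rw [hqu]; group
      conv_lhs => rw [this]
      group)
    (by
      intro k hk hQk
      rw [Finset.mem_filter] at hk
      apply hk.2
      rw [hC, Subgroup.mem_centralizer_iff]
      intro q hq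
      have := Subgroup.mem_centralizer_singleton_iff.1 (hQk hq)
      exact this)
  refine ⟨s, hs, ?_⟩
  rw [coeff_mul_eq_sum, coeff_mul_eq_sum, ← hsum, Finset.sum_filter, ← Finset.sum_add_distrib]
  refine Finset.sum_congr rfl (fun k _ => ?_)
  rw [coeff_resSub, coeff_resSub]
  by_cases hk : k ∈ C
  · have : k⁻¹ * u ∈ C := C.mul_mem (C.inv_mem hk) hu
    rw [if_pos hk, if_pos this, if_neg (not_not.2 hk), add_zero]
  · rw [if_neg hk, if_pos hk, zero_mul, zero_add]

theorem resSub_memLocalRing [M.IsPrime] (C : Subgroup G) {z : MonoidAlgebra ℂ G}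
    (hz : ∀ k, MemLocalRing M (z.coeff k)) (k : G) : MemLocalRing M ((resSub C z).coeff k) := by
  classical
  rw [coeff_resSub]
  split_ifs
  · exact hz k
  · exact memLocalRing_zero (Ideal.IsPrime.ne_top ‹_›)

/-- The Brauer map commutes with powers modulo `p`, coefficientwise. -/
theorem brauer_pow (hM : IsPModular p M) (Q : Subgroup G) (hQ : IsPGroup p Q)
    (z : MonoidAlgebra ℂ G) (hz : ∀ k, MemLocalRing M (z.coeff k)) (hzQ : ∀ q ∈ Q, InvUnder q z)
    (N : ℕ) (u : G) (hu : u ∈ Subgroup.centralizer (Q : Set G)) :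
    ∃ s, MemLocalRing M s ∧ (z ^ N).coeff u =
      ((resSub (Subgroup.centralizer (Q : Set G)) z) ^ N).coeff u + (p : ℂ) * s := by
  classical
  haveI hP := isPrime_of_isPModular hM
  have hp0 : (p : ℂ) ≠ 0 := Nat.cast_ne_zero.2 (prime_of_isPModular hM).ne_zero
  set C := Subgroup.centralizer (Q : Set G) with hC
  induction N generalizing u with
  | zero =>
    exact ⟨0, memLocalRing_zero hP.ne_top, by rw [pow_zero, pow_zero, mul_zero, add_zero]⟩
  | succ N ih =>
    have hzN : ∀ k, MemLocalRing M ((z ^ N).coeff k) := by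
      intro k
      exact (Subring.pow_mem (intCoeff (G := G) M) (x := z) hz N) k
    obtain ⟨s₁, hs₁, h1⟩ := brauer_mul hM Q hQ (z ^ N) z hzN hz
      (fun q hq => (hzQ q hq).pow N) hzQ u hu
    set t : MonoidAlgebra ℂ G := ofFun (fun k =>
      ((resSub C (z ^ N)).coeff k - ((resSub C z) ^ N).coeff k) / (p : ℂ)) with ht
    have htS : ∀ k, MemLocalRing M (t.coeff k) := by
      intro k
      rw [ht, coeff_ofFun]
      by_cases hk : k ∈ C
      · obtain ⟨s, hs, h2⟩ := ih k hk
        rw [coeff_resSub, if_pos hk, h2, add_sub_cancel_left, mul_div_cancel_left₀ _ hp0]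
        exact hs
      · rw [suppIn_resSub C (z ^ N) k hk, (suppIn_resSub C z).pow N k hk, sub_zero, zero_div]
        exact memLocalRing_zero hP.ne_top
    have hdecomp : resSub C (z ^ N) = (resSub C z) ^ N + (p : ℂ) • t := by
      apply MonoidAlgebra.ext
      ext k
      rw [MonoidAlgebra.coeff_add, Finsupp.coe_add, Pi.add_apply, MonoidAlgebra.coeff_smul,
        Finsupp.coe_smul, Pi.smul_apply, smul_eq_mul, ht, coeff_ofFun,
        mul_div_cancel₀ _ hp0]
      ring
    refine ⟨(t * resSub C z).coeff u + s₁, memLocalRing_add ?_ hs₁, ?_⟩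
    · exact (Subring.mul_mem (intCoeff (G := G) M) (x := t) (y := resSub C z) htS
        (resSub_memLocalRing C hz)) u
    · rw [pow_succ, h1, hdecomp, add_mul, smul_mul_assoc, pow_succ, MonoidAlgebra.coeff_add,
        Finsupp.coe_add, Pi.add_apply, MonoidAlgebra.coeff_smul, Finsupp.coe_smul, Pi.smul_apply,
        smul_eq_mul]
      ring

end Brauer

section Compress

variable {G : Type*} [Group G] [Fintype G] [DecidableEq G]

/-- Powers of the compression to a subgroup of a right multiplication matrix. -/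
theorem compress_pow (C : Subgroup G) [DecidablePred (· ∈ C)] (ε : MonoidAlgebra ℂ G) (N : ℕ) :
    (Matrix.of (fun a b : G => if a ∈ C ∧ b ∈ C then ε.coeff (a⁻¹ * b) else 0) :
      Matrix G G ℂ) ^ (N + 1) =
    Matrix.of (fun a b : G => if a ∈ C ∧ b ∈ C then
      ((resSub C ε) ^ (N + 1)).coeff (a⁻¹ * b) else 0) := by
  induction N with
  | zero =>
    rw [zero_add, pow_one, pow_one]
    ext a b
    simp only [Matrix.of_apply]
    split_ifs with h
    · rw [coeff_resSub, if_pos (C.mul_mem (C.inv_mem h.1) h.2)]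
    · rfl
  | succ N ih =>
    rw [pow_succ, ih]
    ext a b
    rw [Matrix.mul_apply]
    simp only [Matrix.of_apply]
    by_cases ha : a ∈ C
    · by_cases hb : b ∈ C
      · rw [if_pos ⟨ha, hb⟩, pow_succ ((resSub C ε)) (N + 1), coeff_mul_eq_sum]
        refine (Fintype.sum_equiv (Equiv.mulLeft a⁻¹) _ _ (fun c => ?_))
        simp only [Equiv.coe_mulLeft]
        by_cases hc : c ∈ C
        · rw [if_pos ⟨ha, hc⟩, if_pos ⟨hc, hb⟩, coeff_resSub,
            if_pos (C.mul_mem (C.inv_mem (C.mul_mem (C.inv_mem ha) hc)) (C.mul_mem (C.inv_mem ha) hb))]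
          congr 2
          group
        · rw [if_neg (fun h => hc h.2), zero_mul]
          have : a⁻¹ * c ∉ C := by
            intro h
            apply hc
            have := C.mul_mem ha h
            rwa [mul_inv_cancel_left] at this
          rw [(suppIn_resSub C ε).pow (N + 1) _ this, zero_mul]
      · rw [if_neg (fun h => hb h.2)]
        refine Finset.sum_eq_zero (fun c _ => ?_)
        rw [if_neg (fun h : c ∈ C ∧ b ∈ C => hb h.2), mul_zero]
    · rw [if_neg (fun h => ha h.1)]
      refine Finset.sum_eq_zero (fun c _ => ?_)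
      rw [if_neg (fun h : a ∈ C ∧ c ∈ C => ha h.1), zero_mul]

end Compress

end Cfsg.Agent.Lib.H23
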