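import Mathlib

/-!
# Nilpotency of class sums avoiding the centralizer of a normal `p`-subgroup

`P ⊴ G` a `p`-subgroup, `K` a finite `P`-conjugation-stable subset of `G` missing `C_G(P)`.
Then `∑ x ∈ K, ρ x` is nilpotent on every finite `𝔽_p`-representation, and
`∑ x ∈ K, single x 1` is nilpotent in `F[G]` for every commutative ring `F` of characteristic `p`.
-/

namespace Cfsg.Agent.Lib.H23

section OrbitSum

/-- Orbit-sum lemma with values in an additive monoid killed by `k`. -/
theorem sum_eq_zero_of_orbit_card_dvd {Γ W A : Type*} [Group Γ] [MulAction Γ W] [Fintype W]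
    [AddCommMonoid A] (f : W → A) (hinv : ∀ (γ : Γ) (w : W), f (γ • w) = f w) (k : ℕ)
    (hk : ∀ w : W, k ∣ Nat.card (MulAction.orbit Γ w)) (hA : ∀ a : A, k • a = 0) :
    ∑ w, f w = 0 := by
  classical
  let q : W → MulAction.orbitRel.Quotient Γ W := Quotient.mk _
  haveI : Fintype (MulAction.orbitRel.Quotient Γ W) := Fintype.ofFinite _
  rw [← Finset.sum_fiberwise Finset.univ q f]
  have hfib : ∀ ω : MulAction.orbitRel.Quotient Γ W, ∀ w : W, q w = ω ↔
      w ∈ MulAction.orbit Γ (Quotient.out ω) := by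
    intro ω w
    rw [← MulAction.orbitRel_apply]
    constructor
    · intro h
      have h2 : (⟦w⟧ : MulAction.orbitRel.Quotient Γ W) = ⟦Quotient.out ω⟧ := by
        rw [Quotient.out_eq]; exact h
      exact Quotient.exact h2
    · intro h
      have := Quotient.sound (s := MulAction.orbitRel Γ W) h
      rw [Quotient.out_eq] at this
      exact this
  refine Finset.sum_eq_zero ?_
  intro ω _
  have h1 : ∀ w ∈ Finset.univ.filter (fun w => q w = ω), f w = f (Quotient.out ω) := by
    intro w hw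
    obtain ⟨γ, hγ⟩ := (hfib ω w).1 (Finset.mem_filter.1 hw).2
    rw [← hγ]
    exact hinv γ _
  rw [Finset.sum_congr rfl h1, Finset.sum_const]
  have hc : (Finset.univ.filter (fun w => q w = ω)).card =
      Nat.card (MulAction.orbit Γ (Quotient.out ω)) := by
    rw [Finset.filter_congr (fun w _ => hfib ω w), Nat.card_eq_fintype_card,
      Fintype.card_subtype]
  rw [hc]
  obtain ⟨m, hm⟩ := hk (Quotient.out ω)
  rw [hm, mul_comm, mul_smul, hA, smul_zero]

end OrbitSum

section FixedVector

variable {p : ℕ} [Fact p.Prime]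

theorem natCast_smul_zmod_eq_zero {V : Type*} [AddCommGroup V] [Module (ZMod p) V] (v : V) :
    p • v = 0 := by
  have h : ((p : ZMod p)) • v = 0 := by rw [ZMod.natCast_self, zero_smul]
  rwa [Nat.cast_smul_eq_nsmul] at h

theorem dvd_card_of_nontrivial_zmod {V : Type*} [AddCommGroup V] [Module (ZMod p) V]
    [Nontrivial V] : p ∣ Nat.card V := by
  obtain ⟨v, hv⟩ := exists_ne (0 : V)
  have h1 : addOrderOf v ∣ p := addOrderOf_dvd_of_nsmul_eq_zero (natCast_smul_zmod_eq_zero v)
  have hp : p.Prime := Fact.out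
  rcases (Nat.dvd_prime hp).1 h1 with h | h
  · exact absurd (AddMonoid.addOrderOf_eq_one_iff.1 h) hv
  · rw [← h]; exact addOrderOf_dvd_natCard v

/-- A `p`-group acting linearly on a nonzero finite `𝔽_p`-space fixes a nonzero vector. -/
theorem exists_fixed_ne_zero {P V : Type*} [Group P] (hP : IsPGroup p P) [AddCommGroup V]
    [Module (ZMod p) V] [Finite V] [Nontrivial V] (ρ : Representation (ZMod p) P V) :
    ∃ v : V, v ≠ 0 ∧ ∀ u : P, ρ u v = v := by
  letI : MulAction P V := MulAction.compHom V (ρ : P →* Module.End (ZMod p) V)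
  have hsm : ∀ (u : P) (v : V), u • v = ρ u v := fun u v => rfl
  have h0 : (0 : V) ∈ MulAction.fixedPoints P V := by
    intro u
    rw [hsm, map_zero]
  obtain ⟨b, hb, hne⟩ := hP.exists_fixed_point_of_prime_dvd_card_of_fixed_point (α := V)
    dvd_card_of_nontrivial_zmod h0
  exact ⟨b, fun h => hne h.symm, fun u => (hsm u b).symm.trans (hb u)⟩

end FixedVector

section RepNil

variable {p : ℕ} [Fact p.Prime] {G : Type*} [Group G]

/-- The sum of `ρ x` over `K` kills the `P`-fixed vectors. -/
theorem sum_rep_apply_invariant (P : Subgroup G) [P.Normal] (hP : IsPGroup p P)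
    (K : Finset G) (hK : ∀ u ∈ P, ∀ x ∈ K, u * x * u⁻¹ ∈ K)
    (hKC : ∀ x ∈ K, x ∉ Subgroup.centralizer (P : Set G))
    {V : Type*} [AddCommGroup V] [Module (ZMod p) V] (ρ : Representation (ZMod p) G V)
    (w : V) (hw : w ∈ Representation.invariants (ρ.comp P.subtype)) :
    (∑ x ∈ K, ρ x) w = 0 := by
  classical
  rw [LinearMap.sum_apply]
  letI : MulAction P {x // x ∈ K} :=
    { smul := fun u x => ⟨(u : G) * x * (u : G)⁻¹, hK u u.2 x x.2⟩
      one_smul := by
        intro x
        apply Subtype.ext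
        show ((1 : P) : G) * x * ((1 : P) : G)⁻¹ = x
        simp
      mul_smul := by
        intro u v x
        apply Subtype.ext
        show ((u * v : P) : G) * x * ((u * v : P) : G)⁻¹ = (u : G) * ((v : G) * x * (v : G)⁻¹) * (u : G)⁻¹
        simp [mul_assoc] }
  have hsm : ∀ (u : P) (x : {x // x ∈ K}), ((u • x : {x // x ∈ K}) : G) = (u : G) * x * (u : G)⁻¹ :=
    fun u x => rfl
  have hfix : ∀ (u : P) (v : V), v ∈ Representation.invariants (ρ.comp P.subtype) →
      ρ (u : G) v = v := fun u v hv => hv u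
  have hstab : ∀ (g : G) (v : V), v ∈ Representation.invariants (ρ.comp P.subtype) →
      ρ g v ∈ Representation.invariants (ρ.comp P.subtype) :=
    fun g v hv => Representation.le_comap_invariants ρ P g hv
  rw [← Finset.sum_coe_sort K (fun x => ρ x w)]
  refine sum_eq_zero_of_orbit_card_dvd (Γ := P) (fun x : {x // x ∈ K} => ρ (x : G) w) ?_ p ?_
    natCast_smul_zmod_eq_zero
  · intro u x
    show ρ ((u • x : {x // x ∈ K}) : G) w = ρ (x : G) w
    rw [hsm, map_mul, map_mul, Module.End.mul_apply, Module.End.mul_apply]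
    have h1 : ρ ((u : G)⁻¹) w = w := hfix u⁻¹ w hw
    rw [h1]
    exact hfix u _ (hstab _ _ hw)
  · intro x
    obtain ⟨n, hn⟩ := hP.card_orbit x
    rw [hn]
    rcases Nat.eq_zero_or_pos n with h0 | hpos
    · exfalso
      rw [h0, pow_zero, Nat.card_eq_fintype_card,
        ← MulAction.mem_fixedPoints_iff_card_orbit_eq_one] at hn
      apply hKC x x.2
      rw [Subgroup.mem_centralizer_iff]
      intro u hu
      have := congrArg Subtype.val (hn ⟨u, hu⟩)
      rw [hsm] at this
      have h2 : u * (x : G) * u⁻¹ = x := this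
      calc u * (x : G) = (u * (x : G) * u⁻¹) * u := by group
        _ = (x : G) * u := by rw [h2]
    · exact dvd_pow_self p hpos.ne'

theorem quotient_sum_pow_mk (K : Finset G) {V : Type*} [AddCommGroup V] [Module (ZMod p) V]
    (ρ : Representation (ZMod p) G V) (U : Submodule (ZMod p) V)
    (hU : ∀ g, U ≤ U.comap (ρ g)) (n : ℕ) (v : V) :
    ((∑ x ∈ K, ρ.quotient U hU x) ^ n) (Submodule.Quotient.mk v) =
      Submodule.Quotient.mk (((∑ x ∈ K, ρ x) ^ n) v) := by
  induction n generalizing v with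
  | zero => simp
  | succ n ih =>
    rw [pow_succ, Module.End.mul_apply, pow_succ, Module.End.mul_apply, ← ih]
    congr 1
    rw [LinearMap.sum_apply, LinearMap.sum_apply]
    show _ = U.mkQ _
    rw [map_sum]
    refine Finset.sum_congr rfl ?_
    intro x _
    rw [Representation.quotient_apply, Submodule.mapQ_apply]
    rfl

/-- **Nilpotency on representations.** -/
theorem pow_sum_rep_eq_zero (P : Subgroup G) [P.Normal] (hP : IsPGroup p P)
    (K : Finset G) (hK : ∀ u ∈ P, ∀ x ∈ K, u * x * u⁻¹ ∈ K)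
    (hKC : ∀ x ∈ K, x ∉ Subgroup.centralizer (P : Set G)) (n : ℕ) :
    ∀ (V : Type*) [AddCommGroup V] [Module (ZMod p) V] [Finite V]
      (ρ : Representation (ZMod p) G V), Nat.card V ≤ p ^ n → (∑ x ∈ K, ρ x) ^ n = 0 := by
  have hp : p.Prime := Fact.out
  induction n with
  | zero =>
    intro V _ _ _ ρ hcard
    rw [pow_zero] at hcard
    haveI : Subsingleton V := (Finite.card_le_one_iff_subsingleton).1 hcard
    exact Subsingleton.elim _ _
  | succ n ih =>
    intro V _ _ _ ρ hcard
    rcases subsingleton_or_nontrivial V with hs | hnt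
    · exact Subsingleton.elim _ _
    set U := Representation.invariants (ρ.comp P.subtype) with hUdef
    have hU : ∀ g, U ≤ U.comap (ρ g) := Representation.le_comap_invariants ρ P
    obtain ⟨v0, hv0, hv0fix⟩ := exists_fixed_ne_zero hP (ρ.comp P.subtype)
    have hv0U : v0 ∈ U := fun u => hv0fix u
    haveI : Nontrivial U := ⟨⟨⟨v0, hv0U⟩, 0, fun h => hv0 (congrArg Subtype.val h)⟩⟩
    have hpU : p ∣ Nat.card U := dvd_card_of_nontrivial_zmod
    have hcardeq := Submodule.card_eq_card_quotient_mul_card U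
    have hUpos : 0 < Nat.card U := Nat.card_pos
    have hple : p ≤ Nat.card U := Nat.le_of_dvd hUpos hpU
    haveI : Finite (V ⧸ U) := Finite.of_surjective (Submodule.mkQ U) (Submodule.mkQ_surjective U)
    have hq : Nat.card (V ⧸ U) ≤ p ^ n := by
      by_contra hlt
      rw [not_le] at hlt
      have : p * (p ^ n + 1) ≤ Nat.card U * Nat.card (V ⧸ U) := Nat.mul_le_mul hple hlt
      rw [← hcardeq] at this
      have h3 : p ^ (n + 1) = p * p ^ n := pow_succ' p n
      have hppos : 0 < p := hp.pos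
      nlinarith
    have hIH := ih (V ⧸ U) (ρ.quotient U hU) hq
    apply LinearMap.ext
    intro v
    rw [pow_succ', Module.End.mul_apply, LinearMap.zero_apply]
    apply sum_rep_apply_invariant P hP K hK hKC ρ
    have h4 := quotient_sum_pow_mk K ρ U hU n v
    rw [hIH, LinearMap.zero_apply] at h4
    exact (Submodule.Quotient.mk_eq_zero U).1 h4.symm

end RepNil

section GroupAlgebra

variable {p : ℕ} [Fact p.Prime] {G : Type*} [Group G] [Finite G]

/-- Nilpotency in the group algebra over `𝔽_p`. -/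
theorem isNilpotent_sum_single_zmod (P : Subgroup G) [P.Normal] (hP : IsPGroup p P)
    (K : Finset G) (hK : ∀ u ∈ P, ∀ x ∈ K, u * x * u⁻¹ ∈ K)
    (hKC : ∀ x ∈ K, x ∉ Subgroup.centralizer (P : Set G)) :
    IsNilpotent (∑ x ∈ K, MonoidAlgebra.single x (1 : ZMod p) : MonoidAlgebra (ZMod p) G) := by
  classical
  have hp : p.Prime := Fact.out
  haveI : Finite (MonoidAlgebra (ZMod p) G) := Module.finite_of_finite (ZMod p)
  let ρ : Representation (ZMod p) G (MonoidAlgebra (ZMod p) G) :=
    ((Algebra.lmul (ZMod p) (MonoidAlgebra (ZMod p) G) :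
      MonoidAlgebra (ZMod p) G →ₐ[ZMod p] Module.End (ZMod p) (MonoidAlgebra (ZMod p) G)) :
      MonoidAlgebra (ZMod p) G →* Module.End (ZMod p) (MonoidAlgebra (ZMod p) G)).comp
      (MonoidAlgebra.of (ZMod p) G)
  obtain ⟨n, hn⟩ : ∃ n, Nat.card (MonoidAlgebra (ZMod p) G) ≤ p ^ n :=
    ⟨Nat.card (MonoidAlgebra (ZMod p) G), (Nat.lt_pow_self hp.one_lt).le⟩
  have h := pow_sum_rep_eq_zero P hP K hK hKC n (MonoidAlgebra (ZMod p) G) ρ hn
  refine ⟨n, ?_⟩
  have h2 : (∑ x ∈ K, ρ x) = Algebra.lmul (ZMod p) (MonoidAlgebra (ZMod p) G)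
      (∑ x ∈ K, MonoidAlgebra.single x (1 : ZMod p)) := by
    rw [map_sum]
    rfl
  rw [h2, ← map_pow] at h
  have h3 := congrArg (fun f => f 1) h
  simpa using h3

/-- Nilpotency in the group algebra over any ring of characteristic `p`. -/
theorem isNilpotent_sum_single (F : Type*) [Ring F] [CharP F p] (P : Subgroup G) [P.Normal]
    (hP : IsPGroup p P)
    (K : Finset G) (hK : ∀ u ∈ P, ∀ x ∈ K, u * x * u⁻¹ ∈ K)
    (hKC : ∀ x ∈ K, x ∉ Subgroup.centralizer (P : Set G)) :
    IsNilpotent (∑ x ∈ K, MonoidAlgebra.single x (1 : F) : MonoidAlgebra F G) := by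
  have h := (isNilpotent_sum_single_zmod (p := p) P hP K hK hKC).map
    (MonoidAlgebra.mapRingHom G (ZMod.castHom (dvd_refl p) F))
  rw [map_sum] at h
  simpa using h

/-- Integral form: some power of the integral sum has all coefficients divisible by `p`. -/
theorem exists_pow_sum_single_int (P : Subgroup G) [P.Normal] (hP : IsPGroup p P)
    (K : Finset G) (hK : ∀ u ∈ P, ∀ x ∈ K, u * x * u⁻¹ ∈ K)
    (hKC : ∀ x ∈ K, x ∉ Subgroup.centralizer (P : Set G)) :
    ∃ (N : ℕ) (y : MonoidAlgebra ℤ G),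
      (∑ x ∈ K, MonoidAlgebra.single x (1 : ℤ) : MonoidAlgebra ℤ G) ^ N = (p : ℤ) • y := by
  classical
  haveI := Fintype.ofFinite G
  obtain ⟨N, hN⟩ := isNilpotent_sum_single_zmod (p := p) P hP K hK hKC
  refine ⟨N, ?_⟩
  set z : MonoidAlgebra ℤ G := ∑ x ∈ K, MonoidAlgebra.single x (1 : ℤ) with hz
  have h1 : MonoidAlgebra.mapRingHom G (Int.castRingHom (ZMod p)) (z ^ N) = 0 := by
    rw [map_pow, hz, map_sum]
    simpa using hN
  have h2 : ∀ g : G, (p : ℤ) ∣ (z ^ N).coeff g := by
    intro g
    have := congrArg (fun w => w.coeff g) h1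
    simp only [MonoidAlgebra.coeff_mapRingHom, Int.coe_castRingHom] at this
    exact (ZMod.intCast_zmod_eq_zero_iff_dvd _ p).1 (by simpa using this)
  choose m hm using h2
  refine ⟨∑ g, MonoidAlgebra.single g (m g), ?_⟩
  apply MonoidAlgebra.ext
  apply Finsupp.ext
  intro g
  rw [hm g, MonoidAlgebra.coeff_smul, Finsupp.coe_smul, Pi.smul_apply, smul_eq_mul,
    MonoidAlgebra.coeff_sum, Finsupp.finsetSum_apply]
  congr 1
  simp only [MonoidAlgebra.coeff_single]
  rw [Finset.sum_eq_single g]
  · simp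
  · intro b _ hb
    simp [Finsupp.single_apply, hb]
  · intro h
    exact absurd (Finset.mem_univ g) h

end GroupAlgebra

end Cfsg.Agent.Lib.H23
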