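import Mathlib
import Cfsg.Prelude.Def_Blocks
import Cfsg.Agent.Lib.H23.BlockNil
import Cfsg.Agent.Lib.H23.BlockDefect
import Cfsg.Agent.Lib.H23.DegreeDvd

/-!
# Central characters of classes missing the centralizer of a normal `p`-subgroup (helper23)

* `memLocalIdeal_of_pow_mul_eq`: if `χ(1) a^(N m) = p^m b_m` with `b_m` integral for all `m`, then
  `a` lies in the local ideal.
* `centralChar_memLocalIdeal_of_normal`: `P ⊴ G` a `p`-subgroup, no conjugate of `g` centralizes `P`;
  then `ω_χ(g) ∈ P` for every irreducible `χ`.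
-/

set_option autoImplicit false

namespace Cfsg.Agent.Lib.H23

open Cfsg MonoidAlgebra
open scoped ComplexConjugate

section NilChar

variable {G : Type*} [Group G] [Fintype G] {p : ℕ} {M : Ideal AlgInt}

/-- Elements of `ℂ[G]` with integer coefficients have integral character values. -/
theorem isIntegral_charEval_map (χ : IrrCharacter G) (y : MonoidAlgebra ℤ G) :
    IsIntegral ℤ (charEval (χ : G → ℂ) (MonoidAlgebra.mapRingHom G (Int.castRingHom ℂ) y)) := by
  unfold charEval
  refine IsIntegral.sum _ (fun x _ => ?_)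
  rw [MonoidAlgebra.coeff_mapRingHom]
  exact (isIntegral_algebraMap (R := ℤ) (A := ℂ) (x := y.coeff x)).mul (irr_isIntegral χ x)

/-- General form: a finite subset `K` stable under `G`-conjugation... we only need the class. -/
theorem centralChar_memLocalIdeal_of_normal (hM : IsPModular p M) (P : Subgroup G) [P.Normal]
    (hP : IsPGroup p P) (g : G)
    (hg : ∀ x : G, IsConj g x → x ∉ Subgroup.centralizer (P : Set G)) (χ : IrrCharacter G) :
    MemLocalIdeal M (centralChar (χ : G → ℂ) g) := by
  classical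
  haveI hPr := isPrime_of_isPModular hM
  have hp := prime_of_isPModular hM
  haveI : Fact p.Prime := ⟨hp⟩
  have hp0 : (p : ℂ) ≠ 0 := Nat.cast_ne_zero.2 hp.ne_zero
  obtain ⟨N, y, hy⟩ := exists_pow_sum_single_int (p := p) P hP (conjFinset g)
    (by
      intro u _ x hx
      rw [mem_conjFinset] at hx ⊢
      exact hx.trans (isConj_iff.2 ⟨u, rfl⟩))
    (by
      intro x hx
      exact hg x (mem_conjFinset.1 hx))
  set ι := MonoidAlgebra.mapRingHom G (Int.castRingHom ℂ) with hι
  have hιz : ι (∑ x ∈ conjFinset g, MonoidAlgebra.single x (1 : ℤ)) = classSum g := by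
    rw [map_sum, classSum]
    refine Finset.sum_congr rfl (fun x _ => ?_)
    rw [hι, MonoidAlgebra.mapRingHom_single]
    simp
  have hpow : classSum g ^ N = (p : ℂ) • ι y := by
    rw [← hιz, ← map_pow, hy, map_zsmul, ← Int.cast_smul_eq_zsmul ℂ]
    simp
  by_contra hna
  set a := centralChar (χ : G → ℂ) g with ha
  have haS : MemLocalRing M a := coe_mem_localRing (omegaInt χ g)
  obtain ⟨e, c, hc, hd⟩ := Nat.exists_eq_pow_mul_and_not_dvd
    (charDegree_pos (χ : G → ℂ) χ.2).ne' p hp.ne_one
  have hχ1 : (χ : G → ℂ) 1 = (p : ℂ) ^ e * (c : ℂ) := by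
    rw [apply_one_eq_charDegree (χ : G → ℂ) χ.2, hd]
    push_cast
    rfl
  have hc0 : (c : ℂ) ≠ 0 := by
    rw [Nat.cast_ne_zero]
    rintro rfl
    exact hc (dvd_zero p)
  have h1 : omega (χ : G → ℂ) (classSum g ^ (N * (e + 1))) = a ^ (N * (e + 1)) := by
    rw [omega_pow χ.2 (classSum_mem_center g),
      omega_classSum (Cfsg.Agent.Lib.H24.irr_isClassFunction χ)]
  have h2 : classSum g ^ (N * (e + 1)) = ((p : ℂ) ^ (e + 1)) • ι (y ^ (e + 1)) := by
    rw [pow_mul, hpow, smul_pow, map_pow]
  have h3 : IsIntegral ℤ (charEval (χ : G → ℂ) (ι (y ^ (e + 1)))) :=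
    isIntegral_charEval_map χ _
  rw [h2, omega_smul, omega, hχ1] at h1
  have h4 : (c : ℂ) * a ^ (N * (e + 1)) = (p : ℂ) * charEval (χ : G → ℂ) (ι (y ^ (e + 1))) := by
    rw [← h1, pow_succ]
    field_simp
  have h5 : MemLocalIdeal M ((c : ℂ) * a ^ (N * (e + 1))) := by
    rw [h4]
    exact memLocalIdeal_mul_right (memLocalIdeal_p hM) (isIntegral_mem_localRing h3)
  have h6 : ∀ j : ℕ, ¬ MemLocalIdeal M (a ^ j) := by
    intro j
    induction j with
    | zero => rw [pow_zero]; exact not_memLocalIdeal_one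
    | succ j ih => rw [pow_succ]; exact not_memLocalIdeal_mul (memLocalRing_pow haS j) ih hna
  refine not_memLocalIdeal_mul (natCast_mem_localRing c) ?_ (h6 _) h5
  rw [natCast_memLocalIdeal_iff hM]
  exact hc

end NilChar

end Cfsg.Agent.Lib.H23
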