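import Mathlib
import Cfsg.Prelude.Def_Blocks
import Cfsg.Agent.Lib.H23.BlockVanish

/-!
# Consequences of weak block orthogonality (helper23)

* `sum_mul_conj_irr`: first orthogonality as a sum;
* `sum_pRegular_mul_conj_eq_zero`: characters in different blocks are orthogonal on the
  `p`-regular elements.
-/

set_option autoImplicit false

namespace Cfsg.Agent.Lib.H23

open Cfsg MonoidAlgebra
open scoped ComplexConjugate

section

variable {G : Type*} [Group G] [Fintype G] {p : ℕ} {M : Ideal AlgInt}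

theorem sum_mul_conj_irr (ψ φ : IrrCharacter G) [Decidable (ψ = φ)] :
    ∑ y : G, (ψ : G → ℂ) y * conj ((φ : G → ℂ) y) = if ψ = φ then (Nat.card G : ℂ) else 0 := by
  have h := Cfsg.Agent.Lib.H24.irr_orthonormal ψ φ
  rw [classInner] at h
  have hG : (Nat.card G : ℂ) ≠ 0 := by exact_mod_cast (Nat.card_pos (α := G)).ne'
  have h2 : ∑ y : G, (ψ : G → ℂ) y * conj ((φ : G → ℂ) y) =
      (Nat.card G : ℂ) * ((Nat.card G : ℂ)⁻¹ *
        ∑ y : G, (ψ : G → ℂ) y * conj ((φ : G → ℂ) y)) := by
    rw [← mul_assoc, mul_inv_cancel₀ hG, one_mul]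
  rw [h2, h]
  split_ifs with h1
  · simp
  · simp

/-- The block sum `∑_{φ ∈ B} φ(x) conj φ(y)`. -/
noncomputable def blockSum [Fintype (IrrCharacter G)] (B : Set (IrrCharacter G))
    [DecidablePred (· ∈ B)] (x y : G) : ℂ :=
  ∑ φ : IrrCharacter G, if φ ∈ B then (φ : G → ℂ) x * conj ((φ : G → ℂ) y) else 0

theorem blockSum_conj [Fintype (IrrCharacter G)] (B : Set (IrrCharacter G))
    [DecidablePred (· ∈ B)] (x y : G) : conj (blockSum B x y) = blockSum B y x := by
  rw [blockSum, blockSum, map_sum]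
  refine Finset.sum_congr rfl (fun φ _ => ?_)
  split_ifs
  · rw [map_mul, Complex.conj_conj, mul_comm]
  · simp

theorem sum_blockSum_mul [Fintype (IrrCharacter G)] (B : Set (IrrCharacter G))
    [DecidablePred (· ∈ B)] (ψ : IrrCharacter G) (x : G) :
    ∑ y : G, blockSum B x y * (ψ : G → ℂ) y =
      if ψ ∈ B then (Nat.card G : ℂ) * (ψ : G → ℂ) x else 0 := by
  classical
  simp only [blockSum, Finset.sum_mul]
  rw [Finset.sum_comm]
  have h1 : ∀ φ : IrrCharacter G, ∑ y : G, (if φ ∈ B then
      (φ : G → ℂ) x * conj ((φ : G → ℂ) y) else 0) * (ψ : G → ℂ) y =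
      if φ = ψ then (if ψ ∈ B then (Nat.card G : ℂ) * (ψ : G → ℂ) x else 0) else 0 := by
    intro φ
    by_cases hφ : φ ∈ B
    · simp only [if_pos hφ]
      have : ∀ y : G, (φ : G → ℂ) x * conj ((φ : G → ℂ) y) * (ψ : G → ℂ) y =
          (φ : G → ℂ) x * ((ψ : G → ℂ) y * conj ((φ : G → ℂ) y)) := fun y => by ring
      simp only [this, ← Finset.mul_sum, sum_mul_conj_irr]
      by_cases hφψ : φ = ψ
      · subst hφψ
        simp [hφ, mul_comm]
      · have : ¬ ψ = φ := fun h => hφψ h.symm
        simp [hφψ, this]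
    · simp only [if_neg hφ, zero_mul, Finset.sum_const_zero]
      by_cases hφψ : φ = ψ
      · subst hφψ
        simp [hφ]
      · simp [hφψ]
  simp only [h1]
  rw [Finset.sum_ite_eq' Finset.univ ψ, if_pos (Finset.mem_univ _)]

/-- Characters in different blocks are orthogonal on the `p`-regular elements. -/
theorem sum_pRegular_mul_conj_eq_zero (hM : IsPModular p M) (χ ψ : IrrCharacter G)
    (h : ¬ SameBlock M (χ : G → ℂ) (ψ : G → ℂ)) :
    ∑ x : G, (if p ∣ orderOf x then 0 else (χ : G → ℂ) x * conj ((ψ : G → ℂ) x)) = 0 := by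
  classical
  haveI := Fintype.ofFinite (IrrCharacter G)
  haveI hP := isPrime_of_isPModular hM
  set B := blockOf M (χ : G → ℂ) with hB
  have hψB : ψ ∉ B := h
  have hχB : χ ∈ B := mem_blockOf_self χ
  have hG : (Nat.card G : ℂ) ≠ 0 := by exact_mod_cast (Nat.card_pos (α := G)).ne'
  have hweak1 : ∀ x y : G, ¬ p ∣ orderOf x → p ∣ orderOf y → blockSum B x y = 0 := by
    intro x y hx hy
    exact weak_block_orthogonality hM χ x y hx hy
  have hweak2 : ∀ x y : G, p ∣ orderOf x → ¬ p ∣ orderOf y → blockSum B x y = 0 := by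
    intro x y hx hy
    rw [← blockSum_conj, hweak1 y x hy hx, map_zero]
  -- (b)
  have hb : ∀ x : G, ¬ p ∣ orderOf x →
      ∑ y : G, (if p ∣ orderOf y then 0 else blockSum B x y * (ψ : G → ℂ) y) = 0 := by
    intro x hx
    have h1 := sum_blockSum_mul B ψ x
    rw [if_neg hψB] at h1
    refine Eq.trans ?_ h1
    refine Finset.sum_congr rfl (fun y _ => ?_)
    split_ifs with hy
    · rw [hweak1 x y hx hy, zero_mul]
    · rfl
  -- (c)
  have hc : ∀ y : G, ¬ p ∣ orderOf y →
      ∑ x : G, (if p ∣ orderOf x then 0 else conj ((χ : G → ℂ) x) * blockSum B x y) =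
        (Nat.card G : ℂ) * conj ((χ : G → ℂ) y) := by
    intro y hy
    have h1 := sum_blockSum_mul B χ y
    rw [if_pos hχB] at h1
    have h2 := congrArg conj h1
    rw [map_sum, map_mul, Complex.conj_natCast] at h2
    rw [← h2]
    refine Finset.sum_congr rfl (fun x _ => ?_)
    rw [map_mul, blockSum_conj]
    split_ifs with hx
    · rw [hweak2 x y hx hy, zero_mul]
    · ring
  -- combine
  have hd : ∑ x : G, (if p ∣ orderOf x then 0 else conj ((χ : G → ℂ) x) *
      ∑ y : G, (if p ∣ orderOf y then 0 else blockSum B x y * (ψ : G → ℂ) y)) = 0 := by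
    refine Finset.sum_eq_zero (fun x _ => ?_)
    split_ifs with hx
    · rfl
    · rw [hb x hx, mul_zero]
  have he : ∑ x : G, (if p ∣ orderOf x then 0 else conj ((χ : G → ℂ) x) *
      ∑ y : G, (if p ∣ orderOf y then 0 else blockSum B x y * (ψ : G → ℂ) y)) =
      ∑ y : G, (if p ∣ orderOf y then 0 else (ψ : G → ℂ) y *
        ∑ x : G, (if p ∣ orderOf x then 0 else conj ((χ : G → ℂ) x) * blockSum B x y)) := by
    have h1 : ∀ x : G, (if p ∣ orderOf x then 0 else conj ((χ : G → ℂ) x) *
        ∑ y : G, (if p ∣ orderOf y then 0 else blockSum B x y * (ψ : G → ℂ) y)) =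
        ∑ y : G, (if p ∣ orderOf x then 0 else if p ∣ orderOf y then 0 else
          conj ((χ : G → ℂ) x) * (blockSum B x y * (ψ : G → ℂ) y)) := by
      intro x
      split_ifs with hx
      · simp
      · rw [Finset.mul_sum]
        refine Finset.sum_congr rfl (fun y _ => ?_)
        split_ifs <;> simp
    have h2 : ∀ y : G, (if p ∣ orderOf y then 0 else (ψ : G → ℂ) y *
        ∑ x : G, (if p ∣ orderOf x then 0 else conj ((χ : G → ℂ) x) * blockSum B x y)) =
        ∑ x : G, (if p ∣ orderOf x then 0 else if p ∣ orderOf y then 0 else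
          conj ((χ : G → ℂ) x) * (blockSum B x y * (ψ : G → ℂ) y)) := by
      intro y
      split_ifs with hy
      · simp
      · rw [Finset.mul_sum]
        refine Finset.sum_congr rfl (fun x _ => ?_)
        split_ifs
        · simp
        · ring
    simp only [h1, h2]
    exact Finset.sum_comm
  rw [he] at hd
  have hf : ∑ y : G, (if p ∣ orderOf y then 0 else (ψ : G → ℂ) y *
      ∑ x : G, (if p ∣ orderOf x then 0 else conj ((χ : G → ℂ) x) * blockSum B x y)) =
      (Nat.card G : ℂ) * ∑ y : G, (if p ∣ orderOf y then 0 else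
        (ψ : G → ℂ) y * conj ((χ : G → ℂ) y)) := by
    rw [Finset.mul_sum]
    refine Finset.sum_congr rfl (fun y _ => ?_)
    split_ifs with hy
    · simp
    · rw [hc y hy]
      ring
  rw [hf] at hd
  have hg := (mul_eq_zero.1 hd).resolve_left hG
  have hh := congrArg conj hg
  rw [map_sum, map_zero] at hh
  refine Eq.trans ?_ hh
  refine Finset.sum_congr rfl (fun x _ => ?_)
  split_ifs
  · simp
  · rw [map_mul, Complex.conj_conj, mul_comm]

end

end Cfsg.Agent.Lib.H23
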