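import Mathlib
import Cfsg.Prelude.Def_Blocks
import Cfsg.Agent.Lib.H23.BlockTrace
import Cfsg.Agent.Lib.H23.BlockIdem
import Cfsg.Agent.Lib.L0.CharCentral

/-!
# The twisted trace theorem for group algebras; block orthogonality (helper23)

* `groupTrace_eq_zero`: for an idempotent `ε` of `ℂ[G]` with local-integer coefficients commuting
  with `η`, the twisted trace `∑ a, ε (a⁻¹ g a η⁻¹)` vanishes provided the compression of `ε` to
  `{a | g^c a = a η^c}` is nilpotent modulo `p`.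
* `sum_irr_twist`: `∑ a, χ (a⁻¹ g a u) = |G| χ(g) χ(u) / χ(1)`.
* `block_orthogonality`: `∑ χ ∈ B, χ(g) χ(h⁻¹) = 0` when the `p`-parts of `g`, `h` are not
  conjugate.
-/

set_option autoImplicit false

namespace Cfsg.Agent.Lib.H23

open Cfsg MonoidAlgebra
open scoped ComplexConjugate

section GroupTrace

variable {G : Type*} [Group G]

/-- The permutation `a ↦ g a η⁻¹`. -/
def twistPerm (g η : G) : Equiv.Perm G := (Equiv.mulLeft g).trans (Equiv.mulRight η⁻¹)

@[simp] theorem twistPerm_apply (g η a : G) : twistPerm g η a = g * a * η⁻¹ := rfl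

theorem twistPerm_pow (g η : G) (k : ℕ) (a : G) :
    (twistPerm g η ^ k) a = g ^ k * a * (η ^ k)⁻¹ := by
  induction k generalizing a with
  | zero => simp
  | succ k ih =>
    rw [pow_succ, Equiv.Perm.mul_apply, ih, twistPerm_apply, pow_succ, pow_succ, mul_inv_rev]
    group

variable [Fintype G] [DecidableEq G] {p : ℕ} {M : Ideal AlgInt}

theorem groupTrace_eq_zero (hM : IsPModular p M) (ε : MonoidAlgebra ℂ G) (hε : ε * ε = ε)
    (hint : ∀ k, MemLocalRing M (ε.coeff k)) (g η : G)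
    (hcomm : ∀ k, ε.coeff (η * k * η⁻¹) = ε.coeff k) (c e : ℕ)
    (hg : g ^ (c * p ^ e) = 1) (hη : η ^ (c * p ^ e) = 1) (N₁ : ℕ)
    (hcomp : MatDiv M p 1 ((Matrix.of fun a b : G =>
      if g ^ c * a * (η ^ c)⁻¹ = a ∧ g ^ c * b * (η ^ c)⁻¹ = b then ε.coeff (a⁻¹ * b) else 0 :
        Matrix G G ℂ) ^ N₁)) :
    ∑ a : G, ε.coeff (a⁻¹ * g * a * η⁻¹) = 0 := by
  have h := twisted_trace_eq_zero hM (fun a b : G => ε.coeff (a⁻¹ * b)) (fun a b => hint _)
    (by
      intro a b
      have h1 := congrArg (fun z => z.coeff (a⁻¹ * b)) hε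
      simp only [coeff_mul_eq_sum] at h1
      rw [← h1]
      refine Fintype.sum_equiv (Equiv.mulLeft a⁻¹) _ _ (fun x => ?_)
      simp only [Equiv.coe_mulLeft]
      congr 2
      group)
    (twistPerm g η)
    (by
      intro a b
      simp only [twistPerm_apply]
      rw [← hcomm (a⁻¹ * b)]
      congr 1
      group)
    c e
    (by
      ext a
      rw [twistPerm_pow, hg, hη]
      simp)
    N₁
    (by
      simp only [twistPerm_pow]
      exact hcomp)
  simp only [twistPerm_apply] at h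
  rw [← h]
  refine Finset.sum_congr rfl (fun a _ => ?_)
  congr 1
  group

/-- The fixed-point-free case. -/
theorem groupTrace_eq_zero_of_no_fixed (hM : IsPModular p M) (ε : MonoidAlgebra ℂ G)
    (hε : ε * ε = ε) (hint : ∀ k, MemLocalRing M (ε.coeff k)) (g η : G)
    (hcomm : ∀ k, ε.coeff (η * k * η⁻¹) = ε.coeff k) (c e : ℕ)
    (hg : g ^ (c * p ^ e) = 1) (hη : η ^ (c * p ^ e) = 1)
    (hfix : ∀ a : G, g ^ c * a * (η ^ c)⁻¹ ≠ a) :
    ∑ a : G, ε.coeff (a⁻¹ * g * a * η⁻¹) = 0 := by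
  haveI hP := isPrime_of_isPModular hM
  refine groupTrace_eq_zero hM ε hε hint g η hcomm c e hg hη 1 ?_
  intro a b
  rw [pow_one, Matrix.of_apply, if_neg (fun h => hfix a h.1), zero_div]
  exact memLocalRing_zero hP.ne_top

end GroupTrace

section Characters

variable {G : Type*} [Group G] [Fintype G]

/-- `∑ a, χ (a⁻¹ g a u) = |G| χ(g) χ(u) / χ(1)` for irreducible `χ`. -/
theorem sum_irr_twist (χ : IrrCharacter G) (g u : G) :
    ∑ a : G, (χ : G → ℂ) (a⁻¹ * g * a * u) =
      (Nat.card G : ℂ) * (χ : G → ℂ) g * (χ : G → ℂ) u / (χ : G → ℂ) 1 := by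
  classical
  have h1 := Cfsg.Agent.Lib.L0.sum_conj_eq (fun y => (χ : G → ℂ) (y * u)) g
  rw [h1]
  have h2 : ∑ y ∈ Finset.univ.filter (fun y => IsConj g y), (χ : G → ℂ) (y * u) =
      charEval (χ : G → ℂ) (classSum g * MonoidAlgebra.single u 1) := by
    rw [classSum, Finset.sum_mul, charEval_sum]
    refine Finset.sum_congr rfl (fun y _ => ?_)
    rw [MonoidAlgebra.single_mul_single, one_mul, charEval_single, one_mul]
  rw [h2, charEval_mul_of_mem_center χ.2 (classSum_mem_center g),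
    charEval_classSum (Cfsg.Agent.Lib.H24.irr_isClassFunction χ), charEval_single, one_mul]
  have hidx : ((Subgroup.centralizer ({g} : Set G)).index : ℂ) *
      (Nat.card (Subgroup.centralizer ({g} : Set G)) : ℂ) = (Nat.card G : ℂ) := by
    norm_cast
    rw [mul_comm, Subgroup.card_mul_index]
  rw [← hidx]
  ring

/-- The twisted trace of a block idempotent. -/
theorem sum_blockCoeff_twist [Fintype (IrrCharacter G)] (B : Set (IrrCharacter G))
    [DecidablePred (· ∈ B)] (g η : G) :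
    ∑ a : G, blockCoeff B (a⁻¹ * g * a * η⁻¹) =
      ∑ χ : IrrCharacter G, if χ ∈ B then (χ : G → ℂ) g⁻¹ * (χ : G → ℂ) η else 0 := by
  have hG : (Nat.card G : ℂ) ≠ 0 := by exact_mod_cast (Nat.card_pos (α := G)).ne'
  simp only [blockCoeff_eq_sum, ← Finset.mul_sum]
  rw [Finset.sum_comm, Finset.mul_sum]
  refine Finset.sum_congr rfl (fun χ _ => ?_)
  by_cases hχ : χ ∈ B
  · simp only [if_pos hχ]
    rw [← Finset.mul_sum]
    have h1 : ∑ a : G, conj ((χ : G → ℂ) (a⁻¹ * g * a * η⁻¹)) =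
        conj (∑ a : G, (χ : G → ℂ) (a⁻¹ * g * a * η⁻¹)) := by rw [map_sum]
    have h1' : conj ((χ : G → ℂ) 1) = (χ : G → ℂ) 1 := by
      rw [← Cfsg.Agent.Lib.H24.irr_inv, inv_one]
    rw [h1, sum_irr_twist, map_div₀, map_mul, map_mul, Complex.conj_natCast, h1',
      ← Cfsg.Agent.Lib.H24.irr_inv, ← Cfsg.Agent.Lib.H24.irr_inv, inv_inv]
    have h2 := Cfsg.Agent.Lib.H24.irr_one_ne_zero χ
    field_simp
  · simp [hχ]

end Characters

section BlockOrth

variable {G : Type*} [Group G] [Fintype G] {p : ℕ} {M : Ideal AlgInt}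

/-- **Block orthogonality** (numerical form). -/
theorem block_orthogonality_aux [Fintype (IrrCharacter G)] (hM : IsPModular p M)
    (χ₀ : IrrCharacter G) [DecidablePred (· ∈ blockOf M (χ₀ : G → ℂ))] (g h : G) (c e : ℕ)
    (hg : g ^ (c * p ^ e) = 1) (hh : h ^ (c * p ^ e) = 1) (hnc : ¬ IsConj (g ^ c) (h ^ c)) :
    ∑ χ : IrrCharacter G, (if χ ∈ blockOf M (χ₀ : G → ℂ) then
      (χ : G → ℂ) g * (χ : G → ℂ) h⁻¹ else 0) = 0 := by
  classical
  have h1 := groupTrace_eq_zero_of_no_fixed hM (blockIdem (blockOf M (χ₀ : G → ℂ)))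
    (blockIdem_mul_self _) (fun k => blockIdem_memLocalRing hM χ₀ k) g⁻¹ h⁻¹
    (by
      intro k
      simp only [coeff_blockIdem]
      exact blockCoeff_conj (blockOf M (χ₀ : G → ℂ)) k h⁻¹)
    c e (by rw [inv_pow, hg, inv_one]) (by rw [inv_pow, hh, inv_one])
    (by
      intro a ha
      apply hnc
      rw [isConj_iff]
      refine ⟨a⁻¹, ?_⟩
      rw [inv_pow, inv_pow, inv_inv] at ha
      have : a * h ^ c = g ^ c * a := by
        calc a * h ^ c = g ^ c * ((g ^ c)⁻¹ * a * h ^ c) := by group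
          _ = g ^ c * a := by rw [ha]
      calc a⁻¹ * g ^ c * a⁻¹⁻¹ = a⁻¹ * (g ^ c * a) := by group
        _ = a⁻¹ * (a * h ^ c) := by rw [this]
        _ = h ^ c := by group)
  simp only [coeff_blockIdem] at h1
  rw [sum_blockCoeff_twist, inv_inv] at h1
  exact h1

end BlockOrth

end Cfsg.Agent.Lib.H23
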