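import Mathlib
import Cfsg.Prelude.Def_Blocks
import Cfsg.Agent.Lib.H23.BlockBrauer
import Cfsg.Agent.Lib.H23.BlockTraceGroup
import Cfsg.Agent.Lib.H23.BlockInduce
import Cfsg.Agent.Lib.H23.BlockOrth
import Cfsg.Agent.Lib.H23.PPart

/-!
# Brauer's second main theorem (helper23)

For `b^G = B`, `χ ∉ B` and `h ∈ H` with `C_G(h_p) ≤ H`:  `χ (f_b h) = 0`.
-/

set_option autoImplicit false

namespace Cfsg.Agent.Lib.H23

open Cfsg MonoidAlgebra
open scoped ComplexConjugate

section Incl

variable {G : Type*} [Group G] (H : Subgroup G)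

/-- The inclusion `ℂ[H] → ℂ[G]`. -/
noncomputable def incl : MonoidAlgebra ℂ H →+* MonoidAlgebra ℂ G :=
  MonoidAlgebra.mapDomainRingHom ℂ H.subtype

theorem coeff_incl_mem (z : MonoidAlgebra ℂ H) (h : H) : (incl H z).coeff (h : G) = z.coeff h := by
  show (Finsupp.mapDomain H.subtype z.coeff) (H.subtype h) = z.coeff h
  exact Finsupp.mapDomain_apply H.subtype_injective _ _

theorem coeff_incl_not_mem (z : MonoidAlgebra ℂ H) {g : G} (hg : g ∉ H) :
    (incl H z).coeff g = 0 := by
  show (Finsupp.mapDomain H.subtype z.coeff) g = 0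
  apply Finsupp.mapDomain_of_notMem_range
  rintro ⟨h, rfl⟩
  exact hg h.2

theorem sum_eq_sum_subgroup [Fintype G] [Fintype H] (F : G → ℂ) (hF : ∀ g ∉ H, F g = 0) :
    ∑ g, F g = ∑ h : H, F h := by
  classical
  rw [← Finset.sum_subtype (Finset.univ.filter (· ∈ H)) (by simp) F]
  symm
  apply Finset.sum_subset (Finset.filter_subset _ _)
  intro g _ hg
  apply hF
  intro h
  exact hg (Finset.mem_filter.2 ⟨Finset.mem_univ _, h⟩)

variable [Fintype G] [Fintype H]

theorem invUnder_incl {z : MonoidAlgebra ℂ H}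
    (hz : z ∈ Subalgebra.center ℂ (MonoidAlgebra ℂ H)) (h : H) :
    InvUnder (h : G) (incl H z) := by
  intro k
  by_cases hk : k ∈ H
  · have h1 : (h : G) * k * (h : G)⁻¹ = ((h * ⟨k, hk⟩ * h⁻¹ : H) : G) := by simp
    rw [h1, coeff_incl_mem, coeff_conj_of_mem_center hz]
    exact (coeff_incl_mem H z ⟨k, hk⟩).symm
  · have h1 : (h : G) * k * (h : G)⁻¹ ∉ H := by
      intro h2
      apply hk
      have := H.mul_mem (H.mul_mem (H.inv_mem h.2) h2) h.2
      convert this using 1
      group
    rw [coeff_incl_not_mem H z hk, coeff_incl_not_mem H z h1]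

theorem incl_memLocalRing {M : Ideal AlgInt} [hP : M.IsPrime] {z : MonoidAlgebra ℂ H}
    (hz : ∀ k, MemLocalRing M (z.coeff k)) (g : G) : MemLocalRing M ((incl H z).coeff g) := by
  by_cases hg : g ∈ H
  · have := coeff_incl_mem H z ⟨g, hg⟩
    simp only at this
    rw [this]
    exact hz _
  · rw [coeff_incl_not_mem H z hg]
    exact memLocalRing_zero hP.ne_top

end Incl

section SMIdem

variable {G : Type*} [Group G] [Fintype G] (H : Subgroup G) [Fintype H]
  {p : ℕ} {M : Ideal AlgInt}

/-- The idempotent `e_{B'} f_b` of `ℂ[G]`. -/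
noncomputable def smIdem (B' : Set (IrrCharacter G)) (b : Set (IrrCharacter H)) :
    MonoidAlgebra ℂ G :=
  blockIdem B' * incl H (blockIdem b)

theorem smIdem_mul_self (B' : Set (IrrCharacter G)) (b : Set (IrrCharacter H)) :
    smIdem H B' b * smIdem H B' b = smIdem H B' b := by
  unfold smIdem
  have hc := Subalgebra.mem_center_iff.1 (blockIdem_mem_center B')
  calc blockIdem B' * incl H (blockIdem b) * (blockIdem B' * incl H (blockIdem b))
      = blockIdem B' * (incl H (blockIdem b) * blockIdem B') * incl H (blockIdem b) := by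
        simp only [mul_assoc]
    _ = blockIdem B' * (blockIdem B' * incl H (blockIdem b)) * incl H (blockIdem b) := by
        rw [hc]
    _ = (blockIdem B' * blockIdem B') * (incl H (blockIdem b) * incl H (blockIdem b)) := by
        simp only [mul_assoc]
    _ = blockIdem B' * incl H (blockIdem b) := by
        rw [blockIdem_mul_self, ← map_mul, blockIdem_mul_self]

theorem smIdem_memLocalRing (hM : IsPModular p M) (χ' : IrrCharacter G) (ξ : IrrCharacter H)
    (k : G) :
    MemLocalRing M ((smIdem H (blockOf M (χ' : G → ℂ)) (blockOf M (ξ : H → ℂ))).coeff k) := by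
  haveI hP := isPrime_of_isPModular hM
  unfold smIdem
  exact (Subring.mul_mem (intCoeff (G := G) M)
    (x := blockIdem (blockOf M (χ' : G → ℂ)))
    (y := incl H (blockIdem (blockOf M (ξ : H → ℂ))))
    (fun g => blockIdem_memLocalRing hM χ' g)
    (incl_memLocalRing H (fun g => blockIdem_memLocalRing hM ξ g))) k

theorem smIdem_invUnder (B' : Set (IrrCharacter G)) (b : Set (IrrCharacter H)) (h : H) :
    InvUnder (h : G) (smIdem H B' b) :=
  (invUnder_of_mem_center (blockIdem_mem_center B') _).mul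
    (invUnder_incl H (blockIdem_mem_center b) h)

/-- On `H`, the coefficients of `e_{B'} f_b` are those of `res(e_{B'}) f_b`. -/
theorem coeff_smIdem_mem (B' : Set (IrrCharacter G)) (b : Set (IrrCharacter H)) (u : H) :
    (smIdem H B' b).coeff (u : G) = (resAlg H (blockIdem B') * blockIdem b).coeff u := by
  unfold smIdem
  rw [coeff_mul_eq_sum', coeff_mul_eq_sum']
  rw [sum_eq_sum_subgroup H]
  · refine Finset.sum_congr rfl (fun k _ => ?_)
    rw [coeff_incl_mem, coeff_resAlg]
    congr 2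
  · intro g hg
    rw [coeff_incl_not_mem H _ hg, mul_zero]

/-- `res(e_{B'}) f_b` has all central character values in the local ideal when `b^G = B ≠ B'`. -/
theorem omega_res_mul_memLocalIdeal (hM : IsPModular p M) {b : Set (IrrCharacter H)}
    {B : Set (IrrCharacter G)} (hind : IsInducedBlock M H b B) (χ : IrrCharacter G)
    (hχ : χ ∉ B) (ψ : IrrCharacter H) :
    MemLocalIdeal M (omega (ψ : H → ℂ)
      (resAlg H (blockIdem (blockOf M (χ : G → ℂ))) * blockIdem b)) := by
  classical
  haveI hP := isPrime_of_isPModular hM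
  have hc := resAlg_mem_center H (blockIdem_mem_center (blockOf M (χ : G → ℂ)))
  rw [omega_mul ψ.2 hc, omega_blockIdem]
  split_ifs with hψ
  · rw [mul_one]
    obtain ⟨χ₀, hB⟩ := hind.2.1
    have hχ₀ : χ₀ ∈ B := by rw [hB]; exact mem_blockOf_self χ₀
    have h1 := omega_resAlg_sub_memLocalIdeal H hind hψ hχ₀
      (blockIdem_mem_center (blockOf M (χ : G → ℂ)))
      (fun g => blockIdem_memLocalRing hM χ g)
    rw [omega_blockIdem, if_neg, sub_zero] at h1
    · exact h1
    · intro h2
      apply hχ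
      rw [hB]
      exact sameBlock_symm (M := M) h2
  · rw [mul_zero]
    exact memLocalIdeal_zero hP.ne_top

end SMIdem

section SMTrace

variable {G : Type*} [Group G] [Fintype G] (H : Subgroup G) [Fintype H]
  {p : ℕ} {M : Ideal AlgInt}

/-- The twisted traces of `e_{B'} f_b` at `(g, h)` all vanish. -/
theorem smTrace_eq_zero (hM : IsPModular p M) {b : Set (IrrCharacter H)}
    {B : Set (IrrCharacter G)} (hind : IsInducedBlock M H b B) (χ : IrrCharacter G)
    (hχ : χ ∉ B) (h : H)
    (hC : ∀ z : G, IsPPart p (h : G) z → Subgroup.centralizer ({z} : Set G) ≤ H) (g : G) :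
    ∑ a : G, (smIdem H (blockOf M (χ : G → ℂ)) b).coeff (a⁻¹ * g * a * (h : G)⁻¹) = 0 := by
  classical
  haveI hP := isPrime_of_isPModular hM
  have hp := prime_of_isPModular hM
  have hp0 : (p : ℂ) ≠ 0 := Nat.cast_ne_zero.2 hp.ne_zero
  obtain ⟨ξ, hbξ⟩ := hind.1
  obtain ⟨x, hx⟩ := exists_isPPart hp (h : G) (isOfFinOrder_of_finite _)
  obtain ⟨zg, hzg⟩ := exists_isPPart hp g (isOfFinOrder_of_finite _)
  set ε := smIdem H (blockOf M (χ : G → ℂ)) b with hε
  have hεε : ε * ε = ε := smIdem_mul_self H _ _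
  have hεS : ∀ k, MemLocalRing M (ε.coeff k) := by
    intro k
    rw [hε, hbξ]
    exact smIdem_memLocalRing H hM χ ξ k
  have hεh : ∀ k, ε.coeff ((h : G) * k * (h : G)⁻¹) = ε.coeff k := smIdem_invUnder H _ _ h
  by_cases hconj : IsConj zg x
  · obtain ⟨t, ht⟩ := isConj_iff.1 hconj
    have hT : ∑ a : G, ε.coeff (a⁻¹ * g * a * (h : G)⁻¹) =
        ∑ a : G, ε.coeff (a⁻¹ * (t * g * t⁻¹) * a * (h : G)⁻¹) := by
      refine Fintype.sum_equiv (Equiv.mulLeft t) _ _ (fun a => ?_)
      simp only [Equiv.coe_mulLeft]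
      congr 1
      group
    rw [hT]
    have hx' : IsPPart p (t * g * t⁻¹) x := by
      have := IsPPart.conj hzg t
      rwa [ht] at this
    obtain ⟨c, e, hpc, hg, hh, hgc, hhc, hxe, _, _⟩ := IsPPart.pow_data hp hx' hx
    obtain ⟨m, hm⟩ := exists_pow_pow_eq_self hp hpc hxe
    -- the cyclic p-group Q and its centralizer
    set Q := Subgroup.zpowers (x ^ c) with hQdef
    have hQ : IsPGroup p Q := by
      rintro ⟨q, hq⟩
      obtain ⟨n, rfl⟩ := Subgroup.mem_zpowers_iff.1 hq
      refine ⟨e, ?_⟩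
      apply Subtype.ext
      show ((x ^ c) ^ n) ^ p ^ e = 1
      rw [← zpow_natCast, ← zpow_mul, mul_comm, zpow_mul, zpow_natCast, ← pow_mul, mul_comm,
        pow_mul, hxe, one_pow, one_zpow]
    set C' := Subgroup.centralizer (Q : Set G) with hC'
    have hmemC' : ∀ a : G, a ∈ C' ↔ x ^ c * a * (x ^ c)⁻¹ = a := by
      intro a
      constructor
      · intro ha
        have := (Subgroup.mem_centralizer_iff.1 ha) (x ^ c) (Subgroup.mem_zpowers _)
        rw [this]; group
      · intro ha
        rw [hC', Subgroup.mem_centralizer_iff]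
        intro q hq
        obtain ⟨n, rfl⟩ := Subgroup.mem_zpowers_iff.1 hq
        have h1 : Commute (x ^ c) a := by
          show x ^ c * a = a * x ^ c
          calc x ^ c * a = (x ^ c * a * (x ^ c)⁻¹) * x ^ c := by group
            _ = a * x ^ c := by rw [ha]
        exact (h1.zpow_left n).eq
    have hxH : x ∈ H := hC x hx (Subgroup.mem_centralizer_singleton_iff.2 rfl)
    have hC'H : C' ≤ H := by
      intro a ha
      apply hC x hx
      rw [Subgroup.mem_centralizer_singleton_iff]
      have h1 : Commute (x ^ c) a := by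
        have := (Subgroup.mem_centralizer_iff.1 ha) (x ^ c) (Subgroup.mem_zpowers _)
        exact this
      have h2 := h1.pow_left m
      rw [hm] at h2
      exact h2.eq.symm
    -- the nilpotent element
    set w₀ := resAlg H (blockIdem (blockOf M (χ : G → ℂ))) * blockIdem b with hw₀
    have hw₀c : w₀ ∈ Subalgebra.center ℂ (MonoidAlgebra ℂ H) :=
      Subalgebra.mul_mem _ (resAlg_mem_center H (blockIdem_mem_center _)) (blockIdem_mem_center b)
    have hw₀S : ∀ k, MemLocalRing M (w₀.coeff k) := by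
      intro k
      exact (Subring.mul_mem (intCoeff (G := H) M)
        (x := resAlg H (blockIdem (blockOf M (χ : G → ℂ)))) (y := blockIdem b)
        (resAlg_mem_intCoeff H (fun g => blockIdem_memLocalRing hM χ g))
        (by rw [hbξ]; exact fun g => blockIdem_memLocalRing hM ξ g)) k
    obtain ⟨N₁, hN₁pos, hN₁⟩ := exists_pow_coeff_div hM hw₀c
      (omega_res_mul_memLocalIdeal H hM hind χ hχ)
    set z := incl H w₀ with hz
    have hzS : ∀ k, MemLocalRing M (z.coeff k) := incl_memLocalRing H hw₀S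
    have hzQ : ∀ q ∈ Q, InvUnder q z := by
      intro q hq
      have hqH : q ∈ H := by
        obtain ⟨n, rfl⟩ := Subgroup.mem_zpowers_iff.1 hq
        exact H.zpow_mem (H.pow_mem hxH c) n
      exact invUnder_incl H hw₀c ⟨q, hqH⟩
    have hres : resSub C' ε = resSub C' z := by
      apply MonoidAlgebra.ext
      ext k
      rw [coeff_resSub, coeff_resSub]
      split_ifs with hk
      · have h1 := coeff_smIdem_mem H (blockOf M (χ : G → ℂ)) b ⟨k, hC'H hk⟩
        have h2 := coeff_incl_mem H w₀ ⟨k, hC'H hk⟩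
        simp only at h1 h2
        rw [hε, h1, hz, h2]
      · rfl
    have hzpow : ∀ u, MemLocalRing M ((z ^ N₁).coeff u / p) := by
      intro u
      rw [hz, ← map_pow]
      by_cases hu : u ∈ H
      · have := coeff_incl_mem H (w₀ ^ N₁) ⟨u, hu⟩
        simp only at this
        rw [this]
        exact hN₁ _
      · rw [coeff_incl_not_mem H _ hu, zero_div]
        exact memLocalRing_zero hP.ne_top
    have hdiv : ∀ u, MemLocalRing M (((resSub C' ε) ^ N₁).coeff u / p) := by
      intro u
      rw [hres]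
      by_cases hu : u ∈ C'
      · obtain ⟨s, hs, h1⟩ := brauer_pow hM Q hQ z hzS hzQ N₁ u hu
        have h2 : ((resSub C' z) ^ N₁).coeff u / p = (z ^ N₁).coeff u / p - s := by
          rw [h1]
          field_simp
          ring
        rw [h2]
        exact memLocalRing_sub (hzpow u) hs
      · rw [(suppIn_resSub C' z).pow N₁ u hu, zero_div]
        exact memLocalRing_zero hP.ne_top
    refine groupTrace_eq_zero hM ε hεε hεS (t * g * t⁻¹) (h : G) hεh c e hg hh N₁ ?_
    obtain ⟨N, rfl⟩ : ∃ N, N₁ = N + 1 := ⟨N₁ - 1, by omega⟩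
    have hmat : (Matrix.of fun a b : G =>
        if (t * g * t⁻¹) ^ c * a * ((h : G) ^ c)⁻¹ = a ∧
          (t * g * t⁻¹) ^ c * b * ((h : G) ^ c)⁻¹ = b then ε.coeff (a⁻¹ * b) else 0 :
          Matrix G G ℂ) =
        Matrix.of (fun a b : G => if a ∈ C' ∧ b ∈ C' then ε.coeff (a⁻¹ * b) else 0) := by
      ext a b
      simp only [Matrix.of_apply]
      rw [hgc, hhc]
      refine if_congr ?_ rfl rfl
      rw [hmemC' a, hmemC' b]
    rw [hmat, compress_pow]
    intro a b
    rw [pow_one, Matrix.of_apply]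
    split_ifs
    · exact hdiv _
    · rw [zero_div]
      exact memLocalRing_zero hP.ne_top
  · obtain ⟨c, e, _, hg, hh, _, _, _, _, hcj⟩ := IsPPart.pow_data hp hzg hx
    refine groupTrace_eq_zero_of_no_fixed hM ε hεε hεS g (h : G) hεh c e hg hh ?_
    intro a ha
    apply hconj
    apply hcj
    rw [isConj_iff]
    refine ⟨a⁻¹, ?_⟩
    have : g ^ c * a = a * (h : G) ^ c := by
      calc g ^ c * a = (g ^ c * a * ((h : G) ^ c)⁻¹) * (h : G) ^ c := by group
        _ = a * (h : G) ^ c := by rw [ha]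
    calc a⁻¹ * g ^ c * a⁻¹⁻¹ = a⁻¹ * (g ^ c * a) := by group
      _ = a⁻¹ * (a * (h : G) ^ c) := by rw [this]
      _ = (h : G) ^ c := by group

/-- The twisted trace of `e_{B'} f_b` in terms of characters. -/
theorem smTrace_eq_sum [Fintype (IrrCharacter G)] (B' : Set (IrrCharacter G))
    [DecidablePred (· ∈ B')] (b : Set (IrrCharacter H)) (g : G) (h : H) :
    ∑ a : G, (smIdem H B' b).coeff (a⁻¹ * g * a * (h : G)⁻¹) =
      ∑ χ' : IrrCharacter G, if χ' ∈ B' then (χ' : G → ℂ) g⁻¹ *
        ∑ k : H, blockCoeff b k * (χ' : G → ℂ) ((k : G) * (h : G)) else 0 := by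
  have h1 : ∀ u : G, (smIdem H B' b).coeff u =
      ∑ k : H, blockCoeff B' (u * (k : G)⁻¹) * blockCoeff b k := by
    intro u
    unfold smIdem
    rw [coeff_mul_eq_sum', sum_eq_sum_subgroup H]
    · refine Finset.sum_congr rfl (fun k _ => ?_)
      rw [coeff_incl_mem]
      rfl
    · intro g hg
      rw [coeff_incl_not_mem H _ hg, mul_zero]
  simp only [h1]
  rw [Finset.sum_comm]
  have h2 : ∀ k : H, ∑ a : G, blockCoeff B' (a⁻¹ * g * a * (h : G)⁻¹ * (k : G)⁻¹) *
      blockCoeff b k = blockCoeff b k * ∑ χ' : IrrCharacter G,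
        if χ' ∈ B' then (χ' : G → ℂ) g⁻¹ * (χ' : G → ℂ) ((k : G) * (h : G)) else 0 := by
    intro k
    rw [← sum_blockCoeff_twist, ← Finset.sum_mul, mul_comm]
    congr 1
    refine Finset.sum_congr rfl (fun a _ => ?_)
    congr 1
    group
  rw [Finset.sum_congr rfl (fun k _ => h2 k)]
  simp only [Finset.mul_sum]
  rw [Finset.sum_comm]
  refine Finset.sum_congr rfl (fun χ' _ => ?_)
  split_ifs
  · refine Finset.sum_congr rfl (fun k _ => ?_)
    ring
  · simp

/-- **Brauer's second main theorem** (Isaacs 15.47). -/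
theorem second_main (hM : IsPModular p M) {b : Set (IrrCharacter H)}
    {B : Set (IrrCharacter G)} (hind : IsInducedBlock M H b B) (h : H)
    (hC : ∀ z : G, IsPPart p (h : G) z → Subgroup.centralizer ({z} : Set G) ≤ H)
    (χ : IrrCharacter G) (hχ : χ ∉ B) :
    ∑ k : H, blockCoeff b k * (χ : G → ℂ) ((k : G) * (h : G)) = 0 := by
  classical
  haveI := Fintype.ofFinite (IrrCharacter G)
  haveI hP := isPrime_of_isPModular hM
  set Φ : IrrCharacter G → ℂ := fun χ' =>
    ∑ k : H, blockCoeff b k * (χ' : G → ℂ) ((k : G) * (h : G)) with hΦ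
  have h1 : ∀ g : G, ∑ χ' : IrrCharacter G,
      (if χ' ∈ blockOf M (χ : G → ℂ) then (χ' : G → ℂ) g⁻¹ * Φ χ' else 0) = 0 := by
    intro g
    rw [← smTrace_eq_sum H (blockOf M (χ : G → ℂ)) b g h]
    exact smTrace_eq_zero H hM hind χ hχ h hC g
  have h2 : ∑ g : G, (χ : G → ℂ) g * ∑ χ' : IrrCharacter G,
      (if χ' ∈ blockOf M (χ : G → ℂ) then (χ' : G → ℂ) g⁻¹ * Φ χ' else 0) = 0 := by
    refine Finset.sum_eq_zero (fun g _ => ?_)
    rw [h1 g, mul_zero]
  simp only [Finset.mul_sum] at h2
  rw [Finset.sum_comm] at h2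
  have h3 : ∀ χ' : IrrCharacter G, ∑ g : G, (χ : G → ℂ) g *
      (if χ' ∈ blockOf M (χ : G → ℂ) then (χ' : G → ℂ) g⁻¹ * Φ χ' else 0) =
      if χ' = χ then (Nat.card G : ℂ) * Φ χ else 0 := by
    intro χ'
    by_cases hχ' : χ' ∈ blockOf M (χ : G → ℂ)
    · simp only [if_pos hχ']
      have h4 : ∑ g : G, (χ : G → ℂ) g * ((χ' : G → ℂ) g⁻¹ * Φ χ') =
          (∑ g : G, (χ : G → ℂ) g * conj ((χ' : G → ℂ) g)) * Φ χ' := by
        rw [Finset.sum_mul]
        refine Finset.sum_congr rfl (fun g _ => ?_)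
        rw [Cfsg.Agent.Lib.H24.irr_inv]
        ring
      rw [h4, sum_mul_conj_irr]
      by_cases he : χ = χ'
      · subst he
        simp
      · rw [if_neg he, if_neg (fun h5 => he h5.symm), zero_mul]
    · simp only [if_neg hχ', mul_zero, Finset.sum_const_zero]
      rw [if_neg]
      rintro rfl
      exact hχ' (mem_blockOf_self _)
  rw [Finset.sum_congr rfl (fun χ' _ => h3 χ'), Finset.sum_ite_eq' Finset.univ χ,
    if_pos (Finset.mem_univ _)] at h2
  have hG : (Nat.card G : ℂ) ≠ 0 := by exact_mod_cast (Nat.card_pos (α := G)).ne'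
  exact (mul_eq_zero.1 h2).resolve_left hG

end SMTrace

end Cfsg.Agent.Lib.H23
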