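import Mathlib
import Cfsg.Prelude.Def_Blocks
import Cfsg.Agent.Lib.H23.BlockBrauer
import Cfsg.Agent.Lib.H23.BlockSecondMain
import Cfsg.Agent.Lib.H23.BlockHom
import Cfsg.Agent.Lib.H23.BlockNilChar

/-!
# The Brauer homomorphism and induced blocks (helper23)

`P` a `p`-subgroup of `G`, `C_G(P) ≤ H ≤ N_G(P)`.
* `brAlg P H z`: keep the coefficients of `z` at the elements of `H` centralizing `P`.
* `brauerCentralChar_eq_omega`.
* `brAlg_mul`: multiplicative modulo `p` on central local-integer elements.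
* `omega_resAlg_sub_brAlg`: if also `P ≤ H`, `ω_ξ(res z) ≡ ω_ξ(br z)`.
* `exists_induced_block`: `b^G` is defined.
-/

set_option autoImplicit false

namespace Cfsg.Agent.Lib.H23

open Cfsg MonoidAlgebra
open scoped ComplexConjugate

section BrAlg

variable {G : Type*} [Group G] [Fintype G] (P H : Subgroup G) [Fintype H]

/-- The Brauer map on coefficients. -/
noncomputable def brAlg (z : MonoidAlgebra ℂ G) : MonoidAlgebra ℂ H := by
  classical
  exact ofFun (fun h : H => if (h : G) ∈ Subgroup.centralizer (P : Set G) then z.coeff (h : G)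
    else 0)

theorem coeff_brAlg (z : MonoidAlgebra ℂ G) (h : H)
    [Decidable ((h : G) ∈ Subgroup.centralizer (P : Set G))] :
    (brAlg P H z).coeff h =
      if (h : G) ∈ Subgroup.centralizer (P : Set G) then z.coeff (h : G) else 0 := by
  unfold brAlg
  rw [coeff_ofFun]
  congr

/-- `brAlg` as a linear map. -/
noncomputable def brAlgLin : MonoidAlgebra ℂ G →ₗ[ℂ] MonoidAlgebra ℂ H where
  toFun := brAlg P H
  map_add' z w := by
    classical
    apply MonoidAlgebra.ext
    ext h
    rw [MonoidAlgebra.coeff_add, Finsupp.coe_add, Pi.add_apply, coeff_brAlg, coeff_brAlg,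
      coeff_brAlg]
    split_ifs <;> simp
  map_smul' c z := by
    classical
    apply MonoidAlgebra.ext
    ext h
    rw [RingHom.id_apply, MonoidAlgebra.coeff_smul, Finsupp.coe_smul, Pi.smul_apply, coeff_brAlg,
      coeff_brAlg]
    split_ifs <;> simp [MonoidAlgebra.coeff_smul]

@[simp] theorem brAlgLin_apply (z : MonoidAlgebra ℂ G) : brAlgLin P H z = brAlg P H z := rfl

theorem brAlg_one : brAlg P H (1 : MonoidAlgebra ℂ G) = 1 := by
  classical
  apply MonoidAlgebra.ext
  ext h
  rw [coeff_brAlg, MonoidAlgebra.one_def, MonoidAlgebra.one_def, MonoidAlgebra.coeff_single,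
    MonoidAlgebra.coeff_single, Finsupp.single_apply, Finsupp.single_apply]
  by_cases h1 : (1 : H) = h
  · subst h1
    simp [Subgroup.one_mem]
  · have h2 : ¬ (1 : G) = (h : G) := by
      intro h3
      apply h1
      exact Subtype.ext h3
    rw [if_neg h1, if_neg h2]
    simp

theorem brAlg_mem_intCoeff {M : Ideal AlgInt} [hP : M.IsPrime] {z : MonoidAlgebra ℂ G}
    (hz : z ∈ intCoeff (G := G) M) : brAlg P H z ∈ intCoeff (G := H) M := by
  classical
  intro h
  rw [coeff_brAlg]
  split_ifs
  · exact hz _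
  · exact memLocalRing_zero hP.ne_top

theorem brAlg_mem_center (hHN : H ≤ Subgroup.normalizer (P : Set G)) {z : MonoidAlgebra ℂ G}
    (hz : z ∈ Subalgebra.center ℂ (MonoidAlgebra ℂ G)) :
    brAlg P H z ∈ Subalgebra.center ℂ (MonoidAlgebra ℂ H) := by
  classical
  apply mem_center_of_classFunction
  intro g h
  rw [coeff_brAlg, coeff_brAlg]
  have h1 : ((h * g * h⁻¹ : H) : G) = (h : G) * (g : G) * (h : G)⁻¹ := by simp
  have hn : ∀ (k : G), k ∈ Subgroup.normalizer (P : Set G) → ∀ c : G,
      c ∈ Subgroup.centralizer (P : Set G) → k * c * k⁻¹ ∈ Subgroup.centralizer (P : Set G) := by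
    intro k hk c hc
    rw [Subgroup.mem_centralizer_iff]
    intro u hu
    have hu' : k⁻¹ * u * k ∈ P := by
      have := (Subgroup.mem_normalizer_iff'.1 hk (k⁻¹ * u)).2 (by
        have : k * (k⁻¹ * u) = u := by group
        rw [this]; exact hu)
      exact this
    have h2 := (Subgroup.mem_centralizer_iff.1 hc) _ hu'
    calc u * (k * c * k⁻¹) = k * ((k⁻¹ * u * k) * c) * k⁻¹ := by group
      _ = k * (c * (k⁻¹ * u * k)) * k⁻¹ := by rw [h2]
      _ = k * c * k⁻¹ * u := by group
  have hiff : ((h * g * h⁻¹ : H) : G) ∈ Subgroup.centralizer (P : Set G) ↔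
      (g : G) ∈ Subgroup.centralizer (P : Set G) := by
    rw [h1]
    constructor
    · intro h2
      have := hn (h : G)⁻¹ (Subgroup.inv_mem _ (hHN h.2)) _ h2
      convert this using 1
      group
    · intro h2
      exact hn (h : G) (hHN h.2) _ h2
  by_cases hg : (g : G) ∈ Subgroup.centralizer (P : Set G)
  · rw [if_pos hg, if_pos (hiff.2 hg), h1]
    exact coeff_conj_of_mem_center hz _ _
  · rw [if_neg hg, if_neg (fun h2 => hg (hiff.1 h2))]

/-- The Brauer central character as `ω_ξ` of a Brauer image. -/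
theorem brauerCentralChar_eq_omega (ξ : H → ℂ) (g : G) :
    brauerCentralChar P H ξ g = omega ξ (brAlg P H (classSum g)) := by
  classical
  unfold brauerCentralChar omega charEval
  rw [finsum_mem_eq_finite_toFinset_sum _ (Set.toFinite _), ← Finset.sum_div]
  congr 1
  simp only [coeff_brAlg, coeff_classSum]
  have : ∀ h : H, ((if (h : G) ∈ Subgroup.centralizer (P : Set G) then
      (if IsConj g (h : G) then (1 : ℂ) else 0) else 0) * ξ h) =
      if (IsConj g (h : G) ∧ (h : G) ∈ Subgroup.centralizer (P : Set G)) then ξ h else 0 := by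
    intro h
    split_ifs <;> simp_all
  simp only [this]
  rw [← Finset.sum_filter]
  refine Finset.sum_congr ?_ (fun _ _ => rfl)
  ext h
  simp

end BrAlg

section BrauerMul

variable {G : Type*} [Group G] [Fintype G] {p : ℕ} {M : Ideal AlgInt} (P H : Subgroup G)
  [Fintype H]

theorem coeff_brAlg_mul (hCH : Subgroup.centralizer (P : Set G) ≤ H) (z w : MonoidAlgebra ℂ G)
    (h : H) :
    (brAlg P H z * brAlg P H w).coeff h =
      (resSub (Subgroup.centralizer (P : Set G)) z *
        resSub (Subgroup.centralizer (P : Set G)) w).coeff (h : G) := by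
  classical
  rw [coeff_mul_eq_sum, coeff_mul_eq_sum, sum_eq_sum_subgroup H]
  · refine Finset.sum_congr rfl (fun k _ => ?_)
    rw [coeff_brAlg, coeff_brAlg, coeff_resSub, coeff_resSub]
    have : ((k⁻¹ * h : H) : G) = (k : G)⁻¹ * (h : G) := by simp
    rw [this]
  · intro g hg
    rw [coeff_resSub, if_neg (fun h2 => hg (hCH h2)), zero_mul]

theorem coeff_brAlg_mul_of_not_mem (z w : MonoidAlgebra ℂ G) (h : H)
    (hh : (h : G) ∉ Subgroup.centralizer (P : Set G)) :
    (brAlg P H z * brAlg P H w).coeff h = 0 := by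
  classical
  rw [coeff_mul_eq_sum]
  refine Finset.sum_eq_zero (fun k _ => ?_)
  rw [coeff_brAlg, coeff_brAlg]
  by_cases hk : (k : G) ∈ Subgroup.centralizer (P : Set G)
  · have hneg : ¬ ((k⁻¹ * h : H) : G) ∈ Subgroup.centralizer (P : Set G) := by
      intro h2
      apply hh
      have := Subgroup.mul_mem _ hk h2
      have h3 : (k : G) * ((k⁻¹ * h : H) : G) = (h : G) := by simp
      rwa [h3] at this
    rw [if_neg hneg, mul_zero]
  · rw [if_neg hk, zero_mul]

/-- The Brauer map is multiplicative modulo `p` on elements with local-integer coefficients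
invariant under `P`. -/
theorem brAlg_mul [hPr : M.IsPrime] (hM : IsPModular p M) (hP : IsPGroup p P)
    (hCH : Subgroup.centralizer (P : Set G) ≤ H) (z w : MonoidAlgebra ℂ G)
    (hz : z ∈ intCoeff (G := G) M) (hw : w ∈ intCoeff (G := G) M)
    (hzP : ∀ q ∈ P, InvUnder q z) (hwP : ∀ q ∈ P, InvUnder q w) :
    ∃ t : MonoidAlgebra ℂ H, t ∈ intCoeff (G := H) M ∧
      brAlg P H (z * w) = brAlg P H z * brAlg P H w + (p : ℂ) • t := by
  classical
  have hp0 : (p : ℂ) ≠ 0 := Nat.cast_ne_zero.2 (prime_of_isPModular hM).ne_zero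
  refine ⟨(p : ℂ)⁻¹ • (brAlg P H (z * w) - brAlg P H z * brAlg P H w), ?_, ?_⟩
  · intro h
    rw [MonoidAlgebra.coeff_smul, Finsupp.coe_smul, Pi.smul_apply, smul_eq_mul,
      MonoidAlgebra.coeff_sub, Finsupp.coe_sub, Pi.sub_apply]
    by_cases hh : (h : G) ∈ Subgroup.centralizer (P : Set G)
    · obtain ⟨s, hs, hs'⟩ := brauer_mul hM P hP z w hz hw hzP hwP (h : G) hh
      rw [coeff_brAlg, if_pos hh, coeff_brAlg_mul P H hCH, hs', add_sub_cancel_left,
        ← mul_assoc, inv_mul_cancel₀ hp0, one_mul]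
      exact hs
    · rw [coeff_brAlg, if_neg hh, coeff_brAlg_mul_of_not_mem P H z w h hh, sub_zero, mul_zero]
      exact memLocalRing_zero hPr.ne_top
  · rw [smul_smul, mul_inv_cancel₀ hp0, one_smul]
    abel

end BrauerMul

section BrauerOmega

variable {G : Type*} [Group G] [Fintype G] {p : ℕ} {M : Ideal AlgInt} (P H : Subgroup G)
  [Fintype H]

/-- For `P ≤ H ≤ N_G(P)`, the restriction and the Brauer image of a central element have
congruent values under every central character of `H`. -/
theorem omega_resAlg_sub_brAlg [hPr : M.IsPrime] (hM : IsPModular p M) (hP : IsPGroup p P)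
    (hPH : P ≤ H)
    (hHN : H ≤ Subgroup.normalizer (P : Set G)) (ξ : IrrCharacter H) {z : MonoidAlgebra ℂ G}
    (hz : z ∈ Subalgebra.center ℂ (MonoidAlgebra ℂ G)) (hz' : z ∈ intCoeff (G := G) M) :
    MemLocalIdeal M (omega (ξ : H → ℂ) (resAlg H z) - omega (ξ : H → ℂ) (brAlg P H z)) := by
  classical
  haveI := Fintype.ofFinite (ConjClasses H)
  have hc1 := resAlg_mem_center H hz
  have hc2 := brAlg_mem_center P H hHN hz
  rw [← omega_sub, omega_eq_sum_centralChar (Cfsg.Agent.Lib.H24.irr_isClassFunction ξ)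
    (Subalgebra.sub_mem _ hc1 hc2)]
  refine memLocalIdeal_sum _ _ (fun c _ => ?_)
  rw [MonoidAlgebra.coeff_sub, Finsupp.coe_sub, Pi.sub_apply, coeff_resAlg, coeff_brAlg]
  by_cases hh : ((classRep c : H) : G) ∈ Subgroup.centralizer (P : Set G)
  · rw [if_pos hh, sub_self, zero_mul]
    exact memLocalIdeal_zero hPr.ne_top
  · rw [if_neg hh, sub_zero]
    refine memLocalIdeal_mul_left (hz' _) ?_
    haveI : (P.subgroupOf H).Normal := Subgroup.normal_subgroupOf_of_le_normalizer hHN
    refine centralChar_memLocalIdeal_of_normal hM (P.subgroupOf H)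
      (hP.comap_of_injective _ (Subgroup.subtype_injective _)) _ ?_ ξ
    intro x hx hxc
    apply hh
    -- x centralizes P.subgroupOf H, hence (x : G) centralizes P
    have hxG : (x : G) ∈ Subgroup.centralizer (P : Set G) := by
      rw [Subgroup.mem_centralizer_iff]
      intro u hu
      have h1 := (Subgroup.mem_centralizer_iff.1 hxc) ⟨u, hPH hu⟩
        (by rw [SetLike.mem_coe, Subgroup.mem_subgroupOf]; exact hu)
      exact congrArg Subtype.val h1
    obtain ⟨t, ht⟩ := isConj_iff.1 hx
    -- classRep c = t⁻¹ x t, and H normalizes P so centralizer of P is H-invariant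
    have h2 : ((classRep c : H) : G) = (t : G)⁻¹ * (x : G) * (t : G) := by
      have : classRep c = t⁻¹ * x * t := by rw [← ht]; group
      rw [this]; simp
    rw [h2, Subgroup.mem_centralizer_iff]
    intro u hu
    have htn : (t : G) ∈ Subgroup.normalizer (P : Set G) := hHN t.2
    have hu' : (t : G) * u * (t : G)⁻¹ ∈ P := (Subgroup.mem_normalizer_iff.1 htn u).1 hu
    have h3 := (Subgroup.mem_centralizer_iff.1 hxG) _ hu'
    calc u * ((t : G)⁻¹ * (x : G) * (t : G))
        = (t : G)⁻¹ * (((t : G) * u * (t : G)⁻¹) * (x : G)) * (t : G) := by group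
      _ = (t : G)⁻¹ * ((x : G) * ((t : G) * u * (t : G)⁻¹)) * (t : G) := by rw [h3]
      _ = (t : G)⁻¹ * (x : G) * (t : G) * u := by group

/-- `b^G`-central character versus Brauer central character. -/
theorem inducedCentralChar_sub_brauerCentralChar [hPr : M.IsPrime] (hM : IsPModular p M)
    (hP : IsPGroup p P) (hPH : P ≤ H) (hHN : H ≤ Subgroup.normalizer (P : Set G))
    (ξ : IrrCharacter H) (g : G) :
    MemLocalIdeal M (inducedCentralChar H (ξ : H → ℂ) g -
      brauerCentralChar P H (ξ : H → ℂ) g) := by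
  rw [inducedCentralChar_eq_omega, brauerCentralChar_eq_omega]
  exact omega_resAlg_sub_brAlg P H hM hP hPH hHN ξ (classSum_mem_center g)
    (classSum_mem_intCoeff g)

/-- The functional `z ↦ ω_ξ(Br_P z)`. -/
noncomputable def brFun (ξ : H → ℂ) : MonoidAlgebra ℂ G →ₗ[ℂ] ℂ where
  toFun z := omega ξ (brAlg P H z)
  map_add' z w := by
    rw [← brAlgLin_apply, map_add, omega_add]; rfl
  map_smul' c z := by
    rw [← brAlgLin_apply, map_smul, omega_smul]; rfl

@[simp] theorem brFun_apply (ξ : H → ℂ) (z : MonoidAlgebra ℂ G) :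
    brFun P H ξ z = omega ξ (brAlg P H z) := rfl

/-- Brauer's first-main-theorem homomorphism: the central character `ω_ξ ∘ Br_P` of `Z(ℂG)` is,
modulo the local ideal, the central character of a block of `G`. -/
theorem exists_brauer_block [hPr : M.IsPrime] (hM : IsPModular p M) (hP : IsPGroup p P)
    (hCH : Subgroup.centralizer (P : Set G) ≤ H) (hHN : H ≤ Subgroup.normalizer (P : Set G))
    (ξ : IrrCharacter H) :
    ∃ χ₀ : IrrCharacter G, ∀ z ∈ Subalgebra.center ℂ (MonoidAlgebra ℂ G),
      z ∈ intCoeff (G := G) M →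
      MemLocalIdeal M (omega (ξ : H → ℂ) (brAlg P H z) - omega (χ₀ : G → ℂ) z) := by
  classical
  have hp0 : (p : ℂ) ≠ 0 := Nat.cast_ne_zero.2 (prime_of_isPModular hM).ne_zero
  refine exists_block_of_hom hM (brFun P H (ξ : H → ℂ)) ?_ ?_ ?_
  · intro z hz hz'
    rw [brFun_apply]
    exact omega_memLocalRing ξ (brAlg_mem_center P H hHN hz) (brAlg_mem_intCoeff P H hz')
  · intro z hz hz' w hw hw'
    rw [brFun_apply, brFun_apply, brFun_apply]
    obtain ⟨t, ht, hte⟩ := brAlg_mul P H hM hP hCH z w hz' hw'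
      (fun q _ => invUnder_of_mem_center hz q) (fun q _ => invUnder_of_mem_center hw q)
    have hzc := brAlg_mem_center P H hHN hz
    have hwc := brAlg_mem_center P H hHN hw
    have hzwc := brAlg_mem_center P H hHN (Subalgebra.mul_mem _ hz hw)
    have htc : t ∈ Subalgebra.center ℂ (MonoidAlgebra ℂ H) := by
      have h1 : t = (p : ℂ)⁻¹ • (brAlg P H (z * w) - brAlg P H z * brAlg P H w) := by
        rw [hte, add_sub_cancel_left, smul_smul, inv_mul_cancel₀ hp0, one_smul]
      rw [h1]
      exact Subalgebra.smul_mem _ (Subalgebra.sub_mem _ hzwc (Subalgebra.mul_mem _ hzc hwc)) _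
    rw [hte, omega_add, omega_mul ξ.2 hzc, omega_smul, add_sub_cancel_left]
    exact memLocalIdeal_mul_right (memLocalIdeal_p hM) (omega_memLocalRing ξ htc ht)
  · rw [brFun_apply, brAlg_one, omega_one (irr_one_ne_zero' ξ.2), sub_self]
    exact memLocalIdeal_zero hPr.ne_top

/-- For `P C_G(P) ≤ H ≤ N_G(P)`, every block of `H` induces a block of `G`. -/
theorem exists_isInducedBlock [hPr : M.IsPrime] (hM : IsPModular p M) (hP : IsPGroup p P)
    (hPH : P ≤ H) (hCH : Subgroup.centralizer (P : Set G) ≤ H)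
    (hHN : H ≤ Subgroup.normalizer (P : Set G)) (ξ₀ : IrrCharacter H) :
    ∃ χ₀ : IrrCharacter G,
      IsInducedBlock M H (blockOf M (ξ₀ : H → ℂ)) (blockOf M (χ₀ : G → ℂ)) := by
  obtain ⟨χ₀, hχ₀⟩ := exists_brauer_block P H hM hP hCH hHN ξ₀
  refine ⟨χ₀, ⟨ξ₀, rfl⟩, ⟨χ₀, rfl⟩, ?_⟩
  intro ξ hξ χ hχ g
  have h1 := inducedCentralChar_sub_brauerCentralChar P H hM hP hPH hHN ξ g
  have h2 : MemLocalIdeal M (brauerCentralChar P H (ξ : H → ℂ) g -
      brauerCentralChar P H (ξ₀ : H → ℂ) g) := by
    rw [brauerCentralChar_eq_omega, brauerCentralChar_eq_omega]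
    exact omega_sub_memLocalIdeal (sameBlock_symm hξ)
      (brAlg_mem_center P H hHN (classSum_mem_center g))
      (brAlg_mem_intCoeff P H (classSum_mem_intCoeff g))
  have h3 : MemLocalIdeal M (brauerCentralChar P H (ξ₀ : H → ℂ) g -
      centralChar (χ₀ : G → ℂ) g) := by
    rw [brauerCentralChar_eq_omega,
      ← omega_classSum (Cfsg.Agent.Lib.H24.irr_isClassFunction χ₀)]
    exact hχ₀ _ (classSum_mem_center g) (classSum_mem_intCoeff g)
  have h4 : MemLocalIdeal M (centralChar (χ₀ : G → ℂ) g - centralChar (χ : G → ℂ) g) := hχ g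
  have := memLocalIdeal_add (memLocalIdeal_add (memLocalIdeal_add h1 h2) h3) h4
  convert this using 1
  ring

end BrauerOmega

end Cfsg.Agent.Lib.H23
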