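import Mathlib
import Cfsg.Prelude.Def_Blocks
import Cfsg.Agent.Lib.H23.BlockDefectGroups
import Cfsg.Agent.Lib.H23.BlockBrauerHom
import Cfsg.Agent.Lib.H23.BlockSecondMain
import Cfsg.Agent.Lib.H23.BlockNilChar
import Cfsg.Agent.Lib.H23.PPart2

/-!
# Vanishing of characters off the defect groups (helper23)

* `normal_le_defectGroup`: a normal `p`-subgroup lies in every defect group.
* `exists_isDefectGroup`: defect groups exist.
* `irr_eq_zero_of_forall_not_induced`: if no block of `C_G(x)` induces the block of `χ`, then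
  `χ(xy) = 0` for `p`-regular `y ∈ C_G(x)`.
* `irr_eq_zero_of_ppart_not_mem`: if the `p`-part of `g` lies in no defect group of the block of
  `χ`, then `χ g = 0`.
-/

set_option autoImplicit false

namespace Cfsg.Agent.Lib.H23

open Cfsg MonoidAlgebra
open scoped ComplexConjugate

section Basic

variable {G : Type*} [Group G] [Fintype G] {p : ℕ} {M : Ideal AlgInt}

/-- A normal `p`-subgroup lies in every defect group. -/
theorem normal_le_defectGroup [Fact p.Prime] (hM : IsPModular p M) (χ₀ : IrrCharacter G)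
    (N : Subgroup G) [hn : N.Normal] (hpg : IsPGroup p N) (D : Subgroup G)
    (hD : IsDefectGroup p M (blockOf M (χ₀ : G → ℂ)) D) : N ≤ D := by
  classical
  haveI hP := isPrime_of_isPModular hM
  have hχ₀ : χ₀ ∈ blockOf M (χ₀ : G → ℂ) := mem_blockOf_self χ₀
  obtain ⟨g, hg, S, rfl⟩ := hD
  have hex : ∃ x : G, IsConj g x ∧ x ∈ Subgroup.centralizer (N : Set G) := by
    by_contra hcon
    have hcon' : ∀ x : G, IsConj g x → x ∉ Subgroup.centralizer (N : Set G) :=
      fun x hx hxc => hcon ⟨x, hx, hxc⟩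
    exact hg.2.2 χ₀ hχ₀ (centralChar_memLocalIdeal_of_normal hM N hpg g hcon' χ₀)
  obtain ⟨x, hx, hxc⟩ := hex
  obtain ⟨c, rfl⟩ := isConj_iff.1 hx
  have hle : N ≤ Subgroup.centralizer ({g} : Set G) := by
    intro u hu
    rw [Subgroup.mem_centralizer_singleton_iff]
    have hu' : c * u * c⁻¹ ∈ N := hn.conj_mem u hu c
    have h1 := (Subgroup.mem_centralizer_iff.1 hxc) (c * u * c⁻¹) hu'
    have h2 : c * (u * g) * c⁻¹ = c * (g * u) * c⁻¹ := by
      calc c * (u * g) * c⁻¹ = (c * u * c⁻¹) * (c * g * c⁻¹) := by group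
        _ = (c * g * c⁻¹) * (c * u * c⁻¹) := h1
        _ = c * (g * u) * c⁻¹ := by group
    exact mul_left_cancel (mul_right_cancel h2)
  haveI : (N.subgroupOf (Subgroup.centralizer ({g} : Set G))).Normal := hn.subgroupOf _
  have hsub : IsPGroup p (N.subgroupOf (Subgroup.centralizer ({g} : Set G))) :=
    hpg.comap_subtype
  have hS := hsub.le_sylow_of_normal S
  intro u hu
  rw [Subgroup.mem_map]
  exact ⟨⟨u, hle hu⟩, hS (Subgroup.mem_subgroupOf.2 hu), rfl⟩

theorem exists_isDefectGroup [Fact p.Prime] (hM : IsPModular p M) (χ₀ : IrrCharacter G) :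
    ∃ D : Subgroup G, IsDefectGroup p M (blockOf M (χ₀ : G → ℂ)) D := by
  obtain ⟨k, hk⟩ := exists_isDefectClass hM χ₀
  obtain ⟨R⟩ : Nonempty (Sylow p (Subgroup.centralizer ({k} : Set G))) := inferInstance
  exact ⟨_, k, hk, R, rfl⟩

end Basic

section Vanish

variable {G : Type*} [Group G] [Fintype G] {p : ℕ} {M : Ideal AlgInt}

theorem zpowers_isPGroup {x : G} (hx : ∃ k : ℕ, orderOf x = p ^ k) :
    IsPGroup p (Subgroup.zpowers x) := by
  obtain ⟨k, hk⟩ := hx
  intro g
  refine ⟨k, ?_⟩
  obtain ⟨n, hn⟩ := Subgroup.mem_zpowers_iff.1 g.2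
  apply Subtype.ext
  rw [Subgroup.coe_pow, Subgroup.coe_one, ← hn, ← zpow_natCast, ← zpow_mul, mul_comm, zpow_mul,
    zpow_natCast, ← hk, pow_orderOf_eq_one, one_zpow]

theorem centralizer_zpowers_eq (x : G) :
    Subgroup.centralizer ((Subgroup.zpowers x : Subgroup G) : Set G) =
      Subgroup.centralizer ({x} : Set G) := by
  rw [Subgroup.zpowers_eq_closure, Subgroup.centralizer_closure]

theorem zpowers_le_centralizer_self (x : G) :
    Subgroup.zpowers x ≤ Subgroup.centralizer ({x} : Set G) := by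
  rw [Subgroup.zpowers_le, Subgroup.mem_centralizer_iff]
  intro u hu
  rw [Set.mem_singleton_iff.1 hu]

theorem centralizer_le_normalizer_zpowers (x : G) :
    Subgroup.centralizer ({x} : Set G) ≤
      Subgroup.normalizer ((Subgroup.zpowers x : Subgroup G) : Set G) := by
  rw [← centralizer_zpowers_eq]
  exact Subgroup.centralizer_le_normalizer _

/-- Every block of `C_G(x)`, `x` a `p`-element, induces a block of `G`. -/
theorem exists_isInducedBlock_centralizer [hPr : M.IsPrime] (hM : IsPModular p M) {x : G}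
    (hx : ∃ k : ℕ, orderOf x = p ^ k) [Fintype (Subgroup.centralizer ({x} : Set G))]
    (ξ₀ : IrrCharacter (Subgroup.centralizer ({x} : Set G))) :
    ∃ χ₁ : IrrCharacter G, IsInducedBlock M (Subgroup.centralizer ({x} : Set G))
      (blockOf M (ξ₀ : Subgroup.centralizer ({x} : Set G) → ℂ)) (blockOf M (χ₁ : G → ℂ)) :=
  exists_isInducedBlock (Subgroup.zpowers x) (Subgroup.centralizer ({x} : Set G)) hM
    (zpowers_isPGroup hx) (zpowers_le_centralizer_self x) (le_of_eq (centralizer_zpowers_eq x))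
    (centralizer_le_normalizer_zpowers x) ξ₀

/-- If no block of `C_G(x)` induces the block of `χ`, then `χ(xy) = 0` for `p`-regular
`y ∈ C_G(x)`. -/
theorem irr_eq_zero_of_forall_not_induced (hM : IsPModular p M) {x : G}
    (hx : ∃ k : ℕ, orderOf x = p ^ k) [Fintype (Subgroup.centralizer ({x} : Set G))]
    (χ : IrrCharacter G)
    (hno : ∀ (ξ₀ : IrrCharacter (Subgroup.centralizer ({x} : Set G))) (χ₁ : IrrCharacter G),
      IsInducedBlock M (Subgroup.centralizer ({x} : Set G))
        (blockOf M (ξ₀ : Subgroup.centralizer ({x} : Set G) → ℂ)) (blockOf M (χ₁ : G → ℂ)) →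
      χ ∉ blockOf M (χ₁ : G → ℂ))
    (y : Subgroup.centralizer ({x} : Set G)) (hy : ¬ p ∣ orderOf y) :
    (χ : G → ℂ) (x * (y : G)) = 0 := by
  classical
  haveI hPr := isPrime_of_isPModular hM
  have hp := prime_of_isPModular hM
  haveI := Fintype.ofFinite (IrrCharacter (Subgroup.centralizer ({x} : Set G)))
  have hxC : x ∈ Subgroup.centralizer ({x} : Set G) :=
    zpowers_le_centralizer_self x (Subgroup.mem_zpowers x)
  have hyord : ¬ p ∣ orderOf (y : G) := by rwa [Subgroup.orderOf_coe]
  have hcomm : Commute x (y : G) :=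
    (Subgroup.mem_centralizer_iff.1 y.2 x (Set.mem_singleton x))
  have key : ∀ ξ₀ : IrrCharacter (Subgroup.centralizer ({x} : Set G)),
      ∑ k : Subgroup.centralizer ({x} : Set G),
        blockCoeff (blockOf M (ξ₀ : Subgroup.centralizer ({x} : Set G) → ℂ)) k *
          (χ : G → ℂ) ((k : G) * (x * (y : G))) = 0 := by
    intro ξ₀
    obtain ⟨χ₁, hind⟩ := exists_isInducedBlock_centralizer hM hx ξ₀
    exact second_main (Subgroup.centralizer ({x} : Set G)) hM hind (⟨x, hxC⟩ * y) (by
      intro z hz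
      have h1 : IsPPart p (x * (y : G)) x := isPPart_mul hcomm hx hyord
      have h2 : z = x := IsPPart.unique hp hz h1
      rw [h2]) χ (hno ξ₀ χ₁ hind)
  have h1 := sum_blockIdem_eq_one (G := Subgroup.centralizer ({x} : Set G)) (M := M)
  have h2 : (χ : G → ℂ) (x * (y : G)) =
      ∑ k : Subgroup.centralizer ({x} : Set G),
        (1 : MonoidAlgebra ℂ (Subgroup.centralizer ({x} : Set G))).coeff k *
          (χ : G → ℂ) ((k : G) * (x * (y : G))) := by
    rw [MonoidAlgebra.one_def]
    simp only [MonoidAlgebra.coeff_single, Finsupp.single_apply, ite_mul, one_mul, zero_mul]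
    rw [Finset.sum_ite_eq]
    simp
  rw [h2, ← h1]
  simp only [MonoidAlgebra.coeff_sum, Finsupp.finsetSum_apply, Finset.sum_mul]
  rw [Finset.sum_comm]
  refine Finset.sum_eq_zero (fun B hB => ?_)
  obtain ⟨ξ₀, _, rfl⟩ := Finset.mem_image.1 hB
  simp only [coeff_blockIdem]
  exact key ξ₀

/-- If the `p`-part of `g` lies in no defect group of the block of `χ`, then `χ g = 0`. -/
theorem irr_eq_zero_of_ppart_not_mem [Fact p.Prime] (hM : IsPModular p M) (χ : IrrCharacter G)
    {g x : G} (hx : IsPPart p g x)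
    (hD : ∀ D : Subgroup G, IsDefectGroup p M (blockOf M (χ : G → ℂ)) D → x ∉ D) :
    (χ : G → ℂ) g = 0 := by
  classical
  haveI hPr := isPrime_of_isPModular hM
  letI : Fintype (Subgroup.centralizer ({x} : Set G)) :=
    Fintype.ofFinite (Subgroup.centralizer ({x} : Set G))
  obtain ⟨y, hxy, hcomm, hxord, hyord⟩ := hx
  have hyC : y ∈ Subgroup.centralizer ({x} : Set G) := by
    rw [Subgroup.mem_centralizer_singleton_iff]
    exact hcomm.eq.symm
  have hxC : x ∈ Subgroup.centralizer ({x} : Set G) :=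
    zpowers_le_centralizer_self x (Subgroup.mem_zpowers x)
  rw [← hxy]
  refine irr_eq_zero_of_forall_not_induced hM hxord χ ?_ ⟨y, hyC⟩ (by
    rwa [← Subgroup.orderOf_coe] )
  intro ξ₀ χ₁ hind hχ
  -- a defect group of the block of ξ₀ contains x and lies in a defect group of the block of χ
  obtain ⟨D, hDb⟩ := exists_isDefectGroup (p := p) hM ξ₀
  obtain ⟨E, hE, hDE⟩ := defectGroup_le_of_induced _ hM hind D hDb
  haveI hn : ((Subgroup.zpowers x).subgroupOf (Subgroup.centralizer ({x} : Set G))).Normal :=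
    Subgroup.normal_subgroupOf_of_le_normalizer (centralizer_le_normalizer_zpowers x)
  have hpg : IsPGroup p ((Subgroup.zpowers x).subgroupOf (Subgroup.centralizer ({x} : Set G))) :=
    (zpowers_isPGroup hxord).comap_subtype
  have hle := normal_le_defectGroup hM ξ₀ _ hpg D hDb
  have hxD : (⟨x, hxC⟩ : Subgroup.centralizer ({x} : Set G)) ∈ D :=
    hle (Subgroup.mem_subgroupOf.2 (Subgroup.mem_zpowers x))
  have hxE : x ∈ E := hDE ⟨⟨x, hxC⟩, hxD, rfl⟩
  have e2 : blockOf M (χ : G → ℂ) = blockOf M (χ₁ : G → ℂ) := blockOf_eq_of_mem hχ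
  rw [← e2] at hE
  exact hD E hE hxE

end Vanish

end Cfsg.Agent.Lib.H23
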