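import Mathlib
import Cfsg.Prelude.Def_Blocks
import Cfsg.Agent.Lib.H23.BlockMinMax
import Cfsg.Agent.Lib.H23.BlockDefect
import Cfsg.Agent.Lib.H23.BlockDefectGroups
import Cfsg.Agent.Lib.H23.BlockVanishP
import Cfsg.Agent.Lib.H23.BlockHom
import Cfsg.Agent.Lib.L0.BlockHeight

/-!
# Conjugacy of defect groups; nonvanishing of height zero characters (helper23)

* `isDefectGroup_conj`: any two defect groups of a block are conjugate.
* `conj_mem_defectGroup_iff`: for `χ` of height zero in `B` and a `p`-element `x`: `x` is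
  conjugate into a defect group `D` iff `χ` does not vanish on the `p`-section of `x`.
-/

set_option autoImplicit false

namespace Cfsg.Agent.Lib.H23

open Cfsg MonoidAlgebra Cfsg.Agent.Lib.L0.BlockHeight
open scoped ComplexConjugate

section DefectConj

variable {G : Type*} [Group G] [Fintype G] {p : ℕ} {M : Ideal AlgInt}

/-- Any two defect groups of a block are conjugate. -/
theorem isDefectGroup_conj [Fact p.Prime] (hM : IsPModular p M) (χ₀ : IrrCharacter G)
    {D D' : Subgroup G} (hD : IsDefectGroup p M (blockOf M (χ₀ : G → ℂ)) D)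
    (hD' : IsDefectGroup p M (blockOf M (χ₀ : G → ℂ)) D') :
    ∃ c : G, D' = D.map (MulAut.conj c).toMonoidHom := by
  haveI hP := isPrime_of_isPModular hM
  have hcD := card_defectGroup hM χ₀ D hD
  have hcD' := card_defectGroup hM χ₀ D' hD'
  obtain ⟨g, hg, P, rfl⟩ := hD
  obtain ⟨g', hg', P', rfl⟩ := hD'
  obtain ⟨x, hx, hQx⟩ := exists_conj_centralized hM χ₀ g' g hg'.2.1 χ₀ (mem_blockOf_self χ₀)
    (hg.2.2 χ₀ (mem_blockOf_self χ₀))
    ((P' : Subgroup (Subgroup.centralizer ({g'} : Set G))).map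
      (Subgroup.centralizer ({g'} : Set G)).subtype) (P'.2.map _)
    (by
      rintro _ ⟨q, _, rfl⟩
      exact q.2)
  obtain ⟨c, R, hR⟩ := exists_sylow_centralizer_conj _ (P'.2.map _) hx hQx
  obtain ⟨d, hd⟩ := sylow_map_conj (Subgroup.centralizer ({g} : Set G)) P R
  refine ⟨c * d, ?_⟩
  rw [← map_conj_map_conj, ← hd]
  apply Subgroup.eq_of_le_of_card_ge hR
  rw [Subgroup.card_map_of_injective (MulAut.conj c).injective, hd,
    Subgroup.card_map_of_injective (MulAut.conj d).injective, hcD, hcD']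

/-- For a height zero character `χ` of a block `B` with defect group `D` and a `p`-element `x`:
`x` is conjugate into `D` iff `χ` does not vanish identically on the `p`-section of `x`. -/
theorem conj_mem_defectGroup_iff [Fact p.Prime] (hM : IsPModular p M)
    (B : Set (IrrCharacter G)) (hB : IsPBlock M B) (D : Subgroup G)
    (hD : IsDefectGroup p M B D) (χ : IrrCharacter G) (hχ : χ ∈ B)
    (h0 : blockHeight p B (χ : G → ℂ) = 0) (x : G) (hx : ∃ k : ℕ, orderOf x = p ^ k) :
    (∃ g : G, g * x * g⁻¹ ∈ D) ↔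
      ∃ u : G, (∃ z : G, IsPPart p u z ∧ IsConj x z) ∧ (χ : G → ℂ) u ≠ 0 := by
  classical
  haveI hP := isPrime_of_isPModular hM
  obtain ⟨χ₀, rfl⟩ := hB
  constructor
  · rintro ⟨g, hgD⟩
    obtain ⟨y, hy, P, rfl⟩ := hD
    have hx'y : Commute (g * x * g⁻¹) y := by
      obtain ⟨q, _, hq⟩ := hgD
      have h1 : (q : G) ∈ Subgroup.centralizer ({y} : Set G) := q.2
      rw [Subgroup.mem_centralizer_singleton_iff] at h1
      have h2 : (q : G) = g * x * g⁻¹ := hq
      rw [← h2]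
      exact h1
    have hx'ord : ∃ k : ℕ, orderOf (g * x * g⁻¹) = p ^ k := by
      have h1 : orderOf (g * x * g⁻¹) = orderOf x := (MulAut.conj g).orderOf_eq x
      rw [h1]; exact hx
    refine ⟨g * x * g⁻¹ * y, ⟨g * x * g⁻¹, ⟨y, rfl, hx'y, hx'ord,
      not_dvd_orderOf_of_isDefectClass hM χ₀ y hy⟩, isConj_iff.2 ⟨g, rfl⟩⟩, ?_⟩
    intro h1
    apply height_zero_apply_mul_not_mem hM χ₀ y hy χ hχ h0 hx'y hx'ord
    rw [h1]
    exact memLocalIdeal_zero hP.ne_top
  · rintro ⟨u, ⟨z, hz, hxz⟩, hχu⟩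
    by_contra hcon
    apply hχu
    apply irr_eq_zero_of_ppart_not_mem hM χ hz
    intro D' hD' hzD'
    rw [blockOf_eq_of_mem hχ] at hD'
    obtain ⟨c, rfl⟩ := isDefectGroup_conj hM χ₀ hD hD'
    obtain ⟨d, hd, hdz⟩ := hzD'
    obtain ⟨a, ha⟩ := isConj_iff.1 hxz
    apply hcon
    refine ⟨c⁻¹ * a, ?_⟩
    have h2 : c * d * c⁻¹ = z := hdz
    have h3 : c⁻¹ * a * x * (c⁻¹ * a)⁻¹ = d := by
      have : c⁻¹ * a * x * (c⁻¹ * a)⁻¹ = c⁻¹ * (a * x * a⁻¹) * c := by group
      rw [this, ha, ← h2]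
      group
    rw [h3]
    exact hd

end DefectConj

end Cfsg.Agent.Lib.H23
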