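import Cfsg.Agent.Lib.H23.CenterIndex
import Cfsg.Agent.Lib.H24.CharBasic

/-!
# Values of irreducible characters on products with central elements (helper23)

* `char_mul_of_eq_smul`: if `ρ z = c • 1` then `χ (g * z) = c * χ g`;
* `char_mul_center`: for `ρ` irreducible and `z` central, `χ (g * z) * χ 1 = χ z * χ g`;
* `irr_mul_center`: the same for `χ : IrrCharacter G`.
-/

set_option autoImplicit false

namespace Cfsg.Agent.Lib.H23

open Representation Module

section

variable {G : Type*} [Group G] {V : Type*} [AddCommGroup V] [Module ℂ V] [FiniteDimensional ℂ V]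

omit [FiniteDimensional ℂ V] in
theorem char_mul_of_eq_smul (ρ : Representation ℂ G V) (g z : G) {c : ℂ} (hc : ρ z = c • 1) :
    ρ.character (g * z) = c * ρ.character g := by
  unfold Representation.character
  rw [map_mul, hc, mul_smul_comm, mul_one, map_smul, smul_eq_mul]

omit [FiniteDimensional ℂ V] in
theorem char_of_eq_smul (ρ : Representation ℂ G V) (z : G) {c : ℂ} (hc : ρ z = c • 1) :
    ρ.character z = c * ρ.character 1 := by
  have := char_mul_of_eq_smul ρ 1 z hc
  rwa [one_mul] at this

/-- For an irreducible representation and a central element `z`: `χ(gz) χ(1) = χ(z) χ(g)`. -/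
theorem char_mul_center (ρ : Representation ℂ G V) [ρ.IsIrreducible] (g : G) {z : G}
    (hz : z ∈ Subgroup.center G) :
    ρ.character (g * z) * ρ.character 1 = ρ.character z * ρ.character g := by
  obtain ⟨c, hc⟩ := exists_smul_of_mem_center ρ hz
  rw [char_mul_of_eq_smul ρ g z hc, char_of_eq_smul ρ z hc]
  ring

/-- For an irreducible character and a central element `z`: `χ(gz) χ(1) = χ(z) χ(g)`. -/
theorem irr_mul_center (χ : Cfsg.IrrCharacter G) (g : G) {z : G} (hz : z ∈ Subgroup.center G) :
    (χ : G → ℂ) (g * z) * (χ : G → ℂ) 1 = (χ : G → ℂ) z * (χ : G → ℂ) g := by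
  obtain ⟨n, ρ, hirr, hχ⟩ := χ.2
  have : ρ.IsIrreducible := hirr
  rw [← hχ]
  exact char_mul_center ρ g hz

end

end Cfsg.Agent.Lib.H23
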