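import Cfsg.Agent.Lib.H23.BlockOsima
import Cfsg.Agent.Lib.H24.CharDefl
import Cfsg.Agent.Lib.H24.GoodClasses
import Cfsg.Agent.Lib.L0.BlockKer

/-!
# Blocks and quotients by normal subgroups (helper23)

* `preClassSum N q`: the sum of the elements of `G` whose image in `G ⧸ N` is conjugate to `q`;
* `omega_infl_preClassSum`: `ω_{χ∘π}(preClassSum q) = |N| ω_χ(K_q)`;
* `sameBlock_of_infl`: for `p ∤ |N|`, if two inflated characters are in the same block of `G`, the
  original characters are in the same block of `G ⧸ N`.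
-/

set_option autoImplicit false

namespace Cfsg.Agent.Lib.H23

open Cfsg MonoidAlgebra Cfsg.Agent.Lib.H24
open scoped ComplexConjugate

section Quot

variable {G : Type*} [Group G] [Fintype G] (N : Subgroup G) [N.Normal] {p : ℕ} {M : Ideal AlgInt}

/-- The sum of the elements of `G` mapping into the conjugacy class of `q`. -/
noncomputable def preClassSum (q : G ⧸ N) : MonoidAlgebra ℂ G := by
  classical
  exact ofFun (fun x : G => if IsConj (x : G ⧸ N) q then 1 else 0)

theorem preClassSum_mem_center (q : G ⧸ N) :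
    preClassSum N q ∈ Subalgebra.center ℂ (MonoidAlgebra ℂ G) := by
  classical
  apply mem_center_of_classFunction
  intro g h
  simp only [preClassSum, coeff_ofFun]
  have : IsConj ((h * g * h⁻¹ : G) : G ⧸ N) q ↔ IsConj (g : G ⧸ N) q := by
    have h1 : IsConj (g : G ⧸ N) ((h * g * h⁻¹ : G) : G ⧸ N) := by
      rw [isConj_iff]
      exact ⟨(h : G ⧸ N), by simp⟩
    constructor
    · intro h2
      exact h1.trans h2
    · intro h2
      exact h1.symm.trans h2
  rw [if_congr this rfl rfl]

theorem preClassSum_mem_intCoeff [hPr : M.IsPrime] (q : G ⧸ N) :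
    preClassSum N q ∈ intCoeff (G := G) M := by
  classical
  intro g
  simp only [preClassSum, coeff_ofFun]
  split_ifs
  · exact memLocalRing_one hPr.ne_top
  · exact memLocalRing_zero hPr.ne_top

theorem omega_infl_preClassSum (χ : IrrCharacter (G ⧸ N)) (q : G ⧸ N) :
    omega (inflIrr N χ : G → ℂ) (preClassSum N q) =
      (Nat.card N : ℂ) * centralChar (χ : G ⧸ N → ℂ) q := by
  classical
  haveI : Fintype (G ⧸ N) := Fintype.ofFinite _
  have hL : ∀ g : G, (preClassSum N q).coeff g = if IsConj (g : G ⧸ N) q then 1 else 0 := by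
    intro g
    simp only [preClassSum, coeff_ofFun]
    by_cases hc : IsConj (g : G ⧸ N) q
    · rw [if_pos hc, if_pos hc]
    · rw [if_neg hc, if_neg hc]
  unfold omega charEval centralChar
  simp only [hL, inflIrr_apply]
  haveI : Fintype N := Fintype.ofFinite N
  rw [sum_comp_mk (N := N) (fun r : G ⧸ N => (if IsConj r q then (1 : ℂ) else 0) *
    (χ : G ⧸ N → ℂ) r)]
  have h1 : ∑ r : G ⧸ N, (if IsConj r q then (1 : ℂ) else 0) * (χ : G ⧸ N → ℂ) r =
      ((Subgroup.centralizer ({q} : Set (G ⧸ N))).index : ℂ) * (χ : G ⧸ N → ℂ) q := by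
    have h2 : ∀ r : G ⧸ N, (if IsConj r q then (1 : ℂ) else 0) * (χ : G ⧸ N → ℂ) r =
        if IsConj q r then (χ : G ⧸ N → ℂ) q else 0 := by
      intro r
      by_cases hr : IsConj r q
      · rw [if_pos hr, if_pos hr.symm, one_mul, irr_eq_of_isConj χ hr]
      · rw [if_neg hr, if_neg (fun h => hr h.symm), zero_mul]
    simp only [h2]
    rw [← Finset.sum_filter, Finset.sum_const, nsmul_eq_mul, index_centralizer_eq_card_conj,
      Nat.card_eq_fintype_card, Fintype.card_subtype]
  rw [h1, QuotientGroup.mk_one]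
  ring

/-- Same block upstairs implies same block in the quotient by a normal `p'`-subgroup. -/
theorem sameBlock_of_infl (hM : IsPModular p M) (hN : ¬ p ∣ Nat.card N)
    (χ ψ : IrrCharacter (G ⧸ N))
    (h : SameBlock M (inflIrr N χ : G → ℂ) (inflIrr N ψ : G → ℂ)) :
    SameBlock M (χ : G ⧸ N → ℂ) (ψ : G ⧸ N → ℂ) := by
  haveI hPr := isPrime_of_isPModular hM
  intro q
  have h1 := omega_sub_memLocalIdeal h (preClassSum_mem_center N q)
    (preClassSum_mem_intCoeff (M := M) N q)
  rw [omega_infl_preClassSum, omega_infl_preClassSum, ← mul_sub] at h1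
  have h2 := memLocalIdeal_mul_left (memLocalRing_inv_natCast hM hN) h1
  have hN0 : (Nat.card N : ℂ) ≠ 0 := Nat.cast_ne_zero.2 Nat.card_pos.ne'
  rwa [← mul_assoc, inv_mul_cancel₀ hN0, one_mul] at h2

end Quot

end Cfsg.Agent.Lib.H23
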