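import Cfsg.Agent.Lib.H23.DegreeDvd

/-!
# The degree of an irreducible character divides the index of the centre (helper23)

* `sum_eq_card_nsmul_sum_quotient`: a function constant on the left cosets of `H` sums to `|H|`
  times the sum over coset representatives;
* `finrank_dvd_index_of_forall_smul`: if every element of the subgroup `H` acts as a scalar in the
  irreducible representation `ρ`, then `dim ρ ∣ |G : H|`  (Isaacs 3.12);
* `finrank_dvd_index_center`.
-/

set_option autoImplicit false

namespace Cfsg.Agent.Lib.H23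

open Representation Module

section Cosets

variable {G : Type*} [Group G]

/-- `(q, h) ↦ q.out * h` is a bijection `(G ⧸ H) × H → G`. -/
theorem bijective_out_mul (H : Subgroup G) :
    Function.Bijective (fun x : (G ⧸ H) × H => (Quotient.out x.1 : G) * (x.2 : G)) := by
  constructor
  · rintro ⟨q, h⟩ ⟨q', h'⟩ hx
    simp only at hx
    have h1 : ((Quotient.out q * (h : G) : G) : G ⧸ H) = ((Quotient.out q' * (h' : G) : G) : G ⧸ H) :=
      congrArg _ hx
    rw [QuotientGroup.mk_mul_of_mem _ h.2, QuotientGroup.mk_mul_of_mem _ h'.2,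
      QuotientGroup.out_eq', QuotientGroup.out_eq'] at h1
    subst h1
    have h2 : (h : G) = h' := mul_left_cancel hx
    rw [Subtype.ext h2]
  · intro g
    have hmem : (Quotient.out (g : G ⧸ H))⁻¹ * g ∈ H := by
      rw [← QuotientGroup.eq, QuotientGroup.out_eq']
    refine ⟨((g : G ⧸ H), ⟨_, hmem⟩), ?_⟩
    simp

/-- A function constant on left cosets of `H` sums to `|H|` times the sum over coset
representatives. -/
theorem sum_eq_card_nsmul_sum_quotient [Fintype G] {M : Type*} [AddCommMonoid M]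
    (H : Subgroup G) [Fintype (G ⧸ H)] (f : G → M)
    (hf : ∀ g : G, ∀ h ∈ H, f (g * h) = f g) :
    ∑ g : G, f g = Nat.card H • ∑ q : G ⧸ H, f (Quotient.out q) := by
  classical
  have : Fintype H := Fintype.ofFinite H
  rw [← (Equiv.ofBijective _ (bijective_out_mul H)).sum_comp, Fintype.sum_prod_type]
  simp only [Equiv.ofBijective_apply]
  rw [Finset.smul_sum]
  refine Finset.sum_congr rfl (fun q _ => ?_)
  rw [Finset.sum_congr rfl (fun (h : H) _ => hf (Quotient.out q) (h : G) h.2), Finset.sum_const,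
    Finset.card_univ, Nat.card_eq_fintype_card]

end Cosets

section Main

variable {G : Type*} [Group G] [Fintype G] {V : Type*} [AddCommGroup V] [Module ℂ V]
  [FiniteDimensional ℂ V]

omit [Fintype G] [FiniteDimensional ℂ V] in
/-- If `ρ h = c • 1` then `c ≠ 0` and `ρ h⁻¹ = c⁻¹ • 1`. -/
theorem rep_inv_of_eq_smul [Nontrivial V] (ρ : Representation ℂ G V) {h : G} {c : ℂ}
    (hc : ρ h = c • 1) : c ≠ 0 ∧ ρ h⁻¹ = c⁻¹ • 1 := by
  have h1 : ρ h * ρ h⁻¹ = 1 := by rw [← map_mul, mul_inv_cancel, map_one]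
  rw [hc, smul_mul_assoc, one_mul] at h1
  have hc0 : c ≠ 0 := by
    intro h0
    rw [h0, zero_smul] at h1
    exact zero_ne_one h1
  refine ⟨hc0, ?_⟩
  rw [← h1, smul_smul, inv_mul_cancel₀ hc0, one_smul]

omit [Fintype G] [FiniteDimensional ℂ V] in
/-- The summand `χ(g⁻¹) ρ(g)` is constant on the cosets of a subgroup acting by scalars. -/
theorem char_inv_smul_rep_mul [Nontrivial V] (ρ : Representation ℂ G V) (g h : G) {c : ℂ}
    (hc : ρ h = c • 1) :
    ρ.character (g * h)⁻¹ • ρ (g * h) = ρ.character g⁻¹ • ρ g := by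
  obtain ⟨hc0, hinv⟩ := rep_inv_of_eq_smul ρ hc
  have h1 : ρ.character (g * h)⁻¹ = c⁻¹ * ρ.character g⁻¹ := by
    unfold Representation.character
    rw [mul_inv_rev, map_mul, hinv, smul_mul_assoc, one_mul, map_smul, smul_eq_mul]
  rw [h1, map_mul, hc, mul_smul_comm, mul_one, smul_smul]
  congr 1
  field_simp

omit [FiniteDimensional ℂ V] in
/-- Finite combinations of the `ρ g` with algebraic integer coefficients are integral. -/
theorem isIntegral_sum_smul_rep {ι : Type*} [Fintype ι] (ρ : Representation ℂ G V)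
    (a : ι → integralClosure ℤ ℂ) (γ : ι → G) :
    IsIntegral (integralClosure ℤ ℂ) (∑ i : ι, (a i : ℂ) • ρ (γ i)) := by
  classical
  have hz : IsIntegral (integralClosure ℤ ℂ)
      (∑ i : ι, a i • MonoidAlgebra.of (integralClosure ℤ ℂ) G (γ i)) :=
    IsIntegral.of_finite _ _
  have := IsIntegral.map (algIntGroupRingHom ρ) hz
  rw [map_sum] at this
  simp only [map_smul, algIntGroupRingHom, MonoidAlgebra.lift_of] at this
  exact this

/-- If every element of `H` acts as a scalar in the irreducible representation `ρ`,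
then `|G : H| / dim ρ` is an algebraic integer. -/
theorem isIntegral_index_div_finrank (ρ : Representation ℂ G V) [ρ.IsIrreducible]
    (H : Subgroup G) (hH : ∀ h ∈ H, ∃ c : ℂ, ρ h = c • 1) :
    IsIntegral ℤ ((H.index : ℂ) / (finrank ℂ V : ℂ)) := by
  classical
  have hnt := nontrivial_of_isIrreducible ρ
  have : Fintype (G ⧸ H) := Fintype.ofFinite _
  have hsum := sum_eq_card_nsmul_sum_quotient H (fun g => ρ.character g⁻¹ • ρ g) (by
    intro g h hh
    obtain ⟨c, hc⟩ := hH h hh
    exact char_inv_smul_rep_mul ρ g h hc)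
  have hT : IsIntegral (integralClosure ℤ ℂ)
      (∑ q : G ⧸ H, ρ.character (Quotient.out q)⁻¹ • ρ (Quotient.out q)) :=
    isIntegral_sum_smul_rep ρ
      (fun q => ⟨ρ.character (Quotient.out q)⁻¹, Cfsg.Agent.Lib.L0.isIntegral_char ρ _⟩)
      (fun q => Quotient.out q)
  have hcs : charSumEnd ρ = ∑ g : G, ρ.character g⁻¹ • ρ g := rfl
  rw [← hcs, charSumEnd_eq_smul ρ] at hsum
  have hHne : (Nat.card H : ℂ) ≠ 0 := Nat.cast_ne_zero.mpr Nat.card_pos.ne'
  have hn : (finrank ℂ V : ℂ) ≠ 0 :=
    Nat.cast_ne_zero.mpr (finrank_pos_of_isIrreducible ρ).ne'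
  have hT2 : (∑ q : G ⧸ H, ρ.character (Quotient.out q)⁻¹ • ρ (Quotient.out q)) =
      ((H.index : ℂ) / (finrank ℂ V : ℂ)) • LinearMap.id := by
    have hcard : (Nat.card G : ℂ) = (Nat.card H : ℂ) * (H.index : ℂ) := by
      rw [← Nat.cast_mul, Subgroup.card_mul_index]
    have h3 : (Nat.card H : ℂ) • (∑ q : G ⧸ H, ρ.character (Quotient.out q)⁻¹ • ρ (Quotient.out q))
        = (Nat.card H : ℂ) • (((H.index : ℂ) / (finrank ℂ V : ℂ)) • LinearMap.id) := by
      rw [Nat.cast_smul_eq_nsmul, ← hsum, smul_smul, hcard]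
      congr 1
      field_simp
    exact smul_right_injective _ hHne h3
  rw [hT2] at hT
  have hinj : Function.Injective (algebraMap ℂ (Module.End ℂ V)) :=
    FaithfulSMul.algebraMap_injective ℂ (Module.End ℂ V)
  have h2 : IsIntegral (integralClosure ℤ ℂ) ((H.index : ℂ) / (finrank ℂ V : ℂ)) := by
    rw [← isIntegral_algebraMap_iff hinj]
    convert hT using 1
    rw [Algebra.algebraMap_eq_smul_one]
    rfl
  exact isIntegral_trans _ h2

/-- **Isaacs 3.12**: if every element of `H` acts as a scalar in the irreducible representation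
`ρ`, then `dim ρ` divides `|G : H|`. -/
theorem finrank_dvd_index_of_forall_smul (ρ : Representation ℂ G V) [ρ.IsIrreducible]
    (H : Subgroup G) (hH : ∀ h ∈ H, ∃ c : ℂ, ρ h = c • 1) :
    finrank ℂ V ∣ H.index := by
  have h := isIntegral_index_div_finrank ρ H hH
  have hn : (finrank ℂ V : ℚ) ≠ 0 :=
    Nat.cast_ne_zero.mpr (finrank_pos_of_isIrreducible ρ).ne'
  have h2 : IsIntegral ℤ ((H.index : ℚ) / (finrank ℂ V : ℚ)) := by
    rw [← isIntegral_algebraMap_iff (algebraMap ℚ ℂ).injective]
    simpa using h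
  obtain ⟨y, hy⟩ := IsIntegrallyClosed.isIntegral_iff.mp h2
  have h3 : (H.index : ℚ) = (finrank ℂ V : ℚ) * y := by
    rw [eq_div_iff hn] at hy
    simp only [algebraMap_int_eq, eq_intCast] at hy
    linarith
  have h4 : (H.index : ℤ) = (finrank ℂ V : ℤ) * y := by exact_mod_cast h3
  exact Int.natCast_dvd_natCast.mp ⟨y, h4⟩

omit [Fintype G] in
/-- Central elements act as scalars in an irreducible representation. -/
theorem exists_smul_of_mem_center (ρ : Representation ℂ G V) [ρ.IsIrreducible] {z : G}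
    (hz : z ∈ Subgroup.center G) : ∃ c : ℂ, ρ z = c • 1 := by
  obtain ⟨c, hc⟩ := exists_scalar_of_commute ρ (ρ z) (by
    intro g
    rw [← Module.End.mul_eq_comp, ← Module.End.mul_eq_comp, ← map_mul, ← map_mul,
      (Subgroup.mem_center_iff.mp hz) g])
  exact ⟨c, hc⟩

/-- The degree of an irreducible representation divides the index of the centre. -/
theorem finrank_dvd_index_center (ρ : Representation ℂ G V) [ρ.IsIrreducible] :
    finrank ℂ V ∣ (Subgroup.center G).index :=
  finrank_dvd_index_of_forall_smul ρ _ (fun _ hz => exists_smul_of_mem_center ρ hz)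

end Main

end Cfsg.Agent.Lib.H23
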