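import Mathlib

/-!
# Galois conjugates of sums of roots of unity (helper23)

`L = CyclotomicField m ℚ` with a fixed embedding `cycEmb m : L →+* ℂ`.
* `cycPow m σ : ZMod m` : the exponent `k` with `σ η = η ^ k` for all `m`-th roots of unity;
* `cycAut_pow`: `σ η = η ^ (cycPow m σ).val` whenever `η ^ m = 1`;
* `exists_cyc_preimage`: every complex `m`-th root of unity is in the image of `cycEmb`;
* `exists_int_prod_galois`: for `x : L` with `cycEmb x` a nonzero algebraic integer, the product of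
  the complex numbers `cycEmb (σ x)` over the Galois group is a nonzero integer.
-/

set_option autoImplicit false

namespace Cfsg.Agent.Lib.H23

open Polynomial

variable (m : ℕ) [NeZero m]

instance cycExt : IsCyclotomicExtension {m} ℚ (CyclotomicField m ℚ) :=
  CyclotomicField.isCyclotomicExtension m ℚ

instance cycGal : IsGalois ℚ (CyclotomicField m ℚ) := IsCyclotomicExtension.isGalois {m} ℚ _

instance cycFin : FiniteDimensional ℚ (CyclotomicField m ℚ) :=
  IsCyclotomicExtension.finiteDimensional {m} ℚ _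

/-- A fixed embedding of the `m`-th cyclotomic field into `ℂ`. -/
noncomputable def cycEmb : CyclotomicField m ℚ →ₐ[ℚ] ℂ := IsAlgClosed.lift

theorem cycEmb_injective : Function.Injective (cycEmb m) := (cycEmb m).toRingHom.injective

/-- The Galois group of the cyclotomic field is `(ZMod m)ˣ`. -/
noncomputable def cycGalEquiv : Gal(CyclotomicField m ℚ/ℚ) ≃* (ZMod m)ˣ :=
  IsCyclotomicExtension.autEquivPow (CyclotomicField m ℚ)
    (cyclotomic.irreducible_rat (NeZero.pos m))

/-- The exponent by which `σ` acts on roots of unity. -/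
noncomputable def cycPow (σ : Gal(CyclotomicField m ℚ/ℚ)) : ZMod m :=
  ((cycGalEquiv m σ : (ZMod m)ˣ) : ZMod m)

theorem cycAut_zeta (σ : Gal(CyclotomicField m ℚ/ℚ)) :
    σ (IsCyclotomicExtension.zeta m ℚ (CyclotomicField m ℚ)) =
      (IsCyclotomicExtension.zeta m ℚ (CyclotomicField m ℚ)) ^ (cycPow m σ).val := by
  have h := IsPrimitiveRoot.autToPow_spec ℚ
    (IsCyclotomicExtension.zeta_spec m ℚ (CyclotomicField m ℚ)) σ
  rw [← h]
  rfl

theorem cycAut_pow (σ : Gal(CyclotomicField m ℚ/ℚ)) (η : CyclotomicField m ℚ) (hη : η ^ m = 1) :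
    σ η = η ^ (cycPow m σ).val := by
  obtain ⟨i, _, rfl⟩ :=
    (IsCyclotomicExtension.zeta_spec m ℚ (CyclotomicField m ℚ)).eq_pow_of_pow_eq_one hη
  rw [map_pow, cycAut_zeta, ← pow_mul, ← pow_mul, mul_comm]

theorem exists_cyc_preimage (μ : ℂ) (hμ : μ ^ m = 1) :
    ∃ η : CyclotomicField m ℚ, η ^ m = 1 ∧ cycEmb m η = μ := by
  have hζ := IsCyclotomicExtension.zeta_spec m ℚ (CyclotomicField m ℚ)
  have hξ : IsPrimitiveRoot (cycEmb m (IsCyclotomicExtension.zeta m ℚ (CyclotomicField m ℚ))) m :=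
    hζ.map_of_injective (cycEmb_injective m)
  obtain ⟨i, _, hi⟩ := hξ.eq_pow_of_pow_eq_one hμ
  refine ⟨(IsCyclotomicExtension.zeta m ℚ (CyclotomicField m ℚ)) ^ i, ?_, ?_⟩
  · rw [← pow_mul, mul_comm, pow_mul, hζ.pow_eq_one, one_pow]
  · rw [map_pow, hi]

/-- For `x` in the cyclotomic field whose image in `ℂ` is a nonzero algebraic integer, the product
of the images of its Galois conjugates is a nonzero integer. -/
theorem exists_int_prod_galois (x : CyclotomicField m ℚ) (hx : IsIntegral ℤ (cycEmb m x))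
    (hx0 : cycEmb m x ≠ 0) :
    ∃ N : ℤ, N ≠ 0 ∧ ∏ σ : Gal(CyclotomicField m ℚ/ℚ), cycEmb m (σ x) = (N : ℂ) := by
  have hxL : IsIntegral ℤ x := by
    have := (isIntegral_algHom_iff ((cycEmb m).toRingHom.toIntAlgHom) (cycEmb_injective m)
      (x := x)).mp
    exact this hx
  have hx0L : x ≠ 0 := by
    rintro rfl
    exact hx0 (map_zero _)
  have hnorm : IsIntegral ℤ (Algebra.norm ℚ x) := Algebra.isIntegral_norm ℚ hxL
  obtain ⟨N, hN⟩ := IsIntegrallyClosed.isIntegral_iff.mp hnorm
  refine ⟨N, ?_, ?_⟩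
  · rintro rfl
    have : Algebra.norm ℚ x = 0 := by rw [← hN]; simp
    exact hx0L (Algebra.norm_eq_zero_iff.mp this)
  · have h1 := Algebra.norm_eq_prod_automorphisms ℚ x
    have h2 := congrArg (cycEmb m) h1
    rw [map_prod] at h2
    rw [← h2, ← hN]
    simp

end Cfsg.Agent.Lib.H23
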