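import Mathlib
import Cfsg.Agent.Lib.L0.CharBasic
import Cfsg.Agent.Lib.H23.CycloNorm

/-!
# Galois conjugates of character values (helper23)

For a representation `ρ` of a group on a finite-dimensional complex space, `g` with `g ^ m = 1`:
* `exists_cyc_char`: there is `x` in the `m`-th cyclotomic field with
  `cycEmb (σ x) = χ (g ^ k)` where `σ ↦ k` is the cyclotomic character;
* `prod_char_pow_eq_int`: if `c χ(g)` is a nonzero algebraic integer (`c` rational) then
  `∏_{k ∈ (ℤ/m)ˣ} c χ(g ^ k)` is a nonzero integer;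
* `card_units_le_sum_normSq_char_pow`: if `χ(g) ≠ 0` then `φ(m) ≤ ∑_{k ∈ (ℤ/m)ˣ} ‖χ(g ^ k)‖²`.
-/

set_option autoImplicit false

namespace Cfsg.Agent.Lib.H23

open Module Cfsg.Agent.Lib.L0

section

variable {G : Type*} [Group G] {V : Type*} [AddCommGroup V] [Module ℂ V] [FiniteDimensional ℂ V]
variable (m : ℕ) [NeZero m]

theorem exists_cyc_char (ρ : Representation ℂ G V) (g : G) (hg : g ^ m = 1) :
    ∃ x : CyclotomicField m ℚ, ∀ σ : Gal(CyclotomicField m ℚ/ℚ),
      cycEmb m (σ x) = ρ.character (g ^ (cycPow m σ).val) := by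
  classical
  have hm : 0 < m := NeZero.pos m
  set f : Module.End ℂ V := ρ g with hfdef
  have hfm : f ^ m = 1 := by rw [hfdef, ← map_pow, hg, map_one]
  have hf := isSemisimple_of_pow_eq_one hm hfm
  have hroot : ∀ μ : f.Eigenvalues, ∃ η : CyclotomicField m ℚ, η ^ m = 1 ∧
      cycEmb m η = (μ : ℂ) := fun μ => exists_cyc_preimage m _ (eigenvalue_pow_eq_one hfm μ)
  choose η hη1 hη2 using hroot
  refine ⟨∑ μ : f.Eigenvalues, (finrank ℂ (f.eigenspace (μ : ℂ)) : CyclotomicField m ℚ) *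
    η μ, ?_⟩
  intro σ
  rw [map_sum, map_sum]
  unfold Representation.character
  rw [map_pow, ← hfdef, trace_pow_eq_sum hf]
  refine Finset.sum_congr rfl fun μ _ => ?_
  rw [map_mul, map_mul, map_natCast, map_natCast, cycAut_pow m σ (η μ) (hη1 μ), map_pow, hη2]

/-- Reindexing a product over the Galois group by `(ZMod m)ˣ`. -/
theorem prod_galois_eq_prod_units (F : ZMod m → ℂ) :
    ∏ σ : Gal(CyclotomicField m ℚ/ℚ), F (cycPow m σ) = ∏ k : (ZMod m)ˣ, F (k : ZMod m) :=
  Fintype.prod_equiv (cycGalEquiv m).toEquiv _ _ (fun _ => rfl)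

theorem prod_char_pow_eq_int (ρ : Representation ℂ G V) (g : G) (hg : g ^ m = 1) (c : ℚ)
    (hint : IsIntegral ℤ ((c : ℂ) * ρ.character g)) (hne : (c : ℂ) * ρ.character g ≠ 0) :
    ∃ N : ℤ, N ≠ 0 ∧
      ∏ k : (ZMod m)ˣ, ((c : ℂ) * ρ.character (g ^ (k : ZMod m).val)) = (N : ℂ) := by
  obtain ⟨x, hx⟩ := exists_cyc_char m ρ g hg
  -- the identity automorphism
  have h1 : cycEmb m x = ρ.character g := by
    have := hx 1
    rw [AlgEquiv.one_apply] at this
    rw [this]
    have hk : (cycPow m (1 : Gal(CyclotomicField m ℚ/ℚ))) = 1 := by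
      simp [cycPow]
    rw [hk]
    congr 1
    rcases Nat.lt_or_ge 1 m with h | h
    · haveI : Fact (1 < m) := ⟨h⟩
      rw [ZMod.val_one, pow_one]
    · have hm1 : m = 1 := le_antisymm h (NeZero.pos m)
      subst hm1
      have hg1 : g = 1 := by simpa using hg
      simp [hg1]
  set y : CyclotomicField m ℚ := (algebraMap ℚ (CyclotomicField m ℚ) c) * x with hy
  have hyσ : ∀ σ : Gal(CyclotomicField m ℚ/ℚ),
      cycEmb m (σ y) = (c : ℂ) * ρ.character (g ^ (cycPow m σ).val) := by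
    intro σ
    rw [hy, map_mul, map_mul, AlgEquiv.commutes, AlgHom.commutes, hx σ]
    simp
  have hy1 : cycEmb m y = (c : ℂ) * ρ.character g := by
    rw [hy, map_mul, AlgHom.commutes, h1]; simp
  obtain ⟨N, hN0, hN⟩ := exists_int_prod_galois m y (by rw [hy1]; exact hint)
    (by rw [hy1]; exact hne)
  refine ⟨N, hN0, ?_⟩
  rw [← hN, ← prod_galois_eq_prod_units m
    (fun k => (c : ℂ) * ρ.character (g ^ k.val))]
  exact (Finset.prod_congr rfl fun σ _ => (hyσ σ)).symm

/-- A finite family of nonnegative reals whose product is at least `1` has sum at least its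
cardinality (AM-GM). -/
theorem card_le_sum_of_one_le_prod {ι : Type*} [Fintype ι] (z : ι → ℝ) (hz : ∀ i, 0 ≤ z i)
    (hprod : 1 ≤ ∏ i, z i) : (Fintype.card ι : ℝ) ≤ ∑ i, z i := by
  rcases isEmpty_or_nonempty ι with h | h
  · simp
  have hn : (0 : ℝ) < Fintype.card ι := by exact_mod_cast Fintype.card_pos
  have h1 := Real.geom_mean_le_arith_mean Finset.univ (fun _ => (1 : ℝ)) z
    (fun _ _ => zero_le_one) (by simpa using hn) (fun i _ => hz i)
  simp only [Real.rpow_one, Finset.sum_const, Finset.card_univ, nsmul_eq_mul, mul_one,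
    one_mul] at h1
  have h2 : (1 : ℝ) ≤ (∏ i, z i) ^ ((Fintype.card ι : ℝ))⁻¹ :=
    Real.one_le_rpow hprod (inv_nonneg.mpr hn.le)
  have h3 := h2.trans h1
  rwa [le_div_iff₀ hn, one_mul] at h3

theorem card_units_le_sum_normSq_char_pow (ρ : Representation ℂ G V) (g : G) (hg : g ^ m = 1)
    (hne : ρ.character g ≠ 0) :
    (Fintype.card (ZMod m)ˣ : ℝ) ≤ ∑ k : (ZMod m)ˣ, ‖ρ.character (g ^ (k : ZMod m).val)‖ ^ 2 := by
  have hm : 0 < m := NeZero.pos m
  have hfm : ρ g ^ m = 1 := by rw [← map_pow, hg, map_one]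
  have hint : IsIntegral ℤ (ρ.character g) := isIntegral_trace hm hfm
  obtain ⟨N, hN0, hN⟩ := prod_char_pow_eq_int m ρ g hg 1 (by simpa using hint) (by simpa using hne)
  simp only [Rat.cast_one, one_mul] at hN
  apply card_le_sum_of_one_le_prod
  · intro k; positivity
  · rw [Finset.prod_pow, ← norm_prod, hN]
    have h1 : (1 : ℝ) ≤ ‖(N : ℂ)‖ := by
      rw [Complex.norm_intCast]
      exact_mod_cast Int.one_le_abs hN0
    nlinarith

/-- The power `g ^ (1 : ZMod m).val` is `g` when `g ^ m = 1`. -/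
theorem pow_val_one_eq (g : G) (hg : g ^ m = 1) : g ^ (1 : ZMod m).val = g := by
  rcases Nat.lt_or_ge 1 m with h | h
  · have : Fact (1 < m) := ⟨h⟩
    rw [ZMod.val_one, pow_one]
  · have hm1 : m = 1 := le_antisymm h (NeZero.pos m)
    subst hm1
    have hg1 : g = 1 := by simpa using hg
    simp [hg1]

/-- If `χ(g) / χ(1)` is an algebraic integer and `χ(g) ≠ 0`, then `|χ(g)| = χ(1)`. -/
theorem norm_char_eq_finrank_of_isIntegral_div [Finite G] (ρ : Representation ℂ G V) (g : G)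
    (hint : IsIntegral ℤ (ρ.character g / (finrank ℂ V : ℂ))) (hne : ρ.character g ≠ 0) :
    ‖ρ.character g‖ = (finrank ℂ V : ℝ) := by
  classical
  have hcard : NeZero (Nat.card G) := ⟨Nat.card_pos.ne'⟩
  have hg : g ^ Nat.card G = 1 := pow_card_eq_one'
  have hn0 : finrank ℂ V ≠ 0 := by
    intro h0
    apply hne
    have := norm_char_le ρ g
    rw [h0] at this
    simpa using this
  have hnpos : (0 : ℝ) < finrank ℂ V := by exact_mod_cast Nat.pos_of_ne_zero hn0
  set c : ℚ := (finrank ℂ V : ℚ)⁻¹ with hc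
  have hcC : (c : ℂ) = (finrank ℂ V : ℂ)⁻¹ := by rw [hc]; push_cast; rfl
  have hint' : IsIntegral ℤ ((c : ℂ) * ρ.character g) := by
    rw [hcC, mul_comm, ← div_eq_mul_inv]; exact hint
  have hne' : (c : ℂ) * ρ.character g ≠ 0 := by
    rw [hcC]
    exact mul_ne_zero (inv_ne_zero (by exact_mod_cast hn0)) hne
  obtain ⟨N, hN0, hN⟩ := prod_char_pow_eq_int (Nat.card G) ρ g hg c hint' hne'
  -- take norms
  have hnorm : ∏ k : (ZMod (Nat.card G))ˣ,
      ‖(c : ℂ) * ρ.character (g ^ (k : ZMod (Nat.card G)).val)‖ = ‖(N : ℂ)‖ := by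
    rw [← norm_prod, hN]
  have hN1 : (1 : ℝ) ≤ ‖(N : ℂ)‖ := by
    rw [Complex.norm_intCast]
    exact_mod_cast Int.one_le_abs hN0
  have hfac : ∀ k : (ZMod (Nat.card G))ˣ,
      ‖(c : ℂ) * ρ.character (g ^ (k : ZMod (Nat.card G)).val)‖ ≤ 1 := by
    intro k
    rw [norm_mul, hcC, norm_inv, Complex.norm_natCast, inv_mul_le_iff₀ hnpos, mul_one]
    exact norm_char_le ρ _
  have hsplit := Finset.mul_prod_erase Finset.univ
    (fun k : (ZMod (Nat.card G))ˣ =>
      ‖(c : ℂ) * ρ.character (g ^ (k : ZMod (Nat.card G)).val)‖) (Finset.mem_univ 1)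
  have hrest : ∏ k ∈ Finset.univ.erase (1 : (ZMod (Nat.card G))ˣ),
      ‖(c : ℂ) * ρ.character (g ^ (k : ZMod (Nat.card G)).val)‖ ≤ 1 :=
    Finset.prod_le_one (fun k _ => norm_nonneg _) (fun k _ => hfac k)
  have h1 : (1 : ℝ) ≤ ‖(c : ℂ) * ρ.character (g ^ ((1 : (ZMod (Nat.card G))ˣ) : ZMod (Nat.card G)).val)‖ := by
    have hnn : (0 : ℝ) ≤
        ‖(c : ℂ) * ρ.character (g ^ ((1 : (ZMod (Nat.card G))ˣ) : ZMod (Nat.card G)).val)‖ :=
      norm_nonneg _
    rw [hnorm] at hsplit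
    nlinarith
  rw [Units.val_one, pow_val_one_eq _ g hg, norm_mul, hcC, norm_inv, Complex.norm_natCast,
    le_inv_mul_iff₀ hnpos, mul_one] at h1
  exact le_antisymm (norm_char_le ρ g) h1

end

end Cfsg.Agent.Lib.H23
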