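import Cfsg.Agent.Lib.H23.CentralChar
import Cfsg.Agent.Lib.H23.DegreeDvd
import Cfsg.Agent.Lib.H24.CharSchur
import Cfsg.Agent.S0142

/-!
# Burnside's theorems on prime-power classes and on groups of order `p^a q^b` (helper23)

* `finrank_eq_one_of_forall_smul`: an irreducible representation all of whose operators are scalar
  has dimension one;
* `commutative_of_simple_of_prime_power_class`: a finite simple group with a nontrivial conjugacy
  class of prime power size is commutative;
* `prime_card_of_simple_of_prime_power_class`: ... and so has prime order;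
* `isSolvable_of_card_eq_prime_pow_mul_prime_pow`: Burnside's `p^a q^b` theorem.
-/

set_option autoImplicit false

namespace Cfsg.Agent.Lib.H23

open Module Cfsg.Agent.Lib.L0

section Scalar

variable {G : Type*} [Group G] {V : Type*} [AddCommGroup V] [Module ℂ V] [FiniteDimensional ℂ V]

/-- An irreducible representation all of whose operators are scalars is one-dimensional. -/
theorem finrank_eq_one_of_forall_smul (ρ : Representation ℂ G V) [ρ.IsIrreducible]
    (h : ∀ g : G, ∃ c : ℂ, ρ g = c • 1) : finrank ℂ V = 1 := by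
  have hnt := nontrivial_of_isIrreducible ρ
  obtain ⟨v, hv⟩ := exists_ne (0 : V)
  let U : Subrepresentation ρ :=
    { toSubmodule := Submodule.span ℂ {v}
      apply_mem_toSubmodule := by
        intro g w hw
        obtain ⟨c, hc⟩ := h g
        rw [hc]
        simpa using Submodule.smul_mem _ c hw }
  have hU : U ≠ ⊥ := by
    intro hbot
    have h1 : U.toSubmodule = (⊥ : Subrepresentation ρ).toSubmodule := by rw [hbot]
    have h2 : v ∈ U.toSubmodule := Submodule.mem_span_singleton_self v
    rw [h1] at h2
    exact hv ((Submodule.mem_bot ℂ).mp h2)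
  have hUt : U = ⊤ := (eq_bot_or_eq_top U).resolve_left hU
  have h3 : Submodule.span ℂ {v} = (⊤ : Submodule ℂ V) := by
    have := congrArg Subrepresentation.toSubmodule hUt
    exact this
  have h4 := finrank_span_singleton (K := ℂ) hv
  rw [h3, finrank_top] at h4
  exact h4

end Scalar

section Simple

variable {G : Type*} [Group G] [Finite G] {V : Type*} [AddCommGroup V] [Module ℂ V]
  [FiniteDimensional ℂ V]

omit [Finite G] in
/-- A representation with trivial action and of dimension one has trivial character. -/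
theorem character_eq_one_of_forall_eq_one (ρ : Representation ℂ G V) (h1 : finrank ℂ V = 1)
    (h : ∀ x : G, ρ x = 1) : ρ.character = fun _ => (1 : ℂ) := by
  funext x
  unfold Representation.character
  rw [h x, LinearMap.trace_one, h1, Nat.cast_one]

open Classical in
/-- The key integrality statement in Burnside's argument. -/
theorem isIntegral_burnside_term [IsSimpleGroup G] (hnc : ¬ ∀ a b : G, a * b = b * a)
    (p k : ℕ) (hp : p.Prime) (g : G) (hg : g ≠ 1)
    (hclass : (Subgroup.centralizer ({g} : Set G)).index = p ^ k)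
    (ρ : Representation ℂ G V) [ρ.IsIrreducible] :
    IsIntegral ℤ ((ρ.character 1 * ρ.character g -
      (if ρ.character = (fun _ => (1 : ℂ)) then 1 else 0)) / (p : ℂ)) := by
  have hp0 : (p : ℂ) ≠ 0 := Nat.cast_ne_zero.mpr hp.ne_zero
  have hint : IsIntegral ℤ (ρ.character g) := isIntegral_char ρ g
  rw [Representation.char_one]
  by_cases hdvd : p ∣ finrank ℂ V
  · -- `p ∣ χ(1)`
    have hne : ρ.character ≠ (fun _ => (1 : ℂ)) := by
      intro h
      have h1 := congrFun h 1
      rw [Representation.char_one] at h1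
      have h2 : finrank ℂ V = 1 := by exact_mod_cast h1
      rw [h2] at hdvd
      exact hp.one_lt.ne' (Nat.dvd_one.mp hdvd)
    rw [if_neg hne, sub_zero]
    obtain ⟨m, hm⟩ := hdvd
    rw [hm]
    have : ((p * m : ℕ) : ℂ) * ρ.character g / (p : ℂ) = (m : ℂ) * ρ.character g := by
      push_cast
      field_simp
    rw [this]
    exact (isIntegral_algebraMap (R := ℤ) (x := (m : ℤ))).mul hint |> fun h => by simpa using h
  · have hcop : Nat.Coprime (finrank ℂ V) (Subgroup.centralizer ({g} : Set G)).index := by
      rw [hclass]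
      exact Nat.Coprime.pow_right k ((Nat.Prime.coprime_iff_not_dvd hp).mpr hdvd).symm
    rcases Cfsg.Agent.S0142.result ρ g hcop with h0 | hn
    · -- `χ(g) = 0`
      have hne : ρ.character ≠ (fun _ => (1 : ℂ)) := by
        intro h
        have h1 := congrFun h g
        rw [h0] at h1
        exact zero_ne_one h1
      rw [if_neg hne, h0]
      simp only [mul_zero, sub_zero, zero_div]
      exact isIntegral_zero
    · -- `ρ g` is a scalar
      obtain ⟨c, hc⟩ := (norm_char_eq_finrank_iff ρ g).mp hn
      have hker : (ρ : G →* (V →ₗ[ℂ] V)).ker = ⊥ ∨ (ρ : G →* (V →ₗ[ℂ] V)).ker = ⊤ :=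
        IsSimpleGroup.eq_bot_or_eq_top_of_normal _ (MonoidHom.normal_ker _)
      rcases hker with hbot | htop
      · exfalso
        -- `ρ` is faithful, so `g` is central
        have hinj : Function.Injective ρ := (MonoidHom.ker_eq_bot_iff _).mp hbot
        have hcen : g ∈ Subgroup.center G := by
          rw [Subgroup.mem_center_iff]
          intro x
          apply hinj
          rw [map_mul, map_mul, hc]
          simp
        have hcne : Subgroup.center G ≠ ⊥ := by
          intro h
          rw [h, Subgroup.mem_bot] at hcen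
          exact hg hcen
        have hctop : Subgroup.center G = ⊤ :=
          (IsSimpleGroup.eq_bot_or_eq_top_of_normal _ inferInstance).resolve_left hcne
        apply hnc
        intro a b
        have ha : a ∈ Subgroup.center G := by rw [hctop]; trivial
        exact ((Subgroup.mem_center_iff.mp ha) b).symm
      · -- `ρ` is trivial
        have htriv : ∀ x : G, ρ x = 1 := by
          intro x
          have hx : x ∈ (ρ : G →* (V →ₗ[ℂ] V)).ker := by rw [htop]; trivial
          exact (MonoidHom.mem_ker).mp hx
        have hdim : finrank ℂ V = 1 :=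
          finrank_eq_one_of_forall_smul ρ (fun x => ⟨1, by rw [htriv x, one_smul]⟩)
        have hch := character_eq_one_of_forall_eq_one ρ hdim htriv
        rw [if_pos hch, hch, hdim]
        simp only [Nat.cast_one, mul_one, sub_self, zero_div]
        exact isIntegral_zero

/-- `-1/p` is not an algebraic integer. -/
theorem not_isIntegral_neg_one_div_prime {p : ℕ} (hp : p.Prime) :
    ¬ IsIntegral ℤ ((0 - 1 : ℂ) / (p : ℂ)) := by
  intro h
  have hp0 : (p : ℚ) ≠ 0 := Nat.cast_ne_zero.mpr hp.ne_zero
  have h2 : IsIntegral ℤ ((0 - 1 : ℚ) / (p : ℚ)) := by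
    rw [← isIntegral_algebraMap_iff (algebraMap ℚ ℂ).injective]
    simpa using h
  obtain ⟨y, hy⟩ := IsIntegrallyClosed.isIntegral_iff.mp h2
  have h3 : (-1 : ℚ) = (p : ℚ) * y := by
    rw [eq_div_iff hp0] at hy
    simp only [algebraMap_int_eq, eq_intCast] at hy
    linarith
  have h4 : (-1 : ℤ) = (p : ℤ) * y := by exact_mod_cast h3
  have h5 : (p : ℤ) ∣ 1 := ⟨-y, by linarith⟩
  have h6 : p ∣ 1 := by exact_mod_cast h5
  exact hp.one_lt.ne' (Nat.dvd_one.mp h6)

/-- **Burnside**: a finite simple group having a non-identity conjugacy class of prime power size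
is commutative. -/
theorem commutative_of_simple_of_prime_power_class [IsSimpleGroup G] (p k : ℕ) (hp : p.Prime)
    (g : G) (hg : g ≠ 1) (hclass : (Subgroup.centralizer ({g} : Set G)).index = p ^ k) :
    ∀ a b : G, a * b = b * a := by
  classical
  by_contra hnc
  have := Fintype.ofFinite G
  have := Fintype.ofFinite (IrrCharacter G)
  have hterm : ∀ χ : IrrCharacter G, IsIntegral ℤ (((χ : G → ℂ) 1 * (χ : G → ℂ) g -
      (if χ = Cfsg.Agent.Lib.H24.trivialIrr G then 1 else 0)) / (p : ℂ)) := by
    intro χ
    obtain ⟨n, ρ, hirr, hχ⟩ := χ.2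
    have : ρ.IsIrreducible := hirr
    have := isIntegral_burnside_term hnc p k hp g hg hclass ρ
    rw [hχ] at this
    have hiff : (χ = Cfsg.Agent.Lib.H24.trivialIrr G) ↔ ((χ : G → ℂ) = fun _ => (1 : ℂ)) := by
      rw [Subtype.ext_iff]
      rfl
    simp only [hiff]
    convert this using 4
  have hsum : IsIntegral ℤ (∑ χ : IrrCharacter G, (((χ : G → ℂ) 1 * (χ : G → ℂ) g -
      (if χ = Cfsg.Agent.Lib.H24.trivialIrr G then 1 else 0)) / (p : ℂ))) :=
    IsIntegral.sum _ (fun χ _ => hterm χ)
  rw [← Finset.sum_div, Finset.sum_sub_distrib, Cfsg.Agent.Lib.H24.sum_irr_one_mul, if_neg hg,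
    Finset.sum_ite_eq' Finset.univ (Cfsg.Agent.Lib.H24.trivialIrr G) (fun _ => (1 : ℂ)),
    if_pos (Finset.mem_univ _)] at hsum
  exact not_isIntegral_neg_one_div_prime hp hsum

/-- **Burnside**: a finite simple group having a non-identity conjugacy class of prime power size
has prime order. -/
theorem prime_card_of_simple_of_prime_power_class [IsSimpleGroup G] (p k : ℕ) (hp : p.Prime)
    (g : G) (hg : g ≠ 1) (hclass : (Subgroup.centralizer ({g} : Set G)).index = p ^ k) :
    (Nat.card G).Prime := by
  have hc := commutative_of_simple_of_prime_power_class p k hp g hg hclass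
  let _ : CommGroup G := { ‹Group G› with mul_comm := hc }
  exact IsSimpleGroup.prime_card

end Simple

section PQ

/-- A divisor of `p ^ a * q ^ b` is again of this form. -/
theorem exists_eq_pow_mul_pow_of_dvd {p q a b d : ℕ} (hp : p.Prime) (hq : q.Prime)
    (h : d ∣ p ^ a * q ^ b) : ∃ a' b', d = p ^ a' * q ^ b' := by
  obtain ⟨d1, d2, h1, h2, rfl⟩ := Nat.dvd_mul.mp h
  obtain ⟨a', _, rfl⟩ := (Nat.dvd_prime_pow hp).mp h1
  obtain ⟨b', _, rfl⟩ := (Nat.dvd_prime_pow hq).mp h2
  exact ⟨a', b', rfl⟩

/-- In a group of order `r ^ a * s ^ b`, a nontrivial central element of a Sylow `r`-subgroup has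
a conjugacy class of `s`-power size. -/
theorem exists_index_centralizer_eq_pow {G : Type*} [Group G] [Finite G] {r s a b : ℕ}
    [hr : Fact r.Prime] (hs : s.Prime) (hcard : Nat.card G = r ^ a * s ^ b) (P : Sylow r G)
    (z : G) (hz : ∀ x ∈ (P : Subgroup G), x * z = z * x) :
    ∃ k, (Subgroup.centralizer ({z} : Set G)).index = s ^ k := by
  have hle : (P : Subgroup G) ≤ Subgroup.centralizer ({z} : Set G) := by
    intro x hx
    rw [Subgroup.mem_centralizer_iff]
    intro y hy
    rw [Set.mem_singleton_iff] at hy
    rw [hy]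
    exact (hz x hx).symm
  have hdvd : (Subgroup.centralizer ({z} : Set G)).index ∣ (P : Subgroup G).index :=
    Subgroup.index_dvd_of_le hle
  have hnd : ¬ r ∣ (Subgroup.centralizer ({z} : Set G)).index := fun h =>
    P.not_dvd_index (h.trans hdvd)
  have hcop : Nat.Coprime (Subgroup.centralizer ({z} : Set G)).index (r ^ a) :=
    Nat.Coprime.pow_right a ((Nat.Prime.coprime_iff_not_dvd hr.out).mpr hnd).symm
  have hd2 : (Subgroup.centralizer ({z} : Set G)).index ∣ r ^ a * s ^ b := by
    rw [← hcard]
    exact Subgroup.index_dvd_card _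
  have hd3 := hcop.dvd_of_dvd_mul_left hd2
  obtain ⟨k, _, hk⟩ := (Nat.dvd_prime_pow hs).mp hd3
  exact ⟨k, hk⟩

/-- A simple group of order `p ^ a * q ^ b` is solvable. -/
theorem isSolvable_of_simple_of_card_eq {G : Type*} [Group G] [Finite G] [IsSimpleGroup G]
    {p q a b : ℕ} (hp : p.Prime) (hq : q.Prime) (hcard : Nat.card G = p ^ a * q ^ b) :
    Group.IsSolvable G := by
  have hne : Nat.card G ≠ 1 := by
    intro h
    have := (Nat.card_eq_one_iff_unique.mp h).1
    exact not_subsingleton G this
  obtain ⟨r, hr, hrdvd⟩ := Nat.exists_prime_and_dvd hne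
  have : Fact r.Prime := ⟨hr⟩
  -- a Sylow `r`-subgroup and a nontrivial central element of it
  obtain ⟨P⟩ : Nonempty (Sylow r G) := inferInstance
  have hPne : (P : Subgroup G) ≠ ⊥ := P.ne_bot_of_dvd_card hrdvd
  have : Nontrivial (P : Subgroup G) := (Subgroup.nontrivial_iff_ne_bot _).mpr hPne
  have := P.isPGroup'.center_nontrivial
  obtain ⟨z', hz'⟩ := exists_ne (1 : Subgroup.center (P : Subgroup G))
  let z : G := ((z' : (P : Subgroup G)) : G)
  have hz1 : z ≠ 1 := by
    intro h
    apply hz'
    apply Subtype.ext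
    apply Subtype.ext
    exact h
  have hzc : ∀ x ∈ (P : Subgroup G), x * z = z * x := by
    intro x hx
    have := (Subgroup.mem_center_iff.mp z'.2) ⟨x, hx⟩
    exact congrArg (Subtype.val) this
  -- `r` is `p` or `q`
  have hrpq : r = p ∨ r = q := by
    rw [hcard] at hrdvd
    rcases (Nat.Prime.dvd_mul hr).mp hrdvd with h | h
    · exact Or.inl ((Nat.prime_dvd_prime_iff_eq hr hp).mp (hr.dvd_of_dvd_pow h))
    · exact Or.inr ((Nat.prime_dvd_prime_iff_eq hr hq).mp (hr.dvd_of_dvd_pow h))
  have hprime : (Nat.card G).Prime := by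
    rcases hrpq with rfl | rfl
    · obtain ⟨k, hk⟩ := exists_index_centralizer_eq_pow hq hcard P z hzc
      exact prime_card_of_simple_of_prime_power_class q k hq z hz1 hk
    · rw [mul_comm] at hcard
      obtain ⟨k, hk⟩ := exists_index_centralizer_eq_pow hp hcard P z hzc
      exact prime_card_of_simple_of_prime_power_class p k hp z hz1 hk
  have : Fact (Nat.card G).Prime := ⟨hprime⟩
  have : IsCyclic G := isCyclic_of_prime_card rfl
  exact Group.isSolvable_of_comm (fun a b => (IsCyclic.commGroup (α := G)).mul_comm a b)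

/-- **Burnside's `p^a q^b` theorem**, inductive form. -/
theorem isSolvable_of_card_eq_aux {p q : ℕ} (hp : p.Prime) (hq : q.Prime) :
    ∀ (n : ℕ) (G : Type*) [Group G] [Finite G], Nat.card G = n →
      (∃ a b, n = p ^ a * q ^ b) → Group.IsSolvable G := by
  intro n
  induction n using Nat.strong_induction_on with
  | _ n ih =>
    intro G _ _ hn hab
    by_cases hsimple : ∀ H : Subgroup G, H.Normal → H = ⊥ ∨ H = ⊤
    · rcases subsingleton_or_nontrivial G with hs | hnt
      · exact Group.isSolvable_of_comm (fun a b => Subsingleton.elim _ _)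
      · have : IsSimpleGroup G := ⟨hsimple⟩
        obtain ⟨a, b, hab⟩ := hab
        exact isSolvable_of_simple_of_card_eq hp hq (hn.trans hab)
    · push Not at hsimple
      obtain ⟨N, hN, hNbot, hNtop⟩ := hsimple
      have := hN
      have hmul := Subgroup.card_mul_index N
      have h1 : 1 < Nat.card N := (Subgroup.one_lt_card_iff_ne_bot N).mpr hNbot
      have h2 : N.index ≠ 1 := fun h => hNtop (Subgroup.index_eq_one.mp h)
      have h3 : N.index ≠ 0 := Subgroup.index_ne_zero_of_finite
      have hlt1 : Nat.card N < n := by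
        rw [← hn, ← hmul]
        have : 2 ≤ N.index := by omega
        nlinarith
      have hlt2 : Nat.card (G ⧸ N) < n := by
        rw [← Subgroup.index_eq_card, ← hn, ← hmul]
        nlinarith [Nat.pos_of_ne_zero h3]
      obtain ⟨a, b, hab⟩ := hab
      have hd1 : Nat.card N ∣ p ^ a * q ^ b := by
        rw [← hab, ← hn]; exact Subgroup.card_subgroup_dvd_card N
      have hd2 : Nat.card (G ⧸ N) ∣ p ^ a * q ^ b := by
        rw [← hab, ← hn]; exact Subgroup.card_quotient_dvd_card N
      have : Group.IsSolvable N :=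
        ih _ hlt1 N rfl (exists_eq_pow_mul_pow_of_dvd hp hq hd1)
      have : Group.IsSolvable (G ⧸ N) :=
        ih _ hlt2 (G ⧸ N) rfl (exists_eq_pow_mul_pow_of_dvd hp hq hd2)
      refine Group.isSolvable_of_ker_le_range N.subtype (QuotientGroup.mk' N) ?_
      rw [QuotientGroup.ker_mk', Subgroup.range_subtype]

/-- **Burnside's `p^a q^b` theorem**. -/
theorem isSolvable_of_card_eq_prime_pow_mul_prime_pow {G : Type*} [Group G] [Finite G]
    (p q a b : ℕ) (hp : p.Prime) (hq : q.Prime) (hcard : Nat.card G = p ^ a * q ^ b) :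
    Group.IsSolvable G :=
  isSolvable_of_card_eq_aux hp hq _ G rfl ⟨a, b, hcard⟩

end PQ

end Cfsg.Agent.Lib.H23
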