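import Mathlib
import Cfsg.Agent.Lib.L0.CharBasic
import Cfsg.Agent.Lib.H23.CentralChar
import Cfsg.Agent.Lib.H23.CharGalois

/-!
# Zeros of irreducible characters (helper23)

* `sum_normSq_char_eq_card`: `∑ g, ‖χ g‖² = |G|` for an irreducible representation;
* `sum_sum_normSq_char_pow`: `∑ g, ∑ k ∈ (ℤ/|G|)ˣ, ‖χ (g ^ k)‖² = φ(|G|) ∑ g, ‖χ g‖²`;
* `exists_char_eq_zero`: Burnside: a nonlinear irreducible character has a zero.
-/

set_option autoImplicit false

namespace Cfsg.Agent.Lib.H23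

open Module Cfsg.Agent.Lib.L0
open scoped ComplexConjugate

section

variable {G : Type*} [Group G] [Fintype G] {V : Type*} [AddCommGroup V] [Module ℂ V]
  [FiniteDimensional ℂ V]

theorem sum_char_mul_char_inv (ρ : Representation ℂ G V) [ρ.IsIrreducible] :
    ∑ g : G, ρ.character g * ρ.character g⁻¹ = (Nat.card G : ℂ) := by
  classical
  letI := Cfsg.Agent.Lib.L0.invertibleCard G
  have h := Representation.char_orthonormal ρ ρ
  rw [if_pos ⟨Representation.Equiv.refl ρ⟩] at h
  have hne : (Nat.card G : ℂ) ≠ 0 := by exact_mod_cast (Nat.card_pos (α := G)).ne'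
  field_simp at h
  simpa using h

theorem sum_normSq_char_eq_card (ρ : Representation ℂ G V) [ρ.IsIrreducible] :
    ∑ g : G, ‖ρ.character g‖ ^ 2 = (Nat.card G : ℝ) := by
  have h := sum_char_mul_char_inv ρ
  have h2 : ∑ g : G, ρ.character g * ρ.character g⁻¹ =
      ((∑ g : G, ‖ρ.character g‖ ^ 2 : ℝ) : ℂ) := by
    push_cast
    refine Finset.sum_congr rfl fun g _ => ?_
    rw [char_inv, Complex.mul_conj, Complex.normSq_eq_norm_sq]
    push_cast
    rfl
  rw [h2] at h
  exact_mod_cast h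

/-- Summing `F (g ^ k)` over `g` for `k` a unit modulo `|G|` is the same as summing `F g`. -/
theorem sum_pow_unit_eq {M : Type*} [AddCommMonoid M] (F : G → M) (k : (ZMod (Nat.card G))ˣ) :
    ∑ g : G, F (g ^ (k : ZMod (Nat.card G)).val) = ∑ g : G, F g := by
  have hcop : (Nat.card G).Coprime (k : ZMod (Nat.card G)).val :=
    (ZMod.val_coe_unit_coprime k).symm
  exact Equiv.sum_comp (powCoprime hcop) F

/-- Burnside: an irreducible character of degree greater than one vanishes somewhere. -/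
theorem exists_char_eq_zero (ρ : Representation ℂ G V) [ρ.IsIrreducible]
    (hdeg : 1 < finrank ℂ V) : ∃ g : G, ρ.character g = 0 := by
  classical
  by_contra hcon
  push Not at hcon
  have hcard : NeZero (Nat.card G) := ⟨Nat.card_pos.ne'⟩
  set U := (ZMod (Nat.card G))ˣ with hU
  have hpowone : ∀ g : G, g ^ Nat.card G = 1 := fun g => pow_card_eq_one'
  -- the double sum computed by swapping
  have hswap : ∑ g : G, ∑ k : U, ‖ρ.character (g ^ (k : ZMod (Nat.card G)).val)‖ ^ 2 =
      (Fintype.card U : ℝ) * (Nat.card G : ℝ) := by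
    rw [Finset.sum_comm]
    have : ∀ k : U, ∑ g : G, ‖ρ.character (g ^ (k : ZMod (Nat.card G)).val)‖ ^ 2 =
        (Nat.card G : ℝ) := by
      intro k
      rw [sum_pow_unit_eq (fun g => ‖ρ.character g‖ ^ 2) k, sum_normSq_char_eq_card]
    rw [Finset.sum_congr rfl (fun k _ => this k)]
    simp
  -- lower bound
  have hlow : ∀ g : G, (Fintype.card U : ℝ) ≤
      ∑ k : U, ‖ρ.character (g ^ (k : ZMod (Nat.card G)).val)‖ ^ 2 := fun g =>
    card_units_le_sum_normSq_char_pow (Nat.card G) ρ g (hpowone g) (hcon g)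
  have hone : ∑ k : U, ‖ρ.character ((1 : G) ^ (k : ZMod (Nat.card G)).val)‖ ^ 2 =
      (Fintype.card U : ℝ) * (finrank ℂ V : ℝ) ^ 2 := by
    simp [Representation.char_one]
  have hsplit := Finset.add_sum_erase Finset.univ
    (fun g : G => ∑ k : U, ‖ρ.character (g ^ (k : ZMod (Nat.card G)).val)‖ ^ 2)
    (Finset.mem_univ (1 : G))
  have hrest : ((Finset.univ.erase (1 : G)).card : ℝ) * (Fintype.card U : ℝ) ≤
      ∑ g ∈ Finset.univ.erase (1 : G),
        ∑ k : U, ‖ρ.character (g ^ (k : ZMod (Nat.card G)).val)‖ ^ 2 := by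
    rw [← nsmul_eq_mul, ← Finset.sum_const]
    exact Finset.sum_le_sum fun g _ => hlow g
  have hcardG : ((Finset.univ.erase (1 : G)).card : ℝ) = (Nat.card G : ℝ) - 1 := by
    rw [Finset.card_erase_of_mem (Finset.mem_univ _), Finset.card_univ,
      Nat.card_eq_fintype_card, Nat.cast_sub Fintype.card_pos]
    simp
  have hUpos : (0 : ℝ) < Fintype.card U := by exact_mod_cast Fintype.card_pos
  have hdeg' : (2 : ℝ) ≤ finrank ℂ V := by exact_mod_cast hdeg
  rw [hswap, hone] at hsplit
  rw [hcardG] at hrest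
  have h1 : (Fintype.card U : ℝ) * (finrank ℂ V : ℝ) ^ 2 ≤ (Fintype.card U : ℝ) * 1 := by
    linarith
  have h2 : (finrank ℂ V : ℝ) ^ 2 ≤ 1 := le_of_mul_le_mul_left h1 hUpos
  nlinarith

end

end Cfsg.Agent.Lib.H23
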