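import Cfsg.Agent.Lib.H23.CentralMul
import Cfsg.Agent.Lib.H23.BurnsidePQ
import Cfsg.Agent.Lib.H23.Zeros
import Cfsg.Agent.Lib.L0.CharLinear
import Cfsg.Prelude.Def_Transfer

/-!
# Characters of extraspecial groups (helper23)

* `char_eq_zero_of_commutator_central`: if `c = x⁻¹ g⁻¹ x g` is central and `ρ c ≠ 1` then `χ g = 0`;
* `finrank_eq_one_of_comm`: an irreducible representation with commuting image is one-dimensional;
* for an extraspecial `p`-group `P` of order `p^(2n+1)`: nonlinear irreducible characters vanish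
  off the centre, have degree `p^n`, and there are exactly `p - 1` of them.
-/

set_option autoImplicit false

namespace Cfsg.Agent.Lib.H23

open Module Cfsg.Agent.Lib.L0

section General

variable {G : Type*} [Group G] {V : Type*} [AddCommGroup V] [Module ℂ V] [FiniteDimensional ℂ V]

/-- If the commutator `c = x⁻¹ g⁻¹ x g` is central and acts nontrivially, then `χ g = 0`. -/
theorem char_eq_zero_of_commutator_central (ρ : Representation ℂ G V) [ρ.IsIrreducible] (g x : G)
    (hc : x⁻¹ * g⁻¹ * x * g ∈ Subgroup.center G) (hne : ρ (x⁻¹ * g⁻¹ * x * g) ≠ 1) :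
    ρ.character g = 0 := by
  set c : G := x⁻¹ * g⁻¹ * x * g with hcdef
  obtain ⟨l, hl⟩ := exists_smul_of_mem_center ρ hc
  have hconj : x * g * x⁻¹ = g * c := by
    have h2 : g * c = g * c * x * x⁻¹ := by group
    rw [h2, mul_assoc g c x, ← (Subgroup.mem_center_iff.mp hc) x, hcdef]
    group
  have h1 : ρ.character (g * c) = ρ.character g := by
    rw [← hconj]; exact Representation.char_conj ρ g x
  rw [char_mul_of_eq_smul ρ g c hl] at h1
  have hl1 : l ≠ 1 := by
    intro h
    apply hne
    rw [hl, h, one_smul]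
  have : (l - 1) * ρ.character g = 0 := by linear_combination h1
  rcases mul_eq_zero.mp this with h | h
  · exact absurd (sub_eq_zero.mp h) hl1
  · exact h

/-- An irreducible representation whose operators pairwise commute is one-dimensional. -/
theorem finrank_eq_one_of_comm (ρ : Representation ℂ G V) [ρ.IsIrreducible]
    (h : ∀ a b : G, ρ (a * b) = ρ (b * a)) : finrank ℂ V = 1 := by
  apply finrank_eq_one_of_forall_smul ρ
  intro a
  obtain ⟨c, hc⟩ := exists_scalar_of_commute ρ (ρ a) (by
    intro b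
    rw [← Module.End.mul_eq_comp, ← Module.End.mul_eq_comp, ← map_mul, ← map_mul, h])
  exact ⟨c, hc⟩

end General

section Extraspecial

variable {P : Type*} [Group P] [Fintype P] {V : Type*} [AddCommGroup V] [Module ℂ V]
  [FiniteDimensional ℂ V]

omit [Fintype P] in
/-- In an extraspecial group a nonlinear irreducible representation is faithful on the centre. -/
theorem rep_ne_one_of_mem_center_of_extraspecial (p : ℕ) [hp : Fact p.Prime]
    (hP : Cfsg.IsExtraspecial p P) (ρ : Representation ℂ P V) [ρ.IsIrreducible]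
    (hdim : finrank ℂ V ≠ 1) {z : P} (hz : z ∈ Subgroup.center P) (hz1 : z ≠ 1) : ρ z ≠ 1 := by
  intro hρz
  apply hdim
  apply finrank_eq_one_of_comm ρ
  -- every central element acts trivially
  have hZ : ∀ w ∈ Subgroup.center P, ρ w = 1 := by
    intro w hw
    have hmem : (⟨w, hw⟩ : Subgroup.center P) ∈
        Subgroup.zpowers (⟨z, hz⟩ : Subgroup.center P) :=
      mem_zpowers_of_prime_card hP.2 (by
        intro h
        exact hz1 (congrArg Subtype.val h))
    obtain ⟨k, hk⟩ := Subgroup.mem_zpowers_iff.mp hmem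
    have hk' : z ^ k = w := by
      have := congrArg Subtype.val hk
      simpa using this
    have hzker : z ∈ (ρ : P →* (V →ₗ[ℂ] V)).ker := MonoidHom.mem_ker.mpr hρz
    have hwker : w ∈ (ρ : P →* (V →ₗ[ℂ] V)).ker := by
      rw [← hk']
      exact Subgroup.zpow_mem _ hzker k
    exact MonoidHom.mem_ker.mp hwker
  intro a b
  have hcomm : a⁻¹ * b⁻¹ * a * b ∈ Subgroup.center P := by
    rw [← hP.1.2.2]
    have : a⁻¹ * b⁻¹ * a * b = a⁻¹ * b⁻¹ * (a⁻¹)⁻¹ * (b⁻¹)⁻¹ := by group
    rw [this, commutator_def]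
    exact Subgroup.commutator_mem_commutator (Subgroup.mem_top (a⁻¹)) (Subgroup.mem_top (b⁻¹))
  have h1 : a * b = b * a * (a⁻¹ * b⁻¹ * a * b) := by group
  rw [h1, map_mul, hZ _ hcomm, mul_one]

omit [Fintype P] in
/-- In an extraspecial group a nonlinear irreducible character vanishes off the centre. -/
theorem char_eq_zero_of_not_mem_center_of_extraspecial (p : ℕ) [hp : Fact p.Prime]
    (hP : Cfsg.IsExtraspecial p P) (ρ : Representation ℂ P V) [ρ.IsIrreducible]
    (hdim : finrank ℂ V ≠ 1) {g : P} (hg : g ∉ Subgroup.center P) : ρ.character g = 0 := by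
  rw [Subgroup.mem_center_iff] at hg
  push Not at hg
  obtain ⟨x, hx⟩ := hg
  have hcomm : x⁻¹ * g⁻¹ * x * g ∈ Subgroup.center P := by
    rw [← hP.1.2.2]
    have : x⁻¹ * g⁻¹ * x * g = x⁻¹ * g⁻¹ * (x⁻¹)⁻¹ * (g⁻¹)⁻¹ := by group
    rw [this, commutator_def]
    exact Subgroup.commutator_mem_commutator (Subgroup.mem_top (x⁻¹)) (Subgroup.mem_top (g⁻¹))
  have hne1 : x⁻¹ * g⁻¹ * x * g ≠ 1 := by
    intro h
    apply hx
    have : x * g = g * x * (x⁻¹ * g⁻¹ * x * g) := by group
    rw [this, h, mul_one]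
  exact char_eq_zero_of_commutator_central ρ g x hcomm
    (rep_ne_one_of_mem_center_of_extraspecial p hP ρ hdim hcomm hne1)

/-- A nonlinear irreducible representation of an extraspecial group of order `p^(2n+1)` has
degree `p^n`. -/
theorem finrank_eq_of_extraspecial (p n : ℕ) [hp : Fact p.Prime]
    (hP : Cfsg.IsExtraspecial p P) (hcard : Nat.card P = p ^ (2 * n + 1))
    (ρ : Representation ℂ P V) [ρ.IsIrreducible] (hdim : finrank ℂ V ≠ 1) :
    finrank ℂ V = p ^ n := by
  classical
  have hsum := sum_normSq_char_eq_card ρ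
  have h1 : ∑ g : P, ‖ρ.character g‖ ^ 2 =
      ∑ g ∈ Finset.univ.filter (fun g : P => g ∈ Subgroup.center P), ((finrank ℂ V : ℝ)) ^ 2 := by
    rw [Finset.sum_filter]
    refine Finset.sum_congr rfl (fun g _ => ?_)
    by_cases hg : g ∈ Subgroup.center P
    · rw [if_pos hg]
      have := (norm_char_eq_finrank_iff ρ g).mpr (exists_smul_of_mem_center ρ hg)
      rw [this]
    · rw [if_neg hg, char_eq_zero_of_not_mem_center_of_extraspecial p hP ρ hdim hg]
      simp
  rw [h1, Finset.sum_const, nsmul_eq_mul] at hsum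
  have hZcard : (Finset.univ.filter (fun g : P => g ∈ Subgroup.center P)).card = p := by
    rw [← hP.2, Nat.card_eq_fintype_card, Fintype.card_subtype]
  rw [hZcard, hcard] at hsum
  have h2 : p * finrank ℂ V ^ 2 = p ^ (2 * n + 1) := by exact_mod_cast hsum
  have h3 : finrank ℂ V ^ 2 = (p ^ n) ^ 2 := by
    have hp0 : 0 < p := hp.out.pos
    have : p * finrank ℂ V ^ 2 = p * (p ^ n) ^ 2 := by
      rw [h2]; ring
    exact Nat.eq_of_mul_eq_mul_left hp0 this
  exact Nat.pow_left_injective (by norm_num : 2 ≠ 0) h3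

/-- Degrees of the irreducible characters of an extraspecial group. -/
theorem irr_one_of_extraspecial (p n : ℕ) [hp : Fact p.Prime]
    (hP : Cfsg.IsExtraspecial p P) (hcard : Nat.card P = p ^ (2 * n + 1))
    (χ : Cfsg.IrrCharacter P) : (χ : P → ℂ) 1 = 1 ∨ (χ : P → ℂ) 1 = (p : ℂ) ^ n := by
  obtain ⟨m, ρ, hirr, hχ⟩ := χ.2
  have : ρ.IsIrreducible := hirr
  rw [← hχ, Representation.char_one]
  by_cases hdim : finrank ℂ (Fin m → ℂ) = 1
  · left; rw [hdim]; simp
  · right
    rw [finrank_eq_of_extraspecial p n hP hcard ρ hdim]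
    push_cast
    rfl

omit [Fintype P] in
/-- An extraspecial group of order `p^(2n+1)` has `n ≠ 0`. -/
theorem extraspecial_exponent_ne_zero [Finite P] (p n : ℕ) [hp : Fact p.Prime]
    (hP : Cfsg.IsExtraspecial p P) (hcard : Nat.card P = p ^ (2 * n + 1)) : n ≠ 0 := by
  intro hn
  rw [hn, mul_zero, zero_add, pow_one] at hcard
  have htop : Subgroup.center P = ⊤ := by
    apply (Subgroup.card_eq_iff_eq_top _).mp
    rw [hP.2, hcard]
  have hbot : commutator P = ⊥ := by
    rw [commutator_def, Subgroup.commutator_top_left_eq_bot_iff_le_center, htop]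
  rw [hP.1.2.2] at hbot
  have := hP.2
  rw [hbot, Subgroup.card_bot] at this
  exact hp.out.one_lt.ne this

/-- An extraspecial group of order `p^(2n+1)` has exactly `p - 1` irreducible characters of degree
`p^n`. -/
theorem card_irr_pow_of_extraspecial (p n : ℕ) [hp : Fact p.Prime]
    (hP : Cfsg.IsExtraspecial p P) (hcard : Nat.card P = p ^ (2 * n + 1)) :
    Nat.card {χ : Cfsg.IrrCharacter P // (χ : P → ℂ) 1 = (p : ℂ) ^ n} = p - 1 := by
  classical
  have := Fintype.ofFinite (Cfsg.IrrCharacter P)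
  have hn := extraspecial_exponent_ne_zero p n hP hcard
  have hp1 : 1 < p := hp.out.one_lt
  have hpn1 : (p : ℂ) ^ n ≠ 1 := by
    have : (p ^ n : ℕ) ≠ 1 := by
      intro h
      rcases (Nat.pow_eq_one.mp h) with h1 | h1
      · omega
      · exact hn h1
    exact_mod_cast this
  -- number of linear characters
  have hlin := card_linear_irr (G := P)
  have hidx : (commutator P).index = p ^ (2 * n) := by
    have h1 := Subgroup.card_mul_index (commutator P)
    rw [hP.1.2.2, hP.2, hcard] at h1
    have : p * (Subgroup.center P).index = p * p ^ (2 * n) := by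
      rw [h1]; ring
    rw [hP.1.2.2]
    exact Nat.eq_of_mul_eq_mul_left hp.out.pos this
  rw [hidx, Nat.card_eq_fintype_card, Fintype.card_subtype] at hlin
  -- the sum of squares of degrees
  have hsq := Cfsg.Agent.Lib.H24.sum_irr_one_sq (G := P)
  rw [← Finset.sum_filter_add_sum_filter_not Finset.univ
    (fun χ : Cfsg.IrrCharacter P => (χ : P → ℂ) 1 = 1)] at hsq
  have h1 : ∑ χ ∈ Finset.univ.filter (fun χ : Cfsg.IrrCharacter P => (χ : P → ℂ) 1 = 1),
      (χ : P → ℂ) 1 ^ 2 = (p ^ (2 * n) : ℕ) := by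
    rw [Finset.sum_congr rfl (g := fun _ => (1 : ℂ))]
    · rw [Finset.sum_const, hlin]; simp
    · intro χ hχ
      rw [(Finset.mem_filter.mp hχ).2, one_pow]
  have h2 : ∑ χ ∈ Finset.univ.filter (fun χ : Cfsg.IrrCharacter P => ¬ (χ : P → ℂ) 1 = 1),
      (χ : P → ℂ) 1 ^ 2 =
      ((Finset.univ.filter (fun χ : Cfsg.IrrCharacter P => ¬ (χ : P → ℂ) 1 = 1)).card *
        p ^ (2 * n) : ℕ) := by
    rw [Finset.sum_congr rfl (g := fun _ => ((p : ℂ) ^ n) ^ 2)]
    · rw [Finset.sum_const]; push_cast; ring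
    · intro χ hχ
      rcases irr_one_of_extraspecial p n hP hcard χ with h | h
      · exact absurd h (Finset.mem_filter.mp hχ).2
      · rw [h]
  rw [h1, h2, hcard] at hsq
  have h3 : p ^ (2 * n) + (Finset.univ.filter
      (fun χ : Cfsg.IrrCharacter P => ¬ (χ : P → ℂ) 1 = 1)).card * p ^ (2 * n) =
      p ^ (2 * n + 1) := by exact_mod_cast hsq
  have hpos : 0 < p ^ (2 * n) := pow_pos hp.out.pos _
  have h4 : (1 + (Finset.univ.filter
      (fun χ : Cfsg.IrrCharacter P => ¬ (χ : P → ℂ) 1 = 1)).card) * p ^ (2 * n) =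
      p * p ^ (2 * n) := by
    rw [add_mul, one_mul, h3]; ring
  have h5 := Nat.eq_of_mul_eq_mul_right hpos h4
  -- identify the two subtypes
  have hset : Nat.card {χ : Cfsg.IrrCharacter P // (χ : P → ℂ) 1 = (p : ℂ) ^ n} =
      (Finset.univ.filter (fun χ : Cfsg.IrrCharacter P => ¬ (χ : P → ℂ) 1 = 1)).card := by
    rw [Nat.card_eq_fintype_card, Fintype.card_subtype]
    congr 1
    ext χ
    simp only [Finset.mem_filter, Finset.mem_univ, true_and]
    constructor
    · intro h
      rw [h]; exact hpn1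
    · intro h
      rcases irr_one_of_extraspecial p n hP hcard χ with h' | h'
      · exact absurd h' h
      · exact h'
  rw [hset]
  omega

end Extraspecial

end Cfsg.Agent.Lib.H23
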