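import Cfsg.Agent.Lib.H23.CliffordCorr
import Cfsg.Agent.Lib.H23.Extraspecial
import Cfsg.Agent.Lib.H23.CenterIndex
import Cfsg.Agent.Lib.H24.CharComplete

/-!
# Inertia groups and Itô's theorem (helper23)

* `inertia H ϑ`: the inertia group of a function `ϑ` on the normal subgroup `H`, as a subgroup of
  `G`; `mem_inertia`, `le_inertia`;
* `norm_irr_eq_one_of_comm`: irreducible characters of abelian groups have absolute value `1`;
* `exists_irr_constituent`: a character with `χ 1 ≠ 0` has an irreducible constituent;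
* `ito_char`: `χ(1) ∣ |G : A|` for `A` abelian normal (character form).
-/

set_option autoImplicit false

namespace Cfsg.Agent.Lib.H23

open Cfsg.Agent.Lib.L0 Module
open scoped ComplexConjugate

section Inertia

variable {G : Type*} [Group G]

/-- The inertia group of the function `ϑ` on the normal subgroup `H`. -/
def inertia (H : Subgroup G) [hN : H.Normal] (ϑ : H → ℂ) : Subgroup G where
  carrier := {g | ∀ n : H, ϑ ⟨g * n * g⁻¹, hN.conj_mem (n : G) n.2 g⟩ = ϑ n}
  one_mem' := by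
    intro n
    congr 1
    ext
    simp
  mul_mem' := by
    intro a b ha hb n
    have h1 := ha ⟨b * n * b⁻¹, hN.conj_mem (n : G) n.2 b⟩
    rw [← hb n, ← h1]
    congr 1
    ext
    simp [mul_assoc]
  inv_mem' := by
    intro a ha n
    have h1 := ha ⟨a⁻¹ * n * a⁻¹⁻¹, hN.conj_mem (n : G) n.2 a⁻¹⟩
    rw [← h1]
    congr 1
    ext
    simp [mul_assoc]

theorem mem_inertia (H : Subgroup G) [hN : H.Normal] (ϑ : H → ℂ) (g : G) :
    g ∈ inertia H ϑ ↔ ∀ n : H, ϑ ⟨g * n * g⁻¹, hN.conj_mem (n : G) n.2 g⟩ = ϑ n := Iff.rfl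

theorem le_inertia (H : Subgroup G) [hN : H.Normal] {ϑ : H → ℂ}
    (hϑ : Cfsg.IsClassFunction H ϑ) : H ≤ inertia H ϑ := by
  intro h hh n
  have := hϑ n ⟨h, hh⟩
  rw [← this]
  congr 1

end Inertia

section Abelian

variable {A : Type*} [Group A] [Finite A]

/-- Irreducible characters of abelian groups have absolute value `1` everywhere. -/
theorem norm_irr_eq_one_of_comm (hA : ∀ a b : A, a * b = b * a) {ϑ : A → ℂ}
    (hϑ : Cfsg.IsIrrCharacter A ϑ) (a : A) : ‖ϑ a‖ = 1 := by
  obtain ⟨n, σ, hirr, rfl⟩ := hϑ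
  have := hirr
  have h1 : finrank ℂ (Fin n → ℂ) = 1 :=
    finrank_eq_one_of_comm σ (fun a b => by rw [hA a b])
  obtain ⟨c, hc⟩ := exists_scalar_of_commute σ (σ a) (by
    intro b
    rw [← Module.End.mul_eq_comp, ← Module.End.mul_eq_comp, ← map_mul, ← map_mul, hA])
  have := (norm_char_eq_finrank_iff σ a).mpr ⟨c, hc⟩
  rw [this, h1]
  simp

end Abelian

section Constituent

variable {G : Type*} [Group G] [Fintype G]

/-- A character with nonzero degree has an irreducible constituent. -/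
theorem exists_irr_constituent {χ : G → ℂ} (hχ : Cfsg.IsCharacter G χ) (h1 : χ 1 ≠ 0) :
    ∃ ϑ : G → ℂ, Cfsg.IsIrrCharacter G ϑ ∧ Cfsg.classInner χ ϑ ≠ 0 := by
  classical
  obtain ⟨l, hl, hsum⟩ := isCharacter_exists_irr_decomp hχ
  match l, hl, hsum with
  | [], _, hsum =>
    exfalso
    apply h1
    rw [hsum]
    rfl
  | ϑ :: r, hl, hsum =>
    refine ⟨ϑ, hl ϑ (by simp), ?_⟩
    rw [hsum, classInner_irr_list_sum hl (hl ϑ (by simp))]
    exact Nat.cast_ne_zero.mpr (List.count_pos_iff.mpr (by simp)).ne'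

end Constituent

section Ito

variable {G : Type*} [Group G] [Fintype G]

/-- **Itô's theorem**, character form. -/
theorem ito_char (H : Subgroup G) [hN : H.Normal] (hH : ∀ a ∈ H, ∀ b ∈ H, a * b = b * a)
    {χ : G → ℂ} (hχ : Cfsg.IsIrrCharacter G χ) : ∃ d : ℕ, χ 1 = d ∧ d ∣ H.index := by
  classical
  have : Fintype H := Fintype.ofFinite _
  have hχH : Cfsg.IsCharacter H (fun n : H => χ n) :=
    isCharacter_restrict H (isCharacter_of_irr hχ)
  have hχ1 : χ 1 ≠ 0 := Cfsg.Agent.Lib.H24.irr_one_ne_zero ⟨χ, hχ⟩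
  obtain ⟨ϑ, hϑ, hcon⟩ := exists_irr_constituent hχH (by simpa using hχ1)
  set T : Subgroup G := inertia H ϑ with hTdef
  have : Fintype T := Fintype.ofFinite _
  have hHT : H ≤ T := le_inertia H (isClassFunction_of_isCharacter (isCharacter_of_irr hϑ))
  obtain ⟨ψ, hψ, hind, hmult⟩ :=
    clifford_correspondence H T hHT ϑ hϑ (fun g => Iff.rfl) χ hχ hcon
  have hres := restrict_inertia_eq_smul H T hHT ϑ hϑ (fun g hg => hg) ψ hψ
    (by rw [hmult]; exact hcon)
  set e := Cfsg.classInner (resTo H T hHT ψ) ϑ with he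
  have hab : ∀ a b : H, a * b = b * a := by
    intro a b
    ext
    exact hH a a.2 b b.2
  have hnorm : ∀ n : H, ‖ψ ⟨(n : G), hHT n.2⟩‖ = ‖e‖ := by
    intro n
    have h1 : ψ ⟨(n : G), hHT n.2⟩ = e * ϑ n := by
      have := congrFun hres n
      simpa [resTo] using this
    rw [h1, norm_mul, norm_irr_eq_one_of_comm hab hϑ n, mul_one]
  obtain ⟨m, σ, hσirr, hσ⟩ := hψ
  have := hσirr
  have hψ1 : ψ 1 = m := by
    rw [← hσ, Representation.char_one]
    simp
  have hscal : ∀ t ∈ H.subgroupOf T, ∃ c : ℂ, σ t = c • 1 := by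
    intro t ht
    rw [Subgroup.mem_subgroupOf] at ht
    apply (norm_char_eq_finrank_iff σ t).mp
    have h1 := hnorm ⟨(t : G), ht⟩
    have h2 := hnorm 1
    have h3 : (⟨((1 : H) : G), hHT (1 : H).2⟩ : T) = 1 := rfl
    rw [h3, hψ1] at h2
    have h4 : (⟨((⟨(t : G), ht⟩ : H) : G), hHT ht⟩ : T) = t := rfl
    rw [h4] at h1
    rw [hσ, h1, ← h2]
    simp
  have hdvd := finrank_dvd_index_of_forall_smul σ (H.subgroupOf T) hscal
  rw [Module.finrank_fin_fun] at hdvd
  refine ⟨T.index * m, ?_, ?_⟩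
  · rw [← hind, indFun_one', hψ1]
    push_cast
    rfl
  · rw [← Subgroup.relIndex_mul_index hHT, mul_comm]
    exact Nat.mul_dvd_mul_right hdvd _

end Ito

end Cfsg.Agent.Lib.H23
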