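import Cfsg.Agent.S0174
import Cfsg.Agent.S0193
import Cfsg.Agent.Lib.L0.CharIndChar

/-!
# Restriction to a normal subgroup: invariant constituents and vanishing off the subgroup (helper23)

* `restrict_eq_smul_of_invariant`: Clifford for an invariant constituent: `χ_N = ⟨χ_N, ϑ⟩ • ϑ`;
* `sum_normSq_subgroup_le`, `sum_normSq_subgroup_eq_iff`: `∑_{n ∈ N} |f n|² ≤ ∑_{g ∈ G} |f g|²` with
  equality iff `f` vanishes off `N`;
* `classInner_restrict_self_eq_index_iff`: for irreducible `χ`, `⟨χ_N, χ_N⟩ = |G:N|` iff `χ` vanishes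
  off `N`;
* `indFun_one'`: `(Ind ϑ)(1) = |G:N| ϑ(1)`.
-/

set_option autoImplicit false

namespace Cfsg.Agent.Lib.H23

open Cfsg.Agent.Lib.L0
open scoped ComplexConjugate

section

variable {G : Type*} [Group G] [Fintype G] (N : Subgroup G)

/-- Clifford's theorem for an invariant constituent. -/
theorem restrict_eq_smul_of_invariant [hN : N.Normal] [Fintype N] (χ : G → ℂ)
    (hχ : Cfsg.IsIrrCharacter G χ) (ϑ : N → ℂ) (hϑ : Cfsg.IsIrrCharacter N ϑ)
    (hcon : Cfsg.classInner (fun n : N => χ n) ϑ ≠ 0)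
    (hinv : ∀ (g : G) (n : N), ϑ ⟨g * n * g⁻¹, hN.conj_mem (n : G) n.2 g⟩ = ϑ n) :
    (fun n : N => χ n) = Cfsg.classInner (fun n : N => χ n) ϑ • ϑ := by
  have h := Cfsg.Agent.S0174.result N hN χ hχ ϑ hϑ hcon
  have hset : {ψ : N → ℂ | ∃ g : G, ψ = fun n : N => ϑ ⟨g * n * g⁻¹, hN.conj_mem n n.2 g⟩} =
      {ϑ} := by
    ext ψ
    simp only [Set.mem_ofPred_eq, Set.mem_singleton_iff]
    constructor
    · rintro ⟨g, rfl⟩
      funext n
      exact hinv g n
    · rintro rfl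
      exact ⟨1, by funext n; exact (hinv 1 n).symm⟩
  rw [hset, finsum_mem_singleton] at h
  exact h

/-- `∑_{n ∈ N} |f n|² ≤ ∑_{g ∈ G} |f g|²`. -/
theorem sum_normSq_subgroup_le [Fintype N] (f : G → ℂ) :
    ∑ n : N, ‖f n‖ ^ 2 ≤ ∑ g : G, ‖f g‖ ^ 2 := by
  classical
  have h1 : ∑ n : N, ‖f n‖ ^ 2 = ∑ g ∈ Finset.univ.filter (fun g : G => g ∈ N), ‖f g‖ ^ 2 := by
    rw [← Finset.sum_subtype (Finset.univ.filter (fun g : G => g ∈ N))
      (p := fun g => g ∈ N) (by simp) (fun g => ‖f g‖ ^ 2)]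
  rw [h1]
  exact Finset.sum_le_sum_of_subset_of_nonneg (Finset.filter_subset _ _)
    (fun g _ _ => sq_nonneg _)

/-- Equality holds iff `f` vanishes off `N`. -/
theorem sum_normSq_subgroup_eq_iff [Fintype N] (f : G → ℂ) :
    ∑ n : N, ‖f n‖ ^ 2 = ∑ g : G, ‖f g‖ ^ 2 ↔ ∀ g : G, g ∉ N → f g = 0 := by
  classical
  have h1 : ∑ n : N, ‖f n‖ ^ 2 = ∑ g ∈ Finset.univ.filter (fun g : G => g ∈ N), ‖f g‖ ^ 2 := by
    rw [← Finset.sum_subtype (Finset.univ.filter (fun g : G => g ∈ N))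
      (p := fun g => g ∈ N) (by simp) (fun g => ‖f g‖ ^ 2)]
  have h2 := Finset.sum_filter_add_sum_filter_not Finset.univ (fun g : G => g ∈ N)
    (fun g => ‖f g‖ ^ 2)
  rw [h1, ← h2]
  constructor
  · intro h g hg
    have h3 : ∑ g ∈ Finset.univ.filter (fun g : G => ¬ g ∈ N), ‖f g‖ ^ 2 = 0 := by linarith
    have h4 := (Finset.sum_eq_zero_iff_of_nonneg (fun g _ => sq_nonneg ‖f g‖)).mp h3 g
      (Finset.mem_filter.mpr ⟨Finset.mem_univ _, hg⟩)
    simpa using h4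
  · intro h
    have h3 : ∑ g ∈ Finset.univ.filter (fun g : G => ¬ g ∈ N), ‖f g‖ ^ 2 = 0 := by
      apply Finset.sum_eq_zero
      intro g hg
      rw [h g (Finset.mem_filter.mp hg).2]
      simp
    linarith

/-- For an irreducible character, `⟨χ_N, χ_N⟩ = |G : N|` iff `χ` vanishes off `N`. -/
theorem classInner_restrict_self_eq_index_iff [Fintype N] (χ : G → ℂ)
    (hχ : Cfsg.IsIrrCharacter G χ) :
    Cfsg.classInner (fun n : N => χ n) (fun n : N => χ n) = (N.index : ℂ) ↔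
      ∀ g : G, g ∉ N → χ g = 0 := by
  have h1 := irr_classInner_self hχ
  rw [classInner_self_eq] at h1
  have hG : (0 : ℝ) < Nat.card G := by exact_mod_cast Nat.card_pos
  have hNpos : (0 : ℝ) < Nat.card N := by exact_mod_cast Nat.card_pos
  have hsumG : ∑ g : G, ‖χ g‖ ^ 2 = (Nat.card G : ℝ) := by
    have : (Nat.card G : ℝ)⁻¹ * ∑ g : G, ‖χ g‖ ^ 2 = 1 := by exact_mod_cast h1
    field_simp at this
    linarith
  rw [classInner_self_eq, ← sum_normSq_subgroup_eq_iff N χ, hsumG]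
  have hidx : (Nat.card G : ℝ) = (Nat.card N : ℝ) * (N.index : ℝ) := by
    exact_mod_cast (Subgroup.card_mul_index N).symm
  constructor
  · intro h
    have h2 : (Nat.card N : ℝ)⁻¹ * ∑ n : N, ‖χ n‖ ^ 2 = (N.index : ℝ) := by exact_mod_cast h
    rw [hidx, ← h2]
    field_simp
  · intro h
    rw [h, hidx]
    push_cast
    field_simp

/-- The degree of an induced function. -/
theorem indFun_one' (θ : N → ℂ) : Cfsg.indFun N θ 1 = (N.index : ℂ) * θ 1 := by
  rw [indFun_apply]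
  have h1 : ∀ x : G, Cfsg.extendByZero N θ (x⁻¹ * 1 * x) = θ 1 := by
    intro x
    have : x⁻¹ * 1 * x = ((1 : N) : G) := by simp
    rw [this, extendByZero_apply_mem]
  rw [Finset.sum_congr rfl (fun x _ => h1 x), Finset.sum_const, Finset.card_univ, nsmul_eq_mul,
    ← Nat.card_eq_fintype_card, ← Subgroup.card_mul_index N]
  have hA : (Nat.card N : ℂ) ≠ 0 := Nat.cast_ne_zero.mpr Nat.card_pos.ne'
  push_cast
  field_simp

end

end Cfsg.Agent.Lib.H23
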