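import Mathlib
import Cfsg.Prelude.Def_Blocks
import Cfsg.Agent.Lib.H23.BlockInduce
import Cfsg.Agent.Lib.H23.BlockHom
import Cfsg.Agent.Lib.H23.BlockIdem
import Cfsg.Agent.Lib.L0.BlockNormal
import Cfsg.Agent.Lib.L0.BlockAut
import Cfsg.Agent.Lib.H8.Clifford
import Cfsg.Agent.Lib.H12.CliffordHom
import Cfsg.Agent.Lib.H23.Ito
import Cfsg.Agent.Lib.L0.BlockCover
import Cfsg.Agent.Lib.L0.BlockPReg

/-!
# Blocks of a normal subgroup covered by a block (helper23)

`N` normal in `G`.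
* `conjIrr N θ g` : the conjugate character `n ↦ θ (g n g⁻¹)` as an `IrrCharacter N`.
* `orbitSet N b` : the union of the `G`-conjugates of a set `b` of irreducible characters of `N`.
* `orbitIdem N b` : the idempotent of `orbitSet N b`, viewed in `ℂ[G]`; central, with local integer
  coefficients when `b` is a block.
* `exists_conj_mem_of_sameBlock` : constituents of the restrictions of two characters in the same
  block of `G` lie in `G`-conjugate blocks of `N`.
-/

set_option autoImplicit false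

namespace Cfsg.Agent.Lib.H23

open Cfsg MonoidAlgebra Cfsg.Agent.Lib.H24 Cfsg.Agent.Lib.L0
open scoped ComplexConjugate

section UnionOfBlocks

variable {G : Type*} [Group G] [Fintype G] {p : ℕ} {M : Ideal AlgInt}

open scoped Classical in
/-- The idempotent of a union of blocks is the sum of the block idempotents. -/
theorem blockIdem_eq_sum_of_union [Fintype (IrrCharacter G)] [hP : M.IsPrime]
    (A : Set (IrrCharacter G)) (hA : ∀ θ ∈ A, blockOf M (θ : G → ℂ) ⊆ A) :
    blockIdem A = ∑ B ∈ (Finset.univ.image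
      (fun χ : IrrCharacter G => blockOf M (χ : G → ℂ))).filter (fun B => B ⊆ A), blockIdem B := by
  refine eq_of_forall_omega_eq (blockIdem_mem_center A)
    (Subalgebra.sum_mem _ (fun B _ => blockIdem_mem_center B)) ?_
  intro ψ
  rw [omega_sum]
  simp only [omega_blockIdem]
  by_cases hψ : ψ ∈ A
  · rw [if_pos hψ, Finset.sum_eq_single (blockOf M (ψ : G → ℂ))]
    · rw [if_pos (mem_blockOf_self ψ)]
    · intro B hB hne
      rw [if_neg]
      intro hψB
      apply hne
      obtain ⟨χ, _, rfl⟩ := Finset.mem_image.1 (Finset.mem_filter.1 hB).1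
      exact (blockOf_eq_of_mem hψB).symm
    · intro h
      exfalso
      apply h
      rw [Finset.mem_filter]
      exact ⟨Finset.mem_image.2 ⟨ψ, Finset.mem_univ _, rfl⟩, hA ψ hψ⟩
  · rw [if_neg hψ]
    symm
    apply Finset.sum_eq_zero
    intro B hB
    rw [if_neg]
    intro hψB
    exact hψ ((Finset.mem_filter.1 hB).2 hψB)

/-- The idempotent of a union of blocks has local integer coefficients. -/
theorem blockIdem_mem_intCoeff_of_union [hP : M.IsPrime] (hM : IsPModular p M)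
    (A : Set (IrrCharacter G)) (hA : ∀ θ ∈ A, blockOf M (θ : G → ℂ) ⊆ A) :
    blockIdem A ∈ intCoeff (G := G) M := by
  classical
  haveI := Fintype.ofFinite (IrrCharacter G)
  rw [blockIdem_eq_sum_of_union A hA]
  refine Subring.sum_mem _ fun B hB => ?_
  obtain ⟨χ, _, rfl⟩ := Finset.mem_image.1 (Finset.mem_filter.1 hB).1
  exact fun g => blockIdem_memLocalRing hM χ g

end UnionOfBlocks

section Conj

variable {G : Type*} [Group G] (N : Subgroup G) [hN : N.Normal]

/-- The conjugate `θ^g : n ↦ θ (g n g⁻¹)` of an irreducible character of a normal subgroup. -/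
noncomputable def conjIrr (θ : IrrCharacter N) (g : G) : IrrCharacter N :=
  ⟨fun n : N => (θ : N → ℂ) ⟨g * n * g⁻¹, hN.conj_mem n n.2 g⟩,
    Cfsg.Agent.Lib.H8.isIrrCharacter_conjNormal N θ θ.2 g⟩

theorem conjIrr_apply (θ : IrrCharacter N) (g : G) (n : N) :
    (conjIrr N θ g : N → ℂ) n = (θ : N → ℂ) ⟨g * n * g⁻¹, hN.conj_mem n n.2 g⟩ := rfl

theorem conjIrr_apply_one (θ : IrrCharacter N) (g : G) :
    (conjIrr N θ g : N → ℂ) 1 = (θ : N → ℂ) 1 := by
  rw [conjIrr_apply]
  exact congrArg (θ : N → ℂ) (Subtype.ext (by simp))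

theorem conjIrr_eq_cj (θ : IrrCharacter N) (g : G) :
    conjIrr N θ g = BlockAut.cj (MulAut.conjNormal g : MulAut N)⁻¹ θ := by
  apply Subtype.ext
  funext n
  rw [BlockAut.cj_apply, inv_inv, conjIrr_apply]
  exact congrArg (θ : N → ℂ) (Subtype.ext (by simp [MulAut.conjNormal_apply]))

theorem conjIrr_one (θ : IrrCharacter N) : conjIrr N θ 1 = θ := by
  apply Subtype.ext
  funext n
  rw [conjIrr_apply]
  exact congrArg (θ : N → ℂ) (Subtype.ext (by simp))

theorem conjIrr_conjIrr (θ : IrrCharacter N) (g h : G) :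
    conjIrr N (conjIrr N θ g) h = conjIrr N θ (g * h) := by
  apply Subtype.ext
  funext n
  rw [conjIrr_apply, conjIrr_apply, conjIrr_apply]
  refine congrArg (θ : N → ℂ) (Subtype.ext ?_)
  show g * (h * n * h⁻¹) * g⁻¹ = g * h * n * (g * h)⁻¹
  group

theorem conjIrr_inv_cancel (θ : IrrCharacter N) (g : G) :
    conjIrr N (conjIrr N θ g) g⁻¹ = θ := by
  rw [conjIrr_conjIrr, mul_inv_cancel, conjIrr_one]

theorem conjIrr_inv_cancel' (θ : IrrCharacter N) (g : G) :
    conjIrr N (conjIrr N θ g⁻¹) g = θ := by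
  rw [conjIrr_conjIrr, inv_mul_cancel, conjIrr_one]

theorem sameBlock_conjIrr {M : Ideal AlgInt} {θ ψ : IrrCharacter N}
    (h : SameBlock M (θ : N → ℂ) (ψ : N → ℂ)) (g : G) :
    SameBlock M (conjIrr N θ g : N → ℂ) (conjIrr N ψ g : N → ℂ) := by
  rw [conjIrr_eq_cj, conjIrr_eq_cj]
  exact BlockAut.sameBlock_cj _ h

/-- The union of the `G`-conjugates of a set of irreducible characters of `N`. -/
def orbitSet (b : Set (IrrCharacter N)) : Set (IrrCharacter N) :=
  {θ | ∃ g : G, conjIrr N θ g ∈ b}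

theorem subset_orbitSet (b : Set (IrrCharacter N)) : b ⊆ orbitSet N b := by
  intro θ hθ
  exact ⟨1, by rwa [conjIrr_one]⟩

theorem conjIrr_mem_orbitSet_iff (b : Set (IrrCharacter N)) (θ : IrrCharacter N) (g : G) :
    conjIrr N θ g ∈ orbitSet N b ↔ θ ∈ orbitSet N b := by
  constructor
  · rintro ⟨h, hh⟩
    rw [conjIrr_conjIrr] at hh
    exact ⟨g * h, hh⟩
  · rintro ⟨h, hh⟩
    refine ⟨g⁻¹ * h, ?_⟩
    rw [conjIrr_conjIrr, mul_inv_cancel_left]
    exact hh

theorem blockOf_subset_orbitSet {M : Ideal AlgInt} [hP : M.IsPrime] (θ₁ : IrrCharacter N)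
    {θ : IrrCharacter N} (hθ : θ ∈ orbitSet N (blockOf M (θ₁ : N → ℂ))) :
    blockOf M (θ : N → ℂ) ⊆ orbitSet N (blockOf M (θ₁ : N → ℂ)) := by
  intro φ hφ
  obtain ⟨g, hg⟩ := hθ
  exact ⟨g, sameBlock_trans hg (sameBlock_conjIrr N hφ g)⟩

end Conj

section ExtAlg

variable {G : Type*} [Group G] [Fintype G] (N : Subgroup G) [Fintype N]

open scoped Classical in
/-- Extension by zero of an element of `ℂ[N]` to `ℂ[G]`. -/
noncomputable def extAlg (w : MonoidAlgebra ℂ N) : MonoidAlgebra ℂ G :=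
  ofFun (fun g : G => if h : g ∈ N then w.coeff ⟨g, h⟩ else 0)

theorem coeff_extAlg_coe (w : MonoidAlgebra ℂ N) (n : N) :
    (extAlg N w).coeff (n : G) = w.coeff n := by
  classical
  simp only [extAlg, coeff_ofFun]
  rw [dif_pos n.2]

theorem coeff_extAlg_of_mem (w : MonoidAlgebra ℂ N) {g : G} (hg : g ∈ N) :
    (extAlg N w).coeff g = w.coeff ⟨g, hg⟩ :=
  coeff_extAlg_coe N w ⟨g, hg⟩

theorem coeff_extAlg_of_not_mem (w : MonoidAlgebra ℂ N) {g : G} (hg : g ∉ N) :
    (extAlg N w).coeff g = 0 := by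
  classical
  simp only [extAlg, coeff_ofFun]
  rw [dif_neg hg]

theorem resAlg_extAlg (w : MonoidAlgebra ℂ N) : resAlg N (extAlg N w) = w := by
  apply MonoidAlgebra.ext
  ext n
  show (resAlg N (extAlg N w)).coeff n = w.coeff n
  rw [coeff_resAlg, coeff_extAlg_coe]

theorem extAlg_mem_center [hN : N.Normal] (w : MonoidAlgebra ℂ N)
    (hw : ∀ (g : G) (n : N), w.coeff ⟨g * n * g⁻¹, hN.conj_mem n n.2 g⟩ = w.coeff n) :
    extAlg N w ∈ Subalgebra.center ℂ (MonoidAlgebra ℂ G) := by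
  apply mem_center_of_classFunction
  intro g h
  by_cases hg : g ∈ N
  · rw [coeff_extAlg_of_mem N w hg, coeff_extAlg_of_mem N w (hN.conj_mem g hg h)]
    exact hw h ⟨g, hg⟩
  · have hg' : h * g * h⁻¹ ∉ N := by
      intro h1
      apply hg
      have := hN.conj_mem _ h1 h⁻¹
      simpa [mul_assoc] using this
    rw [coeff_extAlg_of_not_mem N w hg, coeff_extAlg_of_not_mem N w hg']

theorem extAlg_mem_intCoeff {M : Ideal AlgInt} [hP : M.IsPrime] {w : MonoidAlgebra ℂ N}
    (hw : w ∈ intCoeff (G := N) M) : extAlg N w ∈ intCoeff (G := G) M := by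
  intro g
  by_cases hg : g ∈ N
  · rw [coeff_extAlg_of_mem N w hg]; exact hw _
  · rw [coeff_extAlg_of_not_mem N w hg]; exact memLocalRing_zero hP.ne_top

/-- Class sums of elements of a normal subgroup are supported on it. -/
theorem coeff_classSum_of_not_mem [hN : N.Normal] (n : N) {g : G} (hg : g ∉ N) :
    (classSum (n : G)).coeff g = 0 := by
  classical
  rw [coeff_classSum, if_neg]
  intro h
  obtain ⟨c, hc⟩ := isConj_iff.1 h
  exact hg (hc ▸ hN.conj_mem n n.2 c)

/-- Linearity: a congruence between induced central characters and central characters at the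
elements of `N` extends to all central elements supported on `N`. -/
theorem omega_resAlg_sub_memLocalIdeal_of_support {M : Ideal AlgInt} [hPr : M.IsPrime]
    {ξ : IrrCharacter N} {χ : IrrCharacter G}
    (h : ∀ n : N, MemLocalIdeal M
      (inducedCentralChar N (ξ : N → ℂ) (n : G) - centralChar (χ : G → ℂ) (n : G)))
    {z : MonoidAlgebra ℂ G}
    (hz : z ∈ Subalgebra.center ℂ (MonoidAlgebra ℂ G)) (hz' : z ∈ intCoeff (G := G) M)
    (hsupp : ∀ g : G, g ∉ N → z.coeff g = 0) :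
    MemLocalIdeal M (omega (ξ : N → ℂ) (resAlg N z) - omega (χ : G → ℂ) z) := by
  classical
  haveI := Fintype.ofFinite (ConjClasses G)
  have h1 : omega (ξ : N → ℂ) (resAlg N z) =
      ∑ c : ConjClasses G, z.coeff (classRep c) * inducedCentralChar N (ξ : N → ℂ) (classRep c) := by
    conv_lhs => rw [eq_sum_classSum hz]
    rw [resAlg_sum, omega_sum]
    refine Finset.sum_congr rfl (fun c _ => ?_)
    rw [resAlg_smul, omega_smul, inducedCentralChar_eq_omega]
  rw [h1, omega_eq_sum_centralChar (Cfsg.Agent.Lib.H24.irr_isClassFunction χ) hz,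
    ← Finset.sum_sub_distrib]
  refine memLocalIdeal_sum _ _ (fun c _ => ?_)
  rw [← mul_sub]
  by_cases hc : classRep c ∈ N
  · exact memLocalIdeal_mul_left (hz' _) (h ⟨classRep c, hc⟩)
  · rw [hsupp _ hc, zero_mul]
    exact memLocalIdeal_zero hPr.ne_top

end ExtAlg

section OrbitIdem

variable {G : Type*} [Group G] [Fintype G] (N : Subgroup G) [hN : N.Normal] [Fintype N]
  {p : ℕ} {M : Ideal AlgInt}

theorem blockCoeff_orbitSet_conj (b : Set (IrrCharacter N)) (g : G) (n : N) :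
    blockCoeff (orbitSet N b) ⟨g * n * g⁻¹, hN.conj_mem n n.2 g⟩ = blockCoeff (orbitSet N b) n := by
  unfold blockCoeff
  congr 1
  refine finsum_mem_eq_of_bijOn (fun θ => conjIrr N θ g) ?_ ?_
  · refine ⟨?_, ?_, ?_⟩
    · intro θ hθ
      exact (conjIrr_mem_orbitSet_iff N b θ g).2 hθ
    · intro θ _ φ _ hθφ
      have := congrArg (fun ψ => conjIrr N ψ g⁻¹) hθφ
      simpa [conjIrr_inv_cancel] using this
    · intro φ hφ
      refine ⟨conjIrr N φ g⁻¹, ?_, conjIrr_inv_cancel' N φ g⟩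
      exact (conjIrr_mem_orbitSet_iff N b φ g⁻¹).2 hφ
  · intro θ _
    rw [conjIrr_apply_one, conjIrr_apply]

/-- The idempotent of the `G`-orbit of `b`, viewed in `ℂ[G]`. -/
noncomputable def orbitIdem (b : Set (IrrCharacter N)) : MonoidAlgebra ℂ G :=
  extAlg N (blockIdem (orbitSet N b))

theorem orbitIdem_mem_center (b : Set (IrrCharacter N)) :
    orbitIdem N b ∈ Subalgebra.center ℂ (MonoidAlgebra ℂ G) := by
  apply extAlg_mem_center
  intro g n
  rw [coeff_blockIdem, coeff_blockIdem]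
  exact blockCoeff_orbitSet_conj N b g n

theorem orbitIdem_support (b : Set (IrrCharacter N)) (g : G) (hg : g ∉ N) :
    (orbitIdem N b).coeff g = 0 :=
  coeff_extAlg_of_not_mem N _ hg

theorem orbitIdem_mem_intCoeff [hP : M.IsPrime] (hM : IsPModular p M) (θ₁ : IrrCharacter N) :
    orbitIdem N (blockOf M (θ₁ : N → ℂ)) ∈ intCoeff (G := G) M := by
  apply extAlg_mem_intCoeff
  apply blockIdem_mem_intCoeff_of_union hM
  intro θ hθ
  exact blockOf_subset_orbitSet N θ₁ hθ

theorem resAlg_orbitIdem (b : Set (IrrCharacter N)) :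
    resAlg N (orbitIdem N b) = blockIdem (orbitSet N b) :=
  resAlg_extAlg N _

open scoped Classical in
theorem omega_orbitIdem (b : Set (IrrCharacter N)) (χ : IrrCharacter G) (θ : IrrCharacter N)
    (hθ : classInner (fun n : N => (χ : G → ℂ) n) (θ : N → ℂ) ≠ 0) :
    omega (χ : G → ℂ) (orbitIdem N b) = if θ ∈ orbitSet N b then 1 else 0 := by
  have h1 := BlockNormal.omega_eq_of_constituent N χ θ hθ (orbitIdem_mem_center N b)
    (orbitIdem_support N b)
  have h2 : BlockNormal.resAlg N (orbitIdem N b) = resAlg N (orbitIdem N b) := rfl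
  rw [h1, h2, resAlg_orbitIdem, omega_blockIdem]

/-- **Covered blocks are conjugate.** If `χ, χ'` lie in the same block of `G`, and `θ`, `ψ` are
irreducible constituents of their restrictions to `N`, then some `G`-conjugate of `ψ` lies in the
block of `θ`. -/
theorem exists_conj_mem_of_sameBlock (hM : IsPModular p M) (χ χ' : IrrCharacter G)
    (hs : SameBlock M (χ : G → ℂ) (χ' : G → ℂ)) (θ ψ : IrrCharacter N)
    (hθ : classInner (fun n : N => (χ : G → ℂ) n) (θ : N → ℂ) ≠ 0)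
    (hψ : classInner (fun n : N => (χ' : G → ℂ) n) (ψ : N → ℂ) ≠ 0) :
    ∃ g : G, conjIrr N ψ g ∈ blockOf M (θ : N → ℂ) := by
  classical
  haveI hP := isPrime_of_isPModular hM
  set b := blockOf M (θ : N → ℂ) with hb
  have h1 := omega_orbitIdem N b χ θ hθ
  rw [if_pos (subset_orbitSet N b (mem_blockOf_self θ))] at h1
  have h2 := omega_orbitIdem N b χ' ψ hψ
  have h3 := omega_sub_memLocalIdeal hs (orbitIdem_mem_center N b) (orbitIdem_mem_intCoeff N hM θ)
  rw [h1, h2] at h3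
  by_contra hcon
  have h4 : ψ ∉ orbitSet N b := fun h => hcon h
  rw [if_neg h4, sub_zero] at h3
  exact not_memLocalIdeal_one h3

/-- Existence of an irreducible constituent of the restriction. -/
theorem exists_constituent_restrict (χ : IrrCharacter G) :
    ∃ ψ : IrrCharacter N, classInner (fun n : N => (χ : G → ℂ) n) (ψ : N → ℂ) ≠ 0 := by
  have hc : IsCharacter N (fun n : N => (χ : G → ℂ) n) :=
    isCharacter_restrict N (isCharacter_of_irr χ.2)
  obtain ⟨ϑ, hϑ, hne⟩ := exists_irr_constituent hc (irr_one_ne_zero χ)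
  exact ⟨⟨ϑ, hϑ⟩, hne⟩

/-- Existence of an irreducible character of `G` over a given one of `N`. -/
theorem exists_irr_over_restrict (θ : IrrCharacter N) :
    ∃ χ : IrrCharacter G, classInner (fun n : N => (χ : G → ℂ) n) (θ : N → ℂ) ≠ 0 := by
  obtain ⟨π, hπ, hne⟩ := Cfsg.Agent.Lib.H12.exists_irr_over N.subtype N.subtype_injective θ.2
  exact ⟨⟨π, hπ⟩, hne⟩

end OrbitIdem

section Covers

variable {G : Type*} [Group G] [Fintype G] (N : Subgroup G) [hN : N.Normal] [Fintype N]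
  {p : ℕ} {M : Ideal AlgInt}

/-- `B` covers `b`: some member of `B` has a constituent in `b` on restriction to `N`. -/
def Covers (B : Set (IrrCharacter G)) (b : Set (IrrCharacter N)) : Prop :=
  ∃ χ ∈ B, ∃ θ ∈ b, classInner (fun n : N => (χ : G → ℂ) n) (θ : N → ℂ) ≠ 0

/-- S0964. -/
theorem covers_conj (hM : IsPModular p M) (B : Set (IrrCharacter G)) (hB : IsPBlock M B)
    (b : Set (IrrCharacter N)) (hb : IsPBlock M b) (χ : IrrCharacter G) (hχ : χ ∈ B)
    (θ : IrrCharacter N) (hθ : θ ∈ b)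
    (hcon : classInner (fun n : N => (χ : G → ℂ) n) (θ : N → ℂ) ≠ 0) (χ' : IrrCharacter G)
    (hχ' : χ' ∈ B) (ψ : IrrCharacter N)
    (hψ : classInner (fun n : N => (χ' : G → ℂ) n) (ψ : N → ℂ) ≠ 0) :
    ∃ g : G, ∃ θ' ∈ b, ∀ n : N, (ψ : N → ℂ) n =
      (θ' : N → ℂ) ⟨g * n * g⁻¹, hN.conj_mem n n.2 g⟩ := by
  haveI hP := isPrime_of_isPModular hM
  obtain ⟨χ₀, rfl⟩ := hB
  obtain ⟨θ₀, rfl⟩ := hb
  have hs : SameBlock M (χ : G → ℂ) (χ' : G → ℂ) := sameBlock_trans (sameBlock_symm hχ) hχ'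
  obtain ⟨g, hg⟩ := exists_conj_mem_of_sameBlock N hM χ χ' hs θ ψ hcon hψ
  rw [blockOf_eq_of_mem hθ] at hg
  refine ⟨g⁻¹, conjIrr N ψ g, hg, fun n => ?_⟩
  rw [conjIrr_apply]
  exact congrArg (ψ : N → ℂ) (Subtype.ext (by simp [mul_assoc]))

/-- S0965, forward direction, in the strong form (all central elements supported on `N`). -/
theorem omega_sub_memLocalIdeal_of_covers [hP : M.IsPrime] (_hM : IsPModular p M)
    {χ₁ χ : IrrCharacter G}
    (hχ : SameBlock M (χ₁ : G → ℂ) (χ : G → ℂ)) {θ₁ θ : IrrCharacter N}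
    (hθ : SameBlock M (θ₁ : N → ℂ) (θ : N → ℂ))
    (hcon : classInner (fun n : N => (χ₁ : G → ℂ) n) (θ₁ : N → ℂ) ≠ 0)
    {z : MonoidAlgebra ℂ G} (hz : z ∈ Subalgebra.center ℂ (MonoidAlgebra ℂ G))
    (hz' : z ∈ intCoeff (G := G) M) (hsupp : ∀ g : G, g ∉ N → z.coeff g = 0) :
    MemLocalIdeal M (omega (χ : G → ℂ) z - omega (θ : N → ℂ) (resAlg N z)) := by
  have h1 := BlockNormal.omega_eq_of_constituent N χ₁ θ₁ hcon hz hsupp
  have h2 : BlockNormal.resAlg N z = resAlg N z := rfl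
  rw [h2] at h1
  have h3 := omega_sub_memLocalIdeal (sameBlock_symm hχ) hz hz'
  have h4 := omega_sub_memLocalIdeal hθ (resAlg_mem_center N hz) (resAlg_mem_intCoeff N hz')
  rw [h1] at h3
  have := memLocalIdeal_add h3 h4
  rwa [sub_add_sub_cancel] at this

theorem centralChar_sub_memLocalIdeal_of_covers (hM : IsPModular p M) {χ₁ χ : IrrCharacter G}
    (hχ : SameBlock M (χ₁ : G → ℂ) (χ : G → ℂ)) {θ₁ θ : IrrCharacter N}
    (hθ : SameBlock M (θ₁ : N → ℂ) (θ : N → ℂ))
    (hcon : classInner (fun n : N => (χ₁ : G → ℂ) n) (θ₁ : N → ℂ) ≠ 0) (n : N) :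
    MemLocalIdeal M (centralChar (χ : G → ℂ) (n : G) -
      inducedCentralChar N (θ : N → ℂ) (n : G)) := by
  haveI hP := isPrime_of_isPModular hM
  have := omega_sub_memLocalIdeal_of_covers N hM hχ hθ hcon (classSum_mem_center (n : G))
    (classSum_mem_intCoeff (M := M) (n : G)) (fun g hg => coeff_classSum_of_not_mem N n hg)
  rwa [omega_classSum (irr_isClassFunction χ), ← inducedCentralChar_eq_omega] at this

/-- S0965. -/
theorem covers_iff (hM : IsPModular p M) (B : Set (IrrCharacter G)) (hB : IsPBlock M B)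
    (b : Set (IrrCharacter N)) (hb : IsPBlock M b) :
    (∃ χ ∈ B, ∃ θ ∈ b, classInner (fun n : N => (χ : G → ℂ) n) (θ : N → ℂ) ≠ 0) ↔
      ∀ χ ∈ B, ∀ θ ∈ b, ∀ n : N, MemLocalIdeal M (centralChar (χ : G → ℂ) (n : G) -
        inducedCentralChar N (θ : N → ℂ) (n : G)) := by
  classical
  haveI hP := isPrime_of_isPModular hM
  obtain ⟨χ₀, rfl⟩ := hB
  obtain ⟨θ₀, rfl⟩ := hb
  constructor
  · rintro ⟨χ₁, hχ₁, θ₁, hθ₁, hcon⟩ χ hχ θ hθ n
    exact centralChar_sub_memLocalIdeal_of_covers N hM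
      (sameBlock_trans (sameBlock_symm hχ₁) hχ) (sameBlock_trans (sameBlock_symm hθ₁) hθ) hcon n
  · intro h
    obtain ⟨ψ, hψ⟩ := exists_constituent_restrict N χ₀
    set b := blockOf M (θ₀ : N → ℂ) with hb
    have h1 := omega_orbitIdem N b χ₀ ψ hψ
    have h2 : MemLocalIdeal M (omega (θ₀ : N → ℂ) (resAlg N (orbitIdem N b)) -
        omega (χ₀ : G → ℂ) (orbitIdem N b)) := by
      apply omega_resAlg_sub_memLocalIdeal_of_support N _ (orbitIdem_mem_center N b)
        (orbitIdem_mem_intCoeff N hM θ₀) (orbitIdem_support N b)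
      intro n
      have := memLocalIdeal_neg (h χ₀ (mem_blockOf_self χ₀) θ₀ (mem_blockOf_self θ₀) n)
      rwa [neg_sub] at this
    rw [resAlg_orbitIdem, omega_blockIdem,
      if_pos (subset_orbitSet N b (mem_blockOf_self θ₀)), h1] at h2
    have h3 : ψ ∈ orbitSet N b := by
      by_contra h4
      rw [if_neg h4, sub_zero] at h2
      exact not_memLocalIdeal_one h2
    obtain ⟨g, hg⟩ := h3
    refine ⟨χ₀, mem_blockOf_self χ₀, conjIrr N ψ g, hg, ?_⟩
    have h5 := BlockCover.classInner_conjChar N (irr_isClassFunction χ₀) (ψ : N → ℂ) g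
    have h6 : conjChar N (ψ : N → ℂ) g = (conjIrr N ψ g : N → ℂ) := rfl
    rw [h6] at h5
    rw [h5]
    exact hψ

/-- p-regular elements lie in a normal subgroup of `p`-power index. -/
theorem mem_of_pRegular_of_index_pow' [Fact p.Prime] (hidx : ∃ k : ℕ, N.index = p ^ k) {g : G}
    (hg : ¬ p ∣ orderOf g) : g ∈ N := by
  have hp : p.Prime := Fact.out
  obtain ⟨k, hk⟩ := hidx
  rw [← QuotientGroup.eq_one_iff]
  have h1 : orderOf (g : G ⧸ N) ∣ orderOf g := orderOf_dvd_of_pow_eq_one (by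
    rw [← QuotientGroup.mk_pow, pow_orderOf_eq_one]; rfl)
  have h2 : orderOf (g : G ⧸ N) ∣ p ^ k := by
    rw [← hk, Subgroup.index_eq_card]
    exact orderOf_dvd_natCard _
  obtain ⟨j, _, hj⟩ := (Nat.dvd_prime_pow hp).1 h2
  rcases Nat.eq_zero_or_pos j with h0 | h0
  · rw [h0, pow_zero] at hj
    exact orderOf_eq_one_iff.1 hj
  · exfalso
    apply hg
    exact (dvd_pow_self p h0.ne').trans (hj ▸ h1)

/-- S0966. -/
theorem existsUnique_covers_of_index_pow [Fact p.Prime] (hM : IsPModular p M)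
    (hidx : ∃ k : ℕ, N.index = p ^ k) (b : Set (IrrCharacter N)) (hb : IsPBlock M b) :
    ∃! B : Set (IrrCharacter G), IsPBlock M B ∧
      ∃ χ ∈ B, ∃ θ ∈ b, classInner (fun n : N => (χ : G → ℂ) n) (θ : N → ℂ) ≠ 0 := by
  haveI hP := isPrime_of_isPModular hM
  obtain ⟨θ₀, rfl⟩ := hb
  obtain ⟨χ₀, hχ₀⟩ := exists_irr_over_restrict N θ₀
  refine ⟨blockOf M (χ₀ : G → ℂ), ⟨⟨χ₀, rfl⟩, χ₀, mem_blockOf_self χ₀, θ₀, mem_blockOf_self θ₀,
    hχ₀⟩, ?_⟩
  rintro B' ⟨⟨χ₁, rfl⟩, χ₂, hχ₂, θ₂, hθ₂, hcon⟩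
  have hs : SameBlock M (χ₀ : G → ℂ) (χ₁ : G → ℂ) := by
    apply BlockPReg.sameBlock_of_pRegular hM
    intro g hg
    have hgN : g ∈ N := mem_of_pRegular_of_index_pow' N hidx hg
    have h1 := centralChar_sub_memLocalIdeal_of_covers N hM (sameBlock_refl (M := M) (χ₀ : G → ℂ))
      (sameBlock_refl (M := M) (θ₀ : N → ℂ)) hχ₀ ⟨g, hgN⟩
    have h2 := centralChar_sub_memLocalIdeal_of_covers N hM (sameBlock_symm hχ₂)
      (sameBlock_symm hθ₂) hcon ⟨g, hgN⟩
    have := memLocalIdeal_sub h1 h2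
    rwa [sub_sub_sub_cancel_right] at this
  exact (blockOf_eq_of_mem hs)

end Covers

end Cfsg.Agent.Lib.H23
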