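import Mathlib
import Cfsg.Prelude.Def_Blocks
import Cfsg.Agent.Lib.H23.BlockInduce
import Cfsg.Agent.Lib.H23.BlockHom
import Cfsg.Agent.Lib.L0.CharOps

/-!
# Transport of blocks along group isomorphisms; transitivity of block induction (helper23)

* `irrEquiv e : IrrCharacter B ≃ IrrCharacter A` for `e : A ≃* B` (`θ ↦ θ ∘ e`), compatible with
  central characters and blocks.
* `isInducedBlock_unique`: a block induces at most one block.
* `isInducedBlock_trans`: transitivity of block induction for `H ≤ K ≤ G`.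
-/

set_option autoImplicit false

namespace Cfsg.Agent.Lib.H23

open Cfsg MonoidAlgebra Cfsg.Agent.Lib.H24 Cfsg.Agent.Lib.L0
open scoped ComplexConjugate

section Equiv

variable {A B : Type*} [Group A] [Group B] (e : A ≃* B)

/-- Transport of irreducible characters along a group isomorphism. -/
noncomputable def irrEquiv : IrrCharacter B ≃ IrrCharacter A where
  toFun θ := ⟨(θ : B → ℂ) ∘ e.toMonoidHom,
    isIrrCharacter_comp_of_surjective e.toMonoidHom e.surjective θ.2⟩
  invFun φ := ⟨(φ : A → ℂ) ∘ e.symm.toMonoidHom,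
    isIrrCharacter_comp_of_surjective e.symm.toMonoidHom e.symm.surjective φ.2⟩
  left_inv θ := by
    apply Subtype.ext
    funext b
    simp
  right_inv φ := by
    apply Subtype.ext
    funext a
    simp

theorem irrEquiv_apply (θ : IrrCharacter B) (a : A) :
    (irrEquiv e θ : A → ℂ) a = (θ : B → ℂ) (e a) := rfl

theorem irrEquiv_symm_apply (φ : IrrCharacter A) (b : B) :
    ((irrEquiv e).symm φ : B → ℂ) b = (φ : A → ℂ) (e.symm b) := rfl

theorem index_centralizer_mulEquiv (a : A) :
    (Subgroup.centralizer ({e a} : Set B)).index = (Subgroup.centralizer ({a} : Set A)).index := by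
  have : Subgroup.centralizer ({e a} : Set B) =
      (Subgroup.centralizer ({a} : Set A)).map e.toMonoidHom := by
    ext x
    simp only [Subgroup.mem_centralizer_iff, Set.mem_singleton_iff, forall_eq, Subgroup.mem_map,
      MulEquiv.coe_toMonoidHom]
    constructor
    · intro hx
      refine ⟨e.symm x, ?_, by simp⟩
      apply e.injective
      simp only [map_mul]
      simpa using hx
    · rintro ⟨y, hy, rfl⟩
      rw [← map_mul, ← map_mul, hy]
  rw [this]
  exact Subgroup.index_map_equiv _ e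

theorem centralChar_irrEquiv (θ : IrrCharacter B) (a : A) :
    centralChar (irrEquiv e θ : A → ℂ) a = centralChar (θ : B → ℂ) (e a) := by
  unfold centralChar
  rw [index_centralizer_mulEquiv, irrEquiv_apply, irrEquiv_apply, map_one]

theorem sameBlock_irrEquiv_iff {M : Ideal AlgInt} (θ φ : IrrCharacter B) :
    SameBlock M (irrEquiv e θ : A → ℂ) (irrEquiv e φ : A → ℂ) ↔
      SameBlock M (θ : B → ℂ) (φ : B → ℂ) := by
  constructor
  · intro h b
    have := h (e.symm b)
    rwa [centralChar_irrEquiv, centralChar_irrEquiv, MulEquiv.apply_symm_apply] at this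
  · intro h a
    rw [centralChar_irrEquiv, centralChar_irrEquiv]
    exact h (e a)

theorem irrEquiv_mem_blockOf_iff {M : Ideal AlgInt} (θ φ : IrrCharacter B) :
    irrEquiv e φ ∈ blockOf M (irrEquiv e θ : A → ℂ) ↔ φ ∈ blockOf M (θ : B → ℂ) :=
  sameBlock_irrEquiv_iff e θ φ

theorem charEval_comp_mulEquiv [Fintype A] [Fintype B] (f : B → ℂ) (w : MonoidAlgebra ℂ B)
    (w' : MonoidAlgebra ℂ A) (h : ∀ a, w'.coeff a = w.coeff (e a)) :
    charEval (fun a => f (e a)) w' = charEval f w := by
  unfold charEval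
  refine Fintype.sum_equiv e.toEquiv _ _ fun a => ?_
  rw [h a]
  rfl

theorem omega_irrEquiv [Fintype A] [Fintype B] (θ : IrrCharacter B) (w : MonoidAlgebra ℂ B)
    (w' : MonoidAlgebra ℂ A) (h : ∀ a, w'.coeff a = w.coeff (e a)) :
    omega (irrEquiv e θ : A → ℂ) w' = omega (θ : B → ℂ) w := by
  unfold omega
  have h1 : (irrEquiv e θ : A → ℂ) = fun a => (θ : B → ℂ) (e a) := rfl
  rw [h1, charEval_comp_mulEquiv e _ w w' h]
  beta_reduce
  rw [map_one]

end Equiv

section Trans

variable {G : Type*} [Group G] [Fintype G] {p : ℕ} {M : Ideal AlgInt}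

/-- A block of a subgroup induces at most one block. -/
theorem isInducedBlock_unique [hP : M.IsPrime] (H : Subgroup G) {b : Set (IrrCharacter H)}
    {B₁ B₂ : Set (IrrCharacter G)} (h1 : IsInducedBlock M H b B₁)
    (h2 : IsInducedBlock M H b B₂) : B₁ = B₂ := by
  obtain ⟨ξ, rfl⟩ := h1.1
  obtain ⟨χ₁, rfl⟩ := h1.2.1
  obtain ⟨χ₂, rfl⟩ := h2.2.1
  have hξ : ξ ∈ blockOf M (ξ : H → ℂ) := sameBlock_refl _
  have hs : SameBlock M (χ₂ : G → ℂ) (χ₁ : G → ℂ) := by
    intro g
    have e1 := h1.2.2 ξ hξ χ₁ (sameBlock_refl _) g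
    have e2 := h2.2.2 ξ hξ χ₂ (sameBlock_refl _) g
    have := memLocalIdeal_sub e1 e2
    rwa [sub_sub_sub_cancel_left] at this
  exact blockOf_eq_of_mem hs

/-- Transitivity of block induction. -/
theorem isInducedBlock_trans [hP : M.IsPrime] (H K : Subgroup G) (hHK : H ≤ K) [Fintype H]
    [Fintype K] [Fintype ↥(H.subgroupOf K)]
    (θ : IrrCharacter H) (ζ : IrrCharacter K) (χ : IrrCharacter G)
    (h1 : IsInducedBlock M (H.subgroupOf K)
      (blockOf M (irrEquiv (Subgroup.subgroupOfEquivOfLe hHK) θ : ↥(H.subgroupOf K) → ℂ))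
      (blockOf M (ζ : K → ℂ)))
    (h2 : IsInducedBlock M K (blockOf M (ζ : K → ℂ)) (blockOf M (χ : G → ℂ))) :
    IsInducedBlock M H (blockOf M (θ : H → ℂ)) (blockOf M (χ : G → ℂ)) := by
  classical
  refine ⟨⟨θ, rfl⟩, ⟨χ, rfl⟩, fun ξ hξ χ' hχ' g => ?_⟩
  set e := Subgroup.subgroupOfEquivOfLe hHK with he
  set z := resAlg K (classSum g) with hz
  have hzc : z ∈ Subalgebra.center ℂ (MonoidAlgebra ℂ K) :=
    resAlg_mem_center K (classSum_mem_center g)
  have hzi : z ∈ intCoeff (G := K) M := resAlg_mem_intCoeff K (classSum_mem_intCoeff g)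
  have hξ' : irrEquiv e ξ ∈ blockOf M (irrEquiv e θ : ↥(H.subgroupOf K) → ℂ) :=
    (irrEquiv_mem_blockOf_iff e θ ξ).2 hξ
  have hA := omega_resAlg_sub_memLocalIdeal (H.subgroupOf K) h1 hξ' (mem_blockOf_self ζ) hzc hzi
  have hB := omega_resAlg_sub_memLocalIdeal K h2 (mem_blockOf_self ζ) hχ' (classSum_mem_center g)
    (classSum_mem_intCoeff g)
  have hC : omega (irrEquiv e ξ : ↥(H.subgroupOf K) → ℂ) (resAlg (H.subgroupOf K) z) =
      omega (ξ : H → ℂ) (resAlg H (classSum g)) := by
    apply omega_irrEquiv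
    intro a
    rw [coeff_resAlg, hz, coeff_resAlg, coeff_resAlg]
    rfl
  rw [hC] at hA
  rw [inducedCentralChar_eq_omega, ← omega_classSum (irr_isClassFunction χ')]
  have := memLocalIdeal_add hA hB
  rwa [sub_add_sub_cancel] at this

end Trans

end Cfsg.Agent.Lib.H23
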