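import Mathlib
import Cfsg.Prelude.Def_Blocks
import Cfsg.Agent.Lib.H23.BlockCovering
import Cfsg.Agent.Lib.H23.BlockEquiv

/-!
# Auxiliary lemmas for Fong's theorem on covering blocks (helper23)

`N` normal in `G`.
* `centralChar_conjIrr`: `ω_{θ^g}(n) = ω_θ(g n g⁻¹)`.
* `inducedCentralChar_eq_sum_classes`: the induced central character as a sum over the `N`-classes
  contained in a `G`-class.
* `index_centralizer_eq_sum_classes`: the corresponding class-size identity.
* `card_sup_mul_card_inf`: `|P N| |P ∩ N| = |P| |N|`.
-/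

set_option autoImplicit false

namespace Cfsg.Agent.Lib.H23

open Cfsg MonoidAlgebra Cfsg.Agent.Lib.H24 Cfsg.Agent.Lib.L0
open scoped ComplexConjugate

section FongAux

variable {G : Type*} [Group G] [Fintype G] (N : Subgroup G) [hN : N.Normal] [Fintype N]
  {p : ℕ} {M : Ideal AlgInt}

theorem centralChar_conjIrr (θ : IrrCharacter N) (g : G) (n : N) :
    centralChar (conjIrr N θ g : N → ℂ) n =
      centralChar (θ : N → ℂ) ⟨g * n * g⁻¹, hN.conj_mem n n.2 g⟩ := by
  rw [conjIrr_eq_cj]
  have h := BlockAut.centralChar_cj (MulAut.conjNormal g : MulAut N)⁻¹ θ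
    ⟨g * n * g⁻¹, hN.conj_mem n n.2 g⟩
  rw [← h]
  congr 1
  apply Subtype.ext
  simp [MulAut.conjNormal_inv_apply, mul_assoc]

theorem index_centralizer_conj (g : G) (n : N) :
    (Subgroup.centralizer ({(⟨g * n * g⁻¹, hN.conj_mem n n.2 g⟩ : N)} : Set N)).index =
      (Subgroup.centralizer ({n} : Set N)).index := by
  have h := index_centralizer_mulEquiv (MulAut.conjNormal g : N ≃* N) n
  rw [← h]
  congr 3

/-- `charEval` of a restriction, for elements supported on the subgroup. -/
theorem charEval_resAlg_of_support (f : G → ℂ) {z : MonoidAlgebra ℂ G}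
    (hsupp : ∀ g : G, g ∉ N → z.coeff g = 0) :
    charEval (fun n : N => f n) (resAlg N z) = charEval f z := by
  classical
  unfold charEval
  simp only [coeff_resAlg]
  have h1 : ∑ h : G, z.coeff h * f h =
      ∑ h ∈ Finset.univ.filter (fun h : G => h ∈ N), z.coeff h * f h := by
    symm
    apply Finset.sum_subset (Finset.filter_subset _ _)
    intro h _ hh
    have : h ∉ N := fun hN => hh (Finset.mem_filter.mpr ⟨Finset.mem_univ _, hN⟩)
    rw [hsupp h this, zero_mul]
  rw [h1]
  rw [Finset.sum_subtype (Finset.univ.filter (fun h : G => h ∈ N)) (p := fun h => h ∈ N)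
    (by simp) (fun h => z.coeff h * f h)]

open scoped Classical in
/-- The induced central character as a sum over `N`-classes. -/
theorem inducedCentralChar_eq_sum_classes [Fintype (ConjClasses N)] (θ : N → ℂ)
    (hθ : IsClassFunction N θ) (x : G) :
    inducedCentralChar N θ x = ∑ c : ConjClasses N,
      if IsConj x ((classRep c : N) : G) then centralChar θ (classRep c) else 0 := by
  rw [inducedCentralChar_eq_omega,
    omega_eq_sum_centralChar hθ (resAlg_mem_center N (classSum_mem_center x))]
  refine Finset.sum_congr rfl fun c _ => ?_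
  rw [coeff_resAlg, coeff_classSum]
  split_ifs <;> simp

open scoped Classical in
/-- The class size of `x ∈ N` in `G` is the sum of the sizes of the `N`-classes it contains. -/
theorem index_centralizer_eq_sum_classes [Fintype (ConjClasses N)] (x : N) :
    ((Subgroup.centralizer ({(x : G)} : Set G)).index : ℂ) = ∑ c : ConjClasses N,
      if IsConj (x : G) ((classRep c : N) : G) then
        ((Subgroup.centralizer ({classRep c} : Set N)).index : ℂ) else 0 := by
  have hcf : IsClassFunction N (fun _ : N => (1 : ℂ)) := fun _ _ => rfl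
  have hcfG : IsClassFunction G (fun _ : G => (1 : ℂ)) := fun _ _ => rfl
  have h1 := inducedCentralChar_eq_sum_classes N (fun _ : N => (1 : ℂ)) hcf (x : G)
  have h2 : inducedCentralChar N (fun _ : N => (1 : ℂ)) (x : G) =
      ((Subgroup.centralizer ({(x : G)} : Set G)).index : ℂ) := by
    rw [inducedCentralChar_eq_omega, omega]
    have h3 := charEval_resAlg_of_support N (fun _ : G => (1 : ℂ)) (z := classSum (x : G))
      (fun g hg => coeff_classSum_of_not_mem N x hg)
    rw [h3, div_one]
    have h4 := omega_classSum hcfG (x : G)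
    rw [omega, div_one] at h4
    rw [h4, centralChar]
    simp
  rw [← h2, h1]
  refine Finset.sum_congr rfl fun c _ => ?_
  split_ifs
  · rw [centralChar]; simp
  · rfl

omit [Fintype G] [Fintype N] in
theorem card_mul_relIndex' {H K : Subgroup G} (h : H ≤ K) :
    Nat.card H * H.relIndex K = Nat.card K := by
  have := Subgroup.relIndex_mul_relIndex (⊥ : Subgroup G) H K bot_le h
  rwa [Subgroup.relIndex_bot_left, Subgroup.relIndex_bot_left] at this

omit [Fintype G] [Fintype N] in
theorem card_sup_mul_card_inf [Finite G] (P : Subgroup G) :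
    Nat.card (P ⊔ N : Subgroup G) * Nat.card (P ⊓ N : Subgroup G) = Nat.card P * Nat.card N := by
  have h1 : Nat.card N * N.relIndex (P ⊔ N) = Nat.card (P ⊔ N : Subgroup G) :=
    card_mul_relIndex' le_sup_right
  have h2 : N.relIndex (P ⊔ N) = (P ⊓ N).relIndex P := by
    rw [Subgroup.relIndex_sup_right, Subgroup.inf_relIndex_left]
  have h3 : Nat.card (P ⊓ N : Subgroup G) * (P ⊓ N).relIndex P = Nat.card P :=
    card_mul_relIndex' inf_le_left
  rw [← h1, h2, ← h3]
  ring

end FongAux

end Cfsg.Agent.Lib.H23
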