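import Mathlib
import Cfsg.Prelude.Def_Blocks
import Cfsg.Agent.Lib.H23.BlockFongAux
import Cfsg.Agent.Lib.H23.BlockMinMax
import Cfsg.Agent.Lib.L0.BlockMinMax
import Cfsg.Agent.Lib.H23.BlockDefect

/-!
# Fong's theorem on blocks covering an invariant block (helper23)

`N` normal in `G`, `b` a `G`-invariant block of `N`, `B` a block of `G` covering `b` of maximal
defect among such, `P` a defect group of `B`.  Then `p ∤ |G : P N|`, `P ∩ N` is a defect group of
`b` and `d(B) = d(b) + ν_p |G : N|`.
-/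

set_option autoImplicit false

namespace Cfsg.Agent.Lib.H23

open Cfsg MonoidAlgebra Cfsg.Agent.Lib.H24 Cfsg.Agent.Lib.L0 Cfsg.Agent.Lib.L0.BlockMinMax
open scoped ComplexConjugate

section Fong

variable {G : Type*} [Group G] [Fintype G] (N : Subgroup G) [hN : N.Normal] [Fintype N]
  {p : ℕ} {M : Ideal AlgInt}

/-- The irreducible characters of `G` lying over some member of `b`. -/
def overSet (b : Set (IrrCharacter N)) : Set (IrrCharacter G) :=
  {χ | ∃ θ ∈ b, classInner (fun n : N => (χ : G → ℂ) n) (θ : N → ℂ) ≠ 0}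

omit [Fintype G] [Fintype N] in
theorem orbitSet_eq_of_invariant (b : Set (IrrCharacter N))
    (hinv : ∀ g : G, ∀ θ ∈ b, conjIrr N θ g ∈ b) : orbitSet N b = b := by
  apply Set.Subset.antisymm
  · rintro θ ⟨g, hg⟩
    have := hinv g⁻¹ _ hg
    rwa [conjIrr_inv_cancel] at this
  · exact subset_orbitSet N b

open scoped Classical in
theorem omega_orbitIdem_of_invariant (b : Set (IrrCharacter N))
    (hinv : ∀ g : G, ∀ θ ∈ b, conjIrr N θ g ∈ b) (χ : IrrCharacter G) :
    omega (χ : G → ℂ) (orbitIdem N b) = if χ ∈ overSet N b then 1 else 0 := by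
  have hob := orbitSet_eq_of_invariant N b hinv
  by_cases hχ : χ ∈ overSet N b
  · obtain ⟨θ, hθ, hcon⟩ := hχ
    rw [omega_orbitIdem N b χ θ hcon, hob, if_pos hθ, if_pos ⟨θ, hθ, hcon⟩]
  · obtain ⟨ψ, hψ⟩ := exists_constituent_restrict N χ
    rw [omega_orbitIdem N b χ ψ hψ, hob, if_neg hχ, if_neg]
    intro h
    exact hχ ⟨ψ, h, hψ⟩

theorem overSet_union (hM : IsPModular p M) (θ₀ : IrrCharacter N)
    (hinv : ∀ g : G, ∀ θ ∈ blockOf M (θ₀ : N → ℂ), conjIrr N θ g ∈ blockOf M (θ₀ : N → ℂ))
    {χ : IrrCharacter G} (hχ : χ ∈ overSet N (blockOf M (θ₀ : N → ℂ))) :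
    blockOf M (χ : G → ℂ) ⊆ overSet N (blockOf M (θ₀ : N → ℂ)) := by
  classical
  haveI hP := isPrime_of_isPModular hM
  intro χ' hχ'
  have h1 := omega_orbitIdem_of_invariant N _ hinv χ
  have h2 := omega_orbitIdem_of_invariant N _ hinv χ'
  rw [if_pos hχ] at h1
  have h3 := omega_sub_memLocalIdeal hχ' (orbitIdem_mem_center N _) (orbitIdem_mem_intCoeff N hM θ₀)
  rw [h1, h2] at h3
  by_contra hcon
  rw [if_neg hcon, sub_zero] at h3
  exact not_memLocalIdeal_one h3

theorem orbitIdem_eq_blockIdem_overSet (b : Set (IrrCharacter N))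
    (hinv : ∀ g : G, ∀ θ ∈ b, conjIrr N θ g ∈ b) :
    orbitIdem N b = blockIdem (overSet N b) := by
  classical
  refine eq_of_forall_omega_eq (orbitIdem_mem_center N b) (blockIdem_mem_center _) fun χ => ?_
  rw [omega_orbitIdem_of_invariant N b hinv, omega_blockIdem]

/-- For a defect class `m` of a block, `ν_p |C(m)|` is the defect. -/
theorem factorization_card_centralizer_of_isDefectClass {K : Type*} [Group K] [Fintype K]
    [Fact p.Prime] (hM : IsPModular p M) (θ₀ : IrrCharacter K) (m : K)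
    (hm : IsDefectClass M (blockOf M (θ₀ : K → ℂ)) m) :
    (Nat.card (Subgroup.centralizer ({m} : Set K))).factorization p =
      blockDefect p (blockOf M (θ₀ : K → ℂ)) := by
  haveI hP := isPrime_of_isPModular hM
  apply le_antisymm
  · by_contra hlt
    rw [not_le] at hlt
    exact hm.2.1 (blockCoeff_memLocalIdeal_of_defect_lt hM θ₀ m hlt)
  · by_contra hlt
    rw [not_le] at hlt
    exact hm.2.2 θ₀ (mem_blockOf_self θ₀)
      (centralChar_memLocalIdeal_of_lt_defect hM θ₀ (mem_blockOf_self θ₀) m hlt)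

end Fong

section Good

variable {G : Type*} [Group G] [Fintype G] (N : Subgroup G) [hN : N.Normal] [Fintype N]
  {p : ℕ} {M : Ideal AlgInt}

/-- For a `G`-invariant block `b` of `N` and `χ₀` lying over `b`, there is a class of `N` which
is a defect class of `b`, at which `ω_χ₀` does not vanish mod `M`, and whose `G`-class contains a
number of `N`-classes prime to `p`. -/
theorem exists_good_class [Fact p.Prime] (hM : IsPModular p M) (θ₀ : IrrCharacter N)
    (hinv : ∀ g : G, ∀ θ ∈ blockOf M (θ₀ : N → ℂ), conjIrr N θ g ∈ blockOf M (θ₀ : N → ℂ))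
    (χ₀ : IrrCharacter G) (hχ₀ : χ₀ ∈ overSet N (blockOf M (θ₀ : N → ℂ))) :
    ∃ n : N, ¬ MemLocalIdeal M (blockCoeff (blockOf M (θ₀ : N → ℂ)) n) ∧
      ¬ MemLocalIdeal M (centralChar (χ₀ : G → ℂ) (n : G)) ∧
      (∀ θ ∈ blockOf M (θ₀ : N → ℂ), ¬ MemLocalIdeal M (centralChar (θ : N → ℂ) n)) ∧
      (Subgroup.centralizer ({(n : G)} : Set G)).index.factorization p =
        (Subgroup.centralizer ({n} : Set N)).index.factorization p := by
  classical
  haveI hP := isPrime_of_isPModular hM
  haveI := Fintype.ofFinite (ConjClasses G)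
  haveI := Fintype.ofFinite (ConjClasses N)
  have hp : p.Prime := Fact.out
  set b := blockOf M (θ₀ : N → ℂ) with hb
  have hob := orbitSet_eq_of_invariant N b hinv
  have hEc := orbitIdem_mem_center N b
  have hEi : orbitIdem N b ∈ intCoeff (G := G) M := orbitIdem_mem_intCoeff N hM θ₀
  have hE1 := omega_orbitIdem_of_invariant N b hinv χ₀
  rw [if_pos hχ₀, omega_eq_sum_centralChar (irr_isClassFunction χ₀) hEc] at hE1
  -- some class contributes a unit
  have hex : ∃ c : ConjClasses G, ¬ MemLocalIdeal M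
      ((orbitIdem N b).coeff (classRep c) * centralChar (χ₀ : G → ℂ) (classRep c)) := by
    by_contra hcon
    push Not at hcon
    have := memLocalIdeal_sum (M := M) Finset.univ _ (fun c _ => hcon c)
    rw [hE1] at this
    exact not_memLocalIdeal_one this
  obtain ⟨c, hc⟩ := hex
  set x := classRep c with hx
  have hωR : MemLocalRing M (centralChar (χ₀ : G → ℂ) x) := coe_mem_localRing (omegaInt χ₀ x)
  have hx1 : ¬ MemLocalIdeal M ((orbitIdem N b).coeff x) :=
    fun h => hc (memLocalIdeal_mul_right h hωR)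
  have hx2 : ¬ MemLocalIdeal M (centralChar (χ₀ : G → ℂ) x) :=
    fun h => hc (memLocalIdeal_mul_left (hEi x) h)
  have hxN : x ∈ N := by
    by_contra h
    apply hx1
    rw [orbitIdem_support N b x h]
    exact memLocalIdeal_zero hP.ne_top
  have hcoeff : (orbitIdem N b).coeff x = blockCoeff b ⟨x, hxN⟩ := by
    rw [orbitIdem, coeff_extAlg_of_mem N _ hxN, coeff_blockIdem, hob]
  rw [hcoeff] at hx1
  set n : N := ⟨x, hxN⟩ with hn
  obtain ⟨θ₁, hθ₁, hcon⟩ := hχ₀
  -- the induced central character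
  set F := Finset.univ.filter (fun c' : ConjClasses N => IsConj x ((classRep c' : N) : G)) with hF
  have hconj : ∀ c' ∈ F, ∃ g : G,
      classRep c' = (⟨g * n * g⁻¹, hN.conj_mem n n.2 g⟩ : N) := by
    intro c' hc'
    obtain ⟨g, hg⟩ := isConj_iff.1 (Finset.mem_filter.1 hc').2
    exact ⟨g, Subtype.ext hg.symm⟩
  have hind : ∀ θ ∈ b, MemLocalIdeal M (inducedCentralChar N (θ : N → ℂ) x -
      (F.card : ℂ) * centralChar (θ : N → ℂ) n) := by
    intro θ hθ
    rw [inducedCentralChar_eq_sum_classes N _ (irr_isClassFunction θ) x, ← Finset.sum_filter,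
      ← hF]
    have h1 : (F.card : ℂ) * centralChar (θ : N → ℂ) n =
        ∑ _c' ∈ F, centralChar (θ : N → ℂ) n := by
      rw [Finset.sum_const, nsmul_eq_mul]
    rw [h1, ← Finset.sum_sub_distrib]
    refine memLocalIdeal_sum _ _ fun c' hc' => ?_
    obtain ⟨g, hg⟩ := hconj c' hc'
    rw [hg, ← centralChar_conjIrr]
    have h2 : SameBlock M (conjIrr N θ g : N → ℂ) (θ : N → ℂ) :=
      sameBlock_trans (sameBlock_symm (hinv g θ hθ)) hθ
    exact h2 n
  have hcong : ∀ θ ∈ b, ¬ MemLocalIdeal M ((F.card : ℂ) * centralChar (θ : N → ℂ) n) := by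
    intro θ hθ h
    apply hx2
    have h1 := centralChar_sub_memLocalIdeal_of_covers N hM
      (sameBlock_refl (M := M) (χ₀ : G → ℂ)) (sameBlock_trans (sameBlock_symm hθ₁) hθ) hcon n
    have h2 := memLocalIdeal_add (hind θ hθ) h
    rw [sub_add_cancel] at h2
    have h3 := memLocalIdeal_add h1 h2
    rwa [sub_add_cancel] at h3
  have hFp : ¬ p ∣ F.card := by
    intro h
    apply hcong θ₀ (mem_blockOf_self θ₀)
    exact memLocalIdeal_mul_right ((natCast_memLocalIdeal_iff hM _).mpr h)
      (coe_mem_localRing (omegaInt θ₀ n))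
  refine ⟨n, hx1, hx2, ?_, ?_⟩
  · intro θ hθ h
    exact hcong θ hθ (memLocalIdeal_mul_left (natCast_mem_localRing _) h)
  · -- class sizes
    have h1 := index_centralizer_eq_sum_classes N n
    rw [← Finset.sum_filter] at h1
    have h2 : ∀ c' ∈ F, ((Subgroup.centralizer ({classRep c'} : Set N)).index : ℂ) =
        ((Subgroup.centralizer ({n} : Set N)).index : ℂ) := by
      intro c' hc'
      obtain ⟨g, hg⟩ := hconj c' hc'
      rw [hg, index_centralizer_conj]
    have h3 : (Subgroup.centralizer ({(n : G)} : Set G)).index =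
        F.card * (Subgroup.centralizer ({n} : Set N)).index := by
      have h4 : ((Subgroup.centralizer ({(n : G)} : Set G)).index : ℂ) =
          (F.card : ℂ) * ((Subgroup.centralizer ({n} : Set N)).index : ℂ) := by
        rw [h1]
        have : ∑ c' ∈ Finset.univ.filter (fun c' : ConjClasses N =>
            IsConj (n : G) ((classRep c' : N) : G)),
            ((Subgroup.centralizer ({classRep c'} : Set N)).index : ℂ) =
            ∑ _c' ∈ F, ((Subgroup.centralizer ({n} : Set N)).index : ℂ) :=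
          Finset.sum_congr rfl h2
        rw [this, Finset.sum_const, nsmul_eq_mul]
      exact_mod_cast h4
    rw [h3]
    have hF0 : F.card ≠ 0 := fun h0 => hFp (h0 ▸ dvd_zero p)
    have hi0 : (Subgroup.centralizer ({n} : Set N)).index ≠ 0 :=
      Cfsg.Agent.Lib.L0.BlockHeight.index_ne_zero _
    rw [Nat.factorization_mul hF0 hi0]
    simp only [Finsupp.coe_add, Pi.add_apply]
    rw [Nat.factorization_eq_zero_of_not_dvd hFp, zero_add]

end Good

section FongMain

variable {G : Type*} [Group G] [Fintype G] (N : Subgroup G) [hN : N.Normal] [Fintype N]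
  {p : ℕ} {M : Ideal AlgInt}

/-- **Fong's theorem.** -/
theorem fong [Fact p.Prime] (hM : IsPModular p M) (θ₀ : IrrCharacter N)
    (hinv : ∀ g : G, ∀ θ ∈ blockOf M (θ₀ : N → ℂ), conjIrr N θ g ∈ blockOf M (θ₀ : N → ℂ))
    (χ₀ : IrrCharacter G) (hχ₀ : χ₀ ∈ overSet N (blockOf M (θ₀ : N → ℂ)))
    (hmax : ∀ χ' : IrrCharacter G, χ' ∈ overSet N (blockOf M (θ₀ : N → ℂ)) →
      blockDefect p (blockOf M (χ' : G → ℂ)) ≤ blockDefect p (blockOf M (χ₀ : G → ℂ)))
    (P : Subgroup G) (hP : IsDefectGroup p M (blockOf M (χ₀ : G → ℂ)) P) :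
    ¬ p ∣ (P ⊔ N).index ∧ IsDefectGroup p M (blockOf M (θ₀ : N → ℂ)) ((P ⊓ N).subgroupOf N) ∧
      blockDefect p (blockOf M (χ₀ : G → ℂ)) =
        blockDefect p (blockOf M (θ₀ : N → ℂ)) + N.index.factorization p := by
  classical
  haveI hPr := isPrime_of_isPModular hM
  haveI := Fintype.ofFinite (IrrCharacter G)
  have hp : p.Prime := Fact.out
  set b := blockOf M (θ₀ : N → ℂ) with hb
  set B := blockOf M (χ₀ : G → ℂ) with hB
  have hob := orbitSet_eq_of_invariant N b hinv
  obtain ⟨n, hn1, hn2, hn3, hn4⟩ := exists_good_class N hM θ₀ hinv χ₀ hχ₀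
  -- a covering block with unit coefficient at `n`
  have hE := orbitIdem_eq_blockIdem_overSet N b hinv
  have hunion := blockIdem_eq_sum_of_union (M := M) (overSet N b)
    (fun χ hχ => overSet_union N hM θ₀ hinv hχ)
  have hcoeffE : (orbitIdem N b).coeff (n : G) = blockCoeff b n := by
    rw [orbitIdem, coeff_extAlg_coe, coeff_blockIdem, hob]
  have hsum : blockCoeff b n = ∑ B' ∈ (Finset.univ.image
      (fun χ : IrrCharacter G => blockOf M (χ : G → ℂ))).filter (fun B' => B' ⊆ overSet N b),
      blockCoeff B' (n : G) := by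
    rw [← hcoeffE, hE, hunion, MonoidAlgebra.coeff_sum, Finsupp.finsetSum_apply]
    rfl
  obtain ⟨B', hB'S, hB'n⟩ : ∃ B' ∈ (Finset.univ.image
      (fun χ : IrrCharacter G => blockOf M (χ : G → ℂ))).filter (fun B' => B' ⊆ overSet N b),
      ¬ MemLocalIdeal M (blockCoeff B' (n : G)) := by
    by_contra hcon
    push Not at hcon
    apply hn1
    rw [hsum]
    exact memLocalIdeal_sum _ _ hcon
  obtain ⟨χ', _, rfl⟩ := Finset.mem_image.1 (Finset.mem_filter.1 hB'S).1
  have hχ'over : χ' ∈ overSet N b := (Finset.mem_filter.1 hB'S).2 (mem_blockOf_self χ')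
  -- defects
  have h1 : (Nat.card (Subgroup.centralizer ({(n : G)} : Set G))).factorization p ≤
      blockDefect p (blockOf M (χ' : G → ℂ)) := by
    by_contra hlt
    rw [not_le] at hlt
    exact hB'n (blockCoeff_memLocalIdeal_of_defect_lt hM χ' (n : G) hlt)
  have h2 := hmax χ' hχ'over
  have h3 : blockDefect p B ≤
      (Nat.card (Subgroup.centralizer ({(n : G)} : Set G))).factorization p := by
    by_contra hlt
    rw [not_le] at hlt
    exact hn2 (centralChar_memLocalIdeal_of_lt_defect hM χ₀ (mem_blockOf_self χ₀) (n : G) hlt)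
  have hdB : blockDefect p B =
      (Nat.card (Subgroup.centralizer ({(n : G)} : Set G))).factorization p :=
    le_antisymm h3 (h1.trans h2)
  have hnDef : IsDefectClass M b n := ⟨memLocalRing_blockCoeff hM θ₀ n, hn1, hn3⟩
  have hdb := factorization_card_centralizer_of_isDefectClass hM θ₀ n hnDef
  have hcG := factorization_card_eq (p := p) (n : G)
  have hcN := factorization_card_eq (p := p) n
  have hGN : Nat.card G = N.index * Nat.card N := (Subgroup.index_mul_card N).symm
  have hidx0 : N.index ≠ 0 := Cfsg.Agent.Lib.L0.BlockHeight.index_ne_zero _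
  have hνGN : (Nat.card G).factorization p =
      N.index.factorization p + (Nat.card N).factorization p := by
    rw [hGN, Nat.factorization_mul hidx0 Nat.card_pos.ne']; rfl
  have hthird : blockDefect p B = blockDefect p b + N.index.factorization p := by
    rw [hdB, ← hdb]
    omega
  -- `P` centralizes a conjugate of `n`
  have hcardP : Nat.card P = p ^ blockDefect p B := card_defectGroup hM χ₀ P hP
  obtain ⟨k, hk, S, hPS⟩ := hP
  have hPp : IsPGroup p P := hPS ▸ S.2.map _
  have hPk : P ≤ Subgroup.centralizer ({k} : Set G) := by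
    rw [hPS]
    rintro _ ⟨q, _, rfl⟩
    exact q.2
  obtain ⟨x', hx', hPx'⟩ := exists_conj_centralized hM χ₀ k (n : G) hk.2.1 χ₀
    (mem_blockOf_self χ₀) hn2 P hPp hPk
  obtain ⟨g, hg⟩ := isConj_iff.1 hx'
  set n' : N := ⟨g * n * g⁻¹, hN.conj_mem n n.2 g⟩ with hn'
  have hn'x' : (n' : G) = x' := hg
  have hn'Def : IsDefectClass M b n' := by
    refine ⟨memLocalRing_blockCoeff hM θ₀ n', ?_, ?_⟩
    · have := blockCoeff_orbitSet_conj N b g n
      rw [hob] at this
      rw [hn', this]
      exact hn1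
    · intro θ hθ
      rw [hn', ← centralChar_conjIrr]
      exact hn3 _ (hinv g θ hθ)
  have hdb' := factorization_card_centralizer_of_isDefectClass hM θ₀ n' hn'Def
  -- the subgroup `Q = P ∩ N` of `N`
  have hQcard : Nat.card ((P ⊓ N).subgroupOf N) = Nat.card (P ⊓ N : Subgroup G) :=
    Nat.card_congr (Subgroup.subgroupOfEquivOfLe inf_le_right).toEquiv
  have hPNp : IsPGroup p (P ⊓ N : Subgroup G) := hPp.to_le inf_le_left
  have hQp : IsPGroup p ((P ⊓ N).subgroupOf N) := hPNp.comap_subtype
  have hQc : (P ⊓ N).subgroupOf N ≤ Subgroup.centralizer ({n'} : Set N) := by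
    intro q hq
    rw [Subgroup.mem_centralizer_singleton_iff]
    have h4 : (q : G) ∈ P := (Subgroup.mem_subgroupOf.1 hq).1
    have h5 := Subgroup.mem_centralizer_singleton_iff.1 (hPx' h4)
    apply Subtype.ext
    push_cast
    rw [hn'x']
    exact h5
  obtain ⟨S', hS'⟩ := (hQp.comap_subtype (K := Subgroup.centralizer ({n'} : Set N))).exists_le_sylow
  have hS'card : Nat.card S' = p ^ blockDefect p b := by
    rw [Sylow.card_eq_multiplicity, hdb']
  have hQsub : Nat.card (((P ⊓ N).subgroupOf N).subgroupOf (Subgroup.centralizer ({n'} : Set N))) =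
      Nat.card ((P ⊓ N).subgroupOf N) :=
    Nat.card_congr (Subgroup.subgroupOfEquivOfLe hQc).toEquiv
  have hQle : Nat.card (P ⊓ N : Subgroup G) ≤ p ^ blockDefect p b := by
    rw [← hQcard, ← hQsub, ← hS'card]
    exact Subgroup.card_le_of_le hS'
  obtain ⟨j, hj⟩ := IsPGroup.exists_card_eq hPNp
  have hprod := card_sup_mul_card_inf N P
  have hval : (Nat.card (P ⊔ N : Subgroup G)).factorization p + j =
      blockDefect p B + (Nat.card N).factorization p := by
    have h4 := congrArg (fun m : ℕ => m.factorization p) hprod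
    beta_reduce at h4
    rw [Nat.factorization_mul Nat.card_pos.ne' Nat.card_pos.ne',
      Nat.factorization_mul Nat.card_pos.ne' Nat.card_pos.ne', hj, hcardP] at h4
    simp only [Finsupp.coe_add, Pi.add_apply, Nat.Prime.factorization_pow hp,
      Finsupp.single_eq_same] at h4
    exact h4
  have hsuple : (Nat.card (P ⊔ N : Subgroup G)).factorization p ≤
      (Nat.card G).factorization p :=
    (Nat.factorization_le_iff_dvd Nat.card_pos.ne' Nat.card_pos.ne').mpr
      (Subgroup.card_subgroup_dvd_card _) p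
  have hjle : j ≤ blockDefect p b := by
    rw [hj] at hQle
    exact (Nat.pow_le_pow_iff_right hp.one_lt).1 hQle
  have hjeq : j = blockDefect p b := by omega
  have hsupeq : (Nat.card (P ⊔ N : Subgroup G)).factorization p =
      (Nat.card G).factorization p := by omega
  refine ⟨?_, ?_, hthird⟩
  · intro hdvd
    have h4 : Nat.card G = (P ⊔ N).index * Nat.card (P ⊔ N : Subgroup G) :=
      (Subgroup.index_mul_card _).symm
    have hi0 : (P ⊔ N).index ≠ 0 := Cfsg.Agent.Lib.L0.BlockHeight.index_ne_zero _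
    have h5 : (Nat.card G).factorization p = (P ⊔ N).index.factorization p +
        (Nat.card (P ⊔ N : Subgroup G)).factorization p := by
      rw [h4, Nat.factorization_mul hi0 Nat.card_pos.ne']; rfl
    have h6 : 1 ≤ (P ⊔ N).index.factorization p :=
      (hp.dvd_iff_one_le_factorization hi0).1 hdvd
    omega
  · refine ⟨n', hn'Def, S', ?_⟩
    have h4 : ((P ⊓ N).subgroupOf N).subgroupOf (Subgroup.centralizer ({n'} : Set N)) =
        (S' : Subgroup (Subgroup.centralizer ({n'} : Set N))) := by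
      have h5 : Nat.card S' = Nat.card (((P ⊓ N).subgroupOf N).subgroupOf
          (Subgroup.centralizer ({n'} : Set N))) := by
        rw [hS'card, hQsub, hQcard, hj, hjeq]
      exact Subgroup.eq_of_le_of_card_ge hS' (le_of_eq h5)
    rw [← h4]
    ext q
    constructor
    · intro hq
      exact ⟨⟨q, hQc hq⟩, Subgroup.mem_subgroupOf.2 hq, rfl⟩
    · rintro ⟨u, hu, rfl⟩
      exact Subgroup.mem_subgroupOf.1 hu

end FongMain

end Cfsg.Agent.Lib.H23
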