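import Mathlib
import Cfsg.Prelude.Def_Blocks
import Cfsg.Agent.Lib.H23.BlockCovering
import Cfsg.Agent.Lib.H23.BlockBrauerHom
import Cfsg.Agent.Lib.H23.BlockNilChar

/-!
# Blocks of `Q C_G(Q)` for a normal `p`-subgroup `Q` (helper23)

`induced_of_covers_centralizer` (= S0971): every block `b` of `N = Q C_G(Q)` induces a block of
`G`, and this is the unique block covering `b`.
-/

set_option autoImplicit false

namespace Cfsg.Agent.Lib.H23

open Cfsg MonoidAlgebra Cfsg.Agent.Lib.H24 Cfsg.Agent.Lib.L0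
open scoped ComplexConjugate

section CoversCentral

variable {G : Type*} [Group G] [Fintype G] {p : ℕ} {M : Ideal AlgInt}

/-- The induced central character vanishes outside a normal subgroup. -/
theorem inducedCentralChar_of_not_mem (N : Subgroup G) [hN : N.Normal] (ξ : N → ℂ) {g : G}
    (hg : g ∉ N) : inducedCentralChar N ξ g = 0 := by
  unfold inducedCentralChar
  apply finsum_mem_eq_zero_of_forall_eq_zero
  intro h hh
  exfalso
  obtain ⟨c, hc⟩ := isConj_iff.1 (hh : IsConj g (h : G))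
  apply hg
  have h1 : g = c⁻¹ * (h : G) * c⁻¹⁻¹ := by rw [← hc]; group
  rw [h1]
  exact hN.conj_mem h h.2 c⁻¹

/-- If `B` covers the block `b` of a normal subgroup `N₀ ≥ C_G(Q)`, `Q` a normal `p`-subgroup,
then `b` induces `B`. -/
theorem isInducedBlock_of_covers_of_centralizer_le [Fact p.Prime] (hM : IsPModular p M)
    (Q : Subgroup G) [Q.Normal] (hQ : IsPGroup p Q) (N₀ : Subgroup G) [hN₀ : N₀.Normal]
    [Fintype N₀] (hC : Subgroup.centralizer (Q : Set G) ≤ N₀)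
    (θ₀ : IrrCharacter N₀) (χ₀ : IrrCharacter G)
    (hcov : ∃ χ ∈ blockOf M (χ₀ : G → ℂ), ∃ θ ∈ blockOf M (θ₀ : N₀ → ℂ),
      classInner (fun n : N₀ => (χ : G → ℂ) n) (θ : N₀ → ℂ) ≠ 0) :
    IsInducedBlock M N₀ (blockOf M (θ₀ : N₀ → ℂ)) (blockOf M (χ₀ : G → ℂ)) := by
  haveI hP := isPrime_of_isPModular hM
  obtain ⟨χ₁, hχ₁, θ₁, hθ₁, hcon⟩ := hcov
  refine ⟨⟨θ₀, rfl⟩, ⟨χ₀, rfl⟩, ?_⟩
  intro ξ hξ χ hχ g
  by_cases hg : g ∈ N₀
  · have := centralChar_sub_memLocalIdeal_of_covers N₀ hM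
      (sameBlock_trans (sameBlock_symm hχ₁) hχ) (sameBlock_trans (sameBlock_symm hθ₁) hξ) hcon
      ⟨g, hg⟩
    have h2 := memLocalIdeal_neg this
    rwa [neg_sub] at h2
  · rw [inducedCentralChar_of_not_mem _ _ hg, zero_sub]
    apply memLocalIdeal_neg
    apply centralChar_memLocalIdeal_of_normal hM Q hQ
    intro x hx hxC
    obtain ⟨c, hc⟩ := isConj_iff.1 hx
    apply hg
    have h1 : g = c⁻¹ * x * c⁻¹⁻¹ := by rw [← hc]; group
    rw [h1]
    exact hN₀.conj_mem x (hC hxC) c⁻¹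

/-- If `B` covers the block `b` of `N = Q C_G(Q)`, `Q` a normal `p`-subgroup, then `b` induces
`B`. -/
theorem isInducedBlock_of_covers_centralizer [Fact p.Prime] (hM : IsPModular p M)
    (Q : Subgroup G) [Q.Normal] (hQ : IsPGroup p Q)
    [Fintype ↥(Q ⊔ Subgroup.centralizer (Q : Set G))]
    (θ₀ : IrrCharacter ↥(Q ⊔ Subgroup.centralizer (Q : Set G))) (χ₀ : IrrCharacter G)
    (hcov : ∃ χ ∈ blockOf M (χ₀ : G → ℂ),
      ∃ θ ∈ blockOf M (θ₀ : ↥(Q ⊔ Subgroup.centralizer (Q : Set G)) → ℂ),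
      classInner (fun n : ↥(Q ⊔ Subgroup.centralizer (Q : Set G)) => (χ : G → ℂ) n)
        (θ : ↥(Q ⊔ Subgroup.centralizer (Q : Set G)) → ℂ) ≠ 0) :
    IsInducedBlock M (Q ⊔ Subgroup.centralizer (Q : Set G))
      (blockOf M (θ₀ : ↥(Q ⊔ Subgroup.centralizer (Q : Set G)) → ℂ))
      (blockOf M (χ₀ : G → ℂ)) :=
  isInducedBlock_of_covers_of_centralizer_le hM Q hQ _ le_sup_right θ₀ χ₀ hcov

/-- S0971. -/
theorem induced_of_covers_centralizer [Fact p.Prime] (hM : IsPModular p M)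
    (Q : Subgroup G) [Q.Normal] (hQ : IsPGroup p Q)
    [Fintype ↥(Q ⊔ Subgroup.centralizer (Q : Set G))]
    (b : Set (IrrCharacter ↥(Q ⊔ Subgroup.centralizer (Q : Set G)))) (hb : IsPBlock M b) :
    InducedBlockDefined M (Q ⊔ Subgroup.centralizer (Q : Set G)) b ∧
      ∀ B : Set (IrrCharacter G), IsPBlock M B →
        (∃ χ ∈ B, ∃ θ ∈ b,
          classInner (fun n : ↥(Q ⊔ Subgroup.centralizer (Q : Set G)) => (χ : G → ℂ) n)
            (θ : ↥(Q ⊔ Subgroup.centralizer (Q : Set G)) → ℂ) ≠ 0) →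
        IsInducedBlock M (Q ⊔ Subgroup.centralizer (Q : Set G)) b B := by
  haveI hP := isPrime_of_isPModular hM
  obtain ⟨θ₀, rfl⟩ := hb
  constructor
  · obtain ⟨χ₀, h⟩ := exists_isInducedBlock Q (Q ⊔ Subgroup.centralizer (Q : Set G)) hM hQ
      le_sup_left le_sup_right (by
        intro x _
        rw [Subgroup.normalizer_eq_top]
        exact Subgroup.mem_top x) θ₀
    exact ⟨_, h⟩
  · rintro B ⟨χ₀, rfl⟩ hcov
    exact isInducedBlock_of_covers_centralizer hM Q hQ θ₀ χ₀ hcov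

end CoversCentral

end Cfsg.Agent.Lib.H23
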