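import Mathlib
import Cfsg.Prelude.Def_Blocks
import Cfsg.Prelude.Def_BlockLocal
import Cfsg.Prelude.Def_BrauerPairs
import Cfsg.Agent.Lib.H23.BlockFong

/-!
# Invariant blocks of normal subgroups of `p`-power index (helper23)

`N` normal of `p`-power index in `G`, `c` a `G`-stable block of `N`.  Then the idempotent of `c`
is a block idempotent of `G`, and the defect groups `P` of that block satisfy `G = N P`,
`P ∩ N` a defect group of `c` (= S4672).
-/

set_option autoImplicit false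

namespace Cfsg.Agent.Lib.H23

open Cfsg MonoidAlgebra Cfsg.Agent.Lib.H24 Cfsg.Agent.Lib.L0
open scoped ComplexConjugate

section FongIndex

variable {G : Type*} [Group G] [Fintype G] (N : Subgroup G) [hN : N.Normal] [Fintype N]
  {p : ℕ} {M : Ideal AlgInt}

omit [Fintype G] [Fintype N] in
/-- `StabilizesBlock` gives invariance under `conjIrr`. -/
theorem conjIrr_mem_of_stabilizesBlock (c : Set (IrrCharacter N))
    (hst : ∀ x : G, StabilizesBlock N c x) (g : G) (θ : IrrCharacter N) (hθ : θ ∈ c) :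
    conjIrr N θ g ∈ c := by
  obtain ⟨θ', hθ', hconj⟩ := (hst g⁻¹).2 θ hθ
  have : θ' = conjIrr N θ g := by
    apply Subtype.ext
    funext m
    rw [conjIrr_apply]
    exact hconj ⟨g * m * g⁻¹, hN.conj_mem m m.2 g⟩ m (by simp [mul_assoc])
  rw [← this]
  exact hθ'

/-- Two sets of irreducible characters with the same idempotent coefficients are equal. -/
theorem eq_of_blockCoeff_eq (B B' : Set (IrrCharacter G))
    (h : ∀ g : G, blockCoeff B g = blockCoeff B' g) : B = B' := by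
  classical
  have h1 : blockIdem B = blockIdem B' := by
    apply MonoidAlgebra.ext
    ext g
    exact h g
  ext χ
  have h2 := omega_blockIdem B χ
  have h3 := omega_blockIdem B' χ
  rw [h1, h3] at h2
  by_cases hχ : χ ∈ B
  · rw [if_pos hχ] at h2
    by_cases hχ' : χ ∈ B'
    · exact ⟨fun _ => hχ', fun _ => hχ⟩
    · rw [if_neg hχ'] at h2
      exact absurd h2 zero_ne_one
  · rw [if_neg hχ] at h2
    by_cases hχ' : χ ∈ B'
    · rw [if_pos hχ'] at h2
      exact absurd h2 one_ne_zero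
    · exact ⟨fun h => absurd h hχ, fun h => absurd h hχ'⟩

/-- For `N` of `p`-power index and `c` a `G`-invariant block of `N`, the characters over `c`
form a single block. -/
theorem overSet_eq_blockOf_of_index_pow [Fact p.Prime] (hM : IsPModular p M)
    (hidx : ∃ k : ℕ, N.index = p ^ k) (θ₀ : IrrCharacter N)
    (hinv : ∀ g : G, ∀ θ ∈ blockOf M (θ₀ : N → ℂ), conjIrr N θ g ∈ blockOf M (θ₀ : N → ℂ))
    (χ₀ : IrrCharacter G) (hχ₀ : χ₀ ∈ overSet N (blockOf M (θ₀ : N → ℂ))) :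
    overSet N (blockOf M (θ₀ : N → ℂ)) = blockOf M (χ₀ : G → ℂ) := by
  haveI hP := isPrime_of_isPModular hM
  obtain ⟨B, _, huniq⟩ := existsUnique_covers_of_index_pow N hM hidx (blockOf M (θ₀ : N → ℂ))
    ⟨θ₀, rfl⟩
  have hB₀ : blockOf M (χ₀ : G → ℂ) = B := by
    obtain ⟨θ, hθ, hcon⟩ := hχ₀
    exact huniq _ ⟨⟨χ₀, rfl⟩, χ₀, mem_blockOf_self χ₀, θ, hθ, hcon⟩
  apply Set.Subset.antisymm
  · intro χ hχ
    have h1 : blockOf M (χ : G → ℂ) = B := by
      obtain ⟨θ, hθ, hcon⟩ := hχ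
      exact huniq _ ⟨⟨χ, rfl⟩, χ, mem_blockOf_self χ, θ, hθ, hcon⟩
    rw [hB₀, ← h1]
    exact mem_blockOf_self χ
  · exact overSet_union N hM θ₀ hinv hχ₀

theorem blockCoeff_overSet_eq (c : Set (IrrCharacter N))
    (hinv : ∀ g : G, ∀ θ ∈ c, conjIrr N θ g ∈ c) (g : G) :
    blockCoeff (overSet N c) g = subgroupBlockCoeff N c g := by
  classical
  have h1 := orbitIdem_eq_blockIdem_overSet N c hinv
  have h2 := congrArg (fun z : MonoidAlgebra ℂ G => z.coeff g) h1
  simp only [coeff_blockIdem] at h2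
  rw [← h2, orbitIdem, orbitSet_eq_of_invariant N c hinv]
  unfold subgroupBlockCoeff
  by_cases hg : g ∈ N
  · rw [coeff_extAlg_of_mem N _ hg, coeff_blockIdem, dif_pos hg]
  · rw [coeff_extAlg_of_not_mem N _ hg, dif_neg hg]

/-- S4672. -/
theorem invariant_block_index_pow [Fact p.Prime] (hM : IsPModular p M)
    (hidx : ∃ k : ℕ, N.index = p ^ k) (c : Set (IrrCharacter N)) (hc : IsPBlock M c)
    (hst : ∀ x : G, StabilizesBlock N c x) :
    (∃ B : Set (IrrCharacter G), IsPBlock M B ∧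
      ∀ g : G, blockCoeff B g = subgroupBlockCoeff N c g) ∧
    ∀ B : Set (IrrCharacter G), IsPBlock M B →
      (∀ g : G, blockCoeff B g = subgroupBlockCoeff N c g) →
      ∀ P : Subgroup G, IsDefectGroup p M B P →
        N ⊔ P = ⊤ ∧ IsDefectGroup p M c ((P ⊓ N).subgroupOf N) := by
  haveI hPr := isPrime_of_isPModular hM
  have hp : p.Prime := Fact.out
  obtain ⟨θ₀, rfl⟩ := hc
  have hinv := conjIrr_mem_of_stabilizesBlock N _ hst
  obtain ⟨χ₀, hχ₀⟩ := exists_irr_over_restrict N θ₀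
  have hover : χ₀ ∈ overSet N (blockOf M (θ₀ : N → ℂ)) := ⟨θ₀, mem_blockOf_self θ₀, hχ₀⟩
  have hOB := overSet_eq_blockOf_of_index_pow N hM hidx θ₀ hinv χ₀ hover
  have hcoeff : ∀ g : G, blockCoeff (blockOf M (χ₀ : G → ℂ)) g =
      subgroupBlockCoeff N (blockOf M (θ₀ : N → ℂ)) g := by
    intro g
    rw [← hOB]
    exact blockCoeff_overSet_eq N _ hinv g
  refine ⟨⟨_, ⟨χ₀, rfl⟩, hcoeff⟩, ?_⟩
  intro B _ hBc P hP
  have hBeq : B = blockOf M (χ₀ : G → ℂ) :=
    eq_of_blockCoeff_eq _ _ (fun g => by rw [hBc g, hcoeff g])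
  rw [hBeq] at hP
  have hmax : ∀ χ' : IrrCharacter G, χ' ∈ overSet N (blockOf M (θ₀ : N → ℂ)) →
      blockDefect p (blockOf M (χ' : G → ℂ)) ≤ blockDefect p (blockOf M (χ₀ : G → ℂ)) := by
    intro χ' hχ'
    rw [hOB] at hχ'
    rw [blockOf_eq_of_mem hχ']
  obtain ⟨h1, h2, -⟩ := fong N hM θ₀ hinv χ₀ hover hmax P hP
  refine ⟨?_, h2⟩
  rw [sup_comm]
  obtain ⟨k, hk⟩ := hidx
  have h3 : (P ⊔ N).index ∣ p ^ k := hk ▸ Subgroup.index_dvd_of_le le_sup_right
  obtain ⟨j, _, hj⟩ := (Nat.dvd_prime_pow hp).1 h3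
  rcases Nat.eq_zero_or_pos j with h0 | h0
  · rw [h0, pow_zero] at hj
    exact Subgroup.index_eq_one.1 hj
  · exact absurd (hj ▸ dvd_pow_self p h0.ne') h1

end FongIndex

end Cfsg.Agent.Lib.H23
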