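import Mathlib
import Cfsg.Prelude.Def_Blocks
import Cfsg.Agent.Lib.H23.BlockMinMax
import Cfsg.Agent.Lib.H23.BlockHom
import Cfsg.Agent.Lib.H23.BlockBrauerHom
import Cfsg.Agent.Lib.H23.BlockDefectGroups
import Cfsg.Agent.Lib.H23.BlockVanishP

/-!
# Idempotents modulo `p` (helper23)

* `coeff_div_of_idem_nil`: a central element with local-integer coefficients which is idempotent
  modulo `p` and all of whose central character values lie in the local ideal has all coefficients
  divisible by `p` in the local ring.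
* `exists_omega_not_mem_of_idem`: an idempotent-mod-`p` central element with a coefficient outside
  the local ideal has a central character value outside the local ideal.
* `exists_isInducedBlock_of_le_defectGroup`: if `P C_G(P) ≤ H ≤ N_G(P)` and `P` lies in a defect
  group of `B`, some block of `H` induces `B`.
-/

set_option autoImplicit false

namespace Cfsg.Agent.Lib.H23

open Cfsg MonoidAlgebra
open scoped ComplexConjugate

section IdemNil

variable {G : Type*} [Group G] [Fintype G] {p : ℕ} {M : Ideal AlgInt}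

theorem pow_eq_add_of_idem [hPr : M.IsPrime] {w t : MonoidAlgebra ℂ G}
    (hw : w ∈ intCoeff (G := G) M) (ht : t ∈ intCoeff (G := G) M)
    (hwt : w * w = w + (p : ℂ) • t) (k : ℕ) :
    ∃ s ∈ intCoeff (G := G) M, w ^ (k + 1) = w + (p : ℂ) • s := by
  induction k with
  | zero => exact ⟨0, Subring.zero_mem _, by simp⟩
  | succ k ih =>
    obtain ⟨s, hs, hse⟩ := ih
    refine ⟨t + s * w, Subring.add_mem _ ht (Subring.mul_mem _ hs hw), ?_⟩
    rw [pow_succ, hse, add_mul, hwt, smul_mul_assoc, smul_add]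
    abel

theorem coeff_div_of_idem_nil [hPr : M.IsPrime] (hM : IsPModular p M) {w t : MonoidAlgebra ℂ G}
    (hwc : w ∈ Subalgebra.center ℂ (MonoidAlgebra ℂ G))
    (hw : w ∈ intCoeff (G := G) M) (ht : t ∈ intCoeff (G := G) M)
    (hwt : w * w = w + (p : ℂ) • t)
    (hω : ∀ ψ : IrrCharacter G, MemLocalIdeal M (omega (ψ : G → ℂ) w)) (g : G) :
    MemLocalRing M (w.coeff g / p) := by
  have hp0 : (p : ℂ) ≠ 0 := Nat.cast_ne_zero.2 (prime_of_isPModular hM).ne_zero
  obtain ⟨N, hNpos, hN⟩ := exists_pow_coeff_div hM hwc hω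
  obtain ⟨k, rfl⟩ : ∃ k, N = k + 1 := ⟨N - 1, by omega⟩
  obtain ⟨s, hs, hse⟩ := pow_eq_add_of_idem hw ht hwt k
  have h1 : w = w ^ (k + 1) - (p : ℂ) • s := by rw [hse]; abel
  have h2 : w.coeff g / p = (w ^ (k + 1)).coeff g / p - s.coeff g := by
    conv_lhs => rw [h1]
    rw [MonoidAlgebra.coeff_sub, Finsupp.coe_sub, Pi.sub_apply, MonoidAlgebra.coeff_smul,
      Finsupp.coe_smul, Pi.smul_apply, smul_eq_mul, sub_div, mul_div_cancel_left₀ _ hp0]
  rw [h2]
  exact memLocalRing_sub (hN g) (hs g)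

/-- An idempotent-mod-`p` central element with some coefficient outside the local ideal has a
central character value outside the local ideal. -/
theorem exists_omega_not_mem_of_idem [hPr : M.IsPrime] (hM : IsPModular p M)
    {w t : MonoidAlgebra ℂ G}
    (hwc : w ∈ Subalgebra.center ℂ (MonoidAlgebra ℂ G))
    (hw : w ∈ intCoeff (G := G) M) (ht : t ∈ intCoeff (G := G) M)
    (hwt : w * w = w + (p : ℂ) • t) {g : G} (hg : ¬ MemLocalIdeal M (w.coeff g)) :
    ∃ ψ : IrrCharacter G, ¬ MemLocalIdeal M (omega (ψ : G → ℂ) w) := by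
  have hp0 : (p : ℂ) ≠ 0 := Nat.cast_ne_zero.2 (prime_of_isPModular hM).ne_zero
  by_contra hcon
  apply hg
  have hω : ∀ ψ : IrrCharacter G, MemLocalIdeal M (omega (ψ : G → ℂ) w) := by
    intro ψ
    by_contra h
    exact hcon ⟨ψ, h⟩
  have h1 := coeff_div_of_idem_nil hM hwc hw ht hwt hω g
  have h2 : w.coeff g = (p : ℂ) * (w.coeff g / p) := by
    rw [mul_div_cancel₀ _ hp0]
  rw [h2]
  exact memLocalIdeal_mul_right (memLocalIdeal_p hM) h1

end IdemNil

section Induced

variable {G : Type*} [Group G] [Fintype G] {p : ℕ} {M : Ideal AlgInt} (P H : Subgroup G)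
  [Fintype H]

/-- If the Brauer image of `e_B` has a coefficient outside the local ideal, some block of `H`
induces `B`. -/
theorem exists_isInducedBlock_of_coeff (hM : IsPModular p M) (hP : IsPGroup p P)
    (hPH : P ≤ H) (hCH : Subgroup.centralizer (P : Set G) ≤ H)
    (hHN : H ≤ Subgroup.normalizer (P : Set G)) (χ₀ : IrrCharacter G) {c : G}
    (hc : c ∈ Subgroup.centralizer (P : Set G))
    (hβ : ¬ MemLocalIdeal M (blockCoeff (blockOf M (χ₀ : G → ℂ)) c)) :
    ∃ ξ₀ : IrrCharacter H,
      IsInducedBlock M H (blockOf M (ξ₀ : H → ℂ)) (blockOf M (χ₀ : G → ℂ)) := by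
  classical
  haveI hPr := isPrime_of_isPModular hM
  set B := blockOf M (χ₀ : G → ℂ) with hB
  set e := blockIdem B with he
  have hec : e ∈ Subalgebra.center ℂ (MonoidAlgebra ℂ G) := blockIdem_mem_center B
  have hei : e ∈ intCoeff (G := G) M := fun g => blockIdem_memLocalRing hM χ₀ g
  have hee : e * e = e := blockIdem_mul_self B
  set w := brAlg P H e with hw
  have hwc : w ∈ Subalgebra.center ℂ (MonoidAlgebra ℂ H) := brAlg_mem_center P H hHN hec
  have hwi : w ∈ intCoeff (G := H) M := brAlg_mem_intCoeff P H hei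
  obtain ⟨t, ht, hte⟩ := brAlg_mul P H hM hP hCH e e hei hei
    (fun q _ => invUnder_of_mem_center hec q) (fun q _ => invUnder_of_mem_center hec q)
  rw [hee] at hte
  have hwt : w * w = w + (p : ℂ) • (-t) := by
    have h0 : w * w = w - (p : ℂ) • t := by
      rw [eq_sub_iff_add_eq]
      exact hte.symm
    rw [h0, smul_neg, sub_eq_add_neg]
  have hcoeff : ¬ MemLocalIdeal M (w.coeff (⟨c, hCH hc⟩ : H)) := by
    rw [hw, coeff_brAlg, if_pos hc]
    exact hβ
  obtain ⟨ξ₀, hξ₀⟩ := exists_omega_not_mem_of_idem hM hwc hwi (Subring.neg_mem _ ht) hwt hcoeff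
  obtain ⟨χ₁, hind⟩ := exists_isInducedBlock P H hM hP hPH hCH hHN ξ₀
  refine ⟨ξ₀, ?_⟩
  -- the induced block is `B`
  have h1 : MemLocalIdeal M (omega (ξ₀ : H → ℂ) (resAlg H e) - omega (χ₁ : G → ℂ) e) :=
    omega_resAlg_sub_memLocalIdeal H hind (mem_blockOf_self ξ₀) (mem_blockOf_self χ₁) hec hei
  have h2 := omega_resAlg_sub_brAlg P H hM hP hPH hHN ξ₀ hec hei
  have h3 : ¬ MemLocalIdeal M (omega (χ₁ : G → ℂ) e) := by
    intro h4
    apply hξ₀
    have h5 := memLocalIdeal_sub (memLocalIdeal_add h1 h4) h2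
    convert h5 using 1
    ring
  have h4 : χ₁ ∈ B := by
    by_contra h5
    apply h3
    rw [he, omega_blockIdem, if_neg h5]
    exact memLocalIdeal_zero hPr.ne_top
  have h5 : blockOf M (χ₁ : G → ℂ) = B := blockOf_eq_of_mem h4
  rw [← h5]
  exact hind

end Induced

end Cfsg.Agent.Lib.H23
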