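import Mathlib
import Cfsg.Prelude.Def_Blocks
import Cfsg.Agent.Lib.H23.BlockIdemNil
import Cfsg.Agent.Lib.H23.BlockDefect

/-!
# Blocks of local subgroups inducing a block with given defect group (helper23)

`P` a defect group of the block `B` of `G`, `P C_G(P) ≤ H ≤ N_G(P)`.
* `exists_induced_of_defectGroup`: some block of `H` induces `B`.
* `defectGroup_eq_of_induced`: every defect group of such a block is `P` (viewed in `H`).
* `IsPPart.exists_pow`, `IsPPart.of_subgroup`.
* `exists_conj_centralizer_ppart`: a class on which the central character of `B` does not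
  vanish meets `C_G(P)` in an element whose `p`-part lies in `Z(P)`.
-/

set_option autoImplicit false

namespace Cfsg.Agent.Lib.H23

open Cfsg MonoidAlgebra
open scoped ComplexConjugate

section PPart

variable {G : Type*} [Group G] {p : ℕ}

theorem IsPPart.exists_pow (hp : p.Prime) {g x : G} (hx : IsPPart p g x) : ∃ n : ℕ, x = g ^ n := by
  obtain ⟨c, e, hpc, _, _, hgx, _, hxe, _, _⟩ := IsPPart.pow_data hp hx hx
  obtain ⟨m, hm⟩ := exists_pow_pow_eq_self hp hpc hxe
  exact ⟨c * m, by rw [pow_mul, hgx, hm]⟩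

theorem IsPPart.of_subgroup (hp : p.Prime) (H : Subgroup G) (h : H) {z : G}
    (hz : IsPPart p (h : G) z) : ∃ z' : H, (z' : G) = z ∧ IsPPart p h z' := by
  obtain ⟨n, hn⟩ := IsPPart.exists_pow hp hz
  obtain ⟨y, hzy, hcomm, ⟨k, hk⟩, hy⟩ := hz
  have hzH : z ∈ H := by rw [hn]; exact H.pow_mem h.2 n
  have hyH : y ∈ H := by
    have : y = z⁻¹ * (h : G) := by rw [← hzy]; group
    rw [this]
    exact H.mul_mem (H.inv_mem hzH) h.2
  refine ⟨⟨z, hzH⟩, rfl, ⟨y, hyH⟩, Subtype.ext hzy, ?_, ⟨k, ?_⟩, ?_⟩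
  · show (⟨z, hzH⟩ : H) * ⟨y, hyH⟩ = ⟨y, hyH⟩ * ⟨z, hzH⟩
    exact Subtype.ext hcomm.eq
  · rw [← hk, ← Subgroup.orderOf_coe]
  · rw [← Subgroup.orderOf_coe]
    exact hy

end PPart

section Normalizer

variable {G : Type*} [Group G] [Fintype G] {p : ℕ} {M : Ideal AlgInt} (P H : Subgroup G)
  [Fintype H]

/-- Some block of `H` induces the block `B` with defect group `P`. -/
theorem exists_induced_of_defectGroup (hM : IsPModular p M) (hP : IsPGroup p P)
    (hPH : P ≤ H) (hCH : Subgroup.centralizer (P : Set G) ≤ H)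
    (hHN : H ≤ Subgroup.normalizer (P : Set G)) (χ₀ : IrrCharacter G)
    (hD : IsDefectGroup p M (blockOf M (χ₀ : G → ℂ)) P) :
    ∃ ξ₀ : IrrCharacter H,
      IsInducedBlock M H (blockOf M (ξ₀ : H → ℂ)) (blockOf M (χ₀ : G → ℂ)) := by
  obtain ⟨g₀, hg₀, S₀, hS₀⟩ := hD
  refine exists_isInducedBlock_of_coeff P H hM hP hPH hCH hHN χ₀ (c := g₀) ?_ hg₀.2.1
  rw [Subgroup.mem_centralizer_iff]
  intro u hu
  rw [hS₀] at hu
  obtain ⟨w, _, rfl⟩ := hu
  exact Subgroup.mem_centralizer_singleton_iff.1 w.2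

theorem isPGroup_of_isDefectGroup {B : Set (IrrCharacter G)} {D : Subgroup G}
    (hD : IsDefectGroup p M B D) : IsPGroup p D := by
  obtain ⟨g₀, _, S₀, rfl⟩ := hD
  exact S₀.2.map _

/-- Every defect group of a block of `H` inducing `B` is `P`. -/
theorem defectGroup_eq_of_induced [Fact p.Prime] (hM : IsPModular p M)
    (hPH : P ≤ H) (hHN : H ≤ Subgroup.normalizer (P : Set G)) {χ₀ : IrrCharacter G}
    (hD : IsDefectGroup p M (blockOf M (χ₀ : G → ℂ)) P) {ξ₀ : IrrCharacter H}
    (hind : IsInducedBlock M H (blockOf M (ξ₀ : H → ℂ)) (blockOf M (χ₀ : G → ℂ)))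
    (Db : Subgroup H) (hDb : IsDefectGroup p M (blockOf M (ξ₀ : H → ℂ)) Db) :
    Db = P.subgroupOf H := by
  have hP : IsPGroup p P := isPGroup_of_isDefectGroup hD
  obtain ⟨E, hE, hDE⟩ := defectGroup_le_of_induced H hM hind Db hDb
  haveI hn : (P.subgroupOf H).Normal := Subgroup.normal_subgroupOf_of_le_normalizer hHN
  have hpg : IsPGroup p (P.subgroupOf H) := hP.comap_subtype
  have hle := normal_le_defectGroup hM ξ₀ _ hpg Db hDb
  have hcardE : Nat.card E = Nat.card P := by
    rw [card_defectGroup hM χ₀ E hE, card_defectGroup hM χ₀ P hD]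
  have h1 : Nat.card (P.subgroupOf H) = Nat.card P :=
    Nat.card_congr (Subgroup.subgroupOfEquivOfLe hPH).toEquiv
  have h2 : Nat.card Db ≤ Nat.card E := by
    rw [← Subgroup.card_subtype H Db]
    exact Subgroup.card_le_of_le hDE
  symm
  apply Subgroup.eq_of_le_of_card_ge hle
  rw [h1, ← hcardE]
  exact h2

/-- A class on which the central character of `B` does not vanish meets `C_G(P)` in an element
whose `p`-part lies in `Z(P)`. -/
theorem exists_conj_centralizer_ppart [Fact p.Prime] (hM : IsPModular p M)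
    (χ₀ : IrrCharacter G) (hD : IsDefectGroup p M (blockOf M (χ₀ : G → ℂ)) P) (g : G)
    (hg : ¬ MemLocalIdeal M (centralChar (χ₀ : G → ℂ) g)) :
    ∃ x : G, IsConj g x ∧ x ∈ Subgroup.centralizer (P : Set G) ∧
      ∀ z : G, IsPPart p x z → z ∈ P ∧ ∀ w ∈ P, z * w = w * z := by
  classical
  haveI hPr := isPrime_of_isPModular hM
  have hp := prime_of_isPModular hM
  have hP : IsPGroup p P := isPGroup_of_isDefectGroup hD
  letI : Fintype (Subgroup.normalizer (P : Set G)) :=
    Fintype.ofFinite (Subgroup.normalizer (P : Set G))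
  haveI := Fintype.ofFinite (ConjClasses (Subgroup.normalizer (P : Set G)))
  set N := Subgroup.normalizer (P : Set G) with hN
  have hPN : P ≤ N := Subgroup.le_normalizer
  have hCN : Subgroup.centralizer (P : Set G) ≤ N := Subgroup.centralizer_le_normalizer _
  obtain ⟨ξ₀, hind⟩ := exists_induced_of_defectGroup P N hM hP hPN hCN le_rfl χ₀ hD
  have hcc := classSum_mem_center g
  have hci := classSum_mem_intCoeff (M := M) g
  have h1 : MemLocalIdeal M (omega (ξ₀ : N → ℂ) (resAlg N (classSum g)) -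
      omega (χ₀ : G → ℂ) (classSum g)) :=
    omega_resAlg_sub_memLocalIdeal N hind (mem_blockOf_self ξ₀) (mem_blockOf_self χ₀) hcc hci
  have h2 := omega_resAlg_sub_brAlg P N hM hP hPN le_rfl ξ₀ hcc hci
  have h3 : ¬ MemLocalIdeal M (omega (ξ₀ : N → ℂ) (brAlg P N (classSum g))) := by
    intro h4
    apply hg
    rw [← omega_classSum (Cfsg.Agent.Lib.H24.irr_isClassFunction χ₀)]
    have h5 := memLocalIdeal_sub (memLocalIdeal_add h2 h4) h1
    convert h5 using 1
    ring
  rw [omega_eq_sum_centralChar (Cfsg.Agent.Lib.H24.irr_isClassFunction ξ₀)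
    (brAlg_mem_center P N le_rfl hcc)] at h3
  have hex : ∃ c : ConjClasses N, ¬ MemLocalIdeal M
      ((brAlg P N (classSum g)).coeff (classRep c) * centralChar (ξ₀ : N → ℂ) (classRep c)) := by
    by_contra hcon
    apply h3
    refine memLocalIdeal_sum _ _ (fun c _ => ?_)
    by_contra h4
    exact hcon ⟨c, h4⟩
  obtain ⟨c, hc⟩ := hex
  set l := classRep c with hl
  rw [coeff_brAlg, coeff_classSum] at hc
  have hlC : (l : G) ∈ Subgroup.centralizer (P : Set G) := by
    by_contra h4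
    rw [if_neg h4, zero_mul] at hc
    exact hc (memLocalIdeal_zero hPr.ne_top)
  have hlg : IsConj g (l : G) := by
    by_contra h4
    rw [if_pos hlC, if_neg h4, zero_mul] at hc
    exact hc (memLocalIdeal_zero hPr.ne_top)
  rw [if_pos hlC, if_pos hlg, one_mul] at hc
  have hξl : (ξ₀ : N → ℂ) l ≠ 0 := by
    intro h4
    apply hc
    unfold centralChar
    rw [h4, mul_zero, zero_div]
    exact memLocalIdeal_zero hPr.ne_top
  refine ⟨(l : G), hlg, hlC, ?_⟩
  intro z hz
  obtain ⟨z', hz'z, hz'⟩ := IsPPart.of_subgroup hp N l hz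
  have hzP : z ∈ P := by
    by_contra hzn
    apply hξl
    refine irr_eq_zero_of_ppart_not_mem hM ξ₀ hz' ?_
    intro Db hDb
    rw [defectGroup_eq_of_induced P N hM hPN le_rfl hD hind Db hDb, Subgroup.mem_subgroupOf, hz'z]
    exact hzn
  refine ⟨hzP, ?_⟩
  intro w hw
  obtain ⟨n, hn⟩ := IsPPart.exists_pow hp hz
  have hcomm : Commute w (l : G) := (Subgroup.mem_centralizer_iff.1 hlC w hw)
  rw [hn]
  exact ((hcomm.pow_right n).eq).symm

end Normalizer

end Cfsg.Agent.Lib.H23
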