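import Mathlib
import Cfsg.Prelude.Def_Blocks
import Cfsg.Agent.Lib.H23.BlockMinMax
import Cfsg.Agent.Lib.H23.BlockBrauer
import Cfsg.Agent.Lib.H23.BlockNilChar

/-!
# Block idempotents are supported on `C_G(Q)` for normal `p`-subgroups `Q` (helper23)

* `add_pow_prime_pow_intCoeff`: Frobenius modulo `p` for commuting elements with local-integer
  coefficients.
* `blockCoeff_memLocalIdeal_of_normal`: if `Q` is a normal `p`-subgroup and `l ∉ C_G(Q)` then
  `β_B(l)` lies in the local ideal.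
-/

set_option autoImplicit false

namespace Cfsg.Agent.Lib.H23

open Cfsg MonoidAlgebra
open scoped ComplexConjugate

section Support

variable {G : Type*} [Group G] [Fintype G] {p : ℕ} {M : Ideal AlgInt}

theorem add_pow_prime_pow_intCoeff [hPr : M.IsPrime] (hp : p.Prime) {u v : MonoidAlgebra ℂ G}
    (hu : u ∈ intCoeff (G := G) M) (hv : v ∈ intCoeff (G := G) M) (huv : Commute u v) (n : ℕ) :
    ∃ r ∈ intCoeff (G := G) M,
      (u + v) ^ p ^ n = u ^ p ^ n + v ^ p ^ n + (p : ℂ) • (u * v * r) := by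
  have hc : Commute (⟨u, hu⟩ : intCoeff (G := G) M) ⟨v, hv⟩ := Subtype.ext huv
  obtain ⟨r, hr⟩ := hc.exists_add_pow_prime_pow_eq hp n
  refine ⟨(r : MonoidAlgebra ℂ G), r.2, ?_⟩
  have h1 := congrArg (Subtype.val) hr
  simp only [Subring.coe_add, Subring.coe_pow, Subring.coe_mul, Subring.coe_natCast] at h1
  rw [h1, Nat.cast_smul_eq_nsmul ℂ, nsmul_eq_mul, mul_assoc, mul_assoc, mul_assoc]

theorem resSub_mem_center {C : Subgroup G} [hn : C.Normal] {z : MonoidAlgebra ℂ G}
    (hz : z ∈ Subalgebra.center ℂ (MonoidAlgebra ℂ G)) :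
    resSub C z ∈ Subalgebra.center ℂ (MonoidAlgebra ℂ G) := by
  classical
  apply mem_center_of_classFunction
  intro g h
  rw [coeff_resSub, coeff_resSub, coeff_conj_of_mem_center hz]
  have : h * g * h⁻¹ ∈ C ↔ g ∈ C := by
    constructor
    · intro h1
      have := hn.conj_mem _ h1 h⁻¹
      simpa [mul_assoc] using this
    · intro h1
      exact hn.conj_mem _ h1 h
  by_cases hg : g ∈ C
  · rw [if_pos hg, if_pos (this.2 hg)]
  · rw [if_neg hg, if_neg (fun h1 => hg (this.1 h1))]

theorem idem_pow_succ {e : MonoidAlgebra ℂ G} (he : e * e = e) (k : ℕ) : e ^ (k + 1) = e := by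
  induction k with
  | zero => rw [zero_add, pow_one]
  | succ k ih => rw [pow_succ, ih, he]

/-- If `Q` is a normal `p`-subgroup and `l ∉ C_G(Q)` then `β_B(l)` lies in the local ideal. -/
theorem blockCoeff_memLocalIdeal_of_normal (hM : IsPModular p M) (Q : Subgroup G) [hQn : Q.Normal]
    (hQ : IsPGroup p Q) (χ₀ : IrrCharacter G) (l : G)
    (hl : l ∉ Subgroup.centralizer (Q : Set G)) :
    MemLocalIdeal M (blockCoeff (blockOf M (χ₀ : G → ℂ)) l) := by
  classical
  haveI hPr := isPrime_of_isPModular hM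
  have hp := prime_of_isPModular hM
  have hp0 : (p : ℂ) ≠ 0 := Nat.cast_ne_zero.2 hp.ne_zero
  haveI := Fintype.ofFinite (ConjClasses G)
  set B := blockOf M (χ₀ : G → ℂ) with hB
  set C := Subgroup.centralizer (Q : Set G) with hC
  haveI hCn : C.Normal := Subgroup.normal_centralizer
  set e := blockIdem B with he
  have hec : e ∈ Subalgebra.center ℂ (MonoidAlgebra ℂ G) := blockIdem_mem_center B
  have hei : e ∈ intCoeff (G := G) M := fun g => blockIdem_memLocalRing hM χ₀ g
  have hee : e * e = e := blockIdem_mul_self B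
  set u := resSub C e with hu
  set v := e - u with hv
  have huc : u ∈ Subalgebra.center ℂ (MonoidAlgebra ℂ G) := resSub_mem_center hec
  have hui : u ∈ intCoeff (G := G) M := fun g => resSub_memLocalRing C hei g
  have hvc : v ∈ Subalgebra.center ℂ (MonoidAlgebra ℂ G) := Subalgebra.sub_mem _ hec huc
  have hvi : v ∈ intCoeff (G := G) M := Subring.sub_mem _ hei hui
  have hvC : ∀ g ∈ C, v.coeff g = 0 := by
    intro g hg
    rw [hv, MonoidAlgebra.coeff_sub, Finsupp.coe_sub, Pi.sub_apply, hu, coeff_resSub, if_pos hg,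
      sub_self]
  have hω : ∀ ψ : IrrCharacter G, MemLocalIdeal M (omega (ψ : G → ℂ) v) := by
    intro ψ
    rw [omega_eq_sum_centralChar (Cfsg.Agent.Lib.H24.irr_isClassFunction ψ) hvc]
    refine memLocalIdeal_sum _ _ (fun c _ => ?_)
    by_cases hc : classRep c ∈ C
    · rw [hvC _ hc, zero_mul]
      exact memLocalIdeal_zero hPr.ne_top
    · refine memLocalIdeal_mul_left (hvi _) ?_
      refine centralChar_memLocalIdeal_of_normal hM Q hQ _ ?_ ψ
      intro x hx hxC
      apply hc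
      obtain ⟨t, rfl⟩ := isConj_iff.1 hx
      have := hCn.conj_mem _ hxC t⁻¹
      simpa [mul_assoc] using this
  obtain ⟨N₀, hN₀pos, hN₀⟩ := exists_pow_coeff_div hM hvc hω
  have hpow : N₀ ≤ p ^ N₀ := (Nat.lt_pow_self hp.one_lt).le
  obtain ⟨r, hr, hre⟩ := add_pow_prime_pow_intCoeff hp hui hvi
    ((Subalgebra.mem_center_iff.1 huc v).symm) N₀
  have huv : u + v = e := by rw [hv]; abel
  rw [huv] at hre
  obtain ⟨k, hk⟩ : ∃ k, p ^ N₀ = k + 1 := ⟨p ^ N₀ - 1, by
    have := Nat.one_le_two_pow (n := 0)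
    have h1 : 1 ≤ p ^ N₀ := Nat.one_le_pow _ _ hp.pos
    omega⟩
  have hek : e ^ p ^ N₀ = e := by rw [hk]; exact idem_pow_succ hee k
  rw [hek] at hre
  -- take the coefficient at `l`
  show MemLocalIdeal M (e.coeff l)
  rw [hre]
  simp only [MonoidAlgebra.coeff_add, Finsupp.coe_add, Pi.add_apply, MonoidAlgebra.coeff_smul,
    Finsupp.coe_smul, Pi.smul_apply, smul_eq_mul]
  refine memLocalIdeal_add (memLocalIdeal_add ?_ ?_) ?_
  · rw [(suppIn_resSub C e).pow _ l hl]
    exact memLocalIdeal_zero hPr.ne_top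
  · have h1 : v ^ p ^ N₀ = v ^ N₀ * v ^ (p ^ N₀ - N₀) := by
      rw [← pow_add, Nat.add_sub_cancel' hpow]
    rw [h1, coeff_mul_eq_sum]
    refine memLocalIdeal_sum _ _ (fun h _ => ?_)
    have h2 : (v ^ N₀).coeff h = (p : ℂ) * ((v ^ N₀).coeff h / p) := by
      rw [mul_div_cancel₀ _ hp0]
    rw [h2]
    exact memLocalIdeal_mul_right (memLocalIdeal_mul_right (memLocalIdeal_p hM) (hN₀ h))
      (Subring.pow_mem _ hvi _ _)
  · exact memLocalIdeal_mul_right (memLocalIdeal_p hM)
      (Subring.mul_mem _ (Subring.mul_mem _ hui hvi) hr l)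

end Support

end Cfsg.Agent.Lib.H23
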