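import Mathlib
import Cfsg.Prelude.Def_Blocks
import Cfsg.Agent.Lib.H23.BlockNormalizer
import Cfsg.Agent.Lib.H23.BlockSupport
import Cfsg.Agent.S0916

/-!
# Brauer's First Main Theorem (helper23)

`D` a `p`-subgroup of `G`, `N = N_G(D)`.
* `class_correspondence`: for `l ∈ N` with `D ∈ Syl_p(C_N(l))`: `D ∈ Syl_p(C_G(l))`,
  `l ∈ C_G(D)` and `cl_G(l) ∩ C_G(D) = cl_N(l)`.
* `brAlg_classSum_eq`, `centralChar_congr_of_induced`.
* `exists_block_up`: a block of `N` with defect group `D` induces a block of `G` with defect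
  group `D`.
* `exists_block_down`, `block_down_unique`.
-/

set_option autoImplicit false

namespace Cfsg.Agent.Lib.H23

open Cfsg MonoidAlgebra
open scoped ComplexConjugate

section Classes

variable {G : Type*} [Group G] [Fintype G] {p : ℕ} [Fact p.Prime] (D : Subgroup G)
  (NN : Subgroup G)

theorem map_centralizer_subtype (N : Subgroup G) (l : N) :
    (Subgroup.centralizer ({l} : Set N)).map N.subtype =
      Subgroup.centralizer ({(l : G)} : Set G) ⊓ N := by
  ext k
  rw [Subgroup.mem_map, Subgroup.mem_inf]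
  constructor
  · rintro ⟨u, hu, rfl⟩
    refine ⟨?_, u.2⟩
    rw [Subgroup.mem_centralizer_singleton_iff] at hu ⊢
    have := congrArg Subtype.val hu
    simpa using this
  · rintro ⟨hk1, hk2⟩
    refine ⟨⟨k, hk2⟩, ?_, rfl⟩
    rw [Subgroup.mem_centralizer_singleton_iff] at hk1 ⊢
    exact Subtype.ext hk1

theorem class_correspondence (hNN : NN = Subgroup.normalizer (D : Set G)) (hD : IsPGroup p D)
    (l : NN)
    (hl : ∃ S : Sylow p (Subgroup.centralizer ({l} : Set (NN))),
      (S : Subgroup (Subgroup.centralizer ({l} : Set (NN)))).map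
        (Subgroup.centralizer ({l} : Set (NN))).subtype =
        D.subgroupOf (NN)) :
    (∃ S : Sylow p (Subgroup.centralizer ({(l : G)} : Set G)),
      (S : Subgroup (Subgroup.centralizer ({(l : G)} : Set G))).map
        (Subgroup.centralizer ({(l : G)} : Set G)).subtype = D) ∧
    (l : G) ∈ Subgroup.centralizer (D : Set G) ∧
    ∀ h : NN, (h : G) ∈ Subgroup.centralizer (D : Set G) →
      IsConj (l : G) (h : G) → IsConj l h := by
  classical
  subst hNN
  obtain ⟨S, hS⟩ := hl
  have hDN : D ≤ (Subgroup.normalizer (D : Set G)) := Subgroup.le_normalizer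
  -- D centralizes l
  have hDl : D ≤ Subgroup.centralizer ({(l : G)} : Set G) := by
    intro d hd
    have h1 : (⟨d, hDN hd⟩ : (Subgroup.normalizer (D : Set G))) ∈ D.subgroupOf (Subgroup.normalizer (D : Set G)) := Subgroup.mem_subgroupOf.2 hd
    rw [← hS] at h1
    obtain ⟨u, _, hu⟩ := h1
    have h2 := Subgroup.mem_centralizer_singleton_iff.1 u.2
    rw [Subgroup.mem_centralizer_singleton_iff]
    have h3 : ((u : (Subgroup.normalizer (D : Set G))) : G) = d := congrArg Subtype.val hu
    rw [← h3]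
    exact congrArg Subtype.val h2
  have hlD : (l : G) ∈ Subgroup.centralizer (D : Set G) := by
    rw [Subgroup.mem_centralizer_iff]
    intro d hd
    exact (Subgroup.mem_centralizer_singleton_iff.1 (hDl hd))
  set K := Subgroup.centralizer ({(l : G)} : Set G) ⊓ (Subgroup.normalizer (D : Set G)) with hK
  have hDK : D ≤ K := le_inf hDl hDN
  have hcardK : Nat.card K = Nat.card (Subgroup.centralizer ({l} : Set (Subgroup.normalizer (D : Set G)))) := by
    rw [hK, ← map_centralizer_subtype (Subgroup.normalizer (D : Set G)) l, Subgroup.card_subtype]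
  have hcardD : Nat.card (D.subgroupOf K) = p ^ (Nat.card K).factorization p := by
    rw [hcardK, ← S.card_eq_multiplicity,
      ← Subgroup.card_subtype _ (S : Subgroup (Subgroup.centralizer ({l} : Set (Subgroup.normalizer (D : Set G))))), hS]
    rw [Nat.card_congr (Subgroup.subgroupOfEquivOfLe hDK).toEquiv,
      Nat.card_congr (Subgroup.subgroupOfEquivOfLe hDN).toEquiv]
  have hiii := (Cfsg.Agent.S0916.result (G := G) p D hD).2 (l : G) hlD
    ⟨Sylow.ofCard (D.subgroupOf K) hcardD, by
      rw [Sylow.coe_ofCard]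
      exact Subgroup.map_subgroupOf_eq_of_le hDK⟩
  refine ⟨hiii, hlD, ?_⟩
  intro h hhD hconj
  obtain ⟨n, hn, hne⟩ := ((Cfsg.Agent.S0916.result (G := G) p D hD).1 (l : G) hiii).2 (l : G)
    (h : G) (IsConj.refl _) hconj hlD hhD
  rw [isConj_iff]
  exact ⟨⟨n, hn⟩, Subtype.ext hne⟩

end Classes

section FirstMain

variable {G : Type*} [Group G] [Fintype G] {p : ℕ} [Fact p.Prime] {M : Ideal AlgInt}
  (D : Subgroup G) (NN : Subgroup G) [Fintype NN]

theorem brAlg_classSum_eq (hNN : NN = Subgroup.normalizer (D : Set G)) (hD : IsPGroup p D)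
    (l : NN)
    (hl : ∃ S : Sylow p (Subgroup.centralizer ({l} : Set (NN))),
      (S : Subgroup (Subgroup.centralizer ({l} : Set (NN)))).map
        (Subgroup.centralizer ({l} : Set (NN))).subtype =
        D.subgroupOf (NN)) :
    brAlg D (NN) (classSum (l : G)) = classSum l := by
  classical
  obtain ⟨_, hlD, hconj⟩ := class_correspondence D NN hNN hD l hl
  apply MonoidAlgebra.ext
  ext h
  rw [coeff_brAlg, coeff_classSum, coeff_classSum]
  by_cases hh : IsConj l h
  · rw [if_pos hh]
    obtain ⟨n, hn⟩ := isConj_iff.1 hh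
    have hG : IsConj (l : G) (h : G) := by
      rw [isConj_iff]
      exact ⟨(n : G), by rw [← hn]; simp⟩
    have hhD : (h : G) ∈ Subgroup.centralizer (D : Set G) := by
      rw [← hn]
      rw [Subgroup.mem_centralizer_iff]
      intro u hu
      have hu' : (n : G)⁻¹ * u * (n : G) ∈ D := by
        have hn2 : (n : G) ∈ Subgroup.normalizer (D : Set G) := hNN ▸ n.2
        have := (Subgroup.mem_normalizer_iff'.1 hn2 ((n : G)⁻¹ * u)).2 (by
          have : (n : G) * ((n : G)⁻¹ * u) = u := by group
          rw [this]; exact hu)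
        exact this
      have h2 := (Subgroup.mem_centralizer_iff.1 hlD) _ hu'
      have h3 : ((n * l * n⁻¹ : NN) : G) =
          (n : G) * (l : G) * (n : G)⁻¹ := by simp
      rw [h3]
      calc u * ((n : G) * (l : G) * (n : G)⁻¹)
          = (n : G) * (((n : G)⁻¹ * u * (n : G)) * (l : G)) * (n : G)⁻¹ := by group
        _ = (n : G) * ((l : G) * ((n : G)⁻¹ * u * (n : G))) * (n : G)⁻¹ := by rw [h2]
        _ = (n : G) * (l : G) * (n : G)⁻¹ * u := by group
    rw [if_pos hhD, if_pos hG]
  · rw [if_neg hh]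
    by_cases hhD : (h : G) ∈ Subgroup.centralizer (D : Set G)
    · rw [if_pos hhD, if_neg (fun hG => hh (hconj h hhD hG))]
    · rw [if_neg hhD]

theorem centralChar_congr_of_induced [hPr : M.IsPrime] (hNN : NN = Subgroup.normalizer (D : Set G))
    (hM : IsPModular p M) (hD : IsPGroup p D)
    {ξ₀ : IrrCharacter (NN)} {χ₀ : IrrCharacter G}
    (hind : IsInducedBlock M (NN)
      (blockOf M (ξ₀ : NN → ℂ)) (blockOf M (χ₀ : G → ℂ)))
    (l : NN)
    (hl : ∃ S : Sylow p (Subgroup.centralizer ({l} : Set (NN))),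
      (S : Subgroup (Subgroup.centralizer ({l} : Set (NN)))).map
        (Subgroup.centralizer ({l} : Set (NN))).subtype =
        D.subgroupOf (NN)) :
    MemLocalIdeal M (centralChar (ξ₀ : NN → ℂ) l -
      centralChar (χ₀ : G → ℂ) (l : G)) := by
  have hcc := classSum_mem_center (l : G)
  have hci := classSum_mem_intCoeff (M := M) (l : G)
  have h1 := omega_resAlg_sub_memLocalIdeal (NN) hind
    (mem_blockOf_self ξ₀) (mem_blockOf_self χ₀) hcc hci
  have h2 := omega_resAlg_sub_brAlg D (NN) hM hD
    (hNN ▸ Subgroup.le_normalizer) (le_of_eq hNN) ξ₀ hcc hci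
  rw [brAlg_classSum_eq D NN hNN hD l hl, omega_classSum (Cfsg.Agent.Lib.H24.irr_isClassFunction ξ₀)] at h2
  rw [omega_classSum (Cfsg.Agent.Lib.H24.irr_isClassFunction χ₀)] at h1
  have h3 := memLocalIdeal_sub h1 h2
  convert h3 using 1
  ring

/-- A block of `N_G(D)` with defect group `D` induces a block of `G` with defect group `D`. -/
theorem exists_block_up (hNN : NN = Subgroup.normalizer (D : Set G)) (hM : IsPModular p M)
    (hD : IsPGroup p D)
    (ξ₀ : IrrCharacter (NN))
    (hDb : IsDefectGroup p M (blockOf M (ξ₀ : NN → ℂ))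
      (D.subgroupOf (NN))) :
    ∃ χ₁ : IrrCharacter G, IsDefectGroup p M (blockOf M (χ₁ : G → ℂ)) D ∧
      IsInducedBlock M (NN)
        (blockOf M (ξ₀ : NN → ℂ)) (blockOf M (χ₁ : G → ℂ)) := by
  classical
  haveI hPr := isPrime_of_isPModular hM
  have hDN : D ≤ NN := hNN ▸ Subgroup.le_normalizer
  have hCN : Subgroup.centralizer (D : Set G) ≤ NN := hNN ▸ Subgroup.centralizer_le_normalizer _
  obtain ⟨χ₁, hind⟩ := exists_isInducedBlock D NN hM hD hDN hCN (le_of_eq hNN) ξ₀
  refine ⟨χ₁, ?_, hind⟩
  obtain ⟨E, hE, hDE⟩ := defectGroup_le_of_induced NN hM hind _ hDb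
  rw [Subgroup.map_subgroupOf_eq_of_le hDN] at hDE
  obtain ⟨l, hl, S, hS⟩ := hDb
  have hl' : ∃ S : Sylow p (Subgroup.centralizer ({l} : Set NN)),
      (S : Subgroup (Subgroup.centralizer ({l} : Set NN))).map
        (Subgroup.centralizer ({l} : Set NN)).subtype = D.subgroupOf NN := ⟨S, hS.symm⟩
  obtain ⟨⟨S'', hS''⟩, _, _⟩ := class_correspondence D NN hNN hD l hl'
  have hcong := centralChar_congr_of_induced D NN hNN hM hD hind l hl'
  have hω : ¬ MemLocalIdeal M (centralChar (χ₁ : G → ℂ) (l : G)) := by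
    intro h1
    apply hl.2.2 ξ₀ (mem_blockOf_self ξ₀)
    have := memLocalIdeal_add hcong h1
    rwa [sub_add_cancel] at this
  -- bound |E|
  have hEp : IsPGroup p E := isPGroup_of_isDefectGroup hE
  obtain ⟨k, hk, SE, hSE⟩ := hE
  have hEk : E ≤ Subgroup.centralizer ({k} : Set G) := by
    rw [hSE]
    rintro _ ⟨u, _, rfl⟩
    exact u.2
  obtain ⟨x, hx, hEx⟩ := exists_conj_centralized hM χ₁ k (l : G) hk.2.1 χ₁ (mem_blockOf_self χ₁)
    hω E hEp hEk
  obtain ⟨c, R, hR⟩ := exists_sylow_centralizer_conj E hEp hx hEx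
  have hcard : Nat.card E ≤ Nat.card D := by
    have h1 : Nat.card E ≤ Nat.card ((((R : Subgroup (Subgroup.centralizer ({(l : G)} : Set G))).map
        (Subgroup.centralizer ({(l : G)} : Set G)).subtype).map
          (MulAut.conj c).toMonoidHom : Subgroup G)) := Subgroup.card_le_of_le hR
    rw [Subgroup.card_map_of_injective (MulAut.conj c).injective, Subgroup.card_subtype,
      R.card_eq_multiplicity, ← S''.card_eq_multiplicity,
      ← Subgroup.card_subtype _ (S'' : Subgroup (Subgroup.centralizer ({(l : G)} : Set G))),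
      hS''] at h1
    exact h1
  have hDeq : D = E := Subgroup.eq_of_le_of_card_ge hDE hcard
  rw [hDeq]
  exact ⟨k, hk, SE, hSE⟩

/-- A block of `G` with defect group `D` is induced from a block of `N_G(D)` with defect group
`D`. -/
theorem exists_block_down (hNN : NN = Subgroup.normalizer (D : Set G)) (hM : IsPModular p M)
    (χ₀ : IrrCharacter G)
    (hD : IsDefectGroup p M (blockOf M (χ₀ : G → ℂ)) D) :
    ∃ ξ₀ : IrrCharacter (NN),
      IsDefectGroup p M (blockOf M (ξ₀ : NN → ℂ))
        (D.subgroupOf (NN)) ∧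
      IsInducedBlock M (NN)
        (blockOf M (ξ₀ : NN → ℂ)) (blockOf M (χ₀ : G → ℂ)) := by
  have hDp : IsPGroup p D := isPGroup_of_isDefectGroup hD
  obtain ⟨ξ₀, hind⟩ := exists_induced_of_defectGroup D (NN) hM hDp
    (hNN ▸ Subgroup.le_normalizer) (hNN ▸ Subgroup.centralizer_le_normalizer _) (le_of_eq hNN) χ₀ hD
  obtain ⟨Db, hDb⟩ := exists_isDefectGroup (p := p) hM ξ₀
  have := defectGroup_eq_of_induced D (NN) hM (hNN ▸ Subgroup.le_normalizer)
    (le_of_eq hNN) hD hind Db hDb
  rw [this] at hDb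
  exact ⟨ξ₀, hDb, hind⟩

/-- The block of `N_G(D)` with defect group `D` inducing a given block is unique. -/
theorem block_down_unique (hNN : NN = Subgroup.normalizer (D : Set G)) (hM : IsPModular p M)
    (hDp : IsPGroup p D) (χ₀ : IrrCharacter G)
    (ξ₁ ξ₂ : IrrCharacter (NN))
    (hD₂ : IsDefectGroup p M (blockOf M (ξ₂ : NN → ℂ))
      (D.subgroupOf (NN)))
    (hind₁ : IsInducedBlock M (NN)
      (blockOf M (ξ₁ : NN → ℂ)) (blockOf M (χ₀ : G → ℂ)))
    (hind₂ : IsInducedBlock M (NN)
      (blockOf M (ξ₂ : NN → ℂ)) (blockOf M (χ₀ : G → ℂ))) :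
    blockOf M (ξ₁ : NN → ℂ) =
      blockOf M (ξ₂ : NN → ℂ) := by
  classical
  haveI hPr := isPrime_of_isPModular hM
  haveI := Fintype.ofFinite (ConjClasses NN)
  have hDN : D ≤ NN := hNN ▸ Subgroup.le_normalizer
  haveI hn : (D.subgroupOf NN).Normal :=
    Subgroup.normal_subgroupOf_of_le_normalizer (le_of_eq hNN)
  have hpg : IsPGroup p (D.subgroupOf NN) := hDp.comap_subtype
  set b2 := blockOf M (ξ₂ : NN → ℂ) with hb2
  suffices h : ξ₁ ∈ b2 from blockOf_eq_of_mem h
  by_contra hnot
  have h1 : omega (ξ₁ : NN → ℂ) (blockIdem b2) = 0 := by rw [omega_blockIdem, if_neg hnot]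
  have h2 : omega (ξ₂ : NN → ℂ) (blockIdem b2) = 1 := by
    rw [omega_blockIdem, if_pos (mem_blockOf_self ξ₂)]
  have hec := blockIdem_mem_center b2
  have h3 : MemLocalIdeal M (omega (ξ₂ : NN → ℂ) (blockIdem b2) -
      omega (ξ₁ : NN → ℂ) (blockIdem b2)) := by
    rw [omega_eq_sum_centralChar (Cfsg.Agent.Lib.H24.irr_isClassFunction ξ₂) hec,
      omega_eq_sum_centralChar (Cfsg.Agent.Lib.H24.irr_isClassFunction ξ₁) hec,
      ← Finset.sum_sub_distrib]
    refine memLocalIdeal_sum _ _ (fun c _ => ?_)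
    rw [← mul_sub, coeff_blockIdem]
    set l := classRep c with hl
    by_cases hβ : MemLocalIdeal M (blockCoeff b2 l)
    · exact memLocalIdeal_mul_right hβ (memLocalRing_sub (coe_mem_localRing (omegaInt ξ₂ l))
        (coe_mem_localRing (omegaInt ξ₁ l)))
    · refine memLocalIdeal_mul_left (blockIdem_memLocalRing hM ξ₂ l) ?_
      -- l centralizes D and D is a Sylow p-subgroup of C_N(l)
      have hlC : l ∈ Subgroup.centralizer ((D.subgroupOf NN : Subgroup NN) : Set NN) := by
        by_contra hlC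
        exact hβ (blockCoeff_memLocalIdeal_of_normal hM (D.subgroupOf NN) hpg ξ₂ l hlC)
      have hDl : D.subgroupOf NN ≤ Subgroup.centralizer ({l} : Set NN) := by
        intro d hd
        rw [Subgroup.mem_centralizer_singleton_iff]
        exact (Subgroup.mem_centralizer_iff.1 hlC d hd)
      obtain ⟨S⟩ : Nonempty (Sylow p (Subgroup.centralizer ({l} : Set NN))) := inferInstance
      have hSp : IsPGroup p ((S : Subgroup (Subgroup.centralizer ({l} : Set NN))).map
          (Subgroup.centralizer ({l} : Set NN)).subtype) := S.2.map _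
      obtain ⟨E', hE', hSE'⟩ := exists_isDefectGroup_ge_of_blockCoeff hM ξ₂ l hβ _ hSp (by
        rintro _ ⟨u, _, rfl⟩
        exact u.2)
      haveI : ((D.subgroupOf NN).subgroupOf (Subgroup.centralizer ({l} : Set NN))).Normal :=
        hn.subgroupOf _
      have hsub : IsPGroup p ((D.subgroupOf NN).subgroupOf (Subgroup.centralizer ({l} : Set NN))) :=
        hpg.comap_subtype
      have hDS : D.subgroupOf NN ≤ (S : Subgroup (Subgroup.centralizer ({l} : Set NN))).map
          (Subgroup.centralizer ({l} : Set NN)).subtype := by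
        intro d hd
        exact ⟨⟨d, hDl hd⟩, hsub.le_sylow_of_normal S (Subgroup.mem_subgroupOf.2 hd), rfl⟩
      have hcard : Nat.card E' = Nat.card (D.subgroupOf NN) := by
        rw [card_defectGroup hM ξ₂ E' hE', card_defectGroup hM ξ₂ _ hD₂]
      have hDE' : D.subgroupOf NN = E' :=
        Subgroup.eq_of_le_of_card_ge (le_trans hDS hSE') (le_of_eq hcard)
      have hSD : (S : Subgroup (Subgroup.centralizer ({l} : Set NN))).map
          (Subgroup.centralizer ({l} : Set NN)).subtype = D.subgroupOf NN := by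
        apply le_antisymm
        · rw [hDE']; exact hSE'
        · exact hDS
      have hl' : ∃ S : Sylow p (Subgroup.centralizer ({l} : Set NN)),
          (S : Subgroup (Subgroup.centralizer ({l} : Set NN))).map
            (Subgroup.centralizer ({l} : Set NN)).subtype = D.subgroupOf NN := ⟨S, hSD⟩
      have c1 := centralChar_congr_of_induced D NN hNN hM hDp hind₁ l hl'
      have c2 := centralChar_congr_of_induced D NN hNN hM hDp hind₂ l hl'
      have := memLocalIdeal_sub c2 c1
      convert this using 1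
      ring
  rw [h1, h2, sub_zero] at h3
  exact not_memLocalIdeal_one h3

end FirstMain

end Cfsg.Agent.Lib.H23
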