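import Mathlib
import Cfsg.Prelude.Def_Blocks
import Cfsg.Agent.Lib.H23.BlockCoveringCentral
import Cfsg.Agent.Lib.H23.BlockEquiv
import Cfsg.Agent.Lib.H23.BlockFirstMain
import Cfsg.Agent.Lib.H23.BlockDefectGroups
import Cfsg.Agent.Lib.H23.BlockVanishP
import Cfsg.Agent.Lib.H23.BlockDefect

/-!
# The extended first main theorem (helper23)

`B` a block of `G` with defect group `P`, `L = P C_G(P)`, `N = N_G(P)`.
* `exists_root`: some block `b` of `L` with defect group `P` induces `B`;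
* `roots_conj`: any two blocks of `L` inducing `B` are conjugate under `N`.
-/

set_option autoImplicit false

namespace Cfsg.Agent.Lib.H23

open Cfsg MonoidAlgebra Cfsg.Agent.Lib.H24 Cfsg.Agent.Lib.L0
open scoped ComplexConjugate

section ExtFirstMain

variable {G : Type*} [Group G] [Fintype G] {p : ℕ} [Fact p.Prime] {M : Ideal AlgInt}
  (P L N : Subgroup G) [Fintype L] [Fintype N] [Fintype ↥(L.subgroupOf N)]

/-- In `N = N_G(P)`: a block of `N` covering a block of `L ≥ C_G(P)` is induced by it. -/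
theorem isInducedBlock_sub_of_covers (hM : IsPModular p M) (hPp : IsPGroup p P)
    (hN : N = Subgroup.normalizer (P : Set G)) (hCL : Subgroup.centralizer (P : Set G) ≤ L)
    [hn : (L.subgroupOf N).Normal]
    (θ' : IrrCharacter ↥(L.subgroupOf N)) (ζ : IrrCharacter N)
    (hcov : classInner (fun n : ↥(L.subgroupOf N) => (ζ : N → ℂ) n)
      (θ' : ↥(L.subgroupOf N) → ℂ) ≠ 0) :
    IsInducedBlock M (L.subgroupOf N) (blockOf M (θ' : ↥(L.subgroupOf N) → ℂ))
      (blockOf M (ζ : N → ℂ)) := by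
  haveI hPr := isPrime_of_isPModular hM
  have hPN : P ≤ N := hN ▸ Subgroup.le_normalizer
  haveI hnP : (P.subgroupOf N).Normal :=
    Subgroup.normal_subgroupOf_of_le_normalizer (le_of_eq hN)
  have hpg : IsPGroup p (P.subgroupOf N) := hPp.comap_subtype
  refine isInducedBlock_of_covers_of_centralizer_le hM (P.subgroupOf N) hpg (L.subgroupOf N) ?_
    θ' ζ ⟨ζ, mem_blockOf_self ζ, θ', mem_blockOf_self θ', hcov⟩
  intro x hx
  rw [Subgroup.mem_subgroupOf]
  apply hCL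
  rw [Subgroup.mem_centralizer_iff]
  intro y hy
  have h1 := Subgroup.mem_centralizer_iff.1 hx ⟨y, hPN hy⟩ (Subgroup.mem_subgroupOf.2 hy)
  exact congrArg Subtype.val h1

/-- If `b` (block of `L`) induces `B`, every block of `N` covering `b` equals the Brauer
correspondent of `B`. -/
theorem blockOf_eq_down (hM : IsPModular p M) (hPp : IsPGroup p P)
    (hN : N = Subgroup.normalizer (P : Set G)) (hCL : Subgroup.centralizer (P : Set G) ≤ L)
    (hLN : L ≤ N) [hn : (L.subgroupOf N).Normal]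
    (θ : IrrCharacter L) (χ₀ : IrrCharacter G)
    (hind : IsInducedBlock M L (blockOf M (θ : L → ℂ)) (blockOf M (χ₀ : G → ℂ)))
    (ξ₀ : IrrCharacter N)
    (hD₀ : IsDefectGroup p M (blockOf M (ξ₀ : N → ℂ)) (P.subgroupOf N))
    (hind₀ : IsInducedBlock M N (blockOf M (ξ₀ : N → ℂ)) (blockOf M (χ₀ : G → ℂ)))
    (ζ : IrrCharacter N)
    (hcov : classInner (fun n : ↥(L.subgroupOf N) => (ζ : N → ℂ) n)
      (irrEquiv (Subgroup.subgroupOfEquivOfLe hLN) θ : ↥(L.subgroupOf N) → ℂ) ≠ 0) :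
    blockOf M (ζ : N → ℂ) = blockOf M (ξ₀ : N → ℂ) := by
  haveI hPr := isPrime_of_isPModular hM
  have hPN : P ≤ N := hN ▸ Subgroup.le_normalizer
  have hCN : Subgroup.centralizer (P : Set G) ≤ N := hCL.trans hLN
  have h1 := isInducedBlock_sub_of_covers P L N hM hPp hN hCL _ ζ hcov
  obtain ⟨χ₁, hχ₁⟩ := exists_isInducedBlock P N hM hPp hPN hCN (le_of_eq hN) ζ
  have h2 := isInducedBlock_trans L N hLN θ ζ χ₁ h1 hχ₁
  have h3 : blockOf M (χ₀ : G → ℂ) = blockOf M (χ₁ : G → ℂ) := isInducedBlock_unique L hind h2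
  rw [← h3] at hχ₁
  exact block_down_unique P N hN hM hPp χ₀ ζ ξ₀ hD₀ hχ₁ hind₀

/-- **Extended first main theorem, existence.** -/
theorem exists_root (hM : IsPModular p M)
    (hN : N = Subgroup.normalizer (P : Set G)) (hPL : P ≤ L)
    (hCL : Subgroup.centralizer (P : Set G) ≤ L)
    (hLN : L ≤ N) [hn : (L.subgroupOf N).Normal] (χ₀ : IrrCharacter G)
    (hP : IsDefectGroup p M (blockOf M (χ₀ : G → ℂ)) P) :
    ∃ θ : IrrCharacter L, IsDefectGroup p M (blockOf M (θ : L → ℂ)) (P.subgroupOf L) ∧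
      IsInducedBlock M L (blockOf M (θ : L → ℂ)) (blockOf M (χ₀ : G → ℂ)) := by
  haveI hPr := isPrime_of_isPModular hM
  have hp : p.Prime := Fact.out
  have hPp : IsPGroup p P := isPGroup_of_isDefectGroup hP
  obtain ⟨ξ₀, hD₀, hind₀⟩ := exists_block_down P N hN hM χ₀ hP
  obtain ⟨θ', hθ'⟩ := exists_constituent_restrict (L.subgroupOf N) ξ₀
  set e := Subgroup.subgroupOfEquivOfLe hLN with he
  set θ := (irrEquiv e).symm θ' with hθ
  have hθθ' : irrEquiv e θ = θ' := (irrEquiv e).apply_symm_apply θ'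
  have h1 := isInducedBlock_sub_of_covers P L N hM hPp hN hCL θ' ξ₀ hθ'
  rw [← hθθ'] at h1
  have hind := isInducedBlock_trans L N hLN θ ξ₀ χ₀ h1 hind₀
  refine ⟨θ, ?_, hind⟩
  obtain ⟨D, hD⟩ := exists_isDefectGroup hM θ
  haveI hnPL : (P.subgroupOf L).Normal :=
    Subgroup.normal_subgroupOf_of_le_normalizer (hLN.trans (le_of_eq hN))
  have hpgL : IsPGroup p (P.subgroupOf L) := hPp.comap_subtype
  have hle := normal_le_defectGroup hM θ (P.subgroupOf L) hpgL D hD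
  obtain ⟨E, hE, hDE⟩ := defectGroup_le_of_induced L hM hind D hD
  have hcE := card_defectGroup hM χ₀ E hE
  have hcP := card_defectGroup hM χ₀ P hP
  have hcard : Nat.card D ≤ Nat.card (P.subgroupOf L) := by
    have h2 : Nat.card (D.map L.subtype) = Nat.card D :=
      Subgroup.card_map_of_injective (Subgroup.subtype_injective _)
    have h3 : Nat.card (D.map L.subtype) ≤ Nat.card E := Subgroup.card_le_of_le hDE
    have h4 : Nat.card (P.subgroupOf L) = Nat.card P :=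
      Nat.card_congr (Subgroup.subgroupOfEquivOfLe hPL).toEquiv
    rw [h4, hcP, ← hcE, ← h2]
    exact h3
  have hDeq : P.subgroupOf L = D := Subgroup.eq_of_le_of_card_ge hle hcard
  rw [hDeq]
  exact hD

/-- **Extended first main theorem, conjugacy.** -/
theorem roots_conj (hM : IsPModular p M)
    (hN : N = Subgroup.normalizer (P : Set G))
    (hCL : Subgroup.centralizer (P : Set G) ≤ L)
    (hLN : L ≤ N) [hn : (L.subgroupOf N).Normal] (χ₀ : IrrCharacter G)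
    (hP : IsDefectGroup p M (blockOf M (χ₀ : G → ℂ)) P) (θ₁ θ₂ : IrrCharacter L)
    (hind₁ : IsInducedBlock M L (blockOf M (θ₁ : L → ℂ)) (blockOf M (χ₀ : G → ℂ)))
    (hind₂ : IsInducedBlock M L (blockOf M (θ₂ : L → ℂ)) (blockOf M (χ₀ : G → ℂ))) :
    ∃ n ∈ Subgroup.normalizer (P : Set G), ∀ θ ∈ blockOf M (θ₁ : L → ℂ),
      ∃ θ' ∈ blockOf M (θ₂ : L → ℂ), ∀ x : L, ∀ hx : n * (x : G) * n⁻¹ ∈ L,
        (θ' : L → ℂ) x = (θ : L → ℂ) ⟨n * (x : G) * n⁻¹, hx⟩ := by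
  haveI hPr := isPrime_of_isPModular hM
  have hPp : IsPGroup p P := isPGroup_of_isDefectGroup hP
  obtain ⟨ξ₀, hD₀, hind₀⟩ := exists_block_down P N hN hM χ₀ hP
  set e := Subgroup.subgroupOfEquivOfLe hLN with he
  obtain ⟨ζ₁, hζ₁⟩ := exists_irr_over_restrict (L.subgroupOf N) (irrEquiv e θ₁)
  obtain ⟨ζ₂, hζ₂⟩ := exists_irr_over_restrict (L.subgroupOf N) (irrEquiv e θ₂)
  have hb₁ := blockOf_eq_down P L N hM hPp hN hCL hLN θ₁ χ₀ hind₁ ξ₀ hD₀ hind₀ ζ₁ hζ₁
  have hb₂ := blockOf_eq_down P L N hM hPp hN hCL hLN θ₂ χ₀ hind₂ ξ₀ hD₀ hind₀ ζ₂ hζ₂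
  have hs : SameBlock M (ζ₂ : N → ℂ) (ζ₁ : N → ℂ) := by
    have h1 : ζ₁ ∈ blockOf M (ζ₂ : N → ℂ) := by
      rw [hb₂, ← hb₁]; exact mem_blockOf_self ζ₁
    exact h1
  obtain ⟨g, hg⟩ := exists_conj_mem_of_sameBlock (L.subgroupOf N) hM ζ₂ ζ₁ hs
    (irrEquiv e θ₂) (irrEquiv e θ₁) hζ₂ hζ₁
  refine ⟨(g : G), hN ▸ g.2, ?_⟩
  intro θ hθ
  have h1 : conjIrr (L.subgroupOf N) (irrEquiv e θ) g ∈
      blockOf M (irrEquiv e θ₂ : ↥(L.subgroupOf N) → ℂ) := by
    have h2 : SameBlock M (irrEquiv e θ₁ : ↥(L.subgroupOf N) → ℂ)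
        (irrEquiv e θ : ↥(L.subgroupOf N) → ℂ) := (sameBlock_irrEquiv_iff e θ₁ θ).2 hθ
    exact sameBlock_trans hg (sameBlock_conjIrr (L.subgroupOf N) h2 g)
  refine ⟨(irrEquiv e).symm (conjIrr (L.subgroupOf N) (irrEquiv e θ) g), ?_, ?_⟩
  · rw [← irrEquiv_mem_blockOf_iff e, Equiv.apply_symm_apply]
    exact h1
  · intro x hx
    rw [irrEquiv_symm_apply, conjIrr_apply, irrEquiv_apply]
    refine congrArg (θ : L → ℂ) (Subtype.ext ?_)
    simp [he]

end ExtFirstMain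

end Cfsg.Agent.Lib.H23
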