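import Mathlib
import Cfsg.Prelude.Def_Blocks
import Cfsg.Agent.Lib.H23.BlockIdem
import Cfsg.Agent.Lib.H23.BlockOsima
import Cfsg.Agent.Lib.L0.CharDecomp
import Cfsg.Agent.Lib.L0.CharOps

/-!
# Block parts of shifted characters (helper23)

For a finite group `K`, a central element `x`, a set `b` of irreducible characters and a
character `θ` of `K`:
`∑ k, blockCoeff b k * θ (k * (x * y)) = ∑ᶠ ψ ∈ b, [θ(x ·), ψ] ψ(y)`.
-/

set_option autoImplicit false

namespace Cfsg.Agent.Lib.H23

open Cfsg MonoidAlgebra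
open scoped ComplexConjugate

section GenDecomp

variable {K : Type*} [Group K] [Fintype K]

theorem sum_blockCoeff_mul_irr (b : Set (IrrCharacter K)) [DecidablePred (· ∈ b)]
    (φ : IrrCharacter K) (u : K) :
    ∑ k : K, blockCoeff b k * (φ : K → ℂ) (k * u) = if φ ∈ b then (φ : K → ℂ) u else 0 := by
  have h := charEval_blockIdem_mul b φ (MonoidAlgebra.single u 1)
  rw [charEval_single, one_mul] at h
  rw [← h]
  unfold charEval
  refine Fintype.sum_equiv (Equiv.mulRight u) _ _ (fun k => ?_)
  rw [Equiv.coe_mulRight, MonoidAlgebra.coeff_mul_single_apply, mul_inv_cancel_right, mul_one,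
    coeff_blockIdem]

theorem single_mem_center_of_mem_center {x : K} (hx : x ∈ Subgroup.center K) :
    (MonoidAlgebra.single x (1 : ℂ)) ∈ Subalgebra.center ℂ (MonoidAlgebra ℂ K) := by
  classical
  apply mem_center_of_classFunction
  intro g h
  rw [MonoidAlgebra.coeff_single, Finsupp.single_apply, Finsupp.single_apply]
  congr 1
  rw [eq_iff_iff]
  have hc : ∀ t : K, t * x = x * t := fun t => (Subgroup.mem_center_iff.1 hx t)
  constructor
  · intro h1
    have : g = h⁻¹ * x * h := by rw [h1]; group
    rw [this, mul_assoc, ← hc h, ← mul_assoc, inv_mul_cancel, one_mul]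
  · intro h1
    rw [← h1, hc h, mul_inv_cancel_right]

theorem irr_central_mul (φ : IrrCharacter K) {x : K} (hx : x ∈ Subgroup.center K) (c : K) :
    (φ : K → ℂ) (x * c) = (φ : K → ℂ) x / (φ : K → ℂ) 1 * (φ : K → ℂ) c := by
  have h := charEval_mul_of_mem_center φ.2 (single_mem_center_of_mem_center hx)
    (MonoidAlgebra.single c 1)
  rw [MonoidAlgebra.single_mul_single, charEval_single, charEval_single, charEval_single, one_mul,
    one_mul, one_mul, one_mul] at h
  exact h

theorem classInner_shift_irr (φ ψ : IrrCharacter K) {x : K} (hx : x ∈ Subgroup.center K) :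
    classInner (fun c => (φ : K → ℂ) (x * c)) (ψ : K → ℂ) =
      (φ : K → ℂ) x / (φ : K → ℂ) 1 * (if φ = ψ then 1 else 0) := by
  rw [← Cfsg.Agent.Lib.H24.irr_orthonormal φ ψ]
  unfold classInner
  simp only [irr_central_mul φ hx]
  rw [mul_left_comm]
  congr 1
  rw [Finset.mul_sum]
  refine Finset.sum_congr rfl (fun c _ => ?_)
  ring

/-- The two sides of the identity, as functions of `θ`. -/
theorem sum_blockCoeff_shift_irr [Fintype (IrrCharacter K)] (b : Set (IrrCharacter K))
    [DecidablePred (· ∈ b)] (φ : IrrCharacter K) {x : K} (hx : x ∈ Subgroup.center K) (y : K) :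
    ∑ k : K, blockCoeff b k * (φ : K → ℂ) (k * (x * y)) =
      ∑ ψ : IrrCharacter K, if ψ ∈ b then
        classInner (fun c => (φ : K → ℂ) (x * c)) (ψ : K → ℂ) * (ψ : K → ℂ) y else 0 := by
  classical
  rw [sum_blockCoeff_mul_irr]
  simp only [classInner_shift_irr φ _ hx]
  rw [Finset.sum_eq_single φ]
  · rw [if_pos rfl, mul_one, irr_central_mul φ hx]
  · intro ψ _ hne
    rw [if_neg (Ne.symm hne), mul_zero, zero_mul, ite_self]
  · intro h
    exact absurd (Finset.mem_univ _) h

theorem sum_blockCoeff_shift_list [Fintype (IrrCharacter K)] (b : Set (IrrCharacter K))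
    [DecidablePred (· ∈ b)] {x : K} (hx : x ∈ Subgroup.center K) (y : K)
    (l : List (K → ℂ)) (hl : ∀ φ ∈ l, IsIrrCharacter K φ) :
    ∑ k : K, blockCoeff b k * l.sum (k * (x * y)) =
      ∑ ψ : IrrCharacter K, if ψ ∈ b then
        classInner (fun c => l.sum (x * c)) (ψ : K → ℂ) * (ψ : K → ℂ) y else 0 := by
  classical
  induction l with
  | nil =>
    simp only [List.sum_nil, Pi.zero_apply, mul_zero, Finset.sum_const_zero]
    symm
    refine Finset.sum_eq_zero (fun ψ _ => ?_)
    split_ifs
    · unfold classInner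
      simp
    · rfl
  | cons φ l ih =>
    have hφ : IsIrrCharacter K φ := hl φ (List.mem_cons_self)
    have hl' : ∀ φ' ∈ l, IsIrrCharacter K φ' := fun φ' h => hl φ' (List.mem_cons_of_mem _ h)
    simp only [List.sum_cons, Pi.add_apply, mul_add, Finset.sum_add_distrib]
    rw [ih hl', sum_blockCoeff_shift_irr b ⟨φ, hφ⟩ hx y, ← Finset.sum_add_distrib]
    refine Finset.sum_congr rfl (fun ψ _ => ?_)
    split_ifs
    · rw [← add_mul]
      congr 1
      unfold classInner
      rw [← mul_add, ← Finset.sum_add_distrib]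
      congr 1
      refine Finset.sum_congr rfl (fun c _ => ?_)
      rw [add_mul]
    · rw [add_zero]

/-- The block-part identity for characters. -/
theorem sum_blockCoeff_shift_char (b : Set (IrrCharacter K)) {x : K}
    (hx : x ∈ Subgroup.center K) (y : K) {θ : K → ℂ} (hθ : IsCharacter K θ) :
    ∑ k : K, blockCoeff b k * θ (k * (x * y)) =
      ∑ᶠ ψ ∈ b, classInner (fun c => θ (x * c)) (ψ : K → ℂ) * (ψ : K → ℂ) y := by
  classical
  haveI := Fintype.ofFinite (IrrCharacter K)
  obtain ⟨l, hl, rfl⟩ := Cfsg.Agent.Lib.L0.isCharacter_exists_irr_decomp hθ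
  rw [finsum_mem_eq_sum_ite]
  exact sum_blockCoeff_shift_list b hx y l hl

end GenDecomp

end Cfsg.Agent.Lib.H23
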