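import Cfsg.Agent.Lib.H23.BlockPrincipalLocal
import Cfsg.Agent.Lib.H23.BlockGenDecomp
import Cfsg.Agent.Lib.H23.BlockNormalizer
import Cfsg.Agent.Lib.H24.CharPermLemma

/-!
# Block orthogonality on `p`-sections (helper23)

* `irr_central_mul_conj`, `central_block_orthogonality`;
* `sum_blockCoeff_mul_classFunction`;
* `sum_irr_mul_sum_blockCoeff`;
* `section_sum_principal`: `∑_{ζ ∈ B₀(G)} |ζ(z y)|² = ∑_{ψ ∈ B₀(C_G(z))} |ψ(y)|²`.
-/

set_option autoImplicit false

namespace Cfsg.Agent.Lib.H23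

open Cfsg MonoidAlgebra
open scoped ComplexConjugate

section Central

variable {K : Type*} [Group K] [Fintype K] {p : ℕ} {M : Ideal AlgInt}

theorem irr_one_conj (ψ : IrrCharacter K) : conj ((ψ : K → ℂ) 1) = (ψ : K → ℂ) 1 := by
  have := Cfsg.Agent.Lib.H24.irr_inv ψ 1
  rw [inv_one] at this
  exact this.symm

theorem irr_central_mul_conj (ψ : IrrCharacter K) {z : K} (hz : z ∈ Subgroup.center K) (a b : K) :
    (ψ : K → ℂ) (z * a) * conj ((ψ : K → ℂ) (z * b)) = (ψ : K → ℂ) a * conj ((ψ : K → ℂ) b) := by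
  have h1 := irr_central_mul ψ (inv_mem hz) z
  rw [inv_mul_cancel, Cfsg.Agent.Lib.H24.irr_inv] at h1
  have h0 : (ψ : K → ℂ) 1 ≠ 0 := Cfsg.Agent.Lib.H24.irr_one_ne_zero ψ
  have h2 : (ψ : K → ℂ) z * conj ((ψ : K → ℂ) z) = (ψ : K → ℂ) 1 * (ψ : K → ℂ) 1 := by
    field_simp at h1
    rw [mul_comm, ← h1]
    ring
  rw [irr_central_mul ψ hz a, irr_central_mul ψ hz b, map_mul, map_div₀, irr_one_conj]
  have : (ψ : K → ℂ) z / (ψ : K → ℂ) 1 * (ψ : K → ℂ) a *
      (conj ((ψ : K → ℂ) z) / (ψ : K → ℂ) 1 * conj ((ψ : K → ℂ) b)) =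
      ((ψ : K → ℂ) z * conj ((ψ : K → ℂ) z)) / ((ψ : K → ℂ) 1 * (ψ : K → ℂ) 1) *
        ((ψ : K → ℂ) a * conj ((ψ : K → ℂ) b)) := by
    field_simp
  rw [this, h2, div_self (mul_ne_zero h0 h0), one_mul]

/-- Block orthogonality for a central `p`-element. -/
theorem central_block_orthogonality [Fintype (IrrCharacter K)] (hM : IsPModular p M)
    (ξ₀ : IrrCharacter K) (b : Set (IrrCharacter K)) (hb : b = blockOf M (ξ₀ : K → ℂ))
    [DecidablePred (· ∈ b)]
    {z : K} (hzc : z ∈ Subgroup.center K) (hz : ∃ k : ℕ, orderOf z = p ^ k) {y : K}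
    (hy : ¬ p ∣ orderOf y) {h z' : K} (hz' : IsPPart p h z') (hne : z' ≠ z) :
    ∑ ψ : IrrCharacter K, (if ψ ∈ b then
      (ψ : K → ℂ) (z * y) * conj ((ψ : K → ℂ) h) else 0) = 0 := by
  subst hb
  have hp := prime_of_isPModular hM
  set w := z⁻¹ * h with hw
  have hhw : h = z * w := by rw [hw, mul_inv_cancel_left]
  have hwsing : p ∣ orderOf w := by
    by_contra hreg
    apply hne
    have h1 : IsPPart p h z := by
      rw [hhw]
      exact isPPart_mul (Subgroup.mem_center_iff.1 hzc w).symm hz hreg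
    exact IsPPart.unique hp hz' h1
  refine Eq.trans ?_ (weak_block_orthogonality hM ξ₀ y w hy hwsing)
  refine Finset.sum_congr rfl (fun ψ _ => ?_)
  split_ifs
  · rw [hhw, irr_central_mul_conj ψ hzc]
  · rfl

theorem sum_blockCoeff_mul_classFunction [Fintype (IrrCharacter K)] (b : Set (IrrCharacter K))
    [DecidablePred (· ∈ b)] {θ : K → ℂ} (hθ : IsClassFunction K θ) (u : K) :
    ∑ k : K, blockCoeff b k * θ (k * u) =
      ∑ ψ : IrrCharacter K, (if ψ ∈ b then (ψ : K → ℂ) u else 0) * classInner θ (ψ : K → ℂ) := by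
  have hexp := Cfsg.Agent.Lib.H24.classFunction_expansion θ hθ
  set c : IrrCharacter K → ℂ := fun ψ => classInner θ (ψ : K → ℂ) with hc
  have h1 : ∀ g, θ g = ∑ ψ : IrrCharacter K, c ψ * (ψ : K → ℂ) g := by
    intro g
    conv_lhs => rw [hexp]
    simp only [Finset.sum_apply, Pi.smul_apply, smul_eq_mul]
    rfl
  simp only [h1, Finset.mul_sum]
  rw [Finset.sum_comm]
  refine Finset.sum_congr rfl (fun ψ _ => ?_)
  have h2 := sum_blockCoeff_mul_irr b ψ u
  rw [← h2, Finset.sum_mul]
  refine Finset.sum_congr rfl (fun k _ => ?_)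
  ring

end Central

section Section

variable {G : Type*} [Group G] [Fintype G] {p : ℕ} {M : Ideal AlgInt}

theorem isClassFunction_restrict_irr (H : Subgroup G) (ζ : IrrCharacter G) :
    IsClassFunction H (fun h : H => (ζ : G → ℂ) h) := by
  intro g h
  have h0 : ((h * g * h⁻¹ : H) : G) = (h : G) * (g : G) * (h : G)⁻¹ := by simp
  simp only
  rw [h0, Cfsg.Agent.Lib.H24.irr_conj]

theorem sum_irr_mul_sum_blockCoeff (H : Subgroup G) [Fintype H] [Fintype (IrrCharacter G)]
    [Fintype (IrrCharacter H)] [DecidableRel (IsConj (α := G))] (b : Set (IrrCharacter H))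
    [DecidablePred (· ∈ b)] (u : H) (g₀ : G) :
    ∑ ζ : IrrCharacter G, (∑ k : H, blockCoeff b k * (ζ : G → ℂ) ((k : G) * (u : G))) *
        conj ((ζ : G → ℂ) g₀) =
      (Nat.card H : ℂ)⁻¹ * ∑ h : H, (if IsConj (h : G) g₀ then
        (Nat.card (Subgroup.centralizer ({(h : G)} : Set G)) : ℂ) *
          ∑ ψ : IrrCharacter H, (if ψ ∈ b then (ψ : H → ℂ) u * conj ((ψ : H → ℂ) h) else 0)
        else 0) := by
  set A : IrrCharacter H → ℂ := fun ψ => if ψ ∈ b then (ψ : H → ℂ) u else 0 with hA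
  set T : IrrCharacter G → IrrCharacter H → H → ℂ := fun ζ ψ h =>
    (Nat.card H : ℂ)⁻¹ * A ψ * (ζ : G → ℂ) h * conj ((ψ : H → ℂ) h) * conj ((ζ : G → ℂ) g₀) with hT
  have hL : ∀ ζ : IrrCharacter G,
      (∑ k : H, blockCoeff b k * (ζ : G → ℂ) ((k : G) * (u : G))) * conj ((ζ : G → ℂ) g₀) =
      ∑ ψ : IrrCharacter H, ∑ h : H, T ζ ψ h := by
    intro ζ
    have h1 := sum_blockCoeff_mul_classFunction b (isClassFunction_restrict_irr H ζ) u
    simp only [Subgroup.coe_mul] at h1
    rw [h1, Finset.sum_mul]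
    refine Finset.sum_congr rfl (fun ψ _ => ?_)
    unfold classInner
    rw [Finset.mul_sum, Finset.mul_sum, Finset.sum_mul]
    refine Finset.sum_congr rfl (fun h _ => ?_)
    simp only [hT, hA]
    ring
  have hR : ∀ h : H, (if IsConj (h : G) g₀ then
        (Nat.card (Subgroup.centralizer ({(h : G)} : Set G)) : ℂ) *
          ∑ ψ : IrrCharacter H, (if ψ ∈ b then (ψ : H → ℂ) u * conj ((ψ : H → ℂ) h) else 0)
        else 0) = (Nat.card H : ℂ) * ∑ ψ : IrrCharacter H, ∑ ζ : IrrCharacter G, T ζ ψ h := by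
    intro h
    have h2 := Cfsg.Agent.Lib.H24.second_orthogonality (G := G) (h : G) g₀
    have hH0 : (Nat.card H : ℂ) ≠ 0 := Nat.cast_ne_zero.2 Nat.card_pos.ne'
    have h3 : ∀ ψ : IrrCharacter H, ∑ ζ : IrrCharacter G, T ζ ψ h =
        (Nat.card H : ℂ)⁻¹ * A ψ * conj ((ψ : H → ℂ) h) *
          ∑ ζ : IrrCharacter G, (ζ : G → ℂ) h * conj ((ζ : G → ℂ) g₀) := by
      intro ψ
      rw [Finset.mul_sum]
      refine Finset.sum_congr rfl (fun ζ _ => ?_)
      simp only [hT]
      ring
    simp only [h3, h2]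
    split_ifs with hc
    · rw [Finset.mul_sum, Finset.mul_sum]
      refine Finset.sum_congr rfl (fun ψ _ => ?_)
      simp only [hA]
      split_ifs
      · field_simp
      · ring
    · simp
  simp only [hL, hR]
  rw [← Finset.mul_sum, ← mul_assoc, inv_mul_cancel₀ (Nat.cast_ne_zero.2 Nat.card_pos.ne'), one_mul]
  have e1 : ∑ ζ : IrrCharacter G, ∑ ψ : IrrCharacter H, ∑ h : H, T ζ ψ h =
      ∑ ψ : IrrCharacter H, ∑ h : H, ∑ ζ : IrrCharacter G, T ζ ψ h := by
    rw [Finset.sum_comm]
    exact Finset.sum_congr rfl (fun ψ _ => Finset.sum_comm)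
  have e2 : ∑ h : H, ∑ ψ : IrrCharacter H, ∑ ζ : IrrCharacter G, T ζ ψ h =
      ∑ ψ : IrrCharacter H, ∑ h : H, ∑ ζ : IrrCharacter G, T ζ ψ h := Finset.sum_comm
  rw [e1, e2]

theorem principal_isInducedBlock (hM : IsPModular p M) (P : Subgroup G) (hP : IsPGroup p P)
    (H : Subgroup G) [Fintype H] (hPH : P ≤ H) (hCH : Subgroup.centralizer (P : Set G) ≤ H)
    (hHN : H ≤ Subgroup.normalizer (P : Set G)) :
    IsInducedBlock M H (principalBlock M H) (principalBlock M G) := by
  haveI hPr := isPrime_of_isPModular hM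
  obtain ⟨χ₀, hind⟩ := exists_isInducedBlock P H hM hP hPH hCH hHN
    (Cfsg.Agent.Lib.H24.trivialIrr H)
  have h1 : blockOf M (χ₀ : G → ℂ) = principalBlock M G := (third_main hM H hind).2 rfl
  rw [h1] at hind
  exact hind

/-- Data about the centralizer of a `p`-element. -/
theorem centralizer_data {z : G} (hz : ∃ k : ℕ, orderOf z = p ^ k) :
    IsPGroup p (Subgroup.zpowers z) ∧
    Subgroup.zpowers z ≤ Subgroup.centralizer ({z} : Set G) ∧
    Subgroup.centralizer ((Subgroup.zpowers z : Subgroup G) : Set G) ≤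
      Subgroup.centralizer ({z} : Set G) ∧
    Subgroup.centralizer ({z} : Set G) ≤
      Subgroup.normalizer ((Subgroup.zpowers z : Subgroup G) : Set G) := by
  have huH : z ∈ Subgroup.centralizer ({z} : Set G) := Subgroup.mem_centralizer_singleton_iff.2 rfl
  refine ⟨?_, ?_, ?_, ?_⟩
  · obtain ⟨k, hk⟩ := hz
    apply IsPGroup.of_card (n := k)
    rw [Nat.card_zpowers, hk]
  · rw [Subgroup.zpowers_le]
    exact huH
  · apply Subgroup.centralizer_le
    intro x hx
    rw [Set.mem_singleton_iff] at hx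
    rw [hx]
    exact Subgroup.mem_zpowers z
  · intro h hh
    apply Subgroup.centralizer_le_normalizer
    intro x hx
    obtain ⟨n, rfl⟩ := Subgroup.mem_zpowers_iff.1 hx
    have h1 : Commute z h := (Subgroup.mem_centralizer_singleton_iff.1 hh).symm
    exact (h1.zpow_left n).eq

/-- `∑_{ζ ∈ B₀(G)} ζ(z y) conj ζ(z y) = ∑_{ψ ∈ B₀(C_G(z))} ψ(y) conj ψ(y)`. -/
theorem section_sum_principal [Fintype (IrrCharacter G)] (hM : IsPModular p M) (z : G)
    (hz : ∃ k : ℕ, orderOf z = p ^ k) (H : Subgroup G)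
    (hH : H = Subgroup.centralizer ({z} : Set G)) [Fintype H]
    [Fintype (IrrCharacter H)]
    [DecidablePred (· ∈ principalBlock M G)]
    [DecidablePred (· ∈ principalBlock M H)]
    (y : H) (hy : ¬ p ∣ orderOf y) :
    ∑ ζ : IrrCharacter G, (if ζ ∈ principalBlock M G then
      (ζ : G → ℂ) (z * (y : G)) * conj ((ζ : G → ℂ) (z * (y : G))) else 0) =
    ∑ ψ : IrrCharacter H,
      (if ψ ∈ principalBlock M H then
        (ψ : H → ℂ) y * conj ((ψ : H → ℂ) y) else 0) := by
  classical
  haveI hPr := isPrime_of_isPModular hM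
  have hp := prime_of_isPModular hM
  obtain ⟨hPp, hPH, hCH, hHN⟩ := centralizer_data (G := G) hz
  rw [← hH] at hPH hCH hHN
  have hzH : z ∈ H := by
    rw [hH]
    exact Subgroup.mem_centralizer_singleton_iff.2 rfl
  have hHcomm : ∀ g : H, (g : G) * z = z * (g : G) := by
    intro g
    have h1 : (g : G) ∈ Subgroup.centralizer ({z} : Set G) := hH ▸ g.2
    exact Subgroup.mem_centralizer_singleton_iff.1 h1
  set zH : H := ⟨z, hzH⟩ with hzHdef
  have hzc : zH ∈ Subgroup.center H := by
    rw [Subgroup.mem_center_iff]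
    intro g
    apply Subtype.ext
    simp only [Subgroup.coe_mul, hzHdef]
    exact hHcomm g
  have hzHord : ∃ k : ℕ, orderOf zH = p ^ k := by
    obtain ⟨k, hk⟩ := hz
    exact ⟨k, by rw [← hk, ← Subgroup.orderOf_coe]⟩
  set u : H := zH * y with hu
  have huG : (u : G) = z * (y : G) := rfl
  have hind := principal_isInducedBlock hM (Subgroup.zpowers z) hPp H hPH hCH hHN
  have hcomm : Commute z (y : G) := (hHcomm y).symm
  have hyG : ¬ p ∣ orderOf (y : G) := by rwa [Subgroup.orderOf_coe]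
  have hpart : IsPPart p (u : G) z := isPPart_mul hcomm hz hyG
  have hC : ∀ z' : G, IsPPart p (u : G) z' → Subgroup.centralizer ({z'} : Set G) ≤ H := by
    intro z' hz'
    rw [IsPPart.unique hp hz' hpart, hH]
  -- Step (a)
  have hF : ∀ ζ : IrrCharacter G,
      ∑ k : H, blockCoeff (principalBlock M H) k * (ζ : G → ℂ) ((k : G) * (u : G)) =
        if ζ ∈ principalBlock M G then (ζ : G → ℂ) (u : G) else 0 := by
    intro ζ
    split_ifs with hζ
    · exact (principal_local hM (Subgroup.zpowers z) hPp H hPH hCH hHN ζ hζ u hC).symm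
    · exact second_main H hM hind u hC ζ hζ
  have hLHS : ∑ ζ : IrrCharacter G, (if ζ ∈ principalBlock M G then
      (ζ : G → ℂ) (z * (y : G)) * conj ((ζ : G → ℂ) (z * (y : G))) else 0) =
      ∑ ζ : IrrCharacter G, (∑ k : H, blockCoeff (principalBlock M H) k *
        (ζ : G → ℂ) ((k : G) * (u : G))) * conj ((ζ : G → ℂ) (u : G)) := by
    refine Finset.sum_congr rfl (fun ζ _ => ?_)
    rw [hF]
    split_ifs
    · rfl
    · rw [zero_mul]
  rw [hLHS, sum_irr_mul_sum_blockCoeff]
  -- Step (d)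
  obtain ⟨I, hI⟩ : ∃ I : H → ℂ, ∀ h : H, I h = ∑ ψ : IrrCharacter H,
      (if ψ ∈ principalBlock M H then (ψ : H → ℂ) u * conj ((ψ : H → ℂ) h) else 0) :=
    ⟨_, fun _ => rfl⟩
  simp only [← hI]
  have hstep : ∀ h : H, (if IsConj (h : G) (u : G) then
      (Nat.card (Subgroup.centralizer ({(h : G)} : Set G)) : ℂ) * I h else 0) =
      (if IsConj u h then
      (Nat.card (Subgroup.centralizer ({(u : G)} : Set G)) : ℂ) * I u else 0) := by
    intro h
    by_cases hc : IsConj u h
    · have hcG : IsConj (h : G) (u : G) := by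
        obtain ⟨c, hc'⟩ := isConj_iff.1 hc
        rw [isConj_comm, isConj_iff]
        exact ⟨(c : G), by rw [← hc']; simp⟩
      rw [if_pos hc, if_pos hcG]
      have h1 : I h = I u := by
        rw [hI, hI]
        refine Finset.sum_congr rfl (fun ψ _ => ?_)
        split_ifs
        · rw [Cfsg.Agent.Lib.H24.irr_eq_of_isConj ψ hc]
        · rfl
      have h2 : Nat.card (Subgroup.centralizer ({(h : G)} : Set G)) =
          Nat.card (Subgroup.centralizer ({(u : G)} : Set G)) :=
        Cfsg.Agent.Lib.H24.card_centralizer_eq_of_isConj hcG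
      rw [h1, h2]
    · rw [if_neg hc]
      by_cases hcG : IsConj (h : G) (u : G)
      · rw [if_pos hcG]
        obtain ⟨g, hg⟩ := isConj_iff.1 (isConj_comm.1 hcG)
        have hpart' : IsPPart p (h : G) (g * z * g⁻¹) := by
          rw [← hg]
          exact IsPPart.conj hpart g
        obtain ⟨z'', hz''G, hz''⟩ := IsPPart.of_subgroup hp H h hpart'
        have hne : z'' ≠ zH := by
          intro heq
          apply hc
          have hgz : g * z * g⁻¹ = z := by
            rw [← hz''G, heq]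
          have hgH : g ∈ H := by
            rw [hH, Subgroup.mem_centralizer_singleton_iff]
            exact mul_inv_eq_iff_eq_mul.1 hgz
          rw [isConj_iff]
          exact ⟨⟨g, hgH⟩, Subtype.ext (by simpa using hg)⟩
        have h0 : I h = 0 := by
          rw [hI]
          exact central_block_orthogonality hM (Cfsg.Agent.Lib.H24.trivialIrr H)
            (principalBlock M H) rfl hzc hzHord hy hz'' hne
        rw [h0, mul_zero]
      · rw [if_neg hcG]
  simp only [hstep]
  -- counting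
  rw [← Finset.sum_filter, Finset.sum_const, nsmul_eq_mul]
  have hcount : ((Finset.univ.filter (fun h : H => IsConj u h)).card : ℂ) *
      (Nat.card (Subgroup.centralizer ({(u : G)} : Set G)) : ℂ) = (Nat.card H : ℂ) := by
    have h1 : (Finset.univ.filter (fun h : H => IsConj u h)).card =
        (Subgroup.centralizer ({u} : Set H)).index := by
      rw [Cfsg.Agent.Lib.H24.index_centralizer_eq_card_conj, Nat.card_eq_fintype_card,
        Fintype.card_subtype]
    have h2 : Nat.card (Subgroup.centralizer ({(u : G)} : Set G)) =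
        Nat.card (Subgroup.centralizer ({u} : Set H)) := by
      have hle : Subgroup.centralizer ({(u : G)} : Set G) ≤ H := by
        refine le_trans ?_ (hC z hpart)
        intro x hx
        rw [Subgroup.mem_centralizer_singleton_iff] at hx ⊢
        obtain ⟨n, hn⟩ := IsPPart.exists_pow hp hpart
        rw [hn]
        exact ((Commute.pow_right (show Commute x (u : G) from hx) n)).eq
      have heq : Subgroup.centralizer ({u} : Set H) =
          (Subgroup.centralizer ({(u : G)} : Set G)).subgroupOf H := by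
        ext x
        rw [Subgroup.mem_subgroupOf, Subgroup.mem_centralizer_singleton_iff,
          Subgroup.mem_centralizer_singleton_iff]
        constructor
        · intro hx
          have := congrArg (Subtype.val) hx
          simpa using this
        · intro hx
          exact Subtype.ext (by simpa using hx)
      rw [heq]
      exact (Nat.card_congr (Subgroup.subgroupOfEquivOfLe hle).toEquiv).symm
    rw [h1, h2, ← Nat.cast_mul, Subgroup.index_mul_card]
  have hH0 : (Nat.card H : ℂ) ≠ 0 := Nat.cast_ne_zero.2 Nat.card_pos.ne'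
  rw [← mul_assoc, ← mul_assoc, mul_assoc (Nat.card H : ℂ)⁻¹, hcount, inv_mul_cancel₀ hH0, one_mul]
  rw [hI]
  refine Finset.sum_congr rfl (fun ψ _ => ?_)
  split_ifs
  · rw [hu, irr_central_mul_conj ψ hzc]
  · rfl

end Section

end Cfsg.Agent.Lib.H23
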