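import Mathlib
import Cfsg.Prelude.Def_Blocks
import Cfsg.Agent.Lib.H23.BlockVanish
import Cfsg.Agent.Lib.H23.DegreeDvd
import Cfsg.Agent.Lib.L0.CharOps

/-!
# Blocks of defect zero (helper23)

`not_dvd_iff_blockOf_eq_singleton`: `p ∤ |G| / χ(1)` iff the block of `χ` is `{χ}`.
-/

set_option autoImplicit false

namespace Cfsg.Agent.Lib.H23

open Cfsg MonoidAlgebra
open scoped ComplexConjugate

section

variable {G : Type*} [Group G] [Fintype G] {p : ℕ} {M : Ideal AlgInt}

theorem blockCoeff_singleton (χ : IrrCharacter G) (g : G) :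
    blockCoeff ({χ} : Set (IrrCharacter G)) g =
      (Nat.card G : ℂ)⁻¹ * ((χ : G → ℂ) 1 * conj ((χ : G → ℂ) g)) := by
  rw [blockCoeff, finsum_mem_singleton]

/-- If a class function `χ` restricted to a Sylow `p`-subgroup vanishes off the identity and is
a character, then `|P|` divides `χ 1`. -/
theorem card_sylow_dvd_of_vanish [Fact p.Prime] {χ : G → ℂ} (hχ : IsCharacter G χ) {d : ℕ}
    (hd : χ 1 = d) (hvan : ∀ g : G, p ∣ orderOf g → χ g = 0) :
    p ^ (Nat.card G).factorization p ∣ d := by
  classical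
  obtain ⟨P⟩ := Sylow.nonempty (p := p) (G := G)
  haveI : Fintype (P : Subgroup G) := Fintype.ofFinite _
  have hres : IsCharacter (P : Subgroup G) (fun x : (P : Subgroup G) => χ x) :=
    Cfsg.Agent.Lib.L0.isCharacter_restrict (P : Subgroup G) hχ
  have hone : IsCharacter (P : Subgroup G) (1 : ↥(P : Subgroup G) → ℂ) :=
    Cfsg.Agent.Lib.L0.isCharacter_of_irr Cfsg.Agent.Lib.L0.isIrrCharacter_one
  obtain ⟨n, hn⟩ := Cfsg.Agent.Lib.L0.classInner_char_char_nat hres hone
  have hsum : ∑ x : (P : Subgroup G), χ x * conj ((1 : ↥(P : Subgroup G) → ℂ) x) = (d : ℂ) := by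
    rw [Finset.sum_eq_single (1 : (P : Subgroup G))]
    · simp [hd]
    · intro x _ hx
      have hxo : p ∣ orderOf (x : G) := by
        obtain ⟨k, hk⟩ := (IsPGroup.iff_orderOf.1 P.isPGroup') x
        rw [Subgroup.orderOf_coe, hk]
        rcases k with _ | k
        · exfalso
          rw [pow_zero, orderOf_eq_one_iff] at hk
          exact hx hk
        · exact dvd_pow_self p (Nat.succ_ne_zero k)
      rw [hvan _ hxo, zero_mul]
    · intro h
      exact absurd (Finset.mem_univ _) h
  rw [classInner, hsum] at hn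
  have hP0 : (Nat.card (P : Subgroup G) : ℂ) ≠ 0 := by
    exact_mod_cast (Nat.card_pos (α := (P : Subgroup G))).ne'
  have h2 : (d : ℂ) = ((n * Nat.card (P : Subgroup G) : ℕ) : ℂ) := by
    push_cast
    rw [← hn]
    field_simp
  have h3 : d = n * Nat.card (P : Subgroup G) := by exact_mod_cast h2
  rw [h3, Sylow.card_eq_multiplicity]
  exact dvd_mul_left _ _

theorem not_dvd_iff_blockOf_eq_singleton [Fact p.Prime] (hM : IsPModular p M)
    (χ : IrrCharacter G) :
    ¬ p ∣ Nat.card G / charDegree (χ : G → ℂ) ↔ blockOf M (χ : G → ℂ) = {χ} := by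
  classical
  haveI hP := isPrime_of_isPModular hM
  have hp := prime_of_isPModular hM
  have hG0 : Nat.card G ≠ 0 := Nat.card_pos.ne'
  have hdvd := charDegree_dvd_card (χ : G → ℂ) χ.2
  have hdpos := charDegree_pos (χ : G → ℂ) χ.2
  have hχ1 := apply_one_eq_charDegree (χ : G → ℂ) χ.2
  set d := charDegree (χ : G → ℂ) with hd
  obtain ⟨q, hq⟩ := hdvd
  have hq' : Nat.card G / d = q := by
    rw [hq]; exact Nat.mul_div_cancel_left q hdpos
  rw [hq']
  constructor
  · intro hpq
    apply Set.Subset.antisymm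
    · refine subset_of_memLocalRing_blockCoeff ({χ} : Set (IrrCharacter G)) ?_ rfl
      intro g
      rw [blockCoeff_singleton, hχ1, hq]
      have hd0 : (d : ℂ) ≠ 0 := Nat.cast_ne_zero.2 hdpos.ne'
      have hq0 : (q : ℂ) ≠ 0 := by
        intro h0
        have : q = 0 := by exact_mod_cast h0
        exact hpq (this ▸ dvd_zero p)
      have : (((d * q : ℕ) : ℂ))⁻¹ * ((d : ℂ) * conj ((χ : G → ℂ) g)) =
          (q : ℂ)⁻¹ * conj ((χ : G → ℂ) g) := by
        push_cast
        field_simp
      rw [this]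
      refine memLocalRing_mul (memLocalRing_inv_natCast hM hpq) ?_
      have hint : IsIntegral ℤ ((χ : G → ℂ) g) :=
        Cfsg.Agent.Lib.L0.isCharacter_isIntegral (Cfsg.Agent.Lib.L0.isCharacter_of_irr χ.2) g
      have hint' : IsIntegral ℤ (conj ((χ : G → ℂ) g)) := by
        have := hint.map (Complex.conjAe.toAlgHom.restrictScalars ℤ)
        simpa using this
      exact isIntegral_mem_localRing hint'
    · intro ψ hψ
      rw [Set.mem_singleton_iff] at hψ
      rw [hψ]
      exact mem_blockOf_self χ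
  · intro hB hpq
    have hvan : ∀ g : G, p ∣ orderOf g → (χ : G → ℂ) g = 0 := by
      intro g hg
      have h1 := blockCoeff_eq_zero_of_dvd_orderOf hM χ g hg
      rw [hB, blockCoeff_singleton] at h1
      have hG : (Nat.card G : ℂ)⁻¹ ≠ 0 := inv_ne_zero (Nat.cast_ne_zero.2 hG0)
      have h2 := (mul_eq_zero.1 h1).resolve_left hG
      have h3 := (mul_eq_zero.1 h2).resolve_left (Cfsg.Agent.Lib.H24.irr_one_ne_zero χ)
      have := congrArg conj h3
      simpa using this
    have h4 := card_sylow_dvd_of_vanish (p := p) (Cfsg.Agent.Lib.L0.isCharacter_of_irr χ.2)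
      hχ1 hvan
    -- `p ^ a ∣ d`, `d * q = |G|`, `p ∣ q` contradict the definition of `a`
    have h6 := Nat.pow_succ_factorization_not_dvd hG0 hp
    generalize (Nat.card G).factorization p = a at h4 h6
    obtain ⟨d', hd'⟩ := h4
    obtain ⟨q', hq''⟩ := hpq
    apply h6
    rw [hq, hd', hq'', pow_succ]
    exact ⟨d' * q', by ring⟩

end

end Cfsg.Agent.Lib.H23
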