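import Cfsg.Agent.Lib.H23.BrauerThm
import Cfsg.Agent.Lib.H23.CentralChar
import Cfsg.Agent.Lib.H23.Zeros
import Cfsg.Agent.Lib.H23.DegreeDvd

/-!
# Characters of `p`-defect zero vanish on `p`-singular elements (helper23)

* `commute_of_coprime_orderOf`: in a nilpotent group elements of coprime orders commute;
* `exists_hall_decomp`: a finite nilpotent group is `P × K`, `P` a `p`-group, `K` the set of
  `p`-regular elements;
* `isIntegral_char_div_pow`: if `|G|/χ(1)` is prime to `p` and `p^a ∣ |C_G(x)|`, then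
  `χ(x)/p^a` is an algebraic integer;
* `exists_int_of_mul_of_isIntegral`, `isGeneralizedCharacter_of_classInner_int`;
* `pRegPart p χ`, `pRegPart_restrict_genChar`;
* `char_eq_zero_of_defect_zero` (Isaacs 8.17).
-/

set_option autoImplicit false

universe u

namespace Cfsg.Agent.Lib.H23

open Cfsg.Agent.Lib.L0 Cfsg.Agent.Lib.H8 Module
open scoped ComplexConjugate

section Nilp

/-- In a nilpotent group, elements of coprime orders commute. -/
theorem commute_of_coprime_orderOf (E : Type*) [Group E] [Group.IsNilpotent E] :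
    ∀ e u : E, Nat.Coprime (orderOf e) (orderOf u) → e * u = u * e := by
  refine Group.nilpotent_center_quotient_ind
    (P := fun E _ _ => ∀ e u : E, Nat.Coprime (orderOf e) (orderOf u) → e * u = u * e) E ?_ ?_
  · intro E _ _ e u _; exact Subsingleton.elim _ _
  · intro E _ _ ih e u hcop
    have h1 := ih (QuotientGroup.mk e) (QuotientGroup.mk u)
      (Nat.Coprime.coprime_dvd_left
        (orderOf_map_dvd (QuotientGroup.mk' (Subgroup.center E)) e)
        (Nat.Coprime.coprime_dvd_right
          (orderOf_map_dvd (QuotientGroup.mk' (Subgroup.center E)) u) hcop))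
    set z := e * u * e⁻¹ * u⁻¹ with hz
    have hzc : z ∈ Subgroup.center E := by
      rw [← QuotientGroup.eq_one_iff, hz]
      simp only [QuotientGroup.mk_mul, QuotientGroup.mk_inv]
      rw [h1]
      group
    have hzcomm : ∀ g : E, g * z = z * g := fun g => Subgroup.mem_center_iff.mp hzc g
    have h2 : e * u * e⁻¹ = z * u := by rw [hz]; group
    have h3 : u * e * u⁻¹ = z⁻¹ * e := by rw [hz]; group
    have h4 : z ^ orderOf u = 1 := by
      have := conj_pow (a := e) (b := u) (i := orderOf u)
      rw [h2, pow_orderOf_eq_one, mul_one, mul_inv_cancel,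
        (show Commute z u from (hzcomm u).symm).mul_pow, pow_orderOf_eq_one, mul_one] at this
      exact this
    have h5 : z ^ orderOf e = 1 := by
      have := conj_pow (a := u) (b := e) (i := orderOf e)
      rw [h3, pow_orderOf_eq_one, mul_one, mul_inv_cancel,
        (show Commute z⁻¹ e from ((Subgroup.mem_center_iff.mp
          ((Subgroup.center E).inv_mem hzc)) e).symm).mul_pow, pow_orderOf_eq_one, mul_one,
        inv_pow, inv_eq_one] at this
      exact this
    have h6 : orderOf z = 1 :=
      Nat.eq_one_of_dvd_coprimes hcop (orderOf_dvd_of_pow_eq_one h5) (orderOf_dvd_of_pow_eq_one h4)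
    rw [orderOf_eq_one_iff] at h6
    rw [h6] at h2
    rw [one_mul] at h2
    calc e * u = e * u * e⁻¹ * e := by group
      _ = u * e := by rw [h2]


/-- Decomposition of a finite nilpotent group into its Sylow `p`-subgroup and the subgroup of
`p`-regular elements. -/
theorem exists_hall_decomp (E : Type*) [Group E] [Finite E] [Group.IsNilpotent E] (p : ℕ)
    (hp : p.Prime) :
    ∃ P K : Subgroup E, (∃ a, Nat.card P = p ^ a) ∧ (Nat.card K).Coprime p ∧
      Nat.card P * Nat.card K = Nat.card E ∧ (∀ u ∈ P, ∀ k ∈ K, u * k = k * u) ∧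
      ∀ e : E, e ∈ K ↔ ¬ p ∣ orderOf e := by
  have : Fact p.Prime := ⟨hp⟩
  obtain ⟨P⟩ : Nonempty (Sylow p E) := inferInstance
  have hnorm : (P : Subgroup E).Normal := inferInstance
  obtain ⟨K, hK⟩ := Subgroup.exists_right_complement'_of_coprime P.card_coprime_index
  have hcard : Nat.card (P : Subgroup E) * Nat.card K = Nat.card E := hK.card_mul_card
  obtain ⟨a, ha⟩ := IsPGroup.iff_card.mp P.isPGroup'
  have hKcop : (Nat.card K).Coprime p := by
    have h1 : (P : Subgroup E).index = Nat.card K := hK.symm.index_eq_card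
    rw [← h1, Nat.coprime_comm, Nat.Prime.coprime_iff_not_dvd hp]
    exact P.not_dvd_index
  have hcomm : ∀ u ∈ (P : Subgroup E), ∀ k ∈ K, u * k = k * u := by
    intro u hu k hk
    apply commute_of_coprime_orderOf
    have h1 : orderOf u ∣ p ^ a := by
      rw [← ha]
      have := orderOf_dvd_natCard (⟨u, hu⟩ : (P : Subgroup E))
      rwa [Subgroup.orderOf_mk] at this
    have h2 : orderOf k ∣ Nat.card K := by
      have := orderOf_dvd_natCard (⟨k, hk⟩ : K)
      rwa [Subgroup.orderOf_mk] at this
    exact Nat.Coprime.coprime_dvd_left h1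
      (Nat.Coprime.coprime_dvd_right h2 (Nat.Coprime.pow_left a hKcop.symm))
  refine ⟨P, K, ⟨a, ha⟩, hKcop, hcard, hcomm, ?_⟩
  intro e
  constructor
  · intro he hdvd
    have h2 : orderOf e ∣ Nat.card K := by
      have := orderOf_dvd_natCard (⟨e, he⟩ : K)
      rwa [Subgroup.orderOf_mk] at this
    exact (Nat.Prime.coprime_iff_not_dvd hp).mp hKcop.symm (dvd_trans hdvd h2)
  · intro hnd
    obtain ⟨⟨u, k⟩, huk, _⟩ := (Subgroup.isComplement'_def.mp hK).existsUnique e
    simp only at huk
    have hc : Commute (u : E) (k : E) := hcomm u u.2 k k.2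
    set m := Nat.card K with hm
    have hem : e ^ m = 1 := by
      rw [← orderOf_dvd_iff_pow_eq_one]
      have h1 : orderOf e ∣ p ^ a * m := by
        rw [← ha, hcard]
        exact orderOf_dvd_natCard e
      exact Nat.Coprime.dvd_of_dvd_mul_left
        (Nat.Coprime.pow_right a ((Nat.Prime.coprime_iff_not_dvd hp).mpr hnd).symm) h1
    have hkm : (k : E) ^ m = 1 := by
      have : k ^ m = 1 := by rw [hm]; exact pow_card_eq_one'
      have := congrArg Subtype.val this
      simpa using this
    have hum : (u : E) ^ m = 1 := by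
      rw [← huk, hc.mul_pow, hkm, mul_one] at hem
      exact hem
    have hu1 : (u : E) = 1 := by
      rw [← orderOf_eq_one_iff]
      have h1 : orderOf (u : E) ∣ p ^ a := by
        rw [← ha]
        have := orderOf_dvd_natCard (⟨(u : E), u.2⟩ : (P : Subgroup E))
        rwa [Subgroup.orderOf_mk] at this
      exact Nat.eq_one_of_dvd_coprimes (Nat.Coprime.pow_left a hKcop.symm) h1
        (orderOf_dvd_of_pow_eq_one hum)
    rw [← huk, hu1, one_mul]
    exact k.2

end Nilp

section AlgInt

variable {G : Type*} [Group G] [Fintype G] {V : Type*} [AddCommGroup V] [Module ℂ V]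
  [FiniteDimensional ℂ V]

/-- If `|G| / χ(1)` is prime to `p` and `p ^ a` divides `|C_G(x)|`, then `χ(x) / p ^ a` is an
algebraic integer. -/
theorem isIntegral_char_div_pow (ρ : Representation ℂ G V) [ρ.IsIrreducible] {p : ℕ}
    (hp : p.Prime) (c : ℕ) (hc : Nat.card G = finrank ℂ V * c) (hcp : c.Coprime p) (x : G)
    (a : ℕ) (ha : p ^ a ∣ Nat.card (Subgroup.centralizer ({x} : Set G))) :
    IsIntegral ℤ (ρ.character x / (p ^ a : ℂ)) := by
  obtain ⟨c', hc'⟩ := ha
  have h1 := isIntegral_centralChar_rep ρ x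
  rw [Representation.char_one] at h1
  have hidx := Subgroup.index_mul_card (Subgroup.centralizer ({x} : Set G))
  rw [hc', hc] at hidx
  have hd0 : (finrank ℂ V : ℂ) ≠ 0 :=
    Nat.cast_ne_zero.mpr (finrank_pos_of_isIrreducible ρ).ne'
  have hpa0 : ((p : ℂ) ^ a) ≠ 0 := pow_ne_zero _ (Nat.cast_ne_zero.mpr hp.ne_zero)
  have hc'0 : (c' : ℂ) ≠ 0 := by
    rw [Nat.cast_ne_zero]
    rintro rfl
    rw [mul_zero] at hc'
    exact (Nat.card_pos (α := Subgroup.centralizer ({x} : Set G))).ne' hc'
  have hidx' : ((Subgroup.centralizer ({x} : Set G)).index : ℂ) * ((p : ℂ) ^ a * c') =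
      finrank ℂ V * c := by exact_mod_cast hidx
  have h2 : (c : ℂ) * (ρ.character x / (p : ℂ) ^ a) =
      (c' : ℂ) * (((Subgroup.centralizer ({x} : Set G)).index : ℂ) * ρ.character x /
        (finrank ℂ V : ℂ)) := by
    have : ((Subgroup.centralizer ({x} : Set G)).index : ℂ) =
        finrank ℂ V * c / ((p : ℂ) ^ a * c') := by
      rw [eq_div_iff (mul_ne_zero hpa0 hc'0)]
      exact hidx'
    rw [this]
    field_simp
  have hint : ∀ n : ℤ, IsIntegral ℤ (n : ℂ) := fun n => by
    have := isIntegral_algebraMap (R := ℤ) (A := ℂ) (x := n)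
    simpa using this
  have h3 : IsIntegral ℤ ((c : ℂ) * (ρ.character x / (p : ℂ) ^ a)) := by
    rw [h2]
    have := hint (c' : ℤ)
    rw [Int.cast_natCast] at this
    exact IsIntegral.mul this h1
  have hcop : IsCoprime (c : ℤ) ((p ^ a : ℕ) : ℤ) :=
    Nat.isCoprime_iff_coprime.mpr (Nat.Coprime.pow_right a hcp)
  obtain ⟨u, v, huv⟩ := hcop
  have h4 : ρ.character x / (p : ℂ) ^ a =
      (u : ℂ) * ((c : ℂ) * (ρ.character x / (p : ℂ) ^ a)) + (v : ℂ) * ρ.character x := by
    have h5 : (u : ℂ) * c + v * (p : ℂ) ^ a = 1 := by exact_mod_cast huv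
    have : (v : ℂ) * ρ.character x = v * (p : ℂ) ^ a * (ρ.character x / (p : ℂ) ^ a) := by
      field_simp
    rw [this, ← mul_assoc, ← add_mul, h5, one_mul]
  rw [h4]
  exact IsIntegral.add (IsIntegral.mul (hint u) h3) (IsIntegral.mul (hint v) (isIntegral_char ρ x))

end AlgInt

section Aux

/-- A complex number with `a r ∈ ℤ` and `b r` an algebraic integer, `a` and `b` coprime, is an
integer. -/
theorem exists_int_of_mul_of_isIntegral {r : ℂ} {a b : ℕ} (hab : a.Coprime b) (ha0 : a ≠ 0)
    (n : ℤ) (h1 : (a : ℂ) * r = n) (h2 : IsIntegral ℤ ((b : ℂ) * r)) : ∃ z : ℤ, r = z := by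
  have ha0' : (a : ℂ) ≠ 0 := Nat.cast_ne_zero.mpr ha0
  have hr : r = (n : ℂ) / a := by
    rw [eq_div_iff ha0', mul_comm]
    exact h1
  have h3 : IsIntegral ℤ ((b : ℚ) * n / a) := by
    rw [← isIntegral_algebraMap_iff (algebraMap ℚ ℂ).injective]
    convert h2 using 1
    rw [hr]
    simp
    ring
  obtain ⟨y, hy⟩ := IsIntegrallyClosed.isIntegral_iff.mp h3
  simp only [algebraMap_int_eq, eq_intCast] at hy
  have h4 : (b : ℂ) * r = y := by
    rw [hr]
    have : ((y : ℚ) : ℂ) = (((b : ℚ) * n / a : ℚ) : ℂ) := by rw [hy]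
    push_cast at this
    rw [this]
    ring
  obtain ⟨u, v, huv⟩ := Nat.isCoprime_iff_coprime.mpr hab
  refine ⟨u * n + v * y, ?_⟩
  have h5 : (u : ℂ) * a + v * b = 1 := by exact_mod_cast huv
  push_cast
  rw [← h1, ← h4]
  linear_combination (-r) * h5

variable {G : Type*} [Group G] [Fintype G]

/-- A class function all of whose inner products with irreducible characters are integers is a
generalized character. -/
theorem isGeneralizedCharacter_of_classInner_int {f : G → ℂ} (hf : Cfsg.IsClassFunction G f)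
    (h : ∀ χ : Cfsg.IrrCharacter G, ∃ n : ℤ, Cfsg.classInner f (χ : G → ℂ) = n) :
    Cfsg.IsGeneralizedCharacter G f := by
  classical
  have := Fintype.ofFinite (Cfsg.IrrCharacter G)
  rw [Cfsg.Agent.Lib.H24.classFunction_expansion f hf]
  refine isGeneralizedCharacter_sum _ _ fun χ _ => ?_
  obtain ⟨n, hn⟩ := h χ
  rw [hn]
  have : ((n : ℂ) • (χ : G → ℂ)) = n • (χ : G → ℂ) := by
    funext g; simp
  rw [this]
  exact isGeneralizedCharacter_zsmul
    (isGeneralizedCharacter_of_isCharacter (isCharacter_of_irr χ.2)) n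

end Aux

section Main

variable {G : Type u} [Group G] [Fintype G] {V : Type*} [AddCommGroup V] [Module ℂ V]
  [FiniteDimensional ℂ V]

/-- The `p`-regular truncation of a function. -/
noncomputable def pRegPart (p : ℕ) (χ : G → ℂ) : G → ℂ :=
  fun g => if p ∣ orderOf g then 0 else χ g

theorem pRegPart_isClassFunction (p : ℕ) {χ : G → ℂ} (hχ : Cfsg.IsClassFunction G χ) :
    Cfsg.IsClassFunction G (pRegPart p χ) := by
  intro g h
  have h1 : orderOf (h * g * h⁻¹) = orderOf g := (MulAut.conj h).orderOf_eq g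
  simp only [pRegPart, h1, hχ g h]

theorem sum_ite_mem_subgroup {E : Type*} [Group E] [Fintype E] (K : Subgroup E) [Fintype K]
    [DecidablePred (· ∈ K)] (f : E → ℂ) :
    ∑ e : E, (if e ∈ K then f e else 0) = ∑ k : K, f k := by
  have h1 : ∑ k : K, f k =
      ∑ e ∈ (Finset.univ : Finset K).map ⟨Subtype.val, Subtype.val_injective⟩, f e := by
    rw [Finset.sum_map]
    rfl
  rw [h1, ← Finset.sum_filter]
  apply Finset.sum_congr _ (fun _ _ => rfl)
  ext e
  simp

theorem pRegPart_restrict_genChar (ρ : Representation ℂ G V) [ρ.IsIrreducible] {p : ℕ}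
    (hp : p.Prime) (c : ℕ) (hc : Nat.card G = finrank ℂ V * c) (hcp : c.Coprime p)
    (E : Subgroup G) (q : ℕ) (hq : q.Prime) (hE : Cfsg.IsElementary q E) :
    Cfsg.IsGeneralizedCharacter E (fun e : E => pRegPart p ρ.character e) := by
  classical
  have : Fintype E := Fintype.ofFinite E
  have hnil : Group.IsNilpotent E := isNilpotent_of_isElementary hq hE
  obtain ⟨P, K, ⟨a, ha⟩, hKcop, hcard, hcomm, hK⟩ := exists_hall_decomp E p hp
  have hχ : Cfsg.IsCharacter G ρ.character := isCharacter_of_rep ρ
  set χ := ρ.character with hχdef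
  set θ : E → ℂ := fun e => pRegPart p χ e with hθ
  have hθK : ∀ e : E, θ e = if e ∈ K then χ e else 0 := by
    intro e
    simp only [hθ, pRegPart]
    rw [Subgroup.orderOf_coe]
    by_cases h : p ∣ orderOf e
    · rw [if_pos h, if_neg]
      rw [hK]
      exact not_not.mpr h
    · rw [if_neg h, if_pos ((hK e).mpr h)]
  have hP0 : Nat.card P ≠ 0 := (Nat.card_pos (α := P)).ne'
  have hK0 : Nat.card K ≠ 0 := (Nat.card_pos (α := K)).ne'
  have hcardC : (Nat.card E : ℂ) = (Nat.card P : ℂ) * (Nat.card K : ℂ) := by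
    rw [← hcard]; push_cast; rfl
  apply isGeneralizedCharacter_of_classInner_int
  · intro e h
    exact pRegPart_isClassFunction p (isClassFunction_of_isCharacter hχ) (e : G) (h : G)
  · intro ψ
    have hψ : Cfsg.IsCharacter E (ψ : E → ℂ) := isCharacter_of_irr ψ.2
    set r := Cfsg.classInner θ (ψ : E → ℂ) with hr
    have hsum : ∑ e : E, θ e * conj ((ψ : E → ℂ) e) =
        ∑ e : E, (if e ∈ K then χ e * conj ((ψ : E → ℂ) e) else 0) := by
      refine Finset.sum_congr rfl fun e _ => ?_
      rw [hθK]
      split_ifs <;> simp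
    -- (i)
    have hi : ∃ n : ℕ, (Nat.card P : ℂ) * r = n := by
      obtain ⟨n, hn⟩ := classInner_char_char_nat
        (isCharacter_restrict K (isCharacter_restrict E hχ)) (isCharacter_restrict K hψ)
      refine ⟨n, ?_⟩
      rw [← hn, hr]
      unfold Cfsg.classInner
      rw [hsum, sum_ite_mem_subgroup K (fun e => χ e * conj ((ψ : E → ℂ) e)), hcardC]
      have h1 : (Nat.card P : ℂ) ≠ 0 := Nat.cast_ne_zero.mpr hP0
      have h2 : (Nat.card K : ℂ) ≠ 0 := Nat.cast_ne_zero.mpr hK0
      field_simp
    -- (ii)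
    have hii : IsIntegral ℤ ((Nat.card K : ℂ) * r) := by
      have h1 : (Nat.card K : ℂ) * r =
          ∑ e : E, (if e ∈ K then (χ e / (p : ℂ) ^ a) * conj ((ψ : E → ℂ) e) else 0) := by
        rw [hr]
        unfold Cfsg.classInner
        rw [hsum, hcardC, ha, Finset.mul_sum, Finset.mul_sum]
        refine Finset.sum_congr rfl fun e _ => ?_
        have h1 : ((p ^ a : ℕ) : ℂ) ≠ 0 := by rw [← ha]; exact Nat.cast_ne_zero.mpr hP0
        have h2 : (Nat.card K : ℂ) ≠ 0 := Nat.cast_ne_zero.mpr hK0
        split_ifs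
        · push_cast at h1 ⊢
          field_simp
        · simp
      rw [h1]
      refine IsIntegral.sum _ fun e _ => ?_
      split_ifs with he
      · refine IsIntegral.mul ?_ ?_
        · apply isIntegral_char_div_pow ρ hp c hc hcp
          have h2 : P.map E.subtype ≤ Subgroup.centralizer ({(e : G)} : Set G) := by
            rintro _ ⟨u, hu, rfl⟩
            rw [Subgroup.mem_centralizer_singleton_iff]
            have := hcomm u hu e he
            exact congrArg Subtype.val this
          have h3 := Subgroup.card_dvd_of_le h2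
          rwa [Subgroup.card_map_of_injective E.subtype_injective, ha] at h3
        · rw [← isCharacter_apply_inv hψ]
          exact isCharacter_isIntegral hψ _
      · exact isIntegral_zero
    obtain ⟨n, hn⟩ := hi
    have hcop : (Nat.card P).Coprime (Nat.card K) := by
      rw [ha]
      exact Nat.Coprime.pow_left a hKcop.symm
    exact exists_int_of_mul_of_isIntegral hcop hP0 n (by simpa using hn) hii

/-- An irreducible character of `p`-defect zero vanishes on `p`-singular elements. -/
theorem char_eq_zero_of_defect_zero (ρ : Representation ℂ G V) [ρ.IsIrreducible] (p n : ℕ)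
    (hp : p.Prime) (hn' : ¬ p ^ (n + 1) ∣ Nat.card G)
    (hdeg : p ^ n ∣ finrank ℂ V) (x : G) (hx : p ∣ orderOf x) : ρ.character x = 0 := by
  classical
  obtain ⟨c, hc⟩ := finrank_dvd_card ρ
  have hcp : c.Coprime p := by
    rw [Nat.coprime_comm, Nat.Prime.coprime_iff_not_dvd hp]
    intro hpc
    apply hn'
    rw [hc, pow_succ]
    exact mul_dvd_mul hdeg hpc
  have hχ : Cfsg.IsCharacter G ρ.character := isCharacter_of_rep ρ
  have hχirr : Cfsg.IsIrrCharacter G ρ.character := isIrrCharacter_of_irr ρ
  have hgen : Cfsg.IsGeneralizedCharacter G (pRegPart p ρ.character) :=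
    brauer_characterization (pRegPart_isClassFunction p (isClassFunction_of_isCharacter hχ))
      (fun E q hq hE => pRegPart_restrict_genChar ρ hp c hc hcp E q hq hE)
  obtain ⟨z, hz⟩ := genChar_classInner_irr_int hgen hχirr
  -- compute the inner product
  set A : ℝ := ∑ g : G, (if p ∣ orderOf g then 0 else ‖ρ.character g‖ ^ 2) with hA
  set B : ℝ := ∑ g : G, (if p ∣ orderOf g then ‖ρ.character g‖ ^ 2 else 0) with hB
  have hAB : A + B = (Nat.card G : ℝ) := by
    rw [← sum_normSq_char_eq_card ρ, hA, hB, ← Finset.sum_add_distrib]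
    refine Finset.sum_congr rfl fun g _ => ?_
    split_ifs <;> simp
  have hzA : (z : ℝ) * (Nat.card G : ℝ) = A := by
    have h1 : Cfsg.classInner (pRegPart p ρ.character) ρ.character =
        (Nat.card G : ℂ)⁻¹ * ((A : ℝ) : ℂ) := by
      unfold Cfsg.classInner
      congr 1
      rw [hA]
      push_cast
      refine Finset.sum_congr rfl fun g _ => ?_
      simp only [pRegPart]
      split_ifs
      · simp
      · rw [Complex.mul_conj, Complex.normSq_eq_norm_sq]
    rw [h1] at hz
    have hne : (Nat.card G : ℂ) ≠ 0 := by exact_mod_cast (Nat.card_pos (α := G)).ne'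
    have h2 : ((A : ℝ) : ℂ) = (z : ℂ) * (Nat.card G : ℂ) := by
      rw [← hz]
      field_simp
    have h3 : ((A : ℝ) : ℂ) = (((z : ℝ) * (Nat.card G : ℝ) : ℝ) : ℂ) := by
      rw [h2]; push_cast; rfl
    exact (Complex.ofReal_injective h3).symm
  have hGpos : (0 : ℝ) < Nat.card G := by exact_mod_cast Nat.card_pos (α := G)
  have hApos : 0 < A := by
    have h1 : (if p ∣ orderOf (1 : G) then (0 : ℝ) else ‖ρ.character 1‖ ^ 2) ≤ A := by
      rw [hA]
      apply Finset.single_le_sum
        (f := fun g : G => if p ∣ orderOf g then (0 : ℝ) else ‖ρ.character g‖ ^ 2)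
      · intro g _
        split_ifs
        · exact le_refl _
        · positivity
      · exact Finset.mem_univ _
    have hp1 : ¬ p ∣ orderOf (1 : G) := by
      rw [orderOf_one, Nat.dvd_one]
      exact hp.one_lt.ne'
    rw [if_neg hp1, Representation.char_one] at h1
    have hd : (0 : ℝ) < ‖((finrank ℂ V : ℕ) : ℂ)‖ ^ 2 := by
      have : 0 < finrank ℂ V := finrank_pos_of_isIrreducible ρ
      rw [Complex.norm_natCast]
      positivity
    exact lt_of_lt_of_le hd h1
  have hz1 : (1 : ℝ) ≤ z := by
    have h1 : (0 : ℝ) < z := by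
      by_contra hneg
      rw [not_lt] at hneg
      have : (z : ℝ) * (Nat.card G : ℝ) ≤ 0 := mul_nonpos_of_nonpos_of_nonneg hneg hGpos.le
      linarith
    have h2 : (0 : ℤ) < z := by exact_mod_cast h1
    exact_mod_cast h2
  have hB0 : B ≤ 0 := by nlinarith
  have hterm : (if p ∣ orderOf x then ‖ρ.character x‖ ^ 2 else (0 : ℝ)) ≤ B := by
    rw [hB]
    apply Finset.single_le_sum
      (f := fun g : G => if p ∣ orderOf g then ‖ρ.character g‖ ^ 2 else (0 : ℝ))
    · intro g _
      split_ifs
      · positivity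
      · exact le_refl _
    · exact Finset.mem_univ _
  rw [if_pos hx] at hterm
  have h0 : ‖ρ.character x‖ ^ 2 ≤ 0 := le_trans hterm hB0
  have h1 : ‖ρ.character x‖ = 0 := by
    have := sq_nonneg ‖ρ.character x‖
    have h2 : ‖ρ.character x‖ ^ 2 = 0 := le_antisymm h0 this
    exact pow_eq_zero_iff (two_ne_zero) |>.mp h2
  exact norm_eq_zero.mp h1

end Main

end Cfsg.Agent.Lib.H23
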