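import Cfsg.Agent.Lib.H23.BlockExtFirstMain
import Cfsg.Agent.Lib.H23.BlockDefectConj

/-!
# Roots of a block: defect groups, transport along isomorphisms (helper23)
-/

set_option autoImplicit false

namespace Cfsg.Agent.Lib.H23.Contrib

open Cfsg MonoidAlgebra Cfsg.Agent.Lib.H23 Cfsg.Agent.Lib.H24 Cfsg.Agent.Lib.L0
open scoped ComplexConjugate

section Defect

variable {A : Type*} [Group A] [Fintype A] {p : ℕ} [Fact p.Prime] {M : Ideal AlgInt}
  (L : Subgroup A) [Fintype L]

/-- The defect does not decrease under block induction. -/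
theorem blockDefect_le_of_induced (hM : IsPModular p M) {θ : IrrCharacter L} {ζ : IrrCharacter A}
    (hind : IsInducedBlock M L (blockOf M (θ : L → ℂ)) (blockOf M (ζ : A → ℂ))) :
    blockDefect p (blockOf M (θ : L → ℂ)) ≤ blockDefect p (blockOf M (ζ : A → ℂ)) := by
  have hp : p.Prime := Fact.out
  obtain ⟨Q, hQ⟩ := exists_isDefectGroup hM θ
  obtain ⟨E, hE, hQE⟩ := defectGroup_le_of_induced L hM hind Q hQ
  have h1 := card_defectGroup hM θ Q hQ
  have h2 := card_defectGroup hM ζ E hE
  have h3 : Nat.card (Q.map L.subtype) = Nat.card Q :=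
    Subgroup.card_map_of_injective (Subgroup.subtype_injective _)
  have h4 : Nat.card (Q.map L.subtype) ≤ Nat.card E := Subgroup.card_le_of_le hQE
  rw [h3, h1, h2] at h4
  exact (Nat.pow_le_pow_iff_right hp.one_lt).1 h4

/-- A normal `p`-subgroup of order `p^k` forces defect at least `k`. -/
theorem le_blockDefect_of_normal (hM : IsPModular p M) (θ : IrrCharacter L) (P : Subgroup L)
    [P.Normal] (hP : IsPGroup p P) {k : ℕ} (hk : Nat.card P = p ^ k) :
    k ≤ blockDefect p (blockOf M (θ : L → ℂ)) := by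
  have hp : p.Prime := Fact.out
  obtain ⟨Q, hQ⟩ := exists_isDefectGroup hM θ
  have h1 := card_defectGroup hM θ Q hQ
  have h2 := normal_le_defectGroup hM θ P hP Q hQ
  have h3 : Nat.card P ≤ Nat.card Q := Subgroup.card_le_of_le h2
  rw [hk, h1] at h3
  exact (Nat.pow_le_pow_iff_right hp.one_lt).1 h3

/-- A normal `p`-subgroup `P` of `L` whose order is at least the order of the defect groups of
`b^A` is a defect group of `b^A`. -/
theorem isDefectGroup_of_root (hM : IsPModular p M) (P : Subgroup A) (hPL : P ≤ L)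
    (hLN : L ≤ Subgroup.normalizer (P : Set A)) (hP : IsPGroup p P)
    {θ : IrrCharacter L} {ζ : IrrCharacter A}
    (hind : IsInducedBlock M L (blockOf M (θ : L → ℂ)) (blockOf M (ζ : A → ℂ)))
    (hcard : p ^ blockDefect p (blockOf M (ζ : A → ℂ)) ≤ Nat.card P) :
    IsDefectGroup p M (blockOf M (ζ : A → ℂ)) P := by
  obtain ⟨Q, hQ⟩ := exists_isDefectGroup hM θ
  haveI hnPL : (P.subgroupOf L).Normal := Subgroup.normal_subgroupOf_of_le_normalizer hLN
  have hpgL : IsPGroup p (P.subgroupOf L) := hP.comap_subtype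
  have hle := normal_le_defectGroup hM θ (P.subgroupOf L) hpgL Q hQ
  obtain ⟨E, hE, hQE⟩ := defectGroup_le_of_induced L hM hind Q hQ
  have hcE := card_defectGroup hM ζ E hE
  have hPE : P ≤ E := by
    intro x hx
    apply hQE
    exact ⟨⟨x, hPL hx⟩, hle (Subgroup.mem_subgroupOf.2 hx), rfl⟩
  have hEP : P = E := by
    apply Subgroup.eq_of_le_of_card_ge hPE
    rw [hcE]
    exact hcard
  rw [hEP]
  exact hE

end Defect

section Transport

variable {A A' : Type*} [Group A] [Group A'] {M : Ideal AlgInt}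
  (ε : A ≃* A') (L : Subgroup A) (L' : Subgroup A') (εL : L ≃* L')

theorem inducedCentralChar_transport (hεL : ∀ l : L, ((εL l : L') : A') = ε (l : A))
    (ξ' : L' → ℂ) (a : A) :
    inducedCentralChar L' ξ' (ε a) = inducedCentralChar L (fun l => ξ' (εL l)) a := by
  unfold inducedCentralChar
  symm
  refine finsum_mem_eq_of_bijOn (fun l => εL l) ?_ ?_
  · refine ⟨?_, ?_, ?_⟩
    · intro l hl
      simp only [Set.mem_ofPred_eq] at hl ⊢
      rw [hεL]
      obtain ⟨c, hc⟩ := isConj_iff.1 hl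
      rw [isConj_iff]
      exact ⟨ε c, by rw [← map_mul, ← map_inv, ← map_mul, hc]⟩
    · intro l₁ _ l₂ _ h
      exact εL.injective h
    · intro l' hl'
      simp only [Set.mem_ofPred_eq] at hl'
      refine ⟨εL.symm l', ?_, by simp⟩
      simp only [Set.mem_ofPred_eq]
      obtain ⟨c, hc⟩ := isConj_iff.1 hl'
      rw [isConj_iff]
      refine ⟨ε.symm c, ?_⟩
      apply ε.injective
      rw [map_mul, map_mul, map_inv, MulEquiv.apply_symm_apply, hc, ← hεL,
        MulEquiv.apply_symm_apply]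
  · intro l _
    simp only [map_one]

/-- Transport of block induction along an isomorphism. -/
theorem isInducedBlock_transport (hεL : ∀ l : L, ((εL l : L') : A') = ε (l : A))
    {θ : IrrCharacter L} {ζ : IrrCharacter A}
    (hind : IsInducedBlock M L (blockOf M (θ : L → ℂ)) (blockOf M (ζ : A → ℂ))) :
    IsInducedBlock M L' (blockOf M ((irrEquiv εL).symm θ : L' → ℂ))
      (blockOf M ((irrEquiv ε).symm ζ : A' → ℂ)) := by
  refine ⟨⟨_, rfl⟩, ⟨_, rfl⟩, fun ξ' hξ' χ' hχ' a' => ?_⟩
  have h1 : irrEquiv εL ξ' ∈ blockOf M (θ : L → ℂ) := by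
    have := (irrEquiv_mem_blockOf_iff (M := M) εL ((irrEquiv εL).symm θ) ξ').2 hξ'
    rwa [Equiv.apply_symm_apply] at this
  have h2 : irrEquiv ε χ' ∈ blockOf M (ζ : A → ℂ) := by
    have := (irrEquiv_mem_blockOf_iff (M := M) ε ((irrEquiv ε).symm ζ) χ').2 hχ'
    rwa [Equiv.apply_symm_apply] at this
  have h3 := hind.2.2 _ h1 _ h2 (ε.symm a')
  rw [centralChar_irrEquiv, MulEquiv.apply_symm_apply] at h3
  have h4 := inducedCentralChar_transport ε L L' εL hεL (ξ' : L' → ℂ) (ε.symm a')
  rw [MulEquiv.apply_symm_apply] at h4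
  rw [h4]
  exact h3

end Transport

end Cfsg.Agent.Lib.H23.Contrib
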