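import Cfsg.Agent.Lib.H23.BlockPrincipal
import Cfsg.Agent.Lib.H23.BlockSecondMain
import Cfsg.Agent.Lib.H23.BlockBrauerHom
import Cfsg.Agent.Lib.H23.PPart2
import Cfsg.Agent.Lib.L0.BlockKer
import Cfsg.Agent.Lib.H22.PPrimeCore

/-!
# Local analysis of the principal block (helper23)

* `irr_mul_of_ker`, `principalBlock_ker`, `blockCoeff_mul_of_ker`;
* `sum_blocks_apply`: `∑_b ∑_k β_b(k) f(k) = f(1)`;
* `principal_local`: for `P C_G(P) ≤ H ≤ N_G(P)`, `χ ∈ B₀(G)` and `h ∈ H` with `C_G(h_p) ≤ H`: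
  `χ(h) = ∑_k β_{B₀(H)}(k) χ(k h)` (second + third main theorems).
-/

set_option autoImplicit false

namespace Cfsg.Agent.Lib.H23

open Cfsg MonoidAlgebra
open scoped ComplexConjugate

section Ker

variable {G : Type*} [Group G] [Fintype G] {p : ℕ} {M : Ideal AlgInt}

theorem irr_mul_of_ker (ψ : IrrCharacter G) {n : G}
    (hn : (ψ : G → ℂ) n = (ψ : G → ℂ) 1) (k : G) : (ψ : G → ℂ) (k * n) = (ψ : G → ℂ) k := by
  obtain ⟨ψ, d, ρ, hirr, rfl⟩ := ψ
  have h1 : ρ n = 1 := (Cfsg.Agent.Lib.L0.char_eq_char_one_iff ρ n).1 hn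
  show ρ.character (k * n) = ρ.character k
  unfold Representation.character
  rw [map_mul, h1, mul_one]

theorem principalBlock_ker (hM : IsPModular p M) (N : Subgroup G) [N.Normal]
    (hN : ¬ p ∣ Nat.card N) (ψ : IrrCharacter G) (hψ : ψ ∈ principalBlock M G) :
    ∀ n ∈ N, (ψ : G → ℂ) n = (ψ : G → ℂ) 1 :=
  Cfsg.Agent.Lib.L0.BlockKer.le_charKer_of_sameBlock hM
    (χ := Cfsg.Agent.Lib.H24.trivialIrr G) hψ N hN (fun _ _ => rfl)

theorem blockCoeff_mul_of_ker (B : Set (IrrCharacter G)) {n : G}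
    (h : ∀ ψ ∈ B, (ψ : G → ℂ) n = (ψ : G → ℂ) 1) (k : G) :
    blockCoeff B (k * n) = blockCoeff B k := by
  unfold blockCoeff
  congr 1
  refine finsum_mem_congr rfl (fun ψ hψ => ?_)
  rw [irr_mul_of_ker ψ (h ψ hψ)]

open scoped Classical in
theorem sum_blocks_apply [Fintype (IrrCharacter G)] [hP : M.IsPrime] (f : G → ℂ) :
    ∑ B ∈ (Finset.univ.image (fun χ : IrrCharacter G => blockOf M (χ : G → ℂ))),
      ∑ k : G, blockCoeff B k * f k = f 1 := by
  have h1 := congrArg (charEval f) (sum_blockIdem_eq_one (G := G) (M := M))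
  rw [charEval_sum, charEval_one] at h1
  rw [← h1]
  rfl

end Ker

section Local

variable {G : Type*} [Group G] [Fintype G] {p : ℕ} {M : Ideal AlgInt}

open scoped Classical in
/-- For `χ` in the principal block and `h ∈ H` with `C_G(h_p) ≤ H`, where `P C_G(P) ≤ H ≤ N_G(P)`,
only the principal block of `H` contributes to `χ(h)`. -/
theorem principal_local (hM : IsPModular p M) (P : Subgroup G) (hP : IsPGroup p P)
    (H : Subgroup G) [Fintype H] (hPH : P ≤ H) (hCH : Subgroup.centralizer (P : Set G) ≤ H)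
    (hHN : H ≤ Subgroup.normalizer (P : Set G)) (χ : IrrCharacter G)
    (hχ : χ ∈ principalBlock M G) (h : H)
    (hC : ∀ z : G, IsPPart p (h : G) z → Subgroup.centralizer ({z} : Set G) ≤ H) :
    (χ : G → ℂ) (h : G) =
      ∑ k : H, blockCoeff (principalBlock M H) k * (χ : G → ℂ) ((k : G) * (h : G)) := by
  haveI hPr := isPrime_of_isPModular hM
  haveI := Fintype.ofFinite (IrrCharacter H)
  have h1 := sum_blocks_apply (G := H) (M := M) (fun k : H => (χ : G → ℂ) ((k : G) * (h : G)))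
  simp only [Subgroup.coe_one, one_mul] at h1
  rw [← h1]
  rw [Finset.sum_eq_single (principalBlock M H)]
  · intro b hb hne
    obtain ⟨ξ₀, _, rfl⟩ := Finset.mem_image.1 hb
    obtain ⟨χ₀, hind⟩ := exists_isInducedBlock P H hM hP hPH hCH hHN ξ₀
    by_cases hχ₀ : χ ∈ blockOf M (χ₀ : G → ℂ)
    · exfalso
      apply hne
      have h2 : blockOf M (χ₀ : G → ℂ) = principalBlock M G := by
        rw [← blockOf_eq_of_mem hχ₀]
        exact principalBlock_eq_blockOf hχ
      exact (third_main hM H hind).1 h2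
    · exact second_main H hM hind h hC χ hχ₀
  · intro hn
    exfalso
    apply hn
    exact Finset.mem_image.2 ⟨Cfsg.Agent.Lib.H24.trivialIrr H, Finset.mem_univ _, rfl⟩

end Local

end Cfsg.Agent.Lib.H23
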