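import Cfsg.Agent.Lib.H23.CharGalois
import Cfsg.Agent.Lib.H24.CharOrth

/-!
# Rationality of character values and conjugacy of coprime powers (helper23)

* `char_pow_eq_of_rational`: if `χ g` is rational then `χ (g ^ m) = χ g` for `m` coprime to `|G|`;
* `char_rational_of_forall_char_pow_eq`: if `χ (g ^ m) = χ g` for all `m` coprime to `|G|`,
  then `χ g` is rational.
-/

set_option autoImplicit false

namespace Cfsg.Agent.Lib.H23

open Module Cfsg.Agent.Lib.L0

section

variable {G : Type*} [Group G] [Finite G] {V : Type*} [AddCommGroup V] [Module ℂ V]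
  [FiniteDimensional ℂ V]

/-- If `χ g` is rational, then `χ (g ^ m) = χ g` for all `m` coprime to `|G|`. -/
theorem char_pow_eq_of_rational (ρ : Representation ℂ G V) (g : G) (q : ℚ)
    (hq : ρ.character g = (q : ℂ)) (m : ℕ) (hm : m.Coprime (Nat.card G)) :
    ρ.character (g ^ m) = ρ.character g := by
  have hcard : NeZero (Nat.card G) := ⟨Nat.card_pos.ne'⟩
  have hg : g ^ Nat.card G = 1 := pow_card_eq_one'
  obtain ⟨x, hx⟩ := exists_cyc_char (Nat.card G) ρ g hg
  have h1 : cycEmb (Nat.card G) x = ρ.character g := by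
    have := hx 1
    rw [AlgEquiv.one_apply] at this
    rw [this]
    have h11 : cycPow (Nat.card G) (1 : Gal(CyclotomicField (Nat.card G) ℚ/ℚ)) = 1 := by
      unfold cycPow
      rw [map_one]
      rfl
    rw [h11, pow_val_one_eq (Nat.card G) g hg]
  have hxq : x = algebraMap ℚ _ q := by
    apply cycEmb_injective (Nat.card G)
    rw [h1, hq, AlgHom.commutes]
    rfl
  set σ : Gal(CyclotomicField (Nat.card G) ℚ/ℚ) :=
    (cycGalEquiv (Nat.card G)).symm (ZMod.unitOfCoprime m hm) with hσ
  have hpow : cycPow (Nat.card G) σ = (m : ZMod (Nat.card G)) := by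
    unfold cycPow
    rw [hσ, MulEquiv.apply_symm_apply, ZMod.coe_unitOfCoprime]
  have h2 := hx σ
  rw [hpow, ZMod.val_natCast, pow_mod_natCard, hxq, AlgEquiv.commutes, ← hxq, h1] at h2
  exact h2.symm

/-- If `χ (g ^ m) = χ g` for all `m` coprime to `|G|`, then `χ g` is rational. -/
theorem char_rational_of_forall_char_pow_eq (ρ : Representation ℂ G V) (g : G)
    (h : ∀ m : ℕ, m.Coprime (Nat.card G) → ρ.character (g ^ m) = ρ.character g) :
    ∃ q : ℚ, ρ.character g = (q : ℂ) := by
  have hcard : NeZero (Nat.card G) := ⟨Nat.card_pos.ne'⟩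
  have hg : g ^ Nat.card G = 1 := pow_card_eq_one'
  obtain ⟨x, hx⟩ := exists_cyc_char (Nat.card G) ρ g hg
  have h1 : cycEmb (Nat.card G) x = ρ.character g := by
    have := hx 1
    rw [AlgEquiv.one_apply] at this
    rw [this]
    have h11 : cycPow (Nat.card G) (1 : Gal(CyclotomicField (Nat.card G) ℚ/ℚ)) = 1 := by
      unfold cycPow
      rw [map_one]
      rfl
    rw [h11, pow_val_one_eq (Nat.card G) g hg]
  have hfix : ∀ σ : Gal(CyclotomicField (Nat.card G) ℚ/ℚ), σ x = x := by
    intro σ
    apply cycEmb_injective (Nat.card G)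
    rw [hx σ, h1]
    apply h
    unfold cycPow
    exact ZMod.val_coe_unit_coprime _
  have hbot := (IsGalois.mem_bot_iff_fixed (F := ℚ) x).mpr hfix
  obtain ⟨q, hq⟩ := IntermediateField.mem_bot.mp hbot
  refine ⟨q, ?_⟩
  rw [← h1, ← hq, AlgHom.commutes]
  rfl

end

end Cfsg.Agent.Lib.H23
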