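import Cfsg.Agent.Lib.H23.CentralChar
import Cfsg.Agent.Lib.L0.CharEquiv
import Cfsg.Agent.Lib.H24.CharComplete

/-!
# Extension of invariant characters over cyclic quotients (helper23)

* `isIrreducible_of_comp`: a representation whose pull-back along a homomorphism is irreducible is
  irreducible;
* `exists_extension_rep`: the construction `Y (n g₀^i) = X n B^i`;
* `exists_extension_of_cyclic`: `G/N` cyclic, `ϑ ∈ Irr(N)` invariant ⇒ `ϑ` extends to `G`.
-/

set_option autoImplicit false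

namespace Cfsg.Agent.Lib.H23

open Cfsg.Agent.Lib.L0 Module Representation

section Restrict

variable {G H : Type*} [Group G] [Group H] {V : Type*} [AddCommGroup V] [Module ℂ V]

/-- If the pull-back of `ρ` along `f` is irreducible, so is `ρ`. -/
theorem isIrreducible_of_comp (f : H →* G) (ρ : Representation ℂ G V)
    (h : Representation.IsIrreducible (MonoidHom.comp ρ f : Representation ℂ H V)) :
    ρ.IsIrreducible := by
  set σ : Representation ℂ H V := MonoidHom.comp ρ f with hσ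
  have hnt : Nontrivial (Subrepresentation σ) := IsSimpleOrder.toNontrivial
  let pull : Subrepresentation ρ → Subrepresentation σ := fun τ =>
    { toSubmodule := τ.toSubmodule
      apply_mem_toSubmodule := by
        intro g v hv
        exact τ.apply_mem_toSubmodule (f g) hv }
  have hV : Nontrivial V := by
    by_contra hV
    rw [not_nontrivial_iff_subsingleton] at hV
    obtain ⟨a, b, hab⟩ := exists_pair_ne (Subrepresentation σ)
    apply hab
    apply Subrepresentation.toSubmodule_injective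
    ext v
    have : v = 0 := Subsingleton.elim _ _
    simp [this]
  refine { exists_pair_ne := ⟨⊥, ⊤, ?_⟩, eq_bot_or_eq_top := ?_ }
  · intro hbt
    have : (⊥ : Submodule ℂ V) = ⊤ := congrArg Subrepresentation.toSubmodule hbt
    exact bot_ne_top this
  · intro τ
    rcases eq_bot_or_eq_top (pull τ) with h1 | h1
    · left
      apply Subrepresentation.toSubmodule_injective
      have h2 : (pull τ).toSubmodule = (⊥ : Subrepresentation σ).toSubmodule :=
        congrArg Subrepresentation.toSubmodule h1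
      exact h2
    · right
      apply Subrepresentation.toSubmodule_injective
      have h2 : (pull τ).toSubmodule = (⊤ : Subrepresentation σ).toSubmodule :=
        congrArg Subrepresentation.toSubmodule h1
      exact h2

end Restrict

section Construction

variable {G : Type*} [Group G] (N : Subgroup G) [hN : N.Normal] {V : Type*} [AddCommGroup V]
  [Module ℂ V]

/-- The basic construction: given `X` on `N`, an element `g₀` generating `G` modulo `N` and an
endomorphism `B` intertwining `X` with its `g₀`-conjugate, compatible with the powers of `g₀` lying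
in `N`, there is a representation of `G` extending `X`. -/
theorem exists_extension_rep (X : Representation ℂ N V) (g₀ : G) (B : Module.End ℂ V)
    (hB1 : ∀ n : N, B * X n = X ⟨g₀ * n * g₀⁻¹, hN.conj_mem (n : G) n.2 g₀⟩ * B)
    (hB2 : ∀ (k : ℕ) (hk : g₀ ^ k ∈ N), X ⟨g₀ ^ k, hk⟩ = B ^ k)
    (hgen : ∀ x : G, ∃ i : ℕ, x * (g₀ ^ i)⁻¹ ∈ N) :
    ∃ Y : Representation ℂ G V, ∀ n : N, Y (n : G) = X n := by
  classical
  -- iterated intertwining
  have hBk : ∀ (k : ℕ) (n : N),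
      B ^ k * X n = X ⟨g₀ ^ k * n * (g₀ ^ k)⁻¹, hN.conj_mem (n : G) n.2 (g₀ ^ k)⟩ * B ^ k := by
    intro k
    induction k with
    | zero =>
      intro n
      have : (⟨g₀ ^ 0 * n * (g₀ ^ 0)⁻¹, hN.conj_mem (n : G) n.2 (g₀ ^ 0)⟩ : N) = n :=
        Subtype.ext (by simp)
      rw [this]
      simp
    | succ k ih =>
      intro n
      have h1 : (⟨g₀ ^ (k + 1) * n * (g₀ ^ (k + 1))⁻¹,
          hN.conj_mem (n : G) n.2 (g₀ ^ (k + 1))⟩ : N) =
          ⟨g₀ * ((⟨g₀ ^ k * n * (g₀ ^ k)⁻¹, hN.conj_mem (n : G) n.2 (g₀ ^ k)⟩ : N) : G) * g₀⁻¹,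
            hN.conj_mem _ (hN.conj_mem (n : G) n.2 (g₀ ^ k)) g₀⟩ := by
        apply Subtype.ext
        simp only [pow_succ']
        group
      rw [h1, pow_succ', mul_assoc, ih n, ← mul_assoc, hB1, mul_assoc]
  -- well-definedness
  have hW : ∀ (x : G) (i j : ℕ) (hi : x * (g₀ ^ i)⁻¹ ∈ N) (hj : x * (g₀ ^ j)⁻¹ ∈ N), i ≤ j →
      X ⟨x * (g₀ ^ i)⁻¹, hi⟩ * B ^ i = X ⟨x * (g₀ ^ j)⁻¹, hj⟩ * B ^ j := by
    intro x i j hi hj hij
    obtain ⟨d, rfl⟩ := Nat.exists_eq_add_of_le hij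
    have hd : g₀ ^ d ∈ N := by
      have := N.mul_mem (N.inv_mem hj) hi
      have h2 : (x * (g₀ ^ (i + d))⁻¹)⁻¹ * (x * (g₀ ^ i)⁻¹) = g₀ ^ d := by
        rw [pow_add]; group
      rwa [h2] at this
    have h3 : (⟨x * (g₀ ^ i)⁻¹, hi⟩ : N) = ⟨x * (g₀ ^ (i + d))⁻¹, hj⟩ * ⟨g₀ ^ d, hd⟩ := by
      apply Subtype.ext
      simp only [Subgroup.coe_mul, pow_add]
      group
    rw [h3, map_mul, hB2 d hd, mul_assoc, ← pow_add, add_comm d i]
  have hW' : ∀ (x : G) (i j : ℕ) (hi : x * (g₀ ^ i)⁻¹ ∈ N) (hj : x * (g₀ ^ j)⁻¹ ∈ N),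
      X ⟨x * (g₀ ^ i)⁻¹, hi⟩ * B ^ i = X ⟨x * (g₀ ^ j)⁻¹, hj⟩ * B ^ j := by
    intro x i j hi hj
    rcases le_total i j with h | h
    · exact hW x i j hi hj h
    · exact (hW x j i hj hi h).symm
  choose idx hidx using hgen
  let Yf : G → Module.End ℂ V := fun x => X ⟨x * (g₀ ^ idx x)⁻¹, hidx x⟩ * B ^ idx x
  have hYf : ∀ (x : G) (i : ℕ) (hi : x * (g₀ ^ i)⁻¹ ∈ N),
      Yf x = X ⟨x * (g₀ ^ i)⁻¹, hi⟩ * B ^ i := fun x i hi => hW' x _ i _ hi
  have hone : Yf 1 = 1 := by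
    have h0 : (1 : G) * (g₀ ^ 0)⁻¹ ∈ N := by simp
    rw [hYf 1 0 h0]
    have : (⟨(1 : G) * (g₀ ^ 0)⁻¹, h0⟩ : N) = 1 := Subtype.ext (by simp)
    rw [this]
    simp
  have hmul : ∀ x y : G, Yf (x * y) = Yf x * Yf y := by
    intro x y
    set i := idx x
    set j := idx y
    have hi := hidx x
    have hj := hidx y
    set n' : N := ⟨y * (g₀ ^ j)⁻¹, hj⟩ with hn'
    have hc : g₀ ^ i * (n' : G) * (g₀ ^ i)⁻¹ ∈ N := hN.conj_mem _ n'.2 _
    have hij : x * y * (g₀ ^ (i + j))⁻¹ ∈ N := by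
      have := N.mul_mem hi hc
      have h2 : x * (g₀ ^ i)⁻¹ * (g₀ ^ i * (n' : G) * (g₀ ^ i)⁻¹) = x * y * (g₀ ^ (i + j))⁻¹ := by
        simp only [hn', pow_add]
        group
      rwa [h2] at this
    rw [hYf (x * y) (i + j) hij]
    have h3 : (⟨x * y * (g₀ ^ (i + j))⁻¹, hij⟩ : N) =
        ⟨x * (g₀ ^ i)⁻¹, hi⟩ * ⟨g₀ ^ i * (n' : G) * (g₀ ^ i)⁻¹, hc⟩ := by
      apply Subtype.ext
      simp only [Subgroup.coe_mul, hn', pow_add]
      group
    rw [h3, map_mul, pow_add, mul_assoc, ← mul_assoc (X ⟨g₀ ^ i * (n' : G) * (g₀ ^ i)⁻¹, hc⟩),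
      ← hBk i n']
    show _ = X ⟨x * (g₀ ^ i)⁻¹, hi⟩ * B ^ i * (X n' * B ^ j)
    simp only [mul_assoc]
  refine ⟨{ toFun := Yf, map_one' := hone, map_mul' := hmul }, ?_⟩
  intro n
  have h0 : (n : G) * (g₀ ^ 0)⁻¹ ∈ N := by simp
  show Yf n = X n
  rw [hYf n 0 h0]
  have : (⟨(n : G) * (g₀ ^ 0)⁻¹, h0⟩ : N) = n := Subtype.ext (by simp)
  rw [this]
  simp

end Construction

section Main

variable {G : Type*} [Group G] [Finite G] (N : Subgroup G) [hN : N.Normal]

omit [Finite G] in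
/-- Iterated intertwining relation. -/
theorem pow_mul_rep_eq {V : Type*} [AddCommGroup V] [Module ℂ V] (X : Representation ℂ N V)
    (g₀ : G) (B : Module.End ℂ V)
    (hB1 : ∀ n : N, B * X n = X ⟨g₀ * n * g₀⁻¹, hN.conj_mem (n : G) n.2 g₀⟩ * B) (k : ℕ) (n : N) :
    B ^ k * X n = X ⟨g₀ ^ k * n * (g₀ ^ k)⁻¹, hN.conj_mem (n : G) n.2 (g₀ ^ k)⟩ * B ^ k := by
  induction k generalizing n with
  | zero =>
    have : (⟨g₀ ^ 0 * n * (g₀ ^ 0)⁻¹, hN.conj_mem (n : G) n.2 (g₀ ^ 0)⟩ : N) = n :=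
      Subtype.ext (by simp)
    rw [this]
    simp
  | succ k ih =>
    have h1 : (⟨g₀ ^ (k + 1) * n * (g₀ ^ (k + 1))⁻¹,
        hN.conj_mem (n : G) n.2 (g₀ ^ (k + 1))⟩ : N) =
        ⟨g₀ * ((⟨g₀ ^ k * n * (g₀ ^ k)⁻¹, hN.conj_mem (n : G) n.2 (g₀ ^ k)⟩ : N) : G) * g₀⁻¹,
          hN.conj_mem _ (hN.conj_mem (n : G) n.2 (g₀ ^ k)) g₀⟩ := by
      apply Subtype.ext
      simp only [pow_succ']
      group
    rw [h1, pow_succ', mul_assoc, ih n, ← mul_assoc, hB1, mul_assoc]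

/-- **Extension over a cyclic quotient**: if `G/N` is cyclic and `ϑ ∈ Irr(N)` is `G`-invariant, then
`ϑ` extends to an irreducible character of `G`. -/
theorem exists_extension_of_cyclic (hcyc : IsCyclic (G ⧸ N)) (ϑ : N → ℂ)
    (hϑ : Cfsg.IsIrrCharacter N ϑ)
    (hinv : ∀ (g : G) (n : N), ϑ ⟨g * n * g⁻¹, hN.conj_mem (n : G) n.2 g⟩ = ϑ n) :
    ∃ χ : G → ℂ, Cfsg.IsIrrCharacter G χ ∧ ∀ n : N, χ n = ϑ n := by
  classical
  obtain ⟨d, X, hirr, hX⟩ := hϑ
  have := hirr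
  obtain ⟨q, hq⟩ := hcyc.exists_generator
  obtain ⟨g₀, rfl⟩ := QuotientGroup.mk_surjective q
  -- the conjugate representation
  let cN : N →* N := (MulAut.conjNormal g₀ : MulAut N).toMonoidHom
  have hcN : ∀ n : N, cN n = ⟨g₀ * n * g₀⁻¹, hN.conj_mem (n : G) n.2 g₀⟩ := by
    intro n
    apply Subtype.ext
    exact MulAut.conjNormal_apply g₀ n
  let Xc : Representation ℂ N (Fin d → ℂ) := MonoidHom.comp X cN
  have hchar : X.character = Xc.character := by
    funext n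
    show X.character n = X.character (cN n)
    rw [hX, hcN, hinv]
  obtain ⟨e⟩ := equiv_of_char_eq X Xc hchar
  set A : Module.End ℂ (Fin d → ℂ) := e.toLinearMap with hAdef
  have hA : ∀ n : N, A * X n = X ⟨g₀ * n * g₀⁻¹, hN.conj_mem (n : G) n.2 g₀⟩ * A := by
    intro n
    have := e.isIntertwining' n
    rw [← hcN]
    exact this
  have hAunit : IsUnit A := by
    refine ⟨⟨A, e.symm.toLinearMap, ?_, ?_⟩, rfl⟩
    · ext v
      simp [hAdef]
    · ext v
      simp [hAdef]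
  set m := orderOf (QuotientGroup.mk g₀ : G ⧸ N) with hmdef
  have hm : 0 < m := orderOf_pos _
  have hgm : g₀ ^ m ∈ N := by
    rw [← QuotientGroup.eq_one_iff, QuotientGroup.mk_pow, hmdef, pow_orderOf_eq_one]
  set z : N := ⟨g₀ ^ m, hgm⟩ with hz
  have hAm : ∀ n : N, A ^ m * X n = X z * X n * X z⁻¹ * A ^ m := by
    intro n
    rw [pow_mul_rep_eq N X g₀ A hA m n, ← map_mul, ← map_mul]
    congr 2
  set S : Module.End ℂ (Fin d → ℂ) := X z⁻¹ * A ^ m with hS
  have hzz : X z⁻¹ * X z = 1 := by rw [← map_mul, inv_mul_cancel, map_one]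
  have hzz' : X z * X z⁻¹ = 1 := by rw [← map_mul, mul_inv_cancel, map_one]
  have hScomm : ∀ n : N, S ∘ₗ X n = X n ∘ₗ S := by
    intro n
    rw [← Module.End.mul_eq_comp, ← Module.End.mul_eq_comp, hS, mul_assoc, hAm n]
    calc X z⁻¹ * (X z * X n * X z⁻¹ * A ^ m) = (X z⁻¹ * X z) * X n * (X z⁻¹ * A ^ m) := by
          simp only [mul_assoc]
      _ = X n * (X z⁻¹ * A ^ m) := by rw [hzz, one_mul]
  obtain ⟨c, hc⟩ := exists_scalar_of_commute X S hScomm
  have hAmc : A ^ m = c • X z := by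
    calc A ^ m = (X z * X z⁻¹) * A ^ m := by rw [hzz', one_mul]
      _ = X z * S := by rw [hS, mul_assoc]
      _ = c • X z := by
        rw [hc]
        ext v
        simp
  have hV : Nontrivial (Fin d → ℂ) := nontrivial_of_isIrreducible X
  have hc0 : c ≠ 0 := by
    intro h0
    rw [h0, zero_smul] at hAmc
    have hu : IsUnit (A ^ m) := hAunit.pow m
    rw [hAmc] at hu
    exact not_isUnit_zero hu
  obtain ⟨μ, hμ⟩ := IsAlgClosed.exists_pow_nat_eq c hm
  have hμ0 : μ ≠ 0 := by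
    rintro rfl
    rw [zero_pow hm.ne'] at hμ
    exact hc0 hμ.symm
  set B : Module.End ℂ (Fin d → ℂ) := μ⁻¹ • A with hBdef
  have hB1 : ∀ n : N, B * X n = X ⟨g₀ * n * g₀⁻¹, hN.conj_mem (n : G) n.2 g₀⟩ * B := by
    intro n
    rw [hBdef, smul_mul_assoc, mul_smul_comm, hA n]
  have hBm : B ^ m = X z := by
    rw [hBdef, smul_pow, hAmc, smul_smul, inv_pow, hμ, inv_mul_cancel₀ hc0, one_smul]
  have hB2 : ∀ (k : ℕ) (hk : g₀ ^ k ∈ N), X ⟨g₀ ^ k, hk⟩ = B ^ k := by
    intro k hk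
    have h1 : (QuotientGroup.mk g₀ : G ⧸ N) ^ k = 1 := by
      rw [← QuotientGroup.mk_pow, QuotientGroup.eq_one_iff]
      exact hk
    obtain ⟨t, rfl⟩ := orderOf_dvd_of_pow_eq_one h1
    have h2 : (⟨g₀ ^ (m * t), hk⟩ : N) = z ^ t := by
      apply Subtype.ext
      rw [hz]
      simp [pow_mul]
    rw [h2, map_pow, ← hBm, ← pow_mul]
  have hgen : ∀ x : G, ∃ i : ℕ, x * (g₀ ^ i)⁻¹ ∈ N := by
    intro x
    have h1 : (QuotientGroup.mk x : G ⧸ N) ∈ Submonoid.powers (QuotientGroup.mk g₀ : G ⧸ N) :=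
      (isOfFinOrder_of_finite _).mem_powers_iff_mem_zpowers.mpr (hq _)
    obtain ⟨i, hi⟩ := h1
    refine ⟨i, ?_⟩
    rw [← QuotientGroup.eq_one_iff, QuotientGroup.mk_mul, QuotientGroup.mk_inv,
      QuotientGroup.mk_pow]
    rw [← hi]
    simp
  obtain ⟨Y, hY⟩ := exists_extension_rep N X g₀ B hB1 hB2 hgen
  have hYirr : Y.IsIrreducible := by
    apply isIrreducible_of_comp N.subtype Y
    have : (MonoidHom.comp Y N.subtype : Representation ℂ N (Fin d → ℂ)) = X := by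
      ext n : 1
      exact hY n
    rw [this]
    exact hirr
  refine ⟨Y.character, Cfsg.Agent.Lib.H24.isIrrCharacter_of_irreducible Y hYirr, ?_⟩
  intro n
  rw [← hX]
  show LinearMap.trace ℂ _ (Y n) = LinearMap.trace ℂ _ (X n)
  rw [hY]

end Main

end Cfsg.Agent.Lib.H23
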