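import Cfsg.Agent.Lib.H23.Isaacs1129

/-!
# Degrees of constituents of restrictions to normal subgroups (helper23)

For `H ⊴ G`, `χ ∈ Irr(G)` over `ϑ ∈ Irr(H)`, `T` the inertia group of `ϑ`:
`χ(1) = |G : T| · f · ϑ(1)` with `f ∣ |T : H|`.  Hence `ϑ(1) ∣ χ(1)` and `|G : T| ∣ χ(1)`.
-/

set_option autoImplicit false

namespace Cfsg.Agent.Lib.H23

open Cfsg.Agent.Lib.L0

variable {G : Type*} [Group G] [Fintype G]

theorem exists_degree_eq (H : Subgroup G) [hN : H.Normal] [Fintype H]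
    {χ : G → ℂ} (hχ : Cfsg.IsIrrCharacter G χ) {ϑ : H → ℂ} (hϑ : Cfsg.IsIrrCharacter H ϑ)
    (hcon : Cfsg.classInner (fun n : H => χ n) ϑ ≠ 0) :
    ∃ fn : ℕ, fn ∣ H.relIndex (inertia H ϑ) ∧
      Cfsg.charDegree χ = (inertia H ϑ).index * (fn * Cfsg.charDegree ϑ) := by
  classical
  set T : Subgroup G := inertia H ϑ with hTdef
  have : Fintype T := Fintype.ofFinite _
  have hHT : H ≤ T := le_inertia H (isClassFunction_of_isCharacter (isCharacter_of_irr hϑ))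
  obtain ⟨ψ, hψ, hind, hmult⟩ :=
    clifford_correspondence H T hHT ϑ hϑ (fun g => Iff.rfl) χ hχ hcon
  have hcon' : Cfsg.classInner (resTo H T hHT ψ) ϑ ≠ 0 := by rw [hmult]; exact hcon
  have hres := restrict_inertia_eq_smul H T hHT ϑ hϑ (fun g hg => hg) ψ hψ hcon'
  obtain ⟨fn, hfn⟩ := classInner_char_irr_nat
    (isCharacter_resTo H T hHT (isCharacter_of_irr hψ)) hϑ
  have hfn0 : fn ≠ 0 := by
    intro h0
    apply hcon'
    rw [hfn, h0]; simp
  have hdvd : fn ∣ H.relIndex T :=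
    Cfsg.Agent.Lib.H24.ramification_dvd_relIndex H T hHT ϑ hϑ (fun g hg => hg) ψ hψ fn hfn hfn0
  have h1 : χ 1 = (T.index : ℂ) * ψ 1 := by rw [← hind, indFun_one']
  have h2 : ψ 1 = (fn : ℂ) * ϑ 1 := by
    have := congrFun hres 1
    rw [hfn] at this
    simp only [resTo, Pi.smul_apply, smul_eq_mul] at this
    exact this
  have h3 : ϑ 1 = (Cfsg.charDegree ϑ : ℂ) := apply_one_eq_charDegree ϑ hϑ
  refine ⟨fn, hdvd, ?_⟩
  apply charDegree_eq_of_apply_one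
  rw [h1, h2, h3]
  push_cast
  ring

/-- Constituents of the restriction to a normal subgroup have degree dividing `χ(1)`. -/
theorem charDegree_dvd_of_constituent (H : Subgroup G) [hN : H.Normal] [Fintype H]
    {χ : G → ℂ} (hχ : Cfsg.IsIrrCharacter G χ) {ϑ : H → ℂ} (hϑ : Cfsg.IsIrrCharacter H ϑ)
    (hcon : Cfsg.classInner (fun n : H => χ n) ϑ ≠ 0) :
    Cfsg.charDegree ϑ ∣ Cfsg.charDegree χ := by
  obtain ⟨fn, -, h⟩ := exists_degree_eq H hχ hϑ hcon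
  rw [h]
  exact ⟨(inertia H ϑ).index * fn, by ring⟩

/-- The index of the inertia group divides `χ(1)`. -/
theorem inertia_index_dvd_charDegree (H : Subgroup G) [hN : H.Normal] [Fintype H]
    {χ : G → ℂ} (hχ : Cfsg.IsIrrCharacter G χ) {ϑ : H → ℂ} (hϑ : Cfsg.IsIrrCharacter H ϑ)
    (hcon : Cfsg.classInner (fun n : H => χ n) ϑ ≠ 0) :
    (inertia H ϑ).index ∣ Cfsg.charDegree χ := by
  obtain ⟨fn, -, h⟩ := exists_degree_eq H hχ hϑ hcon
  rw [h]
  exact ⟨fn * Cfsg.charDegree ϑ, rfl⟩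

end Cfsg.Agent.Lib.H23
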