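import Mathlib
import Cfsg.Prelude.Def_Characters
import Cfsg.Prelude.Def_Blocks
import Cfsg.Agent.Lib.H24.CharSchur
import Cfsg.Agent.Lib.H24.CharOrth
import Cfsg.Agent.Lib.H24.CharBasic
import Cfsg.Agent.Lib.H23.DegreeDvd
import Cfsg.Agent.Lib.H23.DefectZero
import Cfsg.Agent.Lib.L0.CharOps
import Cfsg.Agent.Lib.L0.CharBasic

/-!
# Class products and character degrees divisible by large powers of `p`

`sum_sum_ite_conj_mul_eq`: the number of pairs `(s, t)` with `x^s y^t = u` in terms of characters.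
`exists_degree_dvd_of_class_product`: if no product of a conjugate of `x` with a conjugate of `x⁻¹`
is a non-identity element of the `p`-subgroup `P` of order `p^c`, and `p^a` is the `p`-part of
`|C_G(x)|`, then some irreducible character has degree divisible by `p^(c-a)`.
-/

set_option autoImplicit false

namespace Cfsg.Agent.Lib.H23

open Cfsg Cfsg.Agent.Lib.L0 Cfsg.Agent.Lib.H24
open scoped ComplexConjugate

section count

variable {G : Type*} [Group G] [Fintype G]

/-- The class multiplication formula. -/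
theorem sum_sum_ite_conj_mul_eq [Fintype (IrrCharacter G)] [DecidableEq G] (x y u : G) :
    (∑ s : G, ∑ t : G, if (s * x * s⁻¹) * (t * y * t⁻¹) = u then (1 : ℂ) else 0) =
      (Nat.card G : ℂ) * ∑ χ : IrrCharacter G,
        (χ : G → ℂ) x * (χ : G → ℂ) y * (χ : G → ℂ) u⁻¹ / (χ : G → ℂ) 1 := by
  have hG : (Nat.card G : ℂ) ≠ 0 := by exact_mod_cast (Nat.card_pos (α := G)).ne'
  have hind : ∀ h : G, (if h = u then (1 : ℂ) else 0) =
      (Nat.card G : ℂ)⁻¹ * ∑ χ : IrrCharacter G, (χ : G → ℂ) 1 * (χ : G → ℂ) (h * u⁻¹) := by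
    intro h
    rw [sum_irr_one_mul]
    by_cases hh : h = u
    · rw [if_pos hh, if_pos (by rw [hh, mul_inv_cancel]), inv_mul_cancel₀ hG]
    · rw [if_neg hh, if_neg (by
        intro h1
        apply hh
        rw [mul_inv_eq_one] at h1
        exact h1), mul_zero]
  simp only [hind]
  simp only [← Finset.mul_sum]
  rw [Finset.sum_comm]
  have h1 : ∀ t : G, ∑ s : G, ∑ χ : IrrCharacter G,
      (χ : G → ℂ) 1 * (χ : G → ℂ) (s * x * s⁻¹ * (t * y * t⁻¹) * u⁻¹) =
      ∑ χ : IrrCharacter G, (Nat.card G : ℂ) * (χ : G → ℂ) x *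
        (χ : G → ℂ) (t * y * t⁻¹ * u⁻¹) := by
    intro t
    rw [Finset.sum_comm]
    refine Finset.sum_congr rfl fun χ _ => ?_
    rw [← Finset.mul_sum]
    have h2 : ∀ s : G, (χ : G → ℂ) (s * x * s⁻¹ * (t * y * t⁻¹) * u⁻¹) =
        (χ : G → ℂ) (s * x * s⁻¹ * (t * y * t⁻¹ * u⁻¹)) := by
      intro s
      rw [mul_assoc (s * x * s⁻¹)]
    simp only [h2]
    rw [irr_sum_conj_mul]
    have h0 := irr_one_ne_zero χ
    field_simp
  simp only [h1]
  rw [Finset.sum_comm]
  have h3 : ∀ χ : IrrCharacter G, ∑ t : G, (Nat.card G : ℂ) * (χ : G → ℂ) x *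
      (χ : G → ℂ) (t * y * t⁻¹ * u⁻¹) =
      (Nat.card G : ℂ) * (χ : G → ℂ) x *
        ((Nat.card G : ℂ) * (χ : G → ℂ) y * (χ : G → ℂ) u⁻¹ / (χ : G → ℂ) 1) := by
    intro χ
    rw [← Finset.mul_sum, irr_sum_conj_mul]
  simp only [h3]
  rw [Finset.mul_sum, Finset.mul_sum]
  refine Finset.sum_congr rfl fun χ _ => ?_
  field_simp

end count

section main

variable {G : Type*} [Group G] [Finite G]

/-- If `d ∣ n` and `p^(e+1) ∤ d` then `d ∣ p^e * ordCompl[p] n`. -/
theorem dvd_pow_mul_ordCompl {p : ℕ} (hp : p.Prime) {d n e : ℕ} (hn : n ≠ 0) (hd : d ∣ n)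
    (he : ¬ p ^ (e + 1) ∣ d) : d ∣ p ^ e * (n / p ^ n.factorization p) := by
  have hd0 : d ≠ 0 := fun h => hn (by rw [h] at hd; exact zero_dvd_iff.mp hd)
  have hv : d.factorization p ≤ e := by
    by_contra hlt
    push Not at hlt
    exact he ((hp.pow_dvd_iff_le_factorization hd0).mpr hlt)
  have h1 : d = p ^ d.factorization p * (d / p ^ d.factorization p) :=
    (Nat.ordProj_mul_ordCompl_eq_self d p).symm
  rw [h1]
  exact mul_dvd_mul (pow_dvd_pow p hv) (Nat.ordCompl_dvd_ordCompl_of_dvd hd p)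

/-- **Class product criterion** for a character degree divisible by a large power of `p`. -/
theorem exists_degree_dvd_of_class_product (p : ℕ) [Fact p.Prime] (P : Subgroup G) (c : ℕ)
    (hP : Nat.card P = p ^ c) (x : G)
    (hH : ∀ s t : G, (s * x * s⁻¹) * (t * x⁻¹ * t⁻¹) ∈ P →
      (s * x * s⁻¹) * (t * x⁻¹ * t⁻¹) = 1)
    (a : ℕ) (ha : (Nat.card (Subgroup.centralizer ({x} : Set G))).factorization p = a) :
    ∃ χ : IrrCharacter G, p ^ (c - a) ∣ charDegree (χ : G → ℂ) := by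
  classical
  have hp : p.Prime := Fact.out
  have := Fintype.ofFinite G
  have := Fintype.ofFinite (IrrCharacter G)
  have := Fintype.ofFinite P
  by_contra hno
  push Not at hno
  -- c > a
  have hca : a < c := by
    by_contra hle
    push Not at hle
    obtain ⟨χ⟩ : Nonempty (IrrCharacter G) := ⟨⟨1, L0.isIrrCharacter_one⟩⟩
    apply hno χ
    rw [Nat.sub_eq_zero_of_le hle, pow_zero]
    exact one_dvd _
  obtain ⟨e, he⟩ : ∃ e, c = a + 1 + e := ⟨c - a - 1, by omega⟩
  have hce : c - a = e + 1 := by omega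
  -- multiplicities of the trivial character of `P`
  choose n hn using fun χ : IrrCharacter G => classInner_char_irr_nat
    (isCharacter_restrict P (isCharacter_of_irr χ.2)) (L0.isIrrCharacter_one (G := P))
  have hG : (Nat.card G : ℂ) ≠ 0 := by exact_mod_cast (Nat.card_pos (α := G)).ne'
  have hP0 : (Nat.card P : ℂ) ≠ 0 := by exact_mod_cast (Nat.card_pos (α := P)).ne'
  have hsumP : ∀ χ : IrrCharacter G, ∑ u : P, (χ : G → ℂ) ((u : G))⁻¹ =
      (Nat.card P : ℂ) * n χ := by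
    intro χ
    have h1 := hn χ
    unfold classInner at h1
    have h2 : ∑ u : P, (χ : G → ℂ) ((u : G))⁻¹ = ∑ u : P, (χ : G → ℂ) (u : G) := by
      refine Fintype.sum_equiv (Equiv.inv P) _ _ (fun u => ?_)
      rfl
    rw [h2, ← h1, ← mul_assoc, mul_inv_cancel₀ hP0, one_mul]
    refine Finset.sum_congr rfl fun u _ => ?_
    simp
  -- the key identity
  have hkey : (Nat.card (Subgroup.centralizer ({x} : Set G)) : ℂ) =
      (Nat.card P : ℂ) * ∑ χ : IrrCharacter G,
        (χ : G → ℂ) x * (χ : G → ℂ) x⁻¹ * n χ / (χ : G → ℂ) 1 := by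
    have htot : ∑ u : P, ∑ s : G, ∑ t : G,
        (if (s * x * s⁻¹) * (t * x⁻¹ * t⁻¹) = (u : G) then (1 : ℂ) else 0) =
        ∑ s : G, ∑ t : G, if (s * x * s⁻¹) * (t * x⁻¹ * t⁻¹) = 1 then (1 : ℂ) else 0 := by
      rw [Finset.sum_comm]
      refine Finset.sum_congr rfl fun s _ => ?_
      rw [Finset.sum_comm]
      refine Finset.sum_congr rfl fun t _ => ?_
      by_cases hmem : (s * x * s⁻¹) * (t * x⁻¹ * t⁻¹) ∈ P
      · have h1 := hH s t hmem
        rw [if_pos h1, h1]
        rw [Finset.sum_eq_single (1 : P)]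
        · simp
        · intro b _ hb
          rw [if_neg]
          intro h
          apply hb
          exact Subtype.ext h.symm
        · intro h
          exact absurd (Finset.mem_univ _) h
      · rw [if_neg (fun h => hmem (by rw [h]; exact P.one_mem))]
        apply Finset.sum_eq_zero
        intro u _
        rw [if_neg]
        intro h
        apply hmem
        rw [h]
        exact u.2
    simp only [sum_sum_ite_conj_mul_eq] at htot
    rw [← Finset.mul_sum] at htot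
    have htot' := mul_left_cancel₀ hG htot
    rw [Finset.sum_comm] at htot'
    have h3 : ∀ χ : IrrCharacter G, ∑ u : P, (χ : G → ℂ) x * (χ : G → ℂ) x⁻¹ *
        (χ : G → ℂ) ((u : G))⁻¹ / (χ : G → ℂ) 1 =
        (Nat.card P : ℂ) * ((χ : G → ℂ) x * (χ : G → ℂ) x⁻¹ * n χ / (χ : G → ℂ) 1) := by
      intro χ
      have : ∀ u : P, (χ : G → ℂ) x * (χ : G → ℂ) x⁻¹ *
        (χ : G → ℂ) ((u : G))⁻¹ / (χ : G → ℂ) 1 =
          ((χ : G → ℂ) x * (χ : G → ℂ) x⁻¹ / (χ : G → ℂ) 1) * (χ : G → ℂ) ((u : G))⁻¹ := by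
        intro u
        ring
      simp only [this]
      rw [← Finset.mul_sum, hsumP]
      ring
    simp only [h3] at htot'
    rw [← Finset.mul_sum] at htot'
    rw [htot']
    have h4 : ∀ χ : IrrCharacter G, (χ : G → ℂ) x * (χ : G → ℂ) x⁻¹ *
        (χ : G → ℂ) (1 : G)⁻¹ / (χ : G → ℂ) 1 =
        (χ : G → ℂ) x * conj ((χ : G → ℂ) x) := by
      intro χ
      rw [inv_one, irr_inv]
      have h0 := irr_one_ne_zero χ
      field_simp
    simp only [h4]
    rw [second_orthogonality, if_pos (IsConj.refl x)]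
  -- integrality
  set g' := Nat.card G / p ^ (Nat.card G).factorization p with hg'
  have hGne : Nat.card G ≠ 0 := (Nat.card_pos (α := G)).ne'
  have hcop : p.Coprime g' := Nat.coprime_ordCompl hp hGne
  have hdvd : ∀ χ : IrrCharacter G, charDegree (χ : G → ℂ) ∣ p ^ e * g' := by
    intro χ
    apply dvd_pow_mul_ordCompl hp hGne (charDegree_dvd_card (χ : G → ℂ) χ.2)
    rw [← hce]
    exact hno χ
  choose k hk using hdvd
  set 𝒜 : ℂ := ∑ χ : IrrCharacter G, (χ : G → ℂ) x * (χ : G → ℂ) x⁻¹ * ((n χ * k χ : ℕ) : ℂ)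
    with h𝒜
  have hint : IsIntegral ℤ 𝒜 := by
    apply IsIntegral.sum
    intro χ _
    apply IsIntegral.mul
    · exact IsIntegral.mul (isCharacter_isIntegral (isCharacter_of_irr χ.2) x)
        (isCharacter_isIntegral (isCharacter_of_irr χ.2) x⁻¹)
    · have h := isIntegral_algebraMap (R := ℤ) (A := ℂ) (x := ((n χ * k χ : ℕ) : ℤ))
      simpa using h
  have heq : ((p ^ e * g' : ℕ) : ℂ) * (Nat.card (Subgroup.centralizer ({x} : Set G)) : ℂ) =
      ((p ^ c : ℕ) : ℂ) * 𝒜 := by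
    rw [hkey, hP, h𝒜, Finset.mul_sum, Finset.mul_sum, Finset.mul_sum]
    refine Finset.sum_congr rfl fun χ _ => ?_
    have h0 := irr_one_ne_zero χ
    have hd : ((charDegree (χ : G → ℂ) : ℕ) : ℂ) = (χ : G → ℂ) 1 := charDegree_irr χ
    have hk' : ((p ^ e * g' : ℕ) : ℂ) = (χ : G → ℂ) 1 * (k χ : ℂ) := by
      rw [hk χ, Nat.cast_mul, hd]
    rw [hk']
    push_cast
    field_simp
  -- cancel `p^e`
  have heq2 : ((g' * Nat.card (Subgroup.centralizer ({x} : Set G)) : ℕ) : ℂ) =
      ((p ^ (a + 1) : ℕ) : ℂ) * 𝒜 := by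
    have hpe : ((p ^ e : ℕ) : ℂ) ≠ 0 := by exact_mod_cast (pow_pos hp.pos e).ne'
    apply mul_left_cancel₀ hpe
    rw [he] at heq
    push_cast at heq ⊢
    rw [pow_add, pow_add] at heq
    linear_combination heq
  obtain ⟨z, hz⟩ := exists_int_of_mul_of_isIntegral (r := 𝒜) (a := p ^ (a + 1)) (b := 1)
    (Nat.coprime_one_right _) (pow_pos hp.pos _).ne'
    ((g' * Nat.card (Subgroup.centralizer ({x} : Set G)) : ℕ) : ℤ)
    (by rw [← heq2]; simp) (by simpa using hint)
  rw [hz] at heq2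
  have heq3 : ((g' * Nat.card (Subgroup.centralizer ({x} : Set G)) : ℕ) : ℤ) =
      ((p ^ (a + 1) : ℕ) : ℤ) * z := by exact_mod_cast heq2
  have hdvd2 : p ^ (a + 1) ∣ g' * Nat.card (Subgroup.centralizer ({x} : Set G)) := by
    have : ((p ^ (a + 1) : ℕ) : ℤ) ∣ ((g' * Nat.card (Subgroup.centralizer ({x} : Set G)) : ℕ) : ℤ) :=
      ⟨z, heq3⟩
    exact Int.natCast_dvd_natCast.mp this
  have hdvd3 : p ^ (a + 1) ∣ Nat.card (Subgroup.centralizer ({x} : Set G)) :=
    (Nat.Coprime.pow_left (a + 1) hcop).dvd_of_dvd_mul_left hdvd2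
  have hC0 : Nat.card (Subgroup.centralizer ({x} : Set G)) ≠ 0 := (Nat.card_pos).ne'
  have := (hp.pow_dvd_iff_le_factorization hC0).mp hdvd3
  omega

end main

end Cfsg.Agent.Lib.H23
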