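import Cfsg.Agent.Lib.H23.FrobKernel

/-!
# Frobenius groups given by kernel and complement (helper23)

Setting: `K` normal in `G`, `K ⊓ H = ⊥`, `K ⊔ H = ⊤`, and no non-identity element of `H` commutes
with a non-identity element of `K`.
* `exists_conj_eq_mul`: for `1 ≠ h ∈ H` and `k' ∈ K` there is `u ∈ K` with `u⁻¹ h u = k' h`;
* `centralizer_le_of_frobenius`: `C_G(k) ≤ K` for `1 ≠ k ∈ K`.
-/

set_option autoImplicit false

namespace Cfsg.Agent.Lib.H23

open scoped Pointwise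

section

variable {G : Type*} [Group G] [Finite G] (K H : Subgroup G) [hK : K.Normal]

/-- For `1 ≠ h ∈ H` every element `k' h` of the coset `K h` is `K`-conjugate to `h`. -/
theorem exists_conj_eq_mul
    (hfpf : ∀ h ∈ H, h ≠ 1 → ∀ k ∈ K, h * k = k * h → k = 1) {h : G} (hh : h ∈ H) (h1 : h ≠ 1)
    {k' : G} (hk' : k' ∈ K) : ∃ u ∈ K, u⁻¹ * h * u = k' * h := by
  let f : K → K := fun u =>
    ⟨(u : G)⁻¹ * (h * (u : G) * h⁻¹), K.mul_mem (K.inv_mem u.2) (hK.conj_mem u u.2 h)⟩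
  have hinj : Function.Injective f := by
    intro u v huv
    have h2 : (u : G)⁻¹ * (h * (u : G) * h⁻¹) = (v : G)⁻¹ * (h * (v : G) * h⁻¹) :=
      congrArg Subtype.val huv
    have h3 : h * ((v : G) * (u : G)⁻¹) = ((v : G) * (u : G)⁻¹) * h := by
      have h4 : (u : G)⁻¹ * h * (u : G) = (v : G)⁻¹ * h * (v : G) := by
        have := congrArg (fun t => t * h) h2
        calc (u : G)⁻¹ * h * (u : G) = (u : G)⁻¹ * (h * (u : G) * h⁻¹) * h := by group
          _ = (v : G)⁻¹ * (h * (v : G) * h⁻¹) * h := this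
          _ = (v : G)⁻¹ * h * (v : G) := by group
      calc h * ((v : G) * (u : G)⁻¹) = (v : G) * ((v : G)⁻¹ * h * (v : G)) * (u : G)⁻¹ := by group
        _ = (v : G) * ((u : G)⁻¹ * h * (u : G)) * (u : G)⁻¹ := by rw [h4]
        _ = ((v : G) * (u : G)⁻¹) * h := by group
    have h5 := hfpf h hh h1 ((v : G) * (u : G)⁻¹) (K.mul_mem v.2 (K.inv_mem u.2)) h3
    apply Subtype.ext
    have : (v : G) = (u : G) := by
      have := mul_inv_eq_one.mp h5
      exact this
    exact this.symm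
  have hsurj : Function.Surjective f := Finite.injective_iff_surjective.mp hinj
  obtain ⟨u, hu⟩ := hsurj ⟨k', hk'⟩
  refine ⟨u, u.2, ?_⟩
  have h2 : (u : G)⁻¹ * (h * (u : G) * h⁻¹) = k' := congrArg Subtype.val hu
  rw [← h2]
  group

/-- In a Frobenius group the centralizer of a non-identity element of the kernel lies in the
kernel. -/
theorem centralizer_le_of_frobenius (hKH' : K ⊔ H = ⊤)
    (hfpf : ∀ h ∈ H, h ≠ 1 → ∀ k ∈ K, h * k = k * h → k = 1) :
    ∀ k ∈ K, k ≠ 1 → Subgroup.centralizer ({k} : Set G) ≤ K := by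
  intro k hk hk1 g hg
  have hgtop : g ∈ K ⊔ H := by rw [hKH']; trivial
  have hgmul : g ∈ (K : Set G) * (H : Set G) := by
    rw [← Subgroup.normal_mul]; exact hgtop
  obtain ⟨k', hk', h, hh, rfl⟩ := Set.mem_mul.mp hgmul
  by_cases h1 : h = 1
  · rw [h1, mul_one]; exact hk'
  exfalso
  obtain ⟨u, hu, hconj⟩ := exists_conj_eq_mul K H hfpf hh h1 hk'
  rw [Subgroup.mem_centralizer_iff] at hg
  have hcomm : k * (k' * h) = k' * h * k := hg k (Set.mem_singleton k)
  rw [← hconj] at hcomm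
  -- `h` commutes with `u k u⁻¹`
  have h3 : h * (u * k * u⁻¹) = (u * k * u⁻¹) * h := by
    calc h * (u * k * u⁻¹) = u * ((u⁻¹ * h * u) * k) * u⁻¹ := by group
      _ = u * (k * (u⁻¹ * h * u)) * u⁻¹ := by rw [hcomm]
      _ = (u * k * u⁻¹) * h := by group
  have h4 := hfpf h hh h1 (u * k * u⁻¹) (hK.conj_mem k hk u) h3
  apply hk1
  have : k = u⁻¹ * (u * k * u⁻¹) * u := by group
  rw [this, h4]
  group

end

end Cfsg.Agent.Lib.H23
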