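import Cfsg.Agent.Lib.H23.BrauerInd
import Cfsg.Agent.Lib.H8.GenChar
import Mathlib.GroupTheory.Archimedean

/-!
# Brauer's induction theorem and characterization of characters (helper23)

* `isNilpotent_of_isElementary`, `IsElementary.subgroup`;
* `linSpan G`: the additive group generated by the functions induced from linear characters of
  elementary subgroups; `elemSpan_le_linSpan`, `one_mem_linSpan`, `linSpan_mul_char`,
  `isCharacter_mem_linSpan` (Brauer's induction theorem), `exists_list_of_mem_linSpan`;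
* `isGeneralizedCharacter_mul_of_mem_linSpan`, `brauer_characterization`.
-/

set_option autoImplicit false

universe u

namespace Cfsg.Agent.Lib.H23

open Cfsg.Agent.Lib.L0 Cfsg.Agent.Lib.H8

section Elementary

theorem isNilpotent_of_isElementary {p : ℕ} (hp : p.Prime) {E : Type*} [Group E] [Finite E]
    (h : Cfsg.IsElementary p E) : Group.IsNilpotent E := by
  obtain ⟨x, hx, _, k, hk⟩ := h
  have hle : Subgroup.zpowers x ≤ Subgroup.center E := by
    rw [Subgroup.zpowers_le]
    exact hx
  have hnorm : (Subgroup.zpowers x).Normal := by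
    constructor
    intro n hn g
    have h1 := Subgroup.mem_center_iff.mp (hle hn) g
    have h2 : g * n * g⁻¹ = n := by rw [h1, mul_inv_cancel_right]
    rw [h2]
    exact hn
  have : Fact p.Prime := ⟨hp⟩
  have hpg : IsPGroup p (E ⧸ Subgroup.zpowers x) := by
    apply IsPGroup.of_card (n := k)
    rw [← hk]
    rfl
  have hnil : Group.IsNilpotent (E ⧸ Subgroup.zpowers x) := hpg.isNilpotent
  apply Subgroup.isNilpotent_of_ker_le_center (QuotientGroup.mk' (Subgroup.zpowers x))
  rw [QuotientGroup.ker_mk']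
  exact hle

theorem IsElementary.subgroup {p : ℕ} (hp : p.Prime) {E : Type*} [Group E]
    (h : Cfsg.IsElementary p E) (F : Subgroup E) : Cfsg.IsElementary p F := by
  obtain ⟨x, hx, hord, k, hk⟩ := h
  set Z := Subgroup.zpowers x with hZ
  have hle : Z ≤ Subgroup.center E := by
    rw [hZ, Subgroup.zpowers_le]
    exact hx
  have hnorm : Z.Normal := by
    constructor
    intro n hn g
    have h1 := Subgroup.mem_center_iff.mp (hle hn) g
    have h2 : g * n * g⁻¹ = n := by rw [h1, mul_inv_cancel_right]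
    rw [h2]
    exact hn
  -- the cyclic group `⟨x⟩ ⊓ F`
  have hcyc1 : IsCyclic (Z ⊓ F : Subgroup E) := by
    have hle' : Z ⊓ F ≤ Z := inf_le_left
    have : IsCyclic ((Z ⊓ F).subgroupOf Z) := inferInstance
    exact isCyclic_of_surjective _ (Subgroup.subgroupOfEquivOfLe hle').surjective
  have hcyc : IsCyclic (Z.subgroupOf F) := by
    rw [← Subgroup.inf_subgroupOf_right]
    exact isCyclic_of_surjective _
      (Subgroup.subgroupOfEquivOfLe (inf_le_right : Z ⊓ F ≤ F)).symm.surjective
  obtain ⟨g, hg⟩ := hcyc.exists_generator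
  have hgZ : ((g : F) : E) ∈ Z := g.2
  have hzp : Subgroup.zpowers (g : F) = Z.subgroupOf F := by
    ext w
    constructor
    · intro hw
      obtain ⟨i, rfl⟩ := Subgroup.mem_zpowers_iff.mp hw
      exact Subgroup.zpow_mem _ g.2 i
    · intro hw
      obtain ⟨i, hi⟩ := Subgroup.mem_zpowers_iff.mp (hg ⟨w, hw⟩)
      refine Subgroup.mem_zpowers_iff.mpr ⟨i, ?_⟩
      have := congrArg Subtype.val hi
      simpa using this
  refine ⟨(g : F), ?_, ?_, ?_⟩
  · rw [Subgroup.mem_center_iff]
    intro w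
    apply Subtype.ext
    exact Subgroup.mem_center_iff.mp (hle hgZ) w
  · have h1 : orderOf (g : F) = orderOf ((g : F) : E) := (Subgroup.orderOf_coe (g : F)).symm
    rw [h1]
    exact Nat.Coprime.coprime_dvd_left (orderOf_dvd_of_mem_zpowers hgZ) hord
  · rw [hzp]
    have h1 : Z.relIndex F ∣ Z.index := Subgroup.relIndex_dvd_index_of_normal _ _
    rw [hk] at h1
    obtain ⟨j, _, hj⟩ := (Nat.dvd_prime_pow hp).mp h1
    exact ⟨j, hj⟩

end Elementary

section LinSpan

variable {G : Type u} [Group G] [Fintype G]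

/-- The additive group generated by the functions induced from linear characters of elementary
subgroups. -/
def linSpan (G : Type u) [Group G] [Fintype G] : AddSubgroup (G → ℂ) :=
  AddSubgroup.closure {f | ∃ (E : Subgroup G) (lam : E →* ℂˣ),
    (∃ p : ℕ, p.Prime ∧ Cfsg.IsElementary p E) ∧ f = Cfsg.indFun E (fun e => (lam e : ℂ))}

theorem indFun_list_sum (H : Subgroup G) (l : List (H → ℂ)) :
    Cfsg.indFun H l.sum = (l.map (Cfsg.indFun H)).sum := by
  induction l with
  | nil => simp [indFun_zero]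
  | cons a l ih => rw [List.sum_cons, indFun_add, ih, List.map_cons, List.sum_cons]

theorem elemSpan_le_linSpan {p : ℕ} (hp : p.Prime) : elemSpan p G ≤ linSpan G := by
  unfold elemSpan
  rw [AddSubgroup.closure_le]
  rintro f ⟨E, ψ, hE, hψ, rfl⟩
  have : Fintype E := Fintype.ofFinite E
  have hnil : Group.IsNilpotent E := isNilpotent_of_isElementary hp hE
  obtain ⟨l, hl, rfl⟩ := isCharacter_exists_irr_decomp hψ
  rw [indFun_list_sum]
  apply AddSubgroup.list_sum_mem
  intro f hf
  obtain ⟨χ, hχ, rfl⟩ := List.mem_map.mp hf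
  obtain ⟨F, μ, rfl⟩ := monomial_of_nilpotent χ (hl χ hχ)
  rw [indFun_trans_map]
  apply AddSubgroup.subset_closure
  refine ⟨F.map E.subtype,
    μ.comp (F.equivMapOfInjective E.subtype E.subtype_injective).symm.toMonoidHom,
    ⟨p, hp, ?_⟩, rfl⟩
  exact isElementary_of_mulEquiv (F.equivMapOfInjective E.subtype E.subtype_injective)
    (IsElementary.subgroup hp hE F)

theorem one_mem_linSpan : (fun _ : G => (1 : ℂ)) ∈ linSpan G := by
  classical
  set one : G → ℂ := fun _ => 1 with hone
  have hsmul : ∀ m : ℤ, m • one = fun _ : G => (m : ℂ) := by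
    intro m
    funext g
    simp [hone]
  set I : AddSubgroup ℤ := (linSpan G).comap (zmultiplesHom (G → ℂ) one) with hI
  have hmem : ∀ m : ℤ, m ∈ I ↔ (fun _ : G => (m : ℂ)) ∈ linSpan G := by
    intro m
    rw [hI, AddSubgroup.mem_comap, zmultiplesHom_apply, hsmul]
  obtain ⟨d, hd⟩ := Int.subgroup_cyclic I
  have hdvd : ∀ m ∈ I, d ∣ m := by
    intro m hm
    rw [hd, AddSubgroup.mem_closure_singleton] at hm
    obtain ⟨n, rfl⟩ := hm
    exact ⟨n, by rw [smul_eq_mul, mul_comm]⟩
  have hd1 : d.natAbs = 1 := by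
    by_contra hne
    obtain ⟨q, hq, hqd⟩ := Nat.exists_prime_and_dvd hne
    obtain ⟨m, hm, hmem'⟩ := exists_const_mem_elemSpan (G := G) q hq
    have h1 : m ∈ I := (hmem m).mpr (elemSpan_le_linSpan hq hmem')
    have h2 : d ∣ m := hdvd m h1
    apply hm
    have h3 : (q : ℤ) ∣ d := Int.natCast_dvd.mpr hqd
    exact dvd_trans h3 h2
  have h1I : (1 : ℤ) ∈ I := by
    rw [hd, AddSubgroup.mem_closure_singleton]
    rcases Int.natAbs_eq d with h | h
    · exact ⟨1, by rw [h, hd1]; simp⟩
    · exact ⟨-1, by rw [h, hd1]; simp⟩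
  have := (hmem 1).mp h1I
  simpa using this

/-- `linSpan` is an ideal of the character ring. -/
theorem linSpan_mul_char {f χ : G → ℂ} (hf : f ∈ linSpan G) (hχ : Cfsg.IsCharacter G χ) :
    f * χ ∈ linSpan G := by
  induction hf using AddSubgroup.closure_induction with
  | mem f hf =>
    obtain ⟨E, lam, ⟨p, hp, hE⟩, rfl⟩ := hf
    rw [← indFun_mul_restrict' E _ χ (isClassFunction_of_isCharacter hχ)]
    apply elemSpan_le_linSpan hp
    exact indFun_mem_elemSpan_of_isElementary E _ hE
      (isCharacter_mul (isCharacter_of_irr (isIrrCharacter_of_hom lam))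
        (isCharacter_restrict E hχ))
  | zero => rw [zero_mul]; exact AddSubgroup.zero_mem _
  | add f₁ f₂ _ _ h₁ h₂ => rw [add_mul]; exact AddSubgroup.add_mem _ h₁ h₂
  | neg f _ h => rw [neg_mul]; exact AddSubgroup.neg_mem _ h

/-- **Brauer's induction theorem.** -/
theorem isCharacter_mem_linSpan {χ : G → ℂ} (hχ : Cfsg.IsCharacter G χ) : χ ∈ linSpan G := by
  have h := linSpan_mul_char one_mem_linSpan hχ
  have h2 : (fun _ : G => (1 : ℂ)) * χ = χ := by
    funext g
    simp
  rwa [h2] at h

theorem neg_sum_map_smul_indFun_hom (l : List ((E : Subgroup G) × ((E →* ℂˣ) × ℤ))) :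
    -(l.map fun t => (t.2.2 : ℂ) • Cfsg.indFun t.1 (fun e => (t.2.1 e : ℂ))).sum =
      ((l.map (fun t => (⟨t.1, (t.2.1, -t.2.2)⟩ : (E : Subgroup G) × ((E →* ℂˣ) × ℤ)))).map
        fun t => (t.2.2 : ℂ) • Cfsg.indFun t.1 (fun e => (t.2.1 e : ℂ))).sum := by
  induction l with
  | nil => simp
  | cons t l ih =>
    rw [List.map_cons, List.sum_cons, List.map_cons, List.map_cons, List.sum_cons, neg_add, ih]
    congr 1
    simp

theorem exists_list_of_mem_linSpan {f : G → ℂ} (hf : f ∈ linSpan G) :
    ∃ l : List ((E : Subgroup G) × ((E →* ℂˣ) × ℤ)),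
      (∀ t ∈ l, ∃ p : ℕ, p.Prime ∧ Cfsg.IsElementary p t.1) ∧
      f = (l.map fun t => (t.2.2 : ℂ) • Cfsg.indFun t.1 (fun e => (t.2.1 e : ℂ))).sum := by
  induction hf using AddSubgroup.closure_induction with
  | mem f hf =>
    obtain ⟨E, lam, hE, rfl⟩ := hf
    refine ⟨[⟨E, (lam, 1)⟩], ?_, ?_⟩
    · intro t ht
      rw [List.mem_singleton] at ht
      subst ht
      exact hE
    · simp
  | zero => exact ⟨[], by simp, by simp⟩
  | add f₁ f₂ _ _ h₁ h₂ =>
    obtain ⟨l₁, hl₁, rfl⟩ := h₁
    obtain ⟨l₂, hl₂, rfl⟩ := h₂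
    refine ⟨l₁ ++ l₂, ?_, ?_⟩
    · intro t ht
      rcases List.mem_append.mp ht with h | h
      · exact hl₁ t h
      · exact hl₂ t h
    · rw [List.map_append, List.sum_append]
  | neg f _ h =>
    obtain ⟨l, hl, rfl⟩ := h
    refine ⟨l.map (fun t => ⟨t.1, (t.2.1, -t.2.2)⟩), ?_, ?_⟩
    · intro t ht
      obtain ⟨t', ht', rfl⟩ := List.mem_map.mp ht
      exact hl t' ht'
    · exact (neg_sum_map_smul_indFun_hom l).symm ▸ rfl

/-- **Brauer's characterization of characters**, in the form: a class function whose restrictions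
to elementary subgroups are generalized characters times an element of `linSpan` is a generalized
character. -/
theorem isGeneralizedCharacter_mul_of_mem_linSpan {f θ : G → ℂ} (hf : f ∈ linSpan G)
    (hθ : Cfsg.IsClassFunction G θ)
    (hE : ∀ (E : Subgroup G) (p : ℕ), p.Prime → Cfsg.IsElementary p E →
      Cfsg.IsGeneralizedCharacter E (fun e : E => θ e)) :
    Cfsg.IsGeneralizedCharacter G (f * θ) := by
  induction hf using AddSubgroup.closure_induction with
  | mem f hf =>
    obtain ⟨E, lam, ⟨p, hp, hEl⟩, rfl⟩ := hf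
    rw [← indFun_mul_restrict' E _ θ hθ]
    obtain ⟨a, b, ha, hb, hab⟩ := hE E p hp hEl
    have hlam : Cfsg.IsCharacter E (fun e => (lam e : ℂ)) :=
      isCharacter_of_irr (isIrrCharacter_of_hom lam)
    refine ⟨Cfsg.indFun E ((fun e => (lam e : ℂ)) * a), Cfsg.indFun E ((fun e => (lam e : ℂ)) * b),
      isCharacter_indFun E (isCharacter_mul hlam ha), isCharacter_indFun E (isCharacter_mul hlam hb),
      ?_⟩
    rw [hab, mul_sub, sub_eq_add_neg, indFun_add, indFun_neg, ← sub_eq_add_neg]
  | zero => rw [zero_mul]; exact isGeneralizedCharacter_zero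
  | add f₁ f₂ _ _ h₁ h₂ => rw [add_mul]; exact isGeneralizedCharacter_add h₁ h₂
  | neg f _ h => rw [neg_mul]; exact isGeneralizedCharacter_neg h

theorem brauer_characterization {θ : G → ℂ} (hθ : Cfsg.IsClassFunction G θ)
    (hE : ∀ (E : Subgroup G) (p : ℕ), p.Prime → Cfsg.IsElementary p E →
      Cfsg.IsGeneralizedCharacter E (fun e : E => θ e)) :
    Cfsg.IsGeneralizedCharacter G θ := by
  have h := isGeneralizedCharacter_mul_of_mem_linSpan one_mem_linSpan hθ hE
  have h2 : (fun _ : G => (1 : ℂ)) * θ = θ := by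
    funext g
    simp
  rwa [h2] at h

end LinSpan

end Cfsg.Agent.Lib.H23
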