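import Cfsg.Agent.Lib.H23.DegreeDvd

/-!
# Vanishing at a `p`-element forces `p ∣ χ(1)` (helper23)

* `dvd_finrank_of_trace_eq_zero`: if `f ^ (p ^ (j+1)) = 1` and `trace f = 0` then `p ∣ dim V`;
* `prime_dvd_finrank_of_char_eq_zero`: if `g` has `p`-power order and `χ g = 0` then `p ∣ χ 1`.
-/

set_option autoImplicit false

namespace Cfsg.Agent.Lib.H23

open Module Polynomial Cfsg.Agent.Lib.L0

section

variable {V : Type*} [AddCommGroup V] [Module ℂ V] [FiniteDimensional ℂ V]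

/-- If `f` has order dividing `p ^ (j + 1)` and trace zero, then `p` divides the dimension. -/
theorem dvd_finrank_of_trace_eq_zero (p : ℕ) [hp : Fact p.Prime] (j : ℕ) (f : End ℂ V)
    (hf : f ^ (p ^ (j + 1)) = 1) (htr : LinearMap.trace ℂ V f = 0) : p ∣ finrank ℂ V := by
  classical
  set m := p ^ (j + 1) with hm
  have hm0 : m ≠ 0 := pow_ne_zero _ hp.out.ne_zero
  have : NeZero m := ⟨hm0⟩
  have hss := isSemisimple_of_pow_eq_one (Nat.pos_of_ne_zero hm0) hf
  set ζ : ℂ := Complex.exp (2 * Real.pi * Complex.I / m) with hζdef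
  have hζ : IsPrimitiveRoot ζ m := Complex.isPrimitiveRoot_exp m hm0
  -- exponent of each eigenvalue
  have hex : ∀ μ : f.Eigenvalues, ∃ i : ℕ, ζ ^ i = (μ : ℂ) := by
    intro μ
    obtain ⟨i, _, hi⟩ := hζ.eq_pow_of_pow_eq_one (eigenvalue_pow_eq_one hf μ)
    exact ⟨i, hi⟩
  choose e he using hex
  set A : ℤ[X] := ∑ μ : f.Eigenvalues,
    monomial (e μ) (finrank ℂ (f.eigenspace (μ : ℂ)) : ℤ) with hA
  have hA0 : aeval ζ A = 0 := by
    rw [hA, map_sum]
    have h1 := trace_pow_eq_sum hss 1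
    rw [pow_one, htr] at h1
    rw [h1]
    refine Finset.sum_congr rfl (fun μ _ => ?_)
    rw [aeval_monomial, he μ, pow_one]
    simp
  have hA1 : eval 1 A = (finrank ℂ V : ℤ) := by
    rw [hA, eval_finsetSum]
    simp only [eval_monomial, one_pow, mul_one]
    rw [← sum_finrank_eigenspace hss]
    push_cast
    rfl
  have hint : IsIntegral ℤ ζ := hζ.isIntegral (Nat.pos_of_ne_zero hm0)
  have hdvd : cyclotomic m ℤ ∣ A := by
    rw [cyclotomic_eq_minpoly hζ (Nat.pos_of_ne_zero hm0)]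
    exact minpoly.isIntegrallyClosed_dvd hint hA0
  obtain ⟨B, hB⟩ := hdvd
  have h2 : eval 1 A = (p : ℤ) * eval 1 B := by
    rw [hB, eval_mul, hm, eval_one_cyclotomic_prime_pow]
  rw [hA1] at h2
  exact Int.natCast_dvd_natCast.mp ⟨_, h2⟩

end

section

variable {G : Type*} [Group G]

/-- If `g` has `p`-power order and the character of `ρ` vanishes at `g`, then `p ∣ dim ρ`. -/
theorem prime_dvd_finrank_of_char_eq_zero {V : Type*} [AddCommGroup V] [Module ℂ V]
    [FiniteDimensional ℂ V] (p : ℕ) [hp : Fact p.Prime] (ρ : Representation ℂ G V) (g : G)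
    (hg : ∃ j : ℕ, orderOf g = p ^ j) (h0 : ρ.character g = 0) : p ∣ finrank ℂ V := by
  obtain ⟨j, hj⟩ := hg
  apply dvd_finrank_of_trace_eq_zero p j (ρ g) _ h0
  rw [← map_pow, pow_succ, pow_mul, ← hj, pow_orderOf_eq_one, one_pow, map_one]

/-- If `g` has `p`-power order and the character `χ` vanishes at `g`, then `p ∣ χ 1`. -/
theorem prime_dvd_charDegree_of_eq_zero (p : ℕ) [hp : Fact p.Prime] (χ : G → ℂ)
    (hχ : Cfsg.IsCharacter G χ) (g : G) (hg : ∃ j : ℕ, orderOf g = p ^ j) (h0 : χ g = 0) :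
    p ∣ Cfsg.charDegree χ := by
  obtain ⟨n, ρ, rfl⟩ := hχ
  have hd : Cfsg.charDegree ρ.character = finrank ℂ (Fin n → ℂ) := by
    unfold Cfsg.charDegree
    rw [Representation.char_one]
    simp
  rw [hd]
  exact prime_dvd_finrank_of_char_eq_zero p ρ g hg h0

end

end Cfsg.Agent.Lib.H23
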