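import Mathlib
import Cfsg.Agent.Lib.H23.Zeros

/-!
# Counting zeros of an irreducible character (helper23)

For an irreducible representation `ρ` of degree `n` with character `χ`, with
`Z = {g | ‖χ g‖ = n}` and `V₀ = {g | χ g = 0}`: `(n² - 1) |Z| ≤ |V₀|`, with equality when all
`‖χ g‖ ∈ {0, 1, n}`.
-/

set_option autoImplicit false

namespace Cfsg.Agent.Lib.H23

open Module Cfsg.Agent.Lib.L0

section

variable {G : Type*} [Group G] [Fintype G] {V : Type*} [AddCommGroup V] [Module ℂ V]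
  [FiniteDimensional ℂ V]

theorem unit_pow_pow_inv (k : (ZMod (Nat.card G))ˣ) (g : G) :
    (g ^ (k : ZMod (Nat.card G)).val) ^ ((k⁻¹ : (ZMod (Nat.card G))ˣ) : ZMod (Nat.card G)).val =
      g := by
  have hcard : NeZero (Nat.card G) := ⟨Nat.card_pos.ne'⟩
  rw [← pow_mul, ← pow_mod_natCard]
  have h1 : (((k : ZMod (Nat.card G)).val *
      ((k⁻¹ : (ZMod (Nat.card G))ˣ) : ZMod (Nat.card G)).val : ℕ) : ZMod (Nat.card G)) =
      ((1 : ℕ) : ZMod (Nat.card G)) := by
    push_cast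
    rw [ZMod.natCast_val, ZMod.natCast_val, ZMod.cast_id, ZMod.cast_id]
    simp
  rw [ZMod.natCast_eq_natCast_iff'] at h1
  rw [h1, pow_mod_natCard, pow_one]

theorem char_pow_unit_eq_zero_iff (ρ : Representation ℂ G V) (g : G)
    (k : (ZMod (Nat.card G))ˣ) :
    ρ.character (g ^ (k : ZMod (Nat.card G)).val) = 0 ↔ ρ.character g = 0 := by
  have hcard : NeZero (Nat.card G) := ⟨Nat.card_pos.ne'⟩
  have hg : g ^ Nat.card G = 1 := pow_card_eq_one'
  obtain ⟨x, hx⟩ := exists_cyc_char (Nat.card G) ρ g hg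
  have h1 : cycEmb (Nat.card G) x = ρ.character g := by
    have := hx 1
    rw [AlgEquiv.one_apply] at this
    rw [this]
    have hk : (cycPow (Nat.card G) (1 : Gal(CyclotomicField (Nat.card G) ℚ/ℚ))) = 1 := by
      simp [cycPow]
    rw [hk, pow_val_one_eq _ g hg]
  obtain ⟨σ, hσ⟩ := (cycGalEquiv (Nat.card G)).surjective k
  have hk : cycPow (Nat.card G) σ = (k : ZMod (Nat.card G)) := by
    rw [cycPow, hσ]
  have h2 := hx σ
  rw [hk] at h2
  rw [← h2, ← h1]
  constructor
  · intro h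
    have : σ x = 0 := (map_eq_zero_iff _ (cycEmb_injective _)).mp h
    have : x = 0 := (map_eq_zero_iff _ σ.injective).mp this
    rw [this, map_zero]
  · intro h
    have : x = 0 := (map_eq_zero_iff _ (cycEmb_injective _)).mp h
    rw [this, map_zero, map_zero]

theorem norm_char_pow_eq_finrank (ρ : Representation ℂ G V) (g : G) (j : ℕ)
    (h : ‖ρ.character g‖ = (finrank ℂ V : ℝ)) :
    ‖ρ.character (g ^ j)‖ = (finrank ℂ V : ℝ) := by
  rw [norm_char_eq_finrank_iff] at h ⊢
  obtain ⟨c, hc⟩ := h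
  refine ⟨c ^ j, ?_⟩
  rw [map_pow, hc, smul_pow, one_pow]

theorem norm_char_pow_unit_eq_finrank_iff (ρ : Representation ℂ G V) (g : G)
    (k : (ZMod (Nat.card G))ˣ) :
    ‖ρ.character (g ^ (k : ZMod (Nat.card G)).val)‖ = (finrank ℂ V : ℝ) ↔
      ‖ρ.character g‖ = (finrank ℂ V : ℝ) := by
  constructor
  · intro h
    have := norm_char_pow_eq_finrank ρ _
      ((k⁻¹ : (ZMod (Nat.card G))ˣ) : ZMod (Nat.card G)).val h
    rwa [unit_pow_pow_inv] at this
  · exact norm_char_pow_eq_finrank ρ g _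

open Classical in
/-- The set of elements where `χ` is nonzero and not of maximal absolute value. -/
noncomputable def midFinset (ρ : Representation ℂ G V) : Finset G :=
  Finset.univ.filter fun g => ρ.character g ≠ 0 ∧ ‖ρ.character g‖ ≠ (finrank ℂ V : ℝ)

theorem mem_midFinset (ρ : Representation ℂ G V) (g : G) :
    g ∈ midFinset ρ ↔ ρ.character g ≠ 0 ∧ ‖ρ.character g‖ ≠ (finrank ℂ V : ℝ) := by
  classical
  simp [midFinset]

theorem card_midFinset_le (ρ : Representation ℂ G V) :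
    ((midFinset ρ).card : ℝ) ≤ ∑ g ∈ midFinset ρ, ‖ρ.character g‖ ^ 2 := by
  classical
  have hcard : NeZero (Nat.card G) := ⟨Nat.card_pos.ne'⟩
  set U := (ZMod (Nat.card G))ˣ with hU
  have hUpos : (0 : ℝ) < Fintype.card U := by exact_mod_cast Fintype.card_pos
  have hpowone : ∀ g : G, g ^ Nat.card G = 1 := fun g => pow_card_eq_one'
  -- invariance of the set under unit powers
  have hinv : ∀ (k : U) (g : G), g ∈ midFinset ρ ↔
      g ^ (k : ZMod (Nat.card G)).val ∈ midFinset ρ := by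
    intro k g
    rw [mem_midFinset, mem_midFinset, Ne, Ne, Ne, Ne, char_pow_unit_eq_zero_iff,
      norm_char_pow_unit_eq_finrank_iff]
  have hsum : ∀ k : U, ∑ g ∈ midFinset ρ, ‖ρ.character (g ^ (k : ZMod (Nat.card G)).val)‖ ^ 2 =
      ∑ g ∈ midFinset ρ, ‖ρ.character g‖ ^ 2 := by
    intro k
    have hcop : (Nat.card G).Coprime (k : ZMod (Nat.card G)).val :=
      (ZMod.val_coe_unit_coprime k).symm
    refine Finset.sum_equiv (powCoprime hcop) ?_ ?_
    · intro g
      exact hinv k g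
    · intro g _
      rfl
  have hdouble : ∑ g ∈ midFinset ρ, ∑ k : U,
      ‖ρ.character (g ^ (k : ZMod (Nat.card G)).val)‖ ^ 2 =
      (Fintype.card U : ℝ) * ∑ g ∈ midFinset ρ, ‖ρ.character g‖ ^ 2 := by
    rw [Finset.sum_comm, Finset.sum_congr rfl (fun k _ => hsum k)]
    simp
  have hlow : ((midFinset ρ).card : ℝ) * (Fintype.card U : ℝ) ≤
      ∑ g ∈ midFinset ρ, ∑ k : U, ‖ρ.character (g ^ (k : ZMod (Nat.card G)).val)‖ ^ 2 := by
    rw [← nsmul_eq_mul, ← Finset.sum_const]
    refine Finset.sum_le_sum fun g hg => ?_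
    exact card_units_le_sum_normSq_char_pow (Nat.card G) ρ g (hpowone g)
      ((mem_midFinset ρ g).mp hg).1
  rw [hdouble] at hlow
  have : (Fintype.card U : ℝ) * ((midFinset ρ).card : ℝ) ≤
      (Fintype.card U : ℝ) * ∑ g ∈ midFinset ρ, ‖ρ.character g‖ ^ 2 := by linarith
  exact le_of_mul_le_mul_left this hUpos

end

end Cfsg.Agent.Lib.H23
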