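import Cfsg.Agent.Lib.H23.CharGalois
import Cfsg.Agent.Lib.H23.ZerosCount
import Cfsg.Agent.Lib.H23.PElementZero
import Cfsg.Agent.Lib.H23.Ito
import Cfsg.Agent.Lib.H24.CharOrth
import Cfsg.Agent.Lib.H24.CharKer
import Cfsg.Agent.Lib.H24.CharDefl

/-!
# Class number bounds from a self-centralizing abelian normal Sylow subgroup (helper23)

* `eq_one_of_sum_le_card_of_one_le_prod`: equality case of AM-GM;
* `one_le_prod_normSq_char_pow`, `norm_char_eq_one_of_sum_le`;
* `comm_of_forall_irr_one`: a finite group all of whose irreducible characters are linear is abelian;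
* `sum_normSq_irr_eq_card_centralizer`: second orthogonality in real form.
-/

set_option autoImplicit false

namespace Cfsg.Agent.Lib.H23

open Module Cfsg.Agent.Lib.L0
open scoped ComplexConjugate

section AMGM

/-- Equality case of AM-GM: nonnegative reals with product at least `1` and sum at most their
number are all equal to `1`. -/
theorem eq_one_of_sum_le_card_of_one_le_prod {ι : Type*} [Fintype ι] (z : ι → ℝ)
    (hz : ∀ i, 0 ≤ z i) (hprod : 1 ≤ ∏ i, z i) (hsum : ∑ i, z i ≤ Fintype.card ι) :
    ∀ i, z i = 1 := by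
  classical
  have hpos : ∀ i, 0 < z i := by
    intro i
    rcases (hz i).lt_or_eq with h | h
    · exact h
    · exfalso
      have : ∏ i, z i = 0 := Finset.prod_eq_zero (Finset.mem_univ i) h.symm
      rw [this] at hprod
      linarith
  have hlog : 0 ≤ ∑ i, Real.log (z i) := by
    rw [← Real.log_prod (fun i _ => (hpos i).ne')]
    exact Real.log_nonneg hprod
  have hterm : ∀ i, 0 ≤ z i - 1 - Real.log (z i) := by
    intro i
    have := Real.log_le_sub_one_of_pos (hpos i)
    linarith
  have hsum0 : ∑ i, (z i - 1 - Real.log (z i)) = 0 := by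
    apply le_antisymm _ (Finset.sum_nonneg fun i _ => hterm i)
    rw [Finset.sum_sub_distrib, Finset.sum_sub_distrib, Finset.sum_const, Finset.card_univ,
      nsmul_eq_mul, mul_one]
    linarith
  intro i
  have h0 := (Finset.sum_eq_zero_iff_of_nonneg (fun i _ => hterm i)).mp hsum0 i (Finset.mem_univ i)
  by_contra hne
  have := Real.log_lt_sub_one_of_pos (hpos i) hne
  linarith

end AMGM

section Galois

variable {G : Type*} [Group G] {V : Type*} [AddCommGroup V] [Module ℂ V] [FiniteDimensional ℂ V]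
variable (m : ℕ) [NeZero m]

theorem one_le_prod_normSq_char_pow (ρ : Representation ℂ G V) (g : G) (hg : g ^ m = 1)
    (hne : ρ.character g ≠ 0) :
    1 ≤ ∏ k : (ZMod m)ˣ, ‖ρ.character (g ^ (k : ZMod m).val)‖ ^ 2 := by
  have hm : 0 < m := NeZero.pos m
  have hfm : ρ g ^ m = 1 := by rw [← map_pow, hg, map_one]
  have hint : IsIntegral ℤ (ρ.character g) := isIntegral_trace hm hfm
  obtain ⟨N, hN0, hN⟩ := prod_char_pow_eq_int m ρ g hg 1 (by simpa using hint) (by simpa using hne)
  simp only [Rat.cast_one, one_mul] at hN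
  rw [Finset.prod_pow, ← norm_prod, hN]
  have h1 : (1 : ℝ) ≤ ‖(N : ℂ)‖ := by
    rw [Complex.norm_intCast]
    exact_mod_cast Int.one_le_abs hN0
  nlinarith

/-- If the Galois-sum of `|χ(g^k)|²` is at most `φ(m)` and `χ(g) ≠ 0`, then `|χ(g)| = 1`. -/
theorem norm_char_eq_one_of_sum_le (ρ : Representation ℂ G V) (g : G) (hg : g ^ m = 1)
    (hne : ρ.character g ≠ 0)
    (hsum : ∑ k : (ZMod m)ˣ, ‖ρ.character (g ^ (k : ZMod m).val)‖ ^ 2 ≤
      (Fintype.card (ZMod m)ˣ : ℝ)) : ‖ρ.character g‖ = 1 := by
  have h := eq_one_of_sum_le_card_of_one_le_prod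
    (fun k : (ZMod m)ˣ => ‖ρ.character (g ^ (k : ZMod m).val)‖ ^ 2) (fun k => by positivity)
    (one_le_prod_normSq_char_pow m ρ g hg hne) hsum 1
  simp only [Units.val_one] at h
  rw [pow_val_one_eq m g hg] at h
  have h0 : 0 ≤ ‖ρ.character g‖ := norm_nonneg _
  nlinarith

end Galois

section Linear

variable {Q : Type*} [Group Q] [Finite Q]

/-- A finite group all of whose irreducible characters are linear is abelian. -/
theorem comm_of_forall_irr_one (h : ∀ χ : Cfsg.IrrCharacter Q, (χ : Q → ℂ) 1 = 1) (a b : Q) :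
    a * b = b * a := by
  have : Fintype Q := Fintype.ofFinite Q
  have hconj : IsConj (a * b * a⁻¹ * b⁻¹) 1 := by
    rw [Cfsg.Agent.Lib.H24.isConj_iff_forall_irr_eq]
    intro χ
    rw [h χ]
    exact Cfsg.Agent.Lib.H24.linear_commutator (isCharacter_of_irr χ.2) (h χ) a b
  have h1 : a * b * a⁻¹ * b⁻¹ = 1 := isConj_one_left.mp hconj
  calc a * b = (a * b * a⁻¹ * b⁻¹) * (b * a) := by group
    _ = b * a := by rw [h1, one_mul]

end Linear

section Orth

variable {G : Type*} [Group G] [Finite G]

/-- Second orthogonality at a single element, in real form. -/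
theorem sum_normSq_irr_eq_card_centralizer [Fintype (Cfsg.IrrCharacter G)] (x : G) :
    ∑ χ : Cfsg.IrrCharacter G, ‖(χ : G → ℂ) x‖ ^ 2 =
      (Nat.card (Subgroup.centralizer ({x} : Set G)) : ℝ) := by
  classical
  have : Fintype G := Fintype.ofFinite G
  have h := Cfsg.Agent.Lib.H24.second_orthogonality x x
  rw [if_pos (IsConj.refl x)] at h
  apply Complex.ofReal_injective
  push_cast
  rw [← h]
  refine Finset.sum_congr rfl fun χ _ => ?_
  rw [Complex.mul_conj, Complex.normSq_eq_norm_sq]
  push_cast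
  rfl

end Orth

end Cfsg.Agent.Lib.H23
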