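import Cfsg.Agent.S0173
import Cfsg.Agent.S0193
import Cfsg.Agent.Lib.L0.CharIndChar

/-!
# Characters of groups with a "Frobenius-kernel-like" normal subgroup (helper23)

Let `N` be a normal subgroup of the finite group `G` with `C_G(n) ≤ N` for all `1 ≠ n ∈ N`.
* `irr_eq_one_of_conj_eq`: an irreducible character of `N` fixed by some `g ∉ N` is trivial;
* `isIrrCharacter_indFun_of_centralizer_le`: a nontrivial irreducible character of `N` induces
  irreducibly to `G`;
* `exists_eq_indFun_of_centralizer_le`: an irreducible character of `G` not containing `N` in its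
  kernel is induced from `N`.
-/

set_option autoImplicit false

namespace Cfsg.Agent.Lib.H23

open Cfsg.Agent.Lib.L0 Cfsg.Agent.Lib.H8

section

variable {G : Type*} [Group G] [Fintype G] (N : Subgroup G) [hN : N.Normal]

omit [Fintype G] in
/-- If `g ∉ N` and centralizers of nontrivial elements of `N` lie in `N`, then conjugation by `g`
fixes only the trivial class of `N`. -/
theorem conjClasses_fixed_eq_one (hC : ∀ n ∈ N, n ≠ 1 → Subgroup.centralizer ({n} : Set G) ≤ N)
    {g : G} (hg : g ∉ N) (C : ConjClasses N)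
    (hfix : ConjClasses.map (MulAut.conjNormal g : N ≃* N).toMonoidHom C = C) : C = 1 := by
  obtain ⟨n, rfl⟩ := ConjClasses.mk_surjective C
  have h1 : ConjClasses.mk ((MulAut.conjNormal g : N ≃* N) n) = ConjClasses.mk n := hfix
  rw [ConjClasses.mk_eq_mk_iff_isConj, isConj_iff] at h1
  obtain ⟨u, hu⟩ := h1
  by_contra hne
  have hn1 : (n : G) ≠ 1 := by
    intro h
    apply hne
    have : n = 1 := Subtype.ext h
    rw [this]
    rfl
  have hu' : (u : G) * (g * (n : G) * g⁻¹) * (u : G)⁻¹ = (n : G) := by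
    have := congrArg (Subtype.val) hu
    simpa [MulAut.conjNormal_apply] using this
  have hmem : (u : G) * g ∈ Subgroup.centralizer ({(n : G)} : Set G) := by
    rw [Subgroup.mem_centralizer_iff]
    intro y hy
    rw [Set.mem_singleton_iff] at hy
    subst hy
    calc (n : G) * ((u : G) * g) = ((u : G) * (g * (n : G) * g⁻¹) * (u : G)⁻¹) * ((u : G) * g) := by
          rw [hu']
      _ = (u : G) * g * (n : G) := by group
  have h2 : (u : G) * g ∈ N := hC n n.2 hn1 hmem
  apply hg
  have := N.mul_mem (N.inv_mem u.2) h2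
  simpa using this

/-- An irreducible character of `N` fixed by an element outside `N` is trivial. -/
theorem irr_eq_one_of_conj_eq (hC : ∀ n ∈ N, n ≠ 1 → Subgroup.centralizer ({n} : Set G) ≤ N)
    {g : G} (hg : g ∉ N) (φ : N → ℂ) (hφ : Cfsg.IsIrrCharacter N φ)
    (hfix : ∀ h : N, φ ⟨g * h * g⁻¹, hN.conj_mem h h.2 g⟩ = φ h) : φ = fun _ => 1 := by
  classical
  set α : N ≃* N := MulAut.conjNormal g with hα
  have hcount := Cfsg.Agent.S0173.result α
  -- exactly one fixed class
  have hsub : Subsingleton {C : ConjClasses N // ConjClasses.map α.toMonoidHom C = C} := by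
    constructor
    rintro ⟨C, hC1⟩ ⟨C', hC2⟩
    apply Subtype.ext
    show C = C'
    rw [conjClasses_fixed_eq_one N hC hg C hC1, conjClasses_fixed_eq_one N hC hg C' hC2]
  have hle : Nat.card {C : ConjClasses N // ConjClasses.map α.toMonoidHom C = C} ≤ 1 :=
    Finite.card_le_one_iff_subsingleton.mpr hsub
  rw [hcount] at hle
  have hsub2 := Finite.card_le_one_iff_subsingleton.mp hle
  -- both `φ` and the trivial character are fixed
  have h1 : ((⟨φ, hφ⟩ : Cfsg.IrrCharacter N) : N → ℂ) ∘ α = φ := by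
    funext h
    simp only [Function.comp_apply]
    rw [← hfix h]
    congr 1
  have h2 : ((Cfsg.Agent.Lib.H24.trivialIrr N : Cfsg.IrrCharacter N) : N → ℂ) ∘ α =
      (Cfsg.Agent.Lib.H24.trivialIrr N : N → ℂ) := by
    funext h
    rfl
  have := hsub2.elim ⟨⟨φ, hφ⟩, h1⟩ ⟨Cfsg.Agent.Lib.H24.trivialIrr N, h2⟩
  have h3 : (⟨φ, hφ⟩ : Cfsg.IrrCharacter N) = Cfsg.Agent.Lib.H24.trivialIrr N :=
    congrArg Subtype.val this
  exact congrArg Subtype.val h3

/-- A nontrivial irreducible character of `N` induces irreducibly. -/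
theorem isIrrCharacter_indFun_of_centralizer_le
    (hC : ∀ n ∈ N, n ≠ 1 → Subgroup.centralizer ({n} : Set G) ≤ N)
    (φ : N → ℂ) (hφ : Cfsg.IsIrrCharacter N φ) (hφ1 : φ ≠ fun _ => 1) :
    Cfsg.IsIrrCharacter G (Cfsg.indFun N φ) := by
  classical
  apply isIrrCharacter_of_classInner_self_eq_one (isCharacter_indFun N (isCharacter_of_irr hφ))
  have h := Cfsg.Agent.S0193.result N φ hφ
  have hset : Nat.card {g : G // ∀ h : N, φ ⟨g * h * g⁻¹, hN.conj_mem h h.2 g⟩ = φ h} =
      Nat.card N := by
    refine Nat.card_congr (Equiv.subtypeEquivRight (fun g => ?_))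
    constructor
    · intro hfix
      by_contra hg
      exact hφ1 (irr_eq_one_of_conj_eq N hC hg φ hφ hfix)
    · intro hg h
      have hcl := isClassFunction_of_isCharacter (isCharacter_of_irr hφ)
      have := hcl h ⟨g, hg⟩
      rw [← this]
      rfl
  rw [hset] at h
  have hne : (Nat.card N : ℂ) ≠ 0 := Nat.cast_ne_zero.mpr Nat.card_pos.ne'
  have : (Nat.card N : ℂ) * Cfsg.classInner (Cfsg.indFun N φ) (Cfsg.indFun N φ) =
      (Nat.card N : ℂ) * 1 := by rw [h, mul_one]
  exact mul_left_cancel₀ hne this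

/-- A character which is a sum of trivial characters is constant. -/
theorem list_sum_const_of_forall_eq_one {H : Type*} (l : List (H → ℂ))
    (hl : ∀ ψ ∈ l, ψ = fun _ => (1 : ℂ)) (a b : H) : l.sum a = l.sum b := by
  induction l with
  | nil => simp
  | cons c l ih =>
    rw [List.sum_cons, Pi.add_apply, Pi.add_apply, ih (fun ψ hψ => hl ψ (by simp [hψ])),
      hl c (by simp)]

/-- An irreducible character of `G` whose kernel does not contain `N` is induced from `N`. -/
theorem exists_eq_indFun_of_centralizer_le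
    (hC : ∀ n ∈ N, n ≠ 1 → Subgroup.centralizer ({n} : Set G) ≤ N)
    (χ : G → ℂ) (hχ : Cfsg.IsIrrCharacter G χ) (hker : ∃ n ∈ N, χ n ≠ χ 1) :
    ∃ φ : N → ℂ, Cfsg.IsIrrCharacter N φ ∧ χ = Cfsg.indFun N φ := by
  classical
  have : Fintype N := Fintype.ofFinite N
  have hres : Cfsg.IsCharacter N (fun h : N => χ h) :=
    isCharacter_restrict N (isCharacter_of_irr hχ)
  obtain ⟨l, hl, hsum⟩ := isCharacter_exists_irr_decomp hres
  -- some constituent is nontrivial
  have hex : ∃ φ ∈ l, φ ≠ fun _ => (1 : ℂ) := by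
    by_contra hall
    push Not at hall
    obtain ⟨n, hn, hne⟩ := hker
    apply hne
    have h1 := list_sum_const_of_forall_eq_one l hall ⟨n, hn⟩ 1
    rw [← hsum] at h1
    exact h1
  obtain ⟨φ, hφl, hφ1⟩ := hex
  have hφ := hl φ hφl
  refine ⟨φ, hφ, ?_⟩
  have hind := isIrrCharacter_indFun_of_centralizer_le N hC φ hφ hφ1
  have hfr := Cfsg.Agent.Lib.L0.frobenius_reciprocity N φ χ (isClassFunction_of_isCharacter (isCharacter_of_irr hχ))
  have hcount : Cfsg.classInner (fun h : N => χ h) φ = (l.count φ : ℂ) := by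
    rw [hsum]
    exact classInner_irr_list_sum hl hφ
  have hne : Cfsg.classInner (Cfsg.indFun N φ) χ ≠ 0 := by
    rw [hfr, ← classInner_conj_symm, hcount, Complex.conj_natCast]
    exact Nat.cast_ne_zero.mpr (List.count_pos_iff.mpr hφl).ne'
  rw [irr_classInner_eq hind hχ] at hne
  by_contra hneq
  apply hne
  rw [if_neg]
  exact fun h => hneq h.symm

end

end Cfsg.Agent.Lib.H23
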