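import Cfsg.Agent.Lib.H23.M7920KILLBCore
import Cfsg.Agent.Lib.H15.M7920F7
import Cfsg.Agent.Lib.H22.M7920F9
import Cfsg.Agent.Lib.H12.M7920F10

/-!
S4429 piece (KILLB), exact sig of `tools/blueprints/S4429_sigs.lean`: pattern (B) is impossible.
Assembly of the core `kill_B_of` with the landed pieces (F7) helper15, (F9) helper22, (F10) helper12.
-/

set_option autoImplicit false

namespace Cfsg.Agent.Lib.H23.M7920

open Cfsg
open scoped BigOperators ComplexConjugate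

universe u

/-- (KILLB) pattern (B) is impossible. -/
theorem kill_B {G : Type u} [Group G] [Fintype G] [IsSimpleGroup G] (hG : Nat.card G = 7920)
    (χ₁ ψ₁ ψ₂ : IrrCharacter G) (h5 : (χ₁ : G → ℂ) 1 = 5) (hne : ψ₁ ≠ ψ₂)
    (h12 : (ψ₁ : G → ℂ) 1 = 12) (h12' : (ψ₂ : G → ℂ) 1 = 12) : False :=
  kill_B_of hG
    (fun y hy => Cfsg.Agent.Lib.H15.M7920.cent5_of_degree5 hG χ₁ h5 y hy)
    (fun y hy hC => Cfsg.Agent.Lib.H22.M7920.sylow5_data hG y hy hC)
    (fun ψ y hy h2 => Cfsg.Agent.Lib.H12.M7920.values5 ψ y hy h2)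
    ψ₁ ψ₂ hne h12 h12'

end Cfsg.Agent.Lib.H23.M7920
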