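import Mathlib

/-!
S0435 piece (ARITH7920), pure integers: the values of the ten irreducible characters of a simple group of
order 7920 at an involution, from the relations R1..R4 and `|C(z)| = 1 + Σ values² ∣ 144`.
-/

set_option autoImplicit false

namespace Cfsg.Agent.Lib.H23.O7920

/-- the divisors of 144 -/
theorem dvd_144_cases (c : ℕ) (h : c ∣ 144) :
    c = 1 ∨ c = 2 ∨ c = 3 ∨ c = 4 ∨ c = 6 ∨ c = 8 ∨ c = 9 ∨ c = 12 ∨ c = 16 ∨ c = 18 ∨ c = 24 ∨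
      c = 36 ∨ c = 48 ∨ c = 72 ∨ c = 144 := by
  have hle : c ≤ 144 := Nat.le_of_dvd (by norm_num) h
  interval_cases c <;> omega

theorem bound_of_mul_self_le (x : ℤ) (n : ℤ) (h : x * x < (n + 1) * (n + 1)) (hn : 0 ≤ n) :
    -n ≤ x ∧ x ≤ n := by
  constructor <;> nlinarith

theorem cauchy3 (a1 a2 a3 : ℤ) :
    (a1 + a2 + a3) * (a1 + a2 + a3) ≤ 3 * (a1 * a1 + a2 * a2 + a3 * a3) := by
  nlinarith [sq_nonneg (a1 - a2), sq_nonneg (a1 - a3), sq_nonneg (a2 - a3)]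

theorem parity3 (a1 a2 a3 : ℤ) :
    ∃ r : ℤ, (a1 * a1 + a2 * a2 + a3 * a3) - (a1 + a2 + a3) = 2 * r := by
  obtain ⟨r1, h1⟩ := Int.even_mul_pred_self a1
  obtain ⟨r2, h2⟩ := Int.even_mul_pred_self a2
  obtain ⟨r3, h3⟩ := Int.even_mul_pred_self a3
  refine ⟨r1 + r2 + r3, ?_⟩
  linarith

/-- The arithmetic core with all the values. -/
theorem arith_c48_values (a1 a2 a3 b u t t' f : ℤ) (c : ℕ)
    (R1 : 1 - a1 - a2 - a3 + b - u = 0)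
    (R2 : 720 - 72 * (a1 ^ 2 + a2 ^ 2 + a3 ^ 2) + 16 * b ^ 2 - 45 * u ^ 2 = 0)
    (R3 : 1 + t - t' + 2 * u = 0)
    (R4 : 1 + 10 * (a1 + a2 + a3) + 45 * b + 32 * u + 11 * t + 44 * t' + 55 * f = 0)
    (hc : (c : ℤ) = 1 + a1 ^ 2 + a2 ^ 2 + a3 ^ 2 + b ^ 2 + 2 * u ^ 2 + t ^ 2 + t' ^ 2 + f ^ 2)
    (hdvd : c ∣ 144) :
    c = 48 ∧ b = -3 ∧ u = 0 ∧ t = 3 ∧ t' = 4 ∧ f = -1 ∧ a1 + a2 + a3 = -2 ∧
      a1 ^ 2 = 4 ∧ a2 ^ 2 = 4 ∧ a3 ^ 2 = 4 := by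
  have hdiv := dvd_144_cases c hdvd
  have hc144 : (c : ℤ) ≤ 144 := by exact_mod_cast Nat.le_of_dvd (by norm_num) hdvd
  -- squares as products
  have h11 : 0 ≤ a1 * a1 := mul_self_nonneg a1
  have h22 : 0 ≤ a2 * a2 := mul_self_nonneg a2
  have h33 : 0 ≤ a3 * a3 := mul_self_nonneg a3
  have hbb : 0 ≤ b * b := mul_self_nonneg b
  have huu : 0 ≤ u * u := mul_self_nonneg u
  have htt : 0 ≤ t * t := mul_self_nonneg t
  have htt' : 0 ≤ t' * t' := mul_self_nonneg t'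
  have hff : 0 ≤ f * f := mul_self_nonneg f
  have hcp0 : (c : ℤ) = 1 + a1 * a1 + a2 * a2 + a3 * a3 + b * b + 2 * (u * u) + t * t + t' * t' + f * f := by
    rw [hc]; ring
  -- bounds
  have hu : -8 ≤ u ∧ u ≤ 8 := bound_of_mul_self_le u 8 (by omega) (by norm_num)
  have hb : -11 ≤ b ∧ b ≤ 11 := bound_of_mul_self_le b 11 (by omega) (by norm_num)
  have ht : -11 ≤ t ∧ t ≤ 11 := bound_of_mul_self_le t 11 (by omega) (by norm_num)
  -- S = sum of the squares of the a's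
  obtain ⟨S, hS⟩ : ∃ S : ℤ, S = a1 * a1 + a2 * a2 + a3 * a3 := ⟨_, rfl⟩
  have hS0 : 0 ≤ S := by omega
  have R2p : 720 - 72 * S + 16 * (b * b) - 45 * (u * u) = 0 := by rw [hS]; linarith
  have hcp : (c : ℤ) = 1 + S + b * b + 2 * (u * u) + t * t + t' * t' + f * f := by omega
  have hT : a1 + a2 + a3 = 1 + b - u := by linarith
  -- parity and Cauchy-Schwarz
  obtain ⟨r, hr⟩ : ∃ r : ℤ, S - (1 + b - u) = 2 * r := by
    obtain ⟨r, hr⟩ := parity3 a1 a2 a3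
    exact ⟨r, by rw [hS, ← hT]; exact hr⟩
  have hCS : (1 + b - u) * (1 + b - u) ≤ 3 * S := by
    rw [hS, ← hT]; exact cauchy3 a1 a2 a3
  have stage2 : (u = -4 ∧ b = -9) ∨ (u = -4 ∧ b = -3) ∨ (u = 0 ∧ b = -9) ∨ (u = 0 ∧ b = -3) ∨
      (u = 0 ∧ b = 3) ∨ (u = 4 ∧ b = 3) ∨ (u = 4 ∧ b = 9) := by
    obtain ⟨hu1, hu2⟩ := hu
    obtain ⟨hb1, hb2⟩ := hb
    clear hcp0 hc R2 hdiv hdvd hS hT R1 R3 R4 hcp
    interval_cases u <;> interval_cases b <;> omega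
  obtain ⟨ht1, ht2⟩ := ht
  rcases stage2 with ⟨rfl, rfl⟩ | ⟨rfl, rfl⟩ | ⟨rfl, rfl⟩ | ⟨rfl, rfl⟩ | ⟨rfl, rfl⟩ | ⟨rfl, rfl⟩ |
    ⟨rfl, rfl⟩
  · -- u = -4, b = -9 : c ≥ 132 + t² + (t-7)²
    exfalso
    have ht' : t' = t - 7 := by omega
    subst ht'
    clear hc hcp0 R2 hdiv hdvd hS R1 R4 R3 hr hCS
    interval_cases t <;> omega
  · -- u = -4, b = -3
    exfalso
    have ht' : t' = t - 7 := by omega
    have hf : f = 10 - t := by omega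
    subst ht' hf
    clear hc hcp0 R2 hdvd hS R1 R4 R3 hr hCS
    interval_cases t <;> omega
  · -- u = 0, b = -9
    exfalso
    have ht' : t' = t + 1 := by omega
    have hf : f = 8 - t := by omega
    subst ht' hf
    clear hc hcp0 R2 hdvd hS R1 R4 R3 hr hCS
    interval_cases t <;> omega
  · -- u = 0, b = -3 : the real case
    have ht' : t' = t + 1 := by omega
    have hf : f = 2 - t := by omega
    subst ht' hf
    have hS12 : S = 12 := by omega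
    have ht3 : t = 3 := by
      clear hc hcp0 R2 hdvd hS R1 R4 R3 hr hCS
      interval_cases t <;> omega
    subst ht3
    have hc48 : c = 48 := by omega
    have ha1 : -3 ≤ a1 ∧ a1 ≤ 3 := bound_of_mul_self_le a1 3 (by omega) (by norm_num)
    have ha2 : -3 ≤ a2 ∧ a2 ≤ 3 := bound_of_mul_self_le a2 3 (by omega) (by norm_num)
    have ha3 : a3 = -2 - a1 - a2 := by omega
    subst ha3
    obtain ⟨ha11, ha12⟩ := ha1
    obtain ⟨ha21, ha22⟩ := ha2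
    subst hS12
    clear hc hcp0 R2 hdvd R1 R4 R3 hr hCS hcp hdiv R2p
    refine ⟨hc48, rfl, rfl, rfl, rfl, rfl, by ring, ?_⟩
    interval_cases a1 <;> interval_cases a2 <;> omega
  · -- u = 0, b = 3 : S = 12, T = 4 impossible
    exfalso
    have hS12 : S = 12 := by omega
    have ha1 : -3 ≤ a1 ∧ a1 ≤ 3 := bound_of_mul_self_le a1 3 (by omega) (by norm_num)
    have ha2 : -3 ≤ a2 ∧ a2 ≤ 3 := bound_of_mul_self_le a2 3 (by omega) (by norm_num)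
    have ha3 : a3 = 4 - a1 - a2 := by omega
    subst ha3
    obtain ⟨ha11, ha12⟩ := ha1
    obtain ⟨ha21, ha22⟩ := ha2
    subst hS12
    clear hc hcp0 R2 hdvd R1 R4 R3 hr hCS hcp hdiv R2p
    interval_cases a1 <;> interval_cases a2 <;> omega
  · -- u = 4, b = 3
    exfalso
    have ht' : t' = t + 9 := by omega
    have hf : f = -12 - t := by omega
    subst ht' hf
    clear hc hcp0 R2 hdvd hS R1 R4 R3 hr hCS
    interval_cases t <;> omega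
  · -- u = 4, b = 9
    exfalso
    have ht' : t' = t + 9 := by omega
    subst ht'
    clear hc hcp0 R2 hdiv hdvd hS R1 R4 R3 hr hCS
    interval_cases t <;> omega

/-- (ARITH7920) the centralizer order, scalar form. -/
theorem arith_c48' (a1 a2 a3 b u t t' f : ℤ) (c : ℕ)
    (R1 : 1 - a1 - a2 - a3 + b - u = 0)
    (R2 : 720 - 72 * (a1 ^ 2 + a2 ^ 2 + a3 ^ 2) + 16 * b ^ 2 - 45 * u ^ 2 = 0)
    (R3 : 1 + t - t' + 2 * u = 0)
    (R4 : 1 + 10 * (a1 + a2 + a3) + 45 * b + 32 * u + 11 * t + 44 * t' + 55 * f = 0)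
    (hc : (c : ℤ) = 1 + a1 ^ 2 + a2 ^ 2 + a3 ^ 2 + b ^ 2 + 2 * u ^ 2 + t ^ 2 + t' ^ 2 + f ^ 2)
    (hdvd : c ∣ 144) : c = 48 :=
  (arith_c48_values a1 a2 a3 b u t t' f c R1 R2 R3 R4 hc hdvd).1

/-- (ARITH48) in the exact shape of `tools/blueprints/S0435_sigs.lean` (the bound hypotheses are not used). -/
theorem arith_c48 (a : Fin 3 → ℤ) (b u t t' f : ℤ) (c : ℕ)
    (ha : ∀ i, |a i| ≤ 10) (hb : |b| ≤ 45) (hu : |u| ≤ 16) (ht : |t| ≤ 11) (ht' : |t'| ≤ 44)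
    (hf : |f| ≤ 55)
    (R1 : 1 - ∑ i, a i + b - u = 0)
    (R2 : 720 - 72 * ∑ i, a i ^ 2 + 16 * b ^ 2 - 45 * u ^ 2 = 0)
    (R3 : 1 + t - t' + 2 * u = 0)
    (R4 : 1 + 10 * ∑ i, a i + 45 * b + 32 * u + 11 * t + 44 * t' + 55 * f = 0)
    (hc : (c : ℤ) = 1 + ∑ i, a i ^ 2 + b ^ 2 + 2 * u ^ 2 + t ^ 2 + t' ^ 2 + f ^ 2)
    (hdvd : c ∣ 144) : c = 48 := by
  simp only [Fin.sum_univ_three] at R1 R2 R4 hc
  exact arith_c48' (a 0) (a 1) (a 2) b u t t' f c (by linarith) (by linarith) R3 (by linarith)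
    (by linarith) hdvd

/-- the values, in the `Fin 3` shape. -/
theorem arith_values (a : Fin 3 → ℤ) (b u t t' f : ℤ) (c : ℕ)
    (R1 : 1 - ∑ i, a i + b - u = 0)
    (R2 : 720 - 72 * ∑ i, a i ^ 2 + 16 * b ^ 2 - 45 * u ^ 2 = 0)
    (R3 : 1 + t - t' + 2 * u = 0)
    (R4 : 1 + 10 * ∑ i, a i + 45 * b + 32 * u + 11 * t + 44 * t' + 55 * f = 0)
    (hc : (c : ℤ) = 1 + ∑ i, a i ^ 2 + b ^ 2 + 2 * u ^ 2 + t ^ 2 + t' ^ 2 + f ^ 2)
    (hdvd : c ∣ 144) :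
    c = 48 ∧ b = -3 ∧ u = 0 ∧ t = 3 ∧ t' = 4 ∧ f = -1 ∧ ∑ i, a i = -2 ∧ ∀ i, a i ^ 2 = 4 := by
  simp only [Fin.sum_univ_three] at R1 R2 R4 hc ⊢
  obtain ⟨h1, h2, h3, h4, h5, h6, h7, h8, h9, h10⟩ :=
    arith_c48_values (a 0) (a 1) (a 2) b u t t' f c (by linarith) (by linarith) R3 (by linarith)
      (by linarith) hdvd
  refine ⟨h1, h2, h3, h4, h5, h6, h7, ?_⟩
  intro i
  fin_cases i
  · exact h8
  · exact h9
  · exact h10

end Cfsg.Agent.Lib.H23.O7920
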