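import Cfsg.Agent.Lib.H23.Ito
import Cfsg.Agent.Lib.L0.CharLinear

/-!
# Nilpotent groups are M-groups (helper23)

* `exists_normal_comm_not_le_center`: a nilpotent non-abelian group has a normal abelian subgroup
  not contained in the centre;
* `indFun_top`, `indFun_congr`, `indFun_trans_map`;
* `monomial_of_nilpotent`: every irreducible character of a finite nilpotent group is induced from a
  linear character of a subgroup.
-/

set_option autoImplicit false

universe u

namespace Cfsg.Agent.Lib.H23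

open Cfsg.Agent.Lib.L0 Module
open scoped ComplexConjugate

section GroupTheory

variable {Q : Type*} [Group Q]

/-- The subgroup `Z(Q)⟨x⟩`. -/
def centerZpowers (x : Q) : Subgroup Q where
  carrier := {a | ∃ z ∈ Subgroup.center Q, ∃ k : ℤ, a = z * x ^ k}
  one_mem' := ⟨1, Subgroup.one_mem _, 0, by simp⟩
  mul_mem' := by
    rintro a b ⟨z, hz, k, rfl⟩ ⟨z', hz', k', rfl⟩
    refine ⟨z * z', Subgroup.mul_mem _ hz hz', k + k', ?_⟩
    have hc : x ^ k * z' = z' * x ^ k := Subgroup.mem_center_iff.mp hz' (x ^ k)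
    rw [zpow_add]
    calc z * x ^ k * (z' * x ^ k') = z * (x ^ k * z') * x ^ k' := by group
      _ = z * (z' * x ^ k) * x ^ k' := by rw [hc]
      _ = z * z' * (x ^ k * x ^ k') := by group
  inv_mem' := by
    rintro a ⟨z, hz, k, rfl⟩
    refine ⟨z⁻¹, Subgroup.inv_mem _ hz, -k, ?_⟩
    have hc : x ^ (-k) * z⁻¹ = z⁻¹ * x ^ (-k) :=
      Subgroup.mem_center_iff.mp (Subgroup.inv_mem _ hz) (x ^ (-k))
    rw [mul_inv_rev, ← zpow_neg, hc]

theorem mem_centerZpowers (x a : Q) :
    a ∈ centerZpowers x ↔ ∃ z ∈ Subgroup.center Q, ∃ k : ℤ, a = z * x ^ k := Iff.rfl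

theorem centerZpowers_comm (x : Q) : ∀ a ∈ centerZpowers x, ∀ b ∈ centerZpowers x,
    a * b = b * a := by
  rintro a ⟨z, hz, k, rfl⟩ b ⟨z', hz', k', rfl⟩
  have hc : x ^ k * z' = z' * x ^ k := Subgroup.mem_center_iff.mp hz' (x ^ k)
  have hc' : x ^ k' * z = z * x ^ k' := Subgroup.mem_center_iff.mp hz (x ^ k')
  have hzz : z * z' = z' * z := Subgroup.mem_center_iff.mp hz' z
  calc z * x ^ k * (z' * x ^ k') = z * (x ^ k * z') * x ^ k' := by group
    _ = z * (z' * x ^ k) * x ^ k' := by rw [hc]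
    _ = (z * z') * (x ^ k * x ^ k') := by group
    _ = (z' * z) * (x ^ k' * x ^ k) := by rw [hzz, ← zpow_add, ← zpow_add, add_comm]
    _ = z' * (z * x ^ k') * x ^ k := by group
    _ = z' * (x ^ k' * z) * x ^ k := by rw [hc']
    _ = z' * x ^ k' * (z * x ^ k) := by group

theorem centerZpowers_normal {x : Q} (hx : ∀ g : Q, g * x * g⁻¹ * x⁻¹ ∈ Subgroup.center Q) :
    (centerZpowers x).Normal := by
  constructor
  rintro a ⟨z, hz, k, rfl⟩ g
  set c := g * x * g⁻¹ * x⁻¹ with hc
  have hcz := hx g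
  have hcx : Commute c x := (Subgroup.mem_center_iff.mp hcz x).symm
  have h1 : g * x * g⁻¹ = c * x := by rw [hc]; group
  have h2 : g * x ^ k * g⁻¹ = (g * x * g⁻¹) ^ k := by
    exact (map_zpow (MulAut.conj g) x k)
  refine ⟨z * c ^ k, Subgroup.mul_mem _ hz (Subgroup.zpow_mem _ hcz k), k, ?_⟩
  have hgz : g * z = z * g := Subgroup.mem_center_iff.mp hz g
  calc g * (z * x ^ k) * g⁻¹ = (g * z) * x ^ k * g⁻¹ := by group
    _ = z * (g * x ^ k * g⁻¹) := by rw [hgz]; group
    _ = z * (c * x) ^ k := by rw [h2, h1]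
    _ = z * c ^ k * x ^ k := by rw [hcx.mul_zpow, mul_assoc]

/-- A nilpotent non-abelian group has a normal abelian subgroup not contained in the centre. -/
theorem exists_normal_comm_not_le_center [Group.IsNilpotent Q]
    (h : Subgroup.center Q ≠ ⊤) :
    ∃ A : Subgroup Q, A.Normal ∧ (∀ a ∈ A, ∀ b ∈ A, a * b = b * a) ∧
      ¬ A ≤ Subgroup.center Q := by
  have h12 : Subgroup.upperCentralSeries Q 1 ≠ Subgroup.upperCentralSeries Q 2 := by
    intro heq
    have := Subgroup.upperCentralSeries.eq_top (by norm_num : (1 : ℕ) ≠ 2) heq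
    rw [Subgroup.upperCentralSeries_one] at this
    exact h this
  have hle : Subgroup.upperCentralSeries Q 1 ≤ Subgroup.upperCentralSeries Q 2 :=
    Subgroup.upperCentralSeries_mono Q (by norm_num)
  obtain ⟨x, hx2, hx1⟩ := SetLike.exists_of_lt (lt_of_le_of_ne hle h12)
  rw [Subgroup.upperCentralSeries_one] at hx1
  have hx : ∀ g : Q, g * x * g⁻¹ * x⁻¹ ∈ Subgroup.center Q := by
    intro g
    have := (Subgroup.mem_upperCentralSeries_succ_iff (n := 1)).mp hx2 g
    rw [Subgroup.upperCentralSeries_one, commutatorElement_def] at this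
    have h2 := Subgroup.inv_mem _ this
    have h3 : (x * g * x⁻¹ * g⁻¹)⁻¹ = g * x * g⁻¹ * x⁻¹ := by group
    rwa [h3] at h2
  refine ⟨centerZpowers x, centerZpowers_normal hx, centerZpowers_comm x, ?_⟩
  intro hle'
  apply hx1
  apply hle'
  exact ⟨1, Subgroup.one_mem _, 1, by simp⟩

end GroupTheory

section IndLemmas

variable {G : Type*} [Group G] [Fintype G]

theorem indFun_top {θ : G → ℂ} (hθ : Cfsg.IsClassFunction G θ) :
    Cfsg.indFun (⊤ : Subgroup G) (fun h => θ h) = θ := by
  funext g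
  rw [indFun_apply]
  have h1 : ∀ x : G, Cfsg.extendByZero (⊤ : Subgroup G) (fun h => θ h) (x⁻¹ * g * x) = θ g := by
    intro x
    rw [extendByZero_apply_of_mem _ _ (Subgroup.mem_top _)]
    have := hθ g x⁻¹
    simpa using this
  rw [Finset.sum_congr rfl (fun x _ => h1 x), Finset.sum_const, Finset.card_univ, nsmul_eq_mul,
    Subgroup.card_top, Nat.card_eq_fintype_card, ← mul_assoc, inv_mul_cancel₀, one_mul]
  exact_mod_cast Fintype.card_ne_zero

theorem indFun_congr {H1 H2 : Subgroup G} (h : H1 = H2) (θ1 : H1 → ℂ) (θ2 : H2 → ℂ)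
    (hθ : ∀ (x : G) (h1 : x ∈ H1) (h2 : x ∈ H2), θ1 ⟨x, h1⟩ = θ2 ⟨x, h2⟩) :
    Cfsg.indFun H1 θ1 = Cfsg.indFun H2 θ2 := by
  subst h
  congr 1
  funext ⟨x, hx⟩
  exact hθ x hx hx

/-- Transitivity of induction, for a subgroup of a subgroup. -/
theorem indFun_trans_map (T : Subgroup G) [Fintype T] (H' : Subgroup T) (θ : H' → ℂ) :
    Cfsg.indFun T (Cfsg.indFun H' θ) = Cfsg.indFun (H'.map T.subtype)
      (fun h => θ ((H'.equivMapOfInjective T.subtype T.subtype_injective).symm h)) := by
  set e := H'.equivMapOfInjective T.subtype T.subtype_injective with he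
  have hle : H'.map T.subtype ≤ T := by
    rintro _ ⟨t, _, rfl⟩
    exact t.2
  rw [← indFun_trans (H'.map T.subtype) T hle]
  congr 1
  apply indFun_congr (Subgroup.comap_map_eq_self_of_injective T.subtype_injective H').symm
  intro x h1 h2
  congr 1
  apply e.injective
  rw [MulEquiv.apply_symm_apply]
  rfl

end IndLemmas

section Linear

variable {G : Type*} [Group G] [Finite G] {V : Type*} [AddCommGroup V] [Module ℂ V]
  [FiniteDimensional ℂ V]

/-- If the image of an irreducible representation is commutative, its character has absolute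
value `1` everywhere. -/
theorem norm_char_eq_one_of_rep_comm (σ : Representation ℂ G V) [σ.IsIrreducible]
    (h : ∀ a b : G, σ (a * b) = σ (b * a)) (a : G) : ‖σ.character a‖ = 1 := by
  have h1 : finrank ℂ V = 1 := finrank_eq_one_of_comm σ h
  obtain ⟨c, hc⟩ := exists_scalar_of_commute σ (σ a) (by
    intro b
    rw [← Module.End.mul_eq_comp, ← Module.End.mul_eq_comp, ← map_mul, ← map_mul, h])
  have := (norm_char_eq_finrank_iff σ a).mpr ⟨c, hc⟩
  rw [this, h1]
  simp

end Linear

section Main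

/-- Auxiliary: in a non-linear irreducible representation `ρ` of a nilpotent group there is a
normal subgroup `A` with commutative image and an irreducible constituent of `χ_A` whose inertia
group is proper. -/
theorem exists_proper_inertia {G : Type u} [Group G] [Fintype G] [Group.IsNilpotent G]
    {χ : G → ℂ} (hχ : Cfsg.IsIrrCharacter G χ) (h1 : χ 1 ≠ 1) :
    ∃ (A : Subgroup G) (hA : A.Normal) (ϑ : A → ℂ), Cfsg.IsIrrCharacter A ϑ ∧
      @Cfsg.classInner A _ (Fintype.ofFinite A) (fun n : A => χ n) ϑ ≠ 0 ∧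
      @inertia G _ A hA ϑ ≠ ⊤ := by
  classical
  obtain ⟨m, ρ, hirr, hρ⟩ := id hχ
  have := hirr
  set K : Subgroup G := MonoidHom.ker ρ with hK
  have hKmem : ∀ g : G, g ∈ K ↔ ρ g = 1 := fun g => MonoidHom.mem_ker
  have hQ : Subgroup.center (G ⧸ K) ≠ ⊤ := by
    intro htop
    apply h1
    have hcomm : ∀ a b : G, ρ (a * b) = ρ (b * a) := by
      intro a b
      have hc : (QuotientGroup.mk (a * b) : G ⧸ K) = QuotientGroup.mk (b * a) := by
        have : (QuotientGroup.mk b : G ⧸ K) ∈ Subgroup.center (G ⧸ K) := by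
          rw [htop]; trivial
        rw [QuotientGroup.mk_mul, QuotientGroup.mk_mul]
        exact Subgroup.mem_center_iff.mp this _
      rw [QuotientGroup.eq, hKmem] at hc
      calc ρ (a * b) = ρ (a * b) * ρ ((a * b)⁻¹ * (b * a)) := by rw [hc, mul_one]
        _ = ρ (b * a) := by rw [← map_mul]; congr 1; group
    have hm : finrank ℂ (Fin m → ℂ) = 1 := finrank_eq_one_of_comm ρ hcomm
    rw [← hρ, Representation.char_one, hm]
    simp
  obtain ⟨Abar, hAn, hAc, hAz⟩ := exists_normal_comm_not_le_center hQ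
  set A : Subgroup G := Abar.comap (QuotientGroup.mk' K) with hAdef
  have hA : A.Normal := hAn.comap _
  have hAmem : ∀ g : G, g ∈ A ↔ (QuotientGroup.mk g : G ⧸ K) ∈ Abar := fun g => Iff.rfl
  have : Fintype A := Fintype.ofFinite A
  have hAcomm : ∀ a ∈ A, ∀ b ∈ A, ρ (a * b) = ρ (b * a) := by
    intro a ha b hb
    have hc : (QuotientGroup.mk (a * b) : G ⧸ K) = QuotientGroup.mk (b * a) := by
      rw [QuotientGroup.mk_mul, QuotientGroup.mk_mul]
      exact hAc _ ((hAmem a).mp ha) _ ((hAmem b).mp hb)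
    rw [QuotientGroup.eq, hKmem] at hc
    calc ρ (a * b) = ρ (a * b) * ρ ((a * b)⁻¹ * (b * a)) := by rw [hc, mul_one]
      _ = ρ (b * a) := by rw [← map_mul]; congr 1; group
  have hχA : Cfsg.IsCharacter A (fun n : A => χ n) :=
    isCharacter_restrict A (isCharacter_of_irr hχ)
  have hχ1 : χ 1 ≠ 0 := Cfsg.Agent.Lib.H24.irr_one_ne_zero ⟨χ, hχ⟩
  obtain ⟨ϑ, hϑ, hcon⟩ := exists_irr_constituent hχA (by simpa using hχ1)
  refine ⟨A, hA, ϑ, hϑ, ?_, ?_⟩
  · convert hcon
  intro hT
  have hinv : ∀ (g : G) (n : A), ϑ ⟨g * n * g⁻¹, hA.conj_mem (n : G) n.2 g⟩ = ϑ n := by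
    intro g
    have : g ∈ @inertia G _ A hA ϑ := by rw [hT]; trivial
    exact this
  have hres := @restrict_eq_smul_of_invariant G _ _ A hA _ χ hχ ϑ hϑ hcon hinv
  set e := Cfsg.classInner (fun n : A => χ n) ϑ with he
  have hval : ∀ a : A, χ a = e * ϑ a := by
    intro a
    have := congrFun hres a
    simpa using this
  obtain ⟨k, σ, hσirr, hσ⟩ := hϑ
  have := hσirr
  -- `K` acts trivially under `σ`
  have hσK : ∀ a : A, (a : G) ∈ K → σ a = 1 := by
    intro a ha
    rw [hKmem] at ha
    have h2 : χ a = χ 1 := by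
      rw [← hρ]
      exact (char_eq_char_one_iff ρ a).mpr ha
    have h3 : ϑ a = ϑ 1 := by
      have h4 := hval a
      have h5 := hval 1
      rw [OneMemClass.coe_one] at h5
      rw [h2, h5] at h4
      exact (mul_left_cancel₀ hcon h4).symm
    rw [← hσ] at h3
    exact (char_eq_char_one_iff σ a).mp h3
  have hσcomm : ∀ a b : A, σ (a * b) = σ (b * a) := by
    intro a b
    have hc : (((a * b)⁻¹ * (b * a) : A) : G) ∈ K := by
      rw [hKmem]
      push_cast
      rw [map_mul, ← hAcomm a a.2 b b.2, ← map_mul, inv_mul_cancel, map_one]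
    have := hσK _ hc
    calc σ (a * b) = σ (a * b) * σ ((a * b)⁻¹ * (b * a)) := by rw [this, mul_one]
      _ = σ (b * a) := by rw [← map_mul]; congr 1; group
  have hnorm : ∀ a : A, ‖χ a‖ = ‖e‖ := by
    intro a
    rw [hval a, norm_mul, ← hσ, norm_char_eq_one_of_rep_comm σ hσcomm a, mul_one]
  -- every element of `A` acts as a scalar under `ρ`
  have hscal : ∀ a ∈ A, ∃ c : ℂ, ρ a = c • 1 := by
    intro a ha
    apply (norm_char_eq_finrank_iff ρ a).mp
    have h2 := hnorm ⟨a, ha⟩
    have h3 := hnorm 1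
    rw [OneMemClass.coe_one] at h3
    have h4 : ‖χ 1‖ = finrank ℂ (Fin m → ℂ) := by
      rw [← hρ, Representation.char_one]
      simp
    rw [hρ]
    show ‖χ a‖ = _
    rw [← h4, h3]
    exact h2
  apply hAz
  intro abar habar
  obtain ⟨a, rfl⟩ := QuotientGroup.mk_surjective abar
  have ha : a ∈ A := (hAmem a).mpr habar
  rw [Subgroup.mem_center_iff]
  intro q
  obtain ⟨g, rfl⟩ := QuotientGroup.mk_surjective q
  rw [← QuotientGroup.mk_mul, ← QuotientGroup.mk_mul, QuotientGroup.eq, hKmem]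
  obtain ⟨c, hc⟩ := hscal a ha
  have hga : ρ (g * a) = ρ (a * g) := by
    rw [map_mul, map_mul, hc]
    simp
  rw [map_mul, ← hga, ← map_mul, inv_mul_cancel, map_one]

/-- Every irreducible character of a finite nilpotent group is monomial. -/
theorem monomial_of_nilpotent_aux : ∀ (n : ℕ) (G : Type u) [Group G] [Fintype G]
    [Group.IsNilpotent G], Nat.card G = n → ∀ χ : G → ℂ, Cfsg.IsIrrCharacter G χ →
    ∃ (H : Subgroup G) (lam : H →* ℂˣ), χ = Cfsg.indFun H (fun h => (lam h : ℂ)) := by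
  intro n
  induction n using Nat.strong_induction_on with
  | _ n ih =>
    intro G _ _ _ hcard χ hχ
    classical
    by_cases h1 : χ 1 = 1
    · have hc := isCharacter_of_irr hχ
      refine ⟨⊤, (linearCharHom hc h1).comp (⊤ : Subgroup G).subtype, ?_⟩
      have h2 : (fun h : (⊤ : Subgroup G) =>
          (((linearCharHom hc h1).comp (⊤ : Subgroup G).subtype) h : ℂ)) =
          fun h : (⊤ : Subgroup G) => χ (h : G) := by
        funext h
        simp [linearCharHom_apply]
      rw [h2, indFun_top (isClassFunction_of_isCharacter hc)]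
    · obtain ⟨A, hA, ϑ, hϑ, hcon, hT⟩ := exists_proper_inertia hχ h1
      let _ : Fintype A := Fintype.ofFinite A
      set T : Subgroup G := @inertia G _ A hA ϑ with hTdef
      have : Fintype T := Fintype.ofFinite T
      have hAT : A ≤ T :=
        @le_inertia G _ A hA ϑ (isClassFunction_of_isCharacter (isCharacter_of_irr hϑ))
      obtain ⟨ψ, hψ, hind, -⟩ :=
        @clifford_correspondence G _ _ A T hA _ _ hAT ϑ hϑ (fun g => Iff.rfl) χ hχ hcon
      have hlt : Nat.card T < n := by
        rw [← hcard]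
        exact lt_of_le_of_ne (Subgroup.card_le_card_group T)
          (fun h => hT (Subgroup.eq_top_of_card_eq T h))
      obtain ⟨H', μ, hμ⟩ := ih (Nat.card T) hlt T rfl ψ hψ
      refine ⟨H'.map T.subtype,
        μ.comp (H'.equivMapOfInjective T.subtype T.subtype_injective).symm.toMonoidHom, ?_⟩
      rw [← hind, hμ, indFun_trans_map]
      rfl

theorem monomial_of_nilpotent {G : Type u} [Group G] [Fintype G] [Group.IsNilpotent G]
    (χ : G → ℂ) (hχ : Cfsg.IsIrrCharacter G χ) :
    ∃ (H : Subgroup G) (lam : H →* ℂˣ), χ = Cfsg.indFun H (fun h => (lam h : ℂ)) :=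
  monomial_of_nilpotent_aux _ G rfl χ hχ

end Main

end Cfsg.Agent.Lib.H23
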