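import Cfsg.Agent.Lib.H24.ChiefFactor
import Cfsg.Agent.Lib.H23.MGroup

/-!
# Relative M-groups (Isaacs 6.22), helper23

`ChiefNonsquare N`: every chief factor of every subgroup `H ≥ N` above `N` has nonsquare order.
* `ChiefNonsquare.subgroupOf`: the hypothesis passes to subgroups `T ≥ N`;
* `commutator_le_of_chief`: a chief factor above `N` is abelian if `G/N` is solvable
  (solvability stated as `derivedSeries G m ≤ N`);
* `relM_of_chiefNonsquare`: Isaacs 6.22.
-/

set_option autoImplicit false

namespace Cfsg.Agent.Lib.H23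

open Cfsg Cfsg.Agent.Lib.L0

universe u

/-- Every chief factor of every `H ≥ N` lying above `N` has nonsquare order. -/
def ChiefNonsquare {G : Type*} [Group G] (N : Subgroup G) : Prop :=
  ∀ (H K L : Subgroup G), N ≤ L → L < K → K ≤ H → (∀ h ∈ H, ∀ k ∈ K, h * k * h⁻¹ ∈ K) →
    (∀ h ∈ H, ∀ l ∈ L, h * l * h⁻¹ ∈ L) →
    (∀ M : Subgroup G, L ≤ M → M ≤ K → (∀ h ∈ H, ∀ m ∈ M, h * m * h⁻¹ ∈ M) → M = L ∨ M = K) →
    ¬ IsSquare (L.relIndex K)

theorem ChiefNonsquare.subgroupOf {G : Type*} [Group G] {N : Subgroup G} (h : ChiefNonsquare N)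
    (T : Subgroup G) (hNT : N ≤ T) : ChiefNonsquare (N.subgroupOf T) := by
  intro H' K' L' hNL hLK hKH hKn hLn hmin
  have hinj := T.subtype_injective
  have h1 := h (H'.map T.subtype) (K'.map T.subtype) (L'.map T.subtype) ?_ ?_ ?_ ?_ ?_ ?_
  · rwa [Subgroup.relIndex_map_map_of_injective _ _ hinj] at h1
  · intro n hn
    exact ⟨⟨n, hNT hn⟩, hNL (Subgroup.mem_subgroupOf.mpr hn), rfl⟩
  · exact (Subgroup.map_lt_map_iff_of_injective hinj).mpr hLK
  · exact Subgroup.map_mono hKH
  · rintro _ ⟨h', hh', rfl⟩ _ ⟨k', hk', rfl⟩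
    exact ⟨h' * k' * h'⁻¹, hKn h' hh' k' hk', by simp⟩
  · rintro _ ⟨h', hh', rfl⟩ _ ⟨k', hk', rfl⟩
    exact ⟨h' * k' * h'⁻¹, hLn h' hh' k' hk', by simp⟩
  · intro M hLM hMK hMn
    have hMT : M ≤ T := by
      intro m hm
      obtain ⟨k', -, rfl⟩ := hMK hm
      exact k'.2
    have h2 := hmin (M.subgroupOf T) ?_ ?_ ?_
    · rcases h2 with h2 | h2
      · left
        rw [← h2, Subgroup.map_subgroupOf_eq_of_le hMT]
      · right
        rw [← h2, Subgroup.map_subgroupOf_eq_of_le hMT]
    · intro x hx
      rw [Subgroup.mem_subgroupOf]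
      exact hLM ⟨x, hx, rfl⟩
    · intro x hx
      rw [Subgroup.mem_subgroupOf] at hx
      obtain ⟨k', hk', hk⟩ := hMK hx
      have : k' = x := Subtype.ext hk
      rwa [← this]
    · intro h' hh' m hm
      rw [Subgroup.mem_subgroupOf] at hm ⊢
      have := hMn (h' : G) ⟨h', hh', rfl⟩ (m : G) hm
      simpa using this

/-- A chief factor `K/L` above `N` is abelian when `G/N` is solvable. -/
theorem commutator_le_of_chief {G : Type*} [Group G] (N K L : Subgroup G) [K.Normal] [L.Normal]
    (hsolv : ∃ m, derivedSeries G m ≤ N) (hNL : N ≤ L) (hLK : L < K)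
    (hchief : ∀ M : Subgroup G, M.Normal → L ≤ M → M ≤ K → M = L ∨ M = K) :
    ⁅K, K⁆ ≤ L := by
  have hcK : ⁅K, K⁆ ≤ K := Subgroup.commutator_le_right K K
  rcases hchief (L ⊔ ⁅K, K⁆) inferInstance le_sup_left (sup_le hLK.le hcK) with h | h
  · rw [← h]
    exact le_sup_right
  · exfalso
    obtain ⟨m, hm⟩ := hsolv
    have hker : (QuotientGroup.mk' L).ker = L := QuotientGroup.ker_mk' L
    have hπL : ∀ X : Subgroup G, X ≤ L → X.map (QuotientGroup.mk' L) = ⊥ := by
      intro X hX
      rw [Subgroup.map_eq_bot_iff, hker]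
      exact hX
    have hperf : K.map (QuotientGroup.mk' L) =
        ⁅K.map (QuotientGroup.mk' L), K.map (QuotientGroup.mk' L)⁆ := by
      conv_lhs => rw [← h]
      rw [Subgroup.map_sup, hπL L le_rfl, bot_sup_eq, Subgroup.map_commutator]
    have hall : ∀ n : ℕ, K.map (QuotientGroup.mk' L) ≤
        (derivedSeries G n).map (QuotientGroup.mk' L) := by
      intro n
      induction n with
      | zero =>
        rw [derivedSeries_zero]
        exact Subgroup.map_mono le_top
      | succ n ih =>
        rw [derivedSeries_succ, Subgroup.map_commutator, hperf]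
        exact Subgroup.commutator_mono ih ih
    have hbot : K.map (QuotientGroup.mk' L) = ⊥ := by
      rw [eq_bot_iff]
      exact (hall m).trans (le_of_eq (hπL _ (hm.trans hNL)))
    rw [Subgroup.map_eq_bot_iff, hker] at hbot
    exact absurd hbot (not_le_of_gt hLK)

/-- Composition with an isomorphism preserves irreducibility. -/
theorem isIrrCharacter_comp_mulEquiv {A B : Type*} [Group A] [Group B] (e : A ≃* B) {φ : B → ℂ}
    (hφ : IsIrrCharacter B φ) : IsIrrCharacter A (φ ∘ e) :=
  isIrrCharacter_comp_of_surjective e.toMonoidHom e.surjective hφ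

/-- Restriction of `χ` to `L.subgroupOf K` versus `L`. -/
theorem isIrrCharacter_restrict_subgroupOf_iff {G : Type*} [Group G] {K L : Subgroup G}
    (hLK : L ≤ K) (χ : G → ℂ) :
    IsIrrCharacter (L.subgroupOf K) (fun x : L.subgroupOf K => χ ((x : K) : G)) ↔
      IsIrrCharacter L (fun x : L => χ x) := by
  constructor
  · intro h
    have := isIrrCharacter_comp_mulEquiv (Subgroup.subgroupOfEquivOfLe hLK).symm h
    exact this
  · intro h
    have := isIrrCharacter_comp_mulEquiv (Subgroup.subgroupOfEquivOfLe hLK) h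
    exact this

/-- **Isaacs 6.22**, by induction on the group order. -/
theorem relM_aux : ∀ (n : ℕ) (G : Type u) [Group G] [Fintype G] (N : Subgroup G) [N.Normal],
    Nat.card G = n → (∃ m, derivedSeries G m ≤ N) → ChiefNonsquare N →
    ∀ χ : G → ℂ, IsIrrCharacter G χ →
    ∃ (H : Subgroup G) (hNH : N ≤ H) (ψ : H → ℂ), IsIrrCharacter H ψ ∧ indFun H ψ = χ ∧
      IsIrrCharacter N (fun n : N => ψ ⟨(n : G), hNH n.2⟩) := by
  intro n
  induction n using Nat.strong_induction_on with
  | _ n ih =>
    intro G _ _ N _ hcard hsolv hchief χ hχ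
    classical
    have hχc := isCharacter_of_irr hχ
    have hχcl := isClassFunction_of_isCharacter hχc
    have htop : IsIrrCharacter (⊤ : Subgroup G) (fun h : (⊤ : Subgroup G) => χ h) :=
      isIrrCharacter_comp_mulEquiv Subgroup.topEquiv hχ
    by_cases hirr : IsIrrCharacter N (fun n : N => χ n)
    · exact ⟨⊤, le_top, fun h => χ h, htop, indFun_top hχcl, hirr⟩
    · -- minimal normal `K ≥ N` with `χ_K` irreducible
      obtain ⟨K, ⟨hKn, hNK, hKirr⟩, hKmin⟩ := wellFounded_lt.has_min
        {K : Subgroup G | K.Normal ∧ N ≤ K ∧ IsIrrCharacter K (fun k : K => χ k)}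
        ⟨⊤, inferInstance, le_top, htop⟩
      have hNK' : N < K := by
        refine lt_of_le_of_ne hNK ?_
        rintro rfl
        exact hirr hKirr
      -- maximal normal `L` with `N ≤ L < K`
      obtain ⟨L, ⟨hLn, hNL, hLK⟩, hLmax⟩ := wellFounded_gt.has_min
        {L : Subgroup G | L.Normal ∧ N ≤ L ∧ L < K} ⟨N, inferInstance, le_rfl, hNK'⟩
      have hchief' : ∀ M : Subgroup G, M.Normal → L ≤ M → M ≤ K → M = L ∨ M = K := by
        intro M hMn hLM hMK
        by_cases hMK' : M = K
        · exact Or.inr hMK'
        · left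
          by_contra hne
          exact hLmax M ⟨hMn, hNL.trans hLM, lt_of_le_of_ne hMK hMK'⟩
            (lt_of_le_of_ne hLM (Ne.symm hne))
      have hab : ⁅K, K⁆ ≤ L := commutator_le_of_chief N K L hsolv hNL hLK hchief'
      have : Fintype K := Fintype.ofFinite K
      have : Fintype L := Fintype.ofFinite L
      have htri := Cfsg.Agent.Lib.H24.chief_factor_trichotomy (L.subgroupOf K)
        (Set.range (MulAut.conjNormal : G →* MulAut K)) ?_ ?_ ?_ (fun k : K => χ k) hKirr ?_
      · rcases htri with ha | ⟨φ, e, -, -, he⟩ | ⟨F, hFirr, hFcard, hFsum⟩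
        · -- (a) contradicts the minimality of `K`
          exfalso
          have hLirr : IsIrrCharacter L (fun l : L => χ l) :=
            (isIrrCharacter_restrict_subgroupOf_iff hLK.le χ).mp ha
          exact hKmin L ⟨hLn, hNL, hLirr⟩ hLK
        · -- (b) contradicts nonsquareness
          exfalso
          refine hchief ⊤ K L hNL hLK le_top (fun h _ k hk => hKn.conj_mem k hk h)
            (fun h _ l hl => hLn.conj_mem l hl h) ?_ ⟨e, ?_⟩
          · intro M hLM hMK hM
            exact hchief' M ⟨fun m hm g => hM g (Subgroup.mem_top g) m hm⟩ hLM hMK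
          · rw [← pow_two, he]
            rfl
        · -- (c) proper inertia group
          have hidx : 1 < F.card := by
            rw [hFcard]
            have h1 : (L.subgroupOf K).index ≠ 1 := by
              intro h1
              rw [Subgroup.index_eq_one, Subgroup.subgroupOf_eq_top] at h1
              exact not_le_of_gt hLK h1
            have h0 : (L.subgroupOf K).index ≠ 0 := Subgroup.index_ne_zero_of_finite
            omega
          obtain ⟨φ₁, hφ₁, φ₂, hφ₂, hne⟩ := Finset.one_lt_card.mp hidx
          let e : L ≃* L.subgroupOf K := (Subgroup.subgroupOfEquivOfLe hLK.le).symm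
          have hφirr : IsIrrCharacter L (φ₁ ∘ e) := isIrrCharacter_comp_mulEquiv e (hFirr φ₁ hφ₁)
          have hφ'irr : IsIrrCharacter L (φ₂ ∘ e) := isIrrCharacter_comp_mulEquiv e (hFirr φ₂ hφ₂)
          have hne' : φ₁ ∘ e ≠ φ₂ ∘ e := by
            intro h
            apply hne
            funext x
            have := congrFun h (e.symm x)
            simpa using this
          have hres : (fun l : L => χ l) = (∑ φ ∈ F, φ) ∘ e := by
            rw [← hFsum]
            rfl
          have hin : ∀ ξ ∈ F, classInner (fun l : L => χ l) (ξ ∘ e) = 1 := by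
            intro ξ hξ
            rw [hres, classInner_comp_equiv, classInner_sum_left, Finset.sum_eq_single ξ]
            · exact irr_classInner_self (hFirr ξ hξ)
            · intro b hb hbξ
              exact irr_classInner_ne (hFirr b hb) (hFirr ξ hξ) hbξ
            · intro h
              exact absurd hξ h
          have hTne : inertia L (φ₁ ∘ e) ≠ ⊤ := by
            intro hT
            have hinv : ∀ (g : G) (n : L),
                (φ₁ ∘ e) ⟨g * n * g⁻¹, hLn.conj_mem (n : G) n.2 g⟩ = (φ₁ ∘ e) n := by
              intro g n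
              have : g ∈ inertia L (φ₁ ∘ e) := hT ▸ Subgroup.mem_top g
              exact this n
            have h1 := restrict_eq_smul_of_invariant L χ hχ (φ₁ ∘ e) hφirr
              (by rw [hin φ₁ hφ₁]; exact one_ne_zero) hinv
            have h2 := hin φ₂ hφ₂
            rw [h1, classInner_smul_left, irr_classInner_ne hφirr hφ'irr hne', mul_zero] at h2
            exact zero_ne_one h2
          have : Fintype (inertia L (φ₁ ∘ e)) := Fintype.ofFinite _
          have hLT : L ≤ inertia L (φ₁ ∘ e) :=
            le_inertia L (isClassFunction_of_isCharacter (isCharacter_of_irr hφirr))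
          obtain ⟨ψ, hψ, hind, -⟩ :=
            @clifford_correspondence G _ _ L (inertia L (φ₁ ∘ e)) hLn _ _ hLT (φ₁ ∘ e) hφirr
              (fun g => Iff.rfl) χ hχ (by rw [hin φ₁ hφ₁]; exact one_ne_zero)
          have hlt : Nat.card (inertia L (φ₁ ∘ e)) < n := by
            rw [← hcard]
            exact lt_of_le_of_ne (Subgroup.card_le_card_group _)
              (fun h => hTne (Subgroup.eq_top_of_card_eq _ h))
          have hNT : N ≤ inertia L (φ₁ ∘ e) := hNL.trans hLT
          have hsolvT : ∃ m, derivedSeries (inertia L (φ₁ ∘ e)) m ≤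
              N.subgroupOf (inertia L (φ₁ ∘ e)) := by
            obtain ⟨m, hm⟩ := hsolv
            refine ⟨m, ?_⟩
            intro x hx
            rw [Subgroup.mem_subgroupOf]
            apply hm
            exact map_derivedSeries_le_derivedSeries (inertia L (φ₁ ∘ e)).subtype m ⟨x, hx, rfl⟩
          obtain ⟨H', hNH', η, hη, hηind, hηN⟩ := ih _ hlt (inertia L (φ₁ ∘ e))
            (N.subgroupOf (inertia L (φ₁ ∘ e))) rfl hsolvT (hchief.subgroupOf _ hNT) ψ hψ
          have hNH : N ≤ H'.map (inertia L (φ₁ ∘ e)).subtype := by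
            intro x hx
            exact ⟨⟨x, hNT hx⟩, hNH' (Subgroup.mem_subgroupOf.mpr hx), rfl⟩
          refine ⟨H'.map (inertia L (φ₁ ∘ e)).subtype, hNH,
            η ∘ (H'.equivMapOfInjective _ (Subgroup.subtype_injective _)).symm,
            isIrrCharacter_comp_mulEquiv _ hη, ?_, ?_⟩
          · rw [← hind, ← hηind, indFun_trans_map]
            rfl
          · have h3 : (fun n : N => (η ∘ (H'.equivMapOfInjective _
                  (Subgroup.subtype_injective _)).symm) ⟨(n : G), hNH n.2⟩) =
                (fun n' : N.subgroupOf (inertia L (φ₁ ∘ e)) => η ⟨n', hNH' n'.2⟩) ∘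
                  (Subgroup.subgroupOfEquivOfLe hNT).symm := by
              funext x
              simp only [Function.comp]
              congr 1
              rw [MulEquiv.symm_apply_eq]
              apply Subtype.ext
              rfl
            rw [h3]
            exact isIrrCharacter_comp_mulEquiv _ hηN
      · -- `𝒜` stabilizes `L`
        rintro _ ⟨g, rfl⟩ x hx
        rw [Subgroup.mem_subgroupOf] at hx ⊢
        rw [MulAut.conjNormal_apply]
        exact hLn.conj_mem _ hx g
      · -- chief
        intro M hM hLM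
        have hMn : (M.map K.subtype).Normal := by
          constructor
          rintro _ ⟨m, hm, rfl⟩ g
          refine ⟨MulAut.conjNormal g m, hM _ ⟨g, rfl⟩ m hm, ?_⟩
          rw [Subgroup.coe_subtype, MulAut.conjNormal_apply]
        have hM1 : L ≤ M.map K.subtype := by
          intro l hl
          exact ⟨⟨l, hLK.le hl⟩, hLM (Subgroup.mem_subgroupOf.mpr hl), rfl⟩
        have hM2 : M.map K.subtype ≤ K := by
          rintro _ ⟨m, -, rfl⟩
          exact m.2
        rcases hchief' _ hMn hM1 hM2 with h | h
        · left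
          apply Subgroup.map_injective K.subtype_injective
          rw [h, Subgroup.subgroupOf, Subgroup.map_comap_eq, Subgroup.range_subtype,
            inf_eq_right.mpr hLK.le]
        · right
          apply Subgroup.map_injective K.subtype_injective
          rw [h, ← MonoidHom.range_eq_map, Subgroup.range_subtype]
      · -- abelian
        intro x hx
        rw [Subgroup.mem_subgroupOf]
        apply hab
        have h1 : (x : G) ∈ (commutator K).map K.subtype := ⟨x, hx, rfl⟩
        rw [commutator_def, Subgroup.map_commutator, ← MonoidHom.range_eq_map,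
          Subgroup.range_subtype] at h1
        exact h1
      · -- invariance
        rintro _ ⟨g, rfl⟩ x
        show χ ((MulAut.conjNormal g x : K) : G) = χ x
        rw [MulAut.conjNormal_apply]
        exact hχcl x g

/-- `G/N` solvable, in terms of the derived series. -/
theorem exists_derivedSeries_le_of_isSolvable_quotient {G : Type*} [Group G] (N : Subgroup G)
    [N.Normal] (hsolv : Group.IsSolvable (G ⧸ N)) : ∃ m, derivedSeries G m ≤ N := by
  obtain ⟨m, hm⟩ := hsolv.solvable
  refine ⟨m, ?_⟩
  have h1 := map_derivedSeries_le_derivedSeries (QuotientGroup.mk' N) m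
  rw [hm, le_bot_iff, Subgroup.map_eq_bot_iff, QuotientGroup.ker_mk'] at h1
  exact h1

/-- **Isaacs 6.22**. -/
theorem relM_of_chiefNonsquare {G : Type u} [Group G] [Fintype G] (N : Subgroup G) [N.Normal]
    (hsolv : Group.IsSolvable (G ⧸ N)) (hchief : ChiefNonsquare N) (χ : G → ℂ)
    (hχ : IsIrrCharacter G χ) :
    ∃ (H : Subgroup G) (hNH : N ≤ H) (ψ : H → ℂ), IsIrrCharacter H ψ ∧ indFun H ψ = χ ∧
      IsIrrCharacter N (fun n : N => ψ ⟨(n : G), hNH n.2⟩) :=
  relM_aux _ G N rfl (exists_derivedSeries_le_of_isSolvable_quotient N hsolv) hchief χ hχ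

end Cfsg.Agent.Lib.H23
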