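import Mathlib.GroupTheory.Transfer
import Cfsg.Agent.Lib.L0.CharLinear

/-!
# Coprime extension of invariant linear characters (helper23)

* `transfer_eq_pow_of_invariant`: the transfer of an invariant hom of a normal subgroup `N` is the
  `|G:N|`-th power on `N`;
* `exists_unique_hom_extension`: an invariant hom `N →* A` (`A` commutative) whose order is prime
  to `|G:N|` has a unique extension of order prime to `|G:N|`;
* `homToFun`, `orderOf_homToFun`;
* `exists_unique_linear_extension` (statement S0865).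
-/

set_option autoImplicit false

namespace Cfsg.Agent.Lib.H23

open Cfsg.Agent.Lib.L0

section Transfer

open MulAction Subgroup

variable {G : Type*} [Group G] {A : Type*} [CommGroup A]

/-- The transfer into a normal subgroup of an invariant homomorphism is the `index`-th power on
the subgroup. -/
theorem transfer_eq_pow_of_invariant (N : Subgroup G) [hN : N.Normal] [N.FiniteIndex]
    (ϕ : N →* A)
    (hinv : ∀ (g : G) (n : N), ϕ ⟨g * n * g⁻¹, hN.conj_mem (n : G) n.2 g⟩ = ϕ n) (n : N) :
    MonoidHom.transfer ϕ (n : G) = ϕ n ^ N.index := by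
  classical
  have := N.fintypeQuotientOfFiniteIndex
  rw [MonoidHom.transfer_eq_prod_quotient_orbitRel_zpowers_quot, index_eq_sum_minimalPeriod N (n : G),
    ← Finset.prod_pow_eq_pow_sum]
  refine Finset.prod_congr rfl fun q _ => ?_
  have h1 := hinv (q.out.out⁻¹) (n ^ Function.minimalPeriod ((n : G) • ·) q.out)
  rw [map_pow] at h1
  rw [← h1]
  congr 1
  apply Subtype.ext
  simp

/-- Coprime extension of invariant homomorphisms to a commutative group. -/
theorem exists_unique_hom_extension (N : Subgroup G) [hN : N.Normal] [N.FiniteIndex]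
    (ϕ : N →* A)
    (hinv : ∀ (g : G) (n : N), ϕ ⟨g * n * g⁻¹, hN.conj_mem (n : G) n.2 g⟩ = ϕ n)
    (hcop : Nat.Coprime N.index (orderOf ϕ)) :
    ∃ M : G →* A, (∀ n : N, M n = ϕ n) ∧ orderOf M = orderOf ϕ ∧
      ∀ M' : G →* A, (∀ n : N, M' n = ϕ n) → Nat.Coprime N.index (orderOf M') → M' = M := by
  set t := N.index with ht
  set o := orderOf ϕ with ho
  have hbez : (t : ℤ) * Nat.gcdA t o + (o : ℤ) * Nat.gcdB t o = 1 := by
    have := Nat.gcd_eq_gcd_ab t o
    rw [hcop.gcd_eq_one] at this
    exact_mod_cast this.symm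
  set a := Nat.gcdA t o with ha
  set b := Nat.gcdB t o with hb
  set T : G →* A := MonoidHom.transfer ϕ with hT
  have hϕo : ∀ n : N, ϕ n ^ o = 1 := by
    intro n
    have : ϕ ^ o = 1 := pow_orderOf_eq_one ϕ
    have := DFunLike.congr_fun this n
    simpa using this
  have hpow : ∀ n : N, (ϕ n) ^ ((t : ℤ) * a) = ϕ n := by
    intro n
    have h1 : (t : ℤ) * a = 1 - o * b := by linarith
    rw [h1, zpow_sub, zpow_one, zpow_mul, zpow_natCast, hϕo, one_zpow, inv_one, mul_one]
  set M : G →* A := T ^ ((a * t * a : ℤ)) with hM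
  have hMN : ∀ n : N, M n = ϕ n := by
    intro n
    rw [hM, MonoidHom.zpow_apply, hT, transfer_eq_pow_of_invariant N ϕ hinv n, ← zpow_natCast,
      ← zpow_mul]
    have : (t : ℤ) * (a * t * a) = (t * a) * (t * a) := by ring
    rw [← ht, this, zpow_mul, hpow, hpow]
  have hdvd1 : o ∣ orderOf M := by
    rw [ho, orderOf_dvd_iff_pow_eq_one]
    ext n
    have : M ^ orderOf M = 1 := pow_orderOf_eq_one M
    have := DFunLike.congr_fun this (n : G)
    rw [MonoidHom.pow_apply, hMN] at this
    simpa using this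
  have hMo : M ^ o = 1 := by
    ext g
    rw [MonoidHom.pow_apply, hM, MonoidHom.zpow_apply, MonoidHom.one_apply, ← zpow_natCast,
      ← zpow_mul]
    have h1 : (a * t * a : ℤ) * (o : ℕ) = ((t : ℤ) * o) * (a * a) := by ring
    rw [h1, zpow_mul, zpow_mul, ← Nat.cast_mul, zpow_natCast, pow_mul, ← map_pow]
    have hmem : g ^ t ∈ N := N.pow_index_mem g
    have h2 : T (g ^ t) = T ((⟨g ^ t, hmem⟩ : N) : G) := rfl
    rw [h2, hT, transfer_eq_pow_of_invariant N ϕ hinv, ← pow_mul, mul_comm, pow_mul,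
      hϕo, one_pow, one_zpow, one_zpow]
  have hoM : orderOf M = o := Nat.dvd_antisymm (orderOf_dvd_of_pow_eq_one hMo) hdvd1
  refine ⟨M, hMN, hoM, ?_⟩
  intro M' hM'N hcop'
  set ν : G →* A := M' / M with hν
  have hνN : ∀ n : N, ν n = 1 := by
    intro n
    rw [hν, MonoidHom.div_apply, hM'N, hMN, div_self']
  have hνt : ν ^ t = 1 := by
    ext g
    rw [MonoidHom.pow_apply, ← map_pow, MonoidHom.one_apply]
    exact hνN ⟨g ^ t, N.pow_index_mem g⟩
  have hνo : ν ^ (orderOf M' * o) = 1 := by
    rw [hν, div_pow, pow_mul, pow_orderOf_eq_one, one_pow, mul_comm, pow_mul, hMo, one_pow,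
      div_one]
  have h1 : orderOf ν = 1 := by
    apply Nat.eq_one_of_dvd_coprimes (Nat.Coprime.mul_right hcop' hcop)
      (orderOf_dvd_of_pow_eq_one hνt) (orderOf_dvd_of_pow_eq_one hνo)
  rw [orderOf_eq_one_iff] at h1
  rw [hν, div_eq_one] at h1
  exact h1

end Transfer

section LinearChar

variable {G : Type*} [Group G]

/-- Homomorphisms to `ℂˣ` as complex-valued functions, as a monoid homomorphism. -/
def homToFun (G : Type*) [Group G] : (G →* ℂˣ) →* (G → ℂ) where
  toFun f := fun g => (f g : ℂ)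
  map_one' := by funext g; simp
  map_mul' := fun f₁ f₂ => by funext g; simp

theorem homToFun_apply (f : G →* ℂˣ) (g : G) : homToFun G f g = (f g : ℂ) := rfl

theorem homToFun_injective : Function.Injective (homToFun G) := by
  intro f₁ f₂ h
  ext g
  exact congrFun h g

theorem orderOf_homToFun (f : G →* ℂˣ) : orderOf (homToFun G f) = orderOf f :=
  orderOf_injective (homToFun G) homToFun_injective f

theorem homToFun_linearCharHom {χ : G → ℂ} (hχ : Cfsg.IsCharacter G χ) (h1 : χ 1 = 1) :
    homToFun G (linearCharHom hχ h1) = χ := rfl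

/-- Coprime extension of invariant linear characters (Isaacs 6.27-type statement). -/
theorem exists_unique_linear_extension [Finite G] (N : Subgroup G) [hN : N.Normal] (lam : N → ℂ)
    (hlam : Cfsg.IsCharacter N lam ∧ lam 1 = 1)
    (hinv : ∀ (g : G) (n : N), lam ⟨g * n * g⁻¹, hN.conj_mem (n : G) n.2 g⟩ = lam n)
    (hcop : Nat.Coprime N.index (orderOf lam)) :
    ∃ μ : G → ℂ, (Cfsg.IsCharacter G μ ∧ μ 1 = 1 ∧ (∀ n : N, μ n = lam n) ∧
      orderOf μ = orderOf lam) ∧
      ∀ μ' : G → ℂ, Cfsg.IsCharacter G μ' ∧ μ' 1 = 1 → (∀ n : N, μ' n = lam n) →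
        Nat.Coprime N.index (orderOf μ') → μ' = μ := by
  set Λ := linearCharHom hlam.1 hlam.2 with hΛ
  have hΛlam : homToFun N Λ = lam := rfl
  have hinv' : ∀ (g : G) (n : N), Λ ⟨g * n * g⁻¹, hN.conj_mem (n : G) n.2 g⟩ = Λ n := by
    intro g n
    apply Units.ext
    exact hinv g n
  have hcop' : Nat.Coprime N.index (orderOf Λ) := by
    rw [← orderOf_homToFun, hΛlam]
    exact hcop
  obtain ⟨M, hMN, hMo, hMuniq⟩ := exists_unique_hom_extension N Λ hinv' hcop'
  refine ⟨homToFun G M, ⟨isCharacter_of_irr (isIrrCharacter_of_hom M), by simp [homToFun_apply],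
    ?_, ?_⟩, ?_⟩
  · intro n
    rw [homToFun_apply, hMN]
    rfl
  · rw [orderOf_homToFun, hMo, ← orderOf_homToFun, hΛlam]
  · intro μ' hμ' hμ'N hcopμ'
    set M' := linearCharHom hμ'.1 hμ'.2 with hM'
    have hM'μ' : homToFun G M' = μ' := rfl
    rw [← hM'μ']
    congr 1
    apply hMuniq
    · intro n
      apply Units.ext
      exact hμ'N n
    · rw [← orderOf_homToFun, hM'μ']
      exact hcopμ'

end LinearChar

end Cfsg.Agent.Lib.H23
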