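import Cfsg.Agent.Lib.H23.BrauerAux

/-!
# Brauer's induction theorem: the quasi-elementary step (helper23)

* `isElementary_sup_sylow`: for `C` normal cyclic of order prime to `p` and `P` a `p`-subgroup, the
  subgroup `C_C(P) ⊔ P` is `p`-elementary;
* `one_mem_elemSpan_of_isQE`: the trivial character of a `p`-quasi-elementary group is an integer
  combination of characters induced from `p`-elementary subgroups;
* `exists_const_mem_elemSpan`: for every finite group `G` some constant `m` prime to `p` is an integer
  combination of characters induced from `p`-elementary subgroups.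
-/

set_option autoImplicit false

universe u

namespace Cfsg.Agent.Lib.H23

open Cfsg.Agent.Lib.L0 Module
open scoped ComplexConjugate

section Elementary

variable {H : Type*} [Group H]

/-- `C_C(P) ⊔ P` is `p`-elementary. -/
theorem isElementary_sup {p : ℕ} (C : Subgroup H) (hCcyc : IsCyclic C)
    (hCcop : Nat.Coprime (Nat.card C) p) (P : Subgroup H) (j : ℕ) (hP : Nat.card P = p ^ j) :
    Cfsg.IsElementary p ↥((C ⊓ Subgroup.centralizer (P : Set H)) ⊔ P) := by
  classical
  set Z : Subgroup H := C ⊓ Subgroup.centralizer (P : Set H) with hZ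
  set E : Subgroup H := Z ⊔ P with hE
  have hZC : Z ≤ C := inf_le_left
  have hZE : Z ≤ E := le_sup_left
  have hPE : P ≤ E := le_sup_right
  have hCcomm : ∀ a ∈ C, ∀ b ∈ C, a * b = b * a := by
    intro a ha b hb
    have := mul_comm' (⟨a, ha⟩ : C) ⟨b, hb⟩
    exact congrArg Subtype.val this
  have hZcyc : IsCyclic Z := isCyclic_of_injective (Subgroup.inclusion hZC)
    (Subgroup.inclusion_injective hZC)
  obtain ⟨g, hg⟩ := hZcyc.exists_generator
  set z0 : H := (g : H) with hz0
  have hz0Z : z0 ∈ Z := g.2
  have hZeq : ∀ z : H, z ∈ Z ↔ z ∈ Subgroup.zpowers z0 := by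
    intro z
    constructor
    · intro hz
      obtain ⟨i, hi⟩ := Subgroup.mem_zpowers_iff.mp (hg ⟨z, hz⟩)
      refine Subgroup.mem_zpowers_iff.mpr ⟨i, ?_⟩
      have := congrArg Subtype.val hi
      simpa using this
    · intro hz
      obtain ⟨i, rfl⟩ := Subgroup.mem_zpowers_iff.mp hz
      exact Subgroup.zpow_mem _ hz0Z i
  -- every element of `Z` commutes with `E`
  have hZcentral : ∀ z ∈ Z, ∀ x ∈ E, x * z = z * x := by
    intro z hz
    have h1 : E ≤ Subgroup.centralizer ({z} : Set H) := by
      apply sup_le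
      · intro w hw
        rw [Subgroup.mem_centralizer_singleton_iff]
        exact hCcomm w (hZC hw) z (hZC hz)
      · intro y hy
        rw [Subgroup.mem_centralizer_singleton_iff]
        exact (Subgroup.mem_centralizer_iff.mp hz.2) y hy
    intro x hx
    have := h1 hx
    rw [Subgroup.mem_centralizer_singleton_iff] at this
    exact this
  let x : E := ⟨z0, hZE hz0Z⟩
  refine ⟨x, ?_, ?_, j, ?_⟩
  · rw [Subgroup.mem_center_iff]
    intro w
    apply Subtype.ext
    exact hZcentral z0 hz0Z w w.2
  · have h1 : orderOf x = orderOf z0 := Subgroup.orderOf_mk z0 (hZE hz0Z)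
    have h2 : orderOf z0 ∣ Nat.card C := by
      have := orderOf_dvd_natCard (⟨z0, hZC hz0Z⟩ : C)
      rwa [Subgroup.orderOf_mk] at this
    rw [h1]
    exact Nat.Coprime.coprime_dvd_left h2 hCcop
  · -- the index
    set Z' : Subgroup E := Z.subgroupOf E with hZ'
    set P' : Subgroup E := P.subgroupOf E with hP'
    have hzp : Subgroup.zpowers x = Z' := by
      ext w
      rw [hZ', Subgroup.mem_subgroupOf, hZeq]
      constructor
      · intro hw
        obtain ⟨i, rfl⟩ := Subgroup.mem_zpowers_iff.mp hw
        refine Subgroup.mem_zpowers_iff.mpr ⟨i, ?_⟩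
        simp [x]
      · intro hw
        obtain ⟨i, hi⟩ := Subgroup.mem_zpowers_iff.mp hw
        refine Subgroup.mem_zpowers_iff.mpr ⟨i, ?_⟩
        apply Subtype.ext
        simpa [x] using hi
    have hZ'normal : Z'.Normal := by
      constructor
      intro n hn w
      have h1 : (w : H) * (n : H) = (n : H) * (w : H) := hZcentral n hn w w.2
      have h2 : w * n * w⁻¹ = n := by
        apply Subtype.ext
        push_cast
        rw [h1, mul_inv_cancel_right]
      rw [h2]
      exact hn
    have htop : Z' ⊔ P' = ⊤ := by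
      rw [hZ', hP', ← Subgroup.subgroupOf_sup hZE hPE]
      exact Subgroup.subgroupOf_self _
    have hbot : Z' ⊓ P' = ⊥ := by
      rw [eq_bot_iff]
      intro w hw
      rw [Subgroup.mem_bot]
      have h1 : (w : H) ∈ C ⊓ P := ⟨hZC hw.1, hw.2⟩
      have hcop : Nat.Coprime (Nat.card C) (Nat.card P) := by
        rw [hP]; exact Nat.Coprime.pow_right j hCcop
      rw [(Subgroup.disjoint_of_coprime_natCard hcop).eq_bot, Subgroup.mem_bot] at h1
      exact Subtype.ext h1
    rw [hzp, ← Subgroup.relIndex_top_right, ← htop, Subgroup.relIndex_sup_left,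
      ← Subgroup.inf_relIndex_right, hbot, Subgroup.relIndex_bot_left,
      Nat.card_congr (Subgroup.subgroupOfEquivOfLe hPE).toEquiv, hP]

end Elementary

section Main

/-- The trivial character of a `p`-quasi-elementary group is an integer combination of characters
induced from `p`-elementary subgroups. -/
theorem one_mem_elemSpan_aux (p : ℕ) (hp : p.Prime) : ∀ (n : ℕ) (H : Type u) [Group H] [Fintype H],
    IsQE p H → Nat.card H = n → (fun _ : H => (1 : ℂ)) ∈ elemSpan p H := by
  intro n
  induction n using Nat.strong_induction_on with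
  | _ n ih =>
    intro H _ _ hQE hcard
    classical
    have : Fact p.Prime := ⟨hp⟩
    obtain ⟨C, hCn, hCcyc, hCcop, k, hCidx⟩ := id hQE
    have : Fintype C := Fintype.ofFinite C
    let P : Sylow p H := default
    obtain ⟨j, hj⟩ := IsPGroup.iff_card.mp P.isPGroup'
    have hcopPC : Nat.Coprime (Nat.card (P : Subgroup H)) (Nat.card C) := by
      rw [hj]; exact Nat.Coprime.pow_left j hCcop.symm
    -- `C ⊔ P = ⊤`
    have hCP : C ⊔ (P : Subgroup H) = ⊤ := by
      rw [← Subgroup.index_eq_one]
      have h1 : (C ⊔ (P : Subgroup H)).index ∣ p ^ k := by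
        rw [← hCidx]; exact Subgroup.index_dvd_of_le le_sup_left
      have h2 : (C ⊔ (P : Subgroup H)).index ∣ (P : Subgroup H).index :=
        Subgroup.index_dvd_of_le le_sup_right
      obtain ⟨i, _, hi⟩ := (Nat.dvd_prime_pow hp).mp h1
      rcases Nat.eq_zero_or_pos i with h0 | hpos
      · rw [hi, h0, pow_zero]
      · exfalso
        apply P.not_dvd_index
        refine dvd_trans ?_ h2
        rw [hi]
        exact dvd_pow_self p hpos.ne'
    set Z : Subgroup H := C ⊓ Subgroup.centralizer ((P : Subgroup H) : Set H) with hZ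
    set E : Subgroup H := Z ⊔ (P : Subgroup H) with hE
    have : Fintype E := Fintype.ofFinite E
    have hEelem : Cfsg.IsElementary p E := isElementary_sup C hCcyc hCcop (P : Subgroup H) j hj
    have hCE : C ⊔ E = ⊤ := by
      rw [eq_top_iff, ← hCP]
      exact sup_le le_sup_left (le_trans le_sup_right le_sup_right)
    have hZE : Z ≤ E := le_sup_left
    -- the induced character
    set Φ : H → ℂ := Cfsg.indFun E (fun _ => (1 : ℂ)) with hΦ
    have h1E : Cfsg.IsCharacter E (fun _ => (1 : ℂ)) :=
      isCharacter_of_irr (isIrrCharacter_one (G := E))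
    have hΦmem : Φ ∈ elemSpan p H := indFun_mem_elemSpan_of_isElementary E _ hEelem h1E
    have hΦchar : Cfsg.IsCharacter H Φ := isCharacter_indFun E h1E
    obtain ⟨l, hl, hsum⟩ := isCharacter_exists_irr_decomp hΦchar
    have h1H : Cfsg.IsIrrCharacter H (fun _ => (1 : ℂ)) := isIrrCharacter_one (G := H)
    have hcount : l.count (fun _ : H => (1 : ℂ)) = 1 := by
      have h1 : Cfsg.classInner Φ (fun _ : H => (1 : ℂ)) = 1 := by
        rw [hΦ, Cfsg.Agent.Lib.L0.frobenius_reciprocity E _ _
          (isClassFunction_of_isCharacter (isCharacter_of_irr h1H))]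
        exact irr_classInner_self (isIrrCharacter_one (G := E))
      rw [hsum, classInner_irr_list_sum hl h1H] at h1
      exact_mod_cast h1
    have h1mem : (fun _ : H => (1 : ℂ)) ∈ l := List.count_pos_iff.mp (by rw [hcount]; exact one_pos)
    -- every other constituent lies in `elemSpan`
    have hothers : ∀ χ ∈ l.erase (fun _ : H => (1 : ℂ)), χ ∈ elemSpan p H := by
      intro χ hχmem
      have hχl : χ ∈ l := List.mem_of_mem_erase hχmem
      have hχirr := hl χ hχl
      have hχne : χ ≠ fun _ : H => (1 : ℂ) := by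
        rintro rfl
        have h1 : (l.erase (fun _ : H => (1 : ℂ))).count (fun _ : H => (1 : ℂ)) = 0 := by
          rw [List.count_erase_self, hcount]
        exact (List.count_eq_zero.mp h1) hχmem
      have hχΦ : Cfsg.classInner Φ χ ≠ 0 := by
        rw [hsum, classInner_irr_list_sum hl hχirr]
        exact Nat.cast_ne_zero.mpr (List.count_pos_iff.mpr hχl).ne'
      have hχE : ∑ e : E, χ e ≠ 0 := by
        rw [hΦ, Cfsg.Agent.Lib.L0.frobenius_reciprocity E _ _
          (isClassFunction_of_isCharacter (isCharacter_of_irr hχirr))] at hχΦ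
        unfold Cfsg.classInner at hχΦ
        intro h0
        apply hχΦ
        have : ∑ g : E, (1 : ℂ) * conj (χ g) = conj (∑ g : E, χ g) := by
          rw [map_sum]
          simp
        rw [this, h0, map_zero, mul_zero]
      have hχ1 : χ 1 ≠ 0 := Cfsg.Agent.Lib.H24.irr_one_ne_zero ⟨χ, hχirr⟩
      obtain ⟨lam, hlam, hcon⟩ := exists_irr_constituent
        (isCharacter_restrict C (isCharacter_of_irr hχirr)) (by simpa using hχ1)
      set T : Subgroup H := inertia C lam with hT
      have : Fintype T := Fintype.ofFinite T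
      have hCT : C ≤ T := le_inertia C (isClassFunction_of_isCharacter (isCharacter_of_irr hlam))
      by_cases hTtop : T = ⊤
      · exfalso
        apply hχne
        have hinv : ∀ (g : H) (n : C), lam ⟨g * n * g⁻¹, hCn.conj_mem (n : H) n.2 g⟩ = lam n := by
          intro g
          have : g ∈ T := by rw [hTtop]; trivial
          exact this
        exact eq_one_of_invariant_constituent C hCcyc (P : Subgroup H) hcopPC E hZE hCE χ hχirr hχE
          lam hlam hcon hinv
      · obtain ⟨ψ, hψ, hind, -⟩ :=
          clifford_correspondence C T hCT lam hlam (fun g => Iff.rfl) χ hχirr hcon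
        have hlt : Nat.card T < n := by
          rw [← hcard]
          exact lt_of_le_of_ne (Subgroup.card_le_card_group T)
            (fun h => hTtop (Subgroup.eq_top_of_card_eq T h))
        have h1T := ih (Nat.card T) hlt T (IsQE.subgroup hp hQE T) rfl
        have hψmem : ψ ∈ elemSpan p T := by
          have := elemSpan_mul_char h1T (isCharacter_of_irr hψ)
          convert this using 1
          funext t
          simp
        rw [← hind]
        exact indFun_mem_elemSpan T hψmem
    have hdecomp : (fun _ : H => (1 : ℂ)) = Φ - (l.erase (fun _ : H => (1 : ℂ))).sum := by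
      rw [hsum, ← List.sum_erase h1mem]
      simp
    rw [hdecomp]
    exact AddSubgroup.sub_mem _ hΦmem (AddSubgroup.list_sum_mem _ hothers)

theorem one_mem_elemSpan_of_isQE {p : ℕ} (hp : p.Prime) {H : Type u} [Group H] [Fintype H]
    (h : IsQE p H) : (fun _ : H => (1 : ℂ)) ∈ elemSpan p H :=
  one_mem_elemSpan_aux p hp _ H h rfl

/-- For every finite group, some constant `m` prime to `p` is an integer combination of characters
induced from `p`-elementary subgroups. -/
theorem exists_const_mem_elemSpan {G : Type u} [Group G] [Fintype G] (p : ℕ) (hp : p.Prime) :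
    ∃ m : ℤ, ¬ (p : ℤ) ∣ m ∧ (fun _ : G => (m : ℂ)) ∈ elemSpan p G := by
  classical
  obtain ⟨m, hm, hmem⟩ := exists_const_mem_qeSpan (G := G) p hp
  refine ⟨m, hm, ?_⟩
  have hle : qeSpan p G ≤ elemSpan p G := by
    unfold qeSpan
    rw [AddSubgroup.closure_le]
    rintro f ⟨U, hU, rfl⟩
    have : Fintype U := Fintype.ofFinite U
    exact indFun_mem_elemSpan U (one_mem_elemSpan_of_isQE hp (isQE_of_isQESub hU))
  exact hle hmem

end Main

section ListForm

variable {G : Type u} [Group G] [Fintype G]

theorem neg_sum_map_smul_indFun (l : List ((E : Subgroup G) × ((E → ℂ) × ℤ))) :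
    -(l.map fun t => (t.2.2 : ℂ) • Cfsg.indFun t.1 t.2.1).sum =
      ((l.map (fun t => (⟨t.1, (t.2.1, -t.2.2)⟩ : (E : Subgroup G) × ((E → ℂ) × ℤ)))).map
        fun t => (t.2.2 : ℂ) • Cfsg.indFun t.1 t.2.1).sum := by
  induction l with
  | nil => simp
  | cons t l ih =>
    rw [List.map_cons, List.sum_cons, List.map_cons, List.map_cons, List.sum_cons, neg_add, ih]
    congr 1
    simp

/-- Elements of `elemSpan` as explicit lists. -/
theorem exists_list_of_mem_elemSpan {p : ℕ} {f : G → ℂ} (hf : f ∈ elemSpan p G) :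
    ∃ l : List ((E : Subgroup G) × ((E → ℂ) × ℤ)),
      (∀ t ∈ l, Cfsg.IsElementary p t.1 ∧ Cfsg.IsCharacter t.1 t.2.1) ∧
      f = (l.map fun t => (t.2.2 : ℂ) • Cfsg.indFun t.1 t.2.1).sum := by
  induction hf using AddSubgroup.closure_induction with
  | mem f hf =>
    obtain ⟨E, ψ, hE, hψ, rfl⟩ := hf
    refine ⟨[⟨E, (ψ, 1)⟩], ?_, ?_⟩
    · intro t ht
      rw [List.mem_singleton] at ht
      subst ht
      exact ⟨hE, hψ⟩
    · simp
  | zero => exact ⟨[], by simp, by simp⟩
  | add f₁ f₂ _ _ h₁ h₂ =>
    obtain ⟨l₁, hl₁, rfl⟩ := h₁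
    obtain ⟨l₂, hl₂, rfl⟩ := h₂
    refine ⟨l₁ ++ l₂, ?_, ?_⟩
    · intro t ht
      rcases List.mem_append.mp ht with h | h
      · exact hl₁ t h
      · exact hl₂ t h
    · rw [List.map_append, List.sum_append]
  | neg f _ h =>
    obtain ⟨l, hl, rfl⟩ := h
    refine ⟨l.map (fun t => ⟨t.1, (t.2.1, -t.2.2)⟩), ?_, ?_⟩
    · intro t ht
      obtain ⟨t', ht', rfl⟩ := List.mem_map.mp ht
      exact hl t' ht'
    · exact (neg_sum_map_smul_indFun l).symm ▸ rfl

end ListForm

end Cfsg.Agent.Lib.H23
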