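import Mathlib

/-!
# Weighted orbit counting modulo `p`

`sum_modEq_sum_fixed`: for an action (given as a bare function) of a finite group `E` on a finite
invariant set `S`, such that a subgroup `D` of `p`-power index acts trivially on `S`, and an
invariant weight `F : X → ℕ`, the total weight of `S` is congruent mod `p` to the weight of the
fixed points.
-/

set_option autoImplicit false

namespace Cfsg.Agent.Lib.H23

theorem sum_modEq_sum_fixed {E X : Type*} [Group E] [Finite E]
    (p : ℕ) (hp : p.Prime) (act : E → X → X) (h1 : ∀ x, act 1 x = x)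
    (hmul : ∀ g h x, act (g * h) x = act g (act h x))
    (D : Subgroup E) (hD : ∃ j : ℕ, D.index = p ^ j) (F : X → ℕ) [DecidableEq X]
    [DecidablePred (fun s : X => ∀ g, act g s = s)] :
    ∀ (S : Finset X), (∀ g, ∀ s ∈ S, act g s ∈ S) → (∀ d ∈ D, ∀ s ∈ S, act d s = s) →
      (∀ g, ∀ s ∈ S, F (act g s) = F s) →
      (∑ s ∈ S, F s) ≡ ∑ s ∈ S.filter (fun s => ∀ g, act g s = s), F s [MOD p] := by
  classical
  have := Fintype.ofFinite E
  let _ : MulAction E X := { smul := act, one_smul := h1, mul_smul := hmul }
  have hsmul : ∀ (g : E) (x : X), g • x = act g x := fun _ _ => rfl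
  intro S
  induction S using Finset.strongInduction with
  | H S ih =>
    intro hS hDfix hF
    by_cases hall : ∀ s ∈ S, ∀ g, act g s = s
    · rw [Finset.filter_true_of_mem hall]
    · push Not at hall
      obtain ⟨s₀, hs₀, g₀, hg₀⟩ := hall
      set O : Finset X := Finset.univ.image (fun g : E => act g s₀) with hO
      have hmemO : ∀ x, x ∈ O ↔ ∃ g : E, act g s₀ = x := by
        intro x
        rw [hO, Finset.mem_image]
        constructor
        · rintro ⟨g, -, rfl⟩; exact ⟨g, rfl⟩
        · rintro ⟨g, rfl⟩; exact ⟨g, Finset.mem_univ _, rfl⟩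
      have hOS : O ⊆ S := by
        intro x hx
        obtain ⟨g, rfl⟩ := (hmemO x).mp hx
        exact hS g s₀ hs₀
      have hs₀O : s₀ ∈ O := (hmemO s₀).mpr ⟨1, h1 s₀⟩
      -- the complement is invariant
      have hinvC : ∀ g, ∀ s ∈ S \ O, act g s ∈ S \ O := by
        intro g s hs
        rw [Finset.mem_sdiff] at hs ⊢
        refine ⟨hS g s hs.1, fun hgs => hs.2 ?_⟩
        obtain ⟨h, hh⟩ := (hmemO _).mp hgs
        refine (hmemO s).mpr ⟨g⁻¹ * h, ?_⟩
        rw [hmul, hh, ← hmul, inv_mul_cancel, h1]
      have hlt : S \ O ⊂ S := by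
        refine Finset.ssubset_iff_subset_ne.mpr ⟨Finset.sdiff_subset, fun heq => ?_⟩
        have : s₀ ∈ S \ O := by rw [heq]; exact hs₀
        exact (Finset.mem_sdiff.mp this).2 hs₀O
      have hih := ih (S \ O) hlt hinvC
        (fun d hd s hs => hDfix d hd s (Finset.mem_sdiff.mp hs).1)
        (fun g s hs => hF g s (Finset.mem_sdiff.mp hs).1)
      -- the orbit sum
      have hsumO : ∑ s ∈ O, F s = O.card * F s₀ := by
        apply Finset.sum_const_nat
        intro x hx
        obtain ⟨g, rfl⟩ := (hmemO x).mp hx
        exact hF g s₀ hs₀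
      -- the orbit size
      have hOorb : (O : Set X) = MulAction.orbit E s₀ := by
        ext x
        rw [Finset.mem_coe, hmemO, MulAction.mem_orbit_iff]
        rfl
      have hcardO : O.card = (MulAction.stabilizer E s₀).index := by
        rw [MulAction.index_stabilizer, ← hOorb, Set.ncard_coe_finset]
      have hDle : D ≤ MulAction.stabilizer E s₀ := by
        intro d hd
        rw [MulAction.mem_stabilizer_iff, hsmul]
        exact hDfix d hd s₀ hs₀
      obtain ⟨j, hj⟩ := hD
      have hdvd : (MulAction.stabilizer E s₀).index ∣ p ^ j := by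
        rw [← hj]
        exact Subgroup.index_dvd_of_le hDle
      obtain ⟨i, -, hi⟩ := (Nat.dvd_prime_pow hp).mp hdvd
      have hpO : p ∣ O.card := by
        rw [hcardO, hi]
        have hi0 : i ≠ 0 := by
          rintro rfl
          rw [pow_zero] at hi
          rw [hi] at hcardO
          have hg₀O : act g₀ s₀ ∈ O := (hmemO _).mpr ⟨g₀, rfl⟩
          obtain ⟨a, ha⟩ := Finset.card_eq_one.mp hcardO
          rw [ha, Finset.mem_singleton] at hg₀O hs₀O
          exact hg₀ (hg₀O.trans hs₀O.symm)
        exact dvd_pow_self p hi0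
      -- fixed points avoid the orbit
      have hfilter : S.filter (fun s => ∀ g, act g s = s) =
          (S \ O).filter (fun s => ∀ g, act g s = s) := by
        ext s
        simp only [Finset.mem_filter, Finset.mem_sdiff]
        constructor
        · rintro ⟨hs, hfix⟩
          refine ⟨⟨hs, fun hsO => ?_⟩, hfix⟩
          obtain ⟨h, rfl⟩ := (hmemO s).mp hsO
          have h2 := hfix h⁻¹
          rw [← hmul, inv_mul_cancel, h1] at h2
          apply hg₀
          have h3 := hfix g₀
          rw [← h2] at h3
          exact h3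
        · rintro ⟨⟨hs, -⟩, hfix⟩
          exact ⟨hs, hfix⟩
      rw [hfilter, ← Finset.sum_sdiff hOS, hsumO]
      calc ∑ x ∈ S \ O, F x + O.card * F s₀ ≡ ∑ x ∈ S \ O, F x + 0 [MOD p] := by
            apply Nat.ModEq.add_left
            exact (Nat.modEq_zero_iff_dvd.mpr (Dvd.dvd.mul_right hpO _))
        _ ≡ _ [MOD p] := by
            rw [add_zero]
            exact hih

end Cfsg.Agent.Lib.H23
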