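import Mathlib
import Cfsg.Prelude.Def_Characters
import Cfsg.Agent.Lib.L0.CharOps
import Cfsg.Agent.Lib.L0.CharInd
import Cfsg.Agent.Lib.L0.CharBasic
import Cfsg.Agent.Lib.L0.CharInner
import Cfsg.Agent.Lib.H8.Clifford
import Cfsg.Agent.Lib.H24.CharOrth
import Cfsg.Agent.Lib.H23.CliffordCorr
import Cfsg.Agent.Lib.H23.OrbitSum
import Cfsg.Agent.Lib.H23.BrauerInd

/-!
# Isaacs 8.24: invariant constituents over `p`-elementary subgroups
-/

set_option autoImplicit false

namespace Cfsg.Agent.Lib.H23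

open Cfsg Cfsg.Agent.Lib.L0 Cfsg.Agent.Lib.H24
open scoped ComplexConjugate

section invariantConstituent

variable {E : Type*} [Group E] [Fintype E] (D : Subgroup E) [hD : D.Normal]

/-- The (left) conjugation action on functions on a normal subgroup. -/
def conjAct (g : E) (f : D → ℂ) : D → ℂ :=
  fun n => f ⟨g⁻¹ * n * g⁻¹⁻¹, hD.conj_mem n n.2 g⁻¹⟩

omit [Fintype E] in
theorem conjAct_one (f : D → ℂ) : conjAct D 1 f = f := by
  funext n
  unfold conjAct
  congr 1
  apply Subtype.ext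
  show (1 : E)⁻¹ * n * (1 : E)⁻¹⁻¹ = n
  simp

omit [Fintype E] in
theorem conjAct_mul (g h : E) (f : D → ℂ) : conjAct D (g * h) f = conjAct D g (conjAct D h f) := by
  funext n
  unfold conjAct
  congr 1
  apply Subtype.ext
  show (g * h)⁻¹ * n * (g * h)⁻¹⁻¹ = h⁻¹ * (g⁻¹ * n * g⁻¹⁻¹) * h⁻¹⁻¹
  group

omit [Fintype E] in
theorem conjAct_eq_comp (g : E) (f : D → ℂ) :
    conjAct D g f = f ∘ (MulAut.conjNormal g⁻¹ : MulAut D) := by
  funext n
  unfold conjAct
  rw [Function.comp_apply]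
  exact congrArg f (Subtype.ext (MulAut.conjNormal_apply g⁻¹ n).symm)

omit [Fintype E] in
theorem conjAct_eq_self_iff (f : D → ℂ) :
    (∀ g : E, conjAct D g f = f) ↔
      ∀ (g : E) (n : D), f ⟨g * n * g⁻¹, hD.conj_mem n n.2 g⟩ = f n := by
  constructor
  · intro h g n
    have := congrFun (h g⁻¹) n
    unfold conjAct at this
    rw [← this]
    congr 1
    apply Subtype.ext
    show g * n * g⁻¹ = g⁻¹⁻¹ * n * g⁻¹⁻¹⁻¹
    group
  · intro h g
    funext n
    exact h g⁻¹ n

omit [Fintype E] in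
theorem classInner_conjAct [Fintype D] (g : E) (a b : D → ℂ) :
    classInner (conjAct D g a) (conjAct D g b) = classInner a b := by
  rw [conjAct_eq_comp, conjAct_eq_comp]
  exact classInner_comp_equiv (MulAut.conjNormal g⁻¹ : MulAut D) a b

omit [Fintype E] in
theorem isIrrCharacter_conjAct (g : E) {f : D → ℂ} (hf : IsIrrCharacter D f) :
    IsIrrCharacter D (conjAct D g f) :=
  Cfsg.Agent.Lib.H8.isIrrCharacter_conjNormal D f hf g⁻¹

omit [Fintype E] in
theorem conjAct_of_mem {f : D → ℂ} (hf : IsClassFunction D f) (d : E) (hd : d ∈ D) :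
    conjAct D d f = f := by
  funext n
  unfold conjAct
  have := hf n (⟨d, hd⟩⁻¹ : D)
  rw [← this]
  congr 1

/-- An invariant pair of characters with inner product prime to `p` has a common invariant
irreducible constituent with multiplicity prime to `p`, when the index is a power of `p`. -/
theorem exists_invariant_constituent [Fintype D] (p : ℕ) (hp : p.Prime)
    (hidx : ∃ j : ℕ, D.index = p ^ j)
    (α β : D → ℂ) (hα : IsCharacter D α) (hβ : IsCharacter D β)
    (hαinv : ∀ (g : E) (n : D), α ⟨g * n * g⁻¹, hD.conj_mem n n.2 g⟩ = α n)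
    (hβinv : ∀ (g : E) (n : D), β ⟨g * n * g⁻¹, hD.conj_mem n n.2 g⟩ = β n)
    (m : ℕ) (hm : classInner α β = m) (hpm : ¬ p ∣ m) :
    ∃ φ : D → ℂ, IsIrrCharacter D φ ∧
      (∀ (g : E) (n : D), φ ⟨g * n * g⁻¹, hD.conj_mem n n.2 g⟩ = φ n) ∧
      ∃ a : ℕ, classInner α φ = a ∧ ¬ p ∣ a := by
  classical
  have := Fintype.ofFinite (IrrCharacter D)
  have hαinv' := (conjAct_eq_self_iff D α).mpr hαinv
  have hβinv' := (conjAct_eq_self_iff D β).mpr hβinv
  -- multiplicities as natural numbers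
  choose a ha using fun χ : IrrCharacter D => classInner_char_irr_nat hα χ.2
  choose b hb using fun χ : IrrCharacter D => classInner_char_irr_nat hβ χ.2
  -- Parseval
  have hpars : classInner α β = ∑ χ : IrrCharacter D, ((a χ * b χ : ℕ) : ℂ) := by
    conv_lhs => rw [classFunction_expansion α (isClassFunction_of_isCharacter hα)]
    rw [classInner_sum_left]
    refine Finset.sum_congr rfl fun χ _ => ?_
    rw [classInner_smul_left, ha χ, ← classInner_conj_symm, hb χ, Complex.conj_natCast]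
    push_cast
    ring
  have hmsum : m = ∑ χ : IrrCharacter D, a χ * b χ := by
    have : ((m : ℕ) : ℂ) = ((∑ χ : IrrCharacter D, a χ * b χ : ℕ) : ℂ) := by
      rw [← hm, hpars]
      push_cast
      rfl
    exact_mod_cast this
  -- set up the counting
  let F : (D → ℂ) → ℕ := fun f =>
    ⌊(classInner α f).re⌋₊ * ⌊(classInner β f).re⌋₊
  have hFirr : ∀ χ : IrrCharacter D, F χ.1 = a χ * b χ := by
    intro χ
    show ⌊(classInner α χ.1).re⌋₊ * ⌊(classInner β χ.1).re⌋₊ = a χ * b χ
    rw [ha χ, hb χ]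
    simp
  let S : Finset (D → ℂ) := Finset.univ.image (fun χ : IrrCharacter D => (χ : D → ℂ))
  have hmemS : ∀ f, f ∈ S ↔ IsIrrCharacter D f := by
    intro f
    constructor
    · intro hf
      obtain ⟨χ, -, rfl⟩ := Finset.mem_image.mp hf
      exact χ.2
    · intro hf
      exact Finset.mem_image.mpr ⟨⟨f, hf⟩, Finset.mem_univ _, rfl⟩
  have hsumS : ∑ f ∈ S, F f = m := by
    rw [hmsum, Finset.sum_image]
    · exact Finset.sum_congr rfl fun χ _ => hFirr χ
    · intro x _ y _ hxy
      exact Subtype.ext hxy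
  have hcount := sum_modEq_sum_fixed p hp (conjAct D) (conjAct_one D) (conjAct_mul D) D hidx F S
    (fun g s hs => (hmemS _).mpr (isIrrCharacter_conjAct D g ((hmemS s).mp hs)))
    (fun d hd s hs => conjAct_of_mem D
      (isClassFunction_of_isCharacter (isCharacter_of_irr ((hmemS s).mp hs))) d hd)
    (fun g s _ => by
      show ⌊(classInner α (conjAct D g s)).re⌋₊ * ⌊(classInner β (conjAct D g s)).re⌋₊ =
        ⌊(classInner α s).re⌋₊ * ⌊(classInner β s).re⌋₊
      have h1 : classInner α (conjAct D g s) = classInner α s := by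
        conv_lhs => rw [← hαinv' g]
        exact classInner_conjAct D g α s
      have h2 : classInner β (conjAct D g s) = classInner β s := by
        conv_lhs => rw [← hβinv' g]
        exact classInner_conjAct D g β s
      rw [h1, h2])
  rw [hsumS] at hcount
  -- some fixed point has weight prime to p
  have hex : ∃ f ∈ S.filter (fun s => ∀ g, conjAct D g s = s), ¬ p ∣ F f := by
    by_contra hno
    push Not at hno
    apply hpm
    have h0 : p ∣ ∑ s ∈ S.filter (fun s => ∀ g, conjAct D g s = s), F s :=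
      Finset.dvd_sum hno
    exact (Nat.modEq_zero_iff_dvd.mp (hcount.trans (Nat.modEq_zero_iff_dvd.mpr h0)))
  obtain ⟨f, hf, hpf⟩ := hex
  rw [Finset.mem_filter] at hf
  have hfirr := (hmemS f).mp hf.1
  refine ⟨f, hfirr, (conjAct_eq_self_iff D f).mp hf.2, a ⟨f, hfirr⟩, ha ⟨f, hfirr⟩, ?_⟩
  intro hdvd
  apply hpf
  rw [hFirr ⟨f, hfirr⟩]
  exact Dvd.dvd.mul_right hdvd _

end invariantConstituent

section keyIdentity

variable {G : Type*} [Group G] [Fintype G] (N : Subgroup G) [hN : N.Normal]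

omit [Fintype G] in
/-- `|ϑ|²` extended by zero is a class function of `G` when `ϑ` is `G`-invariant. -/
theorem isClassFunction_extendByZero_normSq (ϑ : N → ℂ)
    (hinv : ∀ (g : G) (n : N), ϑ ⟨g * n * g⁻¹, hN.conj_mem (n : G) n.2 g⟩ = ϑ n) :
    IsClassFunction G (extendByZero N (fun n => ϑ n * conj (ϑ n))) := by
  intro g h
  by_cases hg : g ∈ N
  · rw [extendByZero_apply_of_mem N _ (hN.conj_mem g hg h), extendByZero_apply_of_mem N _ hg]
    have := hinv h ⟨g, hg⟩
    simp only at this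
    rw [this]
  · have hg' : h * g * h⁻¹ ∉ N := by
      intro hmem
      apply hg
      have := hN.conj_mem _ hmem h⁻¹
      have h2 : h⁻¹ * (h * g * h⁻¹) * h⁻¹⁻¹ = g := by group
      rwa [h2] at this
    rw [extendByZero_apply_not_mem N _ hg, extendByZero_apply_not_mem N _ hg']

omit [Fintype G] hN in
theorem conj_extendByZero_normSq (ϑ : N → ℂ) (g : G) :
    conj (extendByZero N (fun n => ϑ n * conj (ϑ n)) g) =
      extendByZero N (fun n => ϑ n * conj (ϑ n)) g := by
  by_cases hg : g ∈ N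
  · rw [extendByZero_apply_of_mem N _ hg, map_mul, Complex.conj_conj, mul_comm]
  · rw [extendByZero_apply_not_mem N _ hg, map_zero]

omit [Fintype G] hN in
theorem extendByZero_subgroupOf (E : Subgroup G) (θ : N → ℂ) (e : E) :
    extendByZero (N.subgroupOf E) (fun x => θ ⟨((x : E) : G), x.2⟩) e =
      extendByZero N θ (e : G) := by
  by_cases he : (e : G) ∈ N
  · have he' : e ∈ N.subgroupOf E := he
    rw [extendByZero_apply_of_mem _ _ he', extendByZero_apply_of_mem N _ he]
  · have he' : e ∉ N.subgroupOf E := he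
    rw [extendByZero_apply_not_mem _ _ he', extendByZero_apply_not_mem N _ he]

omit [Fintype G] in
theorem card_identity [Finite G] (E : Subgroup G) :
    Nat.card G * Nat.card (N.subgroupOf E) = (E ⊔ N).index * (Nat.card N * Nat.card E) := by
  have h1 : N.relIndex (E ⊔ N) * (E ⊔ N).index = N.index :=
    Subgroup.relIndex_mul_index le_sup_right
  have h2 : N.relIndex (E ⊔ N) = N.relIndex E := Subgroup.relIndex_sup_right E N
  have h3 : (N.subgroupOf E).index * Nat.card (N.subgroupOf E) = Nat.card E :=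
    Subgroup.index_mul_card _
  have h4 : N.index * Nat.card N = Nat.card G := Subgroup.index_mul_card _
  have h5 : N.relIndex E = (N.subgroupOf E).index := rfl
  rw [← h4, ← h1, h2, ← h3, ← h5]
  ring

/-- The key computation in the proof of Isaacs 8.24. -/
theorem classInner_indFun_mul_invariant [Fintype N] (ϑ : N → ℂ)
    (hinv : ∀ (g : G) (n : N), ϑ ⟨g * n * g⁻¹, hN.conj_mem (n : G) n.2 g⟩ = ϑ n)
    (E : Subgroup G) [Fintype E] [Fintype (N.subgroupOf E)] (ψ : E → ℂ) :
    classInner (fun n : N => indFun E ψ n * ϑ n) ϑ =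
      ((E ⊔ N).index : ℂ) *
        classInner (fun x : N.subgroupOf E => ψ x * ϑ ⟨((x : E) : G), x.2⟩)
          (fun x : N.subgroupOf E => ϑ ⟨((x : E) : G), x.2⟩) := by
  set f : G → ℂ := extendByZero N (fun n => ϑ n * conj (ϑ n)) with hf
  have hfc : IsClassFunction G f := isClassFunction_extendByZero_normSq N ϑ hinv
  have hfr : ∀ g, conj (f g) = f g := conj_extendByZero_normSq N ϑ
  -- LHS
  have hL : ∑ n : N, (indFun E ψ n * ϑ n) * conj (ϑ n) =
      (Nat.card G : ℂ) * classInner (indFun E ψ) f := by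
    have h1 : ∑ n : N, (indFun E ψ n * ϑ n) * conj (ϑ n) =
        ∑ n : N, (ϑ n * conj (ϑ n)) * indFun E ψ n :=
      Finset.sum_congr rfl fun n _ => by ring
    rw [h1, ← sum_extendByZero_mul N (fun n => ϑ n * conj (ϑ n)) (indFun E ψ)]
    unfold classInner
    rw [← mul_assoc, mul_inv_cancel₀, one_mul]
    · refine Finset.sum_congr rfl fun g _ => ?_
      rw [hfr g, mul_comm]
    · exact_mod_cast (Nat.card_pos (α := G)).ne'
  have hR : classInner ψ (fun e : E => f e) =
      (Nat.card E : ℂ)⁻¹ * ∑ x : N.subgroupOf E,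
        (ψ x * ϑ ⟨((x : E) : G), x.2⟩) * conj (ϑ ⟨((x : E) : G), x.2⟩) := by
    unfold classInner
    congr 1
    have h2 : ∑ e : E, ψ e * conj (f e) =
        ∑ e : E, extendByZero (N.subgroupOf E)
          (fun x => (fun n : N => ϑ n * conj (ϑ n)) ⟨((x : E) : G), x.2⟩) e * ψ e := by
      refine Finset.sum_congr rfl fun e _ => ?_
      rw [hfr, extendByZero_subgroupOf N E (fun n : N => ϑ n * conj (ϑ n)) e, mul_comm]
    rw [h2, sum_extendByZero_mul]
    refine Finset.sum_congr rfl fun x _ => ?_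
    ring
  have hcard := card_identity N E
  have hcardC : (Nat.card G : ℂ) * (Nat.card (N.subgroupOf E) : ℂ) =
      ((E ⊔ N).index : ℂ) * ((Nat.card N : ℂ) * (Nat.card E : ℂ)) := by exact_mod_cast hcard
  have hN0 : (Nat.card N : ℂ) ≠ 0 := by exact_mod_cast (Nat.card_pos (α := N)).ne'
  have hE0 : (Nat.card E : ℂ) ≠ 0 := by exact_mod_cast (Nat.card_pos (α := E)).ne'
  have hD0 : (Nat.card (N.subgroupOf E) : ℂ) ≠ 0 := by
    exact_mod_cast (Nat.card_pos (α := N.subgroupOf E)).ne'
  have hLHS : classInner (fun n : N => indFun E ψ n * ϑ n) ϑ =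
      (Nat.card N : ℂ)⁻¹ * ((Nat.card G : ℂ) * classInner (indFun E ψ) f) := by
    rw [← hL]
    rfl
  rw [hLHS, frobenius_reciprocity E ψ f hfc, hR]
  unfold classInner
  set T := ∑ x : N.subgroupOf E,
        (ψ x * ϑ ⟨((x : E) : G), x.2⟩) * conj (ϑ ⟨((x : E) : G), x.2⟩) with hT
  field_simp
  linear_combination T * hcardC

end keyIdentity

section main

variable {G : Type*} [Group G] [Fintype G] (N : Subgroup G) [hN : N.Normal]

theorem list_sum_eq_prime_mul (p : ℕ) {ι : Type*} (f : ι → ℂ) :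
    ∀ l : List ι, (∀ t ∈ l, ∃ z : ℤ, f t = (p : ℂ) * z) → ∃ z : ℤ, (l.map f).sum = (p : ℂ) * z := by
  intro l
  induction l with
  | nil => intro _; exact ⟨0, by simp⟩
  | cons a l ih =>
    intro h
    obtain ⟨z1, hz1⟩ := h a (List.mem_cons_self)
    obtain ⟨z2, hz2⟩ := ih (fun t ht => h t (List.mem_cons_of_mem _ ht))
    refine ⟨z1 + z2, ?_⟩
    rw [List.map_cons, List.sum_cons, hz1, hz2]
    push_cast
    ring

/-- **Isaacs 8.24**, with the intersection written as `N.subgroupOf E`. -/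
theorem exists_elementary_invariant_constituent [Fintype N] (p : ℕ) (hp : p.Prime)
    (hind : ∃ k : ℕ, N.index = p ^ k) (ϑ : N → ℂ) (hϑ : IsIrrCharacter N ϑ)
    (hinv : ∀ (g : G) (n : N), ϑ ⟨g * n * g⁻¹, hN.conj_mem (n : G) n.2 g⟩ = ϑ n) :
    ∃ (E : Subgroup G) (_ : Fintype (N.subgroupOf E)) (φ : N.subgroupOf E → ℂ),
      IsElementary p E ∧ E ⊔ N = ⊤ ∧
      IsIrrCharacter (N.subgroupOf E) φ ∧
      (∀ (g : E) (x : N.subgroupOf E),
        φ ⟨g * x * g⁻¹, (Subgroup.normal_subgroupOf (H := E) (N := N)).conj_mem x x.2 g⟩ = φ x) ∧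
      ∃ m : ℕ, ¬ p ∣ m ∧
        classInner (fun x : N.subgroupOf E => ϑ ⟨((x : E) : G), x.2⟩) φ = (m : ℂ) := by
  classical
  obtain ⟨m₀, hm₀, hmem⟩ := exists_const_mem_elemSpan (G := G) p hp
  obtain ⟨l, hl, heq⟩ := exists_list_of_mem_elemSpan hmem
  -- the linear functional
  let Φ : (G → ℂ) → ℂ := fun F => classInner (fun n : N => F n * ϑ n) ϑ
  have hΦadd : ∀ F₁ F₂, Φ (F₁ + F₂) = Φ F₁ + Φ F₂ := by
    intro F₁ F₂
    show classInner (fun n : N => (F₁ + F₂) n * ϑ n) ϑ = _
    rw [← classInner_add_left]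
    congr 1
    funext n
    simp only [Pi.add_apply]
    ring
  have hΦsmul : ∀ (c : ℂ) F, Φ (c • F) = c * Φ F := by
    intro c F
    show classInner (fun n : N => (c • F) n * ϑ n) ϑ = _
    rw [← classInner_smul_left]
    congr 1
    funext n
    simp only [Pi.smul_apply, smul_eq_mul]
    ring
  have hΦzero : Φ 0 = 0 := by
    show classInner (fun n : N => (0 : G → ℂ) n * ϑ n) ϑ = 0
    have : (fun n : N => (0 : G → ℂ) n * ϑ n) = 0 := by
      funext n
      simp
    rw [this, classInner_zero_left]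
  have hΦlist : ∀ l' : List ((E : Subgroup G) × ((E → ℂ) × ℤ)),
      Φ ((l'.map fun t => (t.2.2 : ℂ) • indFun t.1 t.2.1).sum) =
        (l'.map fun t => (t.2.2 : ℂ) * Φ (indFun t.1 t.2.1)).sum := by
    intro l'
    induction l' with
    | nil => simpa using hΦzero
    | cons a l' ih =>
      rw [List.map_cons, List.sum_cons, hΦadd, hΦsmul, ih, List.map_cons, List.sum_cons]
  have hΦconst : Φ (fun _ => (m₀ : ℂ)) = m₀ := by
    show classInner (fun n : N => (m₀ : ℂ) * ϑ n) ϑ = m₀
    have : (fun n : N => (m₀ : ℂ) * ϑ n) = (m₀ : ℂ) • ϑ := rfl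
    rw [this, classInner_smul_left, irr_classInner_self hϑ, mul_one]
  have hmain : (m₀ : ℂ) = (l.map fun t => (t.2.2 : ℂ) * Φ (indFun t.1 t.2.1)).sum := by
    rw [← hΦlist, ← heq, hΦconst]
  -- find a good term
  have hgood : ∃ t ∈ l, t.1 ⊔ N = ⊤ ∧ ∃ j : ℕ, ¬ p ∣ j ∧
      ∀ (inst : Fintype (N.subgroupOf t.1)),
      classInner (fun x : N.subgroupOf t.1 => t.2.1 x * ϑ ⟨((x : t.1) : G), x.2⟩)
          (fun x : N.subgroupOf t.1 => ϑ ⟨((x : t.1) : G), x.2⟩) = (j : ℂ) := by
    by_contra hno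
    push Not at hno
    apply hm₀
    have hall : ∀ t ∈ l, ∃ z : ℤ, (t.2.2 : ℂ) * Φ (indFun t.1 t.2.1) = (p : ℂ) * z := by
      intro t ht
      have hchar := (hl t ht).2
      have hkey := classInner_indFun_mul_invariant N ϑ hinv t.1 t.2.1
      have hα : IsCharacter (N.subgroupOf t.1)
          (fun x : N.subgroupOf t.1 => ϑ ⟨((x : t.1) : G), x.2⟩) := by
        exact isCharacter_comp
          (MonoidHom.mk' (fun x : N.subgroupOf t.1 => (⟨((x : t.1) : G), x.2⟩ : N))
            (fun a b => rfl)) (isCharacter_of_irr hϑ)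
      have hψ : IsCharacter (N.subgroupOf t.1) (fun x : N.subgroupOf t.1 => t.2.1 x) :=
        isCharacter_restrict (N.subgroupOf t.1) hchar
      obtain ⟨j, hj⟩ := classInner_char_char_nat (isCharacter_mul hψ hα) hα
      have hj' : classInner (fun x : N.subgroupOf t.1 => t.2.1 x * ϑ ⟨((x : t.1) : G), x.2⟩)
          (fun x : N.subgroupOf t.1 => ϑ ⟨((x : t.1) : G), x.2⟩) = (j : ℂ) := hj
      have hΦt : Φ (indFun t.1 t.2.1) = ((t.1 ⊔ N).index : ℂ) * j := by
        rw [← hj']
        exact hkey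
      rw [hΦt]
      by_cases htop : t.1 ⊔ N = ⊤
      · have hpj : p ∣ j := by
          by_contra hpj
          obtain ⟨inst, hne⟩ := hno t ht htop j hpj
          apply hne
          convert hj'
        obtain ⟨j', rfl⟩ := hpj
        refine ⟨t.2.2 * ((t.1 ⊔ N).index * j'), ?_⟩
        push_cast
        ring
      · -- index is a nontrivial power of p
        obtain ⟨k, hk⟩ := hind
        have h1 : N.relIndex (t.1 ⊔ N) * (t.1 ⊔ N).index = N.index :=
          Subgroup.relIndex_mul_index le_sup_right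
        have hdvd : (t.1 ⊔ N).index ∣ p ^ k := by
          rw [← hk, ← h1]
          exact Dvd.intro_left _ rfl
        obtain ⟨i, -, hi⟩ := (Nat.dvd_prime_pow hp).mp hdvd
        have hi0 : i ≠ 0 := by
          rintro rfl
          rw [pow_zero] at hi
          exact htop (Subgroup.index_eq_one.mp hi)
        obtain ⟨i', rfl⟩ := Nat.exists_eq_succ_of_ne_zero hi0
        refine ⟨t.2.2 * (p ^ i' * j), ?_⟩
        rw [hi, pow_succ]
        push_cast
        ring
    obtain ⟨z, hz⟩ := list_sum_eq_prime_mul p _ l hall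
    rw [← hmain] at hz
    refine ⟨z, ?_⟩
    exact_mod_cast hz
  obtain ⟨t, ht, htop, j, hpj, hj⟩ := hgood
  obtain ⟨hel, hchar⟩ := hl t ht
  have instD : Fintype (N.subgroupOf t.1) := Fintype.ofFinite _
  have hj := hj instD
  refine ⟨t.1, instD, ?_⟩
  -- apply the invariant constituent lemma in the group `t.1`
  have hα : IsCharacter (N.subgroupOf t.1)
      (fun x : N.subgroupOf t.1 => ϑ ⟨((x : t.1) : G), x.2⟩) :=
    isCharacter_comp
      (MonoidHom.mk' (fun x : N.subgroupOf t.1 => (⟨((x : t.1) : G), x.2⟩ : N))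
        (fun a b => rfl)) (isCharacter_of_irr hϑ)
  have hψ : IsCharacter (N.subgroupOf t.1) (fun x : N.subgroupOf t.1 => t.2.1 x) :=
    isCharacter_restrict (N.subgroupOf t.1) hchar
  have hidx : ∃ k : ℕ, (N.subgroupOf t.1).index = p ^ k := by
    obtain ⟨k, hk⟩ := hind
    refine ⟨k, ?_⟩
    have h2 : N.relIndex (t.1 ⊔ N) = N.relIndex t.1 := Subgroup.relIndex_sup_right t.1 N
    rw [htop, Subgroup.relIndex_top_right] at h2
    rw [← hk, h2]
    rfl
  have hαβ : classInner (fun x : N.subgroupOf t.1 => ϑ ⟨((x : t.1) : G), x.2⟩)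
      (fun x : N.subgroupOf t.1 => t.2.1 x * ϑ ⟨((x : t.1) : G), x.2⟩) = (j : ℂ) := by
    rw [← classInner_conj_symm, hj, Complex.conj_natCast]
  obtain ⟨φ, hφ, hφinv, a, ha, hpa⟩ := exists_invariant_constituent (N.subgroupOf t.1) p hp hidx
    (fun x : N.subgroupOf t.1 => ϑ ⟨((x : t.1) : G), x.2⟩)
    (fun x : N.subgroupOf t.1 => t.2.1 x * ϑ ⟨((x : t.1) : G), x.2⟩)
    hα (isCharacter_mul hψ hα)
    (fun g n => by
      have := hinv (g : G) ⟨((n : t.1) : G), n.2⟩
      exact this)
    (fun g n => by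
      have h1 := hinv (g : G) ⟨((n : t.1) : G), n.2⟩
      have h2 := isClassFunction_of_isCharacter hchar (n : t.1) g
      show t.2.1 (g * n * g⁻¹) * ϑ ⟨(g : G) * n * (g : G)⁻¹, _⟩ = t.2.1 n * ϑ ⟨n, _⟩
      rw [h2]
      congr 1)
    j hαβ hpj
  exact ⟨φ, hel, htop, hφ, hφinv, a, hpa, ha⟩

end main

end Cfsg.Agent.Lib.H23
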