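import Cfsg.Prelude.Def_CharExt
import Cfsg.Agent.Lib.L0.CharEquiv
import Cfsg.Agent.Lib.H23.LinearExt

/-!
# API for the determinantal character `Cfsg.detChar` (helper23)

* `det_eq_of_equiv`, `detChar_eq`: `detChar ρ.character g = det (ρ g)` for any representation `ρ`
  of a finite group on a finite dimensional space;
* `detHom ρ : G →* ℂˣ`, `detChar_eq_homToFun`, `exists_hom_detChar`, `isCharacter_detChar`;
* `detChar_add`, `detChar_comp`, `detChar_restrict`, `detChar_mul_homToFun`, `detChar_homToFun`.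
-/

set_option autoImplicit false

namespace Cfsg.Agent.Lib.H23

open Cfsg.Agent.Lib.L0 Module

section DetChar

variable {G : Type*} [Group G]

theorem det_eq_of_equiv {V W : Type*} [AddCommGroup V] [Module ℂ V] [AddCommGroup W] [Module ℂ W]
    {ρ : Representation ℂ G V} {σ : Representation ℂ G W} (e : ρ.Equiv σ) (g : G) :
    LinearMap.det (σ g) = LinearMap.det (ρ g) := by
  have h : σ g = e.toLinearEquiv.toLinearMap ∘ₗ ρ g ∘ₗ e.toLinearEquiv.symm.toLinearMap := by
    have h1 := e.toIntertwiningMap.isIntertwining' g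
    apply LinearMap.ext
    intro w
    have h2 := LinearMap.congr_fun h1 (e.toLinearEquiv.symm w)
    simp only [LinearMap.comp_apply] at h2 ⊢
    have h3 : e.toIntertwiningMap.toLinearMap (e.toLinearEquiv.symm w) = w :=
      e.toLinearEquiv.apply_symm_apply w
    rw [h3] at h2
    exact h2.symm
  rw [h, LinearMap.det_conj]

variable [Finite G] {V : Type*} [AddCommGroup V] [Module ℂ V] [FiniteDimensional ℂ V]

/-- The determinantal character can be computed from any representation affording the character. -/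
theorem detChar_eq (ρ : Representation ℂ G V) (g : G) :
    Cfsg.detChar ρ.character g = LinearMap.det (ρ g) := by
  have h : Cfsg.IsCharacter G ρ.character := isCharacter_of_rep ρ
  unfold Cfsg.detChar
  rw [dif_pos h]
  have hσ := Classical.choose_spec (Classical.choose_spec h)
  obtain ⟨e⟩ := equiv_of_char_eq _ ρ hσ
  exact (det_eq_of_equiv e g).symm

/-- The determinant of a representation as a homomorphism to `ℂˣ`. -/
noncomputable def detHom (ρ : Representation ℂ G V) : G →* ℂˣ :=
  MonoidHom.toHomUnits ((LinearMap.det : (V →ₗ[ℂ] V) →* ℂ).comp ρ)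

theorem detHom_apply (ρ : Representation ℂ G V) (g : G) :
    (detHom ρ g : ℂ) = LinearMap.det (ρ g) := rfl

theorem detChar_eq_homToFun (ρ : Representation ℂ G V) :
    Cfsg.detChar ρ.character = homToFun G (detHom ρ) := by
  funext g
  rw [detChar_eq, homToFun_apply, detHom_apply]

theorem exists_hom_detChar {χ : G → ℂ} (hχ : Cfsg.IsCharacter G χ) :
    ∃ f : G →* ℂˣ, Cfsg.detChar χ = homToFun G f := by
  obtain ⟨n, ρ, rfl⟩ := hχ
  exact ⟨detHom ρ, detChar_eq_homToFun ρ⟩

theorem isCharacter_detChar {χ : G → ℂ} (hχ : Cfsg.IsCharacter G χ) :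
    Cfsg.IsCharacter G (Cfsg.detChar χ) ∧ Cfsg.detChar χ 1 = 1 := by
  obtain ⟨f, hf⟩ := exists_hom_detChar hχ
  rw [hf]
  exact ⟨isCharacter_of_irr (isIrrCharacter_of_hom f), by simp [homToFun_apply]⟩

theorem detChar_add {χ ψ : G → ℂ} (hχ : Cfsg.IsCharacter G χ) (hψ : Cfsg.IsCharacter G ψ) :
    Cfsg.detChar (χ + ψ) = Cfsg.detChar χ * Cfsg.detChar ψ := by
  obtain ⟨n, ρ, rfl⟩ := hχ
  obtain ⟨m, σ, rfl⟩ := hψ
  have h : ρ.character + σ.character = (ρ.prod σ).character := by
    funext g
    simp only [Representation.character, Pi.add_apply]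
    exact (LinearMap.trace_prodMap' (ρ g) (σ g)).symm
  rw [h]
  funext g
  rw [Pi.mul_apply, detChar_eq, detChar_eq, detChar_eq]
  exact LinearMap.det_prodMap (ρ g) (σ g)

theorem detChar_comp {H : Type*} [Group H] [Finite H] (f : H →* G) {χ : G → ℂ}
    (hχ : Cfsg.IsCharacter G χ) : Cfsg.detChar (χ ∘ f) = Cfsg.detChar χ ∘ f := by
  obtain ⟨n, ρ, rfl⟩ := hχ
  let σ : Representation ℂ H (Fin n → ℂ) := ρ.comp f
  have h : ρ.character ∘ f = σ.character := rfl
  rw [h]
  funext x
  rw [detChar_eq, Function.comp_apply, detChar_eq]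
  rfl

theorem detChar_restrict (H : Subgroup G) {χ : G → ℂ} (hχ : Cfsg.IsCharacter G χ) :
    Cfsg.detChar (fun h : H => χ h) = fun h : H => Cfsg.detChar χ h :=
  detChar_comp H.subtype hχ

theorem detChar_mul_homToFun {χ : G → ℂ} (hχ : Cfsg.IsCharacter G χ) (n : ℕ) (hn : χ 1 = n)
    (f : G →* ℂˣ) :
    Cfsg.detChar (χ * homToFun G f) = Cfsg.detChar χ * (homToFun G f) ^ n := by
  obtain ⟨m, ρ, rfl⟩ := hχ
  have hmn : m = n := by
    rw [Representation.char_one, Module.finrank_fin_fun] at hn
    exact_mod_cast hn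
  subst hmn
  let τ : Representation ℂ G (Fin m → ℂ) :=
    { toFun := fun g => (f g : ℂ) • ρ g
      map_one' := by simp
      map_mul' := fun a b => by
        simp only [map_mul, Units.val_mul]
        rw [smul_mul_smul_comm] }
  have hτ : ρ.character * homToFun G f = τ.character := by
    funext g
    simp only [Representation.character, Pi.mul_apply, homToFun_apply]
    change _ = LinearMap.trace ℂ _ ((f g : ℂ) • ρ g)
    rw [map_smul, smul_eq_mul, mul_comm]
  rw [hτ]
  funext g
  rw [Pi.mul_apply, detChar_eq, detChar_eq, Pi.pow_apply, homToFun_apply]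
  change LinearMap.det ((f g : ℂ) • ρ g) = _
  rw [LinearMap.det_smul, Module.finrank_fin_fun, mul_comm]

theorem det_fin_one_eq_trace (f : Module.End ℂ (Fin 1 → ℂ)) :
    LinearMap.det f = LinearMap.trace ℂ (Fin 1 → ℂ) f := by
  rw [← LinearMap.det_toMatrix (Pi.basisFun ℂ (Fin 1)), Matrix.det_fin_one,
    LinearMap.trace_eq_matrix_trace ℂ (Pi.basisFun ℂ (Fin 1)) f, Matrix.trace_fin_one]

theorem detChar_homToFun (f : G →* ℂˣ) : Cfsg.detChar (homToFun G f) = homToFun G f := by
  have h1 : Cfsg.IsCharacter G (homToFun G f) := isCharacter_of_irr (isIrrCharacter_of_hom f)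
  obtain ⟨n, ρ, hρ⟩ := h1
  have hn : n = 1 := by
    have := congrFun hρ 1
    rw [Representation.char_one, Module.finrank_fin_fun, homToFun_apply, map_one,
      Units.val_one] at this
    exact_mod_cast this
  subst hn
  rw [← hρ]
  funext g
  rw [detChar_eq, det_fin_one_eq_trace]
  rfl

end DetChar

end Cfsg.Agent.Lib.H23
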