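import Cfsg.Agent.Lib.H23.ExtSolvable
import Cfsg.Agent.Lib.H23.BrauerThm
import Cfsg.Agent.S0868

/-!
# Extension of invariant characters of degree prime to the index (helper23)

Isaacs 8.15/8.16: `N ⊴ G`, `ϑ ∈ Irr(N)` invariant, `(|G:N|, ϑ(1)) = 1`; then `ϑ` extends to `G` iff
`det ϑ` does.  The proof glues the canonical extensions `ψ_H` (those with determinant `μ|H`) over the
subgroups `H ⊇ N` with `H/N` solvable, and uses Brauer's characterization of characters.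

* `isIrrCharacter_of_restrict_irr`;
* `GoodExt`, `goodExt_unique`, `exists_goodExt`, `goodExt_restrict`, `goodExt_conj`;
* `exists_candidate`, `candidate_isClassFunction`, `candidate_restrict`,
  `candidate_restrict_elementary`, `goodExt_coset_sum`, `candidate_norm`;
* `exists_extension_of_det`, `extension_iff_det` (S0866), `exists_unique_extension_coprime` (S0867).
-/

set_option autoImplicit false

universe u

namespace Cfsg.Agent.Lib.H23

open Cfsg.Agent.Lib.L0 Cfsg.Agent.Lib.H24 Cfsg.Agent.Lib.H8 Module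
open scoped ComplexConjugate

/-- A character whose restriction to a subgroup is irreducible is irreducible. -/
theorem isIrrCharacter_of_restrict_irr {K : Type*} [Group K] [Finite K] (N' : Subgroup K)
    {χ : K → ℂ} (hχ : Cfsg.IsCharacter K χ)
    (h : Cfsg.IsIrrCharacter N' (fun n : N' => χ n)) : Cfsg.IsIrrCharacter K χ := by
  obtain ⟨n, ρ, rfl⟩ := hχ
  obtain ⟨m, σ, hσ, hσχ⟩ := h
  let τ : Representation ℂ N' (Fin n → ℂ) := MonoidHom.comp ρ N'.subtype
  have h1 : σ.character = τ.character := hσχ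
  obtain ⟨e⟩ := equiv_of_char_eq σ τ h1
  have : σ.IsIrreducible := hσ
  have h2 : τ.IsIrreducible := isIrreducible_of_equiv e
  exact ⟨n, ρ, isIrreducible_of_comp N'.subtype ρ h2, rfl⟩

section General

variable {G : Type u} [Group G] [Fintype G] (N : Subgroup G) [hN : N.Normal]
  (ϑ : N → ℂ) (μ : G → ℂ)

/-- `ψ` is an extension of `ϑ` to `H ⊇ N` with determinant `μ|H`. -/
def GoodExt (H : Subgroup G) (hNH : N ≤ H) (ψ : H → ℂ) : Prop :=
  Cfsg.IsIrrCharacter H ψ ∧ (∀ n : N, ψ ⟨n, hNH n.2⟩ = ϑ n) ∧ ∀ h : H, Cfsg.detChar ψ h = μ h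

variable {N ϑ μ}

theorem goodExt_iff {H : Subgroup G} (hNH : N ≤ H) (ψ : H → ℂ) :
    GoodExt N ϑ μ H hNH ψ ↔ Cfsg.IsIrrCharacter H ψ ∧
      (∀ n' : N.subgroupOf H, ψ n' = (ϑ ∘ (Subgroup.subgroupOfEquivOfLe hNH)) n') ∧
      Cfsg.detChar ψ = fun h : H => μ h := by
  unfold GoodExt
  refine and_congr Iff.rfl (and_congr ?_ ?_)
  · constructor
    · intro h n'
      exact h (Subgroup.subgroupOfEquivOfLe hNH n')
    · intro h n
      have := h ((Subgroup.subgroupOfEquivOfLe hNH).symm n)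
      rw [Function.comp_apply, MulEquiv.apply_symm_apply] at this
      rw [← this]
      rfl
  · constructor
    · intro h; funext x; exact h x
    · intro h x; rw [h]

variable (hϑ : Cfsg.IsIrrCharacter N ϑ)
  (hinv : ∀ (g : G) (n : N), ϑ ⟨g * n * g⁻¹, hN.conj_mem (n : G) n.2 g⟩ = ϑ n)
  (d : ℕ) (hd : ϑ 1 = d) (hcop : Nat.Coprime N.index d)
  (hμ : Cfsg.IsCharacter G μ ∧ μ 1 = 1) (hμN : ∀ n : N, μ n = Cfsg.detChar ϑ n)

include hϑ hd hcop hμ hμN in
theorem goodExt_unique {H : Subgroup G} (hNH : N ≤ H) {ψ₁ ψ₂ : H → ℂ}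
    (h₁ : GoodExt N ϑ μ H hNH ψ₁) (h₂ : GoodExt N ϑ μ H hNH ψ₂) : ψ₁ = ψ₂ := by
  classical
  have : Fintype H := Fintype.ofFinite H
  rw [goodExt_iff] at h₁ h₂
  set e := Subgroup.subgroupOfEquivOfLe hNH with he
  have hrel : N.relIndex H * H.index = N.index := Subgroup.relIndex_mul_index hNH
  have hcop' : Nat.Coprime (N.subgroupOf H).index d :=
    Nat.Coprime.coprime_dvd_left ⟨H.index, hrel.symm⟩ hcop
  have hμ'N : ∀ n' : N.subgroupOf H, (fun h : H => μ h) n' = Cfsg.detChar (ϑ ∘ e) n' := by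
    intro n'
    have h1 : Cfsg.detChar (ϑ ∘ e) = Cfsg.detChar ϑ ∘ e :=
      detChar_comp e.toMonoidHom (isCharacter_of_irr hϑ)
    rw [h1]
    exact hμN (e n')
  have hd' : (ϑ ∘ e) 1 = d := by rw [Function.comp_apply, map_one, hd]
  have huniq := exists_unique_extension_with_det (N.subgroupOf H) (ϑ ∘ e) d hd' hcop'
    ⟨ψ₁, h₁.1, h₁.2.1⟩ (isIrrCharacter_comp_of_surjective e.toMonoidHom e.surjective hϑ)
    (fun h : H => μ h) ⟨isCharacter_restrict H hμ.1, hμ.2⟩ hμ'N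
  exact huniq.unique h₁ h₂

include hϑ hinv hd hcop hμ hμN in
theorem exists_goodExt {H : Subgroup G} (hNH : N ≤ H)
    (hsolv : Group.IsSolvable (H ⧸ N.subgroupOf H)) : ∃ ψ : H → ℂ, GoodExt N ϑ μ H hNH ψ := by
  classical
  have : Fintype H := Fintype.ofFinite H
  set e := Subgroup.subgroupOfEquivOfLe hNH with he
  have hrel : N.relIndex H * H.index = N.index := Subgroup.relIndex_mul_index hNH
  have hcop' : Nat.Coprime (N.subgroupOf H).index d :=
    Nat.Coprime.coprime_dvd_left ⟨H.index, hrel.symm⟩ hcop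
  have hμ'N : ∀ n' : N.subgroupOf H, (fun h : H => μ h) n' = Cfsg.detChar (ϑ ∘ e) n' := by
    intro n'
    have h1 : Cfsg.detChar (ϑ ∘ e) = Cfsg.detChar ϑ ∘ e :=
      detChar_comp e.toMonoidHom (isCharacter_of_irr hϑ)
    rw [h1]
    exact hμN (e n')
  have hd' : (ϑ ∘ e) 1 = d := by rw [Function.comp_apply, map_one, hd]
  have hϑ' := isIrrCharacter_comp_of_surjective e.toMonoidHom e.surjective hϑ
  have hinv' : ∀ (m : H) (n' : N.subgroupOf H),
      (ϑ ∘ e) ⟨m * n' * m⁻¹, (inferInstance : (N.subgroupOf H).Normal).conj_mem (n' : H) n'.2 m⟩ =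
        (ϑ ∘ e) n' := by
    intro m n'
    have := hinv (m : G) (e n')
    rw [Function.comp_apply, Function.comp_apply, ← this]
    congr 1
  have hμ' : Cfsg.IsCharacter H (fun h : H => μ h) ∧ (fun h : H => μ h) 1 = 1 :=
    ⟨isCharacter_restrict H hμ.1, hμ.2⟩
  have hext := (extension_iff_det_of_solvable (N.subgroupOf H) hsolv (ϑ ∘ e) hϑ' hinv' d hd'
    hcop').mpr ⟨fun h : H => μ h, hμ'.1, hμ'.2, hμ'N⟩
  obtain ⟨ψ, hψ, -⟩ := exists_unique_extension_with_det (N.subgroupOf H) (ϑ ∘ e) d hd' hcop'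
    hext hϑ' (fun h : H => μ h) hμ' hμ'N
  exact ⟨ψ, (goodExt_iff hNH ψ).mpr hψ⟩

include hϑ in
theorem goodExt_restrict {K H : Subgroup G} (hNK : N ≤ K) (hKH : K ≤ H) {ψ : H → ℂ}
    (h : GoodExt N ϑ μ H (hNK.trans hKH) ψ) :
    GoodExt N ϑ μ K hNK (fun k : K => ψ ⟨k, hKH k.2⟩) := by
  obtain ⟨h1, h2, h3⟩ := h
  have hψc := isCharacter_of_irr h1
  have hc : Cfsg.IsCharacter K (fun k : K => ψ ⟨k, hKH k.2⟩) :=
    isCharacter_comp (Subgroup.inclusion hKH) hψc
  refine ⟨?_, ?_, ?_⟩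
  · apply isIrrCharacter_of_restrict_irr (N.subgroupOf K) hc
    set e := Subgroup.subgroupOfEquivOfLe hNK with he
    have h4 : (fun n' : N.subgroupOf K => (fun k : K => ψ ⟨k, hKH k.2⟩) n') = ϑ ∘ e := by
      funext n'
      exact h2 (e n')
    rw [h4]
    exact isIrrCharacter_comp_of_surjective e.toMonoidHom e.surjective hϑ
  · intro n
    exact h2 n
  · intro k
    have h5 : Cfsg.detChar (fun k : K => ψ ⟨k, hKH k.2⟩) = Cfsg.detChar ψ ∘ (Subgroup.inclusion hKH) :=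
      detChar_comp (Subgroup.inclusion hKH) hψc
    rw [h5, Function.comp_apply, h3]
    rfl

theorem le_map_conj_of_normal (x : G) {H : Subgroup G} (hNH : N ≤ H) :
    N ≤ H.map (MulAut.conj x).toMonoidHom := by
  intro n hn
  refine ⟨x⁻¹ * n * x, hNH ?_, ?_⟩
  · have := hN.conj_mem n hn x⁻¹
    rwa [inv_inv] at this
  · simp [MulAut.conj_apply]
    group

include hinv hμ in
theorem goodExt_conj (x : G) {H : Subgroup G} (hNH : N ≤ H) {ψ : H → ℂ}
    (h : GoodExt N ϑ μ H hNH ψ) :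
    GoodExt N ϑ μ (H.map (MulAut.conj x).toMonoidHom) (le_map_conj_of_normal x hNH)
      (ψ ∘ (H.equivMapOfInjective (MulAut.conj x).toMonoidHom (MulAut.conj x).injective).symm) := by
  obtain ⟨h1, h2, h3⟩ := h
  set iso := H.equivMapOfInjective (MulAut.conj x).toMonoidHom (MulAut.conj x).injective with hiso
  have hsymm : ∀ h' : H.map (MulAut.conj x).toMonoidHom,
      ((iso.symm h' : H) : G) = x⁻¹ * h' * x := by
    intro h'
    have h4 : ((iso (iso.symm h') : H.map (MulAut.conj x).toMonoidHom) : G) =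
        x * (iso.symm h' : H) * x⁻¹ := rfl
    rw [MulEquiv.apply_symm_apply] at h4
    rw [h4]
    group
  refine ⟨isIrrCharacter_comp_of_surjective iso.symm.toMonoidHom iso.symm.surjective h1, ?_, ?_⟩
  · intro n
    rw [Function.comp_apply]
    have hmem : x⁻¹ * (n : G) * x ∈ N := by
      have := hN.conj_mem n n.2 x⁻¹
      rwa [inv_inv] at this
    have h5 : iso.symm ⟨n, le_map_conj_of_normal x hNH n.2⟩ = ⟨x⁻¹ * n * x, hNH hmem⟩ := by
      apply Subtype.ext
      rw [hsymm]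
    rw [h5]
    have h6 := h2 ⟨x⁻¹ * n * x, hmem⟩
    rw [h6]
    have h7 := hinv x⁻¹ n
    rw [← h7]
    congr 1
    apply Subtype.ext
    simp
  · intro h'
    have h8 : Cfsg.detChar (ψ ∘ iso.symm) = Cfsg.detChar ψ ∘ iso.symm :=
      detChar_comp iso.symm.toMonoidHom (isCharacter_of_irr h1)
    rw [h8, Function.comp_apply, h3, hsymm]
    have := isClassFunction_of_isCharacter hμ.1 (h' : G) x⁻¹
    rw [inv_inv] at this
    exact this

omit [Fintype G] in
/-- `(K ⊔ N)/N` is solvable when `K` is. -/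
theorem isSolvable_sup_quotient (K : Subgroup G) (hK : Group.IsSolvable K) :
    Group.IsSolvable ((K ⊔ N : Subgroup G) ⧸ N.subgroupOf (K ⊔ N)) := by
  have e := QuotientGroup.quotientInfEquivProdNormalQuotient K N
  exact solvable_of_surjective (f := e.toMonoidHom) e.surjective

include hϑ hinv hd hcop hμ hμN in
/-- The candidate extension: its value at `g` is the value of any good extension defined at `g`. -/
theorem exists_candidate :
    ∃ χ : G → ℂ, ∀ (H : Subgroup G) (hNH : N ≤ H) (ψ : H → ℂ), GoodExt N ϑ μ H hNH ψ →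
      ∀ (g : G) (hg : g ∈ H), χ g = ψ ⟨g, hg⟩ := by
  classical
  have hex : ∀ g : G, ∃ ψ : (Subgroup.zpowers g ⊔ N : Subgroup G) → ℂ,
      GoodExt N ϑ μ (Subgroup.zpowers g ⊔ N) le_sup_right ψ := by
    intro g
    apply exists_goodExt hϑ hinv d hd hcop hμ hμN
    apply isSolvable_sup_quotient
    infer_instance
  choose Ψ hΨ using hex
  refine ⟨fun g => Ψ g ⟨g, le_sup_left (a := Subgroup.zpowers g) (Subgroup.mem_zpowers g)⟩, ?_⟩
  intro H hNH ψ hψ g hg
  have hle : Subgroup.zpowers g ⊔ N ≤ H := sup_le ((Subgroup.zpowers_le).mpr hg) hNH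
  have h1 := goodExt_restrict hϑ (le_sup_right : N ≤ Subgroup.zpowers g ⊔ N) hle hψ
  have h2 := goodExt_unique hϑ d hd hcop hμ hμN le_sup_right (hΨ g) h1
  simp only
  rw [h2]

variable (χ : G → ℂ) (hχ : ∀ (H : Subgroup G) (hNH : N ≤ H) (ψ : H → ℂ), GoodExt N ϑ μ H hNH ψ →
      ∀ (g : G) (hg : g ∈ H), χ g = ψ ⟨g, hg⟩)

include hϑ hinv hd hcop hμ hμN hχ in
theorem candidate_isClassFunction : Cfsg.IsClassFunction G χ := by
  intro g x
  have hsolv : Group.IsSolvable ((Subgroup.zpowers g ⊔ N : Subgroup G) ⧸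
      N.subgroupOf (Subgroup.zpowers g ⊔ N)) := isSolvable_sup_quotient _ inferInstance
  obtain ⟨ψ, hψ⟩ := exists_goodExt hϑ hinv d hd hcop hμ hμN
    (le_sup_right : N ≤ Subgroup.zpowers g ⊔ N) hsolv
  have hg : g ∈ Subgroup.zpowers g ⊔ N :=
    le_sup_left (a := Subgroup.zpowers g) (Subgroup.mem_zpowers g)
  have h1 := hχ _ _ ψ hψ g hg
  have h2 := goodExt_conj hinv hμ x le_sup_right hψ
  have hmem : x * g * x⁻¹ ∈ (Subgroup.zpowers g ⊔ N).map (MulAut.conj x).toMonoidHom :=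
    ⟨g, hg, rfl⟩
  have h3 := hχ _ _ _ h2 (x * g * x⁻¹) hmem
  rw [h3, h1, Function.comp_apply]
  congr 1
  rw [MulEquiv.symm_apply_eq]
  apply Subtype.ext
  rfl

include hϑ hinv hd hcop hμ hμN hχ in
theorem candidate_restrict (n : N) : χ n = ϑ n := by
  have hsolv : Group.IsSolvable ((Subgroup.zpowers (n : G) ⊔ N : Subgroup G) ⧸
      N.subgroupOf (Subgroup.zpowers (n : G) ⊔ N)) := isSolvable_sup_quotient _ inferInstance
  obtain ⟨ψ, hψ⟩ := exists_goodExt hϑ hinv d hd hcop hμ hμN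
    (le_sup_right : N ≤ Subgroup.zpowers (n : G) ⊔ N) hsolv
  rw [hχ _ _ ψ hψ (n : G) (le_sup_right (a := Subgroup.zpowers (n : G)) n.2)]
  exact hψ.2.1 n

include hϑ hinv hd hcop hμ hμN hχ in
theorem candidate_restrict_elementary (E : Subgroup G) (p : ℕ) (hp : p.Prime)
    (hE : Cfsg.IsElementary p E) : Cfsg.IsGeneralizedCharacter E (fun e : E => χ e) := by
  have hnil : Group.IsNilpotent E := isNilpotent_of_isElementary hp hE
  have hsolv : Group.IsSolvable ((E ⊔ N : Subgroup G) ⧸ N.subgroupOf (E ⊔ N)) :=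
    isSolvable_sup_quotient _ inferInstance
  obtain ⟨ψ, hψ⟩ := exists_goodExt hϑ hinv d hd hcop hμ hμN (le_sup_right : N ≤ E ⊔ N) hsolv
  apply isGeneralizedCharacter_of_isCharacter
  have h1 : (fun e : E => χ e) = ψ ∘ (Subgroup.inclusion (le_sup_left : E ≤ E ⊔ N)) := by
    funext e
    rw [hχ _ _ ψ hψ (e : G) (le_sup_left (a := E) e.2)]
    rfl
  rw [h1]
  exact isCharacter_comp _ (isCharacter_of_irr hψ.1)

include hϑ in
/-- The sum of `|ψ|²` over a coset of `N` equals `|N|`, for a good extension `ψ`. -/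
theorem goodExt_coset_sum [Fintype N] {H : Subgroup G} (hNH : N ≤ H) {ψ : H → ℂ}
    (hψ : GoodExt N ϑ μ H hNH ψ) (g : G) (hg : g ∈ H) :
    ∑ n : N, ψ ⟨n * g, H.mul_mem (hNH n.2) hg⟩ * conj (ψ ⟨n * g, H.mul_mem (hNH n.2) hg⟩) =
      (Nat.card N : ℂ) := by
  classical
  have : Fintype H := Fintype.ofFinite H
  set N' : Subgroup H := N.subgroupOf H with hN'
  have : Fintype N' := Fintype.ofFinite N'
  set e : N' ≃* N := Subgroup.subgroupOfEquivOfLe hNH with he
  have hψN' : Cfsg.IsIrrCharacter N' (fun n' : N' => ψ n') := by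
    have h4 : (fun n' : N' => ψ n') = ϑ ∘ e := by
      funext n'
      exact hψ.2.1 (e n')
    rw [h4]
    exact isIrrCharacter_comp_of_surjective e.toMonoidHom e.surjective hϑ
  have h1 := (Cfsg.Agent.S0868.result N' ψ hψ.1 hψN' ψ hψ.1 _ rfl).2.2 rfl
  have h2 := congrFun h1 ⟨g, hg⟩
  have hcard : Nat.card N' = Nat.card N := Nat.card_congr e.toEquiv
  have hne : (Nat.card N : ℂ) ≠ 0 := Nat.cast_ne_zero.mpr (Nat.card_pos (α := N)).ne'
  rw [hcard, inv_mul_eq_one₀ hne] at h2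
  rw [h2]
  symm
  apply Fintype.sum_equiv e.toEquiv
  intro n'
  rfl

include hϑ hinv hd hcop hμ hμN hχ in
theorem candidate_norm : Cfsg.classInner χ χ = 1 := by
  classical
  have : Fintype N := Fintype.ofFinite N
  have hcoset : ∀ g : G, ∑ n : N, χ (n * g) * conj (χ (n * g)) = (Nat.card N : ℂ) := by
    intro g
    have hsolv : Group.IsSolvable ((Subgroup.zpowers g ⊔ N : Subgroup G) ⧸
        N.subgroupOf (Subgroup.zpowers g ⊔ N)) := isSolvable_sup_quotient _ inferInstance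
    obtain ⟨ψ, hψ⟩ := exists_goodExt hϑ hinv d hd hcop hμ hμN
      (le_sup_right : N ≤ Subgroup.zpowers g ⊔ N) hsolv
    have hg : g ∈ Subgroup.zpowers g ⊔ N :=
      le_sup_left (a := Subgroup.zpowers g) (Subgroup.mem_zpowers g)
    rw [← goodExt_coset_sum hϑ le_sup_right hψ g hg]
    refine Finset.sum_congr rfl fun n _ => ?_
    rw [hχ _ _ ψ hψ (n * g) ((Subgroup.zpowers g ⊔ N).mul_mem (le_sup_right (a := Subgroup.zpowers g) n.2) hg)]
  have hshift : ∀ n : N, ∑ g : G, χ (n * g) * conj (χ (n * g)) = ∑ g : G, χ g * conj (χ g) := by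
    intro n
    exact Fintype.sum_equiv (Equiv.mulLeft (n : G)) _ _ (fun g => rfl)
  have hNne : (Nat.card N : ℂ) ≠ 0 := Nat.cast_ne_zero.mpr (Nat.card_pos (α := N)).ne'
  have hGne : (Nat.card G : ℂ) ≠ 0 := Nat.cast_ne_zero.mpr (Nat.card_pos (α := G)).ne'
  have h1 : (Nat.card N : ℂ) * ∑ g : G, χ g * conj (χ g) = (Nat.card N : ℂ) * (Nat.card G : ℂ) := by
    have h2 : ∑ n : N, ∑ g : G, χ (n * g) * conj (χ (n * g)) =
        (Nat.card N : ℂ) * ∑ g : G, χ g * conj (χ g) := by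
      rw [Finset.sum_congr rfl (fun n _ => hshift n), Finset.sum_const, Finset.card_univ,
        nsmul_eq_mul, Nat.card_eq_fintype_card]
    rw [← h2, Finset.sum_comm, Finset.sum_congr rfl (fun g _ => hcoset g), Finset.sum_const,
      Finset.card_univ, nsmul_eq_mul, Nat.card_eq_fintype_card (α := G), mul_comm]
  have h3 : ∑ g : G, χ g * conj (χ g) = (Nat.card G : ℂ) := mul_left_cancel₀ hNne h1
  unfold Cfsg.classInner
  rw [h3, inv_mul_cancel₀ hGne]


include hϑ hinv hd hcop hμ hμN in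
/-- Isaacs 8.15 (the nontrivial direction). -/
theorem exists_extension_of_det :
    ∃ χ : G → ℂ, Cfsg.IsIrrCharacter G χ ∧ ∀ n : N, χ n = ϑ n := by
  obtain ⟨χ, hχ⟩ := exists_candidate hϑ hinv d hd hcop hμ hμN
  have hcf := candidate_isClassFunction hϑ hinv d hd hcop hμ hμN χ hχ
  have hres := candidate_restrict hϑ hinv d hd hcop hμ hμN χ hχ
  have hgen : Cfsg.IsGeneralizedCharacter G χ :=
    brauer_characterization hcf (candidate_restrict_elementary hϑ hinv d hd hcop hμ hμN χ hχ)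
  have hnorm := candidate_norm hϑ hinv d hd hcop hμ hμN χ hχ
  rcases genChar_norm_one hgen hnorm with h | h
  · exact ⟨χ, h, hres⟩
  · exfalso
    obtain ⟨m, hm, hm1⟩ := Cfsg.Agent.Lib.H24.irr_one_eq ⟨-χ, h⟩
    have h1 : χ 1 = d := by
      rw [← hd, ← hres 1]
      rfl
    simp only [Pi.neg_apply] at hm1
    rw [h1] at hm1
    have h2 : ((d + m : ℕ) : ℂ) = 0 := by
      push_cast
      rw [← hm1]
      ring
    have h3 : d + m = 0 := by exact_mod_cast h2
    omega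

end General

section Statements

variable {G : Type u} [Group G] [Fintype G] (N : Subgroup G) [hN : N.Normal]

/-- Isaacs 8.15 (statement S0866). -/
theorem extension_iff_det (ϑ : N → ℂ) (hϑ : Cfsg.IsIrrCharacter N ϑ)
    (hinv : ∀ (g : G) (n : N), ϑ ⟨g * n * g⁻¹, hN.conj_mem (n : G) n.2 g⟩ = ϑ n)
    (d : ℕ) (hd : ϑ 1 = d) (hcop : Nat.Coprime N.index d) :
    (∃ χ : G → ℂ, Cfsg.IsIrrCharacter G χ ∧ (∀ n : N, χ n = ϑ n)) ↔
      ∃ μ : G → ℂ, Cfsg.IsCharacter G μ ∧ μ 1 = 1 ∧ ∀ n : N, μ n = Cfsg.detChar ϑ n := by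
  constructor
  · rintro ⟨χ, hχ, hχN⟩
    have hχc := isCharacter_of_irr hχ
    obtain ⟨h1, h2⟩ := isCharacter_detChar hχc
    refine ⟨Cfsg.detChar χ, h1, h2, fun n => ?_⟩
    have h3 := detChar_restrict N hχc
    have h4 : (fun n : N => χ n) = ϑ := funext hχN
    rw [h4] at h3
    rw [h3]
  · rintro ⟨μ, hμ1, hμ2, hμN⟩
    exact exists_extension_of_det hϑ hinv d hd hcop ⟨hμ1, hμ2⟩ hμN

/-- Isaacs 8.16 (statement S0867). -/
theorem exists_unique_extension_coprime (ϑ : N → ℂ) (hϑ : Cfsg.IsIrrCharacter N ϑ)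
    (hinv : ∀ (g : G) (n : N), ϑ ⟨g * n * g⁻¹, hN.conj_mem (n : G) n.2 g⟩ = ϑ n)
    (d : ℕ) (hd : ϑ 1 = d) (hcop : Nat.Coprime N.index (Cfsg.detOrder ϑ * d)) :
    ∃ χ : G → ℂ, (Cfsg.IsIrrCharacter G χ ∧ (∀ n : N, χ n = ϑ n) ∧
      Cfsg.detOrder χ = Cfsg.detOrder ϑ) ∧
      ∀ χ' : G → ℂ, Cfsg.IsIrrCharacter G χ' → (∀ n : N, χ' n = ϑ n) →
        Nat.Coprime N.index (Cfsg.detOrder χ') → χ' = χ := by
  have hϑc := isCharacter_of_irr hϑ
  have hcopo : Nat.Coprime N.index (Cfsg.detOrder ϑ) := Nat.Coprime.coprime_mul_right_right hcop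
  have hcopd : Nat.Coprime N.index d := Nat.Coprime.coprime_mul_left_right hcop
  have hlam := isCharacter_detChar hϑc
  have hlaminv : ∀ (g : G) (n : N),
      Cfsg.detChar ϑ ⟨g * n * g⁻¹, hN.conj_mem (n : G) n.2 g⟩ = Cfsg.detChar ϑ n := by
    intro g n
    set c : N ≃* N := MulAut.conjNormal g with hc
    have hcn : ∀ n : N, c n = ⟨g * n * g⁻¹, hN.conj_mem (n : G) n.2 g⟩ := by
      intro n
      apply Subtype.ext
      exact MulAut.conjNormal_apply g n
    have h1 : Cfsg.detChar (ϑ ∘ c) = Cfsg.detChar ϑ ∘ c := detChar_comp c.toMonoidHom hϑc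
    have h2 : ϑ ∘ c = ϑ := by
      funext n
      rw [Function.comp_apply, hcn, hinv]
    rw [h2] at h1
    have h3 := congrFun h1 n
    rw [Function.comp_apply, hcn] at h3
    exact h3.symm
  obtain ⟨μ, ⟨hμ1, hμ2, hμN, hμo⟩, hμuniq⟩ :=
    exists_unique_linear_extension N (Cfsg.detChar ϑ) hlam hlaminv hcopo
  have hext := exists_extension_of_det hϑ hinv d hd hcopd ⟨hμ1, hμ2⟩ hμN
  obtain ⟨χ, ⟨hχ, hχN, hχdet⟩, hχuniq⟩ :=
    exists_unique_extension_with_det N ϑ d hd hcopd hext hϑ μ ⟨hμ1, hμ2⟩ hμN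
  refine ⟨χ, ⟨hχ, hχN, ?_⟩, ?_⟩
  · unfold Cfsg.detOrder
    rw [hχdet, hμo]
  · intro χ' hχ' hχ'N hcop'
    apply hχuniq
    refine ⟨hχ', hχ'N, ?_⟩
    have hχ'c := isCharacter_of_irr hχ'
    apply hμuniq _ (isCharacter_detChar hχ'c)
    · intro n
      have h3 := detChar_restrict N hχ'c
      have h4 : (fun n : N => χ' n) = ϑ := funext hχ'N
      rw [h4] at h3
      rw [h3]
    · exact hcop'

end Statements

end Cfsg.Agent.Lib.H23
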