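import Cfsg.Agent.Lib.H23.Ito
import Cfsg.Agent.Lib.H24.CentralExt
import Cfsg.Agent.Lib.H23.DegreeDvd

/-!
# Isaacs 11.29, general case (helper23)

`degree_dvd_index_mul`: for `H ⊴ G`, `χ ∈ Irr(G)` lying over `ϑ ∈ Irr(H)`:
`χ(1) ∣ |G : H| · ϑ(1)`.
-/

set_option autoImplicit false

namespace Cfsg.Agent.Lib.H23

open Cfsg.Agent.Lib.L0

variable {G : Type*} [Group G] [Fintype G]

/-- **Isaacs 11.29**: `χ(1)` divides `|G : H| ϑ(1)` for `χ ∈ Irr(G | ϑ)`, `H ⊴ G`. -/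
theorem degree_dvd_index_mul (H : Subgroup G) [hN : H.Normal] [Fintype H]
    {χ : G → ℂ} (hχ : Cfsg.IsIrrCharacter G χ) {ϑ : H → ℂ} (hϑ : Cfsg.IsIrrCharacter H ϑ)
    (hcon : Cfsg.classInner (fun n : H => χ n) ϑ ≠ 0) :
    Cfsg.charDegree χ ∣ H.index * Cfsg.charDegree ϑ := by
  classical
  set T : Subgroup G := inertia H ϑ with hTdef
  have : Fintype T := Fintype.ofFinite _
  have hHT : H ≤ T := le_inertia H (isClassFunction_of_isCharacter (isCharacter_of_irr hϑ))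
  obtain ⟨ψ, hψ, hind, hmult⟩ :=
    clifford_correspondence H T hHT ϑ hϑ (fun g => Iff.rfl) χ hχ hcon
  have hcon' : Cfsg.classInner (resTo H T hHT ψ) ϑ ≠ 0 := by rw [hmult]; exact hcon
  have hres := restrict_inertia_eq_smul H T hHT ϑ hϑ (fun g hg => hg) ψ hψ hcon'
  obtain ⟨fn, hfn⟩ := classInner_char_irr_nat
    (isCharacter_resTo H T hHT (isCharacter_of_irr hψ)) hϑ
  have hfn0 : fn ≠ 0 := by
    intro h0
    apply hcon'
    rw [hfn, h0]; simp
  have hdvd : fn ∣ H.relIndex T :=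
    Cfsg.Agent.Lib.H24.ramification_dvd_relIndex H T hHT ϑ hϑ (fun g hg => hg) ψ hψ fn hfn hfn0
  have h1 : χ 1 = (T.index : ℂ) * ψ 1 := by rw [← hind, indFun_one']
  have h2 : ψ 1 = (fn : ℂ) * ϑ 1 := by
    have := congrFun hres 1
    rw [hfn] at this
    simp only [resTo, Pi.smul_apply, smul_eq_mul] at this
    exact this
  have h3 : ϑ 1 = (Cfsg.charDegree ϑ : ℂ) := apply_one_eq_charDegree ϑ hϑ
  have h4 : Cfsg.charDegree χ = T.index * (fn * Cfsg.charDegree ϑ) := by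
    apply charDegree_eq_of_apply_one
    rw [h1, h2, h3]
    push_cast
    ring
  rw [h4]
  have h5 : H.index = T.index * H.relIndex T := by
    rw [mul_comm]
    exact (Subgroup.relIndex_mul_index hHT).symm
  rw [h5, mul_assoc]
  exact Nat.mul_dvd_mul_left _ (Nat.mul_dvd_mul_right hdvd _)

end Cfsg.Agent.Lib.H23
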