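import Mathlib
import Cfsg.Prelude.Def_Blocks
import Cfsg.Agent.Lib.H23.BlockDefect
import Cfsg.Agent.Lib.L0.BlockSylowSum

/-!
# Green's theorem: defect groups are Sylow intersections (helper23)

Elementary counting proof.  `β = blockCoeff B`, `P` a Sylow `p`-subgroup,
`F(g) = ∑_{u ∈ P} β(g u)`.

* `sum_mem_of_orbit`: orbit counting lemma.
* `blockCoeff_eq_pow_mul`: exact valuation estimate for `β(g)` when `g` is centralized by a
  `p`-subgroup.
-/

set_option autoImplicit false

namespace Cfsg.Agent.Lib.H23.Green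

open Cfsg MonoidAlgebra Cfsg.Agent.Lib.H23
open scoped ComplexConjugate

/-- Orbit counting: an invariant function whose orbit-weighted values all lie in an additive
subgroup has its total sum in that subgroup. -/
theorem sum_mem_of_orbit {Q X A : Type*} [Group Q] [MulAction Q X] [Fintype X]
    [AddCommGroup A] (S : AddSubgroup A) (φ : X → A)
    (hinv : ∀ (s : Q) (x : X), φ (s • x) = φ x)
    (h : ∀ x : X, (Nat.card (MulAction.orbit Q x)) • φ x ∈ S) : ∑ x, φ x ∈ S := by
  classical
  haveI : Fintype (MulAction.orbitRel.Quotient Q X) := Fintype.ofFinite _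
  haveI : ∀ ω : MulAction.orbitRel.Quotient Q X, Fintype ω.orbit := fun ω => Fintype.ofFinite _
  rw [← (MulAction.selfEquivSigmaOrbits' Q X).symm.sum_comp, Fintype.sum_sigma]
  refine AddSubgroup.sum_mem _ (fun ω _ => ?_)
  have hω : ω.orbit = MulAction.orbit Q ω.out :=
    MulAction.orbitRel.Quotient.orbit_eq_orbit_out ω Quotient.out_eq'
  have hconst : ∀ x : ω.orbit,
      φ ((MulAction.selfEquivSigmaOrbits' Q X).symm ⟨ω, x⟩) = φ ω.out := by
    intro x
    have hx : (x : X) ∈ MulAction.orbit Q ω.out := hω ▸ x.2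
    obtain ⟨s, hs⟩ := hx
    have : (MulAction.selfEquivSigmaOrbits' Q X).symm ⟨ω, x⟩ = (x : X) := rfl
    rw [this, ← hs]
    exact hinv s _
  rw [Finset.sum_congr rfl (fun x _ => hconst x), Finset.sum_const, Finset.card_univ]
  have hc : Fintype.card ω.orbit = Nat.card (MulAction.orbit Q ω.out) := by
    rw [← Nat.card_eq_fintype_card, hω]
  rw [hc]
  exact h _

section Val

variable {G : Type*} [Group G] [Fintype G] {p : ℕ} [Fact p.Prime] {M : Ideal AlgInt}

/-- If all degrees in the block are divisible by `p ^ j` and `g` is centralized by a `p`-subgroup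
`D` with `j + ν(|D|) ≥ ν(|G|)`, then the block idempotent coefficient at `g` is
`p ^ (j + ν(|D|) - ν(|G|))` times a local integer. -/
theorem blockCoeff_eq_pow_mul (hM : IsPModular p M) (χ₀ : IrrCharacter G) (g : G)
    (D : Subgroup G) (hDp : IsPGroup p D) (hDg : ∀ u ∈ D, u * g = g * u) (j : ℕ)
    (hj : ∀ χ ∈ blockOf M (χ₀ : G → ℂ), p ^ j ∣ charDegree (χ : G → ℂ))
    (hle : (Nat.card G).factorization p ≤ j + (Nat.card D).factorization p) :
    ∃ z : ℂ, MemLocalRing M z ∧ blockCoeff (blockOf M (χ₀ : G → ℂ)) g =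
      (p : ℂ) ^ (j + (Nat.card D).factorization p - (Nat.card G).factorization p) * z := by
  classical
  haveI := Fintype.ofFinite (IrrCharacter G)
  haveI : Fintype D := Fintype.ofFinite D
  haveI hP := isPrime_of_isPModular hM
  have hp := prime_of_isPModular hM
  set B := blockOf M (χ₀ : G → ℂ) with hB
  by_cases hgreg : p ∣ orderOf g
  · rw [blockCoeff_eq_zero_of_dvd_orderOf hM χ₀ g hgreg]
    exact ⟨0, memLocalRing_zero hP.ne_top, by simp⟩
  -- `β(g u) = 0` for `1 ≠ u ∈ D`
  have hvan : ∀ u : D, u ≠ 1 → blockCoeff B (g * (u : G)) = 0 := by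
    intro u hu
    apply blockCoeff_eq_zero_of_dvd_orderOf hM χ₀
    obtain ⟨k, hk⟩ := (IsPGroup.iff_orderOf.1 hDp) u
    have hk' : orderOf (u : G) = p ^ k := by rw [Subgroup.orderOf_coe, hk]
    have hk0 : k ≠ 0 := by
      rintro rfl
      rw [pow_zero, orderOf_eq_one_iff] at hk
      exact hu hk
    have hcomm : Commute g (u : G) := (hDg u u.2).symm
    have hcop : (orderOf g).Coprime (orderOf (u : G)) := by
      rw [hk']
      exact Nat.Coprime.pow_right k ((Nat.Prime.coprime_iff_not_dvd hp).2 hgreg).symm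
    rw [hcomm.orderOf_mul_eq_mul_orderOf_of_coprime hcop, hk']
    exact dvd_mul_of_dvd_right (dvd_pow_self p hk0) _
  have hsum : ∑ u : D, blockCoeff B (g * (u : G)) = blockCoeff B g := by
    rw [Finset.sum_eq_single (1 : D)]
    · simp
    · intro u _ hu
      exact hvan u hu
    · intro h
      exact absurd (Finset.mem_univ _) h
  rw [← hsum]
  have hG0 : Nat.card G ≠ 0 := Nat.card_pos.ne'
  have hD0 : Nat.card D ≠ 0 := Nat.card_pos.ne'
  set a := (Nat.card G).factorization p with ha
  set d := (Nat.card D).factorization p with hd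
  have hDcard : Nat.card D = p ^ d := by
    obtain ⟨k, hk⟩ := IsPGroup.iff_card.1 hDp
    rw [hd, hk, Nat.Prime.factorization_pow hp]
    simp
  have hGcard := Nat.ordProj_mul_ordCompl_eq_self (Nat.card G) p
  have hm' : ¬ p ∣ Nat.card G / p ^ a := Nat.not_dvd_ordCompl hp hG0
  set m := Nat.card G / p ^ a with hm
  have hp0 : (p : ℂ) ≠ 0 := Nat.cast_ne_zero.2 hp.ne_zero
  have hm0 : (m : ℂ) ≠ 0 := by
    intro h0
    have : m = 0 := by exact_mod_cast h0
    exact hm' (this ▸ dvd_zero p)
  have hterm : ∑ u : D, blockCoeff B (g * (u : G)) =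
      (p : ℂ) ^ (j + d - a) * ∑ χ : IrrCharacter G, if χ ∈ B then
        ((m : ℂ)⁻¹ * ((charDegree (χ : G → ℂ) / p ^ j : ℕ) : ℂ) *
          conj ((Nat.card D : ℂ)⁻¹ * ∑ u : D, (χ : G → ℂ) (g * (u : G)))) else 0 := by
    simp only [blockCoeff_eq_sum]
    simp only [Finset.mul_sum]
    rw [Finset.sum_comm]
    refine Finset.sum_congr rfl (fun χ _ => ?_)
    by_cases hχ : χ ∈ B
    · simp only [if_pos hχ]
      obtain ⟨c', hc'⟩ := hj χ hχ
      have hχ1 : (χ : G → ℂ) 1 = (charDegree (χ : G → ℂ) : ℂ) :=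
        apply_one_eq_charDegree (χ : G → ℂ) χ.2
      have hdiv : charDegree (χ : G → ℂ) / p ^ j = c' := by
        rw [hc']; exact Nat.mul_div_cancel_left c' (pow_pos hp.pos j)
      rw [hdiv]
      have hL : ∑ u : D, (Nat.card G : ℂ)⁻¹ * ((χ : G → ℂ) 1 *
          conj ((χ : G → ℂ) (g * (u : G)))) =
          ((Nat.card G : ℂ)⁻¹ * (χ : G → ℂ) 1) *
            ∑ u : D, conj ((χ : G → ℂ) (g * (u : G))) := by
        rw [Finset.mul_sum]
        refine Finset.sum_congr rfl (fun u _ => ?_)
        ring
      have hR : (p : ℂ) ^ (j + d - a) * ((m : ℂ)⁻¹ * (c' : ℂ) *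
          conj (∑ u : D, (Nat.card D : ℂ)⁻¹ * (χ : G → ℂ) (g * (u : G)))) =
          ((p : ℂ) ^ (j + d - a) * (m : ℂ)⁻¹ * (c' : ℂ) * (Nat.card D : ℂ)⁻¹) *
            ∑ u : D, conj ((χ : G → ℂ) (g * (u : G))) := by
        rw [← Finset.mul_sum, map_mul, map_inv₀, Complex.conj_natCast, map_sum]
        ring
      rw [hL, hR]
      congr 1
      rw [hχ1, hc', hDcard, ← hGcard]
      obtain ⟨e', he'⟩ : ∃ e', j + d = a + e' := ⟨j + d - a, by omega⟩
      have he'' : j + d - a = e' := by omega
      rw [he'']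
      have hpow : (p : ℂ) ^ j * (p : ℂ) ^ d = (p : ℂ) ^ a * (p : ℂ) ^ e' := by
        rw [← pow_add, he', pow_add]
      push_cast
      have hpd : (p : ℂ) ^ d ≠ 0 := pow_ne_zero _ hp0
      have hpa : (p : ℂ) ^ a ≠ 0 := pow_ne_zero _ hp0
      field_simp
      linear_combination (c' : ℂ) * hpow
    · simp [if_neg hχ]
  rw [hterm]
  refine ⟨_, ?_, rfl⟩
  refine memLocalRing_sum _ _ (fun χ _ => ?_)
  split_ifs with hχ
  · refine memLocalRing_mul (memLocalRing_mul ?_ ?_) ?_
    · exact memLocalRing_inv_natCast hM hm'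
    · exact natCast_mem_localRing _
    · exact isIntegral_mem_localRing (isIntegral_conj
        (isIntegral_average_char (Cfsg.Agent.Lib.L0.isCharacter_of_irr χ.2) D g hDg))
  · exact memLocalRing_zero hP.ne_top

end Val


section Main

open Cfsg.Agent.Lib.L0.BlockMinMax Cfsg.Agent.Lib.L0.Tilde Cfsg.Agent.Lib.L0.BlockSylowSum

variable {G : Type*} [Group G] [Fintype G] {p : ℕ} [Fact p.Prime] {M : Ideal AlgInt}

/-- Twisted conjugation action of a subgroup `Q` on `G`: `s • x = τ s * x * s⁻¹`. -/
@[reducible] def twAct (Q : Subgroup G) (τ : Q →* G) : MulAction Q G where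
  smul s x := τ s * x * (s : G)⁻¹
  one_smul x := by
    show τ 1 * x * ((1 : Q) : G)⁻¹ = x
    simp
  mul_smul s t x := by
    show τ (s * t) * x * ((s * t : Q) : G)⁻¹ = τ s * (τ t * x * (t : G)⁻¹) * (s : G)⁻¹
    simp [mul_assoc]

/-- The local ideal scaled by `c`, as an additive subgroup. -/
def scaledIdeal (M : Ideal AlgInt) [hP : M.IsPrime] (c : ℂ) : AddSubgroup ℂ where
  carrier := {z | MemLocalIdeal M (z / c)}
  zero_mem' := by
    show MemLocalIdeal M (0 / c)
    rw [zero_div]; exact memLocalIdeal_zero hP.ne_top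
  add_mem' := by
    intro z w hz hw
    show MemLocalIdeal M ((z + w) / c)
    rw [add_div]; exact memLocalIdeal_add hz hw
  neg_mem' := by
    intro z hz
    show MemLocalIdeal M (-z / c)
    rw [neg_div]; exact memLocalIdeal_neg hz

theorem mem_scaledIdeal [M.IsPrime] {c z : ℂ} :
    z ∈ scaledIdeal M c ↔ MemLocalIdeal M (z / c) := Iff.rfl

open Classical in
/-- `F(g) = ∑_{x ∈ P} β(g x)`. -/
noncomputable def sylSum (B : Set (IrrCharacter G)) (P : Subgroup G) (g : G) : ℂ :=
  ∑ x : G, if x ∈ P then blockCoeff B (g * x) else 0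

theorem sylSum_memLocalRing (hM : IsPModular p M) (χ₀ : IrrCharacter G) (P : Subgroup G) (g : G) :
    MemLocalRing M (sylSum (blockOf M (χ₀ : G → ℂ)) P g) := by
  classical
  haveI hP := isPrime_of_isPModular hM
  unfold sylSum
  refine memLocalRing_sum _ _ (fun x _ => ?_)
  split_ifs
  · exact memLocalRing_blockCoeff hM χ₀ _
  · exact memLocalRing_zero hP.ne_top

theorem card_eq_pow_factorization {H : Type*} [Group H] [Finite H] (hH : IsPGroup p H) :
    Nat.card H = p ^ (Nat.card H).factorization p := by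
  have hp : p.Prime := Fact.out
  obtain ⟨k, hk⟩ := IsPGroup.iff_card.1 hH
  rw [hk, Nat.Prime.factorization_pow hp]
  simp

/-- `F(g) ∈ 𝔭` when `P ∩ gPg⁻¹` has order larger than `p ^ d(B)`. -/
theorem sylSum_memLocalIdeal (hM : IsPModular p M) (χ₀ : IrrCharacter G) (P : Subgroup G)
    (hPp : IsPGroup p P) (g : G)
    (hlt : blockDefect p (blockOf M (χ₀ : G → ℂ)) <
      (Nat.card ↥(P ⊓ P.map (MulAut.conj g).toMonoidHom)).factorization p) :
    MemLocalIdeal M (sylSum (blockOf M (χ₀ : G → ℂ)) P g) := by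
  classical
  haveI hP := isPrime_of_isPModular hM
  have hp := prime_of_isPModular hM
  set B := blockOf M (χ₀ : G → ℂ) with hB
  set Q : Subgroup G := P ⊓ P.map (MulAut.conj g).toMonoidHom with hQ
  let τ : Q →* G := ((MulAut.conj g⁻¹).toMonoidHom).comp Q.subtype
  have hτ : ∀ s : Q, τ s = g⁻¹ * (s : G) * g := by
    intro s
    show (MulAut.conj g⁻¹) (s : G) = _
    rw [MulAut.conj_apply, inv_inv]
  have hτP : ∀ s : Q, τ s ∈ P := by
    intro s
    obtain ⟨t, ht, hts⟩ := (Subgroup.mem_inf.1 s.2).2
    rw [hτ, ← hts]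
    show g⁻¹ * ((MulAut.conj g) t) * g ∈ P
    rw [MulAut.conj_apply]
    have : g⁻¹ * (g * t * g⁻¹) * g = t := by group
    rw [this]; exact ht
  letI act : MulAction Q G := twAct Q τ
  have hsmul : ∀ (s : Q) (x : G), s • x = τ s * x * (s : G)⁻¹ := fun _ _ => rfl
  have hmem : MemLocalIdeal M (sylSum B P g) ↔ sylSum B P g ∈ scaledIdeal M 1 := by
    rw [mem_scaledIdeal, div_one]
  rw [hmem]
  unfold sylSum
  refine sum_mem_of_orbit (Q := Q) (scaledIdeal M 1) _ ?_ ?_
  · intro s x
    have h1 : s • x ∈ P ↔ x ∈ P := by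
      rw [hsmul]
      rw [Subgroup.mul_mem_cancel_right _ (P.inv_mem (Subgroup.mem_inf.1 s.2).1),
        Subgroup.mul_mem_cancel_left _ (hτP s)]
    have h2 : blockCoeff B (g * (s • x)) = blockCoeff B (g * x) := by
      rw [hsmul, hτ]
      have : g * (g⁻¹ * (s : G) * g * x * (s : G)⁻¹) = (s : G) * (g * x) * (s : G)⁻¹ := by group
      rw [this, blockCoeff_conj]
    by_cases hx : x ∈ P
    · rw [if_pos hx, if_pos (h1.2 hx), h2]
    · rw [if_neg hx, if_neg (fun h => hx (h1.1 h))]
  · intro x
    rw [mem_scaledIdeal, div_one]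
    by_cases hx : x ∈ P
    swap
    · rw [if_neg hx, smul_zero]; exact memLocalIdeal_zero hP.ne_top
    rw [if_pos hx]
    set St := MulAction.stabilizer Q x with hSt
    set D : Subgroup G := St.map Q.subtype with hD
    have hDQ : D ≤ Q := by
      rintro u ⟨s, -, rfl⟩
      exact s.2
    have hDP : D ≤ P := hDQ.trans inf_le_left
    have hDp : IsPGroup p D := hPp.to_le hDP
    have hQp : IsPGroup p Q := hPp.to_le inf_le_left
    have hDg : ∀ u ∈ D, u * (g * x) = (g * x) * u := by
      rintro u ⟨s, hs, rfl⟩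
      have h1 : s • x = x := MulAction.mem_stabilizer_iff.1 hs
      rw [hsmul, hτ] at h1
      have h2 : (s : G) * g * x = g * x * (s : G) := by
        have := congrArg (fun w => g * w * (s : G)) h1
        beta_reduce at this
        rw [← this]; group
      show (s : G) * (g * x) = g * x * (s : G)
      rw [← mul_assoc]; exact h2
    have horb : Nat.card (MulAction.orbit Q x) = St.index := by
      rw [MulAction.index_stabilizer, Nat.card_coe_set_eq]
    rw [horb]
    have hcardSt : Nat.card St = Nat.card D :=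
      (Subgroup.card_map_of_injective (Subgroup.subtype_injective _)).symm
    have hidx : St.index * Nat.card D = Nat.card Q := by
      rw [← hcardSt]; exact St.index_mul_card
    set c := (Nat.card D).factorization p with hc
    set q := (Nat.card Q).factorization p with hq
    have hDc : Nat.card D = p ^ c := card_eq_pow_factorization hDp
    have hQc : Nat.card Q = p ^ q := card_eq_pow_factorization hQp
    set e := minDeg p B with he
    have he1 : minDeg p B = (Nat.card G).factorization p - blockDefect p B :=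
      minDeg_eq_sub_blockDefect (p := p) (M := M) χ₀
    have he2 : minDeg p B ≤ (Nat.card G).factorization p :=
      minDeg_le_card (p := p) (M := M) χ₀
    have hd3 : blockDefect p B ≤ (Nat.card G).factorization p := by
      rw [blockDefect]; omega
    have hj : ∀ χ ∈ B, p ^ e ∣ charDegree (χ : G → ℂ) := fun χ hχ =>
      (pow_dvd_pow p (minDeg_le χ₀ hχ)).trans (Nat.ordProj_dvd _ p)
    rw [nsmul_eq_mul]
    by_cases hcd : blockDefect p B < c
    · refine memLocalIdeal_mul_left (natCast_mem_localRing _) ?_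
      refine blockCoeff_memLocalIdeal_of_pow_dvd hM χ₀ (g * x) D hDp hDg e hj ?_
      rw [← hc]
      omega
    · have hcq : c < q := by omega
      have hidx' : St.index = p ^ (q - c) := by
        have h1 : St.index * p ^ c = p ^ (q - c) * p ^ c := by
          rw [← hDc, hidx, hQc, hDc, ← pow_add]; congr 1; omega
        exact Nat.eq_of_mul_eq_mul_right (pow_pos hp.pos c) h1
      obtain ⟨k, hk⟩ : ∃ k, q - c = k + 1 := ⟨q - c - 1, by omega⟩
      rw [hidx', hk, pow_succ]
      push_cast
      rw [mul_comm ((p : ℂ) ^ k) (p : ℂ), mul_assoc]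
      refine memLocalIdeal_mul_right (memLocalIdeal_p hM) ?_
      exact memLocalRing_mul (memLocalRing_pow (natCast_mem_localRing p) _)
        (memLocalRing_blockCoeff hM χ₀ _)

/-- `F` is invariant under conjugation by elements of `P`. -/
theorem sylSum_conj (B : Set (IrrCharacter G)) (P : Subgroup G) {s : G} (hs : s ∈ P) (g : G) :
    sylSum B P (s * g * s⁻¹) = sylSum B P g := by
  classical
  unfold sylSum
  refine Fintype.sum_equiv (MulAut.conj s⁻¹).toEquiv _ _ (fun x => ?_)
  have h1 : (MulAut.conj s⁻¹).toEquiv x = s⁻¹ * x * s := by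
    show (MulAut.conj s⁻¹) x = _
    rw [MulAut.conj_apply, inv_inv]
  rw [h1]
  have h2 : s⁻¹ * x * s ∈ P ↔ x ∈ P := by
    rw [Subgroup.mul_mem_cancel_right _ hs, Subgroup.mul_mem_cancel_left _ (P.inv_mem hs)]
  have h3 : blockCoeff B (s * g * s⁻¹ * x) = blockCoeff B (g * (s⁻¹ * x * s)) := by
    have : s * g * s⁻¹ * x = s * (g * (s⁻¹ * x * s)) * s⁻¹ := by group
    rw [this, blockCoeff_conj]
  by_cases hx : x ∈ P
  · rw [if_pos hx, if_pos (h2.2 hx), h3]
  · rw [if_neg hx, if_neg (fun h => hx (h2.1 h))]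

/-- `∑_y β(y) F(y⁻¹) = F(1)`. -/
theorem sum_blockCoeff_mul_sylSum (B : Set (IrrCharacter G)) (P : Subgroup G) :
    ∑ y : G, blockCoeff B y * sylSum B P y⁻¹ = sylSum B P 1 := by
  classical
  unfold sylSum
  simp only [Finset.mul_sum]
  rw [Finset.sum_comm]
  refine Finset.sum_congr rfl (fun x _ => ?_)
  by_cases hx : x ∈ P
  · simp only [if_pos hx, one_mul]
    have h := congrArg (fun z : MonoidAlgebra ℂ G => z.coeff x) (blockIdem_mul_self B)
    simp only [coeff_mul_eq_sum, coeff_blockIdem] at h
    exact h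
  · simp only [if_neg hx, mul_zero, Finset.sum_const_zero]

theorem sum_ite_mem_eq (P : Subgroup G) [Fintype P] [DecidablePred (· ∈ P)] (f : G → ℂ) :
    ∑ x : G, (if x ∈ P then f x else 0) = ∑ u : P, f u := by
  rw [← Finset.sum_filter]
  exact Finset.sum_subtype _ (fun x => by simp) f

theorem sum_sylow_conj_irr (P : Sylow p G) [Fintype (P : Subgroup G)] (χ : IrrCharacter G) :
    ∑ u : (P : Subgroup G), conj ((χ : G → ℂ) u) =
      (Nat.card (P : Subgroup G) : ℂ) * (sylowMult P χ : ℂ) := by
  have h := Cfsg.Agent.Lib.L0.frobenius_reciprocity (P : Subgroup G) (fun _ => (1 : ℂ))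
    (χ : G → ℂ) (Cfsg.Agent.Lib.H24.irr_isClassFunction χ)
  have h2 := sylowMult_spec P χ
  rw [sylowPerm, h, classInner] at h2
  simp only [one_mul] at h2
  rw [← h2]
  have hP0 : (Nat.card (P : Subgroup G) : ℂ) ≠ 0 := by
    exact_mod_cast (Nat.card_pos (α := (P : Subgroup G))).ne'
  field_simp

/-- `F(1) · |G|_{p'} = p^e · N`. -/
theorem sylSum_one_mul (hM : IsPModular p M) (χ₀ : IrrCharacter G) (P : Sylow p G)
    [Fintype (IrrCharacter G)] [DecidablePred (· ∈ blockOf M (χ₀ : G → ℂ))] :
    sylSum (blockOf M (χ₀ : G → ℂ)) (P : Subgroup G) 1 *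
      ((Nat.card G / p ^ (Nat.card G).factorization p : ℕ) : ℂ) =
    (p : ℂ) ^ minDeg p (blockOf M (χ₀ : G → ℂ)) *
      ((∑ χ : IrrCharacter G, (if χ ∈ blockOf M (χ₀ : G → ℂ) then
        sylowMult P χ * (charDegree (χ : G → ℂ) / p ^ minDeg p (blockOf M (χ₀ : G → ℂ)))
        else 0) : ℕ) : ℂ) := by
  classical
  haveI hP := isPrime_of_isPModular hM
  have hp := prime_of_isPModular hM
  set B := blockOf M (χ₀ : G → ℂ) with hB
  set a := (Nat.card G).factorization p with ha
  set e := minDeg p B with he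
  set m := Nat.card G / p ^ a with hm
  have hGcard : p ^ a * m = Nat.card G := Nat.ordProj_mul_ordCompl_eq_self (Nat.card G) p
  have hPc : Nat.card (P : Subgroup G) = p ^ a := P.card_eq_multiplicity
  haveI : Fintype (P : Subgroup G) := Fintype.ofFinite _
  have hp0 : (p : ℂ) ≠ 0 := Nat.cast_ne_zero.2 hp.ne_zero
  have hG0 : (Nat.card G : ℂ) ≠ 0 := by exact_mod_cast (Nat.card_pos (α := G)).ne'
  have h1 : sylSum B (P : Subgroup G) 1 =
      (Nat.card G : ℂ)⁻¹ * ∑ χ : IrrCharacter G, (if χ ∈ B then
        (χ : G → ℂ) 1 * ((Nat.card (P : Subgroup G) : ℂ) * (sylowMult P χ : ℂ)) else 0) := by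
    unfold sylSum
    simp only [one_mul]
    rw [sum_ite_mem_eq]
    simp only [blockCoeff_eq_sum]
    rw [← Finset.mul_sum, Finset.sum_comm]
    congr 1
    refine Finset.sum_congr rfl (fun χ _ => ?_)
    by_cases hχ : χ ∈ B
    · simp only [if_pos hχ]
      rw [← Finset.mul_sum, sum_sylow_conj_irr]
    · simp only [if_neg hχ, Finset.sum_const_zero]
  rw [h1]
  have hterm : ∀ χ : IrrCharacter G, χ ∈ B →
      (χ : G → ℂ) 1 = (p : ℂ) ^ e * ((charDegree (χ : G → ℂ) / p ^ e : ℕ) : ℂ) := by
    intro χ hχ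
    have hdvd : p ^ e ∣ charDegree (χ : G → ℂ) :=
      (pow_dvd_pow p (minDeg_le χ₀ hχ)).trans (Nat.ordProj_dvd _ p)
    rw [apply_one_eq_charDegree _ χ.2]
    conv_lhs => rw [← Nat.mul_div_cancel' hdvd]
    push_cast
    ring
  have hsum : ∑ χ : IrrCharacter G, (if χ ∈ B then
        (χ : G → ℂ) 1 * ((Nat.card (P : Subgroup G) : ℂ) * (sylowMult P χ : ℂ)) else 0) =
      (p : ℂ) ^ a * ((p : ℂ) ^ e * ((∑ χ : IrrCharacter G, (if χ ∈ B then
        sylowMult P χ * (charDegree (χ : G → ℂ) / p ^ e) else 0) : ℕ) : ℂ)) := by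
    push_cast
    rw [Finset.mul_sum, Finset.mul_sum]
    refine Finset.sum_congr rfl (fun χ _ => ?_)
    by_cases hχ : χ ∈ B
    · rw [if_pos hχ, if_pos hχ, hterm χ hχ, hPc]
      push_cast
      ring
    · rw [if_neg hχ, if_neg hχ]; simp
  rw [hsum, ← hGcard]
  push_cast
  have hpa : (p : ℂ) ^ a ≠ 0 := pow_ne_zero _ hp0
  have hm0 : (m : ℂ) ≠ 0 := by
    intro h0
    have : m = 0 := by exact_mod_cast h0
    have hG := hGcard
    rw [this, mul_zero] at hG
    exact (Nat.card_pos (α := G)).ne' hG.symm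
  field_simp
  refine Finset.sum_congr rfl (fun χ _ => ?_)
  congr

/-- **Green's theorem, first form**: for every block `B` and every Sylow `p`-subgroup `P` there is
a `p`-regular `y` with `C_P(y) = P ∩ yPy⁻¹` a Sylow `p`-subgroup of `C_G(y)` of order
`p ^ d(B)`. -/
theorem exists_sylow_inter (hM : IsPModular p M) (χ₀ : IrrCharacter G) (P : Sylow p G) :
    ∃ y : G, ¬ p ∣ orderOf y ∧
      Nat.card ↥((P : Subgroup G) ⊓ Subgroup.centralizer {y}) =
        p ^ blockDefect p (blockOf M (χ₀ : G → ℂ)) ∧
      (P : Subgroup G) ⊓ Subgroup.centralizer {y} =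
        (P : Subgroup G) ⊓ (P : Subgroup G).map (MulAut.conj y).toMonoidHom ∧
      (Nat.card (Subgroup.centralizer ({y} : Set G))).factorization p =
        blockDefect p (blockOf M (χ₀ : G → ℂ)) := by
  classical
  haveI hP := isPrime_of_isPModular hM
  have hp := prime_of_isPModular hM
  haveI := Fintype.ofFinite (IrrCharacter G)
  set B := blockOf M (χ₀ : G → ℂ) with hB
  set PP : Subgroup G := (P : Subgroup G) with hPP
  set a := (Nat.card G).factorization p with ha
  set e := minDeg p B with he
  set d := blockDefect p B with hd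
  have he1 : e = a - d := minDeg_eq_sub_blockDefect (p := p) (M := M) χ₀
  have he2 : e ≤ a := minDeg_le_card (p := p) (M := M) χ₀
  have hd3 : d ≤ a := by
    rw [hd, blockDefect]; omega
  have hPc : Nat.card PP = p ^ a := P.card_eq_multiplicity
  have hPp : IsPGroup p PP := P.isPGroup'
  have hj : ∀ χ ∈ B, p ^ e ∣ charDegree (χ : G → ℂ) := fun χ hχ =>
    (pow_dvd_pow p (minDeg_le χ₀ hχ)).trans (Nat.ordProj_dvd _ p)
  have hp0 : (p : ℂ) ≠ 0 := Nat.cast_ne_zero.2 hp.ne_zero
  by_contra hno
  push Not at hno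
  letI act : MulAction PP G := twAct PP PP.subtype
  have hsmul : ∀ (s : PP) (x : G), s • x = (s : G) * x * (s : G)⁻¹ := fun _ _ => rfl
  have hkey : ∑ y : G, blockCoeff B y * sylSum B PP y⁻¹ ∈ scaledIdeal M ((p : ℂ) ^ e) := by
    refine sum_mem_of_orbit (Q := PP) _ _ ?_ ?_
    · intro s y
      rw [hsmul, blockCoeff_conj]
      have : ((s : G) * y * (s : G)⁻¹)⁻¹ = (s : G) * y⁻¹ * (s : G)⁻¹ := by group
      rw [this, sylSum_conj B PP s.2]
    · intro y
      rw [mem_scaledIdeal]
      set St := MulAction.stabilizer PP y with hSt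
      set D : Subgroup G := St.map PP.subtype with hD
      have hDeq : D = PP ⊓ Subgroup.centralizer {y} := by
        ext u
        constructor
        · rintro ⟨s, hs, rfl⟩
          refine Subgroup.mem_inf.2 ⟨s.2, ?_⟩
          have h1 : s • y = y := MulAction.mem_stabilizer_iff.1 hs
          rw [hsmul] at h1
          rw [Subgroup.mem_centralizer_singleton_iff]
          show (s : G) * y = y * (s : G)
          have := congrArg (fun w => w * (s : G)) h1
          beta_reduce at this
          rw [← this]; group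
        · intro hu
          obtain ⟨hu1, hu2⟩ := Subgroup.mem_inf.1 hu
          rw [Subgroup.mem_centralizer_singleton_iff] at hu2
          refine ⟨⟨u, hu1⟩, MulAction.mem_stabilizer_iff.2 ?_, rfl⟩
          rw [hsmul]
          show u * y * u⁻¹ = y
          rw [hu2]; group
      have hDP : D ≤ PP := hDeq ▸ inf_le_left
      have hDC : D ≤ Subgroup.centralizer {y} := hDeq ▸ inf_le_right
      have hDp : IsPGroup p D := hPp.to_le hDP
      have hDg : ∀ u ∈ D, u * y = y * u := by
        intro u hu
        exact Subgroup.mem_centralizer_singleton_iff.1 (hDC hu)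
      have horb : Nat.card (MulAction.orbit PP y) = St.index := by
        rw [MulAction.index_stabilizer, Nat.card_coe_set_eq]
      rw [horb]
      have hcardSt : Nat.card St = Nat.card D :=
        (Subgroup.card_map_of_injective (Subgroup.subtype_injective _)).symm
      have hidx : St.index * Nat.card D = Nat.card PP := by
        rw [← hcardSt]; exact St.index_mul_card
      set c := (Nat.card D).factorization p with hc
      have hDc : Nat.card D = p ^ c := card_eq_pow_factorization hDp
      have hca : c ≤ a := by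
        have h1 : p ^ c ∣ p ^ a := by
          rw [← hDc, ← hPc]; exact Subgroup.card_dvd_of_le hDP
        exact (Nat.pow_dvd_pow_iff_le_right hp.one_lt).1 h1
      have hidx' : St.index = p ^ (a - c) := by
        have h1 : St.index * p ^ c = p ^ (a - c) * p ^ c := by
          rw [← hDc, hidx, hPc, hDc, ← pow_add]; congr 1; omega
        exact Nat.eq_of_mul_eq_mul_right (pow_pos hp.pos c) h1
      have hFR : MemLocalRing M (sylSum B PP y⁻¹) := sylSum_memLocalRing hM χ₀ PP y⁻¹
      have hβR : MemLocalRing M (blockCoeff B y) := memLocalRing_blockCoeff hM χ₀ y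
      have hpe : (p : ℂ) ^ e ≠ 0 := pow_ne_zero _ hp0
      rw [nsmul_eq_mul, hidx']
      by_cases hcd : c < d
      · obtain ⟨k, hk⟩ : ∃ k, a - c = e + (k + 1) := ⟨d - c - 1, by omega⟩
        have heq : ((p ^ (a - c) : ℕ) : ℂ) * (blockCoeff B y * sylSum B PP y⁻¹) / (p : ℂ) ^ e =
            (p : ℂ) * ((p : ℂ) ^ k * (blockCoeff B y * sylSum B PP y⁻¹)) := by
          rw [hk]
          push_cast
          rw [pow_add, pow_succ]
          field_simp
        rw [heq]
        refine memLocalIdeal_mul_right (memLocalIdeal_p hM) ?_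
        exact memLocalRing_mul (memLocalRing_pow (natCast_mem_localRing p) _)
          (memLocalRing_mul hβR hFR)
      · have hdc : d ≤ c := not_lt.1 hcd
        obtain ⟨z, hz, hβ⟩ := blockCoeff_eq_pow_mul hM χ₀ y D hDp hDg e hj (by rw [← hc]; omega)
        rw [← hc, ← hB, ← ha] at hβ
        have heq : ((p ^ (a - c) : ℕ) : ℂ) * (blockCoeff B y * sylSum B PP y⁻¹) / (p : ℂ) ^ e =
            z * sylSum B PP y⁻¹ := by
          rw [hβ]
          push_cast
          have hpow : (p : ℂ) ^ (a - c) * (p : ℂ) ^ (e + c - a) = (p : ℂ) ^ e := by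
            rw [← pow_add]; congr 1; omega
          calc (p : ℂ) ^ (a - c) * ((p : ℂ) ^ (e + c - a) * z * sylSum B PP y⁻¹) / (p : ℂ) ^ e
              = ((p : ℂ) ^ (a - c) * (p : ℂ) ^ (e + c - a)) * (z * sylSum B PP y⁻¹) /
                  (p : ℂ) ^ e := by ring
            _ = z * sylSum B PP y⁻¹ := by rw [hpow]; field_simp
        rw [heq]
        by_contra hzF
        have hzn : ¬ MemLocalIdeal M z := fun h => hzF (memLocalIdeal_mul_right h hFR)
        have hFn : ¬ MemLocalIdeal M (sylSum B PP y⁻¹) := fun h =>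
          hzF (memLocalIdeal_mul_left hz h)
        set Q' : Subgroup G := PP ⊓ PP.map (MulAut.conj y⁻¹).toMonoidHom with hQ'
        have hq : (Nat.card Q').factorization p ≤ d := by
          by_contra h
          exact hFn (sylSum_memLocalIdeal hM χ₀ PP hPp y⁻¹ (not_le.1 h))
        have hQ'p : IsPGroup p Q' := hPp.to_le inf_le_left
        have hQ'c := card_eq_pow_factorization hQ'p
        have hDQ' : D ≤ Q' := by
          intro u hu
          refine Subgroup.mem_inf.2 ⟨hDP hu, u, hDP hu, ?_⟩
          show (MulAut.conj y⁻¹) u = u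
          rw [MulAut.conj_apply, inv_inv, mul_assoc, hDg u hu]; group
        have hcq : c ≤ (Nat.card Q').factorization p := by
          have h1 : p ^ c ∣ p ^ (Nat.card Q').factorization p := by
            rw [← hDc, ← hQ'c]; exact Subgroup.card_dvd_of_le hDQ'
          exact (Nat.pow_dvd_pow_iff_le_right hp.one_lt).1 h1
        have hcd' : c = d := le_antisymm (hcq.trans hq) hdc
        have hDQeq : D = Q' := by
          refine Subgroup.eq_of_le_of_card_ge hDQ' ?_
          rw [hQ'c, hDc]
          exact Nat.pow_le_pow_right hp.pos (by omega)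
        have hβy : blockCoeff B y = z := by
          rw [hβ]
          have : e + c - a = 0 := by omega
          rw [this, pow_zero, one_mul]
        have hβn : ¬ MemLocalIdeal M (blockCoeff B y) := hβy ▸ hzn
        have hreg : ¬ p ∣ orderOf y := by
          intro h
          apply hβn
          rw [hB, blockCoeff_eq_zero_of_dvd_orderOf hM χ₀ y h]
          exact memLocalIdeal_zero hP.ne_top
        have hcent_le : (Nat.card (Subgroup.centralizer ({y} : Set G))).factorization p ≤ d := by
          by_contra h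
          exact hβn (blockCoeff_memLocalIdeal_of_defect_lt hM χ₀ y (not_le.1 h))
        have hcent_ge : d ≤ (Nat.card (Subgroup.centralizer ({y} : Set G))).factorization p := by
          have h1 : p ^ d ∣ Nat.card (Subgroup.centralizer ({y} : Set G)) := by
            rw [← hcd', ← hDc]; exact Subgroup.card_dvd_of_le hDC
          exact (Nat.Prime.pow_dvd_iff_le_factorization hp Nat.card_pos.ne').1 h1
        have hconj : D = PP ⊓ PP.map (MulAut.conj y).toMonoidHom := by
          apply le_antisymm
          · intro u hu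
            refine Subgroup.mem_inf.2 ⟨hDP hu, u, hDP hu, ?_⟩
            show (MulAut.conj y) u = u
            rw [MulAut.conj_apply, ← hDg u hu]; group
          · intro u hu
            obtain ⟨hu1, t, ht, htu⟩ := Subgroup.mem_inf.1 hu
            have htu' : y * t * y⁻¹ = u := by
              have : (MulAut.conj y) t = u := htu
              rwa [MulAut.conj_apply] at this
            have htD : t ∈ D := by
              rw [hDQeq]
              refine Subgroup.mem_inf.2 ⟨ht, u, hu1, ?_⟩
              show (MulAut.conj y⁻¹) u = t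
              rw [MulAut.conj_apply, inv_inv, ← htu']; group
            have : u = t := by
              rw [← htu', ← hDg t htD]; group
            rw [this]; exact htD
        refine hno y hreg ?_ ?_ (le_antisymm hcent_le hcent_ge)
        · rw [← hDeq, hDc, hcd']
        · rw [← hDeq]; exact hconj
  rw [sum_blockCoeff_mul_sylSum, mem_scaledIdeal] at hkey
  have hone := sylSum_one_mul hM χ₀ P
  rw [← hB, ← hPP, ← he, ← ha] at hone
  set m := Nat.card G / p ^ a with hm
  set N : ℕ := ∑ χ : IrrCharacter G, (if χ ∈ B then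
        sylowMult P χ * (charDegree (χ : G → ℂ) / p ^ e) else 0) with hN
  have hpe : (p : ℂ) ^ e ≠ 0 := pow_ne_zero _ hp0
  have hNeq : (N : ℂ) = sylSum B PP 1 / (p : ℂ) ^ e * (m : ℂ) := by
    have : sylSum B PP 1 / (p : ℂ) ^ e * (m : ℂ) = sylSum B PP 1 * (m : ℂ) / (p : ℂ) ^ e := by ring
    rw [this, hone]
    field_simp
  have hNmem : MemLocalIdeal M (N : ℂ) := by
    rw [hNeq]
    exact memLocalIdeal_mul_right hkey (natCast_mem_localRing m)
  have hpN : p ∣ N := (natCast_memLocalIdeal_iff hM N).1 hNmem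
  exact not_dvd_sum_sylowMult hM χ₀ P hpN

end Main

end Cfsg.Agent.Lib.H23.Green
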