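import Mathlib
import Cfsg.Prelude.Def_Blocks
import Cfsg.Agent.Lib.H23.BlockLocal

/-!
# Roots of unity modulo a maximal ideal of the algebraic integers (helper23)

* `eq_of_sub_mem_of_pow_eq_one`: reduction modulo `M` is injective on roots of unity of order
  prime to `p`;
* `exists_rootOfUnity_sub_mem`: every algebraic integer outside `M` is congruent modulo `M` to
  a root of unity of order prime to `p`.
-/

set_option autoImplicit false

namespace Cfsg.Agent.Lib.H23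

open Cfsg Polynomial

variable {p : ℕ} {M : Ideal AlgInt}

theorem eq_of_sub_mem_of_pow_eq_one (hM : IsPModular p M) {ε₁ ε₂ : AlgInt} {m₁ m₂ : ℕ}
    (h1 : ¬ p ∣ m₁) (h1' : ε₁ ^ m₁ = 1) (h2 : ¬ p ∣ m₂) (h2' : ε₂ ^ m₂ = 1)
    (h : ε₁ - ε₂ ∈ M) : ε₁ = ε₂ := by
  have hP := isPrime_of_isPModular hM
  have hp := prime_of_isPModular hM
  set m := m₁ * m₂ with hm
  have hpm : ¬ p ∣ m := fun hd => (hp.dvd_mul.1 hd).elim h1 h2
  have hm0 : m ≠ 0 := fun h0 => hpm (h0 ▸ dvd_zero p)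
  have e1 : ε₁ ^ m = 1 := by rw [hm, pow_mul, h1', one_pow]
  have e2 : ε₂ ^ m = 1 := by rw [hm, mul_comm, pow_mul, h2', one_pow]
  set ζ := ε₁ * ε₂ ^ (m - 1) with hζ
  have e2' : ε₂ * ε₂ ^ (m - 1) = 1 := by
    rw [← pow_succ', Nat.sub_add_cancel (Nat.pos_of_ne_zero hm0), e2]
  have hζm : ζ ^ m = 1 := by
    rw [hζ, mul_pow, e1, one_mul, ← pow_mul, mul_comm, pow_mul, e2, one_pow]
  have hζ1 : ζ - 1 ∈ M := by
    have : ζ - 1 = ε₂ ^ (m - 1) * (ε₁ - ε₂) := by
      rw [hζ, mul_sub, mul_comm (ε₂ ^ (m - 1)) ε₂, e2', mul_comm]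
    rw [this]
    exact M.mul_mem_left _ h
  have key : ζ = 1 := by
    by_contra hne
    have hsum : ∑ i ∈ Finset.range m, ζ ^ i = 0 := by
      have := mul_geom_sum ζ m
      rw [hζm, sub_self] at this
      exact (mul_eq_zero.1 this).resolve_left (sub_ne_zero.2 hne)
    have hmem : ∀ i : ℕ, ζ ^ i - 1 ∈ M := by
      intro i
      rw [← mul_geom_sum]
      exact M.mul_mem_right _ hζ1
    have hsum' : (∑ i ∈ Finset.range m, (ζ ^ i - 1)) ∈ M := M.sum_mem (fun i _ => hmem i)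
    rw [Finset.sum_sub_distrib, hsum, Finset.sum_const, Finset.card_range, zero_sub,
      nsmul_one] at hsum'
    have : (m : AlgInt) ∈ M := by
      have := M.neg_mem hsum'
      rwa [neg_neg] at this
    exact hpm ((natCast_mem_iff hM m).1 this)
  calc ε₁ = ε₂ * ζ := by rw [hζ, mul_comm ε₁, ← mul_assoc, e2', one_mul]
    _ = ε₂ := by rw [key, mul_one]

theorem exists_rootOfUnity_sub_mem (hM : IsPModular p M) {a : AlgInt} (ha : a ∉ M) :
    ∃ ε : AlgInt, (∃ m : ℕ, ¬ p ∣ m ∧ ε ^ m = 1) ∧ a - ε ∈ M := by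
  have hP := isPrime_of_isPModular hM
  have hp := prime_of_isPModular hM
  obtain ⟨n, t, ht, r, hr⟩ := exists_pow_sub_pow_mem_span hM a
  -- `a ^ t - 1 ∈ M`
  have h1 : a ^ t - 1 ∈ M := by
    have h2 : a ^ n * (1 - a ^ t) ∈ M := by
      have : a ^ n * (1 - a ^ t) = (p : AlgInt) * r := by rw [← hr]; ring
      rw [this]
      exact M.mul_mem_right _ (natCast_mem_of_isPModular hM)
    have h3 : 1 - a ^ t ∈ M :=
      (hP.mem_or_mem h2).resolve_left (fun h => ha (hP.mem_of_pow_mem _ h))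
    have := M.neg_mem h3
    rwa [neg_sub] at this
  -- remove the `p`-part of `t`
  obtain ⟨e, t', ht', rfl⟩ := Nat.exists_eq_pow_mul_and_not_dvd ht.ne' p hp.ne_one
  have ht'0 : 0 < t' := Nat.pos_of_ne_zero (fun h0 => ht' (h0 ▸ dvd_zero p))
  have h4 : a ^ t' - 1 ∈ M := by
    obtain ⟨s, hs⟩ := exists_add_pow_prime_pow_eq hp (a ^ t' - 1) 1 e
    rw [sub_add_cancel, one_pow, ← pow_mul, mul_comm t'] at hs
    have : (a ^ t' - 1) ^ p ^ e = (a ^ (p ^ e * t') - 1) - (p : AlgInt) * (a ^ t' - 1) * 1 * s := by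
      rw [hs]; ring
    have hmem : (a ^ t' - 1) ^ p ^ e ∈ M := by
      rw [this]
      refine M.sub_mem h1 ?_
      rw [mul_assoc, mul_assoc]
      exact M.mul_mem_right _ (natCast_mem_of_isPModular hM)
    exact hP.mem_of_pow_mem _ hmem
  -- a primitive `t'`-th root of unity in `AlgInt`
  have hprimC := Complex.isPrimitiveRoot_exp t' ht'0.ne'
  set ωC := Complex.exp (2 * Real.pi * Complex.I / t') with hωC
  have hωint : IsIntegral ℤ ωC := by
    refine ⟨X ^ t' - 1, monic_X_pow_sub_C 1 ht'0.ne', ?_⟩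
    simp [hprimC.pow_eq_one]
  let ω : AlgInt := ⟨ωC, hωint⟩
  have hprim : IsPrimitiveRoot ω t' := by
    refine IsPrimitiveRoot.of_map_of_injective (f := (Subalgebra.val AlgInt)) ?_
      Subtype.val_injective
    exact hprimC
  have hfac := X_pow_sub_one_eq_prod ht'0 hprim
  have hev := congrArg (Polynomial.eval a) hfac
  rw [eval_sub, eval_pow, eval_X, eval_one, eval_prod] at hev
  rw [hev, Ideal.IsPrime.prod_mem_iff] at h4
  obtain ⟨ε, hε, hmem⟩ := h4
  rw [eval_sub, eval_X, eval_C] at hmem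
  exact ⟨ε, ⟨t', ht', (mem_nthRootsFinset ht'0 1).1 hε⟩, hmem⟩

end Cfsg.Agent.Lib.H23
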