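import Mathlib
import Cfsg.Prelude.Def_Blocks
import Cfsg.Agent.Lib.H21.AD.Defs
import Cfsg.Agent.Lib.H23.ADBR

/-!
# S4937 piece (CC) (helper23)

The central character of a principal-block character at an element centralising a subgroup `Q`
of index prime to `p`.
-/

set_option autoImplicit false

open Cfsg.Agent.Lib.H21.AD

namespace Cfsg.Agent.Lib.H23.AD

variable {G : Type*} [Group G] [Finite G] {p : ℕ} {M : Ideal Cfsg.AlgInt}

/-- (CC) central character of a principal-block character at an element centralising `Q`,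
`|J : Q|` prime to `p` -/
theorem cc (hM : Cfsg.IsPModular p M) (J : Subgroup G) (χ : G → ℂ)
    (hχ : Cfsg.IsIrrCharacter J (fun y : J => χ y)) (hgood : sSum p J χ ≠ 0)
    (Q : Subgroup G) (hQJ : Q ≤ J) (hQ : ¬ p ∣ Q.relIndex J) (c : G) (hcJ : c ∈ J)
    (hc : c ∈ Subgroup.centralizer (Q : Set G)) :
    Cfsg.MemLocalIdeal M (χ c / χ 1 - 1) := by
  have hP := Cfsg.Agent.Lib.H23.isPrime_of_isPModular hM
  have hmem : (⟨fun y : J => χ y, hχ⟩ : Cfsg.IrrCharacter J) ∈ Cfsg.principalBlock M J :=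
    (br hM J χ hχ).2 hgood
  have hsame : Cfsg.SameBlock M (fun _ : J => (1 : ℂ)) (fun y : J => χ y) := hmem
  have h1 := hsame ⟨c, hcJ⟩
  set k : ℕ := (Subgroup.centralizer ({(⟨c, hcJ⟩ : J)} : Set J)).index with hk
  have hle : Q.subgroupOf J ≤ Subgroup.centralizer ({(⟨c, hcJ⟩ : J)} : Set J) := by
    intro q hq
    rw [Subgroup.mem_subgroupOf] at hq
    rw [Subgroup.mem_centralizer_iff]
    intro x hx
    rw [Set.mem_singleton_iff] at hx
    subst hx
    have := hc (q : G) hq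
    apply Subtype.ext
    simpa using this.symm
  have hkdvd : k ∣ Q.relIndex J := Subgroup.index_dvd_of_le hle
  have hpk : ¬ p ∣ k := fun h => hQ (h.trans hkdvd)
  have hk0 : (k : ℂ) ≠ 0 := by
    intro h
    apply hpk
    have : k = 0 := by exact_mod_cast h
    rw [this]
    exact dvd_zero p
  have hinv := Cfsg.Agent.Lib.H23.memLocalRing_inv_natCast hM hpk
  have h2 := Cfsg.Agent.Lib.H23.memLocalIdeal_neg
    (Cfsg.Agent.Lib.H23.memLocalIdeal_mul_left hinv h1)
  have heq : -((k : ℂ)⁻¹ * (Cfsg.centralChar (fun _ : J => (1 : ℂ)) ⟨c, hcJ⟩ -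
      Cfsg.centralChar (fun y : J => χ y) ⟨c, hcJ⟩)) = χ c / χ 1 - 1 := by
    unfold Cfsg.centralChar
    rw [← hk]
    show -((k : ℂ)⁻¹ * ((k : ℂ) * 1 / 1 - (k : ℂ) * χ c / χ ((1 : J) : G))) = χ c / χ 1 - 1
    rw [Subgroup.coe_one]
    field_simp
    ring
  rw [← heq]
  exact h2

end Cfsg.Agent.Lib.H23.AD
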