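import Cfsg.Agent.Lib.H24.CharGallagher
import Cfsg.Agent.Lib.H24.CharLinearMul
import Cfsg.Agent.Lib.H23.DetChar
import Cfsg.Agent.Lib.L0.CharLinear

/-!
# Extensions of characters with prescribed determinant (helper23)

* `exists_zpow_pow_eq_of_coprime`, `eq_of_pow_eq_of_coprime`: roots in commutative groups;
* `exists_hom_of_restrict_eq`: two irreducible characters of `G` with the same irreducible
  restriction to `N ⊴ G` differ by a linear character of `G/N` (Gallagher);
* `hom_pow_index_eq_one`;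
* `exists_unique_extension_with_det` (Isaacs 6.24, statement S0862).
-/

set_option autoImplicit false

namespace Cfsg.Agent.Lib.H23

open Cfsg.Agent.Lib.L0 Cfsg.Agent.Lib.H24 Module
open scoped ComplexConjugate

section Generic

variable {A : Type*} [CommGroup A]

theorem exists_zpow_pow_eq_of_coprime (ν : A) (t d : ℕ) (hνt : ν ^ t = 1)
    (hcop : Nat.Coprime t d) : ∃ a : ℤ, (ν ^ a) ^ d = ν := by
  have hbez : (d : ℤ) * Nat.gcdA d t + (t : ℤ) * Nat.gcdB d t = 1 := by
    have := Nat.gcd_eq_gcd_ab d t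
    rw [hcop.symm.gcd_eq_one] at this
    exact_mod_cast this.symm
  refine ⟨Nat.gcdA d t, ?_⟩
  rw [← zpow_natCast, ← zpow_mul]
  have h1 : Nat.gcdA d t * (d : ℤ) = 1 - t * Nat.gcdB d t := by linarith
  rw [h1, zpow_sub, zpow_one, zpow_mul, zpow_natCast, hνt, one_zpow, inv_one, mul_one]

theorem eq_of_pow_eq_of_coprime (β β' : A) (t d : ℕ) (h : β' ^ d = β ^ d)
    (ht : (β' / β) ^ t = 1) (hcop : Nat.Coprime t d) : β' = β := by
  have hγd : (β' / β) ^ d = 1 := by rw [div_pow, h, div_self']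
  have h3 : orderOf (β' / β) = 1 :=
    Nat.eq_one_of_dvd_coprimes hcop (orderOf_dvd_of_pow_eq_one ht) (orderOf_dvd_of_pow_eq_one hγd)
  rw [orderOf_eq_one_iff, div_eq_one] at h3
  exact h3

theorem mul_div_cancel_comm_aux (a b : A) : a * (b / a) = b := mul_div_cancel a b

theorem eq_div_of_mul_eq_aux (a b c : A) (h : a * b = c) : b = c / a := by
  rw [← h, mul_div_cancel_left]

end Generic

section Gallagher

variable {G : Type*} [Group G] [Fintype G] (N : Subgroup G) [hN : N.Normal]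

/-- Two irreducible characters of `G` with the same irreducible restriction to the normal subgroup
`N` differ by a linear character of `G / N`. -/
theorem exists_hom_of_restrict_eq {η χ' : G → ℂ} (hη : Cfsg.IsIrrCharacter G η)
    (hχ' : Cfsg.IsIrrCharacter G χ')
    (hηN : Cfsg.IsIrrCharacter N (fun n : N => η n)) (hres : ∀ n : N, χ' n = η n) :
    ∃ β : G →* ℂˣ, (∀ n : N, β n = 1) ∧ χ' = η * homToFun G β := by
  classical
  have := Fintype.ofFinite N
  have := Fintype.ofFinite (Cfsg.IrrCharacter G)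
  set ϑ : N → ℂ := fun n : N => η n with hϑ
  have hηc := isCharacter_of_irr hη
  have hηcf := isClassFunction_of_isCharacter hηc
  have hone : Cfsg.IsIrrCharacter N (1 : N → ℂ) := L0.isIrrCharacter_one
  have hϑinv : ∀ (g : G) (n : N), ϑ ⟨g * n * g⁻¹, hN.conj_mem (n : G) n.2 g⟩ = ϑ n := by
    intro g n
    exact hηcf n g
  have honeinv : ∀ (g : G) (n : N),
      (1 : N → ℂ) ⟨g * n * g⁻¹, hN.conj_mem (n : G) n.2 g⟩ = (1 : N → ℂ) n := fun g n => rfl
  have hprod : Cfsg.IsIrrCharacter N ((1 : N → ℂ) * ϑ) := by rw [one_mul]; exact hηN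
  set I1 : G → ℂ := Cfsg.indFun N (1 : N → ℂ) with hI1
  have hI1c : Cfsg.IsCharacter G I1 := isCharacter_indFun N (isCharacter_of_irr hone)
  -- ϑ^G = I1 * η
  have hind : Cfsg.indFun N ϑ = I1 * η := by
    have := Cfsg.Agent.Lib.H24.indFun_mul_restrict N (1 : N → ℂ) η hηcf
    rw [one_mul] at this
    exact this
  -- [ϑ^G, χ'] = 1
  have hχ'cf := isClassFunction_of_isCharacter (isCharacter_of_irr hχ')
  have h1 : Cfsg.classInner (Cfsg.indFun N ϑ) χ' = 1 := by
    rw [Cfsg.Agent.Lib.L0.frobenius_reciprocity N ϑ χ' hχ'cf]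
    have : (fun h : N => χ' h) = ϑ := funext hres
    rw [this]
    exact irr_classInner_self hηN
  -- expansion
  have hexp := classFunction_expansion I1 (isClassFunction_of_isCharacter hI1c)
  rw [hind] at h1
  conv_lhs at h1 => rw [hexp]
  rw [Finset.sum_mul, classInner_sum_left] at h1
  have hex : ∃ β : Cfsg.IrrCharacter G, Cfsg.classInner I1 (β : G → ℂ) ≠ 0 ∧
      Cfsg.classInner ((β : G → ℂ) * η) χ' ≠ 0 := by
    by_contra hcon
    push Not at hcon
    have : ∑ β : Cfsg.IrrCharacter G,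
        Cfsg.classInner ((Cfsg.classInner I1 (β : G → ℂ) • (β : G → ℂ)) * η) χ' = 0 := by
      apply Finset.sum_eq_zero
      intro β _
      rw [smul_mul_assoc, classInner_smul_left]
      by_cases hβ : Cfsg.classInner I1 (β : G → ℂ) = 0
      · rw [hβ, zero_mul]
      · rw [hcon β hβ, mul_zero]
    rw [this] at h1
    exact zero_ne_one h1
  obtain ⟨β, hβ1, hβ2⟩ := hex
  have hβη : Cfsg.IsIrrCharacter G ((β : G → ℂ) * η) := by
    apply isIrrCharacter_of_classInner_self_eq_one
      (isCharacter_mul (isCharacter_of_irr β.2) hηc)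
    have := gallagher_orthonormal N (1 : N → ℂ) ϑ hone honeinv hϑinv hprod η hη (fun n => rfl)
      β β hβ1 hβ1
    rw [if_pos rfl] at this
    exact this
  have heq : (β : G → ℂ) * η = χ' := by
    by_contra hne
    exact hβ2 (irr_classInner_ne hβη hχ' hne)
  -- β is linear
  have hη1 : η 1 ≠ 0 := Cfsg.Agent.Lib.H24.irr_one_ne_zero ⟨η, hη⟩
  have hβ1' : (β : G → ℂ) 1 = 1 := by
    have h2 := congrFun heq 1
    rw [Pi.mul_apply] at h2
    have h3 : χ' 1 = η 1 := hres 1
    rw [h3] at h2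
    exact mul_right_cancel₀ hη1 (by rw [h2, one_mul])
  set B := linearCharHom (isCharacter_of_irr β.2) hβ1' with hB
  refine ⟨B, ?_, ?_⟩
  · -- trivial on N
    have h4 : Cfsg.classInner (1 : N → ℂ) (fun n : N => (β : G → ℂ) n) ≠ 0 := by
      rw [← Cfsg.Agent.Lib.L0.frobenius_reciprocity N (1 : N → ℂ) (β : G → ℂ)
        (isClassFunction_of_isCharacter (isCharacter_of_irr β.2))]
      exact hβ1
    have h5 : Cfsg.IsIrrCharacter N (fun n : N => (β : G → ℂ) n) :=
      isIrrCharacter_of_hom (B.comp N.subtype)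
    have h6 : (1 : N → ℂ) = fun n : N => (β : G → ℂ) n := by
      by_contra hne
      exact h4 (irr_classInner_ne hone h5 hne)
    intro n
    apply Units.ext
    have := congrFun h6 n
    exact this.symm
  · rw [← heq, mul_comm]
    rfl

/-- Powers of homs trivial on `N`. -/
theorem hom_pow_index_eq_one (ν : G →* ℂˣ) (hν : ∀ n : N, ν n = 1) : ν ^ N.index = 1 := by
  ext g
  rw [MonoidHom.pow_apply, ← map_pow, MonoidHom.one_apply]
  have := hν ⟨g ^ N.index, N.pow_index_mem g⟩
  rw [this]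

/-- Isaacs 6.24: an extendible character of degree prime to the index has a unique extension with
prescribed determinant. -/
theorem exists_unique_extension_with_det (ϑ : N → ℂ)
    (d : ℕ) (hd : ϑ 1 = d) (hcop : Nat.Coprime N.index d)
    (hext : ∃ η : G → ℂ, Cfsg.IsIrrCharacter G η ∧ (∀ n : N, η n = ϑ n))
    (hϑ : Cfsg.IsIrrCharacter N ϑ)
    (μ : G → ℂ) (hμ : Cfsg.IsCharacter G μ ∧ μ 1 = 1)
    (hμN : ∀ n : N, μ n = Cfsg.detChar ϑ n) :
    ∃! χ : G → ℂ, Cfsg.IsIrrCharacter G χ ∧ (∀ n : N, χ n = ϑ n) ∧ Cfsg.detChar χ = μ := by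
  obtain ⟨η, hη, hηN⟩ := hext
  have hηN' : (fun n : N => η n) = ϑ := funext hηN
  have hηc := isCharacter_of_irr hη
  obtain ⟨δ, hδ⟩ := exists_hom_detChar hηc
  set Mμ := linearCharHom hμ.1 hμ.2 with hMμ
  have hMμμ : homToFun G Mμ = μ := rfl
  have hη1 : η 1 = d := by
    rw [← hd, ← hηN 1]
    rfl
  have hdetϑ : ∀ n : N, Cfsg.detChar ϑ n = (δ n : ℂ) := by
    intro n
    rw [← hηN', detChar_restrict N hηc, hδ]
    rfl
  set ν : G →* ℂˣ := Mμ / δ with hν
  have hνN : ∀ n : N, ν n = 1 := by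
    intro n
    rw [hν, MonoidHom.div_apply, div_eq_one]
    apply Units.ext
    rw [← hdetϑ n, ← hμN n]
    rfl
  set t := N.index with ht
  have hνt : ν ^ t = 1 := hom_pow_index_eq_one N ν hνN
  obtain ⟨a, ha⟩ := exists_zpow_pow_eq_of_coprime ν t d hνt hcop
  set β : G →* ℂˣ := ν ^ a with hβ
  have hβd : β ^ d = ν := ha
  have hβN : ∀ n : N, β n = 1 := by
    intro n
    rw [hβ, MonoidHom.zpow_apply, hνN, one_zpow]
  have hdet : ∀ γ : G →* ℂˣ, Cfsg.detChar (η * homToFun G γ) = homToFun G (δ * γ ^ d) := by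
    intro γ
    rw [detChar_mul_homToFun hηc d hη1, hδ, map_mul, map_pow (homToFun G)]
  refine ⟨η * homToFun G β, ⟨?_, ?_, ?_⟩, ?_⟩
  · exact isIrrCharacter_mul_hom η hη β
  · intro n
    rw [Pi.mul_apply, homToFun_apply, hβN, hηN]
    simp
  · rw [hdet, hβd, hν, mul_div_cancel_comm_aux δ Mμ]
    exact hMμμ
  · rintro χ' ⟨hχ', hχ'N, hχ'det⟩
    obtain ⟨β', hβ'N, rfl⟩ := exists_hom_of_restrict_eq N hη hχ' (by rw [hηN']; exact hϑ)
      (fun n => (hχ'N n).trans (hηN n).symm)
    rw [hdet, ← hMμμ] at hχ'det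
    have h1 : δ * β' ^ d = Mμ := homToFun_injective hχ'det
    have h2 : β' ^ d = ν := eq_div_of_mul_eq_aux δ (β' ^ d) Mμ h1
    have hγt : (β' / β) ^ t = 1 := by
      apply hom_pow_index_eq_one N (β' / β)
      intro n
      rw [MonoidHom.div_apply, hβ'N, hβN, div_self']
    have h3 : β' = β := eq_of_pow_eq_of_coprime β β' t d (h2.trans hβd.symm) hγt hcop
    rw [h3]

end Gallagher

end Cfsg.Agent.Lib.H23
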