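import Mathlib
import Cfsg.Agent.Lib.H8.BG12k
import Cfsg.Agent.Lib.H7.BG13a

/-! # BG 12.13, piece Q1 (helper23 for helper8, board #1186): rank-one prime

If `q ∉ σ(L)`, `L` has `q`-rank at most one, `t ∈ L` is a `q`-element and a nontrivial power `s`
of `t` centralizes `A ≤ L_σ`, then `t` centralizes `A`. -/

set_option autoImplicit false
set_option linter.style.haveILetI false
set_option linter.unusedSectionVars false
set_option linter.unusedVariables false

open Cfsg Cfsg.Agent.Lib.H8.BG12 Cfsg.Agent.Lib.H7.BG10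
open Cfsg.Agent.Lib.H16.BG

namespace Cfsg.Agent.Lib.H23.BG1213

universe u
variable {G : Type u} [Group G] [Finite G]

theorem mem_centralizer_of_rank_one (hG : IsMinSimpleOddOrder G) (hC : HypCent G)
    (h17 : Hyp1417 G) {L : Subgroup G} (hL : IsCoatom L) {q : ℕ} [Fact q.Prime]
    (hqσ : q ∉ sigma L) (hr : PRankLE q 1 ↥L) {t : G} (htL : t ∈ L) {k : ℕ}
    (htk : orderOf t = q ^ k) {s : G} (hs : s ∈ Subgroup.zpowers t) (hs1 : s ≠ 1)
    {A : Subgroup G} (hAL : A ≤ sigmaCore L)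
    (hsA : s ∈ Subgroup.centralizer (A : Set G)) : t ∈ Subgroup.centralizer (A : Set G) := by
  have hqp : q.Prime := Fact.out
  -- `zpowers t` is a `q`-group
  have hZq : IsPGroup q ↥(Subgroup.zpowers t) := by
    apply IsPGroup.of_card (n := k)
    rw [Nat.card_zpowers, htk]
  have hZL : Subgroup.zpowers t ≤ L := by
    rw [Subgroup.zpowers_le]; exact htL
  have hZcard : ∀ r : ℕ, r.Prime → r ∣ Nat.card (Subgroup.zpowers t) → r ∉ sigma L := by
    intro r hr hd
    rw [Nat.card_zpowers, htk] at hd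
    have : r = q := (Nat.prime_dvd_prime_iff_eq hr hqp).1 (hr.dvd_of_dvd_pow hd)
    rw [this]; exact hqσ
  obtain ⟨E, hE, hZE⟩ := Cfsg.Agent.Lib.H7.BG13.exists_compl_ge hG hL hZL hZcard
  obtain ⟨S, hS, hZS⟩ := SylIn.exists_ge (p := q) hZq hZE
  have htS : t ∈ S := hZS (Subgroup.mem_zpowers t)
  have hsS : s ∈ S := hZS hs
  have hS1 : S ≠ ⊥ := by
    intro h
    rw [h, Subgroup.mem_bot] at hsS
    exact hs1 hsS
  have hSL : S ≤ L := hS.le.trans hE.1
  have hq2 : q ≠ 2 := by
    apply prime_ne_two_of_dvd hG (H := S)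
    exact dvd_card_of_isPGroup_ne_bot hS.isPGroup hS1
  have hSc : IsCyclic ↥S :=
    isCyclic_of_isPGroup_of_rank_one hq2 hS.isPGroup (pRankLE_of_le hSL hr)
  have hkey := Cfsg.Agent.Lib.H7.BG13.prime_action_core hG hC h17 hL hE hS hS1 hSc hsS hs1
  rw [Subgroup.mem_centralizer_iff]
  intro a ha
  have haC : a ∈ sigmaCore L ⊓ Subgroup.centralizer ({s} : Set G) := by
    refine Subgroup.mem_inf.2 ⟨hAL ha, ?_⟩
    rw [Subgroup.mem_centralizer_singleton_iff]
    rw [Subgroup.mem_centralizer_iff] at hsA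
    exact hsA a ha
  have h1 := hkey haC
  rw [Subgroup.mem_centralizer_iff] at h1
  exact (h1 t htS).symm

end Cfsg.Agent.Lib.H23.BG1213
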