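import Mathlib
import Cfsg.Agent.Lib.H1.FpfAction

/-!
# An abelian `q`-group acting freely modulo its kernel is cyclic (relative form)

helper8's request P2 (board #1174): `exists_pow_mul_mem_centralizer_of_free`.
Proof: norm trick.  If `α, β` are commuting automorphisms of the abelian group `A` with
`α ^ q = β ^ q = 1` such that `α` and all `β α ^ i` have trivial norm maps, then `a ^ q = 1` for all `a`.
-/

set_option autoImplicit false
set_option linter.style.haveILetI false
set_option linter.unusedSectionVars false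

namespace Cfsg.Agent.Lib.H23.FreeCyc

open Finset

section abstract

variable {A : Type*} [CommGroup A]

/-- the "norm" of `a` under `γ` (`q` terms). -/
def nrm (q : ℕ) (γ : MulAut A) (a : A) : A := ∏ k ∈ range q, (γ ^ k) a

theorem nrm_fixed {q : ℕ} {γ : MulAut A} (hγ : γ ^ q = 1) (a : A) :
    γ (nrm q γ a) = nrm q γ a := by
  unfold nrm
  rw [map_prod]
  have h1 : ∀ k ∈ range q, γ ((γ ^ k) a) = (γ ^ (k + 1)) a := by
    intro k _
    rw [pow_succ', MulAut.mul_apply]
  rw [Finset.prod_congr rfl h1]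
  have h2 := Finset.prod_range_succ (fun k => (γ ^ k) a) q
  have h3 := Finset.prod_range_succ' (fun k => (γ ^ k) a) q
  rw [h2] at h3
  simp only [hγ, pow_zero] at h3
  exact (mul_right_cancel h3).symm

theorem prod_pow_mul_eq {q k : ℕ} (hq : q.Prime) (hk0 : k ≠ 0) (hkq : k < q) {α : MulAut A}
    (hα : α ^ q = 1) (a : A) :
    ∏ i ∈ range q, (α ^ (i * k)) a = ∏ j ∈ range q, (α ^ j) a := by
  have hcop : Nat.gcd q k = 1 := by
    apply (Nat.Prime.coprime_iff_not_dvd hq).2
    intro h
    have := Nat.le_of_dvd (Nat.pos_of_ne_zero hk0) h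
    omega
  have hpow : ∀ i, (α ^ (i * k)) a = (α ^ ((i * k) % q)) a := by
    intro i
    rw [pow_eq_pow_mod (i * k) hα]
  have hinj : Set.InjOn (fun i => (i * k) % q) (range q : Set ℕ) := by
    intro i hi j hj hij
    have h1 : i * k ≡ j * k [MOD q] := hij
    have h2 := Nat.ModEq.cancel_right_of_coprime hcop h1
    exact Nat.ModEq.eq_of_lt_of_lt h2 (mem_range.1 hi) (mem_range.1 hj)
  have himg : (range q).image (fun i => (i * k) % q) = range q := by
    apply Finset.eq_of_subset_of_card_le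
    · intro j hj
      obtain ⟨i, _, rfl⟩ := mem_image.1 hj
      exact mem_range.2 (Nat.mod_lt _ hq.pos)
    · rw [Finset.card_image_of_injOn hinj]
  calc ∏ i ∈ range q, (α ^ (i * k)) a
      = ∏ i ∈ range q, (α ^ ((i * k) % q)) a := Finset.prod_congr rfl (fun i _ => hpow i)
    _ = ∏ j ∈ (range q).image (fun i => (i * k) % q), (α ^ j) a :=
        (Finset.prod_image (f := fun j => (α ^ j) a) hinj).symm
    _ = ∏ j ∈ range q, (α ^ j) a := by rw [himg]

theorem pow_eq_one_of_nrm {q : ℕ} (hq : q.Prime) {α β : MulAut A} (hc : Commute α β)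
    (hα : α ^ q = 1) (hNα : ∀ a, nrm q α a = 1)
    (hN : ∀ i : ℕ, ∀ a, nrm q (β * α ^ i) a = 1) (a : A) : a ^ q = 1 := by
  have h1 : ∏ i ∈ range q, nrm q (β * α ^ i) a = 1 := Finset.prod_eq_one (fun i _ => hN i a)
  unfold nrm at h1
  rw [Finset.prod_comm] at h1
  have h2 : ∀ k ∈ range q, ∏ i ∈ range q, ((β * α ^ i) ^ k) a = if k = 0 then a ^ q else 1 := by
    intro k hk
    split_ifs with h0
    · subst h0
      simp
    · have e : ∀ i ∈ range q, ((β * α ^ i) ^ k) a = (β ^ k) ((α ^ (i * k)) a) := by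
        intro i _
        rw [(hc.symm.pow_right i).mul_pow k, MulAut.mul_apply, ← pow_mul]
      rw [Finset.prod_congr rfl e, ← map_prod, prod_pow_mul_eq hq h0 (mem_range.1 hk) hα a]
      have := hNα a
      unfold nrm at this
      rw [this, map_one]
  rw [Finset.prod_congr rfl h2, Finset.prod_ite_eq' (range q) 0 (fun _ => a ^ q)] at h1
  rw [if_pos (mem_range.2 hq.pos)] at h1
  exact h1

end abstract

section group

open Subgroup Cfsg.Agent.Lib.H1

variable {G : Type*} [Group G] [Finite G]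

/-- a `q`-element acting on `A` with trivial fixed points forces `q ∤ |A|`. -/
theorem not_dvd_card_of_free {q : ℕ} [Fact q.Prime] {A : Subgroup G} {w : G}
    (hwq : IsPGroup q (Subgroup.zpowers w)) (hwA : w ∈ normalizer (A : Set G))
    (hfix : A ⊓ centralizer ({w} : Set G) = ⊥) : ¬ q ∣ Nat.card A := by
  intro hdvd
  set S := Subgroup.zpowers w with hS
  have hSA : S ≤ Subgroup.normalizer (A : Set G) := by
    rw [hS, Subgroup.zpowers_le]; exact hwA
  letI : MulAction S A := MulAction.compHom A (conjAutHom hSA)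
  have h1 : (1 : A) ∈ MulAction.fixedPoints S A := by
    intro s
    show conjAutHom hSA s 1 = 1
    exact map_one _
  obtain ⟨b, hb, hb1⟩ := hwq.exists_fixed_point_of_prime_dvd_card_of_fixed_point A hdvd h1
  apply hb1
  have hbx := hb ⟨w, Subgroup.mem_zpowers w⟩
  have hbx' : conjAutHom hSA ⟨w, Subgroup.mem_zpowers w⟩ b = b := hbx
  have h2 := congrArg Subtype.val hbx'
  rw [conjAutHom_apply] at h2
  simp only at h2
  have h3 : (b : G) ∈ A ⊓ Subgroup.centralizer {w} := by
    refine ⟨b.2, ?_⟩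
    show (b : G) ∈ Subgroup.centralizer {w}
    rw [Subgroup.mem_centralizer_iff]
    intro y hy
    rw [Set.mem_singleton_iff] at hy
    subst hy
    calc y * (b : G) = (y * b * y⁻¹) * y := by group
      _ = b * y := by rw [h2]
  rw [hfix, Subgroup.mem_bot] at h3
  exact (Subtype.ext h3).symm

theorem conjAutHom_eq_one_iff {A W : Subgroup G} (hWA : W ≤ normalizer (A : Set G)) (w : W) :
    conjAutHom hWA w = 1 ↔ (w : G) ∈ centralizer (A : Set G) := by
  constructor
  · intro h
    rw [Subgroup.mem_centralizer_iff]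
    intro a ha
    have h1 : conjAutHom hWA w ⟨a, ha⟩ = ⟨a, ha⟩ := by rw [h]; rfl
    have h2 := congrArg Subtype.val h1
    rw [conjAutHom_apply] at h2
    simp only at h2
    calc a * (w : G) = ((w : G) * a * (w : G)⁻¹) * w := by rw [h2]
      _ = w * a := by group
  · intro h
    ext a
    rw [conjAutHom_apply, MulAut.one_apply]
    have := (Subgroup.mem_centralizer_iff.1 h) a a.2
    calc (w : G) * a * (w : G)⁻¹ = (a * (w : G)) * (w : G)⁻¹ := by rw [this]
      _ = a := by group

/-- **P2** (board #1174): an abelian `q`-group `W` acting on an abelian `A ≠ 1` freely modulo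
`C_W(A)` is cyclic modulo `C_W(A)`; elementwise form. -/
theorem exists_pow_mul_mem_centralizer_of_free {q : ℕ} [Fact q.Prime] {A W : Subgroup G}
    (hA1 : A ≠ ⊥) (hAc : IsMulCommutative ↥A) (hWc : IsMulCommutative ↥W) (hWq : IsPGroup q ↥W)
    (hWA : W ≤ normalizer (A : Set G))
    (hfree : ∀ w ∈ W, w ∉ centralizer (A : Set G) → A ⊓ centralizer ({w} : Set G) = ⊥)
    {t u : G} (ht : t ∈ W) (htC : t ∉ centralizer (A : Set G)) (hu : u ∈ W)
    (huq : u ^ q ∈ centralizer (A : Set G)) :
    ∃ m : ℕ, u⁻¹ * t ^ m ∈ centralizer (A : Set G) := by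
  have hq : q.Prime := Fact.out
  by_contra hno
  push Not at hno
  letI : CommGroup ↥A :=
    { (inferInstance : Group ↥A) with mul_comm := fun a b => hAc.is_comm.comm a b }
  -- the element `t' = t ^ (q ^ j)` of order `q` modulo the centralizer
  have hex : ∃ k : ℕ, t ^ (q ^ k) ∈ centralizer (A : Set G) := by
    obtain ⟨k, hk⟩ := hWq ⟨t, ht⟩
    refine ⟨k, ?_⟩
    have := congrArg Subtype.val hk
    simp only [Subgroup.coe_pow, Subgroup.coe_one] at this
    rw [this]
    exact Subgroup.one_mem _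
  classical
  have hk0 : Nat.find hex ≠ 0 := by
    intro h0
    have := Nat.find_spec hex
    rw [h0, pow_zero, pow_one] at this
    exact htC this
  obtain ⟨j, hj⟩ := Nat.exists_eq_succ_of_ne_zero hk0
  have ht'C : t ^ (q ^ j) ∉ centralizer (A : Set G) :=
    Nat.find_min hex (by rw [hj]; exact Nat.lt_succ_self j)
  have ht'q : (t ^ (q ^ j)) ^ q ∈ centralizer (A : Set G) := by
    have := Nat.find_spec hex
    rw [hj, pow_succ, pow_mul] at this
    exact this
  have ht'W : t ^ (q ^ j) ∈ W := W.pow_mem ht _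
  set t' : G := t ^ (q ^ j) with ht'def
  set φ := conjAutHom hWA with hφ
  set α : MulAut ↥A := φ ⟨t', ht'W⟩ with hαdef
  set β : MulAut ↥A := φ ⟨u, hu⟩ with hβdef
  have hα : α ^ q = 1 := by
    rw [hαdef, ← map_pow, conjAutHom_eq_one_iff]
    exact ht'q
  have hc : Commute α β := by
    show α * β = β * α
    rw [hαdef, hβdef, ← map_mul, ← map_mul]
    congr 1
    exact hWc.is_comm.comm _ _
  -- norms vanish
  have hnrm : ∀ w : W, (w : G) ∉ centralizer (A : Set G) → (φ w) ^ q = 1 →
      ∀ a : ↥A, nrm q (φ w) a = 1 := by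
    intro w hwC hwq a
    have hfix := nrm_fixed hwq a
    have h2 := congrArg Subtype.val hfix
    rw [hφ, conjAutHom_apply] at h2
    have h3 : ((nrm q (conjAutHom hWA w) a : ↥A) : G) ∈ A ⊓ centralizer ({(w : G)} : Set G) := by
      refine ⟨(nrm q (conjAutHom hWA w) a).2, ?_⟩
      show _ ∈ Subgroup.centralizer {(w : G)}
      rw [Subgroup.mem_centralizer_iff]
      intro y hy
      rw [Set.mem_singleton_iff] at hy
      subst hy
      calc (w : G) * ((nrm q (conjAutHom hWA w) a : ↥A) : G)
          = ((w : G) * ((nrm q (conjAutHom hWA w) a : ↥A) : G) * (w : G)⁻¹) * (w : G) := by group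
        _ = ((nrm q (conjAutHom hWA w) a : ↥A) : G) * (w : G) := by rw [h2]
    rw [hfree (w : G) w.2 hwC, Subgroup.mem_bot] at h3
    exact Subtype.ext h3
  have hNα : ∀ a, nrm q α a = 1 := hnrm ⟨t', ht'W⟩ ht'C hα
  have hN : ∀ i : ℕ, ∀ a, nrm q (β * α ^ i) a = 1 := by
    intro i
    have hw : u * t' ^ i ∈ W := W.mul_mem hu (W.pow_mem ht'W i)
    have he : β * α ^ i = φ ⟨u * t' ^ i, hw⟩ := by
      rw [hβdef, hαdef, ← map_pow, ← map_mul]
      rfl
    rw [he]
    apply hnrm
    · -- `u * t' ^ i ∉ C(A)`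
      intro hmem
      show False
      have hmem' : u * t' ^ i ∈ centralizer (A : Set G) := hmem
      -- inverse: `u⁻¹ * t' ^ (i * (n - 1))` with `n = orderOf t'`
      have hn : 0 < orderOf t' := orderOf_pos t'
      have hinv : (u * t' ^ i)⁻¹ = u⁻¹ * t' ^ (i * (orderOf t' - 1)) := by
        have hcomm : u * t' ^ i = t' ^ i * u := by
          have := hWc.is_comm.comm (⟨u, hu⟩ : W) ⟨t' ^ i, W.pow_mem ht'W i⟩
          exact congrArg Subtype.val this
        have h1 : t' ^ i * t' ^ (i * (orderOf t' - 1)) = 1 := by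
          rw [← pow_add]
          have : i + i * (orderOf t' - 1) = orderOf t' * i := by
            obtain ⟨n, hn'⟩ := Nat.exists_eq_succ_of_ne_zero hn.ne'
            rw [hn', Nat.succ_eq_add_one, Nat.add_sub_cancel]
            ring
          rw [this, pow_mul, pow_orderOf_eq_one, one_pow]
        rw [inv_eq_iff_mul_eq_one, hcomm]
        calc t' ^ i * u * (u⁻¹ * t' ^ (i * (orderOf t' - 1)))
            = t' ^ i * t' ^ (i * (orderOf t' - 1)) := by group
          _ = 1 := h1
      have h2 := Subgroup.inv_mem _ hmem'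
      rw [hinv, ht'def, ← pow_mul] at h2
      exact hno _ h2
    · -- `(φ (u t'^i))^q = 1`
      rw [← he, (hc.symm.pow_right i).mul_pow q, ← pow_mul, mul_comm i q, pow_mul, hα, one_pow,
        mul_one, hβdef, ← map_pow, conjAutHom_eq_one_iff]
      exact huq
  have hall : ∀ a : ↥A, a ^ q = 1 := pow_eq_one_of_nrm hq hc hα hNα hN
  -- `q ∤ |A|`
  have hndvd : ¬ q ∣ Nat.card A :=
    not_dvd_card_of_free (hWq.to_le (Subgroup.zpowers_le.2 ht'W)) (hWA ht'W)
      (hfree t' ht'W ht'C)
  apply hA1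
  rw [eq_bot_iff]
  intro a ha
  rw [Subgroup.mem_bot]
  have h1 : orderOf (⟨a, ha⟩ : ↥A) ∣ q := orderOf_dvd_of_pow_eq_one (hall ⟨a, ha⟩)
  rcases (Nat.dvd_prime hq).1 h1 with h | h
  · have := orderOf_eq_one_iff.1 h
    exact congrArg Subtype.val this
  · exfalso
    apply hndvd
    rw [← h]
    exact orderOf_dvd_natCard _

end group

end Cfsg.Agent.Lib.H23.FreeCyc
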