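import Mathlib
import Cfsg.Prelude.Def_FusionSystem

/-!
# Leary–Stancheva realization of an arbitrary fusion system: definitions (helper23)

`Q = Perm S`, `lam` the left regular representation, `Idx F` the morphisms of `F`, `sig i` a permutation of `S`
intertwining `lam` on the source of the `i`-th morphism with `lam ∘ φ_i`, `X F` the disjoint union of the coset
spaces `Q ⧸ lam (φ_i P_i)`, `Amb = FreeGroup X ⋊ Q` (with `Q` permuting the free generators), `tau i = (x_i, sig i)`
and `G F = ⟨emb S, tau i⟩`.
-/

set_option autoImplicit false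

namespace Cfsg.Agent.Lib.H23.LS

open Cfsg

universe u v

section Generic

variable {X : Type u} {Q : Type v} [Group Q] [MulAction Q X]

/-- `Q` acts on `FreeGroup X` by permuting the free generators. -/
noncomputable def actAut (X : Type u) (Q : Type v) [Group Q] [MulAction Q X] : Q →* MulAut (FreeGroup X) where
  toFun q := FreeGroup.freeGroupCongr (MulAction.toPerm q)
  map_one' := by
    apply MulEquiv.toMonoidHom_injective
    ext x
    simp [FreeGroup.freeGroupCongr]
  map_mul' q₁ q₂ := by
    apply MulEquiv.toMonoidHom_injective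
    ext x
    simp [FreeGroup.freeGroupCongr, mul_smul]

@[simp] theorem actAut_of (q : Q) (x : X) : actAut X Q q (FreeGroup.of x) = FreeGroup.of (q • x) := by
  simp [actAut, FreeGroup.freeGroupCongr]

theorem actAut_apply (q : Q) (v : FreeGroup X) :
    actAut X Q q v = FreeGroup.map (fun x => q • x) v := rfl

/-- The ambient group `FreeGroup X ⋊ Q`. -/
abbrev Amb (X : Type u) (Q : Type v) [Group Q] [MulAction Q X] : Type (max u v) :=
  FreeGroup X ⋊[actAut X Q] Q

/-- The affine action of the ambient group on (the vertices of the Cayley tree of) `FreeGroup X`. -/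
noncomputable def aff (g : Amb X Q) (v : FreeGroup X) : FreeGroup X := g.left * actAut X Q g.right v

/-- The letter `(x, b)` as an element of the free group. -/
def letter (a : X × Bool) : FreeGroup X := FreeGroup.mk [a]

/-- The distance in the Cayley tree. -/
def dist [DecidableEq X] (a b : FreeGroup X) : ℕ := (a⁻¹ * b).norm

end Generic

section Specific

variable {Ω : Type u} [Group Ω] {S : Subgroup Ω}

/-- The index type: all morphisms of the fusion system. -/
abbrev Idx (F : FusionSystem S) : Type u := Σ P : Subgroup Ω, {φ : P →* Ω // φ ∈ F.Hom P}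

/-- The left regular representation of `S`. -/
def lam (S : Subgroup Ω) : ↥S →* Equiv.Perm ↥S := MulAction.toPermHom ↥S ↥S

@[simp] theorem lam_apply (a x : ↥S) : lam S a x = a * x := rfl

theorem lam_injective : Function.Injective (lam S) := by
  intro a b h
  have := congrArg (fun f : Equiv.Perm ↥S => f 1) h
  simpa using this

variable (F : FusionSystem S)

/-- The source of the `i`-th morphism, as a subgroup of `S`. -/
def dom (i : Idx F) : Subgroup ↥S := i.1.subgroupOf S

/-- The image of the `i`-th morphism, as a subgroup of `S`. -/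
def img (i : Idx F) : Subgroup ↥S := (i.2.1.range).subgroupOf S

theorem idx_le (i : Idx F) : i.1 ≤ S := (F.le_of_mem i.2.2).1

theorem idx_mem (i : Idx F) (x : i.1) : i.2.1 x ∈ S := (F.le_of_mem i.2.2).2 x

/-- The `i`-th morphism as a homomorphism `dom i →* S`. -/
def mor (i : Idx F) : ↥(dom F i) →* ↥S :=
  (i.2.1.codRestrict S (idx_mem F i)).comp (Subgroup.subgroupOfEquivOfLe (idx_le F i)).toMonoidHom

theorem mor_coe (i : Idx F) (u : ↥(dom F i)) :
    ((mor F i u : ↥S) : Ω) = i.2.1 ⟨((u : ↥S) : Ω), u.2⟩ := rfl

/-- The defining property of the intertwining permutation. -/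
def IsSig (i : Idx F) (σ : Equiv.Perm ↥S) : Prop :=
  ∀ (u : ↥(dom F i)) (x : ↥S), σ ((u : ↥S) * x) = mor F i u * σ x

/-- A permutation of `S` intertwining left multiplication by `u ∈ dom i` with left multiplication by `φ_i u`
(any choice; it exists since both make `S` a free `dom i`-set, see `LSSigma`). -/
noncomputable def sig (i : Idx F) : Equiv.Perm ↥S := Classical.epsilon (IsSig F i)

/-- The stabilizer subgroup `lam (img i)` of the basic generator `x₀ i`. -/
def stab (i : Idx F) : Subgroup (Equiv.Perm ↥S) := (img F i).map (lam S)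

/-- The free generators: the disjoint union of the coset spaces `Perm S ⧸ lam (img i)`. -/
abbrev Gen : Type u := Σ i : Idx F, Equiv.Perm ↥S ⧸ stab F i

noncomputable instance : DecidableEq (Gen F) := Classical.decEq _

/-- The basic generator attached to the `i`-th morphism. -/
def x₀ (i : Idx F) : Gen F := ⟨i, ((1 : Equiv.Perm ↥S) : Equiv.Perm ↥S ⧸ stab F i)⟩

/-- The ambient group for `F`. -/
abbrev AmbF : Type u := Amb (Gen F) (Equiv.Perm ↥S)

/-- The stable letter of the `i`-th morphism. -/
noncomputable def tau (i : Idx F) : AmbF F := ⟨FreeGroup.of (x₀ F i), sig F i⟩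

/-- The embedding of `S`. -/
noncomputable def emb : ↥S →* AmbF F := (SemidirectProduct.inr).comp (lam S)

/-- The realizing group. -/
noncomputable def G : Subgroup (AmbF F) := Subgroup.closure (Set.range (emb F) ∪ Set.range (tau F))

theorem emb_mem (a : ↥S) : emb F a ∈ G F := Subgroup.subset_closure (Or.inl ⟨a, rfl⟩)

theorem tau_mem (i : Idx F) : tau F i ∈ G F := Subgroup.subset_closure (Or.inr ⟨i, rfl⟩)

/-- The embedding of `S` into the realizing group. -/
noncomputable def iota : ↥S →* ↥(G F) := (emb F).codRestrict (G F) (emb_mem F)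

/-- A syllable `τ_i^{±1} · emb a`. -/
abbrev Syl : Type u := Idx F × Bool × ↥S

/-- The value of a syllable. -/
noncomputable def sylVal (s : Syl F) : AmbF F := (if s.2.1 then tau F s.1 else (tau F s.1)⁻¹) * emb F s.2.2

/-- The value of a syllable word `emb a₀ · τ^{±} emb a₁ ⋯ τ^{±} emb a_k`. -/
noncomputable def eval (a₀ : ↥S) (L : List (Syl F)) : AmbF F := emb F a₀ * (L.map (sylVal F)).prod

/-- Two consecutive syllables `τ_i^{b} a τ_j^{c}` form a pinch. -/
def Pinch (s t : Syl F) : Prop :=
  s.1 = t.1 ∧ s.2.1 = !t.2.1 ∧ (if s.2.1 then s.2.2 ∈ dom F s.1 else s.2.2 ∈ img F s.1)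

/-- A syllable word without pinches. -/
def NoPinch (L : List (Syl F)) : Prop := L.IsChain fun s t => ¬ Pinch F s t

/-- The letters of the left component of a syllable word, `q` being the `Perm S`-component of the prefix. -/
noncomputable def letters : Equiv.Perm ↥S → List (Syl F) → List (Gen F × Bool)
  | _, [] => []
  | q, s :: L =>
      if s.2.1 then (q • x₀ F s.1, true) :: letters (q * sig F s.1 * lam S s.2.2) L
      else ((q * (sig F s.1)⁻¹) • x₀ F s.1, false) :: letters (q * (sig F s.1)⁻¹ * lam S s.2.2) L

theorem length_letters (q : Equiv.Perm ↥S) (L : List (Syl F)) : (letters F q L).length = L.length := by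
  induction L generalizing q with
  | nil => rfl
  | cons s L ih =>
    unfold letters
    split_ifs <;> simp [ih]

/-- The relations used by the normal form analysis (proved in the piece `REL`). -/
structure Facts : Prop where
  rel : ∀ (i : Idx F) (u : ↥(dom F i)), tau F i * emb F (u : ↥S) * (tau F i)⁻¹ = emb F (mor F i u)
  img_iff : ∀ (i : Idx F) (a : ↥S), a ∈ img F i ↔ ∃ u : ↥(dom F i), mor F i u = a
  stab_lam : ∀ (i : Idx F) (a : ↥S), lam S a ∈ stab F i ↔ a ∈ img F i
  stab_sig : ∀ (i : Idx F) (a : ↥S), sig F i * lam S a * (sig F i)⁻¹ ∈ stab F i ↔ a ∈ dom F i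

end Specific

end Cfsg.Agent.Lib.H23.LS
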