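import Mathlib
import Cfsg.Agent.Lib.H23.LSDefs

/-!
# Leary–Stancheva realization: conjugation in `G` between subgroups of `S` lies in `F` (piece FUS, helper23)
-/

set_option autoImplicit false

namespace Cfsg.Agent.Lib.H23.LS

open Cfsg

universe u v

section Generic
variable {X : Type u} [DecidableEq X] {Q : Type v} [Group Q] [MulAction Q X]

theorem fus_toWord_actAut (q : Q) (v : FreeGroup X) :
    (actAut X Q q v).toWord = v.toWord.map fun a => (q • a.1, a.2) := by
  conv_lhs => rw [← FreeGroup.mk_toWord (x := v)]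
  rw [actAut_apply, FreeGroup.map.mk, FreeGroup.toWord_mk]
  apply FreeGroup.IsReduced.reduce_eq
  have h := FreeGroup.isReduced_toWord (x := v)
  unfold FreeGroup.IsReduced at h ⊢
  rw [List.isChain_map]
  refine h.imp ?_
  intro a b hab h1
  exact hab (smul_left_cancel q h1)

end Generic

section Specific

variable {Ω : Type u} [Group Ω] {S : Subgroup Ω} (F : FusionSystem S)

theorem fus_emb_left (a : ↥S) : (emb F a).left = 1 := by simp [emb]

theorem fus_emb_right (a : ↥S) : (emb F a).right = lam S a := by simp [emb]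

theorem fus_eval_cons (a₀ : ↥S) (s : Syl F) (L : List (Syl F)) :
    eval F a₀ (s :: L) =
      emb F a₀ * (if s.2.1 then tau F s.1 else (tau F s.1)⁻¹) * eval F s.2.2 L := by
  simp only [eval, List.map_cons, List.prod_cons, sylVal]
  group

/-- Comparing left components: if `emb y * g = g * emb x` then `lam y` fixes `g.left`. -/
theorem fus_fix_left (g : AmbF F) (x y : ↥S) (h : emb F y * g = g * emb F x) :
    actAut (Gen F) (Equiv.Perm ↥S) (lam S y) g.left = g.left := by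
  have h1 := congrArg SemidirectProduct.left h
  rw [SemidirectProduct.mul_left, SemidirectProduct.mul_left, fus_emb_left, fus_emb_left, one_mul,
    map_one, mul_one, fus_emb_right] at h1
  exact h1

/-- `q • x₀ i` is fixed by `r` iff `q⁻¹ r q` lies in the stabilizer. -/
theorem fus_smul_x₀_eq (i : Idx F) (q r : Equiv.Perm ↥S) :
    r • (q • x₀ F i) = q • x₀ F i ↔ q⁻¹ * r * q ∈ stab F i := by
  unfold x₀
  constructor
  · intro h
    have h1 : (r • q • ((1 : Equiv.Perm ↥S) : Equiv.Perm ↥S ⧸ stab F i)) =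
        q • ((1 : Equiv.Perm ↥S) : Equiv.Perm ↥S ⧸ stab F i) := by
      have := (Sigma.mk.inj_iff.mp h).2
      exact eq_of_heq this
    rw [← mul_smul] at h1
    have h2 : ((r * q * 1 : Equiv.Perm ↥S) : Equiv.Perm ↥S ⧸ stab F i) =
        ((q * 1 : Equiv.Perm ↥S) : Equiv.Perm ↥S ⧸ stab F i) := h1
    rw [mul_one, mul_one, eq_comm, QuotientGroup.eq] at h2
    simpa [mul_assoc] using h2
  · intro h
    have h2 : ((q : Equiv.Perm ↥S) : Equiv.Perm ↥S ⧸ stab F i) =
        ((r * q : Equiv.Perm ↥S) : Equiv.Perm ↥S ⧸ stab F i) := by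
      rw [QuotientGroup.eq]
      simpa [mul_assoc] using h
    have h3 : r • q • ((1 : Equiv.Perm ↥S) : Equiv.Perm ↥S ⧸ stab F i) =
        q • ((1 : Equiv.Perm ↥S) : Equiv.Perm ↥S ⧸ stab F i) := by
      rw [← mul_smul]
      change ((r * q * 1 : Equiv.Perm ↥S) : Equiv.Perm ↥S ⧸ stab F i) =
        ((q * 1 : Equiv.Perm ↥S) : Equiv.Perm ↥S ⧸ stab F i)
      rw [mul_one, mul_one]
      exact h2.symm
    change (⟨i, r • q • ((1 : Equiv.Perm ↥S) : Equiv.Perm ↥S ⧸ stab F i)⟩ : Gen F) = ⟨i, _⟩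
    rw [h3]

/-- The first letter of a nonempty pinch-free word is fixed by `lam y` whenever `emb y * g = g * emb x`. -/
theorem fus_first_letter (hF : Facts F)
    (hNF2 : ∀ (a₀ : ↥S) (L : List (Syl F)), NoPinch F L →
      (eval F a₀ L).left.toWord = letters F (lam S a₀) L)
    (a₀ : ↥S) (s : Syl F) (L : List (Syl F)) (hL : NoPinch F (s :: L)) (x y : ↥S)
    (h : emb F y * eval F a₀ (s :: L) = eval F a₀ (s :: L) * emb F x) :
    if s.2.1 then a₀⁻¹ * y * a₀ ∈ img F s.1 else a₀⁻¹ * y * a₀ ∈ dom F s.1 := by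
  have h1 := fus_fix_left F _ x y h
  have h2 := congrArg FreeGroup.toWord h1
  rw [fus_toWord_actAut, hNF2 a₀ (s :: L) hL] at h2
  obtain ⟨i, b, a⟩ := s
  cases b with
  | true =>
    simp only [letters, if_true, List.map_cons, List.cons.injEq, Prod.mk.injEq, and_true] at h2
    have h3 := (fus_smul_x₀_eq F i (lam S a₀) (lam S y)).mp h2.1
    rw [← map_inv, ← map_mul, ← map_mul] at h3
    simpa using (hF.stab_lam i _).mp h3
  | false =>
    simp only [letters, Bool.false_eq_true, if_false, List.map_cons, List.cons.injEq, Prod.mk.injEq,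
      and_true] at h2
    have h3 := (fus_smul_x₀_eq F i (lam S a₀ * (sig F i)⁻¹) (lam S y)).mp h2.1
    have h4 : (lam S a₀ * (sig F i)⁻¹)⁻¹ * lam S y * (lam S a₀ * (sig F i)⁻¹) =
        sig F i * lam S (a₀⁻¹ * y * a₀) * (sig F i)⁻¹ := by
      rw [map_mul, map_mul, map_inv]; group
    rw [h4] at h3
    simpa using (hF.stab_sig i _).mp h3

theorem fus_emb_injective : Function.Injective (emb F) := by
  intro a b h
  have h1 : (emb F a).right = (emb F b).right := by rw [h]
  rw [fus_emb_right, fus_emb_right] at h1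
  exact lam_injective h1

theorem fus_aux (hF : Facts F)
    (hNF2 : ∀ (a₀ : ↥S) (L : List (Syl F)), NoPinch F L →
      (eval F a₀ L).left.toWord = letters F (lam S a₀) L) :
    ∀ (L : List (Syl F)) (a₀ : ↥S), NoPinch F L → ∀ (P : Subgroup Ω) (hP : P ≤ S) (ψ : P →* Ω)
      (hψ : ∀ x : P, ψ x ∈ S),
      (∀ x : P, emb F ⟨ψ x, hψ x⟩ * eval F a₀ L = eval F a₀ L * emb F ⟨x, hP x.2⟩) →
      ψ ∈ F.Hom P := by
  intro L
  induction L with
  | nil =>
    intro a₀ _ P hP ψ hψ h
    have h1 : ψ = conjHom P (a₀ : Ω) := by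
      ext x
      have h2 := h x
      simp only [eval, List.map_nil, List.prod_nil, mul_one] at h2
      rw [← map_mul, ← map_mul] at h2
      have h3 := fus_emb_injective F h2
      have h4 : ψ x * (a₀ : Ω) = (a₀ : Ω) * (x : Ω) := congrArg Subtype.val h3
      change ψ x = (a₀ : Ω) * (x : Ω) * (a₀ : Ω)⁻¹
      rw [← h4]; group
    rw [h1]; exact F.conj_mem hP a₀.2
  | cons s L ih =>
    intro a₀ hL P hP ψ hψ h
    have hL' : NoPinch F L := List.IsChain.tail hL
    obtain ⟨i, b, a⟩ := s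
    have key := fun x : P =>
      fus_first_letter F hF hNF2 a₀ (i, b, a) L hL ⟨x, hP x.2⟩ ⟨ψ x, hψ x⟩ (h x)
    -- the conjugate `a₀⁻¹ ψ(x) a₀`
    let ρ : P →* Ω := (MulAut.conj ((a₀ : Ω)⁻¹)).toMonoidHom.comp ψ
    have hρ_apply : ∀ x : P, ρ x = (a₀ : Ω)⁻¹ * ψ x * (a₀ : Ω) := by
      intro x; simp [ρ]
    obtain ⟨χ, hχmem, hχ⟩ := F.inv_mem i.2.2
    have hconjS : conjHom S (a₀ : Ω) ∈ F.Hom S := F.conj_mem le_rfl a₀.2
    cases b with
    | false =>
      simp only [Bool.false_eq_true, if_false] at key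
      have hρ : ∀ x : P, ρ x ∈ i.1 := by
        intro x
        have := key x
        rw [hρ_apply]
        exact this
      let ψ' : P →* Ω := i.2.1.comp (ρ.codRestrict i.1 hρ)
      have hψ' : ∀ x : P, ψ' x ∈ S := fun x => idx_mem F i _
      have hstep : ∀ x : P, emb F ⟨ψ' x, hψ' x⟩ * eval F a L = eval F a L * emb F ⟨x, hP x.2⟩ := by
        intro x
        have hx := h x
        rw [fus_eval_cons] at hx
        simp only [Bool.false_eq_true, if_false] at hx
        have hrel := hF.rel i ⟨a₀⁻¹ * ⟨ψ x, hψ x⟩ * a₀, key x⟩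
        have hmor : mor F i ⟨a₀⁻¹ * ⟨ψ x, hψ x⟩ * a₀, key x⟩ = ⟨ψ' x, hψ' x⟩ := by
          apply Subtype.ext
          rw [mor_coe]
          change i.2.1 _ = i.2.1 ⟨ρ x, hρ x⟩
          congr 1
          apply Subtype.ext
          exact (hρ_apply x).symm
        rw [hmor] at hrel
        rw [← hrel]
        simp only [map_mul, map_inv]
        have : emb F ⟨ψ x, hψ x⟩ * emb F a₀ * (tau F i)⁻¹ * eval F a L =
            emb F a₀ * (tau F i)⁻¹ * eval F a L * emb F ⟨x, hP x.2⟩ := by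
          rw [← hx]; group
        calc tau F i * ((emb F a₀)⁻¹ * emb F ⟨ψ x, hψ x⟩ * emb F a₀) * (tau F i)⁻¹ * eval F a L
            = tau F i * (emb F a₀)⁻¹ *
              (emb F ⟨ψ x, hψ x⟩ * emb F a₀ * (tau F i)⁻¹ * eval F a L) := by group
          _ = tau F i * (emb F a₀)⁻¹ *
              (emb F a₀ * (tau F i)⁻¹ * eval F a L * emb F ⟨x, hP x.2⟩) := by rw [this]
          _ = eval F a L * emb F ⟨x, hP x.2⟩ := by group
      have hψ'mem : ψ' ∈ F.Hom P := ih a hL' P hP ψ' hψ' hstep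
      have hr : ∀ x : P, ψ' x ∈ i.2.1.range := fun x => ⟨_, rfl⟩
      have c1 := F.comp_mem hψ'mem hχmem hr
      have hc1S : ∀ x : P, (χ.comp (ψ'.codRestrict i.2.1.range hr)) x ∈ S := (F.le_of_mem c1).2
      have c2 := F.comp_mem c1 hconjS hc1S
      have hfin : ψ = (conjHom S (a₀ : Ω)).comp
          ((χ.comp (ψ'.codRestrict i.2.1.range hr)).codRestrict S hc1S) := by
        ext x
        have h1 : χ (ψ'.codRestrict i.2.1.range hr x) = ρ x := hχ ⟨ρ x, hρ x⟩
        change ψ x = (a₀ : Ω) * χ (ψ'.codRestrict i.2.1.range hr x) * (a₀ : Ω)⁻¹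
        rw [h1, hρ_apply]; group
      rw [hfin]; exact c2
    | true =>
      simp only [if_true] at key
      have hρ : ∀ x : P, ρ x ∈ i.2.1.range := by
        intro x
        have := key x
        rw [hρ_apply]
        exact this
      let ψ' : P →* Ω := χ.comp (ρ.codRestrict i.2.1.range hρ)
      have hψ'dom : ∀ x : P, ∃ z : i.1, i.2.1 z = ρ x ∧ ψ' x = (z : Ω) := by
        intro x
        obtain ⟨z, hz⟩ := hρ x
        refine ⟨z, hz, ?_⟩
        have h1 := hχ z
        have h2 : (⟨i.2.1 z, ⟨z, rfl⟩⟩ : i.2.1.range) = ρ.codRestrict i.2.1.range hρ x :=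
          Subtype.ext hz
        rw [h2] at h1
        exact h1
      have hψ'i : ∀ x : P, ψ' x ∈ i.1 := by
        intro x
        obtain ⟨z, _, hz⟩ := hψ'dom x
        rw [hz]; exact z.2
      have hψ' : ∀ x : P, ψ' x ∈ S := fun x => idx_le F i (hψ'i x)
      have hφψ' : ∀ x : P, i.2.1 ⟨ψ' x, hψ'i x⟩ = ρ x := by
        intro x
        obtain ⟨z, hz1, hz2⟩ := hψ'dom x
        have : (⟨ψ' x, hψ'i x⟩ : i.1) = z := Subtype.ext hz2
        rw [this, hz1]
      have hstep : ∀ x : P, emb F ⟨ψ' x, hψ' x⟩ * eval F a L = eval F a L * emb F ⟨x, hP x.2⟩ := by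
        intro x
        have hx := h x
        rw [fus_eval_cons] at hx
        simp only [if_true] at hx
        have hu : (⟨ψ' x, hψ' x⟩ : ↥S) ∈ dom F i := hψ'i x
        have hrel := hF.rel i ⟨⟨ψ' x, hψ' x⟩, hu⟩
        have hmor : mor F i ⟨⟨ψ' x, hψ' x⟩, hu⟩ = a₀⁻¹ * ⟨ψ x, hψ x⟩ * a₀ := by
          apply Subtype.ext
          rw [mor_coe]
          change i.2.1 ⟨ψ' x, hψ'i x⟩ = _
          rw [hφψ' x, hρ_apply]
          rfl
        rw [hmor] at hrel
        simp only [map_mul, map_inv] at hrel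
        have hx' : emb F ⟨ψ x, hψ x⟩ * emb F a₀ * tau F i * eval F a L =
            emb F a₀ * tau F i * eval F a L * emb F ⟨x, hP x.2⟩ := by
          rw [← hx]; group
        have hemb : emb F ⟨ψ' x, hψ' x⟩ =
            (tau F i)⁻¹ * ((emb F a₀)⁻¹ * emb F ⟨ψ x, hψ x⟩ * emb F a₀) * tau F i := by
          rw [← hrel]; group
        rw [hemb]
        calc (tau F i)⁻¹ * ((emb F a₀)⁻¹ * emb F ⟨ψ x, hψ x⟩ * emb F a₀) * tau F i * eval F a L
            = (tau F i)⁻¹ * (emb F a₀)⁻¹ *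
              (emb F ⟨ψ x, hψ x⟩ * emb F a₀ * tau F i * eval F a L) := by group
          _ = (tau F i)⁻¹ * (emb F a₀)⁻¹ *
              (emb F a₀ * tau F i * eval F a L * emb F ⟨x, hP x.2⟩) := by rw [hx']
          _ = eval F a L * emb F ⟨x, hP x.2⟩ := by group
      have hψ'mem : ψ' ∈ F.Hom P := ih a hL' P hP ψ' hψ' hstep
      have c1 := F.comp_mem hψ'mem i.2.2 hψ'i
      have hc1S : ∀ x : P, (i.2.1.comp (ψ'.codRestrict i.1 hψ'i)) x ∈ S := (F.le_of_mem c1).2
      have c2 := F.comp_mem c1 hconjS hc1S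
      have hfin : ψ = (conjHom S (a₀ : Ω)).comp
          ((i.2.1.comp (ψ'.codRestrict i.1 hψ'i)).codRestrict S hc1S) := by
        ext x
        change ψ x = (a₀ : Ω) * i.2.1 ⟨ψ' x, hψ'i x⟩ * (a₀ : Ω)⁻¹
        rw [hφψ' x, hρ_apply]; group
      rw [hfin]; exact c2

/-- (FUS) conjugation by an element of `G` between subgroups of `S` is a map of `F`. -/
theorem fus (hF : Facts F)
    (hNF1 : ∀ g ∈ G F, ∃ (a₀ : ↥S) (L : List (Syl F)), NoPinch F L ∧ eval F a₀ L = g)
    (hNF2 : ∀ (a₀ : ↥S) (L : List (Syl F)), NoPinch F L →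
      (eval F a₀ L).left.toWord = letters F (lam S a₀) L)
    (g : AmbF F) (hg : g ∈ G F) (P : Subgroup Ω) (hP : P ≤ S) (ψ : P →* Ω)
    (hψ : ∀ x : P, ψ x ∈ S)
    (h : ∀ x : P, emb F ⟨ψ x, hψ x⟩ = g * emb F ⟨x, hP x.2⟩ * g⁻¹) : ψ ∈ F.Hom P := by
  obtain ⟨a₀, L, hL, rfl⟩ := hNF1 g hg
  refine fus_aux F hF hNF2 L a₀ hL P hP ψ hψ fun x => ?_
  rw [h x]; group

end Specific

end Cfsg.Agent.Lib.H23.LS
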