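import Mathlib
import Cfsg.Agent.Lib.H23.LSDefs
import Cfsg.Agent.Lib.H23.LSFus

/-!
# Leary–Stancheva realization: word lemmas and the affine action on the Cayley tree (pieces W1, W2, AFF; helper23)
-/

set_option autoImplicit false
set_option linter.unusedSectionVars false

namespace Cfsg.Agent.Lib.H23.LS

open Cfsg

universe u v

variable {X : Type u} [DecidableEq X] {Q : Type v} [Group Q] [MulAction Q X]

theorem toWord_letter (l : X × Bool) : (letter l).toWord = [l] := by
  unfold letter
  rw [FreeGroup.toWord_mk]
  rfl

theorem letter_inv (l : X × Bool) : (letter l)⁻¹ = letter (l.1, !l.2) := by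
  unfold letter
  rw [FreeGroup.inv_mk]
  rfl

/-- (W1) -/
theorem toWord_letter_inv_mul (l : X × Bool) (w : FreeGroup X) :
    ((letter l)⁻¹ * w).toWord =
      if w.toWord.head? = some l then w.toWord.tail else (l.1, !l.2) :: w.toWord := by
  rw [FreeGroup.toWord_mul, letter_inv, toWord_letter, List.singleton_append, FreeGroup.reduce.cons,
    FreeGroup.reduce_toWord]
  cases hw : w.toWord with
  | nil => simp
  | cons hd tl =>
    simp only [List.head?_cons, Option.some.injEq, List.tail_cons]
    by_cases h : hd = l
    · subst h
      simp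
    · rw [if_neg h, if_neg]
      rintro ⟨h1, h2⟩
      apply h
      apply Prod.ext h1.symm
      have h3 : l.2 = hd.2 := by simpa using h2
      exact h3.symm

theorem isReduced_append {L₁ L₂ : List (X × Bool)} (h₁ : FreeGroup.IsReduced L₁)
    (h₂ : FreeGroup.IsReduced L₂)
    (h : ∀ a ∈ L₁.getLast?, ∀ b ∈ L₂.head?, a.1 = b.1 → a.2 = b.2) :
    FreeGroup.IsReduced (L₁ ++ L₂) := by
  unfold FreeGroup.IsReduced at *
  exact List.IsChain.append h₁ h₂ h

/-- (W2) -/
theorem norm_inv_mul_of_head_ne (u w : FreeGroup X) (l : X × Bool) (hu : u.toWord.head? = some l)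
    (hw : w.toWord.head? ≠ some l) :
    (u⁻¹ * w).norm = u.norm + w.norm ∧ (u⁻¹ * w).toWord.head? = (u⁻¹).toWord.head? := by
  have hred : FreeGroup.IsReduced ((u⁻¹).toWord ++ w.toWord) := by
    apply isReduced_append FreeGroup.isReduced_toWord FreeGroup.isReduced_toWord
    intro a ha b hb hab
    rw [FreeGroup.toWord_inv] at ha
    cases hU : u.toWord with
    | nil => rw [hU] at hu; simp at hu
    | cons hd tl =>
      rw [hU] at hu ha
      simp only [List.head?_cons, Option.some.injEq] at hu
      subst hu
      have ha' : a = (hd.1, !hd.2) := by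
        simp only [FreeGroup.invRev, List.map_cons, List.reverse_cons, List.getLast?_append,
          List.getLast?_singleton, Option.mem_def] at ha
        simpa using ha.symm
      subst ha'
      simp only at hab
      by_contra hne
      apply hw
      rw [Option.mem_def] at hb
      rw [hb]
      congr 1
      apply Prod.ext hab.symm
      simp only at hne
      cases h1 : hd.2 <;> cases h2 : b.2 <;> simp_all
  have hword : (u⁻¹ * w).toWord = (u⁻¹).toWord ++ w.toWord := by
    rw [FreeGroup.toWord_mul]
    exact hred.reduce_eq
  constructor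
  · unfold FreeGroup.norm
    rw [hword, List.length_append, FreeGroup.toWord_inv, FreeGroup.invRev_length]
  · rw [hword]
    have hne : (u⁻¹).toWord ≠ [] := by
      rw [FreeGroup.toWord_inv]
      intro h
      have := congrArg List.length h
      rw [FreeGroup.invRev_length] at this
      cases hU : u.toWord with
      | nil => rw [hU] at hu; simp at hu
      | cons hd tl => rw [hU] at this; simp at this
    cases hV : (u⁻¹).toWord with
    | nil => exact absurd hV hne
    | cons hd tl => simp

/-- (ACT) -/
theorem toWord_actAut (q : Q) (v : FreeGroup X) :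
    (actAut X Q q v).toWord = v.toWord.map fun a => (q • a.1, a.2) := fus_toWord_actAut q v

theorem norm_actAut (q : Q) (v : FreeGroup X) : (actAut X Q q v).norm = v.norm := by
  unfold FreeGroup.norm
  rw [toWord_actAut, List.length_map]

theorem actAut_letter (q : Q) (l : X × Bool) : actAut X Q q (letter l) = letter (q • l.1, l.2) := by
  unfold letter
  rw [actAut_apply, FreeGroup.map.mk]
  rfl

/-- (AFF) -/
theorem aff_mul (g h : Amb X Q) (v : FreeGroup X) : aff (g * h) v = aff g (aff h v) := by
  unfold aff
  rw [SemidirectProduct.mul_left, SemidirectProduct.mul_right, map_mul, map_mul, MulAut.mul_apply,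
    mul_assoc]

theorem aff_one_right (g : Amb X Q) : aff g 1 = g.left := by
  unfold aff
  rw [map_one, mul_one]

theorem aff_inv_mul (g : Amb X Q) (a b : FreeGroup X) :
    (aff g a)⁻¹ * aff g b = actAut X Q g.right (a⁻¹ * b) := by
  unfold aff
  rw [map_mul, map_inv]
  group

theorem dist_aff (g : Amb X Q) (a b : FreeGroup X) : dist (aff g a) (aff g b) = dist a b := by
  unfold dist
  rw [aff_inv_mul, norm_actAut]

theorem aff_mul_letter (g : Amb X Q) (a : FreeGroup X) (l : X × Bool) :
    aff g (a * letter l) = aff g a * letter (g.right • l.1, l.2) := by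
  unfold aff
  rw [map_mul, actAut_letter, mul_assoc]

theorem head_aff (g : Amb X Q) (a b : FreeGroup X) :
    ((aff g a)⁻¹ * aff g b).toWord.head? =
      ((a⁻¹ * b).toWord.head?).map fun l => (g.right • l.1, l.2) := by
  rw [aff_inv_mul, toWord_actAut, List.head?_map]

end Cfsg.Agent.Lib.H23.LS
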