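import Cfsg.Agent.Lib.L0.TildeVal
import Cfsg.Agent.Lib.H23.BlockSection
import Cfsg.Agent.Lib.H23.BlockVanishP
import Cfsg.Agent.Lib.H23.BlockDefect

/-!
# Characters of central defect (helper23)

For a central `p`-subgroup `D` and `χ ∈ Irr(G)` with `ν_p(χ(1)) = ν_p(|G : D|)`:
* `central_defect_AA`: `[χ̃, χ] = p ^ a` and `χ` vanishes off `D × (p-regular elements)`;
* `central_defect_group`: `D` is a defect group of the block of `χ`.
-/

set_option autoImplicit false

namespace Cfsg.Agent.Lib.H23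

open Cfsg MonoidAlgebra Cfsg.Agent.Lib.H24 Cfsg.Agent.Lib.L0.Tilde
open scoped ComplexConjugate

section CentralDefect

variable {G : Type*} [Group G] [Fintype G] {p : ℕ} {M : Ideal AlgInt}

theorem sum_normSq_irr (χ : IrrCharacter G) :
    ∑ g : G, Complex.normSq ((χ : G → ℂ) g) = (Nat.card G : ℝ) := by
  classical
  have h := irr_orthonormal χ χ
  rw [if_pos rfl, classInner] at h
  have hG0 : (Nat.card G : ℂ) ≠ 0 := Nat.cast_ne_zero.2 Nat.card_pos.ne'
  have h2 : ∑ g : G, (χ : G → ℂ) g * conj ((χ : G → ℂ) g) = (Nat.card G : ℂ) := by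
    have := congrArg (fun t => (Nat.card G : ℂ) * t) h
    rw [← mul_assoc, mul_inv_cancel₀ hG0, one_mul, mul_one] at this
    exact this
  have h3 : ((∑ g : G, Complex.normSq ((χ : G → ℂ) g) : ℝ) : ℂ) = ((Nat.card G : ℝ) : ℂ) := by
    push_cast
    rw [← h2]
    refine Finset.sum_congr rfl (fun g _ => ?_)
    rw [Complex.mul_conj]
  exact_mod_cast h3

/-- The key counting inequality: `|D| ∑_{y p-regular} |χ(y)|² + ∑_{g ∉ D·reg} |χ(g)|² = |G|`. -/
theorem central_sum_normSq [DecidableEq G] (hp : p.Prime) (D : Subgroup G) (hD : IsPGroup p D)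
    (hDZ : D ≤ Subgroup.center G) (χ : IrrCharacter G) :
    ∃ T : Finset G, (∀ g : G, g ∈ T → ∃ d ∈ D, ∃ y : G, ¬ p ∣ orderOf y ∧ g = d * y) ∧
      (Nat.card D : ℝ) * ∑ y : G, (if p ∣ orderOf y then 0 else Complex.normSq ((χ : G → ℂ) y)) +
        ∑ g ∈ Tᶜ, Complex.normSq ((χ : G → ℂ) g) = (Nat.card G : ℝ) := by
  classical
  haveI : Fact p.Prime := ⟨hp⟩
  haveI : Fintype D := Fintype.ofFinite D
  set f : D × {y : G // ¬ p ∣ orderOf y} → G := fun dy => (dy.1 : G) * (dy.2 : G) with hf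
  have hdpow : ∀ d : D, ∃ k : ℕ, orderOf (d : G) = p ^ k := by
    intro d
    obtain ⟨k, hk⟩ := (IsPGroup.iff_orderOf.1 hD) d
    exact ⟨k, by rw [Subgroup.orderOf_coe, hk]⟩
  have hcomm : ∀ (d : D) (y : G), Commute (d : G) y := fun d y =>
    ((Subgroup.mem_center_iff.1 (hDZ d.2)) y).symm
  have hinj : Function.Injective f := by
    rintro ⟨d, y, hy⟩ ⟨d', y', hy'⟩ h
    simp only [hf] at h
    have h1 : IsPPart p ((d : G) * y) (d : G) := isPPart_mul (hcomm d y) (hdpow d) hy
    have h2 : IsPPart p ((d : G) * y) (d' : G) := by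
      rw [h]
      exact isPPart_mul (hcomm d' y') (hdpow d') hy'
    have h3 : (d : G) = (d' : G) := IsPPart.unique hp h1 h2
    have h4 : y = y' := by
      rw [h3] at h
      exact mul_left_cancel h
    have h5 : d = d' := Subtype.ext h3
    subst h5
    subst h4
    rfl
  refine ⟨Finset.univ.image f, ?_, ?_⟩
  · intro g hg
    obtain ⟨⟨d, y⟩, _, rfl⟩ := Finset.mem_image.1 hg
    exact ⟨d.1, d.2, y.1, y.2, rfl⟩
  · have h1 : ∑ g ∈ Finset.univ.image f, Complex.normSq ((χ : G → ℂ) g) =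
        (Nat.card D : ℝ) * ∑ y : G, (if p ∣ orderOf y then 0 else
          Complex.normSq ((χ : G → ℂ) y)) := by
      rw [Finset.sum_image (fun a _ b _ h => hinj h), Fintype.sum_prod_type]
      have h2 : ∀ d : D, ∑ y : {y : G // ¬ p ∣ orderOf y}, Complex.normSq ((χ : G → ℂ) (f (d, y))) =
          ∑ y : G, (if p ∣ orderOf y then 0 else Complex.normSq ((χ : G → ℂ) y)) := by
        intro d
        have h3 : ∀ y : G, Complex.normSq ((χ : G → ℂ) ((d : G) * y)) =
            Complex.normSq ((χ : G → ℂ) y) := by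
          intro y
          have := irr_central_mul_conj χ (hDZ d.2) y y
          rw [Complex.mul_conj, Complex.mul_conj] at this
          exact_mod_cast this
        simp only [hf, h3]
        have h4 : ∀ y : G, (if p ∣ orderOf y then (0 : ℝ) else Complex.normSq ((χ : G → ℂ) y)) =
            if ¬ p ∣ orderOf y then Complex.normSq ((χ : G → ℂ) y) else 0 := by
          intro y
          split_ifs <;> rfl
        simp only [h4]
        rw [← Finset.sum_filter]
        rw [← Finset.sum_subtype (Finset.univ.filter (fun y : G => ¬ p ∣ orderOf y))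
          (p := fun y : G => ¬ p ∣ orderOf y) (by simp)
          (fun y => Complex.normSq ((χ : G → ℂ) y))]
      rw [Finset.sum_congr rfl (fun d _ => h2 d), Finset.sum_const, Finset.card_univ,
        nsmul_eq_mul, Nat.card_eq_fintype_card]
    rw [← h1, Finset.sum_add_sum_compl, sum_normSq_irr]

/-- For `χ` of central defect: `[χ̃, χ] = p ^ a` and `χ` vanishes off `D × (p-regular)`. -/
theorem central_defect_AA (hp : p.Prime) (D : Subgroup G) (hD : IsPGroup p D)
    (hDZ : D ≤ Subgroup.center G) (χ : IrrCharacter G)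
    (hdeg : (charDegree (χ : G → ℂ)).factorization p = D.index.factorization p) :
    AA p (χ : G → ℂ) (χ : G → ℂ) = ((p ^ D.index.factorization p : ℕ) : ℂ) ∧
    ∀ g : G, (∀ d ∈ D, ∀ y : G, ¬ p ∣ orderOf y → g ≠ d * y) → (χ : G → ℂ) g = 0 := by
  classical
  haveI : Fact p.Prime := ⟨hp⟩
  set a := D.index.factorization p with ha
  obtain ⟨T, hT, hsum⟩ := central_sum_normSq hp D hD hDZ χ
  set S : ℝ := ∑ y : G, (if p ∣ orderOf y then 0 else Complex.normSq ((χ : G → ℂ) y)) with hS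
  set R : ℝ := ∑ g ∈ Tᶜ, Complex.normSq ((χ : G → ℂ) g) with hR
  have hR0 : 0 ≤ R := Finset.sum_nonneg (fun g _ => Complex.normSq_nonneg _)
  obtain ⟨n, hn⟩ := AA_int hp (Cfsg.Agent.Lib.L0.isCharacter_of_irr χ.2) χ
  have hdvd : (p : ℤ) ^ a ∣ n := by
    have := pow_dvd_AA hp χ χ n hn
    rwa [hdeg] at this
  -- `AA = p^{νG} S / |G|`
  have hG0 : (Nat.card G : ℝ) ≠ 0 := Nat.cast_ne_zero.2 Nat.card_pos.ne'
  have hAAS : (n : ℝ) = ((p ^ (Nat.card G).factorization p : ℕ) : ℝ) * (Nat.card G : ℝ)⁻¹ * S := by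
    have h1 := AA_eq p (χ : G → ℂ) (χ : G → ℂ)
    rw [hn] at h1
    have h2 : ∑ x : G, (if p ∣ orderOf x then (0 : ℂ) else
        (χ : G → ℂ) x * conj ((χ : G → ℂ) x)) = ((S : ℝ) : ℂ) := by
      rw [hS]
      push_cast
      refine Finset.sum_congr rfl (fun x _ => ?_)
      split_ifs
      · rfl
      · rw [Complex.mul_conj]
    rw [h2] at h1
    have h3 : ((n : ℝ) : ℂ) = ((((p ^ (Nat.card G).factorization p : ℕ) : ℝ) *
        (Nat.card G : ℝ)⁻¹ * S : ℝ) : ℂ) := by
      push_cast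
      push_cast at h1
      exact h1
    exact_mod_cast h3
  -- cardinalities
  obtain ⟨j, hj⟩ := IsPGroup.iff_card.1 hD
  have hGD : Nat.card G = D.index * Nat.card D := (Subgroup.index_mul_card D).symm
  have hidx0 : D.index ≠ 0 := by
    intro h
    rw [h, zero_mul] at hGD
    exact Nat.card_pos.ne' hGD
  have hνG : (Nat.card G).factorization p = a + j := by
    rw [hGD, Nat.factorization_mul hidx0 Nat.card_pos.ne', Finsupp.add_apply, hj,
      Nat.Prime.factorization_pow hp, Finsupp.single_eq_same]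
  have hS0 : 0 < S := by
    have h1 : (if p ∣ orderOf (1 : G) then 0 else Complex.normSq ((χ : G → ℂ) 1)) ≤ S :=
      Finset.single_le_sum (f := fun y : G => if p ∣ orderOf y then 0 else
        Complex.normSq ((χ : G → ℂ) y)) (fun y _ => by
          split_ifs
          · exact le_refl _
          · exact Complex.normSq_nonneg _) (Finset.mem_univ 1)
    rw [if_neg (by rw [orderOf_one]; exact fun h => hp.one_lt.ne' (Nat.dvd_one.1 h))] at h1
    have h2 : 0 < Complex.normSq ((χ : G → ℂ) 1) :=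
      Complex.normSq_pos.2 (irr_one_ne_zero χ)
    linarith
  have hpG : (0 : ℝ) < ((p ^ (Nat.card G).factorization p : ℕ) : ℝ) := by
    exact_mod_cast pow_pos hp.pos _
  have hGpos : (0 : ℝ) < (Nat.card G : ℝ) := by exact_mod_cast Nat.card_pos
  have hnpos : (0 : ℝ) < (n : ℝ) := by
    rw [hAAS]
    exact mul_pos (mul_pos hpG (inv_pos.2 hGpos)) hS0
  have hnpos' : 0 < n := by exact_mod_cast hnpos
  -- `|D| S ≤ |G|`
  have hle : (Nat.card D : ℝ) * S ≤ (Nat.card G : ℝ) := by linarith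
  have hnle : (n : ℝ) ≤ ((p ^ a : ℕ) : ℝ) := by
    rw [hAAS]
    have hDpos : (0 : ℝ) < (Nat.card D : ℝ) := by exact_mod_cast Nat.card_pos
    have h1 : S ≤ (Nat.card G : ℝ) / (Nat.card D : ℝ) := by
      rw [le_div_iff₀ hDpos]
      linarith
    have h2 : ((p ^ (Nat.card G).factorization p : ℕ) : ℝ) = ((p ^ a : ℕ) : ℝ) * (Nat.card D : ℝ) := by
      rw [hνG, pow_add, hj]
      push_cast
      ring
    rw [h2]
    calc ((p ^ a : ℕ) : ℝ) * (Nat.card D : ℝ) * (Nat.card G : ℝ)⁻¹ * S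
        ≤ ((p ^ a : ℕ) : ℝ) * (Nat.card D : ℝ) * (Nat.card G : ℝ)⁻¹ *
          ((Nat.card G : ℝ) / (Nat.card D : ℝ)) := by
          apply mul_le_mul_of_nonneg_left h1
          positivity
      _ = ((p ^ a : ℕ) : ℝ) := by
          field_simp
  have hneq : n = ((p ^ a : ℕ) : ℤ) := by
    have hnle' : n ≤ ((p ^ a : ℕ) : ℤ) := by exact_mod_cast hnle
    obtain ⟨c, hc⟩ := hdvd
    have hpa : (0 : ℤ) < (p : ℤ) ^ a := by exact_mod_cast pow_pos hp.pos a
    have hc1 : 0 < c := by
      by_contra h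
      push Not at h
      have : n ≤ 0 := by
        rw [hc]
        exact mul_nonpos_of_nonneg_of_nonpos hpa.le h
      omega
    have hc2 : c ≤ 1 := by
      by_contra h
      push Not at h
      have : (p : ℤ) ^ a * 2 ≤ n := by
        rw [hc]
        exact mul_le_mul_of_nonneg_left (by omega) hpa.le
      push_cast at hnle'
      omega
    have : c = 1 := by omega
    rw [hc, this, mul_one]
    push_cast
    rfl
  refine ⟨by rw [hn, hneq]; push_cast; rfl, ?_⟩
  -- equality case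
  have hReq : R = 0 := by
    have hDpos : (0 : ℝ) < (Nat.card D : ℝ) := by exact_mod_cast Nat.card_pos
    have h2 : ((p ^ (Nat.card G).factorization p : ℕ) : ℝ) = ((p ^ a : ℕ) : ℝ) * (Nat.card D : ℝ) := by
      rw [hνG, pow_add, hj]
      push_cast
      ring
    have h3 : (n : ℝ) = ((p ^ a : ℕ) : ℝ) := by rw [hneq]; push_cast; rfl
    rw [h3, h2] at hAAS
    have hpa : (0 : ℝ) < ((p ^ a : ℕ) : ℝ) := by exact_mod_cast pow_pos hp.pos a
    have h4 : (Nat.card D : ℝ) * S = (Nat.card G : ℝ) := by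
      have h5 : ((p ^ a : ℕ) : ℝ) * ((Nat.card D : ℝ) * S) =
          ((p ^ a : ℕ) : ℝ) * (Nat.card G : ℝ) := by
        have := congrArg (fun t => t * (Nat.card G : ℝ)) hAAS
        rw [this]
        field_simp
      exact mul_left_cancel₀ hpa.ne' h5
    linarith
  intro g hg
  have hgT : g ∈ Tᶜ := by
    rw [Finset.mem_compl]
    intro hgT
    obtain ⟨d, hd, y, hy, rfl⟩ := hT g hgT
    exact hg d hd y hy rfl
  have h0 := (Finset.sum_eq_zero_iff_of_nonneg (fun g _ => Complex.normSq_nonneg _)).1 hReq g hgT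
  exact Complex.normSq_eq_zero.1 h0

/-- A rational number `u / (p^b v)`-type computation: `p ^ e * c / v` lies in the local ideal for
`e > 0` and `p ∤ v`. -/
theorem memLocalIdeal_pow_mul_div (hM : IsPModular p M) {e : ℕ} (he : 0 < e) (c : ℤ) {v : ℕ}
    (hv : ¬ p ∣ v) (w : ℕ) :
    MemLocalIdeal M (((p : ℂ) ^ e * (c : ℂ) * (w : ℂ)) / (v : ℂ)) := by
  haveI hPr := isPrime_of_isPModular hM
  obtain ⟨e', rfl⟩ : ∃ e', e = e' + 1 := ⟨e - 1, by omega⟩
  have h1 : ((p : ℂ) ^ (e' + 1) * (c : ℂ) * (w : ℂ)) / (v : ℂ) =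
      (p : ℂ) * (((p : ℂ) ^ e' * (c : ℂ) * (w : ℂ)) * (v : ℂ)⁻¹) := by
    rw [pow_succ]
    ring
  rw [h1]
  refine memLocalIdeal_mul_right (memLocalIdeal_p hM) ?_
  refine memLocalRing_mul (memLocalRing_mul (memLocalRing_mul ?_ ?_) ?_)
    (memLocalRing_inv_natCast hM hv)
  · exact memLocalRing_pow (natCast_mem_localRing p) e'
  · exact intCast_mem_localRing c
  · exact natCast_mem_localRing w

/-- `D` is a defect group of the block of a character of central defect. -/
theorem central_defect_group [Fact p.Prime] (hM : IsPModular p M) (D : Subgroup G)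
    (hD : IsPGroup p D) (hDZ : D ≤ Subgroup.center G) (χ : IrrCharacter G)
    (hdeg : (charDegree (χ : G → ℂ)).factorization p = D.index.factorization p) :
    IsDefectGroup p M (blockOf M (χ : G → ℂ)) D := by
  classical
  haveI hPr := isPrime_of_isPModular hM
  have hp := prime_of_isPModular hM
  set a := D.index.factorization p with ha
  set m := Nat.card G / p ^ (Nat.card G).factorization p with hm
  have hmp : ¬ p ∣ m := Nat.not_dvd_ordCompl hp Nat.card_pos.ne'
  have hm0 : (m : ℂ) ≠ 0 := by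
    rw [Nat.cast_ne_zero]
    rintro h
    exact hmp (h ▸ dvd_zero p)
  obtain ⟨hAA, -⟩ := central_defect_AA hp D hD hDZ χ hdeg
  set B := blockOf M (χ : G → ℂ) with hB
  set z := regElt p (χ : G → ℂ) with hz
  have hzc : z ∈ Subalgebra.center ℂ (MonoidAlgebra ℂ G) :=
    regElt_mem_center p (irr_isClassFunction χ)
  have hzi : z ∈ intCoeff (G := G) M := regElt_mem_intCoeff p χ
  -- degrees
  have hdegpos : ∀ ψ : IrrCharacter G, charDegree (ψ : G → ℂ) ≠ 0 :=
    fun ψ => (Cfsg.Agent.Lib.H24.charDegree_pos ψ).ne'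
  have hdecomp : ∀ ψ : IrrCharacter G, ∃ v : ℕ, ¬ p ∣ v ∧
      (ψ : G → ℂ) 1 = (p : ℂ) ^ (charDegree (ψ : G → ℂ)).factorization p * (v : ℂ) := by
    intro ψ
    refine ⟨charDegree (ψ : G → ℂ) / p ^ (charDegree (ψ : G → ℂ)).factorization p,
      Nat.not_dvd_ordCompl hp (hdegpos ψ), ?_⟩
    rw [Cfsg.Agent.Lib.H23.apply_one_eq_charDegree (ψ : G → ℂ) ψ.2]
    have := Nat.ordProj_mul_ordCompl_eq_self (charDegree (ψ : G → ℂ)) p
    conv_lhs => rw [← this]
    push_cast
    rfl
  -- `ω_χ(z)` is a unit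
  have hωχ : ¬ MemLocalIdeal M (omega (χ : G → ℂ) z) := by
    obtain ⟨v, hv, hχ1⟩ := hdecomp χ
    have h1 := AA_mul_ordCompl hp χ (χ : G → ℂ)
    rw [hAA, hχ1, hdeg] at h1
    have hv0 : (v : ℂ) ≠ 0 := by
      rw [Nat.cast_ne_zero]
      rintro h
      exact hv (h ▸ dvd_zero p)
    have hpa0 : (p : ℂ) ^ a ≠ 0 := pow_ne_zero _ (Nat.cast_ne_zero.2 hp.ne_zero)
    have h2 : omega (χ : G → ℂ) z = (m : ℂ) / (v : ℂ) := by
      rw [eq_div_iff hv0]
      have : ((p ^ a : ℕ) : ℂ) = (p : ℂ) ^ a := by push_cast; rfl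
      rw [this] at h1
      apply mul_left_cancel₀ hpa0
      rw [h1]
      ring
    rw [h2]
    intro h
    have h3 := memLocalIdeal_mul_left (natCast_mem_localRing (M := M) v) h
    rw [mul_div_cancel₀ _ hv0] at h3
    exact hmp ((natCast_memLocalIdeal_iff hM m).1 h3)
  -- all degrees in `B` have valuation `≥ a`
  have hall : ∀ ψ ∈ B, a ≤ (charDegree (ψ : G → ℂ)).factorization p := by
    intro ψ hψ
    by_contra hlt
    push Not at hlt
    apply hωχ
    have hsame : SameBlock M (χ : G → ℂ) (ψ : G → ℂ) := hψ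
    have h1 := omega_sub_memLocalIdeal hsame hzc hzi
    have h2 : MemLocalIdeal M (omega (ψ : G → ℂ) z) := by
      obtain ⟨v, hv, hψ1⟩ := hdecomp ψ
      obtain ⟨n', hn'⟩ := AA_int hp (Cfsg.Agent.Lib.L0.isCharacter_of_irr χ.2) ψ
      have hdvd := pow_dvd_AA hp χ ψ n' hn'
      rw [hdeg] at hdvd
      obtain ⟨c, hc⟩ := hdvd
      have h3 := AA_mul_ordCompl hp ψ (χ : G → ℂ)
      rw [AA_symm hp ψ χ, hn', hc, hψ1] at h3
      set b := (charDegree (ψ : G → ℂ)).factorization p with hb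
      have hv0 : (v : ℂ) ≠ 0 := by
        rw [Nat.cast_ne_zero]
        rintro h
        exact hv (h ▸ dvd_zero p)
      have hpb0 : (p : ℂ) ^ b ≠ 0 := pow_ne_zero _ (Nat.cast_ne_zero.2 hp.ne_zero)
      have h4 : omega (ψ : G → ℂ) z = ((p : ℂ) ^ (a - b) * (c : ℂ) * (m : ℂ)) / (v : ℂ) := by
        rw [eq_div_iff hv0]
        apply mul_left_cancel₀ hpb0
        have hab : (p : ℂ) ^ a = (p : ℂ) ^ b * (p : ℂ) ^ (a - b) := by
          rw [← pow_add]
          congr 1
          omega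
        calc (p : ℂ) ^ b * (omega (ψ : G → ℂ) z * (v : ℂ))
            = (p : ℂ) ^ b * (v : ℂ) * omega (ψ : G → ℂ) z := by ring
          _ = (((p : ℤ) ^ a * c : ℤ) : ℂ) * (m : ℂ) := h3.symm
          _ = (p : ℂ) ^ b * ((p : ℂ) ^ (a - b) * (c : ℂ) * (m : ℂ)) := by
              push_cast
              rw [hab]
              ring
      rw [h4]
      exact memLocalIdeal_pow_mul_div hM (by omega) c hv m
    have := memLocalIdeal_add h1 h2
    rwa [sub_add_cancel] at this
  -- the defect of `B`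
  obtain ⟨j, hj⟩ := IsPGroup.iff_card.1 hD
  have hGD : Nat.card G = D.index * Nat.card D := (Subgroup.index_mul_card D).symm
  have hidx0 : D.index ≠ 0 := by
    intro h
    rw [h, zero_mul] at hGD
    exact Nat.card_pos.ne' hGD
  have hνG : (Nat.card G).factorization p = a + j := by
    rw [hGD, Nat.factorization_mul hidx0 Nat.card_pos.ne', Finsupp.add_apply, hj,
      Nat.Prime.factorization_pow hp, Finsupp.single_eq_same]
  have hsInf : sInf ((fun ψ : IrrCharacter G => (charDegree (ψ : G → ℂ)).factorization p) '' B)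
      = a := by
    apply le_antisymm
    · apply Nat.sInf_le
      exact ⟨χ, mem_blockOf_self χ, hdeg⟩
    · apply le_csInf
      · exact ⟨_, ⟨χ, mem_blockOf_self χ, rfl⟩⟩
      · rintro _ ⟨ψ, hψ, rfl⟩
        exact hall ψ hψ
  have hdef : blockDefect p B = j := by
    unfold blockDefect
    rw [hsInf, hνG]
    omega
  obtain ⟨Δ, hΔ⟩ := exists_isDefectGroup hM χ
  haveI hDn : D.Normal := by
    constructor
    intro n hn g
    have : g * n * g⁻¹ = n := by
      rw [(Subgroup.mem_center_iff.1 (hDZ hn)) g, mul_inv_cancel_right]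
    rw [this]
    exact hn
  have hle : D ≤ Δ := normal_le_defectGroup hM χ D hD Δ hΔ
  have hcard := card_defectGroup hM χ Δ hΔ
  rw [hdef, ← hj] at hcard
  have heq : D = Δ := Subgroup.eq_of_le_of_card_ge hle (le_of_eq hcard)
  rw [heq]
  exact hΔ

end CentralDefect

end Cfsg.Agent.Lib.H23
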