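import Mathlib

set_option autoImplicit false

/-! Generic Mathlib-level lemmas for S3777 (Vaughan-Lee): breadth monotonicity for
subgroups and quotients, and lemma (A). -/

namespace Cfsg.Agent.Lib.H23.S3777Gen

/-- the centraliser of `x` in the subgroup `H` is the centraliser in `G` cut down to `H`. -/
theorem centralizer_sub_eq {G : Type*} [Group G] (H : Subgroup G) (x : H) :
    Subgroup.centralizer ({x} : Set H) =
      (Subgroup.centralizer ({(x : G)} : Set G)).subgroupOf H := by
  ext g
  simp only [Subgroup.mem_centralizer_iff, Set.mem_singleton_iff, forall_eq,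
    Subgroup.mem_subgroupOf]
  constructor
  · intro h
    have := congrArg (Subtype.val) h
    simpa using this
  · intro h
    apply Subtype.ext
    simpa using h

/-- breadth in a subgroup is at most breadth in the group. -/
theorem centralizer_index_sub_le {G : Type*} [Group G] [Finite G] (H : Subgroup G) (x : H) :
    (Subgroup.centralizer ({x} : Set H)).index ≤
      (Subgroup.centralizer ({(x : G)} : Set G)).index := by
  rw [centralizer_sub_eq]
  have h := Subgroup.relIndex_le_of_le_right (H := Subgroup.centralizer ({(x : G)} : Set G))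
    (K := H) (L := ⊤) le_top (by
      rw [Subgroup.relIndex_top_right]
      exact Subgroup.index_ne_zero_of_finite)
  rwa [Subgroup.relIndex_top_right] at h

/-- breadth in a quotient is at most breadth in the group. -/
theorem centralizer_index_quot_le {G : Type*} [Group G] [Finite G] (N : Subgroup G) [N.Normal]
    (x : G) :
    (Subgroup.centralizer ({(QuotientGroup.mk x : G ⧸ N)} : Set (G ⧸ N))).index ≤
      (Subgroup.centralizer ({x} : Set G)).index := by
  have h1 : (Subgroup.centralizer ({x} : Set G)).map (QuotientGroup.mk' N) ≤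
      Subgroup.centralizer ({(QuotientGroup.mk x : G ⧸ N)} : Set (G ⧸ N)) := by
    rintro _ ⟨g, hg, rfl⟩
    rw [Subgroup.mem_centralizer_iff]
    intro y hy
    rw [Set.mem_singleton_iff] at hy
    subst hy
    have := (Subgroup.mem_centralizer_iff.mp hg) x rfl
    show (QuotientGroup.mk x : G ⧸ N) * QuotientGroup.mk g = QuotientGroup.mk g * QuotientGroup.mk x
    rw [← QuotientGroup.mk_mul, ← QuotientGroup.mk_mul, this]
  have h2 := Subgroup.index_dvd_of_le h1
  have h3 := Subgroup.index_map_dvd (Subgroup.centralizer ({x} : Set G))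
    (QuotientGroup.mk'_surjective N)
  exact Nat.le_of_dvd (Nat.pos_of_ne_zero Subgroup.index_ne_zero_of_finite) (h2.trans h3)

/-- (T1) the derived subgroup of the type `↥K` has the same order as `⁅K, K⁆ ≤ G`. -/
theorem card_commutator_sub {G : Type*} [Group G] (K : Subgroup G) :
    Nat.card ↥(commutator ↥K) = Nat.card ↥⁅K, K⁆ := by
  rw [← Subgroup.map_subtype_commutator K]
  exact Nat.card_congr
    ((commutator ↥K).equivMapOfInjective K.subtype K.subtype_injective).toEquiv

/-- (T5a) commutators inside `↥K` of subgroups below `K`. -/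
theorem commutator_subgroupOf {G : Type*} [Group G] (K A : Subgroup G) (hA : A ≤ K) :
    ⁅A.subgroupOf K, A.subgroupOf K⁆ = ⁅A, A⁆.subgroupOf K := by
  have hinj : Function.Injective (Subgroup.map K.subtype) :=
    Subgroup.map_injective K.subtype_injective
  apply hinj
  rw [Subgroup.map_commutator, Subgroup.subgroupOf_map_subtype, Subgroup.subgroupOf_map_subtype,
    inf_eq_left.mpr hA, inf_eq_left.mpr ((Subgroup.commutator_mono hA hA).trans
      (Subgroup.commutator_le_self K))]

/-- (T5b) -/
theorem index_subgroupOf_eq_relIndex {G : Type*} [Group G] (K A : Subgroup G) :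
    (A.subgroupOf K).index = A.relIndex K := rfl

/-- (T4) for a normal subgroup `N` inside the derived subgroup,
`|G'| = |(G/N)'| * |N|`. -/
theorem card_commutator_eq_quot_mul {G : Type*} [Group G] [Finite G] (N : Subgroup G) [N.Normal]
    (hN : N ≤ commutator G) :
    Nat.card ↥(commutator G) = Nat.card ↥(commutator (G ⧸ N)) * Nat.card ↥N := by
  have hmap : commutator (G ⧸ N) = (commutator G).map (QuotientGroup.mk' N) := by
    rw [commutator_def, commutator_def, Subgroup.map_commutator,
      Subgroup.map_top_of_surjective _ (QuotientGroup.mk'_surjective N)]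
  -- the restricted hom
  let φ : ↥(commutator G) →* G ⧸ N := (QuotientGroup.mk' N).comp (commutator G).subtype
  have hrange : φ.range = (commutator G).map (QuotientGroup.mk' N) := by
    ext x
    constructor
    · rintro ⟨⟨g, hg⟩, rfl⟩
      exact ⟨g, hg, rfl⟩
    · rintro ⟨g, hg, rfl⟩
      exact ⟨⟨g, hg⟩, rfl⟩
  have hker : φ.ker = N.subgroupOf (commutator G) := by
    ext ⟨g, hg⟩
    simp only [MonoidHom.mem_ker, Subgroup.mem_subgroupOf]
    show (QuotientGroup.mk' N) g = 1 ↔ g ∈ N
    rw [QuotientGroup.mk'_apply, QuotientGroup.eq_one_iff]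
  have h1 : Nat.card ↥(commutator G) = Nat.card (↥(commutator G) ⧸ φ.ker) * Nat.card ↥φ.ker :=
    Subgroup.card_eq_card_quotient_mul_card_subgroup φ.ker
  have h2 : Nat.card (↥(commutator G) ⧸ φ.ker) = Nat.card ↥φ.range :=
    Nat.card_congr (QuotientGroup.quotientKerEquivRange φ).toEquiv
  have h3 : Nat.card ↥φ.ker = Nat.card ↥N := by
    rw [hker]
    exact Nat.card_congr (Subgroup.subgroupOfEquivOfLe hN).toEquiv
  rw [h1, h2, h3, hrange, hmap]

end Cfsg.Agent.Lib.H23.S3777Gen
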