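import Cfsg.Agent.Lib.H10.S4415BadDefs
import Cfsg.Agent.Lib.H27.Extraspecial

/-!
# S4415 (B9): recognition of the conclusion (helper23)

`XS z R`, `|R| = 32` and an `E_8 ≤ R` give `Concl R`.
-/

set_option autoImplicit false

namespace Cfsg.Agent.Lib.H23.S4415B9

open Cfsg Cfsg.Agent.Lib.H10.S4415

/-- An `XS`-subgroup of `2`-power order is extraspecial. -/
theorem isExtraspecial_of_XS {S : Type*} [Group S] [Finite S] (z : S) (R : Subgroup S)
    (hX : XS z R) (hp : IsPGroup 2 ↥R) : Cfsg.IsExtraspecial 2 ↥R := by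
  have : Fact (Nat.Prime 2) := ⟨Nat.prime_two⟩
  have hz2 : z ^ 2 = 1 := by rw [pow_two]; exact hX.z_sq
  have hord : orderOf z = 2 := orderOf_eq_prime hz2 hX.z_ne
  have hmemZ : ∀ g : S, g ∈ Subgroup.zpowers z ↔ g = 1 ∨ g = z := by
    intro g
    constructor
    · intro hg
      obtain ⟨k, rfl⟩ := Subgroup.mem_zpowers_iff.mp hg
      rcases Int.even_or_odd k with ⟨m, rfl⟩ | ⟨m, rfl⟩
      · left
        rw [← two_mul, zpow_mul, zpow_two, hX.z_sq, one_zpow]
      · right
        rw [zpow_add, zpow_mul, zpow_two, hX.z_sq, one_zpow, one_mul, zpow_one]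
    · rintro (rfl | rfl)
      · exact Subgroup.one_mem _
      · exact Subgroup.mem_zpowers _
  apply Cfsg.Agent.Lib.H27.isExtraspecial_subgroup 2 R (Subgroup.zpowers z) hp
  · rw [Subgroup.zpowers_le]; exact hX.zX
  · rw [Nat.card_zpowers, hord]
  · ext g
    rw [Subgroup.mem_inf, Subgroup.mem_centralizer_iff, hmemZ]
    constructor
    · rintro ⟨hgR, hc⟩
      exact hX.center g hgR (fun h hh => (hc h hh).symm)
    · rintro (rfl | rfl)
      · exact ⟨R.one_mem, fun h _ => by rw [mul_one, one_mul]⟩
      · exact ⟨hX.zX, fun h hh => hX.z_central h hh⟩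
  · apply le_antisymm
    · rw [Subgroup.commutator_le]
      intro g hg h hh
      rw [hmemZ, commutatorElement_def]
      exact hX.comm g hg h hh
    · rw [Subgroup.zpowers_le]
      obtain ⟨g, hg, hg1, hgz⟩ := hX.big
      have hnc : ¬ ∀ h ∈ R, g * h = h * g := by
        intro hc
        rcases hX.center g hg hc with h | h
        · exact hg1 h
        · exact hgz h
      push Not at hnc
      obtain ⟨h, hh, hne⟩ := hnc
      have hcomm := hX.comm g hg h hh
      rcases hcomm with h1 | h1
      · exfalso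
        apply hne
        have : g * h * g⁻¹ * h⁻¹ * h * g = h * g := by rw [h1, one_mul]
        rw [← this]; group
      · rw [← h1, ← commutatorElement_def]
        exact Subgroup.commutator_mem_commutator hg hh
  · intro x hx
    rw [hmemZ, pow_two]
    exact hX.sq x hx

theorem b9 : B9Stmt := by
  intro S _ _ z R hX hcard hA
  right
  refine ⟨?_, hcard, hA⟩
  apply isExtraspecial_of_XS z R hX
  have : Nat.card ↥R = 2 ^ 5 := by rw [hcard]; norm_num
  exact IsPGroup.of_card this

end Cfsg.Agent.Lib.H23.S4415B9
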