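import Mathlib
import Cfsg.Prelude.Def_Blocks
import Cfsg.Agent.Lib.L0.TildeChar
import Cfsg.Agent.Lib.L0.TildeGen
import Cfsg.Agent.Lib.L0.TildeVal
import Cfsg.Agent.Lib.H23.BlockInduce
import Cfsg.Agent.Lib.H23.BlockHom
import Cfsg.Agent.Lib.H23.BlockCentralDefect

/-!
# Height zero characters and the central elements `regElt p ψ` (helper23)

For an irreducible character `ψ` of height zero in its block, the central character value
`ω_ψ(regElt p ψ)` is a unit of the local ring; for `χ'` outside the block of `ψ` the value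
`ω_{χ'}(regElt p ψ)` vanishes.  So `regElt p ψ` "detects" the block of a height zero character.
-/

set_option autoImplicit false

namespace Cfsg.Agent.Lib.H23

open Cfsg MonoidAlgebra Cfsg.Agent.Lib.H24 Cfsg.Agent.Lib.L0 Cfsg.Agent.Lib.L0.Tilde
  Cfsg.Agent.Lib.L0.BlockMinMax
open scoped ComplexConjugate

section HeightZero

variable {G : Type*} [Group G] [Fintype G] {p : ℕ} {M : Ideal AlgInt}

/-- Outside the block of `ψ`, the central characters vanish at `regElt p ψ`. -/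
theorem omega_regElt_eq_zero_of_not_sameBlock (hM : IsPModular p M) (hp : p.Prime)
    (χ ψ : IrrCharacter G) (h : ¬ SameBlock M (χ : G → ℂ) (ψ : G → ℂ)) :
    omega (χ : G → ℂ) (regElt p (ψ : G → ℂ)) = 0 := by
  have h1 := AA_mul_ordCompl hp χ (ψ : G → ℂ)
  rw [AA_eq_zero_of_not_sameBlock hM χ ψ h, zero_mul] at h1
  rcases mul_eq_zero.mp h1.symm with h2 | h2
  · exact absurd h2 (irr_one_ne_zero χ)
  · exact h2

/-- If `ω_χ(regElt p ψ)` is not in the local ideal then `χ` and `ψ` lie in the same block. -/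
theorem sameBlock_of_omega_regElt (hM : IsPModular p M) (hp : p.Prime)
    (χ ψ : IrrCharacter G)
    (h : ¬ MemLocalIdeal M (omega (χ : G → ℂ) (regElt p (ψ : G → ℂ)))) :
    SameBlock M (χ : G → ℂ) (ψ : G → ℂ) := by
  haveI hP := isPrime_of_isPModular hM
  by_contra h1
  apply h
  rw [omega_regElt_eq_zero_of_not_sameBlock hM hp χ ψ h1]
  exact memLocalIdeal_zero hP.ne_top

/-- **Key fact**: if `ψ` has minimal `p`-part of the degree in its block (height zero), then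
`ω_ψ(regElt p ψ)` is a unit of the local ring. -/
theorem omega_regElt_not_memLocalIdeal [Fact p.Prime] (hM : IsPModular p M)
    (ψ₀ : IrrCharacter G)
    (h0 : blockHeight p (blockOf M (ψ₀ : G → ℂ)) (ψ₀ : G → ℂ) = 0) :
    ¬ MemLocalIdeal M (omega (ψ₀ : G → ℂ) (regElt p (ψ₀ : G → ℂ))) := by
  classical
  haveI := Fintype.ofFinite (IrrCharacter G)
  haveI hP := isPrime_of_isPModular hM
  have hp : p.Prime := Fact.out
  obtain ⟨P⟩ : Nonempty (Sylow p G) := inferInstance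
  set B := blockOf M (ψ₀ : G → ℂ) with hBdef
  set a := (Nat.card G).factorization p with ha
  set e := minDeg p B with he
  have hψ₀ : ψ₀ ∈ B := mem_blockOf_self ψ₀
  have hsame : ∀ χ ψ : IrrCharacter G, χ ∈ B → ψ ∈ B →
      SameBlock M (χ : G → ℂ) (ψ : G → ℂ) := fun χ ψ hχ hψ =>
    sameBlock_trans (sameBlock_symm hχ) hψ
  have hA0' : ∀ χ ψ : IrrCharacter G, χ ∉ B → ψ ∈ B → AA p (χ : G → ℂ) (ψ : G → ℂ) = 0 := by
    intro χ ψ hχ hψ
    refine AA_eq_zero_of_not_sameBlock hM χ ψ fun h => hχ ?_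
    exact sameBlock_trans hψ (sameBlock_symm h)
  set n : IrrCharacter G → ℕ := sylowMult P with hn
  have hdeg : ∀ χ : IrrCharacter G, (χ : G → ℂ) 1 = (charDegree (χ : G → ℂ) : ℂ) :=
    fun χ => apply_one_eq_charDegree _ χ.2
  have hdvd : ∀ χ : IrrCharacter G, χ ∈ B → p ^ e ∣ charDegree (χ : G → ℂ) := by
    intro χ hχ
    have h1 : e ≤ (charDegree (χ : G → ℂ)).factorization p := minDeg_le (p := p) ψ₀ hχ
    exact (pow_dvd_pow p h1).trans (Nat.ordProj_dvd _ _)
  set t : IrrCharacter G → ℕ := fun χ => charDegree (χ : G → ℂ) / p ^ e with ht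
  have hte : ∀ χ : IrrCharacter G, χ ∈ B → charDegree (χ : G → ℂ) = p ^ e * t χ := by
    intro χ hχ
    rw [ht]
    exact (Nat.mul_div_cancel' (hdvd χ hχ)).symm
  have hψ₀e' : (charDegree (ψ₀ : G → ℂ)).factorization p = e := by
    have h3 : (charDegree (ψ₀ : G → ℂ)).factorization p - minDeg p B = 0 := h0
    exact le_antisymm (Nat.sub_eq_zero_iff_le.mp h3) (minDeg_le ψ₀ hψ₀)
  have hdeg0 : charDegree (ψ₀ : G → ℂ) ≠ 0 := (charDegree_pos _ ψ₀.2).ne'
  have htψ₀ : ¬ p ∣ t ψ₀ := by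
    rw [ht]
    simp only
    rw [← hψ₀e']
    exact Nat.not_dvd_ordCompl hp hdeg0
  set m' := Nat.card G / p ^ a with hm'
  have hm'p : ¬ p ∣ m' := Nat.not_dvd_ordCompl hp Nat.card_pos.ne'
  set z₀ := regElt p (ψ₀ : G → ℂ) with hz₀
  have hz₀c : z₀ ∈ Subalgebra.center ℂ (MonoidAlgebra ℂ G) :=
    regElt_mem_center p (irr_isClassFunction ψ₀)
  have hz₀i : z₀ ∈ intCoeff (G := G) M := regElt_mem_intCoeff p ψ₀
  set s := omega (ψ₀ : G → ℂ) z₀ with hs
  intro hsP
  have h1 : (charDegree (ψ₀ : G → ℂ) : ℂ) * (m' : ℂ) =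
      ∑ χ : IrrCharacter G, (if χ ∈ B then
        (n χ : ℂ) * ((charDegree (χ : G → ℂ) : ℂ) * omega (χ : G → ℂ) z₀) else 0) := by
    rw [← hdeg ψ₀, ← sum_sylowMult_mul_AA P ψ₀, Finset.sum_mul]
    refine Finset.sum_congr rfl fun χ _ => ?_
    by_cases hχ : χ ∈ B
    · rw [if_pos hχ, mul_assoc, AA_mul_ordCompl hp χ, hdeg χ]
    · rw [if_neg hχ, hA0' χ ψ₀ hχ hψ₀]; ring
  have hpe : ((p ^ e : ℕ) : ℂ) ≠ 0 := by exact_mod_cast (pow_pos hp.pos e).ne'
  have h2 : (t ψ₀ : ℂ) * (m' : ℂ) =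
      ∑ χ : IrrCharacter G, (if χ ∈ B then
        (n χ : ℂ) * ((t χ : ℂ) * omega (χ : G → ℂ) z₀) else 0) := by
    apply mul_left_cancel₀ hpe
    have e1 : ((p ^ e : ℕ) : ℂ) * ((t ψ₀ : ℂ) * (m' : ℂ)) =
        (charDegree (ψ₀ : G → ℂ) : ℂ) * (m' : ℂ) := by
      rw [hte ψ₀ hψ₀]; push_cast; ring
    rw [e1, h1, Finset.mul_sum]
    refine Finset.sum_congr rfl fun χ _ => ?_
    by_cases hχ : χ ∈ B
    · rw [if_pos hχ, if_pos hχ]
      conv_lhs => rw [hte χ hχ]
      push_cast; ring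
    · rw [if_neg hχ, if_neg hχ, mul_zero]
  have h3 : MemLocalIdeal M ((t ψ₀ : ℂ) * (m' : ℂ)) := by
    rw [h2]
    refine memLocalIdeal_sum _ _ fun χ _ => ?_
    by_cases hχ : χ ∈ B
    · rw [if_pos hχ]
      have h4 : MemLocalIdeal M (omega (χ : G → ℂ) z₀) := by
        have := memLocalIdeal_add (omega_sub_memLocalIdeal (hsame χ ψ₀ hχ hψ₀) hz₀c hz₀i) hsP
        rwa [sub_add_cancel] at this
      rw [← mul_assoc]
      exact memLocalIdeal_mul_left
        (memLocalRing_mul (natCast_mem_localRing _) (natCast_mem_localRing _)) h4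
    · rw [if_neg hχ]; exact memLocalIdeal_zero hP.ne_top
  have h6 : MemLocalIdeal M ((t ψ₀ * m' : ℕ) : ℂ) := by push_cast; exact h3
  have h7 := (natCast_memLocalIdeal_iff hM _).mp h6
  rcases (Nat.Prime.dvd_mul hp).mp h7 with h | h
  · exact htψ₀ h
  · exact hm'p h

/-- Restriction of `regElt p χ` to a subgroup is `regElt p (χ|_H)`. -/
theorem resAlg_regElt (H : Subgroup G) [Fintype H] (χ : G → ℂ) :
    resAlg H (regElt p χ) = regElt p (fun h : H => χ h) := by
  apply MonoidAlgebra.ext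
  ext h
  show (resAlg H (regElt p χ)).coeff h = (regElt p (fun h : H => χ h)).coeff h
  rw [coeff_resAlg]
  simp only [regElt, coeff_ofFun, Subgroup.orderOf_coe]

/-- If `ξ'` has larger `p`-part of the degree than `ξ₀`, then `ω_{ξ₀}(regElt p ξ')` lies in the
local ideal. -/
theorem omega_regElt_memLocalIdeal_of_lt [Fact p.Prime] (hM : IsPModular p M)
    (ξ₀ ξ' : IrrCharacter G)
    (hlt : (charDegree (ξ₀ : G → ℂ)).factorization p <
      (charDegree (ξ' : G → ℂ)).factorization p) :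
    MemLocalIdeal M (omega (ξ₀ : G → ℂ) (regElt p (ξ' : G → ℂ))) := by
  have hp : p.Prime := Fact.out
  have h1 := AA_mul_ordCompl hp ξ₀ (ξ' : G → ℂ)
  obtain ⟨n, hn⟩ := AA_int hp (isCharacter_of_irr ξ'.2) ξ₀
  rw [AA_symm hp ξ₀ ξ', hn] at h1
  obtain ⟨k, hk⟩ := pow_dvd_AA hp ξ' ξ₀ n hn
  set e₀ := (charDegree (ξ₀ : G → ℂ)).factorization p with he₀
  set e' := (charDegree (ξ' : G → ℂ)).factorization p with he'
  have hd0 : charDegree (ξ₀ : G → ℂ) ≠ 0 := (charDegree_pos _ ξ₀.2).ne'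
  have hsplit := Nat.ordProj_mul_ordCompl_eq_self (charDegree (ξ₀ : G → ℂ)) p
  set t₀ := charDegree (ξ₀ : G → ℂ) / p ^ e₀ with ht₀
  have ht₀p : ¬ p ∣ t₀ := Nat.not_dvd_ordCompl hp hd0
  set m' := Nat.card G / p ^ (Nat.card G).factorization p with hm'
  have ht₀0 : (t₀ : ℂ) ≠ 0 := by
    intro h
    have : t₀ = 0 := by exact_mod_cast h
    exact ht₀p (this ▸ dvd_zero p)
  have hp0 : (p : ℂ) ≠ 0 := Nat.cast_ne_zero.2 hp.ne_zero
  have h2 : omega (ξ₀ : G → ℂ) (regElt p (ξ' : G → ℂ)) =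
      ((p : ℂ) ^ (e' - e₀) * (k : ℂ) * (m' : ℂ)) / (t₀ : ℂ) := by
    rw [eq_div_iff ht₀0]
    have h3 : (ξ₀ : G → ℂ) 1 = (p : ℂ) ^ e₀ * (t₀ : ℂ) := by
      rw [apply_one_eq_charDegree _ ξ₀.2]
      exact_mod_cast hsplit.symm
    rw [h3, hk] at h1
    have h4 : (p : ℂ) ^ e' = (p : ℂ) ^ e₀ * (p : ℂ) ^ (e' - e₀) := by
      rw [← pow_add]; congr 1; omega
    apply mul_left_cancel₀ (pow_ne_zero e₀ hp0)
    push_cast at h1
    rw [h4] at h1
    linear_combination -h1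
  rw [h2]
  exact memLocalIdeal_pow_mul_div hM (by omega) k ht₀p m'

/-- `regElt p` is additive over natural-number combinations. -/
theorem regElt_sum_natCast {ι : Type*} (s : Finset ι) (n : ι → ℕ) (f : ι → G → ℂ) :
    regElt p (∑ i ∈ s, (n i : ℂ) • f i) = ∑ i ∈ s, (n i : ℂ) • regElt p (f i) := by
  apply MonoidAlgebra.ext
  ext h
  show (regElt p (∑ i ∈ s, (n i : ℂ) • f i)).coeff h = (∑ i ∈ s, (n i : ℂ) • regElt p (f i)).coeff h
  rw [MonoidAlgebra.coeff_sum]
  simp only [regElt, coeff_ofFun, MonoidAlgebra.coeff_smul, Finsupp.coe_finsetSum,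
    Finset.sum_apply, Finsupp.coe_smul, Pi.smul_apply, smul_eq_mul, coeff_ofFun]
  by_cases hph : p ∣ orderOf h
  · simp [hph]
  · simp only [hph, if_false, map_sum, map_mul, Complex.conj_natCast]

/-- **Height zero constituents**: if `b` induces `B` and `χ ∈ B` has height zero, then some
height zero `ξ ∈ b` occurs in `χ|_H` with multiplicity prime to `p`. -/
theorem exists_height_zero_constituent [Fact p.Prime] (hM : IsPModular p M) (H : Subgroup G)
    [Fintype H] (b : Set (IrrCharacter H)) (B : Set (IrrCharacter G))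
    (hind : IsInducedBlock M H b B) (χ : IrrCharacter G) (hχ : χ ∈ B)
    (h0 : blockHeight p B (χ : G → ℂ) = 0) :
    ∃ ξ ∈ b, blockHeight p b (ξ : H → ℂ) = 0 ∧ ∃ n : ℕ,
      classInner (fun h : H => (χ : G → ℂ) h) (ξ : H → ℂ) = (n : ℂ) ∧ ¬ p ∣ n := by
  classical
  haveI := Fintype.ofFinite (IrrCharacter H)
  haveI hP := isPrime_of_isPModular hM
  have hp : p.Prime := Fact.out
  obtain ⟨ξ₁, hξ₁⟩ := hind.1
  obtain ⟨χ₁, hχ₁⟩ := hind.2.1
  have hBχ : B = blockOf M (χ : G → ℂ) := by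
    rw [hχ₁]; rw [hχ₁] at hχ
    exact (blockOf_eq_of_mem hχ).symm
  obtain ⟨ξ₀, hξ₀b, hξ₀0⟩ := Cfsg.Agent.Lib.L0.BlockHeight.exists_height_zero (p := p) (M := M) ξ₁
  rw [← hξ₁] at hξ₀b hξ₀0
  set f : H → ℂ := fun h : H => (χ : G → ℂ) h with hf
  have hfchar : IsCharacter H f :=
    Cfsg.Agent.Lib.L0.isCharacter_restrict H (isCharacter_of_irr χ.2)
  have hnat : ∀ ξ : IrrCharacter H, ∃ n : ℕ, classInner f (ξ : H → ℂ) = n := fun ξ =>
    Cfsg.Agent.Lib.L0.classInner_char_irr_nat hfchar ξ.2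
  choose n hn using hnat
  have hexp : f = ∑ ξ : IrrCharacter H, (n ξ : ℂ) • (ξ : H → ℂ) := by
    have := classFunction_expansion f (isClassFunction_of_isCharacter hfchar)
    simp only [hn] at this
    exact this
  have hzc : regElt p (χ : G → ℂ) ∈ Subalgebra.center ℂ (MonoidAlgebra ℂ G) :=
    regElt_mem_center p (irr_isClassFunction χ)
  have hzi : regElt p (χ : G → ℂ) ∈ intCoeff (G := G) M := regElt_mem_intCoeff p χ
  have hres' : resAlg H (regElt p (χ : G → ℂ)) = regElt p f := resAlg_regElt H _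
  have hFG : ¬ MemLocalIdeal M (omega (χ : G → ℂ) (regElt p (χ : G → ℂ))) := by
    apply omega_regElt_not_memLocalIdeal hM χ
    rw [← hBχ]; exact h0
  have hcong := omega_resAlg_sub_memLocalIdeal H hind hξ₀b hχ hzc hzi
  rw [hres'] at hcong
  have h3 : ¬ MemLocalIdeal M (omega (ξ₀ : H → ℂ) (regElt p f)) := by
    intro h
    apply hFG
    have := memLocalIdeal_sub h hcong
    rwa [sub_sub_cancel] at this
  by_contra hcon
  push Not at hcon
  apply h3
  have hexp2 : regElt p f = ∑ ξ : IrrCharacter H, (n ξ : ℂ) • regElt p (ξ : H → ℂ) := by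
    conv_lhs => rw [hexp]
    exact regElt_sum_natCast _ _ _
  rw [hexp2, omega_sum]
  refine memLocalIdeal_sum _ _ fun ξ' _ => ?_
  rw [omega_smul]
  have hωR : MemLocalRing M (omega (ξ₀ : H → ℂ) (regElt p (ξ' : H → ℂ))) :=
    omega_memLocalRing ξ₀ (regElt_mem_center p (irr_isClassFunction ξ')) (regElt_mem_intCoeff p ξ')
  by_cases hξ'b : ξ' ∈ b
  · by_cases hξ'0 : blockHeight p b (ξ' : H → ℂ) = 0
    · have h5 := hcon ξ' hξ'b hξ'0 (n ξ') (hn ξ')
      exact memLocalIdeal_mul_right ((natCast_memLocalIdeal_iff hM _).mpr h5) hωR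
    · refine memLocalIdeal_mul_left (natCast_mem_localRing _) ?_
      apply omega_regElt_memLocalIdeal_of_lt hM
      have h6 : (charDegree (ξ₀ : H → ℂ)).factorization p - minDeg p b = 0 := hξ₀0
      have h7 : ¬ (charDegree (ξ' : H → ℂ)).factorization p - minDeg p b = 0 := hξ'0
      omega
  · have h8 : ¬ SameBlock M (ξ₀ : H → ℂ) (ξ' : H → ℂ) := by
      intro h
      apply hξ'b
      rw [hξ₁]; rw [hξ₁] at hξ₀b
      exact sameBlock_trans hξ₀b h
    rw [omega_regElt_eq_zero_of_not_sameBlock hM hp ξ₀ ξ' h8, mul_zero]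
    exact memLocalIdeal_zero hP.ne_top

end HeightZero

end Cfsg.Agent.Lib.H23
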