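import Mathlib
import Cfsg.Prelude.Def_Blocks
import Cfsg.Agent.Lib.H23.BlockDefect
import Cfsg.Agent.Lib.H23.Ito
import Cfsg.Agent.Lib.H24.GlaubProd
import Cfsg.Agent.Lib.H24.ChiefFactor
import Cfsg.Agent.Lib.L0.CharLinear
import Cfsg.Agent.Lib.L0.BlockKer
import Cfsg.Agent.Lib.L0.BlockMinMax

/-!
# Blocks with a normal defect group: heights (helper23)

* `apply_centralizing_eq_mul`: if all irreducible constituents of `χ|_P` have degree `n` and `g`
  centralizes `P` then `χ(g) ∈ n · (algebraic integers)`.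
* `exists_nonlinear`: a finite non-commutative group has a non-linear irreducible character.
* `exists_irr_over_of_pGroup`: every irreducible character of a `p`-subgroup lies under some
  member of every block.
* `normal_defect_comm_iff` (= S0972).
-/

set_option autoImplicit false

namespace Cfsg.Agent.Lib.H23.NormalDefect

open Cfsg MonoidAlgebra Cfsg.Agent.Lib.H23 Cfsg.Agent.Lib.H24 Cfsg.Agent.Lib.L0
open scoped ComplexConjugate commutatorElement

section Lemmas

variable {G : Type*} [Group G] [Fintype G]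

/-- If all irreducible constituents of `χ|_P` have degree `n` and `g` centralizes `P`, then
`χ(g)` is `n` times an algebraic integer. -/
theorem apply_centralizing_eq_mul (P : Subgroup G) [Fintype P] {χ : G → ℂ}
    (hχ : IsCharacter G χ) (g : G) (hg : ∀ u ∈ P, u * g = g * u) (n : ℕ)
    (hn : ∀ ξ : IrrCharacter P, classInner (fun u : P => χ u) (ξ : P → ℂ) ≠ 0 →
      (ξ : P → ℂ) 1 = n) :
    ∃ z : ℂ, IsIntegral ℤ z ∧ χ g = n * z := by
  classical
  haveI := Fintype.ofFinite (IrrCharacter P)
  set S : Subgroup G := Subgroup.zpowers g with hS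
  haveI : Fintype S := Fintype.ofFinite _
  haveI := Fintype.ofFinite (IrrCharacter S)
  have hcomm : ∀ a b : S, a * b = b * a := by
    intro a b
    obtain ⟨i, hi⟩ := Subgroup.mem_zpowers_iff.1 a.2
    obtain ⟨j, hj⟩ := Subgroup.mem_zpowers_iff.1 b.2
    apply Subtype.ext
    show (a : G) * (b : G) = (b : G) * (a : G)
    rw [← hi, ← hj, ← zpow_add, ← zpow_add, add_comm]
  have hPS : ∀ (u : P) (s : S), Commute (P.subtype u) (S.subtype s) := by
    intro u s
    obtain ⟨i, hi⟩ := Subgroup.mem_zpowers_iff.1 s.2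
    show Commute (u : G) (s : G)
    rw [← hi]
    exact (show Commute (u : G) g from hg u u.2).zpow_right i
  set φ : P × S →* G := MonoidHom.noncommCoprod P.subtype S.subtype hPS with hφ
  have hφa : ∀ (u : P) (s : S), φ (u, s) = (u : G) * (s : G) := fun u s => rfl
  set Ψ : P × S → ℂ := χ ∘ φ with hΨdef
  have hΨ : IsCharacter (P × S) Ψ := isCharacter_comp φ hχ
  set gS : S := ⟨g, Subgroup.mem_zpowers g⟩ with hgS
  have hdec : ∀ ξ : IrrCharacter P, ∃ m : IrrCharacter S → ℕ, ∀ x : S,
      classInner (fun c => Ψ (c, x)) (ξ : P → ℂ) =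
        ∑ ψ : IrrCharacter S, (m ψ : ℂ) * (ψ : S → ℂ) x :=
    fun ξ => Glaub.exists_nat_decomp hcomm Ψ hΨ (ξ : P → ℂ) ξ.2
  choose m hm using hdec
  -- expansion of `c ↦ Ψ(c, g)`
  set A : P → ℂ := fun c => Ψ (c, gS) with hA
  have hAcf : IsClassFunction P A := by
    intro c h
    show χ (φ (h * c * h⁻¹, gS)) = χ (φ (c, gS))
    rw [hφa, hφa]
    have h1 : ((h * c * h⁻¹ : P) : G) * (gS : G) = (h : G) * ((c : G) * g) * (h : G)⁻¹ := by
      show (h : G) * (c : G) * (h : G)⁻¹ * g = _
      have := hg (h : G)⁻¹ (P.inv_mem h.2)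
      calc (h : G) * (c : G) * (h : G)⁻¹ * g = (h : G) * (c : G) * ((h : G)⁻¹ * g) := by group
        _ = (h : G) * (c : G) * (g * (h : G)⁻¹) := by rw [this]
        _ = _ := by group
    rw [h1]
    exact isClassFunction_of_isCharacter hχ _ _
  have hexp := congrFun (classFunction_expansion A hAcf) 1
  rw [Finset.sum_apply] at hexp
  simp only [Pi.smul_apply, smul_eq_mul] at hexp
  have hA1 : A 1 = χ g := by
    show χ (φ (1, gS)) = χ g
    rw [hφa]; simp [hgS]
  rw [hA1] at hexp
  -- each inner product is an algebraic integer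
  have hint : ∀ ξ : IrrCharacter P, IsIntegral ℤ (classInner A (ξ : P → ℂ)) := by
    intro ξ
    rw [show classInner A (ξ : P → ℂ) = classInner (fun c => Ψ (c, gS)) (ξ : P → ℂ) from rfl,
      hm ξ gS]
    refine IsIntegral.sum _ (fun ψ _ => ?_)
    have hnat : IsIntegral ℤ ((m ξ ψ : ℕ) : ℂ) := by
      have := isIntegral_algebraMap (R := ℤ) (A := ℂ) (x := ((m ξ ψ : ℕ) : ℤ))
      simpa using this
    exact hnat.mul (isCharacter_isIntegral (isCharacter_of_irr ψ.2) gS)
  -- non-constituents contribute zero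
  have hzero : ∀ ξ : IrrCharacter P, classInner (fun u : P => χ u) (ξ : P → ℂ) = 0 →
      classInner A (ξ : P → ℂ) = 0 := by
    intro ξ h0
    have h1 := hm ξ 1
    have h2 : (fun c : P => Ψ (c, (1 : S))) = fun u : P => χ u := by
      funext c
      show χ (φ (c, 1)) = χ c
      rw [hφa]; simp
    rw [h2, h0] at h1
    have h3 : ∀ ψ : IrrCharacter S, (ψ : S → ℂ) 1 = 1 := irr_apply_one_of_comm hcomm
    simp only [h3, mul_one] at h1
    have h4 : (∑ ψ : IrrCharacter S, m ξ ψ) = 0 := by
      have : ((∑ ψ : IrrCharacter S, m ξ ψ : ℕ) : ℂ) = 0 := by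
        push_cast; exact h1.symm
      exact_mod_cast this
    have h5 : ∀ ψ : IrrCharacter S, m ξ ψ = 0 := by
      intro ψ
      exact (Finset.sum_eq_zero_iff.1 h4) ψ (Finset.mem_univ _)
    rw [show classInner A (ξ : P → ℂ) = classInner (fun c => Ψ (c, gS)) (ξ : P → ℂ) from rfl,
      hm ξ gS]
    simp [h5]
  refine ⟨∑ ξ : IrrCharacter P, classInner A (ξ : P → ℂ), IsIntegral.sum _ (fun ξ _ => hint ξ), ?_⟩
  rw [hexp, Finset.mul_sum]
  refine Finset.sum_congr rfl (fun ξ _ => ?_)
  by_cases h0 : classInner (fun u : P => χ u) (ξ : P → ℂ) = 0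
  · rw [hzero ξ h0]; ring
  · rw [hn ξ h0]; ring

/-- A finite group all of whose irreducible characters are linear is commutative. -/
theorem comm_of_forall_linear {H : Type*} [Group H] [Fintype H]
    (h : ∀ ξ : IrrCharacter H, (ξ : H → ℂ) 1 = 1) : ∀ a b : H, a * b = b * a := by
  classical
  haveI := Fintype.ofFinite (IrrCharacter H)
  have h1 := card_linear_irr (G := H)
  have h2 : Nat.card {χ : IrrCharacter H // (χ : H → ℂ) 1 = 1} = Nat.card (IrrCharacter H) :=
    Nat.card_congr (Equiv.subtypeUnivEquiv h)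
  have h3 : (Nat.card (IrrCharacter H) : ℂ) = (Nat.card H : ℂ) := by
    rw [← sum_irr_one_sq (G := H)]
    simp only [h, one_pow, Finset.sum_const, Finset.card_univ, nsmul_eq_mul, mul_one,
      Nat.card_eq_fintype_card]
  have h4 : Nat.card (IrrCharacter H) = Nat.card H := by exact_mod_cast h3
  have h5 : (commutator H).index = Nat.card H := by rw [← h1, h2, h4]
  have h6 := (commutator H).index_mul_card
  rw [h5] at h6
  have h7 : Nat.card (commutator H) = 1 := by
    have hpos : 0 < Nat.card H := Nat.card_pos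
    nlinarith [Nat.eq_of_mul_eq_mul_left hpos (by rw [h6, mul_one] :
      Nat.card H * Nat.card (commutator H) = Nat.card H * 1)]
  have h8 : commutator H = ⊥ := Subgroup.card_eq_one.1 h7
  intro a b
  have h9 : ⁅a, b⁆ ∈ commutator H := by
    rw [commutator_def]
    exact Subgroup.commutator_mem_commutator (Subgroup.mem_top a) (Subgroup.mem_top b)
  rw [h8, Subgroup.mem_bot, commutatorElement_def] at h9
  calc a * b = (a * b * a⁻¹ * b⁻¹) * (b * a) := by group
    _ = b * a := by rw [h9, one_mul]

end Lemmas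

section Block

variable {G : Type*} [Group G] [Fintype G] {p : ℕ} [Fact p.Prime] {M : Ideal AlgInt}

/-- Every irreducible character of a `p`-subgroup lies under a member of every block. -/
theorem exists_irr_over_of_pGroup (hM : IsPModular p M) (χ₀ : IrrCharacter G) (P : Subgroup G)
    [Fintype P] (hP : IsPGroup p P) (ξ : IrrCharacter P) :
    ∃ χ ∈ blockOf M (χ₀ : G → ℂ), classInner (fun u : P => (χ : G → ℂ) u) (ξ : P → ℂ) ≠ 0 := by
  classical
  haveI hPr := isPrime_of_isPModular hM
  have hp := prime_of_isPModular hM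
  haveI := Fintype.ofFinite (IrrCharacter G)
  set B := blockOf M (χ₀ : G → ℂ) with hB
  by_contra hno
  push Not at hno
  -- `β(u) = 0` for `1 ≠ u ∈ P`
  have hvan : ∀ u : P, u ≠ 1 → blockCoeff B (u : G) = 0 := by
    intro u hu
    apply blockCoeff_eq_zero_of_dvd_orderOf hM χ₀
    obtain ⟨k, hk⟩ := (IsPGroup.iff_orderOf.1 hP) u
    have hk' : orderOf (u : G) = p ^ k := by rw [Subgroup.orderOf_coe, hk]
    have hk0 : k ≠ 0 := by
      rintro rfl
      rw [pow_zero, orderOf_eq_one_iff] at hk
      exact hu hk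
    rw [hk']
    exact dvd_pow_self p hk0
  have h1 : ∑ u : P, blockCoeff B (u : G) * (ξ : P → ℂ) u =
      blockCoeff B 1 * (ξ : P → ℂ) 1 := by
    rw [Finset.sum_eq_single (1 : P)]
    · simp
    · intro u _ hu
      rw [hvan u hu, zero_mul]
    · intro h
      exact absurd (Finset.mem_univ _) h
  have h2 : ∑ u : P, blockCoeff B (u : G) * (ξ : P → ℂ) u = 0 := by
    simp only [blockCoeff_eq_sum, Finset.mul_sum, Finset.sum_mul]
    rw [Finset.sum_comm]
    refine Finset.sum_eq_zero (fun χ _ => ?_)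
    by_cases hχ : χ ∈ B
    · simp only [if_pos hχ]
      have h3 := hno χ hχ
      rw [classInner] at h3
      have hP0 : (Nat.card P : ℂ) ≠ 0 := by exact_mod_cast (Nat.card_pos (α := P)).ne'
      have h4 : ∑ u : P, (χ : G → ℂ) u * conj ((ξ : P → ℂ) u) = 0 := by
        rcases mul_eq_zero.1 h3 with h | h
        · exact absurd (inv_eq_zero.1 h) hP0
        · exact h
      have h5 : ∑ u : P, conj ((χ : G → ℂ) u) * (ξ : P → ℂ) u = 0 := by
        have := congrArg conj h4
        rw [map_sum, map_zero] at this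
        rw [← this]
        refine Finset.sum_congr rfl (fun u _ => ?_)
        rw [map_mul, Complex.conj_conj]
      calc ∑ u : P, (Nat.card G : ℂ)⁻¹ * ((χ : G → ℂ) 1 * conj ((χ : G → ℂ) u)) *
            (ξ : P → ℂ) u
          = (Nat.card G : ℂ)⁻¹ * (χ : G → ℂ) 1 *
            ∑ u : P, conj ((χ : G → ℂ) u) * (ξ : P → ℂ) u := by
            rw [Finset.mul_sum]
            refine Finset.sum_congr rfl (fun u _ => ?_)
            ring
        _ = 0 := by rw [h5, mul_zero]
    · simp only [if_neg hχ, mul_zero, zero_mul, Finset.sum_const_zero]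
  rw [h2] at h1
  rcases mul_eq_zero.1 h1.symm with h | h
  · exact Cfsg.Agent.Lib.L0.BlockKer.blockCoeff_one_ne_zero χ₀ h
  · exact irr_one_ne_zero ξ h

open Cfsg.Agent.Lib.L0.BlockMinMax in
/-- **Reynolds**: a block with a normal defect group `P` has all heights zero iff `P` is
commutative (= S0972). -/
theorem normal_defect_comm_iff (hM : IsPModular p M) (χ₀ : IrrCharacter G) (P : Subgroup G)
    [hPn : P.Normal] (hP : IsDefectGroup p M (blockOf M (χ₀ : G → ℂ)) P) :
    (∀ a ∈ P, ∀ c ∈ P, a * c = c * a) ↔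
      ∀ χ ∈ blockOf M (χ₀ : G → ℂ),
        blockHeight p (blockOf M (χ₀ : G → ℂ)) (χ : G → ℂ) = 0 := by
  classical
  haveI hPr := isPrime_of_isPModular hM
  have hp := prime_of_isPModular hM
  haveI : Fintype P := Fintype.ofFinite _
  set B := blockOf M (χ₀ : G → ℂ) with hB
  set a := (Nat.card G).factorization p with ha
  set d := blockDefect p B with hd
  set e := minDeg p B with he
  have he1 : e = a - d := minDeg_eq_sub_blockDefect (p := p) (M := M) χ₀
  have he2 : e ≤ a := minDeg_le_card (p := p) (M := M) χ₀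
  have hd3 : d ≤ a := by
    rw [hd, blockDefect]; omega
  have hcardP : Nat.card P = p ^ d := card_defectGroup hM χ₀ P hP
  have hheight : ∀ χ : IrrCharacter G, blockHeight p B (χ : G → ℂ) =
      (charDegree (χ : G → ℂ)).factorization p - e := fun χ => rfl
  have hidx : P.index.factorization p = e := by
    have h1 := P.index_mul_card
    have h2 : (P.index * Nat.card P).factorization p = a := by rw [h1]
    rw [Nat.factorization_mul (Cfsg.Agent.Lib.L0.BlockHeight.index_ne_zero P) Nat.card_pos.ne', hcardP,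
      Nat.Prime.factorization_pow hp] at h2
    simp only [Finsupp.coe_add, Pi.add_apply, Finsupp.single_eq_same] at h2
    omega
  constructor
  · intro hcomm χ hχ
    obtain ⟨d', hχ1, hdvd⟩ := ito_char P hcomm χ.2
    have hdeg : charDegree (χ : G → ℂ) = d' := by
      have := apply_one_eq_charDegree (χ : G → ℂ) χ.2
      rw [hχ1] at this
      exact_mod_cast this.symm
    rw [hheight, hdeg]
    have hd0 : d' ≠ 0 := by
      rw [← hdeg]; exact (Cfsg.Agent.Lib.H23.charDegree_pos _ χ.2).ne'
    have hle : d'.factorization p ≤ P.index.factorization p :=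
      (Nat.factorization_le_iff_dvd hd0 (Cfsg.Agent.Lib.L0.BlockHeight.index_ne_zero P)).2 hdvd p
    omega
  · intro hall
    by_contra hnc
    have hnc' : ¬ ∀ u v : P, u * v = v * u := by
      intro h
      apply hnc
      intro u hu v hv
      exact congrArg Subtype.val (h ⟨u, hu⟩ ⟨v, hv⟩)
    have hex : ∃ ξ : IrrCharacter P, (ξ : P → ℂ) 1 ≠ 1 := by
      by_contra h
      push Not at h
      exact hnc' (comm_of_forall_linear h)
    obtain ⟨ξ, hξ1⟩ := hex
    -- degree of ξ is a positive power of p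
    have hξdvd : charDegree (ξ : P → ℂ) ∣ p ^ d := by
      rw [← hcardP]; exact charDegree_dvd_card _ ξ.2
    obtain ⟨k, -, hk⟩ := (Nat.dvd_prime_pow hp).1 hξdvd
    have hξdeg : (ξ : P → ℂ) 1 = ((p ^ k : ℕ) : ℂ) := by
      rw [apply_one_eq_charDegree _ ξ.2, hk]
    have hk0 : k ≠ 0 := by
      rintro rfl
      apply hξ1
      rw [hξdeg]; simp
    obtain ⟨χ, hχ, hcon⟩ := exists_irr_over_of_pGroup hM χ₀ P (IsPGroup.of_card hcardP) ξ
    -- all constituents have the same degree
    have hn : ∀ ξ' : IrrCharacter P, classInner (fun u : P => (χ : G → ℂ) u) (ξ' : P → ℂ) ≠ 0 →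
        (ξ' : P → ℂ) 1 = ((p ^ k : ℕ) : ℂ) := by
      intro ξ' hξ'
      obtain ⟨c, hc⟩ := Cfsg.Agent.Lib.H24.conj_of_constituent P (χ : G → ℂ) χ.2 (ξ : P → ℂ) (ξ' : P → ℂ)
        ξ.2 ξ'.2 hcon hξ'
      rw [hc, Cfsg.Agent.Lib.H24.conjChar_apply, ← hξdeg]
      refine congrArg (ξ : P → ℂ) (Subtype.ext ?_)
      show c * ((1 : P) : G) * c⁻¹ = ((1 : P) : G)
      simp
    obtain ⟨g, ⟨hβR, hβn, hω⟩, S, hPS⟩ := hP
    have hgP : ∀ u ∈ P, u * g = g * u := by
      intro u hu
      rw [hPS] at hu
      obtain ⟨c, -, rfl⟩ := hu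
      exact Subgroup.mem_centralizer_singleton_iff.1 c.2
    obtain ⟨z, hz, hχg⟩ := apply_centralizing_eq_mul P (isCharacter_of_irr χ.2) g hgP (p ^ k) hn
    apply hω χ hχ
    -- valuations
    have hC : (Nat.card (Subgroup.centralizer ({g} : Set G))).factorization p = d := by
      have h1 : Nat.card P = p ^ (Nat.card (Subgroup.centralizer ({g} : Set G))).factorization p := by
        rw [hPS, Subgroup.card_map_of_injective (Subgroup.subtype_injective _),
          Sylow.card_eq_multiplicity]
      rw [hcardP] at h1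
      exact (Nat.pow_right_injective hp.two_le h1).symm
    have hidxg : (Subgroup.centralizer ({g} : Set G)).index.factorization p = e := by
      have := factorization_card_eq (p := p) g
      rw [hC] at this
      omega
    have hχe : (charDegree (χ : G → ℂ)).factorization p = e := by
      have h1 := hall χ hχ
      rw [hheight] at h1
      have h2 : e ≤ (charDegree (χ : G → ℂ)).factorization p := minDeg_le χ₀ hχ
      omega
    set idx := (Subgroup.centralizer ({g} : Set G)).index with hidxdef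
    set c := charDegree (χ : G → ℂ) with hcdef
    have hcpos : 0 < c := Cfsg.Agent.Lib.H23.charDegree_pos _ χ.2
    have hk1 := Nat.ordProj_mul_ordCompl_eq_self idx p
    have hc1 := Nat.ordProj_mul_ordCompl_eq_self c p
    rw [hidxg] at hk1
    rw [hχe] at hc1
    have hc' : ¬ p ∣ c / p ^ e := by
      rw [← hχe]; exact Nat.not_dvd_ordCompl hp hcpos.ne'
    set k' := idx / p ^ e
    set c' := c / p ^ e
    have hp0 : (p : ℂ) ≠ 0 := Nat.cast_ne_zero.2 hp.ne_zero
    have hc'0 : (c' : ℂ) ≠ 0 := by
      intro h0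
      have : c' = 0 := by exact_mod_cast h0
      exact hc' (this ▸ dvd_zero p)
    obtain ⟨k₁, hk₁⟩ : ∃ k₁, k = k₁ + 1 := ⟨k - 1, by omega⟩
    have heq : centralChar (χ : G → ℂ) g =
        (p : ℂ) * ((p : ℂ) ^ k₁ * (k' : ℂ) * z * (c' : ℂ)⁻¹) := by
      rw [centralChar, apply_one_eq_charDegree _ χ.2, hχg, ← hidxdef, ← hcdef, ← hk1, ← hc1, hk₁]
      push_cast
      rw [pow_succ]
      have hpe : (p : ℂ) ^ e ≠ 0 := pow_ne_zero _ hp0
      field_simp
    rw [heq]
    refine memLocalIdeal_mul_right (memLocalIdeal_p hM) ?_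
    refine memLocalRing_mul (memLocalRing_mul (memLocalRing_mul ?_ ?_) ?_) ?_
    · exact memLocalRing_pow (natCast_mem_localRing p) _
    · exact natCast_mem_localRing _
    · exact isIntegral_mem_localRing hz
    · exact memLocalRing_inv_natCast hM hc'

end Block

end Cfsg.Agent.Lib.H23.NormalDefect
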