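import Mathlib
import Cfsg.Prelude.Def_Blocks
import Cfsg.Agent.Lib.H23.BlockNormalDefect
import Cfsg.Agent.Lib.H23.PPart2

/-!
# Characters of a group `G = P · C_G(P)` (helper23)

`P` a subgroup with `P ⊔ C_G(P) = ⊤`.
* `shift_isClassFunction`, `classInner_shift_eq_zero`: for `g` centralizing `P` (any subgroup) the
  function `u ↦ χ(u g)` on `P` is a class function involving only constituents of `χ|_P`.
* `conjChar_eq_self`: every character of `P` is `G`-invariant.
* `constituent_unique`: `χ|_P` has a unique irreducible constituent.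
* `apply_mul_eq`: `χ(u y) = λ(u) χ(y) / λ(1)` for `u ∈ P`, `y ∈ C_G(P)`.
-/

set_option autoImplicit false

namespace Cfsg.Agent.Lib.H23.PCP

open Cfsg MonoidAlgebra Cfsg.Agent.Lib.H23 Cfsg.Agent.Lib.H24 Cfsg.Agent.Lib.L0
open scoped ComplexConjugate

section Shift

variable {G : Type*} [Group G] [Fintype G]

theorem shift_isClassFunction (P : Subgroup G) {χ : G → ℂ} (hχ : IsClassFunction G χ) (g : G)
    (hg : ∀ u ∈ P, u * g = g * u) : IsClassFunction P (fun u : P => χ ((u : G) * g)) := by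
  intro c h
  show χ (((h * c * h⁻¹ : P) : G) * g) = χ ((c : G) * g)
  have h1 : ((h * c * h⁻¹ : P) : G) * g = (h : G) * ((c : G) * g) * (h : G)⁻¹ := by
    show (h : G) * (c : G) * (h : G)⁻¹ * g = _
    have := hg (h : G)⁻¹ (P.inv_mem h.2)
    calc (h : G) * (c : G) * (h : G)⁻¹ * g = (h : G) * (c : G) * ((h : G)⁻¹ * g) := by group
      _ = (h : G) * (c : G) * (g * (h : G)⁻¹) := by rw [this]
      _ = _ := by group
  rw [h1]
  exact hχ _ _

/-- For `g` centralizing `P`, the class function `u ↦ χ(u g)` on `P` only involves the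
irreducible constituents of `χ|_P`. -/
theorem classInner_shift_eq_zero (P : Subgroup G) [Fintype P] {χ : G → ℂ}
    (hχ : IsCharacter G χ) (g : G) (hg : ∀ u ∈ P, u * g = g * u) (ξ : IrrCharacter P)
    (h0 : classInner (fun u : P => χ u) (ξ : P → ℂ) = 0) :
    classInner (fun u : P => χ ((u : G) * g)) (ξ : P → ℂ) = 0 := by
  classical
  haveI := Fintype.ofFinite (IrrCharacter P)
  set S : Subgroup G := Subgroup.zpowers g with hS
  haveI : Fintype S := Fintype.ofFinite _
  haveI := Fintype.ofFinite (IrrCharacter S)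
  have hcomm : ∀ a b : S, a * b = b * a := by
    intro a b
    obtain ⟨i, hi⟩ := Subgroup.mem_zpowers_iff.1 a.2
    obtain ⟨j, hj⟩ := Subgroup.mem_zpowers_iff.1 b.2
    apply Subtype.ext
    show (a : G) * (b : G) = (b : G) * (a : G)
    rw [← hi, ← hj, ← zpow_add, ← zpow_add, add_comm]
  have hPS : ∀ (u : P) (s : S), Commute (P.subtype u) (S.subtype s) := by
    intro u s
    obtain ⟨i, hi⟩ := Subgroup.mem_zpowers_iff.1 s.2
    show Commute (u : G) (s : G)
    rw [← hi]
    exact (show Commute (u : G) g from hg u u.2).zpow_right i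
  set φ : P × S →* G := MonoidHom.noncommCoprod P.subtype S.subtype hPS with hφ
  have hφa : ∀ (u : P) (s : S), φ (u, s) = (u : G) * (s : G) := fun u s => rfl
  set Ψ : P × S → ℂ := χ ∘ φ with hΨdef
  have hΨ : IsCharacter (P × S) Ψ := isCharacter_comp φ hχ
  set gS : S := ⟨g, Subgroup.mem_zpowers g⟩ with hgS
  obtain ⟨m, hm⟩ := Glaub.exists_nat_decomp hcomm Ψ hΨ (ξ : P → ℂ) ξ.2
  have h1 := hm 1
  have h2 : (fun c : P => Ψ (c, (1 : S))) = fun u : P => χ u := by
    funext c
    show χ (φ (c, 1)) = χ c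
    rw [hφa]; simp
  rw [h2, h0] at h1
  have h3 : ∀ ψ : IrrCharacter S, (ψ : S → ℂ) 1 = 1 := irr_apply_one_of_comm hcomm
  simp only [h3, mul_one] at h1
  have h4 : (∑ ψ : IrrCharacter S, m ψ) = 0 := by
    have : ((∑ ψ : IrrCharacter S, m ψ : ℕ) : ℂ) = 0 := by
      push_cast; exact h1.symm
    exact_mod_cast this
  have h5 : ∀ ψ : IrrCharacter S, m ψ = 0 := by
    intro ψ
    exact (Finset.sum_eq_zero_iff.1 h4) ψ (Finset.mem_univ _)
  have h6 : (fun u : P => χ ((u : G) * g)) = fun c : P => Ψ (c, gS) := by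
    funext c
    show χ ((c : G) * g) = χ (φ (c, gS))
    rw [hφa]
  rw [h6, hm gS]
  simp [h5]

end Shift

section PC

variable {G : Type*} [Group G] [Fintype G] (P : Subgroup G)

theorem exists_mul_of_sup_eq_top [hPn : P.Normal]
    (hG : P ⊔ Subgroup.centralizer (P : Set G) = ⊤) (c : G) :
    ∃ u ∈ P, ∃ z ∈ Subgroup.centralizer (P : Set G), c = u * z := by
  have h1 : c ∈ ((P ⊔ Subgroup.centralizer (P : Set G) : Subgroup G) : Set G) := by
    rw [hG]; exact Set.mem_univ c
  rw [Subgroup.normal_mul] at h1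
  obtain ⟨u, hu, z, hz, rfl⟩ := Set.mem_mul.1 h1
  exact ⟨u, hu, z, hz, rfl⟩

theorem normal_of_sup_eq_top (hG : P ⊔ Subgroup.centralizer (P : Set G) = ⊤) : P.Normal := by
  rw [← Subgroup.normalizer_eq_top_iff, eq_top_iff, ← hG]
  exact sup_le Subgroup.le_normalizer (Subgroup.centralizer_le_normalizer _)

variable [hPn : P.Normal]

/-- Every class function of `P` is `G`-invariant when `G = P C_G(P)`. -/
theorem conjChar_eq_self (hG : P ⊔ Subgroup.centralizer (P : Set G) = ⊤) {ξ : P → ℂ}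
    (hξ : IsClassFunction P ξ) (c : G) : conjChar P ξ c = ξ := by
  obtain ⟨u, hu, z, hz, rfl⟩ := exists_mul_of_sup_eq_top P hG c
  funext n
  rw [conjChar_apply]
  have h1 : (⟨u * z * (n : G) * (u * z)⁻¹, hPn.conj_mem n n.2 (u * z)⟩ : P) =
      ⟨u, hu⟩ * n * ⟨u, hu⟩⁻¹ := by
    apply Subtype.ext
    show u * z * (n : G) * (u * z)⁻¹ = u * (n : G) * u⁻¹
    have hzn : z * (n : G) = (n : G) * z := (Subgroup.mem_centralizer_iff.1 hz n n.2).symm
    calc u * z * (n : G) * (u * z)⁻¹ = u * (z * (n : G)) * z⁻¹ * u⁻¹ := by group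
      _ = u * ((n : G) * z) * z⁻¹ * u⁻¹ := by rw [hzn]
      _ = _ := by group
  rw [h1]
  exact hξ n ⟨u, hu⟩

variable [Fintype P]

/-- `χ|_P` has a unique irreducible constituent. -/
theorem constituent_unique (hG : P ⊔ Subgroup.centralizer (P : Set G) = ⊤) (χ : IrrCharacter G)
    (ξ ξ' : IrrCharacter P)
    (h : classInner (fun u : P => (χ : G → ℂ) u) (ξ : P → ℂ) ≠ 0)
    (h' : classInner (fun u : P => (χ : G → ℂ) u) (ξ' : P → ℂ) ≠ 0) : ξ' = ξ := by
  obtain ⟨c, hc⟩ := conj_of_constituent P (χ : G → ℂ) χ.2 (ξ : P → ℂ) (ξ' : P → ℂ) ξ.2 ξ'.2 h h'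
  rw [conjChar_eq_self P hG (irr_isClassFunction ξ)] at hc
  exact Subtype.ext hc

/-- `χ(u y) = λ(u) χ(y) / λ(1)` for `u ∈ P`, `y ∈ C_G(P)`. -/
theorem apply_mul_eq (hG : P ⊔ Subgroup.centralizer (P : Set G) = ⊤) (χ : IrrCharacter G)
    (ξ : IrrCharacter P) (h : classInner (fun u : P => (χ : G → ℂ) u) (ξ : P → ℂ) ≠ 0)
    (u : P) (y : G) (hy : ∀ v ∈ P, v * y = y * v) :
    (χ : G → ℂ) ((u : G) * y) = (ξ : P → ℂ) u * (χ : G → ℂ) y / (ξ : P → ℂ) 1 := by
  classical
  haveI := Fintype.ofFinite (IrrCharacter P)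
  set A : P → ℂ := fun v : P => (χ : G → ℂ) ((v : G) * y) with hA
  have hAcf : IsClassFunction P A := shift_isClassFunction P (irr_isClassFunction χ) y hy
  have hexp := classFunction_expansion A hAcf
  have hsingle : A = classInner A (ξ : P → ℂ) • (ξ : P → ℂ) := by
    refine hexp.trans ?_
    rw [Finset.sum_eq_single ξ]
    · intro ξ' _ hne
      have h0 : classInner (fun u : P => (χ : G → ℂ) u) (ξ' : P → ℂ) = 0 := by
        by_contra h1
        exact hne (constituent_unique P hG χ ξ ξ' h h1)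
      have := classInner_shift_eq_zero P (isCharacter_of_irr χ.2) y hy ξ' h0
      rw [show classInner A (ξ' : P → ℂ) = 0 from this, zero_smul]
    · intro h1
      exact absurd (Finset.mem_univ _) h1
  have h1 := congrFun hsingle 1
  have hu := congrFun hsingle u
  simp only [Pi.smul_apply, smul_eq_mul] at h1 hu
  have hA1 : A 1 = (χ : G → ℂ) y := by
    show (χ : G → ℂ) (((1 : P) : G) * y) = _
    simp
  have hξ1 : (ξ : P → ℂ) 1 ≠ 0 := irr_one_ne_zero ξ
  show A u = _
  rw [hu, ← hA1, h1]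
  field_simp

end PC

section Norm

variable {G : Type*} [Group G] [Fintype G] {p : ℕ} [Fact p.Prime] (P : Subgroup G)

/-- `p`-regular elements centralize `P` when `G = P C_G(P)` and `P` is a `p`-group. -/
theorem commute_of_pRegular [hPn : P.Normal] (hP : IsPGroup p P)
    (hG : P ⊔ Subgroup.centralizer (P : Set G) = ⊤) {y : G} (hy : ¬ p ∣ orderOf y) :
    ∀ v ∈ P, v * y = y * v := by
  have hp : p.Prime := Fact.out
  obtain ⟨u, hu, z, hz, rfl⟩ := exists_mul_of_sup_eq_top P hG y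
  obtain ⟨j, hj⟩ := (IsPGroup.iff_orderOf.1 hP) ⟨u, hu⟩
  have hj' : orderOf u = p ^ j := by
    rw [← hj]; exact Subgroup.orderOf_coe (⟨u, hu⟩ : P)
  have huz : Commute u z := (Subgroup.mem_centralizer_iff.1 hz u hu)
  have hcop : (p ^ j).Coprime (orderOf (u * z)) :=
    Nat.Coprime.pow_left j ((Nat.Prime.coprime_iff_not_dvd hp).2 hy)
  obtain ⟨m, hm⟩ := exists_pow_eq_self_of_coprime hcop
  have h1 : (u * z) ^ p ^ j = z ^ p ^ j := by
    rw [huz.mul_pow, ← hj', pow_orderOf_eq_one, one_mul]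
  have h2 : u * z ∈ Subgroup.centralizer (P : Set G) := by
    rw [← hm, h1]
    exact Subgroup.pow_mem _ (Subgroup.pow_mem _ hz _) _
  intro v hv
  exact (Subgroup.mem_centralizer_iff.1 h2 v hv)

open Classical in
/-- The set `P · G_{p'}`. -/
noncomputable def prodSet (p : ℕ) (P : Subgroup G) [Fintype P] : Finset G :=
  ((Finset.univ : Finset P) ×ˢ (Finset.univ.filter (fun y : G => ¬ p ∣ orderOf y))).image
    (fun s => (s.1 : G) * s.2)

variable [Fintype P]

open Classical in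
theorem sum_prodSet {A : Type*} [AddCommMonoid A] [hPn : P.Normal] (hP : IsPGroup p P)
    (hG : P ⊔ Subgroup.centralizer (P : Set G) = ⊤) (f : G → A) :
    ∑ g ∈ prodSet p P, f g =
      ∑ u : P, ∑ y ∈ Finset.univ.filter (fun y : G => ¬ p ∣ orderOf y), f ((u : G) * y) := by
  have hp : p.Prime := Fact.out
  unfold prodSet
  rw [Finset.sum_image, Finset.sum_product]
  rintro ⟨u, y⟩ hs ⟨u', y'⟩ hs' heq
  simp only [Finset.coe_product, Finset.coe_univ, Finset.coe_filter, Finset.mem_univ, true_and,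
    Set.mem_prod, Set.mem_univ, Set.mem_ofPred_eq] at hs hs'
  simp only at heq
  have hord : ∀ w : P, ∃ k : ℕ, orderOf (w : G) = p ^ k := by
    intro w
    obtain ⟨j, hj⟩ := (IsPGroup.iff_orderOf.1 hP) w
    exact ⟨j, by rw [Subgroup.orderOf_coe, hj]⟩
  have h1 : IsPPart p ((u : G) * y) (u : G) :=
    isPPart_mul (commute_of_pRegular P hP hG hs u u.2) (hord u) hs
  have h2 : IsPPart p ((u : G) * y) (u' : G) := by
    rw [heq]
    exact isPPart_mul (commute_of_pRegular P hP hG hs' u' u'.2) (hord u') hs'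
  have h3 : (u : G) = (u' : G) := IsPPart.unique hp h1 h2
  have h4 : u = u' := Subtype.ext h3
  subst h4
  have h5 : y = y' := mul_left_cancel heq
  rw [h5]

open Classical in
/-- The squared norm of `χ` on `P · G_{p'}`. -/
theorem sum_prodSet_normSq [hPn : P.Normal] (hP : IsPGroup p P)
    (hG : P ⊔ Subgroup.centralizer (P : Set G) = ⊤) (χ : IrrCharacter G) (ξ : IrrCharacter P)
    (h : classInner (fun u : P => (χ : G → ℂ) u) (ξ : P → ℂ) ≠ 0) :
    ∑ g ∈ prodSet p P, Complex.normSq ((χ : G → ℂ) g) =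
      (Nat.card P : ℝ) / Complex.normSq ((ξ : P → ℂ) 1) *
        ∑ y ∈ Finset.univ.filter (fun y : G => ¬ p ∣ orderOf y),
          Complex.normSq ((χ : G → ℂ) y) := by
  rw [sum_prodSet P hP hG]
  have hξ1 : Complex.normSq ((ξ : P → ℂ) 1) ≠ 0 := by
    rw [Ne, Complex.normSq_eq_zero]; exact irr_one_ne_zero ξ
  have h1 : ∀ u : P, ∀ y ∈ Finset.univ.filter (fun y : G => ¬ p ∣ orderOf y),
      Complex.normSq ((χ : G → ℂ) ((u : G) * y)) =
        Complex.normSq ((ξ : P → ℂ) u) *
          (Complex.normSq ((χ : G → ℂ) y) / Complex.normSq ((ξ : P → ℂ) 1)) := by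
    intro u y hy
    rw [apply_mul_eq P hG χ ξ h u y
      (commute_of_pRegular P hP hG (Finset.mem_filter.1 hy).2), Complex.normSq_div,
      Complex.normSq_mul]
    ring
  rw [Finset.sum_congr rfl (fun u _ => Finset.sum_congr rfl (fun y hy => h1 u y hy))]
  simp only [← Finset.mul_sum, ← Finset.sum_mul, ← Finset.sum_div]
  have h2 : ∑ u : P, Complex.normSq ((ξ : P → ℂ) u) = (Nat.card P : ℝ) := by
    have h3 := irr_orthonormal ξ ξ
    rw [if_pos rfl, classInner] at h3
    have hP0 : (Nat.card P : ℂ) ≠ 0 := by exact_mod_cast (Nat.card_pos (α := P)).ne'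
    have h4 : ∑ u : P, (ξ : P → ℂ) u * conj ((ξ : P → ℂ) u) = (Nat.card P : ℂ) := by
      field_simp at h3
      exact h3
    have h5 : ((∑ u : P, Complex.normSq ((ξ : P → ℂ) u) : ℝ) : ℂ) = (Nat.card P : ℂ) := by
      rw [← h4]
      push_cast
      refine Finset.sum_congr rfl (fun u _ => ?_)
      rw [Complex.mul_conj]
    exact_mod_cast h5
  rw [h2]
  ring

theorem sum_normSq_irr (χ : IrrCharacter G) :
    ∑ g : G, Complex.normSq ((χ : G → ℂ) g) = (Nat.card G : ℝ) := by
  have h3 := irr_orthonormal χ χ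
  rw [if_pos rfl, classInner] at h3
  have hG0 : (Nat.card G : ℂ) ≠ 0 := by exact_mod_cast (Nat.card_pos (α := G)).ne'
  have h4 : ∑ g : G, (χ : G → ℂ) g * conj ((χ : G → ℂ) g) = (Nat.card G : ℂ) := by
    field_simp at h3
    exact h3
  have h5 : ((∑ g : G, Complex.normSq ((χ : G → ℂ) g) : ℝ) : ℂ) = (Nat.card G : ℂ) := by
    rw [← h4]
    push_cast
    refine Finset.sum_congr rfl (fun u _ => ?_)
    rw [Complex.mul_conj]
  exact_mod_cast h5

end Norm

end Cfsg.Agent.Lib.H23.PCP
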