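import Mathlib
import Cfsg.Prelude.Def_Blocks
import Cfsg.Agent.Lib.H23.PCPChar
import Cfsg.Agent.Lib.H23.BlockHeightZero
import Cfsg.Agent.Lib.H23.BlockCovering

/-!
# Blocks of `G = P · C_G(P)` with defect group `P` (helper23)

* `minDeg_add_le`: for a block with normal defect group `P` and `χ ∈ B` over `ξ ∈ Irr(P)`:
  `ν(χ(1)) ≥ (a - d) + ν(ξ(1))`.
* `AA_ne_zero_of_height_zero`: `[χ̃, ψ] ≠ 0` for `χ, ψ` in the same block, `ψ` of height zero.
* `apply_pRegular_eq`: in the situation `G = P C_G(P)`, `χ(y) = λ_χ(1) ψ(y)` on `p`-regular `y`.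
-/

set_option autoImplicit false

namespace Cfsg.Agent.Lib.H23.PCP

open Cfsg MonoidAlgebra Cfsg.Agent.Lib.H23 Cfsg.Agent.Lib.H24 Cfsg.Agent.Lib.L0
  Cfsg.Agent.Lib.L0.BlockMinMax Cfsg.Agent.Lib.L0.Tilde Cfsg.Agent.Lib.H23.NormalDefect
open scoped ComplexConjugate

section General

variable {G : Type*} [Group G] [Fintype G] {p : ℕ} [Fact p.Prime] {M : Ideal AlgInt}

/-- Heights in a block with a normal defect group are at least the `p`-part of the degree of the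
character of `P` lying under. -/
theorem minDeg_add_le (hM : IsPModular p M) (χ₀ : IrrCharacter G) (P : Subgroup G)
    [hPn : P.Normal] [Fintype P] (hP : IsDefectGroup p M (blockOf M (χ₀ : G → ℂ)) P)
    (χ : IrrCharacter G) (hχ : χ ∈ blockOf M (χ₀ : G → ℂ)) (ξ : IrrCharacter P)
    (hcon : classInner (fun u : P => (χ : G → ℂ) u) (ξ : P → ℂ) ≠ 0) :
    minDeg p (blockOf M (χ₀ : G → ℂ)) + (charDegree (ξ : P → ℂ)).factorization p ≤
      (charDegree (χ : G → ℂ)).factorization p := by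
  classical
  haveI hPr := isPrime_of_isPModular hM
  have hp := prime_of_isPModular hM
  set B := blockOf M (χ₀ : G → ℂ) with hB
  set a := (Nat.card G).factorization p with ha
  set d := blockDefect p B with hd
  set e := minDeg p B with he
  have he1 : e = a - d := minDeg_eq_sub_blockDefect (p := p) (M := M) χ₀
  have he2 : e ≤ a := minDeg_le_card (p := p) (M := M) χ₀
  have hd3 : d ≤ a := by
    rw [hd, blockDefect]; omega
  have hcardP : Nat.card P = p ^ d := card_defectGroup hM χ₀ P hP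
  have hξdvd : charDegree (ξ : P → ℂ) ∣ p ^ d := by
    rw [← hcardP]; exact charDegree_dvd_card _ ξ.2
  obtain ⟨k, -, hk⟩ := (Nat.dvd_prime_pow hp).1 hξdvd
  have hξdeg : (ξ : P → ℂ) 1 = ((p ^ k : ℕ) : ℂ) := by
    rw [apply_one_eq_charDegree _ ξ.2, hk]
  rw [hk, Nat.Prime.factorization_pow hp]
  simp only [Finsupp.single_eq_same]
  by_contra hlt
  rw [not_le] at hlt
  have hn : ∀ ξ' : IrrCharacter P, classInner (fun u : P => (χ : G → ℂ) u) (ξ' : P → ℂ) ≠ 0 →
      (ξ' : P → ℂ) 1 = ((p ^ k : ℕ) : ℂ) := by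
    intro ξ' hξ'
    obtain ⟨c, hc⟩ := conj_of_constituent P (χ : G → ℂ) χ.2 (ξ : P → ℂ) (ξ' : P → ℂ)
      ξ.2 ξ'.2 hcon hξ'
    rw [hc, conjChar_apply, ← hξdeg]
    refine congrArg (ξ : P → ℂ) (Subtype.ext ?_)
    show c * ((1 : P) : G) * c⁻¹ = ((1 : P) : G)
    simp
  obtain ⟨g, ⟨hβR, hβn, hω⟩, S, hPS⟩ := hP
  have hgP : ∀ u ∈ P, u * g = g * u := by
    intro u hu
    rw [hPS] at hu
    obtain ⟨c, -, rfl⟩ := hu
    exact Subgroup.mem_centralizer_singleton_iff.1 c.2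
  obtain ⟨z, hz, hχg⟩ := apply_centralizing_eq_mul P (isCharacter_of_irr χ.2) g hgP (p ^ k) hn
  apply hω χ hχ
  have hC : (Nat.card (Subgroup.centralizer ({g} : Set G))).factorization p = d := by
    have h1 : Nat.card P = p ^ (Nat.card (Subgroup.centralizer ({g} : Set G))).factorization p := by
      rw [hPS, Subgroup.card_map_of_injective (Subgroup.subtype_injective _),
        Sylow.card_eq_multiplicity]
    rw [hcardP] at h1
    exact (Nat.pow_right_injective hp.two_le h1).symm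
  have hidxg : (Subgroup.centralizer ({g} : Set G)).index.factorization p = e := by
    have := factorization_card_eq (p := p) g
    rw [hC] at this
    omega
  set idx := (Subgroup.centralizer ({g} : Set G)).index with hidxdef
  set c := charDegree (χ : G → ℂ) with hcdef
  set v := c.factorization p with hv
  have hcpos : 0 < c := Cfsg.Agent.Lib.H23.charDegree_pos _ χ.2
  have hk1 := Nat.ordProj_mul_ordCompl_eq_self idx p
  have hc1 := Nat.ordProj_mul_ordCompl_eq_self c p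
  rw [hidxg] at hk1
  have hc' : ¬ p ∣ c / p ^ v := Nat.not_dvd_ordCompl hp hcpos.ne'
  set k' := idx / p ^ e
  set c' := c / p ^ v
  have hp0 : (p : ℂ) ≠ 0 := Nat.cast_ne_zero.2 hp.ne_zero
  have hc'0 : (c' : ℂ) ≠ 0 := by
    intro h0
    have : c' = 0 := by exact_mod_cast h0
    exact hc' (this ▸ dvd_zero p)
  obtain ⟨k₁, hk₁⟩ : ∃ k₁, e + k = v + (k₁ + 1) := ⟨e + k - v - 1, by omega⟩
  have heq : centralChar (χ : G → ℂ) g =
      (p : ℂ) * ((p : ℂ) ^ k₁ * (k' : ℂ) * z * (c' : ℂ)⁻¹) := by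
    rw [centralChar, apply_one_eq_charDegree _ χ.2, hχg, ← hidxdef, ← hcdef, ← hk1, ← hc1]
    push_cast
    have hpow : (p : ℂ) ^ e * (p : ℂ) ^ k = (p : ℂ) ^ v * ((p : ℂ) ^ k₁ * (p : ℂ)) := by
      rw [← pow_add, hk₁, pow_add, pow_succ]
    have hpv : (p : ℂ) ^ v ≠ 0 := pow_ne_zero _ hp0
    field_simp
    linear_combination (k' : ℂ) * z * hpow
  rw [heq]
  refine memLocalIdeal_mul_right (memLocalIdeal_p hM) ?_
  refine memLocalRing_mul (memLocalRing_mul (memLocalRing_mul ?_ ?_) ?_) ?_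
  · exact memLocalRing_pow (natCast_mem_localRing p) _
  · exact natCast_mem_localRing _
  · exact isIntegral_mem_localRing hz
  · exact memLocalRing_inv_natCast hM hc'

/-- `[χ̃, ψ] ≠ 0` when `χ, ψ` lie in the same block and `ψ` has height zero. -/
theorem AA_ne_zero_of_height_zero (hM : IsPModular p M) (χ₀ : IrrCharacter G)
    (χ ψ : IrrCharacter G) (hχ : χ ∈ blockOf M (χ₀ : G → ℂ)) (hψ : ψ ∈ blockOf M (χ₀ : G → ℂ))
    (h0 : blockHeight p (blockOf M (χ₀ : G → ℂ)) (ψ : G → ℂ) = 0) :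
    AA p (χ : G → ℂ) (ψ : G → ℂ) ≠ 0 := by
  haveI hPr := isPrime_of_isPModular hM
  have hp := prime_of_isPModular hM
  have h0' : blockHeight p (blockOf M (ψ : G → ℂ)) (ψ : G → ℂ) = 0 := by
    rw [blockOf_eq_of_mem hψ]; exact h0
  have h1 := omega_regElt_not_memLocalIdeal hM ψ h0'
  have hs : SameBlock M (χ : G → ℂ) (ψ : G → ℂ) := sameBlock_trans (sameBlock_symm hχ) hψ
  have h2 := omega_sub_memLocalIdeal hs (regElt_mem_center p (irr_isClassFunction ψ))
    (regElt_mem_intCoeff p ψ)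
  have h3 : omega (χ : G → ℂ) (regElt p (ψ : G → ℂ)) ≠ 0 := by
    intro h
    rw [h, zero_sub] at h2
    apply h1
    have := memLocalIdeal_neg h2
    rwa [neg_neg] at this
  intro hAA
  have h4 := AA_mul_ordCompl hp χ (ψ : G → ℂ)
  rw [hAA, zero_mul] at h4
  rcases mul_eq_zero.1 h4.symm with h | h
  · exact irr_one_ne_zero χ h
  · exact h3 h

end General

section Aux

theorem sum_normSq_sub {ι : Type*} (R : Finset ι) (f g : ι → ℂ) (t : ℝ) :
    ∑ y ∈ R, Complex.normSq (f y - (t : ℂ) * g y) =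
      ∑ y ∈ R, Complex.normSq (f y) - 2 * t * ∑ y ∈ R, (f y * conj (g y)).re +
        t ^ 2 * ∑ y ∈ R, Complex.normSq (g y) := by
  have h : ∀ y, Complex.normSq (f y - (t : ℂ) * g y) =
      Complex.normSq (f y) - 2 * t * (f y * conj (g y)).re + t ^ 2 * Complex.normSq (g y) := by
    intro y
    rw [Complex.normSq_sub, Complex.normSq_mul, Complex.normSq_ofReal, map_mul, Complex.conj_ofReal]
    have : (f y * ((t : ℂ) * conj (g y))).re = t * (f y * conj (g y)).re := by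
      rw [show f y * ((t : ℂ) * conj (g y)) = (t : ℂ) * (f y * conj (g y)) by ring,
        Complex.re_ofReal_mul]
    rw [this]
    ring
  simp only [h, Finset.sum_add_distrib, Finset.sum_sub_distrib, ← Finset.mul_sum]

theorem core_ineq (Gc pd pk X Y W S : ℝ) (k₁ : ℤ) (hG : 0 < Gc) (hpd : 0 < pd) (hpk : 0 < pk)
    (hk₁ : k₁ ≠ 0) (hA : pd * X ≤ Gc * pk ^ 2) (hB : pd * Y ≤ Gc)
    (hC : pd * W = pk * k₁ * Gc)
    (hS : S = X - 2 * ((k₁ : ℝ) * pk) * W + ((k₁ : ℝ) * pk) ^ 2 * Y) (hS0 : 0 ≤ S) :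
    k₁ ^ 2 = 1 ∧ S = 0 ∧ pd * X = Gc * pk ^ 2 := by
  have hk2 : (1 : ℝ) ≤ (k₁ : ℝ) ^ 2 := by
    have h1 : (1 : ℤ) ≤ k₁ ^ 2 := by
      have := sq_nonneg k₁
      have h2 : k₁ ^ 2 ≠ 0 := pow_ne_zero 2 hk₁
      omega
    exact_mod_cast h1
  have hkp : 0 ≤ ((k₁ : ℝ) * pk) ^ 2 := sq_nonneg _
  have hpdS : pd * S = pd * X - 2 * ((k₁ : ℝ) * pk) * (pd * W) +
      ((k₁ : ℝ) * pk) ^ 2 * (pd * Y) := by
    rw [hS]; ring
  have hle : pd * S ≤ Gc * pk ^ 2 * (1 - (k₁ : ℝ) ^ 2) := by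
    rw [hpdS, hC]
    have h3 : ((k₁ : ℝ) * pk) ^ 2 * (pd * Y) ≤ ((k₁ : ℝ) * pk) ^ 2 * Gc :=
      mul_le_mul_of_nonneg_left hB hkp
    nlinarith [h3, hA]
  have hpdS0 : 0 ≤ pd * S := mul_nonneg hpd.le hS0
  have hpos : 0 < Gc * pk ^ 2 := mul_pos hG (pow_pos hpk 2)
  have hk2' : (k₁ : ℝ) ^ 2 ≤ 1 := by
    by_contra h
    rw [not_le] at h
    have : Gc * pk ^ 2 * (1 - (k₁ : ℝ) ^ 2) < 0 := mul_neg_of_pos_of_neg hpos (by linarith)
    linarith
  have hk2eq : (k₁ : ℝ) ^ 2 = 1 := le_antisymm hk2' hk2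
  have hkint : k₁ ^ 2 = 1 := by exact_mod_cast hk2eq
  have hS' : pd * S ≤ 0 := by
    rw [hk2eq] at hle; simpa using hle
  have hSz : S = 0 := by
    have : pd * S = 0 := le_antisymm hS' hpdS0
    rcases mul_eq_zero.1 this with h | h
    · exact absurd h hpd.ne'
    · exact h
  refine ⟨hkint, hSz, le_antisymm hA ?_⟩
  have h4 : pd * S = 0 := by rw [hSz, mul_zero]
  rw [hpdS, hC] at h4
  have h5 : ((k₁ : ℝ) * pk) ^ 2 = pk ^ 2 := by rw [mul_pow, hk2eq, one_mul]
  have h3 : ((k₁ : ℝ) * pk) ^ 2 * (pd * Y) ≤ ((k₁ : ℝ) * pk) ^ 2 * Gc :=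
    mul_le_mul_of_nonneg_left hB hkp
  rw [h5] at h3 h4
  nlinarith [h3, h4, hk2eq]

end Aux

section PC

variable {G : Type*} [Group G] [Fintype G] {p : ℕ} [Fact p.Prime] {M : Ideal AlgInt}
  (P : Subgroup G) [hPn : P.Normal] [Fintype P]

/-- The irreducible constituent of `χ|_P` (unique when `G = P C_G(P)`). -/
noncomputable def lam (χ : IrrCharacter G) : IrrCharacter P :=
  Classical.choose (exists_constituent_restrict P χ)

theorem lam_spec (χ : IrrCharacter G) :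
    classInner (fun u : P => (χ : G → ℂ) u) (lam P χ : P → ℂ) ≠ 0 :=
  Classical.choose_spec (exists_constituent_restrict P χ)

open Classical in
/-- The squared norm of `χ` on `p`-regular elements is at most `|G| λ(1)² / |P|`. -/
theorem card_mul_sum_normSq_le (hPp : IsPGroup p P)
    (hG : P ⊔ Subgroup.centralizer (P : Set G) = ⊤) (χ : IrrCharacter G) :
    (Nat.card P : ℝ) * ∑ y ∈ Finset.univ.filter (fun y : G => ¬ p ∣ orderOf y),
        Complex.normSq ((χ : G → ℂ) y) ≤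
      (Nat.card G : ℝ) * Complex.normSq ((lam P χ : P → ℂ) 1) := by
  have h1 := sum_prodSet_normSq P hPp hG χ (lam P χ) (lam_spec P χ)
  have h2 : ∑ g ∈ prodSet p P, Complex.normSq ((χ : G → ℂ) g) ≤ (Nat.card G : ℝ) := by
    rw [← sum_normSq_irr χ]
    exact Finset.sum_le_univ_sum_of_nonneg (fun g => Complex.normSq_nonneg _)
  rw [h1] at h2
  have hξ1 : 0 < Complex.normSq ((lam P χ : P → ℂ) 1) :=
    Complex.normSq_pos.2 (irr_one_ne_zero _)
  rw [div_mul_eq_mul_div, div_le_iff₀ hξ1] at h2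
  exact h2

open Classical in
/-- **Key proportionality**: in a block `B` of `G = P C_G(P)` with defect group `P`, with `ψ ∈ B`
of height zero: `χ(y) = λ_χ(1) ψ(y)` for `p`-regular `y`, and the norm bound is attained. -/
theorem apply_pRegular_eq (hM : IsPModular p M) (χ₀ : IrrCharacter G) (hPp : IsPGroup p P)
    (hG : P ⊔ Subgroup.centralizer (P : Set G) = ⊤)
    (hD : IsDefectGroup p M (blockOf M (χ₀ : G → ℂ)) P)
    (ψ : IrrCharacter G) (hψ : ψ ∈ blockOf M (χ₀ : G → ℂ))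
    (h0 : blockHeight p (blockOf M (χ₀ : G → ℂ)) (ψ : G → ℂ) = 0)
    (χ : IrrCharacter G) (hχ : χ ∈ blockOf M (χ₀ : G → ℂ)) :
    (∀ y : G, ¬ p ∣ orderOf y → (χ : G → ℂ) y = (lam P χ : P → ℂ) 1 * (ψ : G → ℂ) y) ∧
    (Nat.card P : ℝ) * ∑ y ∈ Finset.univ.filter (fun y : G => ¬ p ∣ orderOf y),
        Complex.normSq ((χ : G → ℂ) y) =
      (Nat.card G : ℝ) * Complex.normSq ((lam P χ : P → ℂ) 1) := by
  haveI hPr := isPrime_of_isPModular hM
  have hp := prime_of_isPModular hM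
  set B := blockOf M (χ₀ : G → ℂ) with hB
  set a := (Nat.card G).factorization p with ha
  set d := blockDefect p B with hd
  set e := minDeg p B with he
  have he1 : e = a - d := minDeg_eq_sub_blockDefect (p := p) (M := M) χ₀
  have he2 : e ≤ a := minDeg_le_card (p := p) (M := M) χ₀
  have hd3 : d ≤ a := by
    rw [hd, blockDefect]; omega
  have hcardP : Nat.card P = p ^ d := card_defectGroup hM χ₀ P hD
  set R := Finset.univ.filter (fun y : G => ¬ p ∣ orderOf y) with hR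
  -- degrees of the characters of `P` below
  have hdeg : ∀ φ : IrrCharacter G, ∃ k : ℕ, charDegree (lam P φ : P → ℂ) = p ^ k ∧
      (lam P φ : P → ℂ) 1 = ((p ^ k : ℕ) : ℂ) := by
    intro φ
    have hξdvd : charDegree (lam P φ : P → ℂ) ∣ p ^ d := by
      rw [← hcardP]; exact charDegree_dvd_card _ (lam P φ).2
    obtain ⟨k, -, hk⟩ := (Nat.dvd_prime_pow hp).1 hξdvd
    exact ⟨k, hk, by rw [apply_one_eq_charDegree _ (lam P φ).2, hk]⟩
  obtain ⟨k, hkdeg, hk1⟩ := hdeg χ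
  obtain ⟨k', hk'deg, hk'1⟩ := hdeg ψ
  -- `λ_ψ` is linear
  have hψe : (charDegree (ψ : G → ℂ)).factorization p = e := by
    have h1 : (charDegree (ψ : G → ℂ)).factorization p - e = 0 := h0
    have h2 : e ≤ (charDegree (ψ : G → ℂ)).factorization p := minDeg_le χ₀ hψ
    omega
  have hk'0 : k' = 0 := by
    have h1 : e + (charDegree (lam P ψ : P → ℂ)).factorization p ≤
        (charDegree (ψ : G → ℂ)).factorization p :=
      minDeg_add_le hM χ₀ P hD ψ hψ (lam P ψ) (lam_spec P ψ)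
    rw [hk'deg, Nat.Prime.factorization_pow hp] at h1
    simp only [Finsupp.single_eq_same] at h1
    omega
  have hχv : e + k ≤ (charDegree (χ : G → ℂ)).factorization p := by
    have h1 : e + (charDegree (lam P χ : P → ℂ)).factorization p ≤
        (charDegree (χ : G → ℂ)).factorization p :=
      minDeg_add_le hM χ₀ P hD χ hχ (lam P χ) (lam_spec P χ)
    rw [hkdeg, Nat.Prime.factorization_pow hp] at h1
    simpa only [Finsupp.single_eq_same] using h1
  -- the integer `[χ̃, ψ]`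
  obtain ⟨n, hn⟩ := AA_int hp (isCharacter_of_irr χ.2) ψ
  have hn0 : n ≠ 0 := by
    intro h
    apply AA_ne_zero_of_height_zero hM χ₀ χ ψ hχ hψ h0
    rw [hn, h]; simp
  have hdvd : (p : ℤ) ^ (e + k) ∣ n :=
    (pow_dvd_pow (p : ℤ) hχv).trans (pow_dvd_AA hp χ ψ n hn)
  obtain ⟨k₁, hk₁⟩ := hdvd
  have hk₁0 : k₁ ≠ 0 := by
    rintro rfl
    exact hn0 (by rw [hk₁, mul_zero])
  -- real quantities
  set Gc : ℝ := (Nat.card G : ℝ) with hGc
  set pd : ℝ := ((p : ℝ)) ^ d with hpd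
  set pk : ℝ := ((p : ℝ)) ^ k with hpk
  have hpR : (0 : ℝ) < (p : ℝ) := by exact_mod_cast hp.pos
  have hGc0 : 0 < Gc := by
    rw [hGc]; exact_mod_cast (Nat.card_pos (α := G))
  have hpd0 : 0 < pd := pow_pos hpR d
  have hpk0 : 0 < pk := pow_pos hpR k
  set X : ℝ := ∑ y ∈ R, Complex.normSq ((χ : G → ℂ) y) with hX
  set Y : ℝ := ∑ y ∈ R, Complex.normSq ((ψ : G → ℂ) y) with hY
  set W : ℝ := ∑ y ∈ R, ((χ : G → ℂ) y * conj ((ψ : G → ℂ) y)).re with hW
  have hcardPR : (Nat.card P : ℝ) = pd := by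
    rw [hcardP, hpd]; push_cast; rfl
  have hnsq : Complex.normSq ((lam P χ : P → ℂ) 1) = pk ^ 2 := by
    rw [hk1, hpk]
    have : (((p ^ k : ℕ) : ℂ)) = (((p : ℝ) ^ k : ℝ) : ℂ) := by push_cast; rfl
    rw [this, Complex.normSq_ofReal]; ring
  have hnsq' : Complex.normSq ((lam P ψ : P → ℂ) 1) = 1 := by
    rw [hk'1, hk'0, pow_zero, Nat.cast_one, map_one]
  have hA : pd * X ≤ Gc * pk ^ 2 := by
    have := card_mul_sum_normSq_le P hPp hG χ
    rwa [hcardPR, hnsq] at this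
  have hBd : pd * Y ≤ Gc := by
    have := card_mul_sum_normSq_le P hPp hG ψ
    rwa [hcardPR, hnsq', mul_one] at this
  -- the mixed sum
  set Z : ℂ := ∑ y ∈ R, (χ : G → ℂ) y * conj ((ψ : G → ℂ) y) with hZdef
  have hpaC : ((p : ℂ) ^ a) ≠ 0 := pow_ne_zero _ (Nat.cast_ne_zero.2 hp.ne_zero)
  have hZ3 : Z * ((p : ℂ) ^ a) = (n : ℂ) * (Nat.card G : ℂ) := by
    have h1 := AA_eq p (χ : G → ℂ) (ψ : G → ℂ)
    rw [hn, ← ha] at h1
    have h2 : ∑ x : G, (if p ∣ orderOf x then (0 : ℂ) else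
        (χ : G → ℂ) x * conj ((ψ : G → ℂ) x)) = Z := by
      rw [hZdef, hR, Finset.sum_filter]
      refine Finset.sum_congr rfl (fun x _ => ?_)
      by_cases hx : p ∣ orderOf x
      · rw [if_pos hx, if_neg (not_not.2 hx)]
      · rw [if_neg hx, if_pos hx]
    rw [h2] at h1
    have hG0 : (Nat.card G : ℂ) ≠ 0 := by exact_mod_cast (Nat.card_pos (α := G)).ne'
    rw [h1]
    push_cast
    field_simp
  have hZ : Z = (((n : ℝ) * Gc / (p : ℝ) ^ a : ℝ) : ℂ) := by
    rw [hGc]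
    push_cast
    rw [eq_div_iff hpaC]
    exact hZ3
  have hWre : W = (n : ℝ) * Gc / (p : ℝ) ^ a := by
    have : W = Z.re := by rw [hW, hZdef, Complex.re_sum]
    rw [this, hZ, Complex.ofReal_re]
  have hC : pd * W = pk * (k₁ : ℝ) * Gc := by
    have h2 : (n : ℝ) = (p : ℝ) ^ (e + k) * (k₁ : ℝ) := by
      rw [hk₁]; push_cast; ring
    have h3 : (p : ℝ) ^ a = (p : ℝ) ^ e * pd := by
      rw [hpd, ← pow_add]; congr 1; omega
    have hpe0 : (0 : ℝ) < (p : ℝ) ^ e := pow_pos hpR e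
    rw [hWre, h2, h3, pow_add, ← hpk]
    field_simp
  -- the quadratic
  set t : ℝ := (k₁ : ℝ) * pk with ht
  set S : ℝ := ∑ y ∈ R, Complex.normSq ((χ : G → ℂ) y - (t : ℂ) * (ψ : G → ℂ) y) with hS
  have hSexp : S = X - 2 * ((k₁ : ℝ) * pk) * W + ((k₁ : ℝ) * pk) ^ 2 * Y :=
    sum_normSq_sub R _ _ t
  have hS0 : 0 ≤ S := Finset.sum_nonneg (fun y _ => Complex.normSq_nonneg _)
  obtain ⟨hk₁sq, hSz, hXeq⟩ := core_ineq Gc pd pk X Y W S k₁ hGc0 hpd0 hpk0 hk₁0 hA hBd hC hSexp hS0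
  -- pointwise
  have hpt : ∀ y ∈ R, (χ : G → ℂ) y = (t : ℂ) * (ψ : G → ℂ) y := by
    intro y hy
    have h1 := (Finset.sum_eq_zero_iff_of_nonneg (fun y _ => Complex.normSq_nonneg _)).1 hSz y hy
    rw [Complex.normSq_eq_zero, sub_eq_zero] at h1
    exact h1
  -- sign
  have h1R : (1 : G) ∈ R := by
    rw [hR, Finset.mem_filter]
    refine ⟨Finset.mem_univ _, ?_⟩
    rw [orderOf_one]
    exact fun h => hp.one_lt.ne' (Nat.dvd_one.1 h)
  have hk₁1 : k₁ = 1 := by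
    have h1 := hpt 1 h1R
    rw [apply_one_eq_charDegree _ χ.2, apply_one_eq_charDegree _ ψ.2] at h1
    have h2 : ((charDegree (χ : G → ℂ) : ℝ)) = t * (charDegree (ψ : G → ℂ) : ℝ) := by
      have : (((charDegree (χ : G → ℂ) : ℝ)) : ℂ) =
          ((t * (charDegree (ψ : G → ℂ) : ℝ) : ℝ) : ℂ) := by push_cast; exact h1
      exact_mod_cast this
    have hc1 : (0 : ℝ) < (charDegree (χ : G → ℂ) : ℝ) := by
      exact_mod_cast Cfsg.Agent.Lib.H23.charDegree_pos _ χ.2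
    have hc2 : (0 : ℝ) < (charDegree (ψ : G → ℂ) : ℝ) := by
      exact_mod_cast Cfsg.Agent.Lib.H23.charDegree_pos _ ψ.2
    have ht0 : 0 < t := by
      by_contra h
      rw [not_lt] at h
      have := mul_nonpos_of_nonpos_of_nonneg h hc2.le
      linarith
    have hk₁pos : (0 : ℝ) < (k₁ : ℝ) := by
      by_contra h
      rw [not_lt] at h
      have := mul_nonpos_of_nonpos_of_nonneg h hpk0.le
      rw [← ht] at this
      linarith
    have hk₁pos' : 0 < k₁ := by exact_mod_cast hk₁pos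
    nlinarith [hk₁sq, hk₁pos']
  refine ⟨?_, ?_⟩
  · intro y hy
    have hyR : y ∈ R := by
      rw [hR, Finset.mem_filter]; exact ⟨Finset.mem_univ _, hy⟩
    rw [hpt y hyR, ht, hk₁1, hk1, hpk]
    push_cast
    ring
  · rw [hcardPR, hnsq]
    exact hXeq

open Classical in
/-- Members of `B` vanish off `P · G_{p'}`. -/
theorem eq_zero_of_not_mem_prodSet (hM : IsPModular p M) (χ₀ : IrrCharacter G)
    (hPp : IsPGroup p P) (hG : P ⊔ Subgroup.centralizer (P : Set G) = ⊤)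
    (hD : IsDefectGroup p M (blockOf M (χ₀ : G → ℂ)) P)
    (χ : IrrCharacter G) (hχ : χ ∈ blockOf M (χ₀ : G → ℂ)) {g : G} (hg : g ∉ prodSet p P) :
    (χ : G → ℂ) g = 0 := by
  haveI hPr := isPrime_of_isPModular hM
  obtain ⟨ψ, hψ, h0⟩ := Cfsg.Agent.Lib.L0.BlockHeight.exists_height_zero (p := p) (M := M) χ₀
  obtain ⟨-, htight⟩ := apply_pRegular_eq P hM χ₀ hPp hG hD ψ hψ h0 χ hχ
  have h1 := sum_prodSet_normSq P hPp hG χ (lam P χ) (lam_spec P χ)
  have hξ1 : Complex.normSq ((lam P χ : P → ℂ) 1) ≠ 0 := by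
    rw [Ne, Complex.normSq_eq_zero]; exact irr_one_ne_zero _
  have h2 : ∑ g ∈ prodSet p P, Complex.normSq ((χ : G → ℂ) g) = (Nat.card G : ℝ) := by
    rw [h1, div_mul_eq_mul_div, htight, mul_div_assoc, div_self hξ1, mul_one]
  have h3 := Finset.sum_add_sum_compl (prodSet p P) (fun g => Complex.normSq ((χ : G → ℂ) g))
  rw [h2, sum_normSq_irr χ] at h3
  have h4 : ∑ g ∈ (prodSet p P)ᶜ, Complex.normSq ((χ : G → ℂ) g) = 0 := by linarith
  have h5 := (Finset.sum_eq_zero_iff_of_nonneg (fun g _ => Complex.normSq_nonneg _)).1 h4 g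
    (Finset.mem_compl.2 hg)
  exact Complex.normSq_eq_zero.1 h5

open Classical in
/-- `χ ↦ λ_χ` is injective on `B`. -/
theorem lam_injOn (hM : IsPModular p M) (χ₀ : IrrCharacter G)
    (hPp : IsPGroup p P) (hG : P ⊔ Subgroup.centralizer (P : Set G) = ⊤)
    (hD : IsDefectGroup p M (blockOf M (χ₀ : G → ℂ)) P)
    (χ χ' : IrrCharacter G) (hχ : χ ∈ blockOf M (χ₀ : G → ℂ))
    (hχ' : χ' ∈ blockOf M (χ₀ : G → ℂ)) (h : lam P χ = lam P χ') : χ = χ' := by
  haveI hPr := isPrime_of_isPModular hM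
  obtain ⟨ψ, hψ, h0⟩ := Cfsg.Agent.Lib.L0.BlockHeight.exists_height_zero (p := p) (M := M) χ₀
  obtain ⟨h1, -⟩ := apply_pRegular_eq P hM χ₀ hPp hG hD ψ hψ h0 χ hχ
  obtain ⟨h1', -⟩ := apply_pRegular_eq P hM χ₀ hPp hG hD ψ hψ h0 χ' hχ'
  apply Subtype.ext
  funext g
  by_cases hg : g ∈ prodSet p P
  · unfold prodSet at hg
    obtain ⟨⟨u, y⟩, hs, rfl⟩ := Finset.mem_image.1 hg
    have hy : ¬ p ∣ orderOf y := (Finset.mem_filter.1 (Finset.mem_product.1 hs).2).2
    have hyc := commute_of_pRegular P hPp hG hy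
    show (χ : G → ℂ) ((u : G) * y) = (χ' : G → ℂ) ((u : G) * y)
    rw [apply_mul_eq P hG χ (lam P χ) (lam_spec P χ) u y hyc,
      apply_mul_eq P hG χ' (lam P χ') (lam_spec P χ') u y hyc, h1 y hy, h1' y hy, h]
  · rw [eq_zero_of_not_mem_prodSet P hM χ₀ hPp hG hD χ hχ hg,
      eq_zero_of_not_mem_prodSet P hM χ₀ hPp hG hD χ' hχ' hg]

/-- The trivial character of `P`. -/
noncomputable def triv : IrrCharacter P := ⟨fun _ => 1, Cfsg.Agent.Lib.H24.isIrrCharacter_one⟩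

theorem lam_eq_triv_iff (hG : P ⊔ Subgroup.centralizer (P : Set G) = ⊤) (θ : IrrCharacter G) :
    lam P θ = triv P ↔ ∀ x ∈ P, (θ : G → ℂ) x = (θ : G → ℂ) 1 := by
  constructor
  · intro h x hx
    have := apply_mul_eq P hG θ (lam P θ) (lam_spec P θ) ⟨x, hx⟩ 1 (fun v _ => by simp)
    rw [h] at this
    simp only [mul_one] at this
    rw [this]
    show (1 : ℂ) * (θ : G → ℂ) 1 / 1 = _
    simp
  · intro h
    have h1 : classInner (fun u : P => (θ : G → ℂ) u) (triv P : P → ℂ) ≠ 0 := by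
      rw [classInner]
      have h2 : ∀ u : P, (θ : G → ℂ) u * conj ((triv P : P → ℂ) u) = (θ : G → ℂ) 1 := by
        intro u
        rw [h u u.2]
        show (θ : G → ℂ) 1 * conj (1 : ℂ) = _
        simp
      rw [Finset.sum_congr rfl (fun u _ => h2 u), Finset.sum_const, Finset.card_univ,
        nsmul_eq_mul, ← Nat.card_eq_fintype_card]
      have hP0 : (Nat.card P : ℂ) ≠ 0 := by exact_mod_cast (Nat.card_pos (α := P)).ne'
      rw [← mul_assoc, inv_mul_cancel₀ hP0, one_mul]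
      exact irr_one_ne_zero θ
    exact constituent_unique P hG θ (triv P) (lam P θ) h1 (lam_spec P θ)

/-- **S0968**, for `G = P C_G(P)` and a block `B` with defect group `P`. -/
theorem pcp_main (hM : IsPModular p M) (χ₀ : IrrCharacter G)
    (hPp : IsPGroup p P) (hG : P ⊔ Subgroup.centralizer (P : Set G) = ⊤)
    (hD : IsDefectGroup p M (blockOf M (χ₀ : G → ℂ)) P) :
    (∃! θ : IrrCharacter G, θ ∈ blockOf M (χ₀ : G → ℂ) ∧
      ∀ x ∈ P, (θ : G → ℂ) x = (θ : G → ℂ) 1) ∧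
    (∀ θ ∈ blockOf M (χ₀ : G → ℂ), (∀ x ∈ P, (θ : G → ℂ) x = (θ : G → ℂ) 1) →
      (charDegree (θ : G → ℂ)).factorization p = P.index.factorization p) ∧
    Nat.card (blockOf M (χ₀ : G → ℂ)) = Nat.card (ConjClasses P) := by
  classical
  haveI hPr := isPrime_of_isPModular hM
  have hp := prime_of_isPModular hM
  set B := blockOf M (χ₀ : G → ℂ) with hB
  obtain ⟨ψ, hψ, h0⟩ := Cfsg.Agent.Lib.L0.BlockHeight.exists_height_zero (p := p) (M := M) χ₀
  have hsurj : ∀ ξ : IrrCharacter P, ∃ χ ∈ B, lam P χ = ξ := by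
    intro ξ
    obtain ⟨χ, hχ, hcon⟩ := exists_irr_over_of_pGroup hM χ₀ P hPp ξ
    exact ⟨χ, hχ, constituent_unique P hG χ ξ (lam P χ) hcon (lam_spec P χ)⟩
  refine ⟨?_, ?_, ?_⟩
  · obtain ⟨θ, hθ, hθl⟩ := hsurj (triv P)
    refine ⟨θ, ⟨hθ, (lam_eq_triv_iff P hG θ).1 hθl⟩, ?_⟩
    rintro θ' ⟨hθ', hθ'P⟩
    have := (lam_eq_triv_iff P hG θ').2 hθ'P
    exact lam_injOn P hM χ₀ hPp hG hD θ' θ hθ' hθ (this.trans hθl.symm)
  · intro θ hθ hθP
    have hl := (lam_eq_triv_iff P hG θ).2 hθP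
    obtain ⟨h1, -⟩ := apply_pRegular_eq P hM χ₀ hPp hG hD ψ hψ h0 θ hθ
    have h2 := h1 1 (by
      rw [orderOf_one]; exact fun h => hp.one_lt.ne' (Nat.dvd_one.1 h))
    rw [hl] at h2
    have h3 : (θ : G → ℂ) 1 = (ψ : G → ℂ) 1 := by
      rw [h2]
      show (1 : ℂ) * _ = _
      rw [one_mul]
    rw [apply_one_eq_charDegree _ θ.2, apply_one_eq_charDegree _ ψ.2] at h3
    have h4 : charDegree (θ : G → ℂ) = charDegree (ψ : G → ℂ) := by exact_mod_cast h3
    rw [h4]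
    set a := (Nat.card G).factorization p with ha
    set d := blockDefect p B with hd
    set e := minDeg p B with he
    have he1 : e = a - d := minDeg_eq_sub_blockDefect (p := p) (M := M) χ₀
    have he2 : e ≤ a := minDeg_le_card (p := p) (M := M) χ₀
    have hd3 : d ≤ a := by
      rw [hd, blockDefect]; omega
    have hcardP : Nat.card P = p ^ d := card_defectGroup hM χ₀ P hD
    have hψe : (charDegree (ψ : G → ℂ)).factorization p = e := by
      have h1 : (charDegree (ψ : G → ℂ)).factorization p - e = 0 := h0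
      have h2 : e ≤ (charDegree (ψ : G → ℂ)).factorization p := minDeg_le χ₀ hψ
      omega
    have hidx : P.index.factorization p = e := by
      have h1 := P.index_mul_card
      have h2 : (P.index * Nat.card P).factorization p = a := by rw [h1]
      rw [Nat.factorization_mul (Cfsg.Agent.Lib.L0.BlockHeight.index_ne_zero P)
        Nat.card_pos.ne', hcardP, Nat.Prime.factorization_pow hp] at h2
      simp only [Finsupp.coe_add, Pi.add_apply, Finsupp.single_eq_same] at h2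
      omega
    rw [hψe, hidx]
  · rw [← card_irr_eq_card_conjClasses]
    refine Nat.card_congr (Equiv.ofBijective (fun χ : B => lam P (χ : IrrCharacter G)) ⟨?_, ?_⟩)
    · intro χ χ' h
      exact Subtype.ext (lam_injOn P hM χ₀ hPp hG hD χ χ' χ.2 χ'.2 h)
    · intro ξ
      obtain ⟨χ, hχ, hl⟩ := hsurj ξ
      exact ⟨⟨χ, hχ⟩, hl⟩

end PC

end Cfsg.Agent.Lib.H23.PCP
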