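import Mathlib
import Cfsg.Prelude.Def_Blocks
import Cfsg.Prelude.Def_BlockRank
import Cfsg.Agent.Lib.H23.PCPBlock

/-!
# Blocks with a central defect group have `p`-regular rank one (helper23)
-/

set_option autoImplicit false

namespace Cfsg.Agent.Lib.H23.PCP

open Cfsg MonoidAlgebra Cfsg.Agent.Lib.H23 Cfsg.Agent.Lib.H24 Cfsg.Agent.Lib.L0
open scoped ComplexConjugate

variable {G : Type*} [Group G] [Fintype G] {p : ℕ} [Fact p.Prime] {M : Ideal AlgInt}

/-- If `G = P C_G(P)`, `P` commutative, is a defect group of `B`, then all members of `B` agree on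
`p`-regular elements. -/
theorem pRegularPart_eq_of_comm (hM : IsPModular p M) (χ₀ : IrrCharacter G) (P : Subgroup G)
    (hG : P ⊔ Subgroup.centralizer (P : Set G) = ⊤)
    (hcomm : ∀ a b : P, a * b = b * a)
    (hD : IsDefectGroup p M (blockOf M (χ₀ : G → ℂ)) P) :
    ∃ ψ ∈ blockOf M (χ₀ : G → ℂ), ∀ χ ∈ blockOf M (χ₀ : G → ℂ),
      pRegularPart p (χ : G → ℂ) = pRegularPart p (ψ : G → ℂ) := by
  classical
  haveI hPr := isPrime_of_isPModular hM
  haveI : Fintype P := Fintype.ofFinite P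
  haveI : P.Normal := normal_of_sup_eq_top P hG
  have hPp : IsPGroup p P := IsPGroup.of_card (card_defectGroup hM χ₀ P hD)
  obtain ⟨ψ, hψ, h0⟩ := Cfsg.Agent.Lib.L0.BlockHeight.exists_height_zero (p := p) (M := M) χ₀
  refine ⟨ψ, hψ, fun χ hχ => ?_⟩
  obtain ⟨h1, -⟩ := apply_pRegular_eq P hM χ₀ hPp hG hD ψ hψ h0 χ hχ
  funext g
  unfold pRegularPart
  by_cases hg : IsPRegular p g
  · rw [if_pos hg, if_pos hg, h1 g hg, Cfsg.Agent.Lib.H24.irr_apply_one_of_comm hcomm, one_mul]
  · rw [if_neg hg, if_neg hg]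

/-- **S4669**. -/
theorem blockRank_eq_one_of_central (hM : IsPModular p M) (χ₀ : IrrCharacter G) (P : Subgroup G)
    (hD : IsDefectGroup p M (blockOf M (χ₀ : G → ℂ)) P) (hPZ : P ≤ Subgroup.center G) :
    blockRank p (blockOf M (χ₀ : G → ℂ)) = 1 := by
  classical
  have hp : p.Prime := Fact.out
  have hC : Subgroup.centralizer (P : Set G) = ⊤ := by
    rw [eq_top_iff]
    intro g _
    rw [Subgroup.mem_centralizer_iff]
    intro u hu
    exact (Subgroup.mem_center_iff.1 (hPZ hu) g).symm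
  have hG : P ⊔ Subgroup.centralizer (P : Set G) = ⊤ := by rw [hC]; simp
  have hcomm : ∀ a b : P, a * b = b * a := by
    intro a b
    apply Subtype.ext
    exact (Subgroup.mem_center_iff.1 (hPZ b.2) a)
  obtain ⟨ψ, hψ, hall⟩ := pRegularPart_eq_of_comm hM χ₀ P hG hcomm hD
  have himg : (fun χ : IrrCharacter G => pRegularPart p (χ : G → ℂ)) '' blockOf M (χ₀ : G → ℂ) =
      {pRegularPart p (ψ : G → ℂ)} := by
    ext f
    constructor
    · rintro ⟨χ, hχ, rfl⟩
      exact hall χ hχ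
    · intro hf
      rw [Set.mem_singleton_iff] at hf
      exact ⟨ψ, hψ, hf.symm⟩
  rw [blockRank, himg]
  apply finrank_span_singleton
  intro h0
  have h1 := congrFun h0 1
  unfold pRegularPart at h1
  rw [if_pos (by
    show ¬ p ∣ orderOf (1 : G)
    rw [orderOf_one]; exact fun h => hp.one_lt.ne' (Nat.dvd_one.1 h))] at h1
  exact irr_one_ne_zero ψ h1

end Cfsg.Agent.Lib.H23.PCP
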