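import Cfsg.Agent.Lib.H23.ContribX

/-!
# Brauer's bound for heights in terms of the inertial index (helper23)

`RootHyp.pow_add_le`: if `|Z(D)| = p^c`, `χ ∈ B` has height `h`, `B` has defect `d` and `T` is the
inertial group of the root `b`, then `p^(c + h) ≤ p^d |T : H ∩ T|`.
-/

set_option autoImplicit false

namespace Cfsg.Agent.Lib.H23.Contrib

open Cfsg MonoidAlgebra Cfsg.Agent.Lib.H23 Cfsg.Agent.Lib.H24 Cfsg.Agent.Lib.L0
open scoped ComplexConjugate

variable {G : Type*} [Group G]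

/-- The centre of `D` as a subgroup of `G`. -/
def centerMap (D : Subgroup G) : Subgroup G := (Subgroup.center D).map D.subtype

theorem inCenter_of_mem_centerMap {D : Subgroup G} {z : G} (hz : z ∈ centerMap D) :
    InCenter D z := by
  obtain ⟨x, hx, rfl⟩ := hz
  refine ⟨x.2, fun y hy => ?_⟩
  have := Subgroup.mem_center_iff.1 hx ⟨y, hy⟩
  exact congrArg Subtype.val this

theorem card_centerMap (D : Subgroup G) : Nat.card (centerMap D) = Nat.card (Subgroup.center D) :=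
  Subgroup.card_map_of_injective D.subtype_injective

variable [Fintype G] {p : ℕ} [Fact p.Prime] {M : Ideal AlgInt}
  {D H : Subgroup G} {θ₀ : IrrCharacter H} {χ₁ : IrrCharacter G} [Fintype (IrrCharacter G)]

namespace RootHyp

variable (R : RootHyp p M D H θ₀ χ₁)
include R

theorem pow_add_le (T : Subgroup G)
    (hT : ∀ g : G, g ∈ T ↔ (g ∈ Subgroup.normalizer (D : Set G) ∧
      ∀ θ ∈ blockOf M (θ₀ : H → ℂ), ∀ θ' : IrrCharacter H,
        (∀ h h' : H, (h' : G) = g * h * g⁻¹ → (θ' : H → ℂ) h' = (θ : H → ℂ) h) →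
          θ' ∈ blockOf M (θ₀ : H → ℂ)))
    {χ : IrrCharacter G} (hχ : χ ∈ blockOf M (χ₁ : G → ℂ)) (c : ℕ)
    (hc : Nat.card (Subgroup.center D) = p ^ c) :
    p ^ (c + blockHeight p (blockOf M (χ₁ : G → ℂ)) (χ : G → ℂ)) ≤
      p ^ blockDefect p (blockOf M (χ₁ : G → ℂ)) * H.relIndex T := by
  classical
  have hp : p.Prime := Fact.out
  have hpR : (0 : ℝ) < p := by exact_mod_cast hp.pos
  set Z := centerMap D with hZdef
  haveI : Fintype Z := Fintype.ofFinite Z
  set m := Nat.card G with hm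
  haveI : NeZero m := ⟨Nat.card_pos.ne'⟩
  set mm : G → ℝ := fun z => ∑ ψ : IrrCharacter G,
    ‖secVec p M H θ₀ z (χ : G → ℂ) (ψ : G → ℂ)‖ ^ 2 with hmm
  set S : ℝ := ∑ z : Z, mm z with hS
  set h := blockHeight p (blockOf M (χ₁ : G → ℂ)) (χ : G → ℂ) with hh
  set d := blockDefect p (blockOf M (χ₁ : G → ℂ)) with hd
  -- lower bound
  have hlow : (p : ℝ) ^ c * (p : ℝ) ^ h ≤ (p : ℝ) ^ d * S := by
    have h1 : ∀ z : Z, (Fintype.card (ZMod m)ˣ : ℝ) * (p : ℝ) ^ h ≤
        ∑ k : (ZMod m)ˣ, (p : ℝ) ^ d * mm ((z : G) ^ (k : ZMod m).val) := fun z =>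
      R.card_units_mul_pow_le (inCenter_of_mem_centerMap z.2) hχ m rfl
    have h2 := Finset.sum_le_sum fun (z : Z) (_ : z ∈ Finset.univ) => h1 z
    rw [Finset.sum_const, Finset.card_univ, nsmul_eq_mul, Finset.sum_comm] at h2
    have h3 : ∀ k : (ZMod m)ˣ, ∑ z : Z, (p : ℝ) ^ d * mm ((z : G) ^ (k : ZMod m).val) =
        (p : ℝ) ^ d * S := by
      intro k
      rw [← Finset.mul_sum]
      congr 1
      have hcop : (Nat.card Z).Coprime (k : ZMod m).val := by
        have h4 : ((k : ZMod m).val).Coprime m := ZMod.val_coe_unit_coprime k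
        have h5 : Nat.card Z ∣ m := Subgroup.card_subgroup_dvd_card Z
        exact (Nat.Coprime.coprime_dvd_right h5 h4).symm
      exact Fintype.sum_equiv (powCoprime hcop) _ _ (fun z => rfl)
    rw [Finset.sum_congr rfl (fun k _ => h3 k), Finset.sum_const, Finset.card_univ,
      nsmul_eq_mul] at h2
    have hφ : 0 < (Fintype.card (ZMod m)ˣ : ℝ) := Nat.cast_pos.2 Fintype.card_pos
    have hZ : (Fintype.card Z : ℝ) = (p : ℝ) ^ c := by
      rw [← Nat.card_eq_fintype_card, card_centerMap, hc]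
      push_cast
      rfl
    rw [hZ] at h2
    have h6 : (Fintype.card (ZMod m)ˣ : ℝ) * ((p : ℝ) ^ c * (p : ℝ) ^ h) ≤
        (Fintype.card (ZMod m)ˣ : ℝ) * ((p : ℝ) ^ d * S) := by
      calc (Fintype.card (ZMod m)ˣ : ℝ) * ((p : ℝ) ^ c * (p : ℝ) ^ h)
          = (p : ℝ) ^ c * ((Fintype.card (ZMod m)ˣ : ℝ) * (p : ℝ) ^ h) := by ring
        _ ≤ _ := h2
    exact le_of_mul_le_mul_left h6 hφ
  -- upper bound
  have hup : S ^ 2 ≤ (H.relIndex T : ℝ) * S := by
    refine sq_sum_le_of_inner (fun (z : Z) (ψ : IrrCharacter G) =>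
        secVec p M H θ₀ (z : G) (χ : G → ℂ) (ψ : G → ℂ)) χ (fun z : Z => mm z) (fun z => rfl)
      (fun z => R.secVec_self (inCenter_of_mem_centerMap z.2) χ)
      (fun z => Finset.univ.filter (fun z' : Z => ∃ t ∈ T, t * (z' : G) * t⁻¹ = (z : G)))
      (H.relIndex T) (fun z => card_filter_conj_le_relIndex T H Z
        (fun z hz => (inCenter_of_mem_centerMap hz).le_centralizer R.hH) (z : G)) ?_
    intro z z'
    rcases R.secVec_inner T hT (inCenter_of_mem_centerMap z.2) (inCenter_of_mem_centerMap z'.2) χ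
      with h0 | ⟨h1, h2⟩
    · left; exact h0
    · right
      refine ⟨h1, ?_⟩
      rw [Finset.mem_filter]
      exact ⟨Finset.mem_univ _, h2⟩
  -- conclusion
  have hpc : 0 < (p : ℝ) ^ c * (p : ℝ) ^ h := by positivity
  have hpd : 0 < (p : ℝ) ^ d := by positivity
  have hSpos : 0 < S := by
    by_contra hS
    have : (p : ℝ) ^ d * S ≤ 0 := mul_nonpos_of_nonneg_of_nonpos hpd.le (not_lt.1 hS)
    linarith
  have hSe : S ≤ (H.relIndex T : ℝ) := by
    rw [sq] at hup
    exact le_of_mul_le_mul_right hup hSpos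
  have hfin : (p : ℝ) ^ (c + h) ≤ (p : ℝ) ^ d * (H.relIndex T : ℝ) := by
    rw [pow_add]
    exact hlow.trans (mul_le_mul_of_nonneg_left hSe hpd.le)
  exact_mod_cast hfin

end RootHyp

end Cfsg.Agent.Lib.H23.Contrib
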