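import Cfsg.Agent.Lib.H23.ContribJ

/-!
# Brauer's inequality `k(B)² ≤ p^{2d} l(b)` (helper23)

`card_sq_le_pow_mul_blockRank`: if all characters of `B` have height zero and `b` is a block of
`C_G(y)` (`y` a `p`-element) inducing `B`, of defect `d`, then `k(B)² ≤ p^{2d} l(b)`.
-/

set_option autoImplicit false

namespace Cfsg.Agent.Lib.H23.Contrib

open Cfsg MonoidAlgebra Cfsg.Agent.Lib.H23 Cfsg.Agent.Lib.H24 Cfsg.Agent.Lib.L0
open scoped ComplexConjugate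

theorem card_sq_le_pow_mul_blockRank {G : Type*} [Group G] [Finite G] (p : ℕ) [Fact p.Prime]
    (M : Ideal AlgInt) (hM : IsPModular p M) (B : Set (IrrCharacter G))
    (hh : ∀ χ ∈ B, blockHeight p B (χ : G → ℂ) = 0) (y : G) (hy : ∃ k : ℕ, orderOf y = p ^ k)
    (b : Set (IrrCharacter ↥(Subgroup.centralizer ({y} : Set G))))
    (hind : IsInducedBlock M (Subgroup.centralizer ({y} : Set G)) b B) :
    Nat.card B ^ 2 ≤ p ^ (2 * blockDefect p b) * blockRank p b := by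
  classical
  haveI := Fintype.ofFinite G
  haveI := Fintype.ofFinite (IrrCharacter G)
  set H : Subgroup G := Subgroup.centralizer ({y} : Set G) with hH
  haveI : Fintype H := Fintype.ofFinite H
  haveI : Fintype (IrrCharacter H) := Fintype.ofFinite _
  have hp : p.Prime := Fact.out
  obtain ⟨ξ₁, hξ₁⟩ := hind.1
  subst hξ₁
  set d := blockDefect p (blockOf M (ξ₁ : H → ℂ)) with hd
  -- the central element
  have hyH : y ∈ H := Subgroup.mem_centralizer_singleton_iff.2 rfl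
  set yH : H := ⟨y, hyH⟩ with hyHdef
  have hyc : yH ∈ Subgroup.center H := by
    rw [Subgroup.mem_center_iff]
    intro g
    apply Subtype.ext
    simp only [Subgroup.coe_mul, hyHdef]
    exact Subgroup.mem_centralizer_singleton_iff.1 g.2
  have hyord : ∃ k : ℕ, orderOf yH = p ^ k := by
    obtain ⟨k, hk⟩ := hy
    exact ⟨k, by rw [← hk, ← Subgroup.orderOf_coe]⟩
  set m := Nat.card G with hm
  haveI : NeZero m := ⟨Nat.card_pos.ne'⟩
  -- data for the powers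
  have hpowc : ∀ k : (ZMod m)ˣ, yH ^ (k : ZMod m).val ∈ Subgroup.center H :=
    fun k => Subgroup.pow_mem _ hyc _
  have hpowo : ∀ k : (ZMod m)ˣ, ∃ j : ℕ, orderOf (yH ^ (k : ZMod m).val) = p ^ j := by
    intro k
    obtain ⟨j, hj⟩ := hyord
    have : orderOf (yH ^ (k : ZMod m).val) ∣ p ^ j := hj ▸ orderOf_pow_dvd _
    obtain ⟨i, -, hi⟩ := (Nat.dvd_prime_pow hp).1 this
    exact ⟨i, hi⟩
  have hpowC : ∀ k : (ZMod m)ˣ, ∀ g : G,
      g * ((yH ^ (k : ZMod m).val : H) : G) * g⁻¹ = ((yH ^ (k : ZMod m).val : H) : G) → g ∈ H := by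
    intro k g hg
    have hcop : ((k : ZMod m).val).Coprime (orderOf y) :=
      Nat.Coprime.coprime_dvd_right (orderOf_dvd_natCard y) (ZMod.val_coe_unit_coprime k)
    rw [hH, ← centralizer_pow_of_coprime y hcop, Subgroup.mem_centralizer_singleton_iff]
    have h1 : ((yH ^ (k : ZMod m).val : H) : G) = y ^ (k : ZMod m).val := by
      rw [Subgroup.coe_pow]
    rw [h1] at hg
    exact mul_inv_eq_iff_eq_mul.1 hg
  -- the sum of squares for each power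
  have hA : ∀ k : (ZMod m)ˣ, ∑ χ : IrrCharacter G, ∑ ψ : IrrCharacter G,
      ‖contrib p H (blockOf M (ξ₁ : H → ℂ)) (yH ^ (k : ZMod m).val) (χ : G → ℂ) (ψ : G → ℂ)‖ ^ 2 =
      (blockRank p (blockOf M (ξ₁ : H → ℂ)) : ℝ) :=
    fun k => sum_normSq_contrib H _ _ hM (hpowc k) (hpowo k) (hpowC k) ξ₁ rfl
  -- the lower bound for pairs in `B`
  have hBd : ∀ χ ψ : IrrCharacter G, χ ∈ B → ψ ∈ B →
      (Fintype.card (ZMod m)ˣ : ℝ) ≤ ∑ k : (ZMod m)ˣ, ((p : ℝ) ^ d) ^ 2 *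
        ‖contrib p H (blockOf M (ξ₁ : H → ℂ)) (yH ^ (k : ZMod m).val) (χ : G → ℂ) (ψ : G → ℂ)‖ ^ 2 := by
    intro χ ψ hχ hψ
    have h := card_units_le_sum_contrib hM H ξ₁ hind yH hyc hyord hχ hψ (hh χ hχ) (hh ψ hψ) m hm
    refine h.trans (le_of_eq ?_)
    refine Finset.sum_congr rfl fun k _ => ?_
    rw [norm_mul, mul_pow, norm_pow, Complex.norm_natCast]
  set φ : ℝ := (Fintype.card (ZMod m)ˣ : ℝ) with hφ
  have hφpos : 0 < φ := by
    rw [hφ]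
    exact_mod_cast Fintype.card_pos
  set S : Finset (IrrCharacter G) := Finset.univ.filter (· ∈ B) with hS
  have hcardB : Nat.card B = S.card := by
    rw [Nat.card_eq_fintype_card, hS, Fintype.card_subtype]
  -- sum over pairs in `B`
  have h1 : (S.card : ℝ) ^ 2 * φ ≤ ∑ χ ∈ S, ∑ ψ ∈ S, ∑ k : (ZMod m)ˣ, ((p : ℝ) ^ d) ^ 2 *
      ‖contrib p H (blockOf M (ξ₁ : H → ℂ)) (yH ^ (k : ZMod m).val) (χ : G → ℂ) (ψ : G → ℂ)‖ ^ 2 := by
    have : (S.card : ℝ) ^ 2 * φ = ∑ χ ∈ S, ∑ ψ ∈ S, φ := by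
      rw [Finset.sum_const, Finset.sum_const, nsmul_eq_mul, nsmul_eq_mul]
      ring
    rw [this]
    refine Finset.sum_le_sum fun χ hχ => Finset.sum_le_sum fun ψ hψ => ?_
    exact hBd χ ψ (Finset.mem_filter.1 hχ).2 (Finset.mem_filter.1 hψ).2
  have h2 : ∑ χ ∈ S, ∑ ψ ∈ S, ∑ k : (ZMod m)ˣ, ((p : ℝ) ^ d) ^ 2 *
      ‖contrib p H (blockOf M (ξ₁ : H → ℂ)) (yH ^ (k : ZMod m).val) (χ : G → ℂ) (ψ : G → ℂ)‖ ^ 2 ≤
      ∑ χ : IrrCharacter G, ∑ ψ : IrrCharacter G, ∑ k : (ZMod m)ˣ, ((p : ℝ) ^ d) ^ 2 *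
      ‖contrib p H (blockOf M (ξ₁ : H → ℂ)) (yH ^ (k : ZMod m).val) (χ : G → ℂ) (ψ : G → ℂ)‖ ^ 2 := by
    refine (Finset.sum_le_sum fun χ _ => Finset.sum_le_sum_of_subset_of_nonneg (Finset.subset_univ S)
      fun ψ _ _ => Finset.sum_nonneg fun k _ => by positivity).trans ?_
    exact Finset.sum_le_sum_of_subset_of_nonneg (Finset.subset_univ S)
      fun χ _ _ => Finset.sum_nonneg fun ψ _ => Finset.sum_nonneg fun k _ => by positivity
  have h3 : ∑ χ : IrrCharacter G, ∑ ψ : IrrCharacter G, ∑ k : (ZMod m)ˣ, ((p : ℝ) ^ d) ^ 2 *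
      ‖contrib p H (blockOf M (ξ₁ : H → ℂ)) (yH ^ (k : ZMod m).val) (χ : G → ℂ) (ψ : G → ℂ)‖ ^ 2 =
      φ * (((p : ℝ) ^ d) ^ 2 * (blockRank p (blockOf M (ξ₁ : H → ℂ)) : ℝ)) := by
    have e1 : ∑ χ : IrrCharacter G, ∑ ψ : IrrCharacter G, ∑ k : (ZMod m)ˣ, ((p : ℝ) ^ d) ^ 2 *
        ‖contrib p H (blockOf M (ξ₁ : H → ℂ)) (yH ^ (k : ZMod m).val) (χ : G → ℂ) (ψ : G → ℂ)‖ ^ 2 =
        ∑ k : (ZMod m)ˣ, ((p : ℝ) ^ d) ^ 2 * ∑ χ : IrrCharacter G, ∑ ψ : IrrCharacter G,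
        ‖contrib p H (blockOf M (ξ₁ : H → ℂ)) (yH ^ (k : ZMod m).val) (χ : G → ℂ) (ψ : G → ℂ)‖ ^ 2 := by
      rw [Finset.sum_comm]
      have : ∀ χ : IrrCharacter G, ∑ ψ : IrrCharacter G, ∑ k : (ZMod m)ˣ, ((p : ℝ) ^ d) ^ 2 *
        ‖contrib p H (blockOf M (ξ₁ : H → ℂ)) (yH ^ (k : ZMod m).val) (χ : G → ℂ) (ψ : G → ℂ)‖ ^ 2 =
        ∑ k : (ZMod m)ˣ, ∑ ψ : IrrCharacter G, ((p : ℝ) ^ d) ^ 2 *
        ‖contrib p H (blockOf M (ξ₁ : H → ℂ)) (yH ^ (k : ZMod m).val) (χ : G → ℂ) (ψ : G → ℂ)‖ ^ 2 :=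
        fun χ => Finset.sum_comm
      rw [← Finset.sum_comm]
      simp only [this]
      rw [Finset.sum_comm]
      refine Finset.sum_congr rfl fun k _ => ?_
      rw [Finset.mul_sum]
      refine Finset.sum_congr rfl fun χ _ => ?_
      rw [Finset.mul_sum]
    rw [e1]
    simp only [hA]
    rw [Finset.sum_const, Finset.card_univ, nsmul_eq_mul]
  have h4 : (S.card : ℝ) ^ 2 * φ ≤
      φ * (((p : ℝ) ^ d) ^ 2 * (blockRank p (blockOf M (ξ₁ : H → ℂ)) : ℝ)) := by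
    rw [← h3]
    exact h1.trans h2
  have h5 : (S.card : ℝ) ^ 2 ≤ ((p : ℝ) ^ d) ^ 2 * (blockRank p (blockOf M (ξ₁ : H → ℂ)) : ℝ) := by
    rw [mul_comm] at h4
    exact le_of_mul_le_mul_left h4 hφpos
  rw [hcardB]
  have h6 : ((S.card ^ 2 : ℕ) : ℝ) ≤
      ((p ^ (2 * d) * blockRank p (blockOf M (ξ₁ : H → ℂ)) : ℕ) : ℝ) := by
    push_cast
    have hpd : ((p : ℝ) ^ (2 * d)) = ((p : ℝ) ^ d) ^ 2 := by rw [← pow_mul, mul_comm]
    rw [hpd]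
    exact h5
  exact_mod_cast h6

end Cfsg.Agent.Lib.H23.Contrib
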