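import Mathlib
import Cfsg.Prelude.Def_Blocks
import Cfsg.Prelude.Def_BlockRank
import Cfsg.Agent.S4715
import Cfsg.Agent.S4716
import Cfsg.Agent.Lib.H23.PCPRank
import Cfsg.Agent.Lib.H23.BlockDefect

/-!
# S4645 pieces (E2), (E3): the cores in general form (helper23)

* `height_zero_of_inertial_one`: a block with an abelian defect group and inertial index one has
  only characters of height zero (S4715 with `n = 0`, `c = d`);
* `card_le_pow_of_major_central`: a block `f` of defect `d` with all heights zero and a major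
  subsection `(y, b)` such that `b` has a central defect group has at most `p ^ d` characters
  (S4716 and `PCP.blockRank_eq_one_of_central`).
-/

set_option autoImplicit false

namespace Cfsg.Agent.Lib.H23.CY

open Cfsg

/-- (E2 core) abelian defect group and inertial index one: all heights are zero. -/
theorem height_zero_of_inertial_one {K : Type*} [Group K] [Finite K] (p : ℕ) [Fact p.Prime]
    (M : Ideal Cfsg.AlgInt) (hM : Cfsg.IsPModular p M) (f : Set (Cfsg.IrrCharacter K))
    (hf : Cfsg.IsPBlock M f) (D : Subgroup K) (hfD : Cfsg.IsDefectGroup p M f D)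
    (hDab : ∀ x ∈ D, ∀ y ∈ D, x * y = y * x) (H : Subgroup K)
    (hH : H = D ⊔ Subgroup.centralizer (D : Set K)) (b : Set (Cfsg.IrrCharacter H))
    (hind : Cfsg.IsInducedBlock M H b f) (T : Subgroup K)
    (hT : ∀ g : K, g ∈ T ↔ (g ∈ Subgroup.normalizer (D : Set K) ∧ ∀ θ ∈ b,
      ∀ θ' : Cfsg.IrrCharacter H,
        (∀ h h' : H, (h' : K) = g * h * g⁻¹ → (θ' : H → ℂ) h' = (θ : H → ℂ) h) → θ' ∈ b))
    (he : H.relIndex T = 1) : ∀ χ ∈ f, Cfsg.blockHeight p f (χ : K → ℂ) = 0 := by
  classical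
  let _ : Fintype K := Fintype.ofFinite K
  have hp : p.Prime := Fact.out
  obtain ⟨χ₀, rfl⟩ := hf
  have hDd := Cfsg.Agent.Lib.H23.card_defectGroup hM χ₀ D hfD
  have hcen : Subgroup.center D = ⊤ := by
    rw [eq_top_iff]
    intro z _
    rw [Subgroup.mem_center_iff]
    intro g
    apply Subtype.ext
    exact hDab g g.2 z z.2
  have hc : Nat.card (Subgroup.center D) =
      p ^ Cfsg.blockDefect p (Cfsg.blockOf M (χ₀ : K → ℂ)) := by
    rw [hcen, Subgroup.card_top, hDd]
  intro χ hχ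
  have h1 := Cfsg.Agent.S4715.result p M hM _ ⟨χ₀, rfl⟩ D hfD _ hDd H hH b hind T hT 1 he 0
    ⟨by simp, by simpa using hp.one_lt⟩ _ hc χ hχ
  omega

/-- (E3 core) all heights zero and a major subsection with central defect group:
`k(f) ≤ p ^ d`. -/
theorem card_le_pow_of_major_central {K : Type*} [Group K] [Finite K] (p : ℕ) [Fact p.Prime]
    (M : Ideal Cfsg.AlgInt) (hM : Cfsg.IsPModular p M) (f : Set (Cfsg.IrrCharacter K))
    (hf : Cfsg.IsPBlock M f) (d : ℕ) (hd : Cfsg.blockDefect p f = d)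
    (hh : ∀ χ ∈ f, Cfsg.blockHeight p f (χ : K → ℂ) = 0) (y : K)
    (hy : ∃ k : ℕ, orderOf y = p ^ k)
    (b : Set (Cfsg.IrrCharacter ↥(Subgroup.centralizer ({y} : Set K))))
    (hind : Cfsg.IsInducedBlock M (Subgroup.centralizer ({y} : Set K)) b f)
    (hbd : Cfsg.blockDefect p b = d)
    (D : Subgroup ↥(Subgroup.centralizer ({y} : Set K))) (hD : Cfsg.IsDefectGroup p M b D)
    (hDZ : D ≤ Subgroup.center ↥(Subgroup.centralizer ({y} : Set K))) :
    Nat.card f ≤ p ^ d := by
  classical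
  let _ : Fintype ↥(Subgroup.centralizer ({y} : Set K)) := Fintype.ofFinite _
  obtain ⟨θ₀, hθ₀⟩ := hind.1
  have hrank : Cfsg.blockRank p b = 1 := by
    rw [hθ₀]
    exact Cfsg.Agent.Lib.H23.PCP.blockRank_eq_one_of_central hM θ₀ D (hθ₀ ▸ hD) hDZ
  have h1 := Cfsg.Agent.S4716.result p M hM f hf d hd hh y hy b hind hbd
  rw [hrank, mul_one, mul_comm 2 d, pow_mul] at h1
  exact (Nat.pow_le_pow_iff_left (by norm_num : (2 : ℕ) ≠ 0)).1 h1

end Cfsg.Agent.Lib.H23.CY
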