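import Cfsg.Agent.Lib.H23.ContribD
import Cfsg.Agent.Lib.H23.CharGalois

/-!
# Galois conjugates of contributions (helper23)

* `sum_regular_pow_reindex`;
* `exists_cyc_irr`;
* `exists_cyc_contrib`: the numbers `c · contrib(y^k)`, `k ∈ (ℤ/m)ˣ`, are the Galois conjugates of a
  single element of the `m`-th cyclotomic field (`m = |G|`).
-/

set_option autoImplicit false

namespace Cfsg.Agent.Lib.H23.Contrib

open Cfsg MonoidAlgebra Cfsg.Agent.Lib.H23 Cfsg.Agent.Lib.H24 Cfsg.Agent.Lib.L0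
open scoped ComplexConjugate

theorem exists_cyc_irr {K : Type*} [Group K] (m : ℕ) [NeZero m] (χ : IrrCharacter K) (g : K)
    (hg : g ^ m = 1) :
    ∃ x : CyclotomicField m ℚ, ∀ σ : Gal(CyclotomicField m ℚ/ℚ),
      cycEmb m (σ x) = (χ : K → ℂ) (g ^ (cycPow m σ).val) := by
  obtain ⟨n, ρ, -, hρ⟩ := χ.2
  obtain ⟨x, hx⟩ := exists_cyc_char m ρ g hg
  exact ⟨x, fun σ => by rw [hx σ, hρ]⟩

theorem cycPow_val_coprime (m : ℕ) [NeZero m] (σ : Gal(CyclotomicField m ℚ/ℚ)) :
    Nat.Coprime (cycPow m σ).val m :=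
  ZMod.val_coe_unit_coprime _

/-- Reindexing the sum over `p`-regular elements by the power map. -/
theorem sum_regular_pow_reindex {K : Type*} [Group K] [Fintype K] (p : ℕ) {k : ℕ}
    (hk : (Nat.card K).Coprime k) {y : K} (hy : y ∈ Subgroup.center K) (f : K → ℂ) :
    ∑ s : K, (if p ∣ orderOf s then 0 else f (y ^ k * s)) =
      ∑ t : K, (if p ∣ orderOf t then 0 else f ((y * t) ^ k)) := by
  symm
  refine Fintype.sum_equiv (powCoprime hk) _ _ fun t => ?_
  have h1 : powCoprime hk t = t ^ k := rfl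
  have h2 : orderOf (t ^ k) = orderOf t := by
    apply Nat.Coprime.orderOf_pow
    exact Nat.Coprime.coprime_dvd_left (orderOf_dvd_natCard t) hk
  have h3 : (y * t) ^ k = y ^ k * t ^ k :=
    (show Commute y t from (Subgroup.mem_center_iff.1 hy t).symm).mul_pow k
  rw [h1, h2, h3]

variable {G : Type*} [Group G] [Fintype G] {p : ℕ}

theorem exists_cyc_contrib [Fintype (IrrCharacter G)] (H : Subgroup G) [Fintype H]
    [Fintype (IrrCharacter H)] (b : Set (IrrCharacter H)) [DecidablePred (· ∈ b)] (y : H)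
    (hyc : y ∈ Subgroup.center H) (χ ψ : IrrCharacter G) (c : ℚ) (m : ℕ) [NeZero m]
    (hm : m = Nat.card G) :
    ∃ x : CyclotomicField m ℚ, ∀ σ : Gal(CyclotomicField m ℚ/ℚ),
      cycEmb m (σ x) =
        (c : ℂ) * contrib p H b (y ^ (cycPow m σ).val) (χ : G → ℂ) (ψ : G → ℂ) := by
  classical
  have hHm : ∀ h : H, h ^ m = 1 := by
    intro h
    rw [hm]
    have : Nat.card H ∣ Nat.card G := Subgroup.card_subgroup_dvd_card H
    obtain ⟨q, hq⟩ := this
    rw [hq, pow_mul, pow_card_eq_one', one_pow]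
  have hGm : ∀ g : G, g ^ m = 1 := by
    intro g
    rw [hm, pow_card_eq_one']
  -- elements for `ξ((y t)^k)`
  have h1 : ∀ (ξ : IrrCharacter H) (t : H), ∃ x : CyclotomicField m ℚ,
      ∀ σ : Gal(CyclotomicField m ℚ/ℚ),
      cycEmb m (σ x) = (ξ : H → ℂ) ((y * t) ^ (cycPow m σ).val) :=
    fun ξ t => exists_cyc_irr m ξ (y * t) (hHm _)
  choose X hX using h1
  have h2 : ∀ t : H, ∃ x : CyclotomicField m ℚ,
      ∀ σ : Gal(CyclotomicField m ℚ/ℚ),
      cycEmb m (σ x) = (ψ : G → ℂ) ((((y * t : H) : G))⁻¹ ^ (cycPow m σ).val) :=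
    fun t => exists_cyc_irr m ψ _ (hGm _)
  choose X' hX' using h2
  have h3 : ∀ ξ : IrrCharacter H, ∃ n : ℕ, resMult H (χ : G → ℂ) (ξ : H → ℂ) = n :=
    fun ξ => resMult_nat H χ ξ
  choose nn hnn using h3
  refine ⟨algebraMap ℚ (CyclotomicField m ℚ) (c * (Nat.card H : ℚ)⁻¹) *
    ∑ t : H, (if p ∣ orderOf t then 0 else
      (∑ ξ : IrrCharacter H, (if ξ ∈ b then X ξ t * (nn ξ : CyclotomicField m ℚ) else 0)) *
        X' t), ?_⟩
  intro σ
  have hcop : (Nat.card H).Coprime (cycPow m σ).val := by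
    have h := cycPow_val_coprime m σ
    have hdvd : Nat.card H ∣ m := hm ▸ Subgroup.card_subgroup_dvd_card H
    exact (Nat.Coprime.coprime_dvd_right hdvd h).symm
  rw [map_mul, map_mul, AlgEquiv.commutes, AlgHom.commutes, map_sum, map_sum]
  unfold contrib
  rw [sum_regular_pow_reindex p hcop hyc
    (fun u => bpart H b (χ : G → ℂ) u * conj ((ψ : G → ℂ) ((u : H) : G)))]
  have hc : (algebraMap ℚ ℂ) (c * (Nat.card H : ℚ)⁻¹) = (c : ℂ) * (Nat.card H : ℂ)⁻¹ := by
    simp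
  rw [hc, mul_assoc]
  congr 2
  refine Finset.sum_congr rfl fun t _ => ?_
  by_cases ht : p ∣ orderOf t
  · rw [if_pos ht, if_pos ht, map_zero, map_zero]
  · rw [if_neg ht, if_neg ht, map_mul, map_mul, hX' t σ, bpart_eq_sum, map_sum, map_sum]
    congr 1
    · refine Finset.sum_congr rfl fun ξ _ => ?_
      by_cases hξ : ξ ∈ b
      · rw [if_pos hξ, if_pos hξ, map_mul, map_mul, hX ξ t σ, map_natCast, map_natCast, hnn]
      · rw [if_neg hξ, if_neg hξ, map_zero, map_zero]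
    · rw [← irr_inv, Subgroup.coe_pow, inv_pow]

end Cfsg.Agent.Lib.H23.Contrib
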