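import Mathlib
import Cfsg.Prelude.Def_Characters
import Cfsg.Agent.Lib.H23.CycloNorm

/-!
# S4959 (Robinson–Thompson real-vector criterion `k(GV) ≤ |V|`): common definitions (helper23)

Blueprint: `tools/blueprints/S4959.md`.

* `OInt K θ` : the function `θ` on the finite group `K` is *`O`-integral*: all inner products
  `[θ, η]` with characters `η` of `K` are algebraic integers (for a class function: `θ` is a
  combination of irreducible characters with algebraic-integer coefficients).
* `fixCard ρ h`, `fixCardK ρ K` : number of fixed points of an element / a subgroup on a module.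
* `gaussPsi B ρ h = ∑ w, e_p (B w (ρ h w - w))` : the Gauss-sum class function of a module with an
  invariant bilinear form over `ZMod p` (`e_p = ZMod.stdAddChar`).
* `IsKData p m ρ Y` : the function `Y : H → ℚ(ζ_m)` is a "k(GV)-datum" for the `ZMod p`-module
  `(W, ρ)` : a class function with `|σ Y(h)|² = |W| |C_W(h)|` for all Galois conjugates,
  `Y(h) = |W|` when `h` acts trivially, `Y(h) / |C_W(h)| ∈ (1 - ζ_p) O + p O` otherwise, and
  `Y|_K / |C_W(K)|` is `O`-integral on every subgroup `K`.
* `subRep ρ P hP` : the restriction of a representation to an invariant submodule.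
-/

set_option autoImplicit false

universe u

namespace Cfsg.Agent.Lib.H23.RV

open scoped ComplexConjugate

/-- `θ` is `O`-integral on `K`: every inner product with a character is an algebraic integer. -/
def OInt (K : Type u) [Group K] [Finite K] (θ : K → ℂ) : Prop :=
  ∀ η : K → ℂ, Cfsg.IsCharacter K η →
    IsIntegral ℤ (@Cfsg.classInner K _ (Fintype.ofFinite K) θ η)

/-- `OInt` with respect to any `Fintype` instance. -/
theorem oInt_iff {K : Type u} [Group K] [Fintype K] (θ : K → ℂ) :
    OInt K θ ↔ ∀ η : K → ℂ, Cfsg.IsCharacter K η → IsIntegral ℤ (Cfsg.classInner θ η) := by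
  unfold OInt
  have h : (Fintype.ofFinite K) = (inferInstance : Fintype K) := Subsingleton.elim _ _
  rw [h]

section fix

variable {k : Type*} [CommSemiring k] {H : Type*} [Group H] {W : Type*} [AddCommMonoid W]
  [Module k W]

/-- the number of fixed points of `h` on `W` -/
noncomputable def fixCard (ρ : Representation k H W) (h : H) : ℕ :=
  Nat.card {w : W // ρ h w = w}

/-- the number of common fixed points of the subgroup `K` on `W` -/
noncomputable def fixCardK (ρ : Representation k H W) (K : Subgroup H) : ℕ :=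
  Nat.card {w : W // ∀ g ∈ K, ρ g w = w}

end fix

section sub

variable {k : Type*} [CommRing k] {H : Type*} [Group H] {W : Type*} [AddCommGroup W] [Module k W]

/-- the restriction of a representation to an invariant submodule -/
def subRep (ρ : Representation k H W) (P : Submodule k W) (hP : ∀ g : H, ∀ x ∈ P, ρ g x ∈ P) :
    Representation k H P where
  toFun g := (ρ g).restrict (hP g)
  map_one' := by
    apply LinearMap.ext
    intro x
    apply Subtype.ext
    simp [LinearMap.restrict_apply]
  map_mul' g h := by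
    apply LinearMap.ext
    intro x
    apply Subtype.ext
    simp [LinearMap.restrict_apply]

@[simp] theorem subRep_apply (ρ : Representation k H W) (P : Submodule k W)
    (hP : ∀ g : H, ∀ x ∈ P, ρ g x ∈ P) (g : H) (x : P) :
    ((subRep ρ P hP g x : P) : W) = ρ g (x : W) := rfl

end sub

section gauss

variable {p : ℕ} [NeZero p] {H : Type*} [Group H] {W : Type*} [AddCommGroup W] [Module (ZMod p) W]

/-- The Gauss-sum function `h ↦ ∑_w e_p (B (w, h w - w))` (a `finsum`; `W` is finite in all uses). -/
noncomputable def gaussPsi (B : LinearMap.BilinForm (ZMod p) W) (ρ : Representation (ZMod p) H W)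
    (h : H) : ℂ :=
  ∑ᶠ w : W, (ZMod.stdAddChar (N := p) (B w (ρ h w - w)) : ℂ)

theorem gaussPsi_eq_sum [Fintype W] (B : LinearMap.BilinForm (ZMod p) W)
    (ρ : Representation (ZMod p) H W) (h : H) :
    gaussPsi B ρ h = ∑ w : W, (ZMod.stdAddChar (N := p) (B w (ρ h w - w)) : ℂ) :=
  finsum_eq_sum_of_fintype _

end gauss

/-- `Y : H → ℚ(ζ_m)` is a k(GV)-datum for the `ZMod p`-module `(W, ρ)`. -/
structure IsKData (p m : ℕ) [NeZero m] {H : Type u} [Group H] [Finite H] {W : Type*}
    [AddCommGroup W] [Module (ZMod p) W] (ρ : Representation (ZMod p) H W)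
    (Y : H → CyclotomicField m ℚ) : Prop where
  conj_inv : ∀ h g : H, Y (g * h * g⁻¹) = Y h
  norm_sq : ∀ (σ : Gal(CyclotomicField m ℚ/ℚ)) (h : H),
    ‖cycEmb m (σ (Y h))‖ ^ 2 = (Nat.card W : ℝ) * (fixCard ρ h : ℝ)
  triv : ∀ h : H, ρ h = 1 → cycEmb m (Y h) = (Nat.card W : ℂ)
  div : ∀ h : H, ρ h ≠ 1 → ∃ ζ a b : ℂ, ζ ^ p = 1 ∧ IsIntegral ℤ a ∧ IsIntegral ℤ b ∧
    cycEmb m (Y h) = (fixCard ρ h : ℂ) * ((1 - ζ) * a + (p : ℂ) * b)
  oint : ∀ K : Subgroup H, OInt K (fun g : K => cycEmb m (Y (g : H)) / (fixCardK ρ K : ℂ))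

end Cfsg.Agent.Lib.H23.RV
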