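import Mathlib
import Cfsg.Agent.S3360

/-!
# S4025 piece HUP (architect helper19): Huppert's theorem for the conjugation action on a normal
elementary abelian subgroup
-/

set_option autoImplicit false
set_option linter.style.haveILetI false
set_option linter.unusedSectionVars false

namespace Cfsg.Agent.Lib.H23.EOC

/-- `Q` is abelian. -/
structure HupAb {X : Type*} [Group X] (Q : Subgroup X) : Prop where
  ab : ∀ a ∈ Q, ∀ b ∈ Q, a * b = b * a

/-- `Q` has exponent dividing `p`. -/
structure HupEA {X : Type*} [Group X] (Q : Subgroup X) (p : ℕ) : Prop where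
  exp : ∀ a ∈ Q, a ^ p = 1

section

variable {X : Type*} [Group X] {p : ℕ} [hp : Fact p.Prime] (Q : Subgroup X) [Q.Normal]
  [hAb : Fact (HupAb Q)] [hEA : Fact (HupEA Q p)]

/-- the commutative group structure on `Q` -/
@[reducible] def hupComm : CommGroup ↥Q :=
  { (inferInstance : Group ↥Q) with
    mul_comm := fun a b => Subtype.ext (hAb.out.ab a.1 a.2 b.1 b.2) }

attribute [local instance] hupComm

omit hp [Q.Normal] in
theorem hup_nsmul (v : Additive ↥Q) : p • v = 0 := by
  have h1 : (Additive.toMul v) ^ p = 1 := Subtype.ext (by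
    have := hEA.out.exp (Additive.toMul v).1 (Additive.toMul v).2
    simpa using this)
  have h2 : Additive.ofMul ((Additive.toMul v) ^ p) = p • v := by
    rw [ofMul_pow]; rfl
  rw [← h2, h1]; rfl

/-- the `ZMod p`-module structure on `Additive Q` -/
@[reducible] def hupMod : Module (ZMod p) (Additive ↥Q) :=
  AddCommGroup.zmodModule (hup_nsmul (p := p) Q)

attribute [local instance] hupMod

/-- conjugation by `g` as a linear automorphism -/
def hupConjL (g : X) : Additive ↥Q ≃ₗ[ZMod p] Additive ↥Q :=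
  { (MulEquiv.toAdditive (MulAut.conjNormal g : ↥Q ≃* ↥Q)) with
    map_smul' := fun c v =>
      ZMod.map_smul (MulEquiv.toAdditive (MulAut.conjNormal g : ↥Q ≃* ↥Q)).toAddMonoidHom c v }

theorem hupConjL_apply (g : X) (v : Additive ↥Q) :
    hupConjL (p := p) Q g v = Additive.ofMul (MulAut.conjNormal g (Additive.toMul v)) := rfl

/-- the conjugation representation -/
def hupφ : X →* (Additive ↥Q ≃ₗ[ZMod p] Additive ↥Q) where
  toFun := hupConjL Q
  map_one' := by
    apply LinearEquiv.ext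
    intro v
    rw [hupConjL_apply, map_one]
    rfl
  map_mul' := by
    intro g h
    apply LinearEquiv.ext
    intro v
    rw [LinearEquiv.mul_apply, hupConjL_apply, hupConjL_apply, hupConjL_apply, map_mul]
    rfl

theorem hupφ_apply (g : X) (v : Additive ↥Q) :
    hupφ (p := p) Q g v = Additive.ofMul (MulAut.conjNormal g (Additive.toMul v)) := rfl

theorem hup_ker (K : Subgroup X) (hKQ : ∀ k ∈ K, ∀ a ∈ Q, k * a = a * k) :
    K ≤ (hupφ (p := p) Q).ker := by
  intro k hk
  rw [MonoidHom.mem_ker]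
  apply LinearEquiv.ext
  intro v
  rw [hupφ_apply, LinearEquiv.coe_one, id]
  have : MulAut.conjNormal k (Additive.toMul v) = Additive.toMul v := by
    apply Subtype.ext
    rw [MulAut.conjNormal_apply]
    have := hKQ k hk (Additive.toMul v).1 (Additive.toMul v).2
    rw [this, mul_inv_cancel_right]
  rw [this]
  rfl

/-- the scalars -/
def hupSc : (ZMod p)ˣ →* (Additive ↥Q ≃ₗ[ZMod p] Additive ↥Q) :=
  DistribMulAction.toModuleAut (ZMod p) (Additive ↥Q)

theorem hupSc_apply (c : (ZMod p)ˣ) (v : Additive ↥Q) : hupSc Q c v = (c : ZMod p) • v := rfl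

/-- the product representation of `X ⧸ K × (ZMod p)ˣ` -/
def hupρ (K : Subgroup X) [K.Normal] (hK : K ≤ (hupφ (p := p) Q).ker) :
    (X ⧸ K) × (ZMod p)ˣ →* (Additive ↥Q ≃ₗ[ZMod p] Additive ↥Q) :=
  MonoidHom.noncommCoprod (QuotientGroup.lift K (hupφ Q) hK) (hupSc Q) (by
    intro m c
    apply LinearEquiv.ext
    intro v
    rw [LinearEquiv.mul_apply, LinearEquiv.mul_apply, hupSc_apply, hupSc_apply, map_smul])

theorem hupρ_apply (K : Subgroup X) [K.Normal] (hK : K ≤ (hupφ (p := p) Q).ker)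
    (g : X) (c : (ZMod p)ˣ) (v : Additive ↥Q) :
    hupρ Q K hK ((g : X ⧸ K), c) v = hupφ (p := p) Q g ((c : ZMod p) • v) := rfl

/-- the core statement, with the instances in place -/
theorem hup_core [Finite X] (hQ1 : Q ≠ ⊥)
    (K : Subgroup X) [K.Normal] (hKQ : ∀ k ∈ K, ∀ a ∈ Q, k * a = a * k)
    (hsolv : Group.IsSolvable (X ⧸ K))
    (htr : ∀ A B : Subgroup X, A ≤ Q → B ≤ Q → Nat.card A = p → Nat.card B = p →
      ∃ g : X, B = A.map (MulAut.conj g).toMonoidHom) :
    (∃ (F : Type) (_ : Field F) (_ : Fintype F) (ε : ↥Q ≃ F),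
        (∀ x y : ↥Q, ε (x * y) = ε x + ε y) ∧
        ∀ g : X, ∃ (a : F) (σ : F ≃+* F), ∀ x : ↥Q,
          ε (MulAut.conjNormal g x) = a * σ (ε x)) ∨
    Nat.card Q ∈ ({9, 25, 49, 121, 529, 81} : Set ℕ) := by
  classical
  have hQexp := hEA.out.exp
  haveI : Finite (Additive ↥Q) := inferInstanceAs (Finite ↥Q)
  haveI : Nontrivial (Additive ↥Q) := by
    obtain ⟨a, haQ, ha1⟩ : ∃ a ∈ Q, a ≠ 1 := by
      by_contra hcon
      push Not at hcon
      apply hQ1
      rw [Subgroup.eq_bot_iff_forall]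
      exact hcon
    refine ⟨⟨Additive.ofMul ⟨a, haQ⟩, Additive.ofMul 1, ?_⟩⟩
    intro h
    apply ha1
    have := congrArg Additive.toMul h
    exact congrArg Subtype.val this
  have hK := hup_ker (p := p) Q K hKQ
  set ρ₀ := hupρ Q K hK with hρ₀
  haveI : Finite (X ⧸ K) := inferInstance
  haveI : Finite (ZMod p)ˣ := inferInstance
  haveI hsolvprod : Group.IsSolvable ((X ⧸ K) × (ZMod p)ˣ) := inferInstance
  haveI : Finite ρ₀.range := Finite.of_surjective ρ₀.rangeRestrict ρ₀.rangeRestrict_surjective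
  have hsolG : Group.IsSolvable ρ₀.range :=
    Group.isSolvable_of_surjective ρ₀.rangeRestrict_surjective
  -- transitivity
  have htrans : ∀ v w : Additive ↥Q, v ≠ 0 → w ≠ 0 →
      ∃ g : ρ₀.range, (ρ₀.range.subtype g) v = w := by
    intro v w hv hw
    set a : X := (Additive.toMul v).1 with ha
    set b : X := (Additive.toMul w).1 with hb
    have haQ : a ∈ Q := (Additive.toMul v).2
    have hbQ : b ∈ Q := (Additive.toMul w).2
    have ha1 : a ≠ 1 := by
      intro h
      apply hv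
      have : Additive.toMul v = 1 := Subtype.ext h
      have h2 := congrArg Additive.ofMul this
      simpa using h2
    have hb1 : b ≠ 1 := by
      intro h
      apply hw
      have : Additive.toMul w = 1 := Subtype.ext h
      have h2 := congrArg Additive.ofMul this
      simpa using h2
    have hoa : orderOf a = p := orderOf_eq_prime (hQexp a haQ) ha1
    have hob : orderOf b = p := orderOf_eq_prime (hQexp b hbQ) hb1
    have hcA : Nat.card (Subgroup.zpowers a) = p := by rw [Nat.card_zpowers, hoa]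
    have hcB : Nat.card (Subgroup.zpowers b) = p := by rw [Nat.card_zpowers, hob]
    obtain ⟨g, hg⟩ := htr (Subgroup.zpowers a) (Subgroup.zpowers b)
      (by rw [Subgroup.zpowers_le]; exact haQ) (by rw [Subgroup.zpowers_le]; exact hbQ) hcA hcB
    have hbmem : b ∈ (Subgroup.zpowers a).map (MulAut.conj g).toMonoidHom := by
      rw [← hg]; exact Subgroup.mem_zpowers b
    rw [MonoidHom.map_zpowers] at hbmem
    rw [← mem_powers_iff_mem_zpowers] at hbmem
    obtain ⟨m, hm⟩ := hbmem
    have hm' : (g * a * g⁻¹) ^ m = b := by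
      simpa [MulAut.conj_apply] using hm
    have hm0 : (m : ZMod p) ≠ 0 := by
      intro h0
      apply hb1
      rw [← hm']
      rw [ZMod.natCast_eq_zero_iff] at h0
      obtain ⟨k, rfl⟩ := h0
      rw [pow_mul]
      have : (g * a * g⁻¹) ^ p = 1 := by
        rw [conj_pow, hQexp a haQ, mul_one, mul_inv_cancel]
      rw [this, one_pow]
    refine ⟨⟨ρ₀ ((g : X ⧸ K), (Units.mk0 (m : ZMod p) hm0 : (ZMod p)ˣ)), ⟨_, rfl⟩⟩, ?_⟩
    rw [Subgroup.coe_subtype, hρ₀, hupρ_apply, Units.val_mk0, Nat.cast_smul_eq_nsmul, map_nsmul,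
      hupφ_apply]
    apply Additive.toMul.injective
    apply Subtype.ext
    rw [toMul_nsmul, toMul_ofMul, SubgroupClass.coe_pow, MulAut.conjNormal_apply]
    exact hm'
  have key := Cfsg.Agent.S3360.result p hsolG ρ₀.range.subtype (Subgroup.subtype_injective _) htrans
  rcases key with ⟨F, hF, hFt, e, he⟩ | hcard
  · left
    refine ⟨F, hF, hFt, (Additive.ofMul.trans e.toEquiv), ?_, ?_⟩
    · intro x y
      show e (Additive.ofMul (x * y)) = e (Additive.ofMul x) + e (Additive.ofMul y)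
      rw [ofMul_mul, map_add]
    · intro g
      obtain ⟨a, σ, h⟩ := he ⟨ρ₀ ((g : X ⧸ K), 1), ⟨_, rfl⟩⟩
      refine ⟨a, σ, ?_⟩
      intro x
      have h1 := h (Additive.ofMul x)
      rw [Subgroup.coe_subtype, hρ₀, hupρ_apply, Units.val_one, one_smul, hupφ_apply,
        toMul_ofMul] at h1
      exact h1
  · right
    have : Nat.card (Additive ↥Q) = Nat.card ↥Q := Nat.card_congr Additive.toMul
    rw [← this]
    exact hcard

end

/-- **HUP**. -/
theorem hup {X : Type*} [Group X] [Finite X] {p : ℕ} [Fact p.Prime]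
    (Q : Subgroup X) [Q.Normal] (hQ1 : Q ≠ ⊥)
    (hQab : ∀ a ∈ Q, ∀ b ∈ Q, a * b = b * a) (hQexp : ∀ a ∈ Q, a ^ p = 1)
    (K : Subgroup X) [K.Normal] (hKQ : ∀ k ∈ K, ∀ a ∈ Q, k * a = a * k)
    (hsolv : Group.IsSolvable (X ⧸ K))
    (htr : ∀ A B : Subgroup X, A ≤ Q → B ≤ Q → Nat.card A = p → Nat.card B = p →
      ∃ g : X, B = A.map (MulAut.conj g).toMonoidHom) :
    (∃ (F : Type) (_ : Field F) (_ : Fintype F) (ε : ↥Q ≃ F),
        (∀ x y : ↥Q, ε (x * y) = ε x + ε y) ∧
        ∀ g : X, ∃ (a : F) (σ : F ≃+* F), ∀ x : ↥Q,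
          ε (MulAut.conjNormal g x) = a * σ (ε x)) ∨
    Nat.card Q ∈ ({9, 25, 49, 121, 529, 81} : Set ℕ) := by
  haveI : Fact (HupAb Q) := ⟨⟨hQab⟩⟩
  haveI : Fact (HupEA Q p) := ⟨⟨hQexp⟩⟩
  exact hup_core Q hQ1 K hKQ hsolv htr

end Cfsg.Agent.Lib.H23.EOC
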