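import Cfsg.Agent.Lib.H23.SHQ3G
import Cfsg.Agent.Lib.H16.SHQ3REP

/-!
# S3016 (Shult, odd `p`), CASE B with `|H| = p` (`q = 3`): the pointwise bound Q3-PT (helper23, twin seat)

`q3_pointwise` : the architect's cut shape (Q3-REP as a hypothesis `hrep`), at `p = 3`.
`pointwise_p`, `q3_pointwise'` : hypothesis-free versions on helper16's landed `H16.SHQ3.q3_rep`
(general prime `p` with `|H| = p`, resp. `p = 3`).
Route: helper23's `q3_glue` (`y` `p`-regular ⟹ `y ∈ L = K_g`, `a` normalizes `L`, `a L ⊆ a^G`).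
-/

set_option autoImplicit false
set_option linter.unusedSectionVars false
set_option linter.style.haveILetI false

namespace Cfsg.Agent.Lib.H23.SHQ3

open Cfsg

variable {G : Type*} [Group G] [Finite G]

/-- Q3-PT for a general prime `p`, `|H| = p`, with Q3-REP as a hypothesis. -/
theorem pointwise_p_of_rep {p : ℕ} [Fact p.Prime] {H : Subgroup G} (hHp : IsPGroup p H)
    (hHab : IsMulCommutative H) (hcl : Cfsg.IsExtremelyClosed H) (hq : Nat.card H = p)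
    (hrep : ∀ (χ : G → ℂ), Cfsg.IsCharacter G χ → ∀ (L : Subgroup G) (a : G),
      (∀ l ∈ L, a * l * a⁻¹ ∈ L) → (∀ l ∈ L, χ (a * l) = χ a) → ∀ y : G, y ∈ L →
      2 * (χ a).re - (χ 1).re ≤ (χ y).re)
    (χ : G → ℂ) (hχ : Cfsg.IsCharacter G χ) (a b g : G) (ha : a ∈ H) (ha1 : a ≠ 1) (hb : b ∈ H)
    (hcop : ¬ p ∣ orderOf (a * (g * b * g⁻¹))) :
    2 * (χ a).re - (χ 1).re ≤ (χ (a * (g * b * g⁻¹))).re := by
  obtain ⟨L, hy, hn, -, hc⟩ := q3_glue hHp hHab hcl hq g ha ha1 hb hcop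
  refine hrep χ hχ L a hn (fun l hl => ?_) _ hy
  obtain ⟨n, ρ, rfl⟩ := hχ
  obtain ⟨x, hx⟩ := isConj_iff.1 (hc l hl)
  have h := Representation.char_conj ρ (a * l) x
  rw [hx] at h
  exact h.symm

/-- **Q3-PT**, the architect's cut shape (`p = 3`, Q3-REP as the hypothesis `hrep`). -/
theorem q3_pointwise {H : Subgroup G} (hH3 : IsPGroup 3 H) (hHab : IsMulCommutative H)
    (hcl : Cfsg.IsExtremelyClosed H) (hq : Nat.card H = 3)
    (hrep : ∀ (χ : G → ℂ), Cfsg.IsCharacter G χ → ∀ (L : Subgroup G) (a : G),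
      (∀ l ∈ L, a * l * a⁻¹ ∈ L) → (∀ l ∈ L, χ (a * l) = χ a) → ∀ y : G, y ∈ L →
      2 * (χ a).re - (χ 1).re ≤ (χ y).re)
    (χ : G → ℂ) (hχ : Cfsg.IsCharacter G χ) (a b g : G) (ha : a ∈ H) (ha1 : a ≠ 1) (hb : b ∈ H)
    (hcop : ¬ 3 ∣ orderOf (a * (g * b * g⁻¹))) :
    2 * (χ a).re - (χ 1).re ≤ (χ (a * (g * b * g⁻¹))).re := by
  haveI : Fact (Nat.Prime 3) := ⟨Nat.prime_three⟩
  exact pointwise_p_of_rep hH3 hHab hcl hq hrep χ hχ a b g ha ha1 hb hcop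

/-- Q3-PT for a general prime `p`, `|H| = p`, hypothesis-free (on helper16's landed Lemma Q3). -/
theorem pointwise_p {p : ℕ} [Fact p.Prime] {H : Subgroup G} (hHp : IsPGroup p H)
    (hHab : IsMulCommutative H) (hcl : Cfsg.IsExtremelyClosed H) (hq : Nat.card H = p)
    (χ : G → ℂ) (hχ : Cfsg.IsCharacter G χ) (a b g : G) (ha : a ∈ H) (ha1 : a ≠ 1) (hb : b ∈ H)
    (hcop : ¬ p ∣ orderOf (a * (g * b * g⁻¹))) :
    2 * (χ a).re - (χ 1).re ≤ (χ (a * (g * b * g⁻¹))).re :=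
  pointwise_p_of_rep hHp hHab hcl hq
    (fun χ hχ L a hn hc y hy => Cfsg.Agent.Lib.H16.SHQ3.q3_rep χ hχ L a hn hc y hy)
    χ hχ a b g ha ha1 hb hcop

/-- **Q3-PT** at `p = 3`, hypothesis-free: exactly the `hpt` hypothesis of the CASE B (`q = 3`) group side. -/
theorem q3_pointwise' {H : Subgroup G} (hH3 : IsPGroup 3 H) (hHab : IsMulCommutative H)
    (hcl : Cfsg.IsExtremelyClosed H) (hq : Nat.card H = 3) :
    ∀ χ : G → ℂ, Cfsg.IsCharacter G χ → ∀ a b g : G, a ∈ H → a ≠ 1 → b ∈ H →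
      ¬ 3 ∣ orderOf (a * (g * b * g⁻¹)) →
      2 * (χ a).re - (χ 1).re ≤ (χ (a * (g * b * g⁻¹))).re := by
  haveI : Fact (Nat.Prime 3) := ⟨Nat.prime_three⟩
  intro χ hχ a b g ha ha1 hb hcop
  exact pointwise_p hH3 hHab hcl hq χ hχ a b g ha ha1 hb hcop

end Cfsg.Agent.Lib.H23.SHQ3
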