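import Mathlib
import Cfsg.Agent.Lib.H23.SpUA

set_option autoImplicit false

/-!
# Unitary structures adapted to an isometry with scalar square (helper23)
-/

namespace Cfsg.Agent.Lib.H23.SpU

open Module
open Cfsg.Agent.Lib.H13

section constr

variable {F : Type*} [Field F] {V : Type*} [AddCommGroup V] [Module F V]

/-- the endomorphism `e_i ↦ f_i`, `f_i ↦ δ e_i` attached to a symplectic basis -/
noncomputable def aOf {ι : Type*} (b : Basis (ι ⊕ ι) F V) (δ : F) : Module.End F V :=
  b.constr F (Sum.elim (fun i => b (.inr i)) (fun i => δ • b (.inl i)))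

theorem aOf_inl {ι : Type*} (b : Basis (ι ⊕ ι) F V) (δ : F) (i : ι) :
    aOf b δ (b (.inl i)) = b (.inr i) := by
  unfold aOf
  rw [Basis.constr_basis]
  rfl

theorem aOf_inr {ι : Type*} (b : Basis (ι ⊕ ι) F V) (δ : F) (i : ι) :
    aOf b δ (b (.inr i)) = δ • b (.inl i) := by
  unfold aOf
  rw [Basis.constr_basis]
  rfl

theorem ustr_aOf {ι : Type*} [DecidableEq ι] (B : LinearMap.BilinForm F V) (halt : ∀ v, B v v = 0)
    (hnd : ∀ v, (∀ w, B v w = 0) → v = 0) (b : Basis (ι ⊕ ι) F V) (hb : IsSymp B b) (δ : F) :
    UStr B (aOf b δ) δ := by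
  refine ⟨halt, hnd, ?_, ?_⟩
  · have key : aOf b δ ∘ₗ aOf b δ = δ • LinearMap.id := by
      apply b.ext
      intro x
      rw [LinearMap.comp_apply, LinearMap.smul_apply, LinearMap.id_apply]
      rcases x with i | i
      · rw [aOf_inl, aOf_inr]
      · rw [aOf_inr, map_smul, aOf_inl]
    intro v
    exact congrArg (fun T : V →ₗ[F] V => T v) key
  · have key : B.compl₁₂ (aOf b δ) LinearMap.id = - B.compl₁₂ LinearMap.id (aOf b δ) := by
      apply LinearMap.BilinForm.ext_basis b
      intro x y
      rw [LinearMap.neg_apply, LinearMap.neg_apply, LinearMap.compl₁₂_apply,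
        LinearMap.compl₁₂_apply, LinearMap.id_apply, LinearMap.id_apply]
      rcases x with i | i <;> rcases y with j | j
      · rw [aOf_inl, aOf_inl, IsSymp.swap_pair halt hb, hb.pair]
        by_cases hij : i = j
        · rw [if_pos hij, if_pos hij]
        · rw [if_neg hij, if_neg hij, neg_zero]
      · rw [aOf_inl, aOf_inr, hb.iso_r, map_smul, hb.iso_l, smul_zero, neg_zero]
      · rw [aOf_inr, aOf_inl, map_smul, LinearMap.smul_apply, hb.iso_l, smul_zero, hb.iso_r,
          neg_zero]
      · rw [aOf_inr, aOf_inr, map_smul, LinearMap.smul_apply, hb.pair, map_smul,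
          IsSymp.swap_pair halt hb]
        by_cases hij : i = j
        · rw [if_pos hij, if_pos hij]
          simp
        · rw [if_neg hij, if_neg hij]
          simp
    intro u v
    have := congrArg (fun T : LinearMap.BilinForm F V => T u v) key
    simpa using this

end constr

section caseA

variable {F : Type*} [Field F]

/-- an eigenvector relation for isometries -/
theorem iso_eigen {V : Type*} [AddCommGroup V] [Module F V] (B : LinearMap.BilinForm F V)
    (x : Module.End F V) (hiso : ∀ u v, B (x u) (x v) = B u v) (e : V) (lam : F) (hlam : lam ≠ 0)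
    (he : x e = lam • e) (w : V) : B e (x w) = lam⁻¹ * B e w := by
  have h1 : e = x (lam⁻¹ • e) := by
    rw [map_smul, he, smul_smul, inv_mul_cancel₀ hlam, one_smul]
  nth_rewrite 1 [h1]
  rw [hiso, map_smul, LinearMap.smul_apply, smul_eq_mul]

/-- Case A: an isometry with square `1` has an eigenbasis which is symplectic -/
theorem caseA_aux (h2 : (2 : F) ≠ 0) (n : ℕ) :
    ∀ {V : Type*} [AddCommGroup V] [Module F V] [FiniteDimensional F V]
    (B : LinearMap.BilinForm F V) (x : Module.End F V), (∀ v, B v v = 0) →
    (∀ v, (∀ w, B v w = 0) → v = 0) → (∀ u v, B (x u) (x v) = B u v) → (∀ v, x (x v) = v) →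
    finrank F V = n →
    ∃ (ι : Type) (_ : Fintype ι) (_ : DecidableEq ι) (b : Basis (ι ⊕ ι) F V) (ε : ι → F),
      IsSymp B b ∧ (∀ i, x (b (.inl i)) = ε i • b (.inl i)) ∧
        ∀ i, x (b (.inr i)) = ε i • b (.inr i) := by
  induction n using Nat.strong_induction_on with
  | _ n ih =>
    intro V _ _ _ B x halt hnd hiso hsq hn
    by_cases h0 : n = 0
    · subst h0
      have : Subsingleton V := by
        rw [Module.finrank_zero_iff] at hn
        exact hn
      refine ⟨Empty, inferInstance, inferInstance, Basis.empty V, fun i => i.elim, ?_,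
        fun i => i.elim, fun i => i.elim⟩
      constructor <;> intro i <;> exact i.elim
    · have hpos : 0 < finrank F V := by omega
      obtain ⟨v, hv⟩ := Module.finrank_pos_iff_exists_ne_zero.mp hpos
      -- an eigenvector
      obtain ⟨e, s, he0, hs, hxe⟩ : ∃ (e : V) (s : F), e ≠ 0 ∧ s * s = 1 ∧ x e = s • e := by
        by_cases h1 : v + x v = 0
        · refine ⟨v, -1, hv, by ring, ?_⟩
          rw [neg_smul, one_smul]
          exact (eq_neg_of_add_eq_zero_right h1)
        · refine ⟨v + x v, 1, h1, by ring, ?_⟩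
          rw [map_add, hsq, one_smul, add_comm]
      have hs0 : s ≠ 0 := by
        intro h
        rw [h, mul_zero] at hs
        exact zero_ne_one hs
      have hsinv : s⁻¹ = s := by
        field_simp
        rw [← hs, sq]
      obtain ⟨w, hw⟩ : ∃ w, B e w ≠ 0 := by
        by_contra h
        push Not at h
        exact he0 (hnd e h)
      -- the component of `w` in the same eigenspace
      set w' := w + s • x w with hw'
      have hxw' : x w' = s • w' := by
        rw [hw', map_add, map_smul, hsq, smul_add, smul_smul, hs, one_smul, add_comm]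
      have hBw' : B e w' = 2 * B e w := by
        rw [hw', map_add, map_smul, iso_eigen B x hiso e s hs0 hxe, hsinv, smul_eq_mul,
          ← mul_assoc, hs]
        ring
      have hBw'0 : B e w' ≠ 0 := by
        rw [hBw']
        exact mul_ne_zero h2 hw
      set f := (B e w')⁻¹ • w' with hf
      have hef : B e f = 1 := by
        rw [hf, map_smul, smul_eq_mul, inv_mul_cancel₀ hBw'0]
      have hxf : x f = s • f := by
        rw [hf, map_smul, hxw', smul_comm]
      have hW : ∀ u ∈ pairOrthB B e f, x u ∈ pairOrthB B e f := by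
        intro u hu
        rw [mem_pairOrthB] at hu ⊢
        constructor
        · rw [iso_eigen B x hiso e s hs0 hxe, hu.1, mul_zero]
        · rw [iso_eigen B x hiso f s hs0 hxf, hu.2, mul_zero]
      have hfr := finrank_pairOrthB B halt e f hef
      obtain ⟨ι, hι, hdec, b', ε', hb', h1', h2'⟩ := ih (n - 2) (by omega)
        (restrictB B (pairOrthB B e f)) (x.restrict hW) (fun u => halt u)
        (nondeg_pairOrthB B halt e f hef hnd) (fun u v => hiso u v)
        (fun u => Subtype.ext (hsq u)) (by omega)
      refine ⟨Unit ⊕ ι, inferInstance, inferInstance, consBasisB B halt e f hef b',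
        Sum.elim (fun _ => s) ε', IsSymp.cons B halt e f hef b' hb', ?_, ?_⟩
      · rintro (⟨⟩ | i)
        · rw [consBasisB_e]
          exact hxe
        · rw [consBasisB_l]
          have := congrArg Subtype.val (h1' i)
          exact this
      · rintro (⟨⟩ | i)
        · rw [consBasisB_f]
          exact hxf
        · rw [consBasisB_r]
          have := congrArg Subtype.val (h2' i)
          exact this

/-- Case A: a unitary structure commuting with an isometry of square `1` -/
theorem exists_ustr_commute (h2 : (2 : F) ≠ 0) (δ : F)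
    {V : Type*} [AddCommGroup V] [Module F V] [FiniteDimensional F V]
    (B : LinearMap.BilinForm F V) (x : Module.End F V) (halt : ∀ v, B v v = 0)
    (hnd : ∀ v, (∀ w, B v w = 0) → v = 0) (hiso : ∀ u v, B (x u) (x v) = B u v)
    (hsq : ∀ v, x (x v) = v) :
    ∃ a : Module.End F V, UStr B a δ ∧ ∀ v, x (a v) = a (x v) := by
  obtain ⟨ι, hι, hdec, b, ε, hb, h1, h2'⟩ := caseA_aux h2 (finrank F V) B x halt hnd hiso hsq rfl
  refine ⟨aOf b δ, ustr_aOf B halt hnd b hb δ, ?_⟩
  have key : x ∘ₗ aOf b δ = aOf b δ ∘ₗ x := by
    apply b.ext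
    intro k
    rw [LinearMap.comp_apply, LinearMap.comp_apply]
    rcases k with i | i
    · rw [aOf_inl, h2', h1, map_smul, aOf_inl]
    · rw [aOf_inr, map_smul, h1, h2', map_smul, aOf_inr, smul_comm]
  intro v
  exact congrArg (fun T : V →ₗ[F] V => T v) key

end caseA

section caseB

variable {F : Type*} [Field F]

/-- Case B: an isometry with square `-1 = ι²` has a symplectic basis with `e_i` in the
`ι`-eigenspace and `f_i` in the `-ι`-eigenspace -/
theorem caseB_aux (h2 : (2 : F) ≠ 0) (ι₀ : F) (hι₀ : ι₀ * ι₀ = -1) (n : ℕ) :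
    ∀ {V : Type*} [AddCommGroup V] [Module F V] [FiniteDimensional F V]
    (B : LinearMap.BilinForm F V) (x : Module.End F V), (∀ v, B v v = 0) →
    (∀ v, (∀ w, B v w = 0) → v = 0) → (∀ u v, B (x u) (x v) = B u v) → (∀ v, x (x v) = -v) →
    finrank F V = n →
    ∃ (ι : Type) (_ : Fintype ι) (_ : DecidableEq ι) (b : Basis (ι ⊕ ι) F V),
      IsSymp B b ∧ (∀ i, x (b (.inl i)) = ι₀ • b (.inl i)) ∧
        ∀ i, x (b (.inr i)) = (-ι₀) • b (.inr i) := by
  have hι0 : ι₀ ≠ 0 := by
    intro h
    rw [h, mul_zero] at hι₀
    exact one_ne_zero (neg_eq_zero.mp hι₀.symm)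
  induction n using Nat.strong_induction_on with
  | _ n ih =>
    intro V _ _ _ B x halt hnd hiso hsq hn
    by_cases h0 : n = 0
    · subst h0
      have : Subsingleton V := by
        rw [Module.finrank_zero_iff] at hn
        exact hn
      refine ⟨Empty, inferInstance, inferInstance, Basis.empty V, ?_,
        fun i => i.elim, fun i => i.elim⟩
      constructor <;> intro i <;> exact i.elim
    · have hpos : 0 < finrank F V := by omega
      obtain ⟨v, hv⟩ := Module.finrank_pos_iff_exists_ne_zero.mp hpos
      obtain ⟨w, hw⟩ : ∃ w, B v w ≠ 0 := by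
        by_contra h
        push Not at h
        exact hv (hnd v h)
      -- eigencomponents
      have hcomp1 : ∀ u : V, x (u - ι₀ • x u) = ι₀ • (u - ι₀ • x u) := by
        intro u
        rw [map_sub, map_smul, hsq, smul_sub, smul_smul, hι₀]
        module
      have hcomp2 : ∀ u : V, x (u + ι₀ • x u) = (-ι₀) • (u + ι₀ • x u) := by
        intro u
        rw [map_add, map_smul, hsq, smul_add, smul_smul, neg_mul, hι₀]
        module
      -- `B` vanishes on each eigenspace
      have hiso1 : ∀ u u' : V, x u = ι₀ • u → x u' = ι₀ • u' → B u u' = 0 := by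
        intro u u' hu hu'
        have := hiso u u'
        rw [hu, hu'] at this
        simp only [map_smul, LinearMap.smul_apply, smul_eq_mul] at this
        have h3 : (2 : F) * B u u' = 0 := by linear_combination -this + (B u u') * hι₀
        rcases mul_eq_zero.mp h3 with h | h
        · exact absurd h h2
        · exact h
      have hiso2 : ∀ u u' : V, x u = (-ι₀) • u → x u' = (-ι₀) • u' → B u u' = 0 := by
        intro u u' hu hu'
        have := hiso u u'
        rw [hu, hu'] at this
        simp only [map_smul, LinearMap.smul_apply, smul_eq_mul] at this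
        have h3 : (2 : F) * B u u' = 0 := by linear_combination -this + (B u u') * hι₀
        rcases mul_eq_zero.mp h3 with h | h
        · exact absurd h h2
        · exact h
      -- a pair `e, f₀` in opposite eigenspaces with `B e f₀ ≠ 0`
      obtain ⟨e, f₀, hxe, hxf₀, hef₀⟩ : ∃ e f₀ : V, x e = ι₀ • e ∧ x f₀ = (-ι₀) • f₀ ∧
          B e f₀ ≠ 0 := by
        have hdec : (4 : F) * B v w = B (v - ι₀ • x v) (w + ι₀ • x w) +
            B (v + ι₀ • x v) (w - ι₀ • x w) := by
          simp only [map_add, map_sub, map_smul, LinearMap.add_apply, LinearMap.sub_apply,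
            LinearMap.smul_apply, smul_eq_mul]
          linear_combination (2 * B (x v) (x w)) * hι₀ - 2 * hiso v w
        by_cases hc : B (v - ι₀ • x v) (w + ι₀ • x w) = 0
        · refine ⟨w - ι₀ • x w, v + ι₀ • x v, hcomp1 w, hcomp2 v, ?_⟩
          rw [alt_skew B halt]
          intro h
          rw [hc, zero_add, neg_eq_zero.mp h] at hdec
          have h4 : (4 : F) ≠ 0 := by
            have : (4 : F) = 2 * 2 := by norm_num
            rw [this]
            exact mul_ne_zero h2 h2
          exact hw ((mul_eq_zero.mp hdec).resolve_left h4)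
        · exact ⟨v - ι₀ • x v, w + ι₀ • x w, hcomp1 v, hcomp2 w, hc⟩
      set f := (B e f₀)⁻¹ • f₀ with hf
      have hef : B e f = 1 := by
        rw [hf, map_smul, smul_eq_mul, inv_mul_cancel₀ hef₀]
      have hxf : x f = (-ι₀) • f := by
        rw [hf, map_smul, hxf₀, smul_comm]
      have hW : ∀ u ∈ pairOrthB B e f, x u ∈ pairOrthB B e f := by
        intro u hu
        rw [mem_pairOrthB] at hu ⊢
        constructor
        · rw [iso_eigen B x hiso e ι₀ hι0 hxe, hu.1, mul_zero]
        · rw [iso_eigen B x hiso f (-ι₀) (neg_ne_zero.mpr hι0) hxf, hu.2, mul_zero]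
      have hfr := finrank_pairOrthB B halt e f hef
      obtain ⟨ι, hι, hdec, b', hb', h1', h2'⟩ := ih (n - 2) (by omega)
        (restrictB B (pairOrthB B e f)) (x.restrict hW) (fun u => halt u)
        (nondeg_pairOrthB B halt e f hef hnd) (fun u v => hiso u v)
        (fun u => Subtype.ext (hsq u)) (by omega)
      refine ⟨Unit ⊕ ι, inferInstance, inferInstance, consBasisB B halt e f hef b',
        IsSymp.cons B halt e f hef b' hb', ?_, ?_⟩
      · rintro (⟨⟩ | i)
        · rw [consBasisB_e]
          exact hxe
        · rw [consBasisB_l]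
          have := congrArg Subtype.val (h1' i)
          exact this
      · rintro (⟨⟩ | i)
        · rw [consBasisB_f]
          exact hxf
        · rw [consBasisB_r]
          have := congrArg Subtype.val (h2' i)
          exact this

/-- Case B: a unitary structure anticommuting with an isometry of square `-1 = ι²` -/
theorem exists_ustr_anticommute (h2 : (2 : F) ≠ 0) (ι₀ : F) (hι₀ : ι₀ * ι₀ = -1) (δ : F)
    {V : Type*} [AddCommGroup V] [Module F V] [FiniteDimensional F V]
    (B : LinearMap.BilinForm F V) (x : Module.End F V) (halt : ∀ v, B v v = 0)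
    (hnd : ∀ v, (∀ w, B v w = 0) → v = 0) (hiso : ∀ u v, B (x u) (x v) = B u v)
    (hsq : ∀ v, x (x v) = -v) :
    ∃ a : Module.End F V, UStr B a δ ∧ ∀ v, x (a v) = - a (x v) := by
  obtain ⟨ι, hι, hdec, b, hb, h1, h2'⟩ :=
    caseB_aux h2 ι₀ hι₀ (finrank F V) B x halt hnd hiso hsq rfl
  refine ⟨aOf b δ, ustr_aOf B halt hnd b hb δ, ?_⟩
  have key : x ∘ₗ aOf b δ = - (aOf b δ ∘ₗ x) := by
    apply b.ext
    intro k
    rw [LinearMap.neg_apply, LinearMap.comp_apply, LinearMap.comp_apply]
    rcases k with i | i
    · rw [aOf_inl, h2', h1, map_smul, aOf_inl, neg_smul]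
    · rw [aOf_inr, map_smul, h1, h2', map_smul, aOf_inr, smul_comm, neg_smul, neg_neg]
  intro v
  exact congrArg (fun T : V →ₗ[F] V => T v) key

end caseB

end Cfsg.Agent.Lib.H23.SpU
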