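import Mathlib
import Cfsg.Agent.Lib.H23.SpUD
import Cfsg.Agent.Lib.H23.SpUE

set_option autoImplicit false

/-!
# Involutions of `PSp_{2d}(q)` fix a point of the unitary-type coset space (helper23)
-/

namespace Cfsg.Agent.Lib.H23.SpU

open Module Matrix
open Cfsg.Agent.Lib.H13 Cfsg.Agent.Lib.H13.SpInvolCount Cfsg.Agent.Lib.H13.Singer

section sq

variable {F : Type*} [Field F] [Fintype F]

/-- the product of two non-squares of a finite field of odd order is a square -/
theorem exists_sq_eq_mul (h2 : (2 : F) ≠ 0) (a b : F) (ha : ∀ c : F, c * c ≠ a)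
    (hb : ∀ c : F, c * c ≠ b) : ∃ c : F, c * c = a * b := by
  have hchar : ringChar F ≠ 2 := by
    intro h
    apply h2
    have := ringChar.Nat.cast_ringChar (R := F)
    rw [h] at this
    exact_mod_cast this
  have ha0 : a ≠ 0 := fun h => ha 0 (by rw [h, mul_zero])
  have hb0 : b ≠ 0 := fun h => hb 0 (by rw [h, mul_zero])
  have hna : ¬ IsSquare a := fun ⟨c, hc⟩ => ha c hc.symm
  have hnb : ¬ IsSquare b := fun ⟨c, hc⟩ => hb c hc.symm
  rw [FiniteField.isSquare_iff hchar ha0] at hna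
  rw [FiniteField.isSquare_iff hchar hb0] at hnb
  have ha1 := (FiniteField.pow_dichotomy hchar ha0).resolve_left hna
  have hb1 := (FiniteField.pow_dichotomy hchar hb0).resolve_left hnb
  have hab : IsSquare (a * b) := by
    rw [FiniteField.isSquare_iff hchar (mul_ne_zero ha0 hb0), mul_pow, ha1, hb1]
    ring
  obtain ⟨c, hc⟩ := hab
  exact ⟨c, hc.symm⟩

end sq

section mat

variable {F : Type*} [Field F] {d : ℕ}

/-- matrix form of an abstract unitary structure on the standard symplectic space -/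
theorem matrix_of_ustr (a : Module.End F (Fin d ⊕ Fin d → F)) (δ : F)
    (h : UStr (sympB (F := F) d) a δ) :
    LinearMap.toMatrix' a * LinearMap.toMatrix' a = δ • (1 : Matrix (Fin d ⊕ Fin d) (Fin d ⊕ Fin d) F) ∧
      Adj (LinearMap.toMatrix' a) (-LinearMap.toMatrix' a) := by
  constructor
  · apply Matrix.toLin'.injective
    apply LinearMap.ext
    intro v
    rw [Matrix.toLin'_apply, ← Matrix.mulVec_mulVec, LinearMap.toMatrix'_mulVec,
      LinearMap.toMatrix'_mulVec, h.sq, Matrix.toLin'_apply, Matrix.smul_mulVec,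
      Matrix.one_mulVec]
  · intro u v
    rw [Matrix.neg_mulVec, LinearMap.toMatrix'_mulVec, LinearMap.toMatrix'_mulVec,
      ← sympB_apply, ← sympB_apply, h.skew, map_neg]

theorem sp_toLin_iso (x : GL (Fin d ⊕ Fin d) F) (hx : x ∈ Cfsg.spGL d F)
    (u v : Fin d ⊕ Fin d → F) :
    sympB d (Matrix.toLin' (x : Matrix (Fin d ⊕ Fin d) (Fin d ⊕ Fin d) F) u)
      (Matrix.toLin' (x : Matrix (Fin d ⊕ Fin d) (Fin d ⊕ Fin d) F) v) = sympB d u v := by
  rw [sympB_apply, sympB_apply, Matrix.toLin'_apply, Matrix.toLin'_apply]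
  exact (mem_spGL_iff x).mp hx u v

theorem exists_form_ne_zero (hd : 1 ≤ d) :
    ∃ u v : Fin d ⊕ Fin d → F, Cfsg.sympForm d F u v ≠ 0 := by
  by_contra hcon
  push Not at hcon
  have h1 : (Pi.single (Sum.inl ⟨0, hd⟩) 1 : Fin d ⊕ Fin d → F) = 0 := by
    apply (sympB_nondeg (F := F) d).1
    intro w
    rw [sympB_apply]
    exact hcon _ _
  have := congrFun h1 (Sum.inl ⟨0, hd⟩)
  simp at this

variable [Fintype F]

/-- every element of `Sp` with scalar square has a conjugate normalizing `K` -/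
theorem KData.two_suff {K : Subalgebra F (Matrix (Fin d ⊕ Fin d) (Fin d ⊕ Fin d) F)}
    {α : Matrix (Fin d ⊕ Fin d) (Fin d ⊕ Fin d) F} {δ : F} (h : KData K α δ) (hd : 1 ≤ d)
    (hodd : Fintype.card F % 2 = 1) (h2 : (2 : F) ≠ 0)
    (x : GL (Fin d ⊕ Fin d) F) (hx : x ∈ Cfsg.spGL d F) (z : F)
    (hz : ((x ^ 2 : GL (Fin d ⊕ Fin d) F) : Matrix (Fin d ⊕ Fin d) (Fin d ⊕ Fin d) F) = z • 1) :
    ∃ g ∈ Cfsg.spGL d F, g⁻¹ * x * g ∈ Cfsg.Geo.subalgebraNormalizer K := by
  set X : Matrix (Fin d ⊕ Fin d) (Fin d ⊕ Fin d) F := (x : Matrix (Fin d ⊕ Fin d) (Fin d ⊕ Fin d) F)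
    with hX
  have hXX : X * X = z • 1 := by
    rw [← hz, pow_two, Units.val_mul]
  have hpres := (mem_spGL_iff x).mp hx
  -- `z = ± 1`
  have hzz : z * z = 1 := by
    obtain ⟨u, v, huv⟩ := exists_form_ne_zero (F := F) hd
    have h1 : Cfsg.sympForm d F (X *ᵥ (X *ᵥ u)) (X *ᵥ (X *ᵥ v)) = Cfsg.sympForm d F u v := by
      rw [hpres, hpres]
    rw [Matrix.mulVec_mulVec, Matrix.mulVec_mulVec, hXX, Matrix.smul_mulVec,
      Matrix.smul_mulVec, Matrix.one_mulVec, Matrix.one_mulVec,
      Cfsg.Agent.Lib.H4.sympForm_smul_left, Cfsg.Agent.Lib.H4.sympForm_smul_right] at h1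
    have h3 : (z * z - 1) * Cfsg.sympForm d F u v = 0 := by linear_combination h1
    rcases mul_eq_zero.mp h3 with h' | h'
    · exact sub_eq_zero.mp h'
    · exact absurd h' huv
  have hz1 : z = 1 ∨ z = -1 := by
    have : (z - 1) * (z + 1) = 0 := by linear_combination hzz
    rcases mul_eq_zero.mp this with h' | h'
    · left; exact sub_eq_zero.mp h'
    · right; exact eq_neg_of_add_eq_zero_left h'
  have hiso := sp_toLin_iso x hx
  rcases hz1 with hz1 | hz1
  · -- square `1`
    have hsq : ∀ v, Matrix.toLin' X (Matrix.toLin' X v) = v := by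
      intro v
      rw [Matrix.toLin'_apply, Matrix.toLin'_apply, Matrix.mulVec_mulVec, hXX, hz1, one_smul,
        Matrix.one_mulVec]
    obtain ⟨a, ha, hxa⟩ := exists_ustr_commute h2 δ (sympB (F := F) d) (Matrix.toLin' X)
      (sympB_alt d) (sympB_nondeg d).1 hiso hsq
    obtain ⟨e1, e2⟩ := matrix_of_ustr a δ ha
    apply h.exists_conj_mem hd hodd h2 x (LinearMap.toMatrix' a) e1 e2
    left
    apply Matrix.toLin'.injective
    apply LinearMap.ext
    intro v
    rw [Matrix.toLin'_apply, Matrix.toLin'_apply, ← Matrix.mulVec_mulVec, ← Matrix.mulVec_mulVec,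
      LinearMap.toMatrix'_mulVec, LinearMap.toMatrix'_mulVec, ← Matrix.toLin'_apply,
      ← Matrix.toLin'_apply X v]
    exact hxa v
  · -- square `-1`
    have hsq : ∀ v, Matrix.toLin' X (Matrix.toLin' X v) = -v := by
      intro v
      rw [Matrix.toLin'_apply, Matrix.toLin'_apply, Matrix.mulVec_mulVec, hXX, hz1, neg_smul,
        one_smul, Matrix.neg_mulVec, Matrix.one_mulVec]
    by_cases hι : ∃ ι₀ : F, ι₀ * ι₀ = -1
    · obtain ⟨ι₀, hι₀⟩ := hι
      obtain ⟨a, ha, hxa⟩ := exists_ustr_anticommute h2 ι₀ hι₀ δ (sympB (F := F) d)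
        (Matrix.toLin' X) (sympB_alt d) (sympB_nondeg d).1 hiso hsq
      obtain ⟨e1, e2⟩ := matrix_of_ustr a δ ha
      apply h.exists_conj_mem hd hodd h2 x (LinearMap.toMatrix' a) e1 e2
      right
      apply Matrix.toLin'.injective
      apply LinearMap.ext
      intro v
      rw [map_neg, LinearMap.neg_apply, Matrix.toLin'_apply, Matrix.toLin'_apply,
        ← Matrix.mulVec_mulVec, ← Matrix.mulVec_mulVec,
        LinearMap.toMatrix'_mulVec, LinearMap.toMatrix'_mulVec, ← Matrix.toLin'_apply,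
        ← Matrix.toLin'_apply X v]
      exact hxa v
    · push Not at hι
      obtain ⟨c, hc⟩ := exists_sq_eq_mul h2 (-1) δ hι h.nsq
      have hadjX : Adj X (-X) := by
        intro u v
        have h1 := hpres u (-X *ᵥ v)
        rw [Matrix.mulVec_mulVec, Matrix.mul_neg, hXX, hz1, neg_smul, one_smul, neg_neg,
          Matrix.one_mulVec] at h1
        exact h1
      have e2 : Adj (c • X) (-(c • X)) := by
        have := hadjX.lin 0 c
        simpa using this
      have e1 : (c • X) * (c • X) = δ • 1 := by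
        rw [Matrix.smul_mul, Matrix.mul_smul, smul_smul, hXX, smul_smul, hc, hz1]
        ring_nf
      apply h.exists_conj_mem hd hodd h2 x (c • X) e1 e2
      left
      rw [Matrix.mul_smul, Matrix.smul_mul]

end mat

end Cfsg.Agent.Lib.H23.SpU
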