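import Mathlib
import Cfsg.Agent.Lib.H23.SpUA
import Cfsg.Agent.Lib.H24.ElusTiTypes

set_option autoImplicit false

/-!
# A self-dual atom of dimension `≡ 0 (mod 4)` admits no commuting unitary structure (helper23)

Let `y` be an isometry of order `r` of an alternating space over the field with `q` elements,
`i = ord_r q = 2 c'` with `c'` even, and `U = ker s(y)` of dimension `i` for an irreducible factor
`s` of the `r`-th cyclotomic polynomial.  If `A` commutes with `y`, `A² = δ` and `A` is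
skew-adjoint, then `U` is totally isotropic (`ti_of_commute`); but `U` is nondegenerate.
-/

namespace Cfsg.Agent.Lib.H23.SpU

open Module Polynomial
open Cfsg.Agent.Lib.H13 Cfsg.Agent.Lib.H24.Elus

section core

variable {F : Type*} [Field F] [Fintype F] {p q : ℕ} [Fact p.Prime] [CharP F p]
  {V : Type*} [AddCommGroup V] [Module F V] [Module.Finite F V]
  {B : LinearMap.BilinForm F V} {y : End F V}

omit [Fintype F] [Module.Finite F V] in
/-- odd powers of an endomorphism with scalar square -/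
theorem pow_odd_of_sq (A : End F V) (δ : F) (hA : ∀ v, A (A v) = δ • v) (k : ℕ) (v : V) :
    (A ^ (2 * k + 1)) v = δ ^ k • A v := by
  induction k generalizing v with
  | zero => simp
  | succ k ih =>
    have : 2 * (k + 1) + 1 = (2 * k + 1) + 2 := by ring
    rw [this, pow_add, Module.End.mul_apply, pow_two, Module.End.mul_apply, hA, map_smul, ih,
      smul_smul, pow_succ, mul_comm]

theorem delta_pow_eq_one (hF : Fintype.card F = q) (δ : F) (hδ : δ ≠ 0) (m k : ℕ)
    (hk : 2 * k + 1 = q ^ (2 * m)) (hqodd : Odd q) : δ ^ k = 1 := by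
  -- `k = (q - 1) * t`
  have hq1 : 1 ≤ q := hqodd.pos
  obtain ⟨j, hj⟩ := hqodd
  have hdvd : q ^ 2 - 1 ∣ q ^ (2 * m) - 1 := by
    rw [pow_mul]
    exact Nat.sub_one_dvd_pow_sub_one _ m
  have hq2 : q ^ 2 - 1 = (q - 1) * (2 * (j + 1)) := by
    rw [hj]
    have : (2 * j + 1) ^ 2 = (2 * j) * (2 * (j + 1)) + 1 := by ring
    rw [this]
    simp
  obtain ⟨t, ht⟩ := hdvd
  have hk' : k = (q - 1) * ((j + 1) * t) := by
    have h1 : 2 * k = q ^ (2 * m) - 1 := by omega
    rw [ht, hq2] at h1
    have h3 : 2 * k = 2 * ((q - 1) * ((j + 1) * t)) := by rw [h1]; ring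
    omega
  rw [hk', pow_mul, ← hF, FiniteField.pow_card_sub_one_eq_one δ hδ, one_pow]

/-- the homogeneous component is totally isotropic -/
theorem ti_of_commute [DecidableEq F] (hF : Fintype.card F = q) (hqodd : Odd q) {r : ℕ}
    [Fact r.Prime] (hrp : r ≠ p)
    (hiso : ∀ u v, B (y u) (y v) = B u v) (hy : y ^ r = 1)
    (c' : ℕ) (hc : 2 * c' = orderOf (q : ZMod r)) (hc' : Even c')
    (s : CycFactor.S r F)
    (hU : finrank F (LinearMap.ker (aeval y s.1)) = 2 * c')
    (A : End F V) (δ : F) (hδ : δ ≠ 0) (h2 : (2 : F) ≠ 0) (hAsq : ∀ v, A (A v) = δ • v)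
    (hAskew : ∀ u v, B (A u) v = - B u (A v)) (hAy : ∀ v, A (y v) = y (A v)) :
    ∀ u ∈ LinearMap.ker (aeval y s.1), ∀ v ∈ LinearMap.ker (aeval y s.1), B u v = 0 := by
  have hr : r.Prime := Fact.out
  have hi0 : 0 < orderOf (q : ZMod r) := CycFactor.orderOf_pos hF hr hrp
  have heven : Even (orderOf (q : ZMod r)) := ⟨c', by omega⟩
  set U := LinearMap.ker (aeval y s.1) with hUdef
  have hUinv : ∀ v ∈ U, y v ∈ U := SSClass.ker_aeval_invariant y s.1
  -- `A` preserves `U`
  have hAU : ∀ v ∈ U, A v ∈ U := by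
    intro v hv
    rw [hUdef, LinearMap.mem_ker] at hv ⊢
    rw [← SSClass.aeval_intertwine y y A hAy s.1 v, hv, map_zero]
  -- a cyclic generator
  have hUpos : 0 < finrank F U := by rw [hU]; omega
  obtain ⟨⟨u₀, hu₀U⟩, hu₀⟩ := Module.finrank_pos_iff_exists_ne_zero.mp hUpos
  have hu₀0 : u₀ ≠ 0 := fun h => hu₀ (Subtype.ext h)
  have hu₀k : aeval y s.1 u₀ = 0 := LinearMap.mem_ker.mp hu₀U
  have hcyc : cycSub y u₀ = U := by
    apply Submodule.eq_of_le_of_finrank_eq (cycSub_le_ker y u₀ s.1 hu₀k)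
    rw [finrank_cycSub hF hrp hy s u₀ hu₀0 hu₀k, hU, hc]
  -- `A` is a polynomial in `y` on `U`
  obtain ⟨P, hP⟩ : ∃ P : F[X], aeval y P u₀ = A u₀ := by
    rw [← mem_cycSub, hcyc]
    exact hAU u₀ hu₀U
  have hAP : ∀ u ∈ U, A u = aeval y P u := by
    intro u hu
    rw [← hcyc, mem_cycSub] at hu
    obtain ⟨Q, rfl⟩ := hu
    rw [SSClass.aeval_intertwine y y A hAy Q u₀, ← hP, ← Module.End.mul_apply,
      ← Module.End.mul_apply, ← map_mul, ← map_mul, mul_comm]
  have hPU : ∀ u ∈ U, aeval y P u ∈ U := fun u hu => aeval_mem_of_invariant y U hUinv P u hu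
  -- powers
  have hpowAP : ∀ (n : ℕ), ∀ u ∈ U, (A ^ n) u = ((aeval y P) ^ n) u := by
    intro n
    induction n with
    | zero => intro u _; rfl
    | succ n ih =>
      intro u hu
      rw [pow_succ', pow_succ', Module.End.mul_apply, Module.End.mul_apply, ih u hu]
      have hmem : ((aeval y P) ^ n) u ∈ U := by
        have : ∀ n : ℕ, ((aeval y P) ^ n) u ∈ U := by
          intro n
          induction n with
          | zero => simpa using hu
          | succ n ih' =>
            rw [pow_succ', Module.End.mul_apply]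
            exact hPU _ ih'
        exact this n
      exact hAP _ hmem
  -- the exponent `N = q ^ c'`
  obtain ⟨m, hm⟩ := hc'
  have hc'2 : c' = 2 * m := by omega
  set N := Fintype.card F ^ c' with hN
  have hNq : N = q ^ (2 * m) := by rw [hN, hF, hc'2]
  have hNodd : Odd N := by rw [hNq]; exact hqodd.pow
  obtain ⟨k, hk⟩ := hNodd
  have hδk : δ ^ k = 1 := delta_pow_eq_one hF δ hδ m k (by rw [← hNq, hk]) hqodd
  have hAN : ∀ v, (A ^ N) v = A v := by
    intro v
    rw [hk, pow_odd_of_sq A δ hAsq, hδk, one_smul]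
  -- `y ^ N = y ^ (r - 1)`
  have hrN : r ∣ N + 1 := by
    have := dvd_pow_half_add_one q r heven hi0
    have hhalf : orderOf (q : ZMod r) / 2 = c' := by omega
    rw [hhalf] at this
    rw [hN, hF]
    exact this
  have hyN : y ^ N = y ^ (r - 1) := by
    obtain ⟨t, ht⟩ := hrN
    have h1 : y ^ N * y = 1 := by
      rw [← pow_succ, ht, pow_mul, hy, one_pow]
    have h3 : y * y ^ (r - 1) = 1 := by
      rw [← pow_succ', Nat.sub_add_cancel hr.pos, hy]
    calc y ^ N = y ^ N * (y * y ^ (r - 1)) := by rw [h3, mul_one]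
      _ = y ^ (r - 1) := by rw [← mul_assoc, h1, one_mul]
  -- `A = P(y⁻¹)` on `U`
  have hAP' : ∀ u ∈ U, A u = aeval (y ^ (r - 1)) P u := by
    intro u hu
    rw [← hAN u, hpowAP N u hu, ← hyN, hN, aeval_pow_card_pow]
  -- conclusion
  have hadj := adj_aeval B y (y ^ (r - 1)) (adj_pow_pred hiso hr.pos hy) P
  have key : ∀ u ∈ U, ∀ v ∈ U, B u (A v) = 0 := by
    intro u hu v hv
    have h1 : B (A u) v = B u (A v) := by
      rw [hAP u hu, hadj, ← hAP' v hv]
    rw [hAskew] at h1
    have h3 : (2 : F) * B u (A v) = 0 := by linear_combination -h1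
    rcases mul_eq_zero.mp h3 with h | h
    · exact absurd h h2
    · exact h
  intro u hu v hv
  have hv' : v = A (δ⁻¹ • A v) := by
    rw [map_smul, hAsq, smul_smul, inv_mul_cancel₀ hδ, one_smul]
  rw [hv']
  exact key u hu _ (U.smul_mem _ (hAU v hv))

end core

end Cfsg.Agent.Lib.H23.SpU
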