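import Mathlib
import Cfsg.Agent.Lib.H23.SpUD
import Cfsg.Agent.Lib.H23.SpUF
import Cfsg.Agent.Lib.H23.SpUH

set_option autoImplicit false

/-!
# Elements of odd prime order `r ≠ p` of `Sp_{2d}(q)` with `ord_r q ≡ 0 (mod 4)` not conjugate
into the normalizer of `K` (helper23)
-/

namespace Cfsg.Agent.Lib.H23.SpU

open Module Matrix Polynomial
open Cfsg.Agent.Lib.H13 Cfsg.Agent.Lib.H13.SpInvolCount Cfsg.Agent.Lib.H24.Elus

section gl

variable {F : Type*} [Field F] {d : ℕ}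

/-- a matrix of finite order as an element of `GL` -/
def glOfPow' (X : Matrix (Fin d ⊕ Fin d) (Fin d ⊕ Fin d) F) (r : ℕ) (hr : 0 < r) (h : X ^ r = 1) :
    GL (Fin d ⊕ Fin d) F :=
  ⟨X, X ^ (r - 1), by rw [← pow_succ', Nat.sub_add_cancel hr, h],
    by rw [← pow_succ, Nat.sub_add_cancel hr, h]⟩

theorem glOfPow'_val (X : Matrix (Fin d ⊕ Fin d) (Fin d ⊕ Fin d) F) (r : ℕ) (hr : 0 < r)
    (h : X ^ r = 1) :
    ((glOfPow' X r hr h : GL (Fin d ⊕ Fin d) F) : Matrix (Fin d ⊕ Fin d) (Fin d ⊕ Fin d) F) = X :=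
  rfl

theorem glOfPow'_pow (X : Matrix (Fin d ⊕ Fin d) (Fin d ⊕ Fin d) F) (r : ℕ) (hr : 0 < r)
    (h : X ^ r = 1) : (glOfPow' X r hr h) ^ r = 1 := by
  apply Units.ext
  rw [Units.val_pow_eq_pow_val, glOfPow'_val, h]
  rfl

theorem glOfPow'_mem (X : ↥(Matrix.symplecticGroup (Fin d) F)) (r : ℕ) (hr : 0 < r)
    (h : (X : Matrix (Fin d ⊕ Fin d) (Fin d ⊕ Fin d) F) ^ r = 1) :
    glOfPow' (X : Matrix (Fin d ⊕ Fin d) (Fin d ⊕ Fin d) F) r hr h ∈ Cfsg.spGL d F := by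
  rw [mem_spGL_iff, glOfPow'_val]
  exact (mem_symplecticGroup_iff_sympForm' d _).mp X.2

/-- the linear equivalence of an element of `GL` -/
noncomputable def glEquiv' (g : GL (Fin d ⊕ Fin d) F) :
    (Fin d ⊕ Fin d → F) ≃ₗ[F] (Fin d ⊕ Fin d → F) :=
  Matrix.toLin'OfInv (gl_inv_mul g) (gl_mul_inv g)

theorem glEquiv'_apply (g : GL (Fin d ⊕ Fin d) F) (v : Fin d ⊕ Fin d → F) :
    glEquiv' g v = (g : Matrix (Fin d ⊕ Fin d) (Fin d ⊕ Fin d) F) *ᵥ v := by
  show Matrix.toLin' _ v = _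
  rw [Matrix.toLin'_apply]

/-- kernel dimensions of polynomials are conjugation invariant -/
theorem finrank_ker_conj (x g : GL (Fin d ⊕ Fin d) F) (P : F[X]) :
    finrank F (LinearMap.ker (aeval (Matrix.toLin'
      ((g⁻¹ * x * g : GL (Fin d ⊕ Fin d) F) : Matrix (Fin d ⊕ Fin d) (Fin d ⊕ Fin d) F)) P)) =
    finrank F (LinearMap.ker (aeval (Matrix.toLin'
      (x : Matrix (Fin d ⊕ Fin d) (Fin d ⊕ Fin d) F)) P)) := by
  apply SSClass.finrank_ker_eq_of_equiv _ _ (glEquiv' g)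
  intro v
  rw [glEquiv'_apply, glEquiv'_apply, Matrix.toLin'_apply, Matrix.toLin'_apply,
    Matrix.mulVec_mulVec, Matrix.mulVec_mulVec, Units.val_mul, Units.val_mul,
    ← Matrix.mul_assoc, ← Matrix.mul_assoc, gl_mul_inv, Matrix.one_mul]

theorem toLin'_pow_eq_one (y : GL (Fin d ⊕ Fin d) F) (r : ℕ) (hy : y ^ r = 1) :
    (Matrix.toLin' (y : Matrix (Fin d ⊕ Fin d) (Fin d ⊕ Fin d) F)) ^ r = 1 := by
  rw [← Matrix.toLin'_pow, ← Units.val_pow_eq_pow_val, hy, Units.val_one, Matrix.toLin'_one]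
  rfl

end gl

section d2

variable {F : Type*} [Field F] [Fintype F] {p q : ℕ} [Fact p.Prime] [CharP F p] {d : ℕ}

theorem nonempty_S [DecidableEq F] (hF : Fintype.card F = q) (r : ℕ) [Fact r.Prime] (hrp : r ≠ p)
    (hr2 : r ≠ 2) : Nonempty (CycFactor.S r F) := by
  have hr : r.Prime := Fact.out
  have h := CycFactor.card_S (F := F) hF hr hrp
  have h3 : 3 ≤ r := by
    have := hr.two_le
    omega
  by_contra hne
  rw [not_nonempty_iff] at hne
  rw [Fintype.card_eq_zero, zero_mul] at h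
  omega

/-- `ord_r q = 2 c'` with `c'` even, `c' ≤ d`: an element of order `r` no conjugate of which
normalizes `K` -/
theorem KData.exists_d2 {K : Subalgebra F (Matrix (Fin d ⊕ Fin d) (Fin d ⊕ Fin d) F)}
    {α : Matrix (Fin d ⊕ Fin d) (Fin d ⊕ Fin d) F} {δ : F} (h : KData K α δ) (hd : 1 ≤ d)
    (h2 : (2 : F) ≠ 0) (hF : Fintype.card F = q) (hqodd : Odd q)
    (r : ℕ) [Fact r.Prime] (hrp : r ≠ p) (hr2 : r ≠ 2) (c' : ℕ)
    (hc : 2 * c' = orderOf (q : ZMod r)) (hc' : Even c') (hcd : c' ≤ d) :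
    ∃ x : GL (Fin d ⊕ Fin d) F, x ∈ Cfsg.spGL d F ∧ x ^ r = 1 ∧
      (∀ z : F, (x : Matrix (Fin d ⊕ Fin d) (Fin d ⊕ Fin d) F) ≠ z • 1) ∧
      ∀ g ∈ Cfsg.spGL d F, g⁻¹ * x * g ∉ Cfsg.Geo.subalgebraNormalizer K := by
  classical
  have hr : r.Prime := Fact.out
  have hrodd : Odd r := hr.odd_of_ne_two hr2
  have hi0 : 0 < orderOf (q : ZMod r) := CycFactor.orderOf_pos hF hr hrp
  have hc'pos : 0 < c' := by omega
  obtain ⟨s₀⟩ := nonempty_S (F := F) hF r hrp hr2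
  obtain ⟨Xm, hXr, hXk, -⟩ := exists_sp_types hF r hrp hr2 c' hc (d - c') {s₀} d
    (by rw [Finset.card_singleton]; omega)
  have hXk0 := hXk s₀
  rw [if_pos (Finset.mem_singleton_self s₀)] at hXk0
  have hnc : ∀ g ∈ Cfsg.spGL d F, g⁻¹ * glOfPow' Xm r hr.pos hXr * g ∉
      Cfsg.Geo.subalgebraNormalizer K := by
    intro g hg hmem
    set y := g⁻¹ * glOfPow' Xm r hr.pos hXr * g with hy
    have hyr : y ^ r = 1 := by
      have e : y ^ r = g⁻¹ * (glOfPow' Xm r hr.pos hXr) ^ r * g := by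
        have := conj_pow (a := g⁻¹) (b := glOfPow' Xm r hr.pos hXr) (i := r)
        rw [inv_inv] at this
        exact this
      rw [e, glOfPow'_pow, mul_one, inv_mul_cancel]
    have hysp : y ∈ Cfsg.spGL d F :=
      (Cfsg.spGL d F).mul_mem ((Cfsg.spGL d F).mul_mem ((Cfsg.spGL d F).inv_mem hg)
        (glOfPow'_mem Xm r hr.pos hXr)) hg
    have hcomm := h.comm_of_odd hd h2 y hmem r hrodd 1 (by rw [hyr, one_smul]; rfl)
    set Y := Matrix.toLin' (y : Matrix (Fin d ⊕ Fin d) (Fin d ⊕ Fin d) F) with hY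
    have hYr : Y ^ r = 1 := toLin'_pow_eq_one y r hyr
    have hYiso : ∀ u v, stdB d (Y u) (Y v) = stdB d u v := sp_toLin_iso y hysp
    have hdim : finrank F (LinearMap.ker (aeval Y s₀.1)) = 2 * c' := by
      rw [hY, hy, finrank_ker_conj, glOfPow'_val]
      exact hXk0
    have hustr := ustr_of_matrix α δ h.sq h.skew
    have hAy : ∀ v, Matrix.toLin' α (Y v) = Y (Matrix.toLin' α v) := by
      intro v
      rw [hY, Matrix.toLin'_apply, Matrix.toLin'_apply, Matrix.toLin'_apply, Matrix.toLin'_apply,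
        Matrix.mulVec_mulVec, Matrix.mulVec_mulVec, hcomm]
    have hti := ti_of_commute (B := stdB d) hF hqodd hrp hYiso hYr c' hc hc' s₀ hdim
      (Matrix.toLin' α) δ h.delta_ne h2 hustr.sq hustr.skew hAy
    have hnd := NDon_ker_factor hF hrp (stdB_alt d) hYiso hYr ⟨c', by omega⟩ s₀ ⊤
      (fun _ _ => Submodule.mem_top) (stdB_NDon_top d)
    rw [top_inf_eq] at hnd
    have hbot : LinearMap.ker (aeval Y s₀.1) = ⊥ := by
      rw [eq_bot_iff]
      intro u hu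
      exact (Submodule.mem_bot F).mpr (hnd u hu (fun v hv => hti u hu v hv))
    rw [hbot, finrank_bot] at hdim
    omega
  refine ⟨glOfPow' Xm r hr.pos hXr, glOfPow'_mem Xm r hr.pos hXr, glOfPow'_pow _ r hr.pos hXr,
    ?_, hnc⟩
  intro z hz
  apply hnc 1 (Cfsg.spGL d F).one_mem
  rw [inv_one, one_mul, mul_one, h.mem_normalizer_iff hd h2]
  left
  rw [hz, Matrix.smul_mul, Matrix.one_mul, Matrix.mul_smul, Matrix.mul_one]

end d2

end Cfsg.Agent.Lib.H23.SpU
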