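import Mathlib
import Cfsg.Agent.Lib.H24.ElusTiTypes

set_option autoImplicit false

/-!
# Elements of odd prime order of `Sp` with an odd-dimensional homogeneous component (helper23)

For `i = ord_r q` odd and `s` an irreducible factor of the `r`-th cyclotomic polynomial there is an
element of order `r` of `Sp_{2 i}(q)` with `dim ker s(x) = i` (`exists_odd_type`).
-/

namespace Cfsg.Agent.Lib.H23.SpU

open Module Polynomial
open Cfsg.Agent.Lib.H13 Cfsg.Agent.Lib.H24.Elus

section galois

variable {F : Type*} [Field F] {E : Type*} [Field E] [Algebra F E] [FiniteDimensional F E]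

/-- a field extension of odd degree has no automorphism of order two -/
theorem odd_no_involution (hodd : Odd (finrank F E)) (σ : E →ₐ[F] E)
    (hσσ : σ.comp σ = AlgHom.id F E) (hne : σ ≠ AlgHom.id F E) : False := by
  set σe : E ≃ₐ[F] E := AlgEquiv.ofAlgHom σ σ hσσ hσσ with hσe
  have h1 : σe ^ 2 = 1 := by
    rw [pow_two]
    apply AlgEquiv.ext
    intro x
    have := congrArg (fun f : E →ₐ[F] E => f x) hσσ
    exact this
  have h2 : σe ≠ 1 := by
    intro h
    apply hne
    apply AlgHom.ext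
    intro x
    have := congrArg (fun f : E ≃ₐ[F] E => f x) h
    exact this
  have hord : orderOf σe = 2 := orderOf_eq_prime h1 h2
  have hcard : Nat.card (Subgroup.zpowers σe) = 2 := by rw [Nat.card_zpowers, hord]
  have h3 := IntermediateField.finrank_fixedField_eq_card (F := F) (E := E) (Subgroup.zpowers σe)
  rw [hcard] at h3
  have h4 := Module.finrank_mul_finrank F (IntermediateField.fixedField (Subgroup.zpowers σe)) E
  rw [h3] at h4
  rw [← h4] at hodd
  exact (Nat.not_even_iff_odd.mpr hodd) ⟨_, by ring⟩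

end galois

section adjoin

variable {F : Type*} [Field F] [Fintype F] {p q : ℕ} [Fact p.Prime] [CharP F p]

/-- for `ord_r q` odd the inverse of a root of an irreducible factor `s` of the cyclotomic
polynomial is not a root of `s` -/
theorem aeval_inv_root_ne_zero [DecidableEq F] (hF : Fintype.card F = q) (r : ℕ) [Fact r.Prime]
    (hrp : r ≠ p) (hr2 : r ≠ 2) (hodd : Odd (orderOf (q : ZMod r))) (s : CycFactor.S r F)
    [Fact (Irreducible s.1)] :
    aeval (AdjoinRoot.root s.1)⁻¹ s.1 ≠ 0 := by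
  have hr : r.Prime := Fact.out
  have hs0 : s.1 ≠ 0 := (CycFactor.irreducible_S s).ne_zero
  let pb := AdjoinRoot.powerBasis hs0
  haveI : Module.Finite F (AdjoinRoot s.1) := pb.finite
  have hdim : finrank F (AdjoinRoot s.1) = orderOf (q : ZMod r) := by
    rw [pb.finrank, AdjoinRoot.powerBasis_dim, CycFactor.natDegree_S hF hr hrp s]
  set ρ := AdjoinRoot.root s.1 with hρ
  have hρr : ρ ^ r = 1 := by
    have h1 : aeval ρ (X ^ r - 1 : F[X]) = 0 := by
      rw [hρ, AdjoinRoot.aeval_eq, AdjoinRoot.mk_eq_zero]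
      exact (CycFactor.dvd_S s).trans ⟨X - 1, (cyclotomic_prime_mul_X_sub_one F r).symm⟩
    rw [map_sub, map_pow, aeval_X, map_one, sub_eq_zero] at h1
    exact h1
  have hρ1 : ρ ≠ 1 := by
    intro h
    have h1 : aeval ρ (X - 1 : F[X]) = 0 := by
      rw [map_sub, aeval_X, map_one, h, sub_self]
    rw [hρ, AdjoinRoot.aeval_eq, AdjoinRoot.mk_eq_zero] at h1
    have hirr : Irreducible (X - 1 : F[X]) := by
      rw [← C_1]; exact irreducible_X_sub_C 1
    have hassoc := (CycFactor.irreducible_S s).associated_of_dvd hirr h1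
    exact CycFactor.not_dvd_S hr hrp s hassoc.symm.dvd
  have hρ0 : ρ ≠ 0 := by
    intro h
    rw [h, zero_pow hr.ne_zero] at hρr
    exact zero_ne_one hρr
  have hρ2 : ρ * ρ ≠ 1 := by
    intro h
    have h1 : orderOf ρ ∣ 2 := orderOf_dvd_of_pow_eq_one (by rw [pow_two]; exact h)
    have h2 : orderOf ρ = r := orderOf_eq_prime hρr hρ1
    rw [h2] at h1
    have := (Nat.prime_dvd_prime_iff_eq hr Nat.prime_two).mp h1
    exact hr2 this
  intro hzero
  have hzero' : eval₂ (Algebra.ofId F (AdjoinRoot s.1) : F →+* AdjoinRoot s.1) ρ⁻¹ s.1 = 0 := hzero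
  set σ : AdjoinRoot s.1 →ₐ[F] AdjoinRoot s.1 :=
    AdjoinRoot.liftAlgHom s.1 (Algebra.ofId F (AdjoinRoot s.1)) ρ⁻¹ hzero' with hσ
  have hσρ : σ ρ = ρ⁻¹ := AdjoinRoot.liftAlgHom_root _ _ _ _
  apply odd_no_involution (F := F) (E := AdjoinRoot s.1) (by rw [hdim]; exact hodd) σ
  · apply AdjoinRoot.algHom_ext
    rw [AlgHom.comp_apply, AlgHom.id_apply]
    show σ (σ ρ) = ρ
    rw [hσρ, map_inv₀, hσρ, inv_inv]
  · intro h
    have := congrArg (fun f : AdjoinRoot s.1 →ₐ[F] AdjoinRoot s.1 => f ρ) h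
    simp only [AlgHom.id_apply] at this
    rw [hσρ] at this
    apply hρ2
    nth_rewrite 1 [← this]
    exact inv_mul_cancel₀ hρ0

end adjoin

section transpose

variable {F : Type*} [Field F] {M : Type*} [AddCommGroup M] [Module F M]

theorem aeval_transpose (u : End F M) (P : F[X]) :
    aeval (Module.Dual.transpose (R := F) u : End F (Module.Dual F M)) P =
      Module.Dual.transpose (R := F) (aeval u P) := by
  induction P using Polynomial.induction_on' with
  | add a b ha hb => rw [map_add, map_add, ha, hb, map_add]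
  | monomial n c =>
    rw [← C_mul_X_pow_eq_monomial, map_mul, map_mul, aeval_C, aeval_C, map_pow, map_pow, aeval_X,
      aeval_X, transpose_pow, Algebra.algebraMap_eq_smul_one, Algebra.algebraMap_eq_smul_one,
      smul_mul_assoc, smul_mul_assoc, one_mul, one_mul, map_smul]

theorem transpose_injective_of_surjective (w : End F M) (hw : Function.Surjective w) :
    Function.Injective (Module.Dual.transpose (R := F) w : End F (Module.Dual F M)) := by
  intro φ ψ h
  apply LinearMap.ext
  intro v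
  obtain ⟨v', rfl⟩ := hw v
  have := congrArg (fun f : Module.Dual F M => f v') h
  simpa [Module.Dual.transpose_apply] using this

end transpose

section oddtype

variable {F : Type*} [Field F] [Fintype F] {p q : ℕ} [Fact p.Prime] [CharP F p]

/-- an element of order `r` of `Sp_{2i}(q)`, `i = ord_r q` odd, with `dim ker s(x) = i` -/
theorem exists_odd_type [DecidableEq F] (hF : Fintype.card F = q) (r : ℕ) [Fact r.Prime]
    (hrp : r ≠ p) (hr2 : r ≠ 2) (hodd : Odd (orderOf (q : ZMod r))) (s : CycFactor.S r F) :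
    ∃ x : ↥(Matrix.symplecticGroup (Fin (orderOf (q : ZMod r))) F),
      (x : Matrix (Fin (orderOf (q : ZMod r)) ⊕ Fin (orderOf (q : ZMod r)))
        (Fin (orderOf (q : ZMod r)) ⊕ Fin (orderOf (q : ZMod r))) F) ^ r = 1 ∧
      finrank F (LinearMap.ker (aeval (Matrix.toLin'
        (x : Matrix (Fin (orderOf (q : ZMod r)) ⊕ Fin (orderOf (q : ZMod r)))
        (Fin (orderOf (q : ZMod r)) ⊕ Fin (orderOf (q : ZMod r))) F)) s.1)) =
          orderOf (q : ZMod r) := by
  have hr : r.Prime := Fact.out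
  have hs0 : s.1 ≠ 0 := (CycFactor.irreducible_S s).ne_zero
  haveI : Fact (Irreducible s.1) := ⟨CycFactor.irreducible_S s⟩
  let pb := AdjoinRoot.powerBasis hs0
  haveI : Module.Finite F (AdjoinRoot s.1) := pb.finite
  have hMdim : finrank F (AdjoinRoot s.1) = orderOf (q : ZMod r) := by
    rw [pb.finrank, AdjoinRoot.powerBasis_dim, CycFactor.natDegree_S hF hr hrp s]
  set ρ := AdjoinRoot.root s.1 with hρ
  obtain ⟨y, hy⟩ : ∃ y : End F (AdjoinRoot s.1),
      y = Algebra.lmul F (AdjoinRoot s.1) ρ := ⟨_, rfl⟩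
  have haev : ∀ g : F[X], aeval y g = Algebra.lmul F (AdjoinRoot s.1) (AdjoinRoot.mk s.1 g) := by
    intro g
    rw [hy, aeval_algHom_apply, hρ, AdjoinRoot.aeval_eq]
  have hys : aeval y s.1 = 0 := by
    rw [haev, AdjoinRoot.mk_self, map_zero]
  have hyr : y ^ r = 1 := by
    have h1 : aeval y (X ^ r - 1 : F[X]) = 0 := by
      rw [haev, AdjoinRoot.mk_eq_zero.mpr
        ((CycFactor.dvd_S s).trans ⟨X - 1, (cyclotomic_prime_mul_X_sub_one F r).symm⟩), map_zero]
    rw [map_sub, map_pow, aeval_X, map_one, sub_eq_zero] at h1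
    exact h1
  have hρr : ρ ^ r = 1 := by
    have h1 : (Algebra.lmul F (AdjoinRoot s.1) (ρ ^ r)) = 1 := by
      rw [map_pow, ← hy, hyr]
    have := congrArg (fun f : End F (AdjoinRoot s.1) => f 1) h1
    simpa using this
  have hρinv : ρ ^ (r - 1) = ρ⁻¹ := by
    have hρ0 : ρ ≠ 0 := by
      intro h
      rw [h, zero_pow hr.ne_zero] at hρr
      exact zero_ne_one hρr
    apply eq_inv_of_mul_eq_one_left
    rw [← pow_succ, Nat.sub_add_cancel hr.pos, hρr]
  -- the hyperbolic double
  obtain ⟨z, hz⟩ : ∃ z : End F (AdjoinRoot s.1 × Module.Dual F (AdjoinRoot s.1)),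
      z = hypMap y (y ^ (r - 1)) := ⟨_, rfl⟩
  have hziso : ∀ u v, hypB (F := F) (M := AdjoinRoot s.1) (z u) (z v) = hypB u v := by
    rw [hz]
    exact hypMap_iso y (y ^ (r - 1)) (mul_pow_pred hr.pos hyr)
  have hzr : z ^ r = 1 := by
    rw [hz, hypMap_pow, hyr, ← pow_mul, mul_comm, pow_mul, hyr, one_pow]
    apply LinearMap.ext
    intro v
    rw [hypMap_apply]
    rfl
  have hVdim : finrank F (AdjoinRoot s.1 × Module.Dual F (AdjoinRoot s.1)) =
      2 * orderOf (q : ZMod r) := by
    rw [Module.finrank_prod, Subspace.dual_finrank_eq, hMdim]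
    ring
  obtain ⟨x, hxr, hxk⟩ := exists_sp_of_isometry (hypB (F := F) (M := AdjoinRoot s.1)) hypB_alt
    hypB_nd (orderOf (q : ZMod r)) hVdim z hziso r hzr
  refine ⟨x, hxr, ?_⟩
  rw [hxk s.1, hz]
  show finrank F (LinearMap.ker (aeval (y.prodMap (Module.Dual.transpose (R := F) (y ^ (r - 1))))
    s.1)) = _
  rw [finrank_ker_aeval_prodMap, hys, LinearMap.ker_zero, finrank_top, hMdim]
  -- the dual part has trivial kernel
  have hw : aeval (y ^ (r - 1)) s.1 = Algebra.lmul F (AdjoinRoot s.1) (aeval ρ⁻¹ s.1) := by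
    rw [hy, ← map_pow, aeval_algHom_apply, hρinv]
  have hw0 := aeval_inv_root_ne_zero hF r hrp hr2 hodd s
  have hsurj : Function.Surjective (aeval (y ^ (r - 1)) s.1) := by
    intro v
    refine ⟨(aeval ρ⁻¹ s.1)⁻¹ * v, ?_⟩
    rw [hw]
    show aeval ρ⁻¹ s.1 * ((aeval ρ⁻¹ s.1)⁻¹ * v) = v
    rw [← mul_assoc, mul_inv_cancel₀ hw0, one_mul]
  have hker : LinearMap.ker (aeval (Module.Dual.transpose (R := F) (y ^ (r - 1)) :
      End F (Module.Dual F (AdjoinRoot s.1))) s.1) = ⊥ := by
    rw [aeval_transpose, LinearMap.ker_eq_bot]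
    exact transpose_injective_of_surjective _ hsurj
  rw [hker, finrank_bot, add_zero]

end oddtype

end Cfsg.Agent.Lib.H23.SpU
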