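import Mathlib
import Cfsg.Agent.Lib.H23.SpUI
import Cfsg.Agent.Lib.H23.SpUJ

set_option autoImplicit false

/-!
# Elements of odd prime order `r ≠ p` of `Sp_{2d}(q)` with `ord_r q` odd not conjugate into the
normalizer of `K` (helper23)
-/

namespace Cfsg.Agent.Lib.H23.SpU

open Module Matrix Polynomial
open Cfsg.Agent.Lib.H13 Cfsg.Agent.Lib.H13.SpInvolCount Cfsg.Agent.Lib.H24.Elus

section oddinv

variable {F : Type*} [Field F] {V : Type*} [AddCommGroup V] [Module F V] [FiniteDimensional F V]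

/-- an endomorphism with square `δ` preserving an odd-dimensional subspace forces `δ` to be a
square -/
theorem exists_sq_of_odd_invariant (A : End F V) (δ : F) (hδ : δ ≠ 0) (hA : ∀ v, A (A v) = δ • v)
    (U : Submodule F V) (hU : ∀ v ∈ U, A v ∈ U) (hodd : Odd (finrank F U)) :
    ∃ c : F, c * c = δ := by
  set A' : End F U := A.restrict hU with hA'
  have h1 : A' * A' = δ • (1 : End F U) := by
    apply LinearMap.ext
    intro u
    apply Subtype.ext
    exact hA u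
  have h2 := congrArg LinearMap.det h1
  rw [map_mul, LinearMap.det_smul, map_one, mul_one] at h2
  obtain ⟨k, hk⟩ := hodd
  rw [hk, pow_succ, pow_mul] at h2
  refine ⟨LinearMap.det A' * (δ ^ k)⁻¹, ?_⟩
  have hδk : δ ^ k ≠ 0 := pow_ne_zero k hδ
  field_simp
  rw [pow_two, h2]
  ring

end oddinv

section d1

variable {F : Type*} [Field F] [Fintype F] {p q : ℕ} [Fact p.Prime] [CharP F p]

theorem ker_aeval_one_eq_bot [DecidableEq F] (r : ℕ) [Fact r.Prime] (hrp : r ≠ p)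
    (s : CycFactor.S r F) {V : Type*} [AddCommGroup V] [Module F V] :
    LinearMap.ker (aeval (1 : End F V) s.1) = ⊥ := by
  have hr : r.Prime := Fact.out
  have h1 : aeval (1 : End F V) s.1 = (s.1.eval 1) • (1 : End F V) := by
    have e : (1 : End F V) = algebraMap F (End F V) 1 := (map_one _).symm
    rw [e, aeval_algebraMap_apply, Algebra.algebraMap_eq_smul_one, ← e]
    congr 1
  have hev : s.1.eval 1 ≠ 0 := by
    intro h0
    apply CycFactor.not_dvd_S hr hrp s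
    have : (X - C 1 : F[X]) ∣ s.1 := dvd_iff_isRoot.mpr h0
    rwa [C_1] at this
  rw [h1, LinearMap.ker_eq_bot]
  intro u v huv
  simp only [LinearMap.smul_apply, Module.End.one_apply] at huv
  exact smul_right_injective _ hev huv

/-- an element of order `r` of `Sp_{2d}(q)` with `dim ker s(x) = ord_r q` odd -/
theorem exists_odd_elem [DecidableEq F] (hF : Fintype.card F = q) (r : ℕ) [Fact r.Prime]
    (hrp : r ≠ p) (hr2 : r ≠ 2) (hodd : Odd (orderOf (q : ZMod r))) (s : CycFactor.S r F) :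
    ∀ d, orderOf (q : ZMod r) ≤ d → ∃ x : ↥(Matrix.symplecticGroup (Fin d) F),
      (x : Matrix (Fin d ⊕ Fin d) (Fin d ⊕ Fin d) F) ^ r = 1 ∧
      finrank F (LinearMap.ker (aeval (Matrix.toLin'
        (x : Matrix (Fin d ⊕ Fin d) (Fin d ⊕ Fin d) F)) s.1)) = orderOf (q : ZMod r) := by
  intro d hid
  obtain ⟨e, rfl⟩ : ∃ e, d = orderOf (q : ZMod r) + e := ⟨d - orderOf (q : ZMod r), by omega⟩
  obtain ⟨x₁, hx₁, hk₁⟩ := exists_odd_type hF r hrp hr2 hodd s
  obtain ⟨x, hx, hk⟩ := exists_sp_sum (orderOf (q : ZMod r)) e x₁ 1 r hx₁ (one_pow r)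
  refine ⟨x, hx, ?_⟩
  rw [hk, hk₁]
  have h1 : Matrix.toLin' ((1 : ↥(Matrix.symplecticGroup (Fin e) F)) :
      Matrix (Fin e ⊕ Fin e) (Fin e ⊕ Fin e) F) = 1 := by
    show Matrix.toLin' (1 : Matrix (Fin e ⊕ Fin e) (Fin e ⊕ Fin e) F) = 1
    rw [Matrix.toLin'_one]
    rfl
  rw [h1, ker_aeval_one_eq_bot r hrp s, finrank_bot, add_zero]

variable {d : ℕ}

/-- `ord_r q` odd and at most `d`: an element of order `r` no conjugate of which normalizes `K` -/
theorem KData.exists_d1 {K : Subalgebra F (Matrix (Fin d ⊕ Fin d) (Fin d ⊕ Fin d) F)}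
    {α : Matrix (Fin d ⊕ Fin d) (Fin d ⊕ Fin d) F} {δ : F} (h : KData K α δ) (hd : 1 ≤ d)
    (h2 : (2 : F) ≠ 0) (hF : Fintype.card F = q)
    (r : ℕ) [Fact r.Prime] (hrp : r ≠ p) (hr2 : r ≠ 2)
    (hodd : Odd (orderOf (q : ZMod r))) (hid : orderOf (q : ZMod r) ≤ d) :
    ∃ x : GL (Fin d ⊕ Fin d) F, x ∈ Cfsg.spGL d F ∧ x ^ r = 1 ∧
      (∀ z : F, (x : Matrix (Fin d ⊕ Fin d) (Fin d ⊕ Fin d) F) ≠ z • 1) ∧
      ∀ g ∈ Cfsg.spGL d F, g⁻¹ * x * g ∉ Cfsg.Geo.subalgebraNormalizer K := by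
  classical
  have hr : r.Prime := Fact.out
  have hrodd : Odd r := hr.odd_of_ne_two hr2
  obtain ⟨s₀⟩ := nonempty_S (F := F) hF r hrp hr2
  obtain ⟨Xm, hXr, hXk⟩ := exists_odd_elem hF r hrp hr2 hodd s₀ d hid
  have hnc : ∀ g ∈ Cfsg.spGL d F, g⁻¹ * glOfPow' Xm r hr.pos hXr * g ∉
      Cfsg.Geo.subalgebraNormalizer K := by
    intro g hg hmem
    set y := g⁻¹ * glOfPow' Xm r hr.pos hXr * g with hy
    have hyr : y ^ r = 1 := by
      have e : y ^ r = g⁻¹ * (glOfPow' Xm r hr.pos hXr) ^ r * g := by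
        have := conj_pow (a := g⁻¹) (b := glOfPow' Xm r hr.pos hXr) (i := r)
        rw [inv_inv] at this
        exact this
      rw [e, glOfPow'_pow, mul_one, inv_mul_cancel]
    have hcomm := h.comm_of_odd hd h2 y hmem r hrodd 1 (by rw [hyr, one_smul]; rfl)
    set Y := Matrix.toLin' (y : Matrix (Fin d ⊕ Fin d) (Fin d ⊕ Fin d) F) with hY
    have hdim : finrank F (LinearMap.ker (aeval Y s₀.1)) = orderOf (q : ZMod r) := by
      rw [hY, hy, finrank_ker_conj, glOfPow'_val]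
      exact hXk
    have hustr := ustr_of_matrix α δ h.sq h.skew
    have hAy : ∀ v, Matrix.toLin' α (Y v) = Y (Matrix.toLin' α v) := by
      intro v
      rw [hY, Matrix.toLin'_apply, Matrix.toLin'_apply, Matrix.toLin'_apply, Matrix.toLin'_apply,
        Matrix.mulVec_mulVec, Matrix.mulVec_mulVec, hcomm]
    have hAU : ∀ v ∈ LinearMap.ker (aeval Y s₀.1),
        Matrix.toLin' α v ∈ LinearMap.ker (aeval Y s₀.1) := by
      intro v hv
      rw [LinearMap.mem_ker] at hv ⊢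
      rw [← SSClass.aeval_intertwine Y Y (Matrix.toLin' α) hAy s₀.1 v, hv, map_zero]
    obtain ⟨c, hc⟩ := exists_sq_of_odd_invariant (Matrix.toLin' α) δ h.delta_ne hustr.sq _ hAU
      (by rw [hdim]; exact hodd)
    exact h.nsq c hc
  refine ⟨glOfPow' Xm r hr.pos hXr, glOfPow'_mem Xm r hr.pos hXr, glOfPow'_pow _ r hr.pos hXr,
    ?_, hnc⟩
  intro z hz
  apply hnc 1 (Cfsg.spGL d F).one_mem
  rw [inv_one, one_mul, mul_one, h.mem_normalizer_iff hd h2]
  left
  rw [hz, Matrix.smul_mul, Matrix.one_mul, Matrix.mul_smul, Matrix.mul_one]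

end d1

end Cfsg.Agent.Lib.H23.SpU
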