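import Mathlib
import Cfsg.Agent.Lib.H23.SpUD

set_option autoImplicit false

/-!
# Transvections are not conjugate into the normalizer of `K` (helper23)
-/

namespace Cfsg.Agent.Lib.H23.SpU

open Module Matrix
open Cfsg.Agent.Lib.H13 Cfsg.Agent.Lib.H13.SpInvolCount Cfsg.Agent.Lib.H4

section unip

variable {F : Type*} [Field F] {d : ℕ}

theorem sympTransvection_zero' (v : Fin d ⊕ Fin d → F) : Cfsg.sympTransvection d v (0 : F) = 1 := by
  simp [Cfsg.sympTransvection]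

/-- the transvection as an element of `GL` -/
noncomputable def tvGL (v : Fin d ⊕ Fin d → F) : GL (Fin d ⊕ Fin d) F :=
  ⟨Cfsg.sympTransvection d v 1, Cfsg.sympTransvection d v (-1),
    by rw [sympTransvection_mul, add_neg_cancel, sympTransvection_zero'],
    by rw [sympTransvection_mul, neg_add_cancel, sympTransvection_zero']⟩

theorem tvGL_val (v : Fin d ⊕ Fin d → F) :
    ((tvGL v : GL (Fin d ⊕ Fin d) F) : Matrix (Fin d ⊕ Fin d) (Fin d ⊕ Fin d) F) =
      Cfsg.sympTransvection d v 1 := rfl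

theorem tvGL_mem (v : Fin d ⊕ Fin d → F) : tvGL v ∈ Cfsg.spGL d F := by
  rw [mem_spGL_iff, tvGL_val]
  exact (mem_symplecticGroup_iff_sympForm d _).mp (sympTransvection_mem d v 1)

theorem tv_pow (v : Fin d ⊕ Fin d → F) (n : ℕ) :
    (Cfsg.sympTransvection d v (1 : F)) ^ n = Cfsg.sympTransvection d v (n : F) := by
  induction n with
  | zero => rw [pow_zero, Nat.cast_zero, sympTransvection_zero']
  | succ n ih => rw [pow_succ, ih, sympTransvection_mul, Nat.cast_succ]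

theorem tvGL_pow (v : Fin d ⊕ Fin d → F) (p : ℕ) [CharP F p] :
    ((tvGL v ^ p : GL (Fin d ⊕ Fin d) F) : Matrix (Fin d ⊕ Fin d) (Fin d ⊕ Fin d) F) = 1 := by
  rw [Units.val_pow_eq_pow_val, tvGL_val, tv_pow, CharP.cast_eq_zero, sympTransvection_zero']

theorem exists_form_ne (v : Fin d ⊕ Fin d → F) (hv : v ≠ 0) :
    ∃ w, Cfsg.sympForm d F w v ≠ 0 := by
  by_contra hcon
  push Not at hcon
  apply hv
  apply (sympB_nondeg (F := F) d).2
  intro w
  rw [sympB_apply]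
  exact hcon w

theorem tvGL_not_scalar (v : Fin d ⊕ Fin d → F) (hv : v ≠ 0) (z : F) :
    ((tvGL v : GL (Fin d ⊕ Fin d) F) : Matrix (Fin d ⊕ Fin d) (Fin d ⊕ Fin d) F) ≠
      z • (1 : Matrix (Fin d ⊕ Fin d) (Fin d ⊕ Fin d) F) := by
  intro h
  rw [tvGL_val] at h
  have h1 : ∀ w, w + (1 * Cfsg.sympForm d F w v) • v = z • w := by
    intro w
    rw [← sympTransvection_mulVec, h, Matrix.smul_mulVec, Matrix.one_mulVec]
  have hz : z = 1 := by
    have := h1 v
    rw [sympForm_self, mul_zero, zero_smul, add_zero] at this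
    have h3 : (1 - z) • v = 0 := by rw [sub_smul, one_smul, ← this, sub_self]
    rcases smul_eq_zero.mp h3 with h' | h'
    · exact (sub_eq_zero.mp h').symm
    · exact absurd h' hv
  obtain ⟨w, hw⟩ := exists_form_ne v hv
  have := h1 w
  rw [hz, one_smul, one_mul, add_eq_left] at this
  rcases smul_eq_zero.mp this with h' | h'
  · exact hw h'
  · exact hv h'

/-- no conjugate of a transvection normalizes `K` -/
theorem KData.tv_not_conj {K : Subalgebra F (Matrix (Fin d ⊕ Fin d) (Fin d ⊕ Fin d) F)}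
    {α : Matrix (Fin d ⊕ Fin d) (Fin d ⊕ Fin d) F} {δ : F} (h : KData K α δ) (hd : 1 ≤ d)
    (h2 : (2 : F) ≠ 0) (p : ℕ) [CharP F p] (hp : Odd p)
    (v : Fin d ⊕ Fin d → F) (hv : v ≠ 0) (g : GL (Fin d ⊕ Fin d) F) :
    g⁻¹ * tvGL v * g ∉ Cfsg.Geo.subalgebraNormalizer K := by
  intro hmem
  have hpow : (((g⁻¹ * tvGL v * g) ^ p : GL (Fin d ⊕ Fin d) F) :
      Matrix (Fin d ⊕ Fin d) (Fin d ⊕ Fin d) F) = (1 : F) • 1 := by
    have e : (g⁻¹ * tvGL v * g) ^ p = g⁻¹ * (tvGL v) ^ p * g := by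
      have := conj_pow (a := g⁻¹) (b := tvGL v) (i := p)
      rw [inv_inv] at this
      exact this
    have e1 : (tvGL v) ^ p = 1 := Units.ext (tvGL_pow v p)
    rw [e, e1, mul_one, inv_mul_cancel, one_smul]
    rfl
  have hcomm := h.comm_of_odd hd h2 _ hmem p hp 1 hpow
  set G : Matrix (Fin d ⊕ Fin d) (Fin d ⊕ Fin d) F := (g : Matrix (Fin d ⊕ Fin d) (Fin d ⊕ Fin d) F)
    with hG
  set Gi : Matrix (Fin d ⊕ Fin d) (Fin d ⊕ Fin d) F :=
    ((g⁻¹ : GL (Fin d ⊕ Fin d) F) : Matrix (Fin d ⊕ Fin d) (Fin d ⊕ Fin d) F) with hGi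
  -- the action of the conjugate
  have hact : ∀ w, ((g⁻¹ * tvGL v * g : GL (Fin d ⊕ Fin d) F) :
      Matrix (Fin d ⊕ Fin d) (Fin d ⊕ Fin d) F) *ᵥ w =
      w + Cfsg.sympForm d F (G *ᵥ w) v • (Gi *ᵥ v) := by
    intro w
    rw [Units.val_mul, Units.val_mul, tvGL_val, ← Matrix.mulVec_mulVec, ← Matrix.mulVec_mulVec,
      sympTransvection_mulVec, one_mul, Matrix.mulVec_add, Matrix.mulVec_smul,
      Matrix.mulVec_mulVec, gl_inv_mul, Matrix.one_mulVec]
  set v' := Gi *ᵥ v with hv'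
  have hv'0 : v' ≠ 0 := by
    intro h0
    apply hv
    have : v = G *ᵥ v' := by
      rw [hv', Matrix.mulVec_mulVec, gl_mul_inv, Matrix.one_mulVec]
    rw [this, h0, Matrix.mulVec_zero]
  obtain ⟨w₀, hw₀⟩ := exists_form_ne v hv
  set w := Gi *ᵥ w₀ with hw
  have hGw : G *ᵥ w = w₀ := by
    rw [hw, Matrix.mulVec_mulVec, gl_mul_inv, Matrix.one_mulVec]
  have key := congrArg (fun M : Matrix (Fin d ⊕ Fin d) (Fin d ⊕ Fin d) F => M *ᵥ w) hcomm
  simp only [← Matrix.mulVec_mulVec] at key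
  rw [hact, hact, hGw, Matrix.mulVec_add, Matrix.mulVec_smul, add_right_inj] at key
  -- `α v' = c v'`
  set c := (Cfsg.sympForm d F w₀ v)⁻¹ * Cfsg.sympForm d F (G *ᵥ (α *ᵥ w)) v with hc
  have hαv : α *ᵥ v' = c • v' := by
    rw [hc, mul_smul, key, smul_smul, inv_mul_cancel₀ hw₀, one_smul]
  have hsq : α *ᵥ (α *ᵥ v') = δ • v' := by
    rw [Matrix.mulVec_mulVec, h.sq, Matrix.smul_mulVec, Matrix.one_mulVec]
  rw [hαv, Matrix.mulVec_smul, hαv, smul_smul] at hsq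
  have h3 : (c * c - δ) • v' = 0 := by rw [sub_smul, hsq, sub_self]
  rcases smul_eq_zero.mp h3 with h' | h'
  · exact h.nsq c (sub_eq_zero.mp h')
  · exact hv'0 h'

end unip

end Cfsg.Agent.Lib.H23.SpU
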