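import Mathlib
import Cfsg.Agent.S0925
import Cfsg.Agent.S0942
import Cfsg.Agent.Lib.L0.SectionSum
import Cfsg.Agent.Lib.L0.TransferPC
import Cfsg.Agent.Lib.H16.SylowBasic
import Cfsg.Agent.Lib.H23.BlockOrth
import Cfsg.Agent.Lib.H8.BSWLfun

/-!
# Principal block on the `p`-singular elements when all `p`-elements are conjugate (helper23)

Setting (`KW.Hyp`): `P` an elementary abelian Sylow `p`-subgroup of `G`, all of `P#` conjugate in
`G`, `C_G(x)` has a normal `p`-complement for `x ∈ P` of order `p`, `a ∈ P#`.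

* `KW.Hyp.exists_conj_of_pElement` : every `p`-element `≠ 1` is conjugate to `a`;
* `KW.Hyp.const_on_singular` : `χ g = χ a` for `χ` in the principal block and `g` `p`-singular;
* `KW.Hyp.sum_mul_regular` : `∑_{χ ∈ B₀} χ(a) χ(s) = 0` for `p`-regular `s`;
* `KW.Hyp.sum_sq` : `∑_{χ ∈ B₀} χ(a) χ(a) = |P|`;
* `KW.Hyp.psi_eq` : `∑_{χ ∈ B₀} χ(a) χ(g) = if p ∣ orderOf g then |P| else 0`.
-/

set_option autoImplicit false

namespace Cfsg.Agent.Lib.H23.KW

open Cfsg
open scoped ComplexConjugate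

variable {G : Type*} [Group G] [Finite G] {p : ℕ} [Fact p.Prime]

/-- The hypotheses. -/
structure Hyp (p : ℕ) [Fact p.Prime] (P : Sylow p G) (a : G) : Prop where
  elem : Cfsg.IsElementaryAbelian p (P : Subgroup G)
  fus : ∀ x ∈ (P : Subgroup G), ∀ y ∈ (P : Subgroup G), x ≠ 1 → y ≠ 1 → ∃ g : G, g * x * g⁻¹ = y
  npc : ∀ x ∈ (P : Subgroup G), orderOf x = p →
    Cfsg.HasNormalPComplement p ↥(Subgroup.centralizer ({x} : Set G))
  mem : a ∈ (P : Subgroup G)
  ne_one : a ≠ 1

namespace Hyp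

variable {P : Sylow p G} {a : G}

theorem orderOf_eq (h : Hyp p P a) : orderOf a = p :=
  orderOf_eq_prime (h.elem.2 a h.mem) h.ne_one

theorem pElement (h : Hyp p P a) : ∃ k : ℕ, orderOf a = p ^ k := ⟨1, by rw [h.orderOf_eq, pow_one]⟩

/-- Every nontrivial `p`-element is conjugate to `a`. -/
theorem exists_conj_of_pElement (h : Hyp p P a) {u : G} (hu : ∃ k : ℕ, orderOf u = p ^ k)
    (hu1 : u ≠ 1) : ∃ t : G, t * a * t⁻¹ = u := by
  have hA : IsPGroup p (Subgroup.zpowers u) := by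
    obtain ⟨k, hk⟩ := hu
    apply IsPGroup.of_card (n := k)
    rw [Nat.card_zpowers, hk]
  obtain ⟨g, hg⟩ := Cfsg.Agent.Lib.H16.exists_conj_mem_sylow (Subgroup.zpowers u) hA P
  have hgu : g * u * g⁻¹ ∈ (P : Subgroup G) := hg u (Subgroup.mem_zpowers u)
  have hgu1 : g * u * g⁻¹ ≠ 1 := by
    intro h1
    apply hu1
    have : u = g⁻¹ * (g * u * g⁻¹) * g := by group
    rw [this, h1]; group
  obtain ⟨s, hs⟩ := h.fus a h.mem _ hgu h.ne_one hgu1
  refine ⟨g⁻¹ * s, ?_⟩
  have : g⁻¹ * s * a * (g⁻¹ * s)⁻¹ = g⁻¹ * (s * a * s⁻¹) * g := by group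
  rw [this, hs]; group

/-- The `p`-regular elements of `C_G(a)` lie in `O_{p'}(C_G(a))`. -/
theorem mem_core_of_regular (h : Hyp p P a) {y : G} (hy : y ∈ Subgroup.centralizer ({a} : Set G))
    (hreg : ¬ p ∣ orderOf y) : y ∈ Cfsg.centralizerPPrimeCore p a := by
  have hp : p.Prime := Fact.out
  obtain ⟨N, hN, hpN, k, hk⟩ :=
    Cfsg.Agent.Lib.L0.HasNormalPComplement.exists_normal (h.npc a h.mem h.orderOf_eq)
  have := hN
  have hcop : Nat.Coprime (orderOf (⟨y, hy⟩ : Subgroup.centralizer ({a} : Set G))) p := by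
    rw [Subgroup.orderOf_mk]
    exact ((Nat.Prime.coprime_iff_not_dvd hp).2 hreg).symm
  have hyN := Cfsg.Agent.Lib.L0.mem_of_coprime_orderOf_of_index_pow N k hk _ hcop
  refine ⟨⟨y, hy⟩, ?_, rfl⟩
  have hle : N ≤ Cfsg.pPrimeCore p ↥(Subgroup.centralizer ({a} : Set G)) := by
    apply le_sSup
    exact ⟨hN, (Nat.Prime.coprime_iff_not_dvd hp).2 hpN |>.symm⟩
  exact hle hyN

/-- **(F2)** A character of the principal block takes the value `χ a` at every `p`-singular
element. -/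
theorem const_on_singular (h : Hyp p P a) {M : Ideal AlgInt} (hM : IsPModular p M)
    (χ : IrrCharacter G) (hχ : χ ∈ principalBlock M G) {g : G} (hg : p ∣ orderOf g) :
    (χ : G → ℂ) g = (χ : G → ℂ) a := by
  have hp : p.Prime := Fact.out
  obtain ⟨u, y, hy1, hy2, hy3, hy4⟩ :=
    Cfsg.Agent.Lib.H23.exists_isPPart hp g (isOfFinOrder_of_finite g)
  have hu1 : u ≠ 1 := by
    rintro rfl
    rw [one_mul] at hy1
    rw [← hy1] at hg
    exact hy4 hg
  obtain ⟨t, ht⟩ := h.exists_conj_of_pElement hy3 hu1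
  have hg' : t⁻¹ * g * t⁻¹⁻¹ = a * (t⁻¹ * y * t) := by
    rw [← hy1, ← ht]; group
  have hy'C : t⁻¹ * y * t ∈ Subgroup.centralizer ({a} : Set G) := by
    rw [Subgroup.mem_centralizer_singleton_iff]
    have e : u * y = y * u := hy2.eq
    rw [← ht] at e
    calc t⁻¹ * y * t * a = t⁻¹ * (y * (t * a * t⁻¹)) * t := by group
      _ = t⁻¹ * ((t * a * t⁻¹) * y) * t := by rw [e]
      _ = a * (t⁻¹ * y * t) := by group
  have hy'reg : ¬ p ∣ orderOf (t⁻¹ * y * t) := by
    have : orderOf (t⁻¹ * y * t) = orderOf y := by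
      have := (MulAut.conj t⁻¹).orderOf_eq y
      simpa [MulAut.conj_apply] using this
    rw [this]; exact hy4
  rw [← Cfsg.Agent.Lib.H24.irr_conj χ g t⁻¹, hg']
  exact Cfsg.Agent.S0942.result p M hM a h.pElement _ (h.mem_core_of_regular hy'C hy'reg) χ hχ

/-- **(F3a)** `∑_{χ ∈ B₀} χ(a) χ(s) = 0` for `p`-regular `s` (block orthogonality). -/
theorem sum_mul_regular (h : Hyp p P a) {M : Ideal AlgInt} (hM : IsPModular p M)
    {s : G} (hs : ¬ p ∣ orderOf s) :
    ∑ᶠ χ ∈ principalBlock M G, (χ : G → ℂ) a * (χ : G → ℂ) s = 0 := by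
  have hp : p.Prime := Fact.out
  have h1 : IsPPart p a a := ⟨1, mul_one a, Commute.one_right a, h.pElement, by
    rw [orderOf_one]; exact hp.one_lt.ne' ∘ Nat.dvd_one.1⟩
  have hs' : ¬ p ∣ orderOf s⁻¹ := by rw [orderOf_inv]; exact hs
  have h2 : IsPPart p s⁻¹ 1 := ⟨s⁻¹, one_mul _, Commute.one_left _, ⟨0, by rw [orderOf_one, pow_zero]⟩, hs'⟩
  have h3 : ¬ IsConj a 1 := by
    intro hc
    exact h.ne_one (isConj_one_left.1 hc)
  have := (Cfsg.Agent.S0925.result p M hM).2 a s⁻¹ a 1 h1 h2 h3 (principalBlock M G)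
    ⟨Cfsg.Agent.Lib.H8.BSW.oneIrr G, rfl⟩
  rw [inv_inv] at this
  exact this

open scoped Classical in
/-- The number of `p`-regular elements of `C_G(a)` times `|P|` is `|C_G(a)|`. -/
theorem card_regular_centralizer (h : Hyp p P a)
    [Fintype (Subgroup.centralizer ({a} : Set G))] :
    (Finset.univ.filter (fun s : Subgroup.centralizer ({a} : Set G) => ¬ p ∣ orderOf s)).card *
      Nat.card (P : Subgroup G) = Nat.card (Subgroup.centralizer ({a} : Set G)) := by
  have hp : p.Prime := Fact.out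
  obtain ⟨N, hN, hpN, k, hk⟩ :=
    Cfsg.Agent.Lib.L0.HasNormalPComplement.exists_normal (h.npc a h.mem h.orderOf_eq)
  have := hN
  -- the `p`-regular elements are exactly the elements of `N`
  have h1 : (Finset.univ.filter
      (fun s : Subgroup.centralizer ({a} : Set G) => ¬ p ∣ orderOf s)).card = Nat.card N := by
    rw [Nat.card_eq_fintype_card, ← Fintype.card_subtype]
    apply Fintype.card_congr
    refine (Equiv.subtypeEquivRight fun s => ?_)
    constructor
    · intro hs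
      exact Cfsg.Agent.Lib.L0.mem_of_coprime_orderOf_of_index_pow N k hk s
        ((Nat.Prime.coprime_iff_not_dvd hp).2 hs).symm
    · intro hs hdvd
      apply hpN
      have : orderOf (⟨s, hs⟩ : N) ∣ Nat.card N := orderOf_dvd_natCard _
      rw [Subgroup.orderOf_mk] at this
      exact hdvd.trans this
  -- `N.index = |P|`
  have hcard : Nat.card N * N.index = Nat.card (Subgroup.centralizer ({a} : Set G)) :=
    Subgroup.card_mul_index N
  have hPC : (P : Subgroup G) ≤ Subgroup.centralizer ({a} : Set G) := by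
    intro x hx
    rw [Subgroup.mem_centralizer_singleton_iff]
    have e := h.elem.1.is_comm.comm (⟨x, hx⟩ : (P : Subgroup G)) ⟨a, h.mem⟩
    exact congrArg Subtype.val e
  obtain ⟨n, hn⟩ := P.2.exists_card_eq
  have hPn : Nat.card (P : Subgroup G) = p ^ n := hn
  have hle1 : n ≤ k := by
    have hd : p ^ n ∣ Nat.card (Subgroup.centralizer ({a} : Set G)) := by
      rw [← hPn]; exact Subgroup.card_dvd_of_le hPC
    rw [← hcard, hk] at hd
    have hcop : Nat.Coprime (p ^ n) (Nat.card N) :=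
      Nat.Coprime.pow_left n ((Nat.Prime.coprime_iff_not_dvd hp).2 hpN)
    have := hcop.dvd_of_dvd_mul_left hd
    exact (Nat.pow_dvd_pow_iff_le_right hp.one_lt).1 this
  have hle2 : k ≤ n := by
    have hd : p ^ k ∣ Nat.card G := by
      have h2 : p ^ k ∣ Nat.card (Subgroup.centralizer ({a} : Set G)) := by
        rw [← hcard, hk]; exact dvd_mul_left _ _
      exact h2.trans (Subgroup.card_subgroup_dvd_card _)
    have := P.pow_dvd_card_of_pow_dvd_card hd
    rw [hPn] at this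
    exact (Nat.pow_dvd_pow_iff_le_right hp.one_lt).1 this
  rw [h1, hPn, le_antisymm hle1 hle2, ← hk]
  exact hcard

end Hyp

end Cfsg.Agent.Lib.H23.KW
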