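/-
S2333 farm-out (architect helper12), piece **LS2-KA3**: `card_frames_le`.
The frames `(u, w)` of a quadratic form `Q` on `F^n` (`|F|` even) with `Q u = Q u0`, `Q w = Q w0`, `B u w = 1`
fibre over `P^⊥ × P^⊥`, `P = <u0, w0>`, with fibres the `F^4`-sets of KA2.
-/
import Cfsg.Agent.Lib.H12.LS2Defs

set_option autoImplicit false

namespace Cfsg.Agent.Lib.H23.LS2

open Matrix Cfsg.Agent.Lib.H12.LS2

variable {F : Type*} [Field F]

section ka3

variable {n : ℕ} (Q : QuadraticForm F (Fin n → F))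

/-- the linear map `v ↦ (B v u0, B v w0)` -/
noncomputable def ka3L (u0 w0 : Fin n → F) : (Fin n → F) →ₗ[F] F × F :=
  LinearMap.prod ((QuadraticMap.polarBilin Q).flip u0) ((QuadraticMap.polarBilin Q).flip w0)

theorem ka3L_apply (u0 w0 v : Fin n → F) :
    ka3L Q u0 w0 v = (QuadraticMap.polar Q v u0, QuadraticMap.polar Q v w0) := by
  simp [ka3L]

theorem ka3_polar_self (h2 : (2 : F) = 0) (v : Fin n → F) : QuadraticMap.polar Q v v = 0 := by
  rw [QuadraticMap.polar_self, two_nsmul, ← two_mul, h2, zero_mul]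

theorem ka3L_surjective (h2 : (2 : F) = 0) (u0 w0 : Fin n → F)
    (h1 : QuadraticMap.polar Q u0 w0 = 1) : Function.Surjective (ka3L Q u0 w0) := by
  rintro ⟨a, b⟩
  refine ⟨a • w0 + b • u0, ?_⟩
  have h10 : QuadraticMap.polar Q w0 u0 = 1 := by rw [QuadraticMap.polar_comm]; exact h1
  rw [ka3L_apply]
  simp only [QuadraticMap.polar_add_left, QuadraticMap.polar_smul_left, ka3_polar_self Q h2, h1, h10,
    smul_eq_mul, mul_one, mul_zero, add_zero, zero_add]

theorem ka3_card_ker [Fintype F] (h2 : (2 : F) = 0) (hn : 2 ≤ n) (u0 w0 : Fin n → F)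
    (h1 : QuadraticMap.polar Q u0 w0 = 1) :
    Nat.card (LinearMap.ker (ka3L Q u0 w0)) = Fintype.card F ^ (n - 2) := by
  have hs := ka3L_surjective Q h2 u0 w0 h1
  have e := (ka3L Q u0 w0).quotKerEquivOfSurjective hs
  have h := Submodule.card_eq_card_quotient_mul_card (LinearMap.ker (ka3L Q u0 w0))
  rw [Nat.card_congr e.toEquiv, Nat.card_eq_fintype_card, Nat.card_eq_fintype_card (α := F × F), Fintype.card_prod,
    Fintype.card_fun, Fintype.card_fin] at h
  have hq : 0 < Fintype.card F := Fintype.card_pos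
  have h' : Fintype.card F ^ (n - 2) * (Fintype.card F * Fintype.card F) =
      Nat.card (LinearMap.ker (ka3L Q u0 w0)) * (Fintype.card F * Fintype.card F) := by
    rw [← h, ← pow_two, ← pow_add]
    congr 1
    omega
  exact (Nat.eq_of_mul_eq_mul_right (Nat.mul_pos hq hq) h').symm

/-- the projection onto `P^⊥` along `P = <u0, w0>` -/
theorem ka3_proj_mem (h2 : (2 : F) = 0) (u0 w0 : Fin n → F) (h1 : QuadraticMap.polar Q u0 w0 = 1)
    (v : Fin n → F) :
    v - QuadraticMap.polar Q v w0 • u0 - QuadraticMap.polar Q v u0 • w0 ∈ LinearMap.ker (ka3L Q u0 w0) := by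
  have h10 : QuadraticMap.polar Q w0 u0 = 1 := by rw [QuadraticMap.polar_comm]; exact h1
  rw [LinearMap.mem_ker, ka3L_apply]
  simp only [QuadraticMap.polar_sub_left, QuadraticMap.polar_smul_left, ka3_polar_self Q h2, h1, h10,
    smul_eq_mul, mul_one, mul_zero, sub_zero, sub_self, Prod.mk_zero_zero]

theorem ka3_Q_expand (u0 w0 r : Fin n → F) (h1 : QuadraticMap.polar Q u0 w0 = 1)
    (hr1 : QuadraticMap.polar Q r u0 = 0) (hr2 : QuadraticMap.polar Q r w0 = 0) (x y : F) :
    Q (x • u0 + y • w0 + r) = Q u0 * x ^ 2 + x * y + Q w0 * y ^ 2 + Q r := by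
  have hr1' : QuadraticMap.polar Q u0 r = 0 := by rw [QuadraticMap.polar_comm]; exact hr1
  have hr2' : QuadraticMap.polar Q w0 r = 0 := by rw [QuadraticMap.polar_comm]; exact hr2
  rw [QuadraticMap.map_add Q (x • u0 + y • w0) r, QuadraticMap.map_add Q (x • u0) (y • w0),
    QuadraticMap.map_smul, QuadraticMap.map_smul]
  simp only [QuadraticMap.polar_add_left, QuadraticMap.polar_smul_left, QuadraticMap.polar_smul_right,
    h1, hr1', hr2', smul_eq_mul]
  ring

theorem ka3_B_expand (h2 : (2 : F) = 0) (u0 w0 r r' : Fin n → F) (h1 : QuadraticMap.polar Q u0 w0 = 1)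
    (hr1 : QuadraticMap.polar Q r u0 = 0) (hr2 : QuadraticMap.polar Q r w0 = 0)
    (hr1' : QuadraticMap.polar Q r' u0 = 0) (hr2' : QuadraticMap.polar Q r' w0 = 0) (x y x' y' : F) :
    QuadraticMap.polar Q (x • u0 + y • w0 + r) (x' • u0 + y' • w0 + r') =
      x * y' + x' * y + QuadraticMap.polar Q r r' := by
  have h10 : QuadraticMap.polar Q w0 u0 = 1 := by rw [QuadraticMap.polar_comm]; exact h1
  have a1 : QuadraticMap.polar Q u0 r' = 0 := by rw [QuadraticMap.polar_comm]; exact hr1'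
  have a2 : QuadraticMap.polar Q w0 r' = 0 := by rw [QuadraticMap.polar_comm]; exact hr2'
  simp only [QuadraticMap.polar_add_left, QuadraticMap.polar_smul_left, QuadraticMap.polar_smul_right,
    QuadraticMap.polar_add_right, ka3_polar_self Q h2, h1, h10, hr1, hr2, a1, a2, smul_eq_mul]
  ring

end ka3

/-- **LS2-KA3** (fibration of the frames over `P^⊥ × P^⊥`). -/
theorem card_frames_le [Fintype F] (h2 : (2 : F) = 0) (n : ℕ) (hn : 2 ≤ n)
    (Q : QuadraticForm F (Fin n → F)) (u0 w0 : Fin n → F) (h1 : QuadraticMap.polar Q u0 w0 = 1)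
    (hgood : (∀ x y : F, Q u0 * x ^ 2 + x * y + Q w0 * y ^ 2 = 0 → x = 0 ∧ y = 0) ∨
       (∀ r r', QuadraticMap.polar Q r u0 = 0 → QuadraticMap.polar Q r w0 = 0 →
          QuadraticMap.polar Q r' u0 = 0 → QuadraticMap.polar Q r' w0 = 0 → QuadraticMap.polar Q r r' = 0))
    (M : ℕ)
    (hM : ∀ a b c : F, (c ≠ 0 ∨ ∀ x y : F, Q u0 * x ^ 2 + x * y + Q w0 * y ^ 2 = 0 → x = 0 ∧ y = 0) →
      Nat.card {p : (F × F) × (F × F) //
        Q u0 * p.1.1 ^ 2 + p.1.1 * p.1.2 + Q w0 * p.1.2 ^ 2 = a ∧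
        Q u0 * p.2.1 ^ 2 + p.2.1 * p.2.2 + Q w0 * p.2.2 ^ 2 = b ∧
        p.1.1 * p.2.2 + p.2.1 * p.1.2 = c} ≤ M) :
    Nat.card (frames Q (Q u0) (Q w0)) ≤ M * Fintype.card F ^ (2 * n - 4) := by
  classical
  set P := LinearMap.ker (ka3L Q u0 w0) with hP
  have hPmem : ∀ r : Fin n → F, r ∈ P ↔ QuadraticMap.polar Q r u0 = 0 ∧ QuadraticMap.polar Q r w0 = 0 := by
    intro r
    rw [hP, LinearMap.mem_ker, ka3L_apply, Prod.mk_eq_zero]
  have : Fintype P := Fintype.ofFinite P
  -- the projection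
  let π : (Fin n → F) → P := fun v =>
    ⟨v - QuadraticMap.polar Q v w0 • u0 - QuadraticMap.polar Q v u0 • w0, ka3_proj_mem Q h2 u0 w0 h1 v⟩
  have hπ : ∀ v, v = QuadraticMap.polar Q v w0 • u0 + QuadraticMap.polar Q v u0 • w0 + (π v : Fin n → F) := by
    intro v
    show v = _ + _ + (v - QuadraticMap.polar Q v w0 • u0 - QuadraticMap.polar Q v u0 • w0)
    abel
  let f : (Fin n → F) × (Fin n → F) → P × P := fun x => (π x.1, π x.2)
  let g : (Fin n → F) × (Fin n → F) → (F × F) × (F × F) := fun x =>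
    ((QuadraticMap.polar Q x.1 w0, QuadraticMap.polar Q x.1 u0),
      (QuadraticMap.polar Q x.2 w0, QuadraticMap.polar Q x.2 u0))
  set s : Finset ((Fin n → F) × (Fin n → F)) :=
    Finset.univ.filter (fun x => x ∈ frames Q (Q u0) (Q w0)) with hs
  have hcard : Nat.card (frames Q (Q u0) (Q w0)) = s.card := by
    rw [Nat.card_eq_fintype_card, hs]
    exact Fintype.card_subtype _
  have hfib : ∀ rr ∈ (Finset.univ : Finset (P × P)), (s.filter (fun x => f x = rr)).card ≤ M := by
    rintro ⟨r, r'⟩ -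
    obtain ⟨hr1, hr2⟩ := (hPmem r).1 r.2
    obtain ⟨hr1', hr2'⟩ := (hPmem r').1 r'.2
    set a := Q u0 - Q (r : Fin n → F) with ha
    set b := Q w0 - Q (r' : Fin n → F) with hb
    set c := 1 - QuadraticMap.polar Q (r : Fin n → F) (r' : Fin n → F) with hc
    have hcond : c ≠ 0 ∨ ∀ x y : F, Q u0 * x ^ 2 + x * y + Q w0 * y ^ 2 = 0 → x = 0 ∧ y = 0 := by
      rcases hgood with h | h
      · exact Or.inr h
      · left
        rw [hc, h _ _ hr1 hr2 hr1' hr2', sub_zero]
        exact one_ne_zero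
    refine le_trans ?_ (hM a b c hcond)
    rw [Nat.card_eq_fintype_card, Fintype.card_subtype]
    refine Finset.card_le_card_of_injOn g ?_ ?_
    · intro x hx
      rw [Finset.mem_coe, Finset.mem_filter] at hx
      obtain ⟨hxs, hfx⟩ := hx
      rw [hs, Finset.mem_filter] at hxs
      obtain ⟨hQ1, hQ2, hB⟩ := hxs.2
      have e1 : π x.1 = r := congrArg Prod.fst hfx
      have e2 : π x.2 = r' := congrArg Prod.snd hfx
      have d1 := hπ x.1
      have d2 := hπ x.2
      rw [e1] at d1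
      rw [e2] at d2
      rw [Finset.mem_coe, Finset.mem_filter]
      refine ⟨Finset.mem_univ _, ?_, ?_, ?_⟩
      · have := ka3_Q_expand Q u0 w0 r h1 hr1 hr2 (QuadraticMap.polar Q x.1 w0) (QuadraticMap.polar Q x.1 u0)
        rw [← d1, hQ1] at this
        show Q u0 * (QuadraticMap.polar Q x.1 w0) ^ 2 + QuadraticMap.polar Q x.1 w0 * QuadraticMap.polar Q x.1 u0 +
          Q w0 * (QuadraticMap.polar Q x.1 u0) ^ 2 = a
        rw [ha]
        linear_combination -this
      · have := ka3_Q_expand Q u0 w0 r' h1 hr1' hr2' (QuadraticMap.polar Q x.2 w0) (QuadraticMap.polar Q x.2 u0)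
        rw [← d2, hQ2] at this
        show Q u0 * (QuadraticMap.polar Q x.2 w0) ^ 2 + QuadraticMap.polar Q x.2 w0 * QuadraticMap.polar Q x.2 u0 +
          Q w0 * (QuadraticMap.polar Q x.2 u0) ^ 2 = b
        rw [hb]
        linear_combination -this
      · have := ka3_B_expand Q h2 u0 w0 r r' h1 hr1 hr2 hr1' hr2' (QuadraticMap.polar Q x.1 w0)
          (QuadraticMap.polar Q x.1 u0) (QuadraticMap.polar Q x.2 w0) (QuadraticMap.polar Q x.2 u0)
        rw [← d1, ← d2, hB] at this
        show QuadraticMap.polar Q x.1 w0 * QuadraticMap.polar Q x.2 u0 +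
          QuadraticMap.polar Q x.2 w0 * QuadraticMap.polar Q x.1 u0 = c
        rw [hc]
        linear_combination -this
    · intro x hx y hy hxy
      rw [Finset.mem_coe, Finset.mem_filter] at hx hy
      have e1 : π x.1 = r := congrArg Prod.fst hx.2
      have e2 : π x.2 = r' := congrArg Prod.snd hx.2
      have e1' : π y.1 = r := congrArg Prod.fst hy.2
      have e2' : π y.2 = r' := congrArg Prod.snd hy.2
      have g1 : QuadraticMap.polar Q x.1 w0 = QuadraticMap.polar Q y.1 w0 :=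
        congrArg (fun t => t.1.1) hxy
      have g2 : QuadraticMap.polar Q x.1 u0 = QuadraticMap.polar Q y.1 u0 :=
        congrArg (fun t => t.1.2) hxy
      have g3 : QuadraticMap.polar Q x.2 w0 = QuadraticMap.polar Q y.2 w0 :=
        congrArg (fun t => t.2.1) hxy
      have g4 : QuadraticMap.polar Q x.2 u0 = QuadraticMap.polar Q y.2 u0 :=
        congrArg (fun t => t.2.2) hxy
      refine Prod.ext ?_ ?_
      · rw [hπ x.1, hπ y.1, e1, e1', g1, g2]
      · rw [hπ x.2, hπ y.2, e2, e2', g3, g4]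
  have hmain := Finset.card_le_mul_card_image_of_maps_to (f := f) (s := s) (t := Finset.univ)
    (fun _ _ => Finset.mem_univ _) M hfib
  rw [hcard]
  refine le_trans hmain (le_of_eq ?_)
  congr 1
  rw [Finset.card_univ, Fintype.card_prod, ← Nat.card_eq_fintype_card, hP,
    ka3_card_ker Q h2 hn u0 w0 h1, ← pow_add]
  congr 1
  omega

end Cfsg.Agent.Lib.H23.LS2
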