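/-
EO phase 2 (architect helper21), task EO2-E1 (helper23): `q ≤ 3`, `W` a non-degenerate plus-type plane: an isometry stabilising `W`
stabilises the non-singular point `⟨e + e'⟩` (`e, e'` a hyperbolic pair of `W`).
-/
import Cfsg.Agent.Lib.H17.AschO2E1

set_option autoImplicit false
set_option linter.unusedSectionVars false

namespace Cfsg.Agent.Lib.H23.EOP2

open Cfsg Cfsg.Geo
open scoped MatrixGroups Matrix Kronecker

variable {F : Type*} [Field F] [Fintype F]

section generic

variable {ι : Type} [Fintype ι] [DecidableEq ι]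

theorem e1_quad_add (Q : (ι → F) → F) (u v : ι → F) :
    Q (u + v) = Q u + Q v + QuadraticMap.polar Q u v := by
  unfold QuadraticMap.polar; ring

theorem e1_polar_self {Q : (ι → F) → F} (hQ : IsNondegenerateQuadraticForm Q) (v : ι → F) :
    QuadraticMap.polar Q v v = 2 * Q v := by
  unfold QuadraticMap.polar
  have h : v + v = (2 : F) • v := by rw [two_smul]
  rw [h, hQ.smul]; ring

/-- in a field with at most 3 elements every non-zero element squares to 1 -/
theorem e1_sq_eq_one (hq : Fintype.card F ≤ 3) {x : F} (hx : x ≠ 0) : x * x = 1 := by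
  have h := FiniteField.pow_card_sub_one_eq_one x hx
  have h2 : 2 ≤ Fintype.card F := Fintype.one_lt_card
  have hc : Fintype.card F = 2 ∨ Fintype.card F = 3 := by omega
  rcases hc with hc | hc
  · rw [hc] at h
    have h' : x ^ 1 = 1 := h
    rw [pow_one] at h'
    rw [h']; ring
  · rw [hc] at h
    have h' : x ^ 2 = 1 := h
    rw [← pow_two]; exact h'

/-- `Q (x e + y e') = x y` for a hyperbolic pair -/
theorem e1_quad_pair {Q : (ι → F) → F} (hQ : IsNondegenerateQuadraticForm Q) {e e' : ι → F}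
    (he : Q e = 0) (he' : Q e' = 0) (hee : QuadraticMap.polar Q e e' = 1) (x y : F) :
    Q (x • e + y • e') = x * y := by
  rw [e1_quad_add Q, hQ.smul, hQ.smul, he, he', hQ.polar_bilinear.smul_left, hQ.polar_bilinear.smul_right, hee]
  ring

/-- generic version of EO2-E1 -/
theorem exists_vec_of_plus_plane_gen {Q : (ι → F) → F} (hQ : IsNondegenerateQuadraticForm Q)
    (hq : Fintype.card F ≤ 3)
    (W : Submodule F (ι → F)) (hdim : Module.finrank F W = 2)
    (hW : IsNondegenerateOn (QuadraticMap.polar Q) W) (hplus : IsPlusTypeOn Q W) :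
    ∃ v : ι → F, Q v ≠ 0 ∧
      subspaceStabilizer W ⊓ isometryGroup F Q ≤ subspaceStabilizer (Submodule.span F {v}) := by
  obtain ⟨U, hUW, hUts, hUdim⟩ := hplus
  have hU1 : 0 < Module.finrank F U := by omega
  rw [Module.finrank_pos_iff_exists_ne_zero] at hU1
  obtain ⟨⟨e, heU⟩, he0'⟩ := hU1
  have he0 : e ≠ 0 := fun h => he0' (Subtype.ext h)
  have heW : e ∈ W := hUW heU
  have hQe : Q e = 0 := hUts e heU
  obtain ⟨⟨x₀, hx₀W, hx₀⟩, _⟩ := hW e heW he0
  -- `e₁` with `f(e₁, e) = 1`
  obtain ⟨e₁, he₁W, hp1⟩ : ∃ e₁ ∈ W, QuadraticMap.polar Q e₁ e = 1 := by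
    refine ⟨(QuadraticMap.polar Q x₀ e)⁻¹ • x₀, W.smul_mem _ hx₀W, ?_⟩
    rw [hQ.polar_bilinear.smul_left, inv_mul_cancel₀ hx₀]
  -- the singular partner
  obtain ⟨e', he'W, hQe', hee⟩ : ∃ e' ∈ W, Q e' = 0 ∧ QuadraticMap.polar Q e e' = 1 := by
    refine ⟨e₁ + (-(Q e₁)) • e, W.add_mem he₁W (W.smul_mem _ heW), ?_, ?_⟩
    · rw [e1_quad_add Q, hQ.smul, hQe, hQ.polar_bilinear.smul_right, hp1]; ring
    · rw [hQ.polar_bilinear.add_right, hQ.polar_bilinear.smul_right, e1_polar_self hQ, hQe,
        QuadraticMap.polar_comm, hp1]; ring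
  have hee0 : QuadraticMap.polar Q e e = 0 := by rw [e1_polar_self hQ, hQe, mul_zero]
  -- `W = span {e, e'}`
  have hli : LinearIndependent F ![e, e'] := by
    rw [LinearIndependent.pair_iff]
    intro s t hst
    have h1 : QuadraticMap.polar Q e (s • e + t • e') = 0 := by
      rw [hst]
      have := hQ.polar_bilinear.smul_right 0 e 0
      rw [zero_smul, zero_mul] at this
      exact this
    rw [hQ.polar_bilinear.add_right, hQ.polar_bilinear.smul_right, hQ.polar_bilinear.smul_right, hee0, hee] at h1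
    have ht : t = 0 := by simpa using h1
    rw [ht, zero_smul, add_zero] at hst
    rcases smul_eq_zero.mp hst with h | h
    · exact ⟨h, ht⟩
    · exact absurd h he0
  have hspan_le : Submodule.span F (Set.range ![e, e']) ≤ W := by
    rw [Submodule.span_le]
    rintro _ ⟨i, rfl⟩
    fin_cases i
    · exact heW
    · exact he'W
  have hspan : Submodule.span F (Set.range ![e, e']) = W := by
    apply Submodule.eq_of_le_of_finrank_eq hspan_le
    rw [finrank_span_eq_card hli, hdim]
    rfl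
  have hrep : ∀ w ∈ W, ∃ x y : F, w = x • e + y • e' := by
    intro w hw
    rw [← hspan] at hw
    have hr : Set.range ![e, e'] = {e, e'} := by
      ext z
      simp only [Set.mem_range, Set.mem_insert_iff, Set.mem_singleton_iff]
      constructor
      · rintro ⟨i, rfl⟩
        fin_cases i
        · left; rfl
        · right; rfl
      · rintro (rfl | rfl)
        · exact ⟨0, rfl⟩
        · exact ⟨1, rfl⟩
    rw [hr, Submodule.mem_span_pair] at hw
    obtain ⟨a, b, hab⟩ := hw
    exact ⟨a, b, hab.symm⟩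
  -- the non-singular vector
  refine ⟨e + e', ?_, ?_⟩
  · have h := e1_quad_pair hQ hQe hQe' hee 1 1
    rw [one_smul, one_smul, one_mul] at h
    rw [h]; exact one_ne_zero
  · intro g hg
    obtain ⟨hgW, hgI⟩ := hg
    have hQg : ∀ v, Q ((g : Matrix ι ι F) *ᵥ v) = Q v := fun v => hgI v v
    have hgW' : ∀ v, v ∈ W ↔ (g : Matrix ι ι F) *ᵥ v ∈ W := hgW
    have hvW : e + e' ∈ W := W.add_mem heW he'W
    have hQv : Q (e + e') = 1 := by
      have h := e1_quad_pair hQ hQe hQe' hee 1 1
      rw [one_smul, one_smul, one_mul] at h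
      exact h
    -- `g v = x • v`
    obtain ⟨x, y, hxy⟩ := hrep _ ((hgW' _).mp hvW)
    have h1 : x * y = 1 := by
      rw [← e1_quad_pair hQ hQe hQe' hee x y, ← hxy, hQg, hQv]
    have hx0 : x ≠ 0 := left_ne_zero_of_mul_eq_one h1
    have hxx : x * x = 1 := e1_sq_eq_one hq hx0
    have hyx : y = x := by
      have : x * y = x * x := by rw [h1, hxx]
      exact mul_left_cancel₀ hx0 this
    have hgv : (g : Matrix ι ι F) *ᵥ (e + e') = x • (e + e') := by
      rw [hxy, hyx, smul_add]
    have hginv : ((g⁻¹ : GL ι F) : Matrix ι ι F) *ᵥ (e + e') = x • (e + e') := by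
      have h2 : ((g⁻¹ : GL ι F) : Matrix ι ι F) *ᵥ ((g : Matrix ι ι F) *ᵥ (e + e')) = e + e' := by
        rw [Matrix.mulVec_mulVec, ← Units.val_mul, inv_mul_cancel, Units.val_one, Matrix.one_mulVec]
      rw [hgv, Matrix.mulVec_smul] at h2
      calc ((g⁻¹ : GL ι F) : Matrix ι ι F) *ᵥ (e + e')
          = (x * x) • (((g⁻¹ : GL ι F) : Matrix ι ι F) *ᵥ (e + e')) := by rw [hxx, one_smul]
        _ = x • (x • (((g⁻¹ : GL ι F) : Matrix ι ι F) *ᵥ (e + e'))) := by rw [mul_smul]
        _ = x • (e + e') := by rw [h2]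
    intro u
    change u ∈ Submodule.span F {e + e'} ↔ (g : Matrix ι ι F) *ᵥ u ∈ Submodule.span F {e + e'}
    rw [Submodule.mem_span_singleton, Submodule.mem_span_singleton]
    constructor
    · rintro ⟨c, rfl⟩
      exact ⟨c * x, by rw [Matrix.mulVec_smul, hgv, mul_smul]⟩
    · rintro ⟨c, hc⟩
      refine ⟨c * x, ?_⟩
      have h3 : u = ((g⁻¹ : GL ι F) : Matrix ι ι F) *ᵥ ((g : Matrix ι ι F) *ᵥ u) := by
        rw [Matrix.mulVec_mulVec, ← Units.val_mul, inv_mul_cancel, Units.val_one, Matrix.one_mulVec]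
      rw [h3, ← hc, Matrix.mulVec_smul, hginv, mul_smul]

end generic

/-- **EO2-E1**. -/
theorem exists_vec_of_plus_plane {n : ℕ} (Q : (Fin n → F) → F) (hQ : IsNondegenerateQuadraticForm Q)
    (hq : Fintype.card F ≤ 3)
    (W : Submodule F (Fin n → F)) (hdim : Module.finrank F W = 2)
    (hW : IsNondegenerateOn (QuadraticMap.polar Q) W) (hplus : IsPlusTypeOn Q W) :
    ∃ v : Fin n → F, Q v ≠ 0 ∧
      subspaceStabilizer W ⊓ isometryGroup F Q ≤ subspaceStabilizer (Submodule.span F {v}) :=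
  exists_vec_of_plus_plane_gen hQ hq W hdim hW hplus

end Cfsg.Agent.Lib.H23.EOP2
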