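/-
EO phase 2 (architect helper21), task EO2-E2 (helper23): a non-singular point is a non-degenerate 1-space when q is odd.
-/
import Cfsg.Agent.Lib.H17.AschO2E1

set_option autoImplicit false
set_option linter.unusedSectionVars false

namespace Cfsg.Agent.Lib.H23.EOP2

open Cfsg Cfsg.Geo
open scoped MatrixGroups Matrix Kronecker

variable {F : Type*} [Field F] [Fintype F]

section generic

variable {ι : Type} [Fintype ι] [DecidableEq ι]

theorem quad_zero' {Q : (ι → F) → F} (hQ : IsNondegenerateQuadraticForm Q) : Q 0 = 0 := by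
  have h := hQ.smul 0 0
  rw [zero_smul] at h
  rw [h]; ring

theorem polar_self' {Q : (ι → F) → F} (hQ : IsNondegenerateQuadraticForm Q) (v : ι → F) :
    QuadraticMap.polar Q v v = 2 * Q v := by
  unfold QuadraticMap.polar
  have h : v + v = (2 : F) • v := by rw [two_smul]
  rw [h, hQ.smul]; ring

/-- generic version of EO2-E2 -/
theorem nondegenerateOn_span_of_odd_gen (hodd : Odd (Fintype.card F)) {Q : (ι → F) → F}
    (hQ : IsNondegenerateQuadraticForm Q) (hn : 2 ≤ Fintype.card ι) (v : ι → F) (hv : Q v ≠ 0) :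
    Submodule.span F {v} ≠ ⊥ ∧ Submodule.span F {v} ≠ ⊤ ∧ Module.finrank F (Submodule.span F {v}) = 1 ∧
      IsNondegenerateOn (QuadraticMap.polar Q) (Submodule.span F {v}) := by
  have h2 : (2 : F) ≠ 0 := Cfsg.Agent.Lib.H17.OP2.e1_two_ne_zero hodd
  have hv0 : v ≠ 0 := by
    rintro rfl
    exact hv (quad_zero' hQ)
  have hfr : Module.finrank F (Submodule.span F {v}) = 1 := finrank_span_singleton hv0
  refine ⟨?_, ?_, hfr, ?_⟩
  · intro h
    have : v ∈ Submodule.span F {v} := Submodule.mem_span_singleton_self v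
    rw [h, Submodule.mem_bot] at this
    exact hv0 this
  · intro h
    rw [h, finrank_top, Module.finrank_fintype_fun_eq_card] at hfr
    omega
  · intro w hw hw0
    obtain ⟨c, rfl⟩ := Submodule.mem_span_singleton.mp hw
    have hc : c ≠ 0 := by
      rintro rfl
      exact hw0 (zero_smul _ _)
    have hne : c * (2 * Q v) ≠ 0 := mul_ne_zero hc (mul_ne_zero h2 hv)
    refine ⟨⟨v, Submodule.mem_span_singleton_self v, ?_⟩, ⟨v, Submodule.mem_span_singleton_self v, ?_⟩⟩
    · rw [hQ.polar_bilinear.smul_right, polar_self' hQ]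
      exact hne
    · rw [hQ.polar_bilinear.smul_left, polar_self' hQ]
      exact hne

end generic

/-- **EO2-E2**.  A non-singular point is a non-degenerate 1-space when q is odd. -/
theorem nondegenerateOn_span_of_odd {n : ℕ} (hodd : Odd (Fintype.card F)) (Q : (Fin n → F) → F)
    (hQ : IsNondegenerateQuadraticForm Q)
    (hn : 2 ≤ n) (v : Fin n → F) (hv : Q v ≠ 0) :
    Submodule.span F {v} ≠ ⊥ ∧ Submodule.span F {v} ≠ ⊤ ∧ Module.finrank F (Submodule.span F {v}) = 1 ∧
      IsNondegenerateOn (QuadraticMap.polar Q) (Submodule.span F {v}) :=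
  nondegenerateOn_span_of_odd_gen hodd hQ (by simpa using hn) v hv

end Cfsg.Agent.Lib.H23.EOP2
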