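/-
EO phase 2 (architect helper21), task EO2-E6 (helper23): a non-degenerate subspace of half the dimension and its perpendicular
form a non-degenerate 2-block decomposition stabilised by `Stab W ⊓ I`.
-/
import Cfsg.Agent.Lib.H17.AschO2E1

set_option autoImplicit false
set_option linter.unusedSectionVars false

namespace Cfsg.Agent.Lib.H23.EOP2

open Cfsg Cfsg.Geo
open Cfsg.Agent.Lib.H17.OP2 (BpG BpG_nondeg)
open scoped MatrixGroups Matrix Kronecker

variable {F : Type*} [Field F] [Fintype F]

section generic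

variable {ι : Type} [Fintype ι] [DecidableEq ι]

/-- an element stabilising `W` maps `W` onto `W` -/
theorem map_eq_of_mem_subspaceStabilizer {W : Submodule F (ι → F)} {g : GL ι F}
    (hg : g ∈ subspaceStabilizer W) : W.map (Matrix.toLin' (g : Matrix ι ι F)) = W := by
  have hgW : ∀ v, v ∈ W ↔ (g : Matrix ι ι F) *ᵥ v ∈ W := hg
  apply le_antisymm
  · rintro _ ⟨v, hv, rfl⟩
    rw [Matrix.toLin'_apply]
    exact (hgW v).mp hv
  · intro w hw
    refine ⟨((g⁻¹ : GL ι F) : Matrix ι ι F) *ᵥ w, ?_, ?_⟩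
    · rw [SetLike.mem_coe, hgW, Matrix.mulVec_mulVec, ← Units.val_mul, mul_inv_cancel, Units.val_one,
        Matrix.one_mulVec]
      exact hw
    · rw [Matrix.toLin'_apply, Matrix.mulVec_mulVec, ← Units.val_mul, mul_inv_cancel, Units.val_one,
        Matrix.one_mulVec]

/-- generic version of EO2-E6: the pair `(W, W^⊥)`, any index type, no dimension hypothesis on the halves except equality. -/
theorem exists_halves_decomposition_gen {Q : (ι → F) → F} (hQ : IsNondegenerateQuadraticForm Q)
    (W : Submodule F (ι → F)) (hW0 : W ≠ ⊥) (hW1 : W ≠ ⊤)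
    (hW : IsNondegenerateOn (QuadraticMap.polar Q) W) (hdim : 2 * Module.finrank F W = Fintype.card ι) :
    ∃ D : Fin 2 → Submodule F (ι → F), D 0 = W ∧
      IsNondegenerateMDecomposition (QuadraticMap.polar Q) (Module.finrank F W) D ∧
      subspaceStabilizer W ⊓ isometryGroup F Q ≤ decompositionStabilizer D := by
  set P : Submodule F (ι → F) := (BpG hQ).orthogonal W with hP
  have hmemP : ∀ v, v ∈ P ↔ ∀ w ∈ W, QuadraticMap.polar Q w v = 0 := fun v => Iff.rfl
  have hV : Module.finrank F (ι → F) = Fintype.card ι := Module.finrank_fintype_fun_eq_card F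
  have hle : Module.finrank F W ≤ Module.finrank F (ι → F) := Submodule.finrank_le W
  have hfin : Module.finrank F P = Module.finrank F (ι → F) - Module.finrank F W :=
    LinearMap.BilinForm.finrank_orthogonal (BpG_nondeg hQ) W
  have hsum : Module.finrank F W + Module.finrank F P = Fintype.card ι := by
    rw [hfin, ← hV]; omega
  have hWpos : 0 < Module.finrank F W := by
    rw [Module.finrank_pos_iff_exists_ne_zero]
    obtain ⟨w, hw, hw0⟩ := Submodule.exists_mem_ne_zero_of_ne_bot hW0
    exact ⟨⟨w, hw⟩, fun h => hw0 (congrArg Subtype.val h)⟩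
  have hinf : W ⊓ P = ⊥ := by
    rw [eq_bot_iff]
    intro w hw
    rw [Submodule.mem_bot]
    by_contra hw0
    obtain ⟨⟨x, hx, hne⟩, _⟩ := hW w hw.1 hw0
    exact hne ((hmemP w).mp hw.2 x hx)
  have hsup : W ⊔ P = ⊤ := by
    apply Submodule.eq_top_of_finrank_eq
    have h1 := Submodule.finrank_sup_add_finrank_inf_eq W P
    rw [hinf, finrank_bot, add_zero] at h1
    rw [h1, hsum, hV]
  have hPnd : IsNondegenerateOn (QuadraticMap.polar Q) P := by
    intro w hw hw0
    have hkey : ¬ ∀ x ∈ P, QuadraticMap.polar Q x w = 0 := by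
      intro hall
      apply hw0
      by_contra hne
      obtain ⟨⟨x, hx⟩, _⟩ := hQ.nondegenerate w hne
      apply hx
      have hxtop : x ∈ W ⊔ P := by rw [hsup]; exact Submodule.mem_top
      obtain ⟨a, ha, b, hb, rfl⟩ := Submodule.mem_sup.mp hxtop
      rw [hQ.polar_bilinear.add_left, (hmemP w).mp hw a ha, hall b hb, add_zero]
    push Not at hkey
    obtain ⟨x, hx, hne⟩ := hkey
    exact ⟨⟨x, hx, hne⟩, ⟨x, hx, by rwa [QuadraticMap.polar_comm]⟩⟩
  have hD0 : (![W, P] : Fin 2 → Submodule F (ι → F)) 0 = W := rfl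
  have hD1 : (![W, P] : Fin 2 → Submodule F (ι → F)) 1 = P := rfl
  refine ⟨![W, P], rfl, ⟨⟨le_refl 2, hWpos, ?_, ?_, ?_⟩, ?_, ?_⟩, ?_⟩
  · intro i
    fin_cases i
    · rfl
    · change Module.finrank F P = Module.finrank F W
      omega
  · rw [iSupIndep_pair (i := (0 : Fin 2)) (j := 1) (by decide) (by intro k; fin_cases k <;> simp)]
    rw [hD0, hD1, disjoint_iff]
    exact hinf
  · rw [eq_top_iff, ← hsup]
    exact sup_le (le_iSup (![W, P] : Fin 2 → Submodule F (ι → F)) 0)
      (le_iSup (![W, P] : Fin 2 → Submodule F (ι → F)) 1)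
  · intro i
    fin_cases i
    · exact hW
    · exact hPnd
  · intro i j hij u hu v hv
    fin_cases i <;> fin_cases j
    · exact absurd rfl hij
    · exact (hmemP v).mp hv u hu
    · rw [QuadraticMap.polar_comm]
      exact (hmemP u).mp hu v hv
    · exact absurd rfl hij
  · intro g hg
    obtain ⟨hgW, hgI⟩ := hg
    have hQg : ∀ v, Q ((g : Matrix ι ι F) *ᵥ v) = Q v := fun v => hgI v v
    have hfg : ∀ u v, QuadraticMap.polar Q ((g : Matrix ι ι F) *ᵥ u) ((g : Matrix ι ι F) *ᵥ v) =
        QuadraticMap.polar Q u v := by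
      intro u v
      unfold QuadraticMap.polar
      rw [← Matrix.mulVec_add, hQg, hQg, hQg]
    have hgW' : ∀ v, v ∈ W ↔ (g : Matrix ι ι F) *ᵥ v ∈ W := hgW
    have hgP : g ∈ subspaceStabilizer P := by
      intro v
      change v ∈ P ↔ (g : Matrix ι ι F) *ᵥ v ∈ P
      rw [hmemP, hmemP]
      constructor
      · intro hv w hw
        have hw' : ((g⁻¹ : GL ι F) : Matrix ι ι F) *ᵥ w ∈ W := by
          rw [hgW', Matrix.mulVec_mulVec, ← Units.val_mul, mul_inv_cancel, Units.val_one, Matrix.one_mulVec]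
          exact hw
        have h3 := hfg (((g⁻¹ : GL ι F) : Matrix ι ι F) *ᵥ w) v
        rw [Matrix.mulVec_mulVec, ← Units.val_mul, mul_inv_cancel, Units.val_one, Matrix.one_mulVec,
          hv _ hw'] at h3
        exact h3
      · intro hv w hw
        rw [← hfg w v]
        exact hv _ ((hgW' w).mp hw)
    refine ⟨1, fun i => ?_⟩
    fin_cases i
    · exact map_eq_of_mem_subspaceStabilizer hgW
    · exact map_eq_of_mem_subspaceStabilizer hgP

end generic

/-- **EO2-E6**. -/
theorem exists_halves_decomposition {n : ℕ} (Q : (Fin n → F) → F) (hQ : IsNondegenerateQuadraticForm Q)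
    (W : Submodule F (Fin n → F)) (hW0 : W ≠ ⊥) (hW1 : W ≠ ⊤)
    (hW : IsNondegenerateOn (QuadraticMap.polar Q) W) (hdim : 2 * Module.finrank F W = n) :
    ∃ D : Fin 2 → Submodule F (Fin n → F), D 0 = W ∧
      IsNondegenerateMDecomposition (QuadraticMap.polar Q) (Module.finrank F W) D ∧
      subspaceStabilizer W ⊓ isometryGroup F Q ≤ decompositionStabilizer D :=
  exists_halves_decomposition_gen hQ W hW0 hW1 hW (by simpa using hdim)

end Cfsg.Agent.Lib.H23.EOP2
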