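import Mathlib

set_option autoImplicit false

/-!
# S3685/S3385, piece L2 (section 8 of tools/blueprints/S3685.md): statement only (hypothesis bundle)

Two finite subgroups `P`, `P'` of a group, `T = P ⊓ P'` a 2-group of index 3 in both, `Q ◁ P`, `Q' ◁ P'` of index 2 in `T`,
`T` not normal in `P`, `P'`; `V ◁ P`, `V' ◁ P'` of exponent 2 with `V ≤ Q ≤ C(V)`, `C_P(V) ≤ Q` (same with primes),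
`Ω₁Z(T) ≤ V ⊓ V'`, no nontrivial subgroup of `T` normalised by both `P` and `P'`, and `[V, V'] ≠ 1`.
-/

namespace Cfsg.Agent.Lib.H23.SimsL2

variable {G : Type*} [Group G]

/-- hypotheses of the case `l = 2` (helper27's `b = 1`), symmetric in `(P,Q,V) ↔ (P',Q',V')`. -/
structure Hyp (P P' T Q Q' V V' : Subgroup G) : Prop where
  hT : T = P ⊓ P'
  finP : Finite ↥P
  finP' : Finite ↥P'
  hT2 : IsPGroup 2 ↥T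
  cardP : Nat.card ↥P = 3 * Nat.card ↥T
  cardP' : Nat.card ↥P' = 3 * Nat.card ↥T
  hQT : Q ≤ T
  hQ'T : Q' ≤ T
  cardQ : Nat.card ↥T = 2 * Nat.card ↥Q
  cardQ' : Nat.card ↥T = 2 * Nat.card ↥Q'
  hQn : ∀ g ∈ P, ∀ x ∈ Q, g * x * g⁻¹ ∈ Q
  hQ'n : ∀ g ∈ P', ∀ x ∈ Q', g * x * g⁻¹ ∈ Q'
  hTn : ∃ g ∈ P, ∃ x ∈ T, g * x * g⁻¹ ∉ T
  hTn' : ∃ g ∈ P', ∃ x ∈ T, g * x * g⁻¹ ∉ T
  hVQ : V ≤ Q
  hV'Q' : V' ≤ Q'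
  hVn : ∀ g ∈ P, ∀ x ∈ V, g * x * g⁻¹ ∈ V
  hV'n : ∀ g ∈ P', ∀ x ∈ V', g * x * g⁻¹ ∈ V'
  hVexp : ∀ x ∈ V, x * x = 1
  hV'exp : ∀ x ∈ V', x * x = 1
  hQV : ∀ q ∈ Q, ∀ v ∈ V, q * v = v * q
  hQ'V' : ∀ q ∈ Q', ∀ v ∈ V', q * v = v * q
  hCV : ∀ g ∈ P, (∀ v ∈ V, g * v = v * g) → g ∈ Q
  hCV' : ∀ g ∈ P', (∀ v ∈ V', g * v = v * g) → g ∈ Q'
  hZV : ∀ x ∈ T, x * x = 1 → (∀ y ∈ T, x * y = y * x) → x ∈ V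
  hZV' : ∀ x ∈ T, x * x = 1 → (∀ y ∈ T, x * y = y * x) → x ∈ V'
  hcore : ∀ X : Subgroup G, X ≤ T → (∀ g ∈ P, ∀ x ∈ X, g * x * g⁻¹ ∈ X) →
    (∀ g ∈ P', ∀ x ∈ X, g * x * g⁻¹ ∈ X) → X = ⊥
  hne : ∃ x ∈ V, ∃ y ∈ V', x * y ≠ y * x

/-- the goal of piece L2 (to be proved in `Cfsg/Agent/Lib/H23/SimsL2.lean` as `l2_main`). -/
def Goal (P : Subgroup G) : Prop :=
  Nonempty (↥P ≃* Equiv.Perm (Fin 4)) ∨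
    Nonempty (↥P ≃* Equiv.Perm (Fin 4) × Multiplicative (ZMod 2))

end Cfsg.Agent.Lib.H23.SimsL2
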