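/-
S4330 (Fumagalli's subnormality criterion, solvable case; architect helper14), piece **P5**:
a `p`-group (`p` odd) generated by elements of order `p` all of whose characteristic abelian subgroups of
exponent `p` have order at most `p` has exponent `p`, and is of order `≤ p` or "extraspecial-like".
Exact statement of tools/blueprints/S4330_sigs.lean.  Uses P. Hall's theorem (helper9 `symplectic_main`).
-/
import Mathlib
import Cfsg.Agent.Lib.H9.SymplecticType
import Cfsg.Agent.Lib.H1.NoncyclicAbelian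

set_option autoImplicit false

namespace Cfsg.Agent.Lib.H23.Fum

universe u

variable {P : Type u} [Group P]

/-- `Ω₁(A) = {x ∈ A : x^p = 1}` for an abelian subgroup `A` -/
def fumOmega (p : ℕ) (A : Subgroup P) (hA : ∀ x ∈ A, ∀ y ∈ A, x * y = y * x) : Subgroup P where
  carrier := {x | x ∈ A ∧ x ^ p = 1}
  one_mem' := ⟨A.one_mem, one_pow p⟩
  mul_mem' := fun {x y} hx hy => ⟨A.mul_mem hx.1 hy.1, by
    rw [(show Commute x y from hA x hx.1 y hy.1).mul_pow, hx.2, hy.2, one_mul]⟩
  inv_mem' := fun {x} hx => ⟨A.inv_mem hx.1, by rw [inv_pow, hx.2, inv_one]⟩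

theorem mem_fumOmega {p : ℕ} {A : Subgroup P} {hA : ∀ x ∈ A, ∀ y ∈ A, x * y = y * x} {x : P} :
    x ∈ fumOmega p A hA ↔ x ∈ A ∧ x ^ p = 1 := Iff.rfl

theorem fumOmega_characteristic (p : ℕ) (A : Subgroup P) (hAc : A.Characteristic)
    (hA : ∀ x ∈ A, ∀ y ∈ A, x * y = y * x) : (fumOmega p A hA).Characteristic := by
  rw [Subgroup.characteristic_iff_le_comap]
  intro φ x hx
  refine ⟨?_, ?_⟩
  · exact Subgroup.characteristic_iff_le_comap.1 hAc φ hx.1
  · show (φ x) ^ p = 1
    rw [← map_pow, hx.2, map_one]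

variable [Finite P] {p : ℕ} [Fact p.Prime]

/-- the hypothesis of P. Hall's theorem -/
theorem fum_isCyclic (hP : IsPGroup p P)
    (hchar : ∀ A : Subgroup P, A.Characteristic → (∀ x ∈ A, ∀ y ∈ A, x * y = y * x) →
      (∀ x ∈ A, x ^ p = 1) → Nat.card A ≤ p)
    (A : Subgroup P) (hAc : A.Characteristic) (hAm : IsMulCommutative ↥A) : IsCyclic ↥A := by
  have hA : ∀ x ∈ A, ∀ y ∈ A, x * y = y * x := by
    intro x hx y hy
    have h := hAm.is_comm.comm (⟨x, hx⟩ : ↥A) ⟨y, hy⟩
    exact congrArg Subtype.val h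
  let _ : CommGroup ↥A :=
    { (inferInstance : Group ↥A) with mul_comm := fun a b => Subtype.ext (hA a a.2 b b.2) }
  apply Cfsg.Agent.Lib.H1.isCyclic_of_card_torsionBy_prime_le
  intro q hq
  by_cases hqp : q = p
  · subst hqp
    have h1 := hchar (fumOmega q A hA) (fumOmega_characteristic q A hAc hA)
      (fun x hx y hy => hA x hx.1 y hy.1) (fun x hx => hx.2)
    refine le_trans ?_ h1
    let g : Cfsg.Agent.Lib.H1.torsionBy ↥A q → fumOmega q A hA := fun a =>
      ⟨((a : ↥A) : P), ⟨(a : ↥A).2, by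
        have h2 := Cfsg.Agent.Lib.H1.mem_torsionBy.1 a.2
        have h3 := congrArg Subtype.val h2
        simpa using h3⟩⟩
    apply Nat.card_le_card_of_injective g
    intro a b hab
    apply Subtype.ext
    apply Subtype.ext
    exact congrArg (fun t : fumOmega q A hA => (t : P)) hab
  · have hbot : Cfsg.Agent.Lib.H1.torsionBy ↥A q = ⊥ := by
      rw [eq_bot_iff]
      intro a ha
      rw [Cfsg.Agent.Lib.H1.mem_torsionBy] at ha
      rw [Subgroup.mem_bot]
      obtain ⟨k, hk⟩ := (IsPGroup.iff_orderOf.1 hP) (a : P)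
      have h2 : ((a : ↥A) : P) ^ q = 1 := by
        have h3 := congrArg Subtype.val ha
        simpa using h3
      have h4 : orderOf (a : P) ∣ q := orderOf_dvd_of_pow_eq_one h2
      rw [hk] at h4
      have h5 : k = 0 := by
        by_contra hk0
        have h6 : p ∣ q := dvd_trans (dvd_pow_self p hk0) h4
        rcases (Nat.dvd_prime hq).1 h6 with h7 | h7
        · exact (Fact.out : p.Prime).one_lt.ne' h7
        · exact hqp h7.symm
      rw [h5, pow_zero, orderOf_eq_one_iff] at hk
      exact Subtype.ext hk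
    rw [hbot, Subgroup.card_bot]
    exact hq.one_lt.le

/-- **P5** -/
theorem structure_of_small_char_abelian {P : Type u} [Group P] [Finite P] {p : ℕ} [Fact p.Prime]
    (hp : p ≠ 2) (hP : IsPGroup p P) (S : Set P) (hS : Subgroup.closure S = ⊤)
    (hSp : ∀ s ∈ S, s ^ p = 1)
    (hchar : ∀ A : Subgroup P, A.Characteristic → (∀ x ∈ A, ∀ y ∈ A, x * y = y * x) →
      (∀ x ∈ A, x ^ p = 1) → Nat.card A ≤ p) :
    (∀ x : P, x ^ p = 1) ∧ ((∀ x y : P, x * y = y * x) → Nat.card P ≤ p) ∧
    ((∃ x y : P, x * y ≠ y * x) → ∃ z : P, z ≠ 1 ∧ (∀ g : P, g * z = z * g) ∧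
      (∀ g h : P, g * h * g⁻¹ * h⁻¹ ∈ Subgroup.zpowers z) ∧
      (∀ g : P, (∀ h : P, g * h = h * g) → g ∈ Subgroup.zpowers z)) := by
  have hpp : p.Prime := Fact.out
  obtain ⟨E, R, hER, hsup, hE, hR⟩ :=
    Cfsg.Agent.Lib.H9.symplectic_main hP (fum_isCyclic hP hchar)
  have hRcyc : IsCyclic ↥R := by
    rcases hR with h | ⟨h2, _⟩
    · exact h
    · exact absurd h2 hp
  -- `R` is central
  have hRcomm : ∀ r ∈ R, ∀ r' ∈ R, r * r' = r' * r := by
    intro r hr r' hr'
    have h := (IsCyclic.commGroup (α := ↥R)).mul_comm ⟨r, hr⟩ ⟨r', hr'⟩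
    exact congrArg Subtype.val h
  have hRcen : ∀ r ∈ R, ∀ g : P, g * r = r * g := by
    intro r hr g
    have h1 : E ≤ Subgroup.centralizer {r} := by
      intro e he
      rw [Subgroup.mem_centralizer_iff]
      intro x hx
      rw [Set.mem_singleton_iff] at hx
      subst hx
      exact (hER e he x hr).symm
    have h2 : R ≤ Subgroup.centralizer {r} := by
      intro r' hr'
      rw [Subgroup.mem_centralizer_iff]
      intro x hx
      rw [Set.mem_singleton_iff] at hx
      subst hx
      exact hRcomm x hr r' hr'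
    have h3 : g ∈ Subgroup.centralizer {r} := by
      have : g ∈ E ⊔ R := by rw [hsup]; exact Subgroup.mem_top g
      exact (sup_le h1 h2) this
    rw [Subgroup.mem_centralizer_iff] at h3
    exact (h3 r rfl).symm
  have hRn : R.Normal := by
    constructor
    intro r hr g
    rw [hRcen r hr g, mul_inv_cancel_right]
    exact hr
  have hdecomp : ∀ g : P, ∃ e ∈ E, ∃ r ∈ R, g = e * r := by
    intro g
    have h1 : g ∈ ((E ⊔ R : Subgroup P) : Set P) := by rw [hsup]; exact Set.mem_univ g
    rw [Subgroup.mul_normal E R] at h1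
    obtain ⟨e, he, r, hr, h⟩ := Set.mem_mul.1 h1
    exact ⟨e, he, r, hr, h.symm⟩
  -- class two with commutators of order dividing `p`
  have hcl : ∀ g h : P, g * h * g⁻¹ * h⁻¹ ∈ Subgroup.center P ∧ (g * h * g⁻¹ * h⁻¹) ^ p = 1 := by
    intro g h
    obtain ⟨e, he, r, hr, rfl⟩ := hdecomp g
    obtain ⟨e', he', r', hr', rfl⟩ := hdecomp h
    have hcomm : e * r * (e' * r') * (e * r)⁻¹ * (e' * r')⁻¹ = e * e' * e⁻¹ * e'⁻¹ := by
      have h1 : ∀ x : P, x * r = r * x := hRcen r hr
      have h2 : ∀ x : P, x * r' = r' * x := hRcen r' hr'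
      calc e * r * (e' * r') * (e * r)⁻¹ * (e' * r')⁻¹
          = e * (r * e') * r' * (r⁻¹ * e⁻¹) * (r'⁻¹ * e'⁻¹) := by group
        _ = e * (e' * r) * r' * (r⁻¹ * e⁻¹) * (r'⁻¹ * e'⁻¹) := by rw [h1 e']
        _ = e * e' * (r * r' * r⁻¹) * e⁻¹ * (r'⁻¹ * e'⁻¹) := by group
        _ = e * e' * r' * e⁻¹ * (r'⁻¹ * e'⁻¹) := by
            rw [h2 r, mul_inv_cancel_right]
        _ = e * e' * (r' * e⁻¹) * (r'⁻¹ * e'⁻¹) := by group
        _ = e * e' * (e⁻¹ * r') * (r'⁻¹ * e'⁻¹) := by rw [h2 e⁻¹]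
        _ = e * e' * e⁻¹ * e'⁻¹ := by group
    rw [hcomm]
    rcases hE with hE | hE
    · -- `E = ⊥`
      rw [hE, Subgroup.mem_bot] at he he'
      subst he; subst he'
      simp
    · -- `E` extraspecial
      obtain ⟨⟨-, -, hcz⟩, hcard⟩ := hE
      have hmem : (⟨e, he⟩ * ⟨e', he'⟩ * (⟨e, he⟩ : ↥E)⁻¹ * (⟨e', he'⟩ : ↥E)⁻¹ : ↥E) ∈
          Subgroup.center ↥E := by
        rw [← hcz, commutator_def]
        have h1 := Subgroup.commutator_mem_commutator
          (Subgroup.mem_top (⟨e, he⟩ : ↥E)) (Subgroup.mem_top (⟨e', he'⟩ : ↥E))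
        rwa [commutatorElement_def] at h1
      set c : ↥E := ⟨e, he⟩ * ⟨e', he'⟩ * (⟨e, he⟩ : ↥E)⁻¹ * (⟨e', he'⟩ : ↥E)⁻¹ with hc
      have hcval : (c : P) = e * e' * e⁻¹ * e'⁻¹ := rfl
      rw [← hcval]
      constructor
      · -- central in `P`
        rw [Subgroup.mem_center_iff]
        intro g
        obtain ⟨e₂, he₂, r₂, hr₂, rfl⟩ := hdecomp g
        have h1 : (⟨e₂, he₂⟩ : ↥E) * c = c * ⟨e₂, he₂⟩ := (Subgroup.mem_center_iff.1 hmem) ⟨e₂, he₂⟩
        have h1' : e₂ * (c : P) = (c : P) * e₂ := congrArg Subtype.val h1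
        have h2 : (c : P) * r₂ = r₂ * (c : P) := hRcen r₂ hr₂ c
        calc e₂ * r₂ * (c : P) = e₂ * (r₂ * (c : P)) := by group
          _ = e₂ * ((c : P) * r₂) := by rw [h2]
          _ = (e₂ * (c : P)) * r₂ := by group
          _ = ((c : P) * e₂) * r₂ := by rw [h1']
          _ = (c : P) * (e₂ * r₂) := by group
      · have h1 : ((⟨c, hmem⟩ : Subgroup.center ↥E)) ^ p = 1 := by
          rw [← hcard]
          exact pow_card_eq_one'
        have h2 := congrArg (fun t : Subgroup.center ↥E => ((t : ↥E) : P)) h1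
        simpa using h2
  -- exponent `p`
  have hexp : ∀ x : P, x ^ p = 1 := by
    let T : Subgroup P :=
      { carrier := {x | x ^ p = 1}
        one_mem' := one_pow p
        mul_mem' := by
          intro x y hx hy
          have hx' : x ^ p = 1 := hx
          have hy' : y ^ p = 1 := hy
          obtain ⟨hc1, hc2⟩ := hcl y x
          have hu : Commute (y * x * y⁻¹ * x⁻¹) x := (Subgroup.mem_center_iff.1 hc1 x).symm
          have hv : Commute (y * x * y⁻¹ * x⁻¹) y := (Subgroup.mem_center_iff.1 hc1 y).symm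
          have h1 := Cfsg.Agent.Lib.H9.mul_pow_of_comm hu hv p
          have hodd : p * (p - 1) / 2 = p * ((p - 1) / 2) := by
            have h2 : Odd p := hpp.odd_of_ne_two hp
            obtain ⟨k, hk⟩ := h2
            have h3 : p - 1 = 2 * k := by omega
            rw [h3, Nat.mul_div_cancel_left _ (by norm_num : 0 < 2), ← mul_assoc, mul_comm p 2,
              mul_assoc, Nat.mul_div_cancel_left _ (by norm_num : 0 < 2)]
          show (x * y) ^ p = 1
          rw [h1, hx', hy', hodd, pow_mul, hc2, one_pow, one_mul, one_mul]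
        inv_mem' := by
          intro x hx
          have hx' : x ^ p = 1 := hx
          show (x⁻¹) ^ p = 1
          rw [inv_pow, hx', inv_one] }
    have hST : Subgroup.closure S ≤ T := by
      rw [Subgroup.closure_le]
      intro s hs
      exact hSp s hs
    intro x
    have : x ∈ T := hST (by rw [hS]; exact Subgroup.mem_top x)
    exact this
  refine ⟨hexp, ?_, ?_⟩
  · intro hab
    have h1 := hchar ⊤ inferInstance (fun x _ y _ => hab x y) (fun x _ => hexp x)
    rwa [Subgroup.card_top] at h1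
  · rintro ⟨x, y, hxy⟩
    have : Nontrivial P := ⟨⟨x, y, by
      rintro rfl
      exact hxy rfl⟩⟩
    have hZ := hchar (Subgroup.center P) inferInstance
      (fun a ha b _ => (Subgroup.mem_center_iff.1 ha b).symm) (fun a _ => hexp a)
    have := hP.center_nontrivial
    obtain ⟨⟨z, hzc⟩, hz1⟩ := exists_ne (1 : Subgroup.center P)
    have hz1' : z ≠ 1 := fun h => hz1 (Subtype.ext h)
    have hord : orderOf z = p := orderOf_eq_prime (hexp z) hz1'
    have hzle : Subgroup.zpowers z ≤ Subgroup.center P := by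
      rw [Subgroup.zpowers_le]
      exact hzc
    have hcardz : Nat.card (Subgroup.zpowers z) = p := by rw [Nat.card_zpowers, hord]
    have heq : Subgroup.zpowers z = Subgroup.center P := by
      apply Subgroup.eq_of_le_of_card_ge hzle
      rw [hcardz]
      exact hZ
    refine ⟨z, hz1', fun g => Subgroup.mem_center_iff.1 hzc g, ?_, ?_⟩
    · intro g h
      rw [heq]
      exact (hcl g h).1
    · intro g hg
      rw [heq, Subgroup.mem_center_iff]
      intro h
      exact (hg h).symm

end Cfsg.Agent.Lib.H23.Fum
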