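import Mathlib
import Cfsg.Prelude.Def_Blocks
import Cfsg.Prelude.Def_Characters

/-!
# S4561 (Gagola): the basic construction (helper23)

For a group `H₀` and a prime `p`, `Tw H₀ p` is the fibre product of the regular wreath product
`H₀ ≀ C_p` with the Heisenberg group of order `p³` over `C_p`:  elements `(f, s, v, c)` with
`f : C_p → H₀`, `s ∈ C_p`, `v c ∈ ZMod p` and
`(f,s,v,c)(f',s',v',c') = (f · (f' ∘ (s⁻¹ ·)), s s', v + v', c + c' + s v')`.
-/

set_option autoImplicit false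

universe u

namespace Cfsg.Agent.Lib.H23.Gag

open Cfsg

/-- The cyclic group of order `p`. -/
abbrev Cp (p : ℕ) : Type := Multiplicative (ZMod p)

/-- The fibre product of `H₀ ≀ C_p` and the Heisenberg group over `C_p`. -/
@[ext] structure Tw (H₀ : Type u) (p : ℕ) : Type u where
  f : Cp p → H₀
  s : Cp p
  v : ZMod p
  c : ZMod p

namespace Tw

variable {H₀ : Type u} [Group H₀] {p : ℕ}

instance instMul : Mul (Tw H₀ p) :=
  ⟨fun x y => ⟨x.f * fun t => y.f (x.s⁻¹ * t), x.s * y.s, x.v + y.v,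
    x.c + y.c + Multiplicative.toAdd x.s * y.v⟩⟩
instance instOne : One (Tw H₀ p) := ⟨⟨1, 1, 0, 0⟩⟩
instance instInv : Inv (Tw H₀ p) :=
  ⟨fun x => ⟨fun t => (x.f (x.s * t))⁻¹, x.s⁻¹, -x.v, -x.c + Multiplicative.toAdd x.s * x.v⟩⟩

@[simp] theorem mul_f (x y : Tw H₀ p) : (x * y).f = x.f * fun t => y.f (x.s⁻¹ * t) := rfl
@[simp] theorem mul_s (x y : Tw H₀ p) : (x * y).s = x.s * y.s := rfl
@[simp] theorem mul_v (x y : Tw H₀ p) : (x * y).v = x.v + y.v := rfl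
@[simp] theorem mul_c (x y : Tw H₀ p) :
    (x * y).c = x.c + y.c + Multiplicative.toAdd x.s * y.v := rfl
@[simp] theorem one_f : (1 : Tw H₀ p).f = 1 := rfl
@[simp] theorem one_s : (1 : Tw H₀ p).s = 1 := rfl
@[simp] theorem one_v : (1 : Tw H₀ p).v = 0 := rfl
@[simp] theorem one_c : (1 : Tw H₀ p).c = 0 := rfl
@[simp] theorem inv_f (x : Tw H₀ p) : (x⁻¹).f = fun t => (x.f (x.s * t))⁻¹ := rfl
@[simp] theorem inv_s (x : Tw H₀ p) : (x⁻¹).s = x.s⁻¹ := rfl
@[simp] theorem inv_v (x : Tw H₀ p) : (x⁻¹).v = -x.v := rfl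
@[simp] theorem inv_c (x : Tw H₀ p) :
    (x⁻¹).c = -x.c + Multiplicative.toAdd x.s * x.v := rfl

instance instGroup : Group (Tw H₀ p) where
  mul_assoc := by
    intro x y z
    ext t
    · simp [mul_assoc, mul_inv_rev, mul_comm]
    · simp [mul_assoc]
    · simp [add_assoc]
    · simp; ring
  one_mul := by intro x; ext <;> simp
  mul_one := by intro x; ext <;> simp
  inv_mul_cancel := by
    intro x
    ext t <;> simp

/-- the obvious equivalence with a product, for counting -/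
def equivProd : Tw H₀ p ≃ (Cp p → H₀) × Cp p × ZMod p × ZMod p where
  toFun x := (x.f, x.s, x.v, x.c)
  invFun t := ⟨t.1, t.2.1, t.2.2.1, t.2.2.2⟩
  left_inv _ := rfl
  right_inv _ := rfl

instance instFinite [Finite H₀] [NeZero p] : Finite (Tw H₀ p) :=
  Finite.of_equiv _ (equivProd (H₀ := H₀) (p := p)).symm

noncomputable instance instFintype [Finite H₀] [NeZero p] : Fintype (Tw H₀ p) := Fintype.ofFinite _

/-- The base group `{s = 1}` `≅ H₀^p × C_p × C_p`. -/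
def base (H₀ : Type u) [Group H₀] (p : ℕ) : Subgroup (Tw H₀ p) where
  carrier := {x | x.s = 1}
  one_mem' := rfl
  mul_mem' := by
    intro a b ha hb
    simp only [Set.mem_ofPred_eq] at ha hb ⊢
    rw [mul_s, ha, hb, one_mul]
  inv_mem' := by
    intro a ha
    simp only [Set.mem_ofPred_eq] at ha ⊢
    rw [inv_s, ha, inv_one]

theorem mem_base {x : Tw H₀ p} : x ∈ base H₀ p ↔ x.s = 1 := Iff.rfl

/-- The subgroup `Z* = {(f,1,0,c) : f ∈ Z(H₀)^p}`. -/
def zstar (H₀ : Type u) [Group H₀] (p : ℕ) : Subgroup (Tw H₀ p) where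
  carrier := {x | x.s = 1 ∧ x.v = 0 ∧ ∀ t, x.f t ∈ Subgroup.center H₀}
  one_mem' := ⟨rfl, rfl, fun _ => Subgroup.one_mem _⟩
  mul_mem' := by
    rintro a b ⟨ha1, ha2, ha3⟩ ⟨hb1, hb2, hb3⟩
    refine ⟨by rw [mul_s, ha1, hb1, one_mul], by rw [mul_v, ha2, hb2, add_zero], fun t => ?_⟩
    rw [mul_f]
    exact Subgroup.mul_mem _ (ha3 t) (hb3 _)
  inv_mem' := by
    rintro a ⟨ha1, ha2, ha3⟩
    refine ⟨by rw [inv_s, ha1, inv_one], by rw [inv_v, ha2, neg_zero], fun t => ?_⟩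
    rw [inv_f]
    exact Subgroup.inv_mem _ (ha3 _)

theorem mem_zstar {x : Tw H₀ p} :
    x ∈ zstar H₀ p ↔ x.s = 1 ∧ x.v = 0 ∧ ∀ t, x.f t ∈ Subgroup.center H₀ := Iff.rfl

theorem zstar_le_base : zstar H₀ p ≤ base H₀ p := fun _ hx => hx.1


theorem conj_s (x y : Tw H₀ p) : (x * y * x⁻¹).s = y.s := by
  simp

theorem conj_v (x y : Tw H₀ p) : (x * y * x⁻¹).v = y.v := by
  simp

theorem conj_f (x y : Tw H₀ p) (t : Cp p) :
    (x * y * x⁻¹).f t = x.f t * y.f (x.s⁻¹ * t) * (x.f (y.s⁻¹ * t))⁻¹ := by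
  simp [mul_assoc, mul_comm, mul_left_comm]

instance base_normal : (base H₀ p).Normal := by
  constructor
  intro y hy x
  rw [mem_base] at hy ⊢
  rw [conj_s, hy]

instance zstar_normal : (zstar H₀ p).Normal := by
  constructor
  intro y hy x
  rw [mem_zstar] at hy ⊢
  obtain ⟨h1, h2, h3⟩ := hy
  refine ⟨by rw [conj_s, h1], by rw [conj_v, h2], fun t => ?_⟩
  rw [conj_f, h1, inv_one, one_mul]
  have hc := h3 (x.s⁻¹ * t)
  have : x.f t * y.f (x.s⁻¹ * t) * (x.f t)⁻¹ = y.f (x.s⁻¹ * t) := by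
    rw [Subgroup.mem_center_iff] at hc
    rw [hc (x.f t), mul_inv_cancel_right]
  rw [this]
  exact hc

/-- The character `ϑ = (χ₀ × ⋯ × χ₀) × μ` of the base group, `μ(v, c) = ω^c`. -/
noncomputable def theta (p : ℕ) [NeZero p] (χ₀ : H₀ → ℂ) : ↥(base H₀ p) → ℂ :=
  fun x => (∏ t : Cp p, χ₀ (x.1.f t)) * (ZMod.stdAddChar x.1.c : ℂ)

/-- The induced character `χ = ϑ^{Tw}`. -/
noncomputable def chi [Finite H₀] (p : ℕ) [NeZero p] (χ₀ : H₀ → ℂ) : Tw H₀ p → ℂ :=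
  Cfsg.indFun (base H₀ p) (theta p χ₀)

/-- The projection onto `(H₀/Z(H₀) ≀ C_p) × C_p`, with kernel `Z*`. -/
def phi (H₀ : Type u) [Group H₀] (p : ℕ) :
    Tw H₀ p →* ((H₀ ⧸ Subgroup.center H₀) ≀ᵣ Cp p) × Multiplicative (ZMod p) where
  toFun x := (⟨fun t => (x.f t : H₀ ⧸ Subgroup.center H₀), x.s⟩, Multiplicative.ofAdd x.v)
  map_one' := rfl
  map_mul' := by
    intro x y
    refine Prod.ext ?_ rfl
    apply RegularWreathProduct.ext
    · funext t
      simp [RegularWreathProduct.mul_def]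
    · rfl

end Tw

end Cfsg.Agent.Lib.H23.Gag
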