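import Cfsg.Agent.Lib.H23.PermChar
import Cfsg.Agent.Lib.L0.CharIndChar
import Cfsg.Agent.Lib.L0.CharOps
import Cfsg.Agent.Lib.L0.CharInner
import Cfsg.Agent.Lib.H8.GenChar

/-!
# Permutation characters: inner products as orbit counts (helper23)

* `isCharacter_permChar`: the permutation character of a finite `G`-set is a character;
* `classInner_permChar_one`: `⟨π_X, 1⟩` is the number of orbits;
* `classInner_permChar_permChar`: `⟨π_X, π_Y⟩` is the number of orbits on `X × Y`;
* `card_orbits_eq`: the orbits are counted by a complete invariant.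
-/

set_option autoImplicit false

namespace Cfsg.Agent.Lib.H23.PermIrr

open Cfsg.Agent.Lib.L0 Cfsg.Agent.Lib.H23 MulAction
open scoped ComplexConjugate

variable {H : Type*} [Group H] [Fintype H]

/-- the permutation character of a finite `H`-set is a character -/
theorem isCharacter_permChar (X : Type*) [MulAction H X] [Fintype X] :
    Cfsg.IsCharacter H (fun g : H => permChar X g) := by
  classical
  haveI : Fintype (orbitRel.Quotient H X) := Fintype.ofFinite _
  rw [permChar_eq_sum_orbits X (fun ω => Quotient.out ω) (fun ω => Quotient.out_eq' ω)]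
  refine isCharacter_finset_sum _ _ fun ω _ => ?_
  exact isCharacter_indFun _ (isCharacter_of_irr isIrrCharacter_one)

/-- Burnside: the sum of the permutation character is `|H|` times the number of orbits -/
theorem sum_permChar (X : Type*) [MulAction H X] [Fintype X] :
    ∑ g : H, permChar X g = (Nat.card H : ℂ) * (Nat.card (orbitRel.Quotient H X) : ℂ) := by
  classical
  haveI : Fintype (orbitRel.Quotient H X) := Fintype.ofFinite _
  haveI : ∀ g : H, Fintype (fixedBy X g) := fun g => Fintype.ofFinite _
  have h := MulAction.sum_card_fixedBy_eq_card_orbits_mul_card_group H X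
  unfold permChar
  rw [← Nat.cast_sum, ← Nat.cast_mul]
  congr 1
  rw [Nat.card_eq_fintype_card, Nat.card_eq_fintype_card, mul_comm]
  rw [← h]
  refine Finset.sum_congr rfl fun g _ => ?_
  rw [Nat.card_eq_fintype_card]

theorem classInner_permChar_one (X : Type*) [MulAction H X] [Fintype X] :
    Cfsg.classInner (fun g : H => permChar X g) (1 : H → ℂ) =
      (Nat.card (orbitRel.Quotient H X) : ℂ) := by
  unfold Cfsg.classInner
  have h1 : ∀ g : H, permChar X g * conj ((1 : H → ℂ) g) = permChar X g := by
    intro g; simp
  rw [Finset.sum_congr rfl fun g _ => h1 g, sum_permChar]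
  have hG : (Nat.card H : ℂ) ≠ 0 := by exact_mod_cast (Nat.card_pos (α := H)).ne'
  field_simp

theorem classInner_permChar_permChar (X Y : Type*) [MulAction H X] [Fintype X]
    [MulAction H Y] [Fintype Y] :
    Cfsg.classInner (fun g : H => permChar X g) (fun g : H => permChar Y g) =
      (Nat.card (orbitRel.Quotient H (X × Y)) : ℂ) := by
  unfold Cfsg.classInner
  have h1 : ∀ g : H, permChar X g * conj (permChar Y g) = permChar (X × Y) g := by
    intro g
    rw [permChar_prod]
    unfold permChar
    rw [Complex.conj_natCast]
  rw [Finset.sum_congr rfl fun g _ => h1 g, sum_permChar]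
  have hG : (Nat.card H : ℂ) ≠ 0 := by exact_mod_cast (Nat.card_pos (α := H)).ne'
  field_simp

theorem classInner_one_permChar (X : Type*) [MulAction H X] [Fintype X] :
    Cfsg.classInner (1 : H → ℂ) (fun g : H => permChar X g) =
      (Nat.card (orbitRel.Quotient H X) : ℂ) := by
  rw [← classInner_conj_symm, classInner_permChar_one, Complex.conj_natCast]

omit [Fintype H] in
/-- the orbits are counted by a complete invariant -/
theorem card_orbits_eq {Z T : Type*} [MulAction H Z] [Fintype T] (pat : Z → T)
    (hinv : ∀ (h : H) (z : Z), pat (h • z) = pat z)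
    (hinj : ∀ z z' : Z, pat z = pat z' → ∃ h : H, h • z = z')
    (hsurj : Function.Surjective pat) :
    Nat.card (orbitRel.Quotient H Z) = Fintype.card T := by
  rw [← Nat.card_eq_fintype_card]
  refine Nat.card_congr (Equiv.ofBijective
    (Quotient.lift pat (fun z z' hzz' => ?_)) ⟨?_, ?_⟩)
  · obtain ⟨h, rfl⟩ := (orbitRel_apply).mp hzz'
    exact hinv h z'
  · intro q q' hqq'
    induction q using Quotient.inductionOn with | _ z => ?_
    induction q' using Quotient.inductionOn with | _ z' => ?_
    obtain ⟨h, rfl⟩ := hinj z z' hqq'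
    apply Quotient.sound
    exact (orbitRel_apply).mpr ⟨h⁻¹, by simp⟩
  · intro t
    obtain ⟨z, rfl⟩ := hsurj t
    exact ⟨Quotient.mk'' z, rfl⟩

end Cfsg.Agent.Lib.H23.PermIrr
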