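import Cfsg.Agent.Lib.H15.LSDefs
import Cfsg.Agent.S0837
import Cfsg.Agent.S0782

/-!
# LS-D (helper23 for helper15, S2335 / S2334): the characters of `Herm σ m`

`Φ Y = (X ↦ χ (trace (X * Y)))` is a bijection from the hermitian matrices onto the complex characters of
the additive group of hermitian matrices, for a character `χ` of `F` which is non-trivial on the fixed field.
-/

set_option autoImplicit false
set_option linter.unusedSectionVars false

namespace Cfsg.Agent.Lib.H23.LS

open Matrix Cfsg.Agent.Lib.H15.LS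

variable {F : Type*} [Field F] [Fintype F] {q : ℕ}

/-- the additive map `X ↦ trace (X * Y)` on hermitian matrices -/
noncomputable def lsdTr (σ : F →+* F) (m : ℕ) (Y : Matrix (Fin m) (Fin m) F) : Herm σ m →+ F :=
  (Matrix.traceAddMonoidHom (Fin m) F).comp ((AddMonoidHom.mulRight Y).comp (Herm σ m).subtype)

theorem lsdTr_apply (σ : F →+* F) (m : ℕ) (Y : Matrix (Fin m) (Fin m) F) (X : Herm σ m) :
    lsdTr σ m Y X = Matrix.trace ((X : Matrix (Fin m) (Fin m) F) * Y) := rfl

/-- entries of a hermitian matrix -/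
theorem lsd_herm_apply (σ : F →+* F) {m : ℕ} {D : Matrix (Fin m) (Fin m) F} (hD : D ∈ Herm σ m)
    (i j : Fin m) : σ (D i j) = D j i := by
  have h : (D.map σ)ᵀ = D := hD
  have := congrFun (congrFun h j) i
  simpa using this

/-- scaling a hermitian matrix by a fixed element -/
theorem lsd_smul_mem (σ : F →+* F) {m : ℕ} {X : Matrix (Fin m) (Fin m) F} (hX : X ∈ Herm σ m)
    (a : F) (ha : σ a = a) : a • X ∈ Herm σ m := by
  show ((a • X).map σ)ᵀ = a • X
  ext i j
  have := lsd_herm_apply σ hX j i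
  simp only [Matrix.transpose_apply, Matrix.map_apply, Matrix.smul_apply, smul_eq_mul, map_mul, ha,
    this]

/-- the hermitian matrix `y E_ji + σ y E_ij` -/
theorem lsd_pair_mem (σ : F →+* F) (hσ2 : ∀ x, σ (σ x) = x) {m : ℕ} (i j : Fin m)
    (y : F) :
    (Matrix.single j i y + Matrix.single i j (σ y) : Matrix (Fin m) (Fin m) F) ∈ Herm σ m := by
  show ((Matrix.single j i y + Matrix.single i j (σ y) : Matrix (Fin m) (Fin m) F).map σ)ᵀ = _
  rw [Matrix.map_add σ (map_add σ), Matrix.map_single, Matrix.map_single, Matrix.transpose_add,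
    Matrix.transpose_single, Matrix.transpose_single, hσ2, add_comm]

/-- the hermitian matrix `E_ii` -/
theorem lsd_diag_mem (σ : F →+* F) {m : ℕ} (i : Fin m) :
    (Matrix.single i i (1 : F) : Matrix (Fin m) (Fin m) F) ∈ Herm σ m := by
  show ((Matrix.single i i (1 : F) : Matrix (Fin m) (Fin m) F).map σ)ᵀ = _
  rw [Matrix.map_single, Matrix.transpose_single, map_one]

/-- a non-zero hermitian matrix pairs non-trivially (with a value in the fixed field) with some hermitian
matrix -/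
theorem lsd_exists_pair (hF : Fintype.card F = q ^ 2) (σ : F →+* F) (hσ : ∀ x, σ x = x ^ q)
    (hσ2 : ∀ x, σ (σ x) = x) {m : ℕ} (D : Matrix (Fin m) (Fin m) F) (hD : D ∈ Herm σ m)
    (hD0 : D ≠ 0) :
    ∃ X : Herm σ m, σ (Matrix.trace ((X : Matrix (Fin m) (Fin m) F) * D)) =
        Matrix.trace ((X : Matrix (Fin m) (Fin m) F) * D) ∧
      Matrix.trace ((X : Matrix (Fin m) (Fin m) F) * D) ≠ 0 := by
  classical
  have hσne : σ ≠ RingHom.id F := Cfsg.Agent.S0837.phi_ne_id σ hF hσ
  obtain ⟨i, j, hij⟩ : ∃ i j, D i j ≠ 0 := by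
    by_contra hcon
    push Not at hcon
    apply hD0
    ext i j
    exact hcon i j
  by_cases hdiag : i = j
  · subst hdiag
    have hmem := lsd_diag_mem σ (m := m) i
    have htr : Matrix.trace ((Matrix.single i i (1 : F) : Matrix (Fin m) (Fin m) F) * D) = D i i := by
      rw [Matrix.trace_single_mul, smul_eq_mul, one_mul]
    refine ⟨⟨_, hmem⟩, ?_, ?_⟩
    · show σ (Matrix.trace ((Matrix.single i i (1 : F) : Matrix (Fin m) (Fin m) F) * D)) = _
      rw [htr]
      exact lsd_herm_apply σ hD i i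
    · show Matrix.trace ((Matrix.single i i (1 : F) : Matrix (Fin m) (Fin m) F) * D) ≠ 0
      rw [htr]; exact hij
  · obtain ⟨z, hz⟩ := Cfsg.Agent.S0782.exists_trace hσne hσ2 (-1 : F) (by simp)
    have hz' : z + σ z = 1 := by linear_combination hz
    obtain ⟨y, hy⟩ : ∃ y : F, y = z / D i j := ⟨_, rfl⟩
    have hyd : y * D i j = z := by rw [hy]; field_simp
    have hmem := lsd_pair_mem σ hσ2 (m := m) i j y
    have htr : Matrix.trace ((Matrix.single j i y + Matrix.single i j (σ y) :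
        Matrix (Fin m) (Fin m) F) * D) = y * D i j + σ y * D j i := by
      rw [Matrix.add_mul, Matrix.trace_add, Matrix.trace_single_mul, Matrix.trace_single_mul,
        smul_eq_mul, smul_eq_mul]
    have hval : y * D i j + σ y * D j i = 1 := by
      rw [← lsd_herm_apply σ hD i j, ← map_mul, hyd]; exact hz'
    refine ⟨⟨_, hmem⟩, ?_, ?_⟩
    · show σ (Matrix.trace ((Matrix.single j i y + Matrix.single i j (σ y) :
        Matrix (Fin m) (Fin m) F) * D)) = _
      rw [htr, hval, map_one]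
    · show Matrix.trace ((Matrix.single j i y + Matrix.single i j (σ y) :
        Matrix (Fin m) (Fin m) F) * D) ≠ 0
      rw [htr, hval]; exact one_ne_zero

/-- **LS-D** -/
theorem exists_duality (hF : Fintype.card F = q ^ 2) (σ : F →+* F) (hσ : ∀ x, σ x = x ^ q)
    (hσ2 : ∀ x, σ (σ x) = x) (m : ℕ) :
    ∃ (χ : AddChar F ℂ) (Φ : Herm σ m ≃ AddChar (Herm σ m) ℂ),
      (∀ c : F, σ c = c → c ≠ 0 → ∃ a : F, σ a = a ∧ χ (a * c) ≠ 1) ∧
      (∀ Y X : Herm σ m, Φ Y X = χ (Matrix.trace ((X : Matrix (Fin m) (Fin m) F) * (Y : Matrix (Fin m) (Fin m) F)))) := by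
  classical
  obtain ⟨χ, hχ⟩ := (AddChar.exists_apply_ne_zero (α := F) (a := 1)).2 one_ne_zero
  have hprim : ∀ c : F, σ c = c → c ≠ 0 → ∃ a : F, σ a = a ∧ χ (a * c) ≠ 1 := by
    intro c hc hc0
    refine ⟨c⁻¹, by rw [map_inv₀, hc], ?_⟩
    rw [inv_mul_cancel₀ hc0]
    exact hχ
  let f : Herm σ m → AddChar (Herm σ m) ℂ := fun Y => χ.compAddMonoidHom (lsdTr σ m Y.1)
  have hf_apply : ∀ Y X : Herm σ m, f Y X =
      χ (Matrix.trace ((X : Matrix (Fin m) (Fin m) F) * (Y : Matrix (Fin m) (Fin m) F))) := by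
    intro Y X
    rfl
  have hinj : Function.Injective f := by
    intro Y Y' hYY'
    by_contra hne
    have hD0 : (Y.1 - Y'.1 : Matrix (Fin m) (Fin m) F) ≠ 0 := by
      intro h0
      exact hne (Subtype.ext (sub_eq_zero.1 h0))
    have hDmem : (Y.1 - Y'.1 : Matrix (Fin m) (Fin m) F) ∈ Herm σ m :=
      (Herm σ m).sub_mem Y.2 Y'.2
    obtain ⟨X, hXσ, hX0⟩ := lsd_exists_pair hF σ hσ hσ2 _ hDmem hD0
    obtain ⟨a, ha, hac⟩ := hprim _ hXσ hX0
    apply hac
    have hX' : a • (X : Matrix (Fin m) (Fin m) F) ∈ Herm σ m := lsd_smul_mem σ X.2 a ha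
    have h1 := congrArg (fun ψ : AddChar (Herm σ m) ℂ => ψ ⟨_, hX'⟩) hYY'
    simp only [hf_apply] at h1
    have h2 : a * Matrix.trace ((X : Matrix (Fin m) (Fin m) F) * (Y.1 - Y'.1)) =
        Matrix.trace ((a • (X : Matrix (Fin m) (Fin m) F)) * Y.1) -
          Matrix.trace ((a • (X : Matrix (Fin m) (Fin m) F)) * Y'.1) := by
      rw [Matrix.mul_sub, Matrix.trace_sub, Matrix.smul_mul, Matrix.smul_mul, Matrix.trace_smul,
        Matrix.trace_smul, smul_eq_mul, smul_eq_mul]
      ring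
    rw [h2, AddChar.map_sub_eq_div, h1]
    refine div_self ?_
    intro h0
    have h3 := χ.map_add_eq_mul (Matrix.trace ((a • (X : Matrix (Fin m) (Fin m) F)) * Y'.1))
      (-(Matrix.trace ((a • (X : Matrix (Fin m) (Fin m) F)) * Y'.1)))
    rw [add_neg_cancel, χ.map_zero_eq_one, h0, zero_mul] at h3
    exact one_ne_zero h3
  have hbij : Function.Bijective f := by
    rw [Fintype.bijective_iff_injective_and_card]
    exact ⟨hinj, (AddChar.card_eq (α := Herm σ m)).symm⟩
  exact ⟨χ, Equiv.ofBijective f hbij, hprim, fun Y X => hf_apply Y X⟩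

end Cfsg.Agent.Lib.H23.LS
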