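import Cfsg.Agent.Lib.H23.UP2E1a
import Cfsg.Agent.Lib.H2.AschP2B2F1

/-!
# UP2-E1 (helper23): over the field with four elements a non-degenerate decomposition into planes
refines to a decomposition into non-degenerate lines with a larger stabiliser in `GU`
-/

set_option autoImplicit false

namespace Cfsg.Agent.Lib.H23.UP2

open Cfsg Cfsg.Geo Cfsg.Agent.Lib.H17.Asch Cfsg.Agent.Lib.H28
open scoped MatrixGroups Matrix

variable {F : Type*} [Field F] [Fintype F] {n q : ℕ}

/-- `|F| = 4`: the non-isotropic vectors of a plane with orthogonal non-isotropic basis `x, y` lie on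
the two lines `F x`, `F y`. -/
theorem mem_line_of_nonisotropic (hF : Fintype.card F = 2 ^ 2) {x y : Fin n → F}
    (hxx : hermForm n F 2 x x ≠ 0) (hyy : hermForm n F 2 y y ≠ 0)
    (hxy : hermForm n F 2 x y = 0) (hyx : hermForm n F 2 y x = 0) (a b : F)
    (hw : hermForm n F 2 (a • x + b • y) (a • x + b • y) ≠ 0) :
    (a ≠ 0 ∧ b = 0) ∨ (a = 0 ∧ b ≠ 0) := by
  have h1 : hermForm n F 2 x x = 1 := f4_fix (herm_self_pow hF x) hxx
  have h2 : hermForm n F 2 y y = 1 := f4_fix (herm_self_pow hF y) hyy
  have hexp : hermForm n F 2 (a • x + b • y) (a • x + b • y) = a * a ^ 2 + b * b ^ 2 := by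
    simp only [herm_add_left, herm_add_right hF, herm_smul_left, herm_smul_right, h1, h2, hxy, hyx]
    ring
  rw [hexp] at hw
  by_cases ha : a = 0
  · right
    refine ⟨ha, ?_⟩
    rintro rfl
    apply hw
    rw [ha]
    ring
  · left
    refine ⟨ha, ?_⟩
    by_contra hb
    apply hw
    rw [f4_cube hF ha, f4_cube hF hb]
    exact f4_two hF

/-- **UP2-E1**. -/
theorem c2_k2_q2 (hF : Fintype.card F = q ^ 2) (hq : q = 2) {t : ℕ}
    (D : Fin t → Submodule F (Fin n → F))
    (hD : IsNondegenerateMDecomposition (hermForm n F q) 2 D) :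
    ∃ D' : Fin n → Submodule F (Fin n → F),
      IsNondegenerateMDecomposition (hermForm n F q) 1 D' ∧
      decompositionStabilizer D ⊓ GU n F q ≤ decompositionStabilizer D' := by
  classical
  subst hq
  have htn := Cfsg.Agent.Lib.H2.AschP2.mul_eq_of_isMDecomposition D hD.decomp
  have ht := hD.decomp.two_le
  have hfun := fun i => exists_orth_pair hF (D i) (hD.nondegenerate i) (hD.decomp.finrank_eq i)
  choose x y hx hy hxx hyy hxy hyx hsp using hfun
  set e : Fin n ≃ Fin t × Fin 2 := (finCongr htn.symm).trans finProdFinEquiv.symm with he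
  set zz : Fin t × Fin 2 → (Fin n → F) := fun p => if p.2 = 0 then x p.1 else y p.1 with hzzdef
  have hzzD : ∀ p, zz p ∈ D p.1 := by
    intro p
    rw [hzzdef]
    simp only
    split_ifs
    · exact hx p.1
    · exact hy p.1
  have hzz : ∀ p, hermForm n F 2 (zz p) (zz p) ≠ 0 := by
    intro p
    rw [hzzdef]
    simp only
    split_ifs
    · exact hxx p.1
    · exact hyy p.1
  have hzo : ∀ p p', p ≠ p' → hermForm n F 2 (zz p) (zz p') = 0 := by
    intro p p' hpp
    by_cases h1 : p.1 = p'.1
    · have h2 : p.2 ≠ p'.2 := fun h => hpp (Prod.ext h1 h)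
      rw [hzzdef]
      simp only
      by_cases h0 : p.2 = 0
      · have h0' : p'.2 ≠ 0 := fun h => h2 (h0.trans h.symm)
        rw [if_pos h0, if_neg h0', h1]
        exact hxy p'.1
      · have h0' : p'.2 = 0 := by
          have := h2
          omega
        rw [if_neg h0, if_pos h0', h1]
        exact hyx p'.1
    · exact hD.orthogonal p.1 p'.1 h1 _ (hzzD p) _ (hzzD p')
  set z : Fin n → (Fin n → F) := fun j => zz (e j) with hzdef
  have hzj : ∀ p, zz p = z (e.symm p) := by
    intro p
    rw [hzdef]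
    simp only
    rw [Equiv.apply_symm_apply]
  have hspan : ⨆ j, Submodule.span F {z j} = ⊤ := by
    rw [eq_top_iff, ← hD.decomp.iSup_eq_top]
    refine iSup_le fun i => ?_
    intro w hw
    obtain ⟨a, b, rfl⟩ := hsp i w hw
    have e0 : x i = z (e.symm (i, 0)) := by rw [← hzj]; simp [hzzdef]
    have e1 : y i = z (e.symm (i, 1)) := by rw [← hzj]; simp [hzzdef]
    refine Submodule.add_mem _ (Submodule.smul_mem _ _ ?_) (Submodule.smul_mem _ _ ?_)
    · rw [e0]
      exact (le_iSup (fun j => Submodule.span F {z j}) (e.symm (i, 0)))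
        (Submodule.mem_span_singleton_self _)
    · rw [e1]
      exact (le_iSup (fun j => Submodule.span F {z j}) (e.symm (i, 1)))
        (Submodule.mem_span_singleton_self _)
  have hn2 : 2 ≤ n := by
    have : 2 * 2 ≤ t * 2 := Nat.mul_le_mul_right 2 ht
    omega
  refine ⟨fun j => Submodule.span F {z j},
    isNondegenerateMDecomposition_of_frame hF hn2 z (fun j => hzz (e j))
      (fun j l hjl => hzo _ _ (fun h => hjl (e.injective h))) hspan, ?_⟩
  rintro g ⟨⟨σ, hσ⟩, hgU⟩
  have hgU' : ∀ u v : Fin n → F,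
      hermForm n F 2 ((g : Matrix (Fin n) (Fin n) F) *ᵥ u) ((g : Matrix (Fin n) (Fin n) F) *ᵥ v) =
        hermForm n F 2 u v := hgU
  have key : ∀ j, ∃ l, (Submodule.span F {z j}).map (Matrix.toLin' (g : Matrix (Fin n) (Fin n) F)) =
      Submodule.span F {z l} := by
    intro j
    set i := (e j).1 with hi
    have h1 : (g : Matrix (Fin n) (Fin n) F) *ᵥ z j ∈ D (σ i) :=
      mulVec_mem_of_map_eq (hσ i) (hzzD (e j))
    have h2 : hermForm n F 2 ((g : Matrix (Fin n) (Fin n) F) *ᵥ z j)
        ((g : Matrix (Fin n) (Fin n) F) *ᵥ z j) ≠ 0 := by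
      rw [hgU']
      exact hzz (e j)
    obtain ⟨a, b, hab⟩ := hsp (σ i) _ h1
    rw [hab] at h2
    have himg : (Submodule.span F {z j}).map (Matrix.toLin' (g : Matrix (Fin n) (Fin n) F)) =
        Submodule.span F {(g : Matrix (Fin n) (Fin n) F) *ᵥ z j} := by
      rw [Submodule.map_span, Set.image_singleton, Matrix.toLin'_apply]
    rcases mem_line_of_nonisotropic hF (hxx (σ i)) (hyy (σ i)) (hxy (σ i)) (hyx (σ i)) a b h2 with
      ⟨ha, hb⟩ | ⟨ha, hb⟩
    · refine ⟨e.symm (σ i, 0), ?_⟩
      rw [himg, hab, hb, zero_smul, add_zero, ← hzj]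
      have : zz (σ i, 0) = x (σ i) := by simp [hzzdef]
      rw [this]
      exact Submodule.span_singleton_smul_eq (IsUnit.mk0 a ha) _
    · refine ⟨e.symm (σ i, 1), ?_⟩
      rw [himg, hab, ha, zero_smul, zero_add, ← hzj]
      have : zz (σ i, 1) = y (σ i) := by simp [hzzdef]
      rw [this]
      exact Submodule.span_singleton_smul_eq (IsUnit.mk0 b hb) _
  choose π hπ using key
  have hginj : Function.Injective (Matrix.toLin' (g : Matrix (Fin n) (Fin n) F)) := by
    intro u v huv
    rw [Matrix.toLin'_apply, Matrix.toLin'_apply] at huv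
    have := congrArg (fun w => ((g⁻¹ : GL (Fin n) F) : Matrix (Fin n) (Fin n) F) *ᵥ w) huv
    simpa [Matrix.mulVec_mulVec, ← Units.val_mul] using this
  have hinj : Function.Injective π := by
    intro j l hjl
    by_contra hne
    have h1 : (Submodule.span F {z j}).map (Matrix.toLin' (g : Matrix (Fin n) (Fin n) F)) =
        (Submodule.span F {z l}).map (Matrix.toLin' (g : Matrix (Fin n) (Fin n) F)) := by
      rw [hπ j, hπ l, hjl]
    have h2 := Submodule.map_injective_of_injective hginj h1
    have h3 : z j ∈ Submodule.span F {z l} := by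
      rw [← h2]
      exact Submodule.mem_span_singleton_self _
    obtain ⟨c, hc⟩ := Submodule.mem_span_singleton.1 h3
    have h5 : hermForm n F 2 (z l) (z j) = 0 :=
      hzo (e l) (e j) (fun h => hne (e.injective h).symm)
    have h4 : hermForm n F 2 (z j) (z j) = hermForm n F 2 (c • z l) (z j) := by rw [hc]
    rw [herm_smul_left, h5, mul_zero] at h4
    exact hzz (e j) h4
  refine ⟨Equiv.ofBijective π (Finite.injective_iff_bijective.1 hinj), fun j => ?_⟩
  exact hπ j

end Cfsg.Agent.Lib.H23.UP2
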