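import Cfsg.Agent.Lib.H23.UP2B2

/-!
# Preparations for UP2-E1 (helper23)

* the field with four elements: `f4_two`, `f4_cube`, `f4_fix`;
* `exists_nonisotropic`: a non-degenerate non-zero subspace has a non-isotropic vector;
* `exists_orth_pair`: an orthogonal basis of non-isotropic vectors of a non-degenerate plane;
* `isNondegenerateMDecomposition_of_frame`: an orthogonal spanning frame of non-isotropic vectors
  gives a non-degenerate decomposition into lines.
-/

set_option autoImplicit false

namespace Cfsg.Agent.Lib.H23.UP2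

open Cfsg Cfsg.Geo Cfsg.Agent.Lib.H17.Asch Cfsg.Agent.Lib.H28
open scoped MatrixGroups Matrix

variable {F : Type*} [Field F] [Fintype F] {n q : ℕ}

/-- Characteristic 2 when `|F| = 4`. -/
theorem f4_two (hF : Fintype.card F = 2 ^ 2) : (1 : F) + 1 = 0 := by
  have h4 : ((Fintype.card F : ℕ) : F) = 0 := Nat.cast_card_eq_zero F
  rw [hF] at h4
  have h5 : ((1 : F) + 1) ^ 2 = 0 := by
    have : ((2 ^ 2 : ℕ) : F) = ((1 : F) + 1) ^ 2 := by push_cast; ring
    rw [← this]; exact h4
  exact pow_eq_zero_iff (by norm_num) |>.1 h5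

theorem f4_cube (hF : Fintype.card F = 2 ^ 2) {a : F} (ha : a ≠ 0) : a * a ^ 2 = 1 := by
  have h1 : a ^ (Fintype.card F - 1) = 1 := FiniteField.pow_card_sub_one_eq_one a ha
  rw [hF] at h1
  have : a * a ^ 2 = a ^ (2 ^ 2 - 1) := by norm_num; ring
  rw [this, h1]

omit [Fintype F] in
theorem f4_fix {c : F} (hc : c ^ 2 = c) (hc0 : c ≠ 0) : c = 1 := by
  have h1 : c * (c - 1) = 0 := by ring_nf; rw [hc]; ring
  rcases mul_eq_zero.1 h1 with h | h
  · exact absurd h hc0
  · exact sub_eq_zero.1 h

/-- Some `d` has non-zero trace. -/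
theorem exists_trace_ne_zero (hF : Fintype.card F = q ^ 2) : ∃ d : F, d ^ q + d ≠ 0 := by
  by_cases h2 : (1 : F) + 1 = 0
  · obtain ⟨d, hd⟩ := Cfsg.Agent.Lib.H4.Asch.exists_pow_ne hF
    refine ⟨d, fun h => hd ?_⟩
    have h3 : d ^ q = -d := eq_neg_of_add_eq_zero_left h
    have h4 : -d = d := by
      have : d + d = 0 := by
        have := congrArg (fun x => d * x) h2
        simpa [mul_add] using this
      exact neg_eq_of_add_eq_zero_left this
    rw [h3, h4]
  · exact ⟨1, by rw [one_pow]; exact h2⟩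

/-- A non-zero non-degenerate subspace has a non-isotropic vector. -/
theorem exists_nonisotropic (hF : Fintype.card F = q ^ 2) (X : Submodule F (Fin n → F))
    (hX : IsNondegenerateOn (hermForm n F q) X) (hX0 : X ≠ ⊥) :
    ∃ x ∈ X, hermForm n F q x x ≠ 0 := by
  have hq := q_pos hF
  obtain ⟨u, hu, hu0⟩ := Submodule.exists_mem_ne_zero_of_ne_bot hX0
  by_cases huu : hermForm n F q u u = 0
  swap
  · exact ⟨u, hu, huu⟩
  obtain ⟨⟨v, hv, hvu⟩, -⟩ := hX u hu hu0
  by_cases hvv : hermForm n F q v v = 0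
  swap
  · exact ⟨v, hv, hvv⟩
  set β := hermForm n F q u v with hβ
  have hβ' : hermForm n F q v u = β ^ q := herm_symm hF u v
  have hβ0 : β ≠ 0 := by
    intro h
    apply hvu
    rw [hβ', h, zero_pow (by omega)]
  obtain ⟨d, hd⟩ := exists_trace_ne_zero hF
  have hβq : β ^ q ≠ 0 := pow_ne_zero _ hβ0
  refine ⟨u + (d / β ^ q) • v, X.add_mem hu (X.smul_mem _ hv), ?_⟩
  rw [herm_add_left, herm_add_right hF, herm_add_right hF, herm_smul_left, herm_smul_left,
    herm_smul_right, herm_smul_right, huu, hvv, hβ', ← hβ, div_pow,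
    Cfsg.Agent.Lib.H2.Herm.pow_q_pow_q hF]
  have e : 0 + d ^ q / β * β + (d / β ^ q * β ^ q + d / β ^ q * (d ^ q / β * 0)) = d ^ q + d := by
    field_simp
    ring
  rw [e]
  exact hd

/-- An orthogonal basis of non-isotropic vectors of a non-degenerate plane. -/
theorem exists_orth_pair (hF : Fintype.card F = q ^ 2) (X : Submodule F (Fin n → F))
    (hX : IsNondegenerateOn (hermForm n F q) X) (hX2 : Module.finrank F X = 2) :
    ∃ x y : Fin n → F, x ∈ X ∧ y ∈ X ∧ hermForm n F q x x ≠ 0 ∧ hermForm n F q y y ≠ 0 ∧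
      hermForm n F q x y = 0 ∧ hermForm n F q y x = 0 ∧
      ∀ w ∈ X, ∃ a b : F, w = a • x + b • y := by
  classical
  have hq := q_pos hF
  have hX0 : X ≠ ⊥ := by
    rintro rfl
    rw [finrank_bot] at hX2
    omega
  obtain ⟨x, hx, hxx⟩ := exists_nonisotropic hF X hX hX0
  obtain ⟨y, hy, hy0, hyx⟩ := exists_ne_zero_mem_ker X (Bq hF n x) (by rw [hX2])
  rw [Bq_apply] at hyx
  have hxy : hermForm n F q x y = 0 := herm_eq_zero_comm hF hyx
  -- span
  have hli : LinearIndependent F ![x, y] := by
    rw [LinearIndependent.pair_iff]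
    intro s t hst
    have h1 : hermForm n F q (s • x + t • y) x = 0 := by rw [hst, herm_zero_left hF]
    rw [herm_add_left, herm_smul_left, herm_smul_left, hyx, mul_zero, add_zero] at h1
    have hs : s = 0 := (mul_eq_zero.1 h1).resolve_right hxx
    refine ⟨hs, ?_⟩
    rw [hs, zero_smul, zero_add] at hst
    exact (smul_eq_zero.1 hst).resolve_right hy0
  have hrange : Set.range ![x, y] = {x, y} := by
    ext w
    simp only [Set.mem_range, Fin.exists_fin_two, Matrix.cons_val_zero, Matrix.cons_val_one,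
      Set.mem_insert_iff, Set.mem_singleton_iff]
    constructor
    · rintro (h | h)
      · exact Or.inl h.symm
      · exact Or.inr h.symm
    · rintro (h | h)
      · exact Or.inl h.symm
      · exact Or.inr h.symm
  have hfr : Module.finrank F (Submodule.span F ({x, y} : Set (Fin n → F))) = 2 := by
    have := finrank_span_eq_card hli
    rw [hrange] at this
    simpa using this
  have hle : Submodule.span F ({x, y} : Set (Fin n → F)) ≤ X := by
    rw [Submodule.span_le]
    rintro w (rfl | rfl)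
    · exact hx
    · exact hy
  have heq : Submodule.span F ({x, y} : Set (Fin n → F)) = X :=
    Submodule.eq_of_le_of_finrank_eq hle (by rw [hfr, hX2])
  have hspan : ∀ w ∈ X, ∃ a b : F, w = a • x + b • y := by
    intro w hw
    rw [← heq, Submodule.mem_span_pair] at hw
    obtain ⟨a, b, hab⟩ := hw
    exact ⟨a, b, hab.symm⟩
  have hyy : hermForm n F q y y ≠ 0 := by
    intro h
    obtain ⟨⟨u, hu, huy⟩, -⟩ := hX y hy hy0
    obtain ⟨a, b, rfl⟩ := hspan u hu
    apply huy
    rw [herm_add_left, herm_smul_left, herm_smul_left, hxy, h]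
    ring
  exact ⟨x, y, hx, hy, hxx, hyy, hxy, hyx, hspan⟩

/-- An orthogonal spanning frame of non-isotropic vectors gives a non-degenerate decomposition
into lines. -/
theorem isNondegenerateMDecomposition_of_frame (hF : Fintype.card F = q ^ 2) (hn : 2 ≤ n)
    (z : Fin n → (Fin n → F)) (hzz : ∀ j, hermForm n F q (z j) (z j) ≠ 0)
    (hzo : ∀ j l, j ≠ l → hermForm n F q (z j) (z l) = 0)
    (hspan : ⨆ j, Submodule.span F {z j} = ⊤) :
    IsNondegenerateMDecomposition (hermForm n F q) 1 (fun j => Submodule.span F {z j}) := by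
  have hq := q_pos hF
  have hz0 : ∀ j, z j ≠ 0 := by
    intro j h
    apply hzz j
    rw [h, herm_zero_left hF]
  refine ⟨⟨hn, one_pos, fun j => finrank_span_singleton (hz0 j), ?_, hspan⟩, ?_, ?_⟩
  · rw [iSupIndep_def]
    intro j
    rw [Submodule.disjoint_def]
    intro w hw hw'
    obtain ⟨c, rfl⟩ := Submodule.mem_span_singleton.1 hw
    have hker : (⨆ (l) (_ : l ≠ j), Submodule.span F {z l}) ≤ LinearMap.ker (Bq hF n (z j)) := by
      refine iSup₂_le fun l hl => ?_
      rw [Submodule.span_le]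
      rintro _ rfl
      rw [SetLike.mem_coe, LinearMap.mem_ker, Bq_apply]
      exact hzo l j hl
    have h1 := hker hw'
    rw [LinearMap.mem_ker, Bq_apply, herm_smul_left] at h1
    rw [(mul_eq_zero.1 h1).resolve_right (hzz j), zero_smul]
  · intro j w hw hw0
    obtain ⟨c, rfl⟩ := Submodule.mem_span_singleton.1 hw
    have hc : c ≠ 0 := by
      rintro rfl
      exact hw0 (zero_smul _ _)
    refine ⟨⟨z j, Submodule.mem_span_singleton_self _, ?_⟩,
      ⟨z j, Submodule.mem_span_singleton_self _, ?_⟩⟩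
    · rw [herm_smul_right]
      exact mul_ne_zero (pow_ne_zero _ hc) (hzz j)
    · rw [herm_smul_left]
      exact mul_ne_zero hc (hzz j)
  · intro j l hjl u hu v hv
    obtain ⟨a, rfl⟩ := Submodule.mem_span_singleton.1 hu
    obtain ⟨b, rfl⟩ := Submodule.mem_span_singleton.1 hv
    rw [herm_smul_left, herm_smul_right, hzo j l hjl, mul_zero, mul_zero]

end Cfsg.Agent.Lib.H23.UP2
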