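import Cfsg.Agent.Lib.H23.PermChar
import Mathlib.GroupTheory.Sylow
import Mathlib.GroupTheory.PGroup
import Mathlib.GroupTheory.SpecificGroups.Cyclic

/-!
# Quasi-elementary subgroups and Banaschewski's lemma (helper23)

* `IsQESub p H`: the subgroup `H` of `G` is `p`-quasi-elementary (has a normal cyclic `p'`-subgroup
  of `p`-power index);
* `IsQESub.mono`: subgroups of `p`-quasi-elementary subgroups are `p`-quasi-elementary;
* `exists_isQESub_not_dvd`: for every `x : G` there is a `p`-quasi-elementary `H` with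
  `(1_H)^G (x)` a natural number not divisible by `p`.
-/

set_option autoImplicit false

namespace Cfsg.Agent.Lib.H23

open MulAction Cfsg.Agent.Lib.L0

section Basic

variable {G : Type*} [Group G]

theorem card_mul_relIndex_of_le' {H K : Subgroup G} (h : H ≤ K) :
    Nat.card H * H.relIndex K = Nat.card K := by
  have := Subgroup.relIndex_mul_relIndex (H := ⊥) (K := H) (L := K) bot_le h
  rwa [Subgroup.relIndex_bot_left, Subgroup.relIndex_bot_left] at this

/-- In the finite case, one-sided conjugation invariance gives membership of the normalizer. -/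
theorem mem_normalizer_of_conj_le {C : Subgroup G} [Finite C] {g : G}
    (h : ∀ c ∈ C, g * c * g⁻¹ ∈ C) : g ∈ Subgroup.normalizer (C : Set G) := by
  rw [Subgroup.mem_normalizer_iff]
  intro c
  refine ⟨h c, fun hc => ?_⟩
  let φ : C → C := fun c => ⟨g * c * g⁻¹, h c c.2⟩
  have hinj : Function.Injective φ := by
    intro a b hab
    have : g * (a : G) * g⁻¹ = g * (b : G) * g⁻¹ := congrArg Subtype.val hab
    apply Subtype.ext
    simpa using this
  obtain ⟨a, ha⟩ := (Finite.injective_iff_surjective.mp hinj) ⟨g * c * g⁻¹, hc⟩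
  have h2 : g * (a : G) * g⁻¹ = g * c * g⁻¹ := congrArg Subtype.val ha
  have h3 : (a : G) = c := by simpa using h2
  rw [← h3]
  exact a.2

/-- The subgroup `H` of `G` is `p`-quasi-elementary. -/
def IsQESub (p : ℕ) (H : Subgroup G) : Prop :=
  ∃ C : Subgroup G, C ≤ H ∧ H ≤ Subgroup.normalizer (C : Set G) ∧ IsCyclic C ∧
    Nat.Coprime (Nat.card C) p ∧ ∃ k : ℕ, C.relIndex H = p ^ k

theorem IsQESub.mono {p : ℕ} (hp : p.Prime) {H U : Subgroup G} (hUH : U ≤ H)
    (h : IsQESub p H) : IsQESub p U := by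
  obtain ⟨C, hCH, hHN, hcyc, hcop, k, hk⟩ := h
  refine ⟨C ⊓ U, inf_le_right, ?_, ?_, ?_, ?_⟩
  · intro u hu
    have huN := hHN (hUH hu)
    rw [Subgroup.mem_normalizer_iff] at huN ⊢
    intro c
    simp only [Subgroup.mem_inf]
    constructor
    · rintro ⟨hc, hcU⟩
      exact ⟨(huN c).mp hc, U.mul_mem (U.mul_mem hu hcU) (U.inv_mem hu)⟩
    · rintro ⟨hc, hcU⟩
      refine ⟨(huN c).mpr hc, ?_⟩
      have : c = u⁻¹ * (u * c * u⁻¹) * u := by group
      rw [this]
      exact U.mul_mem (U.mul_mem (U.inv_mem hu) hcU) hu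
  · -- cyclic
    have hle : C ⊓ U ≤ C := inf_le_left
    have : IsCyclic ((C ⊓ U).subgroupOf C) := inferInstance
    exact isCyclic_of_surjective _ (Subgroup.subgroupOfEquivOfLe hle).surjective
  · exact Nat.Coprime.coprime_dvd_left (Subgroup.card_dvd_of_le inf_le_left) hcop
  · have hnorm : (C.subgroupOf H).Normal :=
      (Subgroup.normal_subgroupOf_iff_le_normalizer hCH).mpr hHN
    have h1 : (C.subgroupOf H).relIndex (U.subgroupOf H) ∣ (C.subgroupOf H).index :=
      Subgroup.relIndex_dvd_index_of_normal _ _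
    rw [Subgroup.relIndex_subgroupOf hUH] at h1
    have h2 : (C.subgroupOf H).index = p ^ k := hk
    rw [h2] at h1
    obtain ⟨j, _, hj⟩ := (Nat.dvd_prime_pow hp).mp h1
    exact ⟨j, by rw [Subgroup.inf_relIndex_right, hj]⟩

end Basic

section Banaschewski

variable {G : Type*} [Group G] [Fintype G]

/-- **Banaschewski's lemma**: for `x : G` and a prime `p` there is a `p`-quasi-elementary subgroup `H`
such that `(1_H)^G (x)` is a natural number not divisible by `p`. -/
theorem exists_isQESub_not_dvd (x : G) (p : ℕ) (hp : p.Prime) :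
    ∃ H : Subgroup G, IsQESub p H ∧
      ∃ n : ℕ, Cfsg.indFun H (fun _ => 1) x = (n : ℂ) ∧ ¬ p ∣ n := by
  classical
  have : Fact p.Prime := ⟨hp⟩
  set o := orderOf x with ho
  have ho0 : o ≠ 0 := (orderOf_pos x).ne'
  set a := o.factorization p with ha
  set m := o / p ^ a with hm
  have hom : p ^ a * m = o := Nat.ordProj_mul_ordCompl_eq_self o p
  have hpm : ¬ p ∣ m := Nat.not_dvd_ordCompl hp ho0
  have hpa0 : p ^ a ≠ 0 := pow_ne_zero _ hp.ne_zero
  have hm0 : m ≠ 0 := by
    rintro h0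
    rw [h0, mul_zero] at hom
    exact ho0 hom.symm
  set c := x ^ (p ^ a) with hc
  set u := x ^ m with hu
  have hc_ord : orderOf c = m := by
    rw [hc, orderOf_pow_of_dvd hpa0 ⟨m, hom.symm⟩, ← ho, ← hom, Nat.mul_div_cancel_left _
      (Nat.pos_of_ne_zero hpa0)]
  have hu_ord : orderOf u = p ^ a := by
    rw [hu, orderOf_pow_of_dvd hm0 ⟨p ^ a, by rw [← ho, ← hom, mul_comm]⟩, ← ho, ← hom,
      Nat.mul_div_cancel _ (Nat.pos_of_ne_zero hm0)]
  have hcop : Nat.Coprime m p := ((Nat.Prime.coprime_iff_not_dvd hp).mpr hpm).symm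
  -- `x = c ^ s * u ^ t`
  obtain ⟨s, t, hst⟩ : ∃ s t : ℤ, x = c ^ s * u ^ t := by
    have hg : Nat.gcd (p ^ a) m = 1 := (Nat.Coprime.pow_right a hcop).symm
    have hb := Int.gcd_eq_gcd_ab (p ^ a : ℕ) (m : ℕ)
    rw [Int.gcd_natCast_natCast, hg] at hb
    refine ⟨Int.gcdA (p ^ a : ℕ) m, Int.gcdB (p ^ a : ℕ) m, ?_⟩
    rw [hc, hu, ← zpow_natCast x (p ^ a), ← zpow_natCast x m, ← zpow_mul, ← zpow_mul, ← zpow_add,
      ← hb]
    simp
  set C : Subgroup G := Subgroup.zpowers c with hC
  have hcC : c ∈ C := Subgroup.mem_zpowers c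
  have hCcard : Nat.card C = m := by rw [hC, Nat.card_zpowers, hc_ord]
  set N : Subgroup G := Subgroup.normalizer (C : Set G) with hN
  have hCN : C ≤ N := Subgroup.le_normalizer
  have hcomm_x : ∀ c' ∈ C, x * c' = c' * x := by
    intro c' hc'
    obtain ⟨i, rfl⟩ := Subgroup.mem_zpowers_iff.mp hc'
    exact ((Commute.refl x).pow_right _).zpow_right i
  have hxN : x ∈ N := by
    apply mem_normalizer_of_conj_le
    intro c' hc'
    rw [hcomm_x c' hc', mul_inv_cancel_right]
    exact hc'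
  -- the quotient `N / C`
  let CN : Subgroup N := C.subgroupOf N
  have hCNnormal : CN.Normal := Subgroup.normal_in_normalizer
  let xN : N := ⟨x, hxN⟩
  let xbar : N ⧸ CN := QuotientGroup.mk xN
  have hxbar : xbar ^ (p ^ a) = 1 := by
    show (QuotientGroup.mk xN : N ⧸ CN) ^ (p ^ a) = 1
    rw [← QuotientGroup.mk_pow, QuotientGroup.eq_one_iff, Subgroup.mem_subgroupOf]
    exact hcC
  have hPx : IsPGroup p (Subgroup.zpowers xbar) := by
    intro g
    obtain ⟨i, hi⟩ := Subgroup.mem_zpowers_iff.mp g.2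
    refine ⟨a, ?_⟩
    apply Subtype.ext
    rw [Subgroup.coe_pow, ← hi, ← zpow_natCast, ← zpow_mul, mul_comm, zpow_mul, zpow_natCast, hxbar,
      one_zpow]
    rfl
  obtain ⟨S, hS⟩ := hPx.exists_le_sylow
  let H₀ : Subgroup N := (S : Subgroup (N ⧸ CN)).comap (QuotientGroup.mk' CN)
  set H : Subgroup G := H₀.map N.subtype with hH
  have hHN : H ≤ N := by
    rintro _ ⟨h, _, rfl⟩
    exact h.2
  have hmemH : ∀ g : G, g ∈ H ↔ ∃ hg : g ∈ N, (QuotientGroup.mk ⟨g, hg⟩ : N ⧸ CN) ∈ S := by
    intro g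
    constructor
    · rintro ⟨h, hh, rfl⟩
      exact ⟨h.2, hh⟩
    · rintro ⟨hg, hh⟩
      exact ⟨⟨g, hg⟩, hh, rfl⟩
  have hCH : C ≤ H := by
    intro c' hc'
    rw [hmemH]
    refine ⟨hCN hc', ?_⟩
    have : (QuotientGroup.mk ⟨c', hCN hc'⟩ : N ⧸ CN) = 1 := by
      rw [QuotientGroup.eq_one_iff, Subgroup.mem_subgroupOf]
      exact hc'
    rw [this]
    exact Subgroup.one_mem _
  have hxH : x ∈ H := by
    rw [hmemH]
    exact ⟨hxN, hS (Subgroup.mem_zpowers xbar)⟩
  obtain ⟨k, hk⟩ := (IsPGroup.iff_card.mp S.isPGroup')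
  -- `p'`-elements of `H` lie in `C`
  have hp' : ∀ h ∈ H, Nat.Coprime (orderOf h) p → h ∈ C := by
    intro h hh hco
    obtain ⟨hgN, hq⟩ := (hmemH h).mp hh
    set q : N ⧸ CN := QuotientGroup.mk ⟨h, hgN⟩ with hqdef
    have h1 : q ^ (p ^ k) = 1 := by
      have := pow_card_eq_one' (G := S) (x := ⟨q, hq⟩)
      rw [hk] at this
      exact congrArg Subtype.val this
    have h2 : q ^ orderOf h = 1 := by
      rw [hqdef, ← QuotientGroup.mk_pow]
      have : (⟨h, hgN⟩ : N) ^ orderOf h = 1 := by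
        apply Subtype.ext
        simp [pow_orderOf_eq_one]
      rw [this]
      rfl
    have h3 : q ^ (Nat.gcd (p ^ k) (orderOf h)) = 1 := pow_gcd_eq_one.mpr ⟨h1, h2⟩
    have h4 : Nat.gcd (p ^ k) (orderOf h) = 1 := (Nat.Coprime.pow_right k hco).symm
    rw [h4, pow_one, hqdef, QuotientGroup.eq_one_iff, Subgroup.mem_subgroupOf] at h3
    exact h3
  -- cardinalities
  have hcardH₀ : Nat.card H₀ * (S : Subgroup (N ⧸ CN)).index = Nat.card N := by
    rw [← Subgroup.index_comap_of_surjective (S : Subgroup (N ⧸ CN))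
      (QuotientGroup.mk'_surjective CN)]
    exact Subgroup.card_mul_index H₀
  have hcardH : Nat.card H = Nat.card H₀ := Subgroup.card_map_of_injective N.subtype_injective
  have hcardCN : Nat.card CN = Nat.card C :=
    Nat.card_congr (Subgroup.subgroupOfEquivOfLe hCN).toEquiv
  have hcardN : Nat.card N = Nat.card (N ⧸ CN) * Nat.card CN :=
    Subgroup.card_eq_card_quotient_mul_card_subgroup CN
  have hcardQ : Nat.card S * (S : Subgroup (N ⧸ CN)).index = Nat.card (N ⧸ CN) :=
    Subgroup.card_mul_index (S : Subgroup (N ⧸ CN))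
  have hidx_pos : 0 < (S : Subgroup (N ⧸ CN)).index := Nat.pos_of_ne_zero Subgroup.index_ne_zero_of_finite
  have hcardH' : Nat.card H = Nat.card C * p ^ k := by
    rw [hcardH]
    apply Nat.eq_of_mul_eq_mul_right hidx_pos
    rw [hcardH₀, hcardN, ← hcardQ, hcardCN, hk]
    ring
  have hrel : C.relIndex H = p ^ k := by
    have h1 := card_mul_relIndex_of_le' hCH
    rw [hcardH'] at h1
    exact Nat.eq_of_mul_eq_mul_left (Nat.card_pos) h1
  have hsub : H.subgroupOf N = H₀ := Subgroup.comap_map_eq_self_of_injective N.subtype_injective H₀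
  have hNH : ¬ p ∣ H.relIndex N := by
    have : H.relIndex N = (S : Subgroup (N ⧸ CN)).index := by
      show (H.subgroupOf N).index = _
      rw [hsub]
      exact Subgroup.index_comap_of_surjective _ (QuotientGroup.mk'_surjective CN)
    rw [this]
    exact S.not_dvd_index
  have hQE : IsQESub p H :=
    ⟨C, hCH, hHN, by rw [hC]; infer_instance, by rw [hCcard]; exact hcop, k, hrel⟩
  refine ⟨H, hQE, Nat.card (fixedBy (G ⧸ H) x), ?_, ?_⟩
  · rw [indFun_one_eq_permChar]
    rfl
  -- conjugates of `c` in `H`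
  have hconj : ∀ y : G, y⁻¹ * c * y ∈ H ↔ y ∈ N := by
    intro y
    constructor
    · intro hy
      have hord : orderOf (y⁻¹ * c * y) = m := by
        have hsc : SemiconjBy y⁻¹ c (y⁻¹ * c * y) := by
          unfold SemiconjBy
          group
        rw [← SemiconjBy.orderOf_eq y⁻¹ hsc, hc_ord]
      have hyC : y⁻¹ * c * y ∈ C := hp' _ hy (by rw [hord]; exact hcop)
      have : y⁻¹ ∈ N := by
        apply mem_normalizer_of_conj_le
        intro c' hc'
        obtain ⟨i, rfl⟩ := Subgroup.mem_zpowers_iff.mp hc'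
        have h5 : y⁻¹ * c ^ i * y⁻¹⁻¹ = (y⁻¹ * c * y) ^ i := by
          rw [inv_inv]
          have := (map_zpow (MulAut.conj y⁻¹) c i)
          simpa [MulAut.conj_apply] using this
        rw [h5]
        exact Subgroup.zpow_mem _ hyC i
      simpa using N.inv_mem this
    · intro hy
      apply hCH
      have hy' : y⁻¹ ∈ N := N.inv_mem hy
      have := (Subgroup.mem_normalizer_iff.mp hy' c).mp hcC
      simpa using this
  -- the fixed points of `c`
  have hF : Nat.card (fixedBy (G ⧸ H) c) = H.relIndex N := by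
    have h1 : (Nat.card (fixedBy (G ⧸ H) c) : ℂ) = Cfsg.indFun H (fun _ => 1) c := by
      rw [indFun_one_eq_permChar]
      rfl
    rw [indFun_apply] at h1
    have h2 : ∀ y : G, Cfsg.extendByZero H (fun _ => (1 : ℂ)) (y⁻¹ * c * y) =
        if y ∈ N then 1 else 0 := by
      intro y
      split_ifs with hy
      · rw [extendByZero_apply_of_mem _ _ ((hconj y).mpr hy)]
      · rw [extendByZero_apply_not_mem _ _ (fun h => hy ((hconj y).mp h))]
    rw [Finset.sum_congr rfl fun y _ => h2 y, Finset.sum_boole] at h1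
    have h3 : (Finset.univ.filter fun y : G => y ∈ N).card = Nat.card N := by
      rw [Nat.card_eq_fintype_card, Fintype.card_subtype]
    rw [h3] at h1
    have hHpos : (Nat.card H : ℂ) ≠ 0 := by
      exact_mod_cast (Nat.card_pos (α := H)).ne'
    have h4 : (Nat.card (fixedBy (G ⧸ H) c) : ℂ) * (Nat.card H : ℂ) = (Nat.card N : ℂ) := by
      rw [h1]
      field_simp
    have h5 : Nat.card (fixedBy (G ⧸ H) c) * Nat.card H = Nat.card N := by exact_mod_cast h4
    have h6 := card_mul_relIndex_of_le' hHN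
    rw [← h6, mul_comm] at h5
    exact Nat.eq_of_mul_eq_mul_left Nat.card_pos h5
  -- the `p`-group `⟨u⟩` acts on the fixed points of `c`
  set Pu : Subgroup G := Subgroup.zpowers u with hPu
  have hcomm_u : ∀ z ∈ Pu, c * z = z * c := by
    intro z hz
    obtain ⟨i, rfl⟩ := Subgroup.mem_zpowers_iff.mp hz
    exact (((Commute.refl x).pow_pow _ _).zpow_right i)
  let Fsub : SubMulAction Pu (G ⧸ H) :=
    { carrier := fixedBy (G ⧸ H) c
      smul_mem' := by
        intro z q hq
        have hq' : c • q = q := hq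
        show c • ((z : G) • q) = (z : G) • q
        rw [← mul_smul, hcomm_u z z.2, mul_smul, hq'] }
  have hPuP : IsPGroup p Pu := IsPGroup.of_card (n := a) (by rw [hPu, Nat.card_zpowers, hu_ord])
  have hmod := hPuP.card_modEq_card_fixedPoints Fsub
  have hcardF : Nat.card Fsub = Nat.card (fixedBy (G ⧸ H) c) := rfl
  have hfixeq : Nat.card (fixedPoints Pu Fsub) = Nat.card (fixedBy (G ⧸ H) x) := by
    refine Nat.card_congr ⟨fun q => ⟨q.1.1, ?_⟩, fun q => ⟨⟨q.1, ?_⟩, ?_⟩, ?_, ?_⟩
    · have hqc : q.1.1 ∈ fixedBy (G ⧸ H) c := q.1.2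
      have hqu : u • q.1.1 = q.1.1 := by
        have := q.2 ⟨u, Subgroup.mem_zpowers u⟩
        exact congrArg Subtype.val this
      rw [mem_fixedBy, hst, mul_smul]
      have h1 : u ^ t • q.1.1 = q.1.1 := mem_fixedBy_zpow (mem_fixedBy.mpr hqu) t
      rw [h1]
      exact mem_fixedBy_zpow hqc s
    · have hq : x • q.1 = q.1 := q.2
      show c • q.1 = q.1
      rw [hc]
      have := mem_fixedBy_zpow (mem_fixedBy.mpr hq) (p ^ a : ℕ)
      rwa [zpow_natCast] at this
    · intro z
      apply Subtype.ext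
      show (z : G) • q.1 = q.1
      obtain ⟨i, hi⟩ := Subgroup.mem_zpowers_iff.mp z.2
      rw [← hi, hu, ← zpow_natCast x m, ← zpow_mul]
      exact mem_fixedBy_zpow (mem_fixedBy.mpr q.2) _
    · intro q; rfl
    · intro q; rfl
  rw [hcardF, hF, hfixeq] at hmod
  intro hdvd
  exact hNH ((hmod.dvd_iff dvd_rfl).mpr hdvd)

end Banaschewski

end Cfsg.Agent.Lib.H23
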