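import Cfsg.Agent.Lib.H23.UP2B2

/-!
# UP2-B2' (helper23): `SU_n(q)`, `n ≥ 4`, stabilises no orthogonal frame of non-degenerate lines
-/

set_option autoImplicit false

namespace Cfsg.Agent.Lib.H23.UP2

open Cfsg Cfsg.Geo Cfsg.Agent.Lib.H17.Asch Cfsg.Agent.Lib.H28
open scoped MatrixGroups Matrix

variable {F : Type*} [Field F] [Fintype F] {n q : ℕ}

omit [Fintype F] in
/-- Generators of the lines of a non-degenerate decomposition into lines. -/
theorem exists_frame {t : ℕ} (D : Fin t → Submodule F (Fin n → F))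
    (hD : IsNondegenerateMDecomposition (hermForm n F q) 1 D) :
    ∃ x : Fin t → (Fin n → F), (∀ i, x i ∈ D i) ∧
      (∀ i, hermForm n F q (x i) (x i) ≠ 0) ∧
      (∀ i j, i ≠ j → hermForm n F q (x i) (x j) = 0) := by
  have h1 : ∀ i, ∃ y : Fin n → F, y ∈ D i ∧ hermForm n F q y y ≠ 0 := by
    intro i
    have hfr := hD.decomp.finrank_eq i
    rw [finrank_eq_one_iff'] at hfr
    obtain ⟨y, hy0, hy⟩ := hfr
    have hy0' : (y : Fin n → F) ≠ 0 := fun h => hy0 (Subtype.ext h)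
    obtain ⟨⟨z, hz, hzy⟩, -⟩ := hD.nondegenerate i (y : Fin n → F) y.2 hy0'
    obtain ⟨c, hc⟩ := hy ⟨z, hz⟩
    have hc' : z = c • (y : Fin n → F) := by
      have := congrArg Subtype.val hc
      simpa using this.symm
    refine ⟨y, y.2, fun h => hzy ?_⟩
    rw [hc', herm_smul_left, h, mul_zero]
  choose x hx hxx using h1
  exact ⟨x, hx, hxx, fun i j hij => hD.orthogonal i j hij (x i) (hx i) (x j) (hx j)⟩

/-- **UP2-B2'**. -/
theorem not_su_le_decompositionStabilizer_one (hF : Fintype.card F = q ^ 2) (hn : 4 ≤ n) {t : ℕ}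
    (D : Fin t → Submodule F (Fin n → F))
    (hD : IsNondegenerateMDecomposition (hermForm n F q) 1 D) :
    ¬ GU n F q ⊓ specialLinear (Fin n) F ≤ decompositionStabilizer D := by
  classical
  intro hle
  have hq := q_pos hF
  have htn := Cfsg.Agent.Lib.H2.AschP2.mul_eq_of_isMDecomposition D hD.decomp
  have ht : 4 ≤ t := by omega
  obtain ⟨x, hx, hxx, hxo⟩ := exists_frame D hD
  set i1 : Fin t := ⟨0, by omega⟩ with hi1
  set i2 : Fin t := ⟨1, by omega⟩ with hi2
  set i3 : Fin t := ⟨2, by omega⟩ with hi3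
  set i4 : Fin t := ⟨3, by omega⟩ with hi4
  have h12 : i1 ≠ i2 := by simp [hi1, hi2, Fin.ext_iff]
  have h13 : i1 ≠ i3 := by simp [hi1, hi3, Fin.ext_iff]
  have h14 : i1 ≠ i4 := by simp [hi1, hi4, Fin.ext_iff]
  have h23 : i2 ≠ i3 := by simp [hi2, hi3, Fin.ext_iff]
  have h24 : i2 ≠ i4 := by simp [hi2, hi4, Fin.ext_iff]
  have h34 : i3 ≠ i4 := by simp [hi3, hi4, Fin.ext_iff]
  set α : Fin t → F := fun i => hermForm n F q (x i) (x i) with hα
  have hαq : ∀ i, α i ^ q = α i := fun i => herm_self_pow hF (x i)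
  have hsolve : ∀ i j : Fin t, ∃ c : F, c ≠ 0 ∧ α i + c * c ^ q * α j = 0 := by
    intro i j
    have hfix : (-α i / α j) ^ q = -α i / α j := by
      rw [div_pow, neg_pow, hαq, hαq, neg_one_pow_q hF]
      ring
    obtain ⟨c, hc⟩ := exists_norm_eq hF (-α i / α j) hfix
    refine ⟨c, ?_, ?_⟩
    · rintro rfl
      rw [zero_mul] at hc
      have : -α i / α j ≠ 0 := div_ne_zero (neg_ne_zero.2 (hxx i)) (hxx j)
      exact this hc.symm
    · have hαj : α j ≠ 0 := hxx j
      rw [hc, div_mul_cancel₀ _ hαj]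
      ring
  obtain ⟨c, hc0, hc⟩ := hsolve i1 i2
  obtain ⟨c', hc'0, hc'⟩ := hsolve i3 i4
  set v : Fin n → F := (x i1 + c • x i2) + (x i3 + c' • x i4) with hvdef
  -- values of the form against the frame
  have hval : ∀ i, hermForm n F q (x i) v =
      hermForm n F q (x i) (x i1) + c ^ q * hermForm n F q (x i) (x i2) +
        (hermForm n F q (x i) (x i3) + c' ^ q * hermForm n F q (x i) (x i4)) := by
    intro i
    rw [hvdef, herm_add_right hF, herm_add_right hF, herm_add_right hF, herm_smul_right,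
      herm_smul_right]
  have hv1 : hermForm n F q (x i1) v = α i1 := by
    rw [hval, hxo i1 i2 h12, hxo i1 i3 h13, hxo i1 i4 h14]
    ring
  have hv2 : hermForm n F q (x i2) v = c ^ q * α i2 := by
    rw [hval, hxo i2 i1 h12.symm, hxo i2 i3 h23, hxo i2 i4 h24]
    ring
  have hv3 : hermForm n F q (x i3) v = α i3 := by
    rw [hval, hxo i3 i1 h13.symm, hxo i3 i2 h23.symm, hxo i3 i4 h34]
    ring
  have hv4 : hermForm n F q (x i4) v = c' ^ q * α i4 := by
    rw [hval, hxo i4 i1 h14.symm, hxo i4 i2 h24.symm, hxo i4 i3 h34.symm]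
    ring
  have hv : hermForm n F q v v = 0 := by
    conv_lhs => rw [hvdef]
    rw [herm_add_left, herm_add_left, herm_add_left, herm_smul_left, herm_smul_left, ← hvdef,
      hv1, hv2, hv3, hv4]
    linear_combination hc + hc'
  obtain ⟨a, ha0, ha⟩ := exists_tr0 hF
  obtain ⟨σ, hσ⟩ := hle (utv_mem hF a v hv ha)
  set j := σ i1 with hj
  -- `v ∈ D i1 ⊔ D j`
  have hvmem : v ∈ D i1 ⊔ D j := by
    have h1 := mulVec_mem_of_map_eq (hσ i1) (hx i1)
    rw [utv_mulVec, hv1] at h1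
    have h2 : (a * α i1) • v ∈ D i1 ⊔ D j := by
      have e : (a * α i1) • v = (x i1 + (a * α i1) • v) - x i1 := by abel
      rw [e]
      exact Submodule.sub_mem _ (Submodule.mem_sup_right h1) (Submodule.mem_sup_left (hx i1))
    have h3 := (D i1 ⊔ D j).smul_mem (a * α i1)⁻¹ h2
    rwa [smul_smul, inv_mul_cancel₀ (mul_ne_zero ha0 (hxx i1)), one_smul] at h3
  -- an index `m ∈ {i3, i4}` different from `j`
  have hperp : ∀ m : Fin t, m ≠ i1 → m ≠ j → hermForm n F q (x m) v = 0 := by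
    intro m hm1 hmj
    obtain ⟨y1, hy1, y2, hy2, hy⟩ := Submodule.mem_sup.1 hvmem
    rw [← hy, herm_add_right hF, hD.orthogonal m i1 hm1 (x m) (hx m) y1 hy1,
      hD.orthogonal m j hmj (x m) (hx m) y2 hy2, add_zero]
  by_cases hj3 : i3 = j
  · have h4 := hperp i4 h14.symm (fun h => h34 (hj3.trans h.symm))
    rw [hv4] at h4
    exact (mul_ne_zero (pow_ne_zero _ hc'0) (hxx i4)) h4
  · have h3 := hperp i3 h13.symm hj3
    rw [hv3] at h3
    exact hxx i3 h3

end Cfsg.Agent.Lib.H23.UP2
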