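import Mathlib
import Cfsg.Agent.Lib.H17.HJDefs

/-!
# S3313 piece AT, part a (helper23): `a(t)` is the number of pairs `(u, b)` in `B × B` with
`u` an involution, `b² = 1`, `u b` of odd order
-/

set_option autoImplicit false

namespace Cfsg.Agent.Lib.H23.HJ

open Cfsg Cfsg.Agent.Lib.H17.HJ

variable {G : Type*} [Group G]

theorem orderOf_two_iff (x : G) : orderOf x = 2 ↔ x ≠ 1 ∧ x * x = 1 := by
  rw [orderOf_eq_prime_iff (p := 2), pow_two]
  tauto

theorem isConj_mul_self {x y : G} (h : IsConj x y) (hx : x * x = 1) : y * y = 1 := by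
  obtain ⟨g, rfl⟩ := isConj_iff.1 h
  calc g * x * g⁻¹ * (g * x * g⁻¹) = g * (x * x) * g⁻¹ := by group
    _ = 1 := by rw [hx]; group

theorem isConj_ne_one {x y : G} (h : IsConj x y) (hx : x ≠ 1) : y ≠ 1 := by
  obtain ⟨g, rfl⟩ := isConj_iff.1 h
  intro h1
  apply hx
  calc x = g⁻¹ * (g * x * g⁻¹) * g := by group
    _ = 1 := by rw [h1]; group

theorem isConj_orderOf_two {x y : G} (h : IsConj x y) (hx : orderOf x = 2) : orderOf y = 2 := by
  rw [orderOf_two_iff] at hx ⊢
  exact ⟨isConj_ne_one h hx.1, isConj_mul_self h hx.2⟩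

/-- elements of `S₁ ⊔ S₂` are products when `S₁`, `S₂` commute elementwise -/
theorem exists_mul_of_mem_sup {S₁ S₂ : Subgroup G} (hc : ∀ a ∈ S₁, ∀ b ∈ S₂, a * b = b * a)
    {c : G} (h : c ∈ S₁ ⊔ S₂) : ∃ a ∈ S₁, ∃ b ∈ S₂, c = a * b := by
  let W : Subgroup G :=
    { carrier := {c | ∃ a ∈ S₁, ∃ b ∈ S₂, c = a * b}
      mul_mem' := by
        rintro _ _ ⟨a, ha, b, hb, rfl⟩ ⟨a', ha', b', hb', rfl⟩
        refine ⟨a * a', S₁.mul_mem ha ha', b * b', S₂.mul_mem hb hb', ?_⟩
        calc a * b * (a' * b') = a * (b * a') * b' := by group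
          _ = a * (a' * b) * b' := by rw [hc a' ha' b hb]
          _ = a * a' * (b * b') := by group
      one_mem' := ⟨1, S₁.one_mem, 1, S₂.one_mem, by simp⟩
      inv_mem' := by
        rintro _ ⟨a, ha, b, hb, rfl⟩
        refine ⟨a⁻¹, S₁.inv_mem ha, b⁻¹, S₂.inv_mem hb, ?_⟩
        rw [mul_inv_rev, hc a⁻¹ (S₁.inv_mem ha) b⁻¹ (S₂.inv_mem hb)] }
  have h1 : S₁ ⊔ S₂ ≤ W := by
    refine sup_le ?_ ?_
    · intro a ha; exact ⟨a, ha, 1, S₂.one_mem, by simp⟩
    · intro b hb; exact ⟨1, S₁.one_mem, b, hb, by simp⟩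
  exact h1 h

/-- conjugation by an involution `u` inverts the powers of `u v` (`v` an involution) -/
theorem conj_zpowers_of_invol {u v x : G} (hu : u * u = 1) (hv : v * v = 1)
    (hx : x ∈ Subgroup.zpowers (u * v)) : u * x * u⁻¹ = x⁻¹ ∧ v * x * v⁻¹ = x⁻¹ := by
  obtain ⟨k, rfl⟩ := Subgroup.mem_zpowers_iff.1 hx
  have hu' : u⁻¹ = u := inv_eq_of_mul_eq_one_right hu
  have hv' : v⁻¹ = v := inv_eq_of_mul_eq_one_right hv
  have h1 : u * (u * v) * u⁻¹ = (u * v)⁻¹ := by
    rw [mul_inv_rev, hu', hv']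
    calc u * (u * v) * u = (u * u) * v * u := by group
      _ = v * u := by rw [hu]; group
  have h2 : v * (u * v) * v⁻¹ = (u * v)⁻¹ := by
    rw [mul_inv_rev, hu', hv']
    calc v * (u * v) * v = v * u * (v * v) := by group
      _ = v * u := by rw [hv]; group
  constructor
  · have := map_zpow (MulAut.conj u) (u * v) k
    simp only [MulAut.conj_apply] at this
    rw [this, h1, inv_zpow]
  · have := map_zpow (MulAut.conj v) (u * v) k
    simp only [MulAut.conj_apply] at this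
    rw [this, h2, inv_zpow]

section setting

variable {z t : G} {K V B : Subgroup G}

theorem st_t_sq (h : Setting z t K V B) : t * t = 1 := ((orderOf_two_iff t).1 h.ht).2
theorem st_t_ne (h : Setting z t K V B) : t ≠ 1 := ((orderOf_two_iff t).1 h.ht).1
theorem st_z_sq (h : Setting z t K V B) : z * z = 1 := ((orderOf_two_iff z).1 h.hz).2
theorem st_z_ne (h : Setting z t K V B) : z ≠ 1 := ((orderOf_two_iff z).1 h.hz).1

theorem st_V_le (h : Setting z t K V B) : V ≤ Subgroup.centralizer ({t} : Set G) := h.hVB.1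
theorem st_B_le (h : Setting z t K V B) : B ≤ Subgroup.centralizer ({t} : Set G) := h.hVB.2.1
theorem st_VB_comm (h : Setting z t K V B) : ∀ a ∈ V, ∀ b ∈ B, a * b = b * a := h.hVB.2.2.1
theorem st_VB_inf (h : Setting z t K V B) : V ⊓ B = ⊥ := h.hVB.2.2.2.1
theorem st_VB_sup (h : Setting z t K V B) : V ⊔ B = Subgroup.centralizer ({t} : Set G) :=
  h.hVB.2.2.2.2

theorem st_eq_one_of_mem_V_B (h : Setting z t K V B) {x : G} (hV : x ∈ V) (hB : x ∈ B) :
    x = 1 := by
  have : x ∈ V ⊓ B := ⟨hV, hB⟩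
  rw [(st_VB_inf h)] at this
  exact Subgroup.mem_bot.1 this

theorem st_t_not_mem_B (h : Setting z t K V B) : t ∉ B := fun hB =>
  (st_t_ne h) ((st_eq_one_of_mem_V_B h) h.htV hB)

theorem st_exists_mul (h : Setting z t K V B) {c : G}
    (hc : c ∈ Subgroup.centralizer ({t} : Set G)) : ∃ w ∈ V, ∃ b ∈ B, c = w * b := by
  rw [← (st_VB_sup h)] at hc
  exact exists_mul_of_mem_sup (st_VB_comm h) hc

theorem mem_centralizer_singleton_iff {t c : G} :
    c ∈ Subgroup.centralizer ({t} : Set G) ↔ c * t = t * c := by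
  rw [Subgroup.mem_centralizer_iff]
  constructor
  · intro h; exact (h t rfl).symm
  · intro h x hx
    rw [Set.mem_singleton_iff] at hx
    subst hx
    exact h.symm

/-- an involution of `C(t)` conjugate to `z` lies in `B` -/
theorem st_mem_B_of_isConj_z (h : Setting z t K V B) {u : G}
    (hu : u ∈ Subgroup.centralizer ({t} : Set G)) (hzu : IsConj z u) : u ∈ B := by
  by_contra hB
  have h2 : orderOf u = 2 := isConj_orderOf_two hzu h.hz
  exact h.hzt (hzu.trans (h.hCt u hu h2 hB))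

/-- an involution of `C(t)` conjugate to `t` does not lie in `B` -/
theorem st_not_mem_B_of_isConj_t (h : Setting z t K V B) {v : G} (htv : IsConj t v) :
    v ∉ B := by
  intro hB
  have h2 : orderOf v = 2 := isConj_orderOf_two htv h.ht
  exact h.hzt ((htv.trans (h.hBz v hB h2)).symm)

/-- forward analysis of the pairs counted by `a(t)` -/
theorem st_at_forward (h : Setting z t K V B) (u v : G) (hu : IsConj z u) (hv : IsConj t v)
    (ht : t ∈ Subgroup.zpowers (u * v)) :
    ∃ b ∈ B, u ∈ B ∧ orderOf u = 2 ∧ v = t * b ∧ b * b = 1 ∧ Odd (orderOf (u * b)) := by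
  have hu2 : orderOf u = 2 := isConj_orderOf_two hu h.hz
  have hv2 : orderOf v = 2 := isConj_orderOf_two hv h.ht
  have huu := ((orderOf_two_iff u).1 hu2).2
  have hvv := ((orderOf_two_iff v).1 hv2).2
  have htinv : t⁻¹ = t := inv_eq_of_mul_eq_one_right (st_t_sq h)
  obtain ⟨h1, h2⟩ := conj_zpowers_of_invol huu hvv ht
  rw [htinv] at h1 h2
  have huC : u ∈ Subgroup.centralizer ({t} : Set G) := by
    rw [mem_centralizer_singleton_iff]
    calc u * t = u * t * u⁻¹ * u := by group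
      _ = t * u := by rw [h1]
  have hvC : v ∈ Subgroup.centralizer ({t} : Set G) := by
    rw [mem_centralizer_singleton_iff]
    calc v * t = v * t * v⁻¹ * v := by group
      _ = t * v := by rw [h2]
  have huB : u ∈ B := (st_mem_B_of_isConj_z h) huC hu
  have hvB : v ∉ B := (st_not_mem_B_of_isConj_t h) hv
  obtain ⟨w, hw, b, hb, rfl⟩ := (st_exists_mul h) hvC
  have hww : w * w = 1 := by have := h.hV2 w hw; rwa [pow_two] at this
  -- `b² = 1`
  have hbb : b * b = 1 := by
    have e1 : w * b * (w * b) = (w * w) * (b * b) := by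
      calc w * b * (w * b) = w * (b * w) * b := by group
        _ = w * (w * b) * b := by rw [(st_VB_comm h) w hw b hb]
        _ = (w * w) * (b * b) := by group
    rw [e1, hww, one_mul] at hvv
    exact hvv
  -- `u * (w * b) = w * (u * b)`
  have e2 : u * (w * b) = w * (u * b) := by
    calc u * (w * b) = (u * w) * b := by group
      _ = (w * u) * b := by rw [(st_VB_comm h) w hw u huB]
      _ = w * (u * b) := by group
  have hcomm : Commute w (u * b) := by
    have := (st_VB_comm h) w hw (u * b) (B.mul_mem huB hb)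
    exact this
  obtain ⟨k, hk⟩ := Subgroup.mem_zpowers_iff.1 ht
  rw [e2, hcomm.mul_zpow] at hk
  -- `(u b)^k ∈ V ⊓ B`
  have hck : (u * b) ^ k = 1 := by
    apply (st_eq_one_of_mem_V_B h)
    · have : (u * b) ^ k = (w ^ k)⁻¹ * t := by rw [← hk]; group
      rw [this]
      exact V.mul_mem (V.inv_mem (V.zpow_mem hw k)) h.htV
    · exact B.zpow_mem (B.mul_mem huB hb) k
  rw [hck, mul_one] at hk
  -- parity of `k`
  have hw2 : w ^ (2 : ℤ) = 1 := by rw [zpow_two]; exact hww
  rcases Int.even_or_odd' k with ⟨j, hj | hj⟩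
  · exfalso
    rw [hj, zpow_mul, hw2, one_zpow] at hk
    exact (st_t_ne h) hk.symm
  · have hwt : w = t := by
      rw [hj, zpow_add, zpow_mul, hw2, one_zpow, one_mul, zpow_one] at hk
      exact hk
    subst hwt
    refine ⟨b, hb, huB, hu2, rfl, hbb, ?_⟩
    have hdvd : (orderOf (u * b) : ℤ) ∣ k := orderOf_dvd_iff_zpow_eq_one.2 hck
    rw [← Nat.not_even_iff_odd]
    intro hev
    have h2 : (2 : ℤ) ∣ k := by
      have : (2 : ℤ) ∣ (orderOf (u * b) : ℤ) := by
        exact_mod_cast hev.two_dvd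
      exact this.trans hdvd
    rw [hj] at h2
    omega

/-- backward direction -/
theorem st_at_backward (h : Setting z t K V B) (u b : G) (hu : u ∈ B) (hb : b ∈ B)
    (hu2 : orderOf u = 2) (hbb : b * b = 1) (hodd : Odd (orderOf (u * b))) :
    IsConj z u ∧ IsConj t (t * b) ∧ t ∈ Subgroup.zpowers (u * (t * b)) := by
  have htB : t * b ∉ B := by
    intro hB
    apply (st_t_not_mem_B h)
    have : t = t * b * b⁻¹ := by group
    rw [this]
    exact B.mul_mem hB (B.inv_mem hb)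
  have htb1 : t * b ≠ 1 := fun h1 => htB (h1 ▸ B.one_mem)
  have htbC : t * b ∈ Subgroup.centralizer ({t} : Set G) :=
    Subgroup.mul_mem _ ((st_V_le h) h.htV) ((st_B_le h) hb)
  have htb2 : (t * b) * (t * b) = 1 := by
    calc t * b * (t * b) = t * (b * t) * b := by group
      _ = t * (t * b) * b := by rw [(st_VB_comm h) t h.htV b hb]
      _ = (t * t) * (b * b) := by group
      _ = 1 := by rw [(st_t_sq h), hbb, one_mul]
  refine ⟨(h.hBz u hu hu2).symm,
    (h.hCt (t * b) htbC ((orderOf_two_iff _).2 ⟨htb1, htb2⟩) htB).symm, ?_⟩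
  have e2 : u * (t * b) = t * (u * b) := by
    calc u * (t * b) = (u * t) * b := by group
      _ = (t * u) * b := by rw [(st_VB_comm h) t h.htV u hu]
      _ = t * (u * b) := by group
  have hcomm : Commute t (u * b) := (st_VB_comm h) t h.htV (u * b) (B.mul_mem hu hb)
  rw [e2]
  refine Subgroup.mem_zpowers_iff.2 ⟨(orderOf (u * b) : ℤ), ?_⟩
  rw [zpow_natCast, hcomm.mul_pow, pow_orderOf_eq_one, mul_one]
  obtain ⟨j, hj⟩ := hodd
  rw [hj, pow_succ, pow_mul, pow_two, (st_t_sq h), one_pow, one_mul]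

/-- `a(t)` as a count inside `B` -/
theorem st_card_at_eq (h : Setting z t K V B) :
    Nat.card {p : G × G // IsConj z p.1 ∧ IsConj t p.2 ∧ t ∈ Subgroup.zpowers (p.1 * p.2)} =
      Nat.card {p : ↥B × ↥B // orderOf p.1 = 2 ∧ p.2 * p.2 = 1 ∧ Odd (orderOf (p.1 * p.2))} := by
  symm
  refine Nat.card_congr (Equiv.ofBijective
    (fun p => ⟨((p.1.1 : G), t * (p.1.2 : G)), ?_⟩) ⟨?_, ?_⟩)
  · obtain ⟨⟨u, b⟩, h1, h2, h3⟩ := p
    have h1' : orderOf (u : G) = 2 := by rw [Subgroup.orderOf_coe]; exact h1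
    have h2' : (b : G) * (b : G) = 1 := by
      have := congrArg (Subtype.val) h2
      simpa using this
    have h3' : Odd (orderOf ((u : G) * (b : G))) := by
      have : ((u * b : ↥B) : G) = (u : G) * (b : G) := rfl
      rw [← this, Subgroup.orderOf_coe]; exact h3
    exact (st_at_backward h) u b u.2 b.2 h1' h2' h3'
  · rintro ⟨⟨u, b⟩, hp⟩ ⟨⟨u', b'⟩, hp'⟩ heq
    simp only [Subtype.mk.injEq, Prod.mk.injEq] at heq
    obtain ⟨e1, e2⟩ := heq
    have e3 : (b : G) = b' := mul_left_cancel e2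
    simp only [Subtype.mk.injEq, Prod.mk.injEq]
    exact ⟨Subtype.ext e1, Subtype.ext e3⟩
  · rintro ⟨⟨u, v⟩, hu, hv, ht⟩
    obtain ⟨b, hb, huB, hu2, rfl, hbb, hodd⟩ := (st_at_forward h) u v hu hv ht
    refine ⟨⟨(⟨u, huB⟩, ⟨b, hb⟩), ?_, ?_, ?_⟩, rfl⟩
    · rw [← Subgroup.orderOf_coe]; exact hu2
    · exact Subtype.ext hbb
    · have : ((⟨u, huB⟩ * ⟨b, hb⟩ : ↥B) : G) = u * b := rfl
      rw [← Subgroup.orderOf_coe, this]; exact hodd

/-- transport along `B ≃* A₅` -/
theorem st_card_at_of (h : Setting z t K V B)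
    (h5 : Nat.card {p : alternatingGroup (Fin 5) × alternatingGroup (Fin 5) //
      orderOf p.1 = 2 ∧ p.2 * p.2 = 1 ∧ Odd (orderOf (p.1 * p.2))} = 195) :
    Nat.card {p : G × G // IsConj z p.1 ∧ IsConj t p.2 ∧ t ∈ Subgroup.zpowers (p.1 * p.2)} =
      195 := by
  rw [(st_card_at_eq h), ← h5]
  obtain ⟨e⟩ := h.hB
  refine Nat.card_congr ((Equiv.prodCongr e.toEquiv e.toEquiv).subtypeEquiv ?_)
  rintro ⟨u, b⟩
  simp only [Equiv.prodCongr_apply, Prod.map_fst, Prod.map_snd]
  change _ ↔ orderOf (e u) = 2 ∧ e b * e b = 1 ∧ Odd (orderOf (e u * e b))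
  rw [MulEquiv.orderOf_eq, ← map_mul, ← map_mul, MulEquiv.orderOf_eq]
  constructor
  · rintro ⟨a, b', c⟩; exact ⟨a, by rw [b', map_one], c⟩
  · rintro ⟨a, b', c⟩; exact ⟨a, e.injective (by rw [b', map_one]), c⟩

end setting

end Cfsg.Agent.Lib.H23.HJ
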