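import Mathlib
import Cfsg.Agent.Lib.H17.HJDefs
import Cfsg.Agent.Lib.H23.HJATa

/-!
# S3313 piece CENTV, part a (helper23): an involution `v` of `C(z) ∖ Q` commutes with exactly two
involutions `≠ z` of `Q` (modulo the count `a5_count_comm` in `A₅`)
-/

set_option autoImplicit false

namespace Cfsg.Agent.Lib.H23.HJ

open Cfsg Cfsg.Agent.Lib.H17.HJ

variable {G : Type*} [Group G] {z t : G} {K V B : Subgroup G}

theorem st_Qz_le (z : G) : Qz z ≤ Subgroup.centralizer ({z} : Set G) :=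
  Subgroup.map_subtype_le _

/-- an involution of `C(z)` conjugate to `z` lies in `Q` -/
theorem st_mem_Qz_of_isConj_z (h : Setting z t K V B) {u : G}
    (hu : u ∈ Subgroup.centralizer ({z} : Set G)) (hzu : IsConj z u) : u ∈ Qz z := by
  by_contra hQ
  have h2 : orderOf u = 2 := isConj_orderOf_two hzu h.hz
  exact h.hzt (hzu.trans (h.hCz u hu h2 hQ))

theorem conj_comm_iff (g a b : G) :
    (g * a * g⁻¹) * (g * b * g⁻¹) = (g * b * g⁻¹) * (g * a * g⁻¹) ↔ a * b = b * a := by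
  constructor
  · intro h
    have : g⁻¹ * ((g * a * g⁻¹) * (g * b * g⁻¹)) * g = g⁻¹ * ((g * b * g⁻¹) * (g * a * g⁻¹)) * g := by
      rw [h]
    calc a * b = g⁻¹ * ((g * a * g⁻¹) * (g * b * g⁻¹)) * g := by group
      _ = g⁻¹ * ((g * b * g⁻¹) * (g * a * g⁻¹)) * g := this
      _ = b * a := by group
  · intro h
    calc (g * a * g⁻¹) * (g * b * g⁻¹) = g * (a * b) * g⁻¹ := by group
      _ = g * (b * a) * g⁻¹ := by rw [h]
      _ = (g * b * g⁻¹) * (g * a * g⁻¹) := by group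

theorem st_card_comm_invol_eq (h : Setting z t K V B) (v : G)
    (hv : v ∈ Subgroup.centralizer ({z} : Set G)) (hv2 : orderOf v = 2) (hvQ : v ∉ Qz z) :
    ∃ z' : ↥B, orderOf z' = 2 ∧
      Nat.card {u : G // u ∈ Qz z ∧ orderOf u = 2 ∧ u ≠ z ∧ u * v = v * u} =
        Nat.card {b : ↥B // orderOf b = 2 ∧ b ≠ z' ∧ z' * b = b * z'} := by
  obtain ⟨g, hg⟩ := isConj_iff.1 (h.hCz v hv hv2 hvQ)
  have hvz : v * z = z * v := mem_centralizer_singleton_iff.1 hv
  -- `z' = g z g⁻¹ ∈ B`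
  have hz'C : g * z * g⁻¹ ∈ Subgroup.centralizer ({t} : Set G) := by
    rw [mem_centralizer_singleton_iff, ← hg]
    exact (conj_comm_iff g z v).2 hvz.symm
  have hz'conj : IsConj z (g * z * g⁻¹) := isConj_iff.2 ⟨g, rfl⟩
  have hz'B : g * z * g⁻¹ ∈ B := st_mem_B_of_isConj_z h hz'C hz'conj
  refine ⟨⟨g * z * g⁻¹, hz'B⟩, ?_, ?_⟩
  · rw [← Subgroup.orderOf_coe]
    exact isConj_orderOf_two hz'conj h.hz
  refine Nat.card_congr
    { toFun := fun u => ⟨⟨g * u.1 * g⁻¹, ?_⟩, ?_, ?_, ?_⟩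
      invFun := fun b => ⟨g⁻¹ * (b.1 : G) * g, ?_, ?_, ?_, ?_⟩
      left_inv := fun u => by apply Subtype.ext; simp only; group
      right_inv := fun b => by apply Subtype.ext; apply Subtype.ext; simp only; group }
  · -- `g u g⁻¹ ∈ B`
    obtain ⟨u, huQ, hu2, huz, huv⟩ := u
    have hzu : IsConj z u := (h.hQz u huQ hu2).symm
    have hC : g * u * g⁻¹ ∈ Subgroup.centralizer ({t} : Set G) := by
      rw [mem_centralizer_singleton_iff, ← hg]
      exact (conj_comm_iff g u v).2 huv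
    exact st_mem_B_of_isConj_z h hC (hzu.trans (isConj_iff.2 ⟨g, rfl⟩))
  · obtain ⟨u, huQ, hu2, huz, huv⟩ := u
    rw [← Subgroup.orderOf_coe]
    exact isConj_orderOf_two (isConj_iff.2 ⟨g, rfl⟩) hu2
  · obtain ⟨u, huQ, hu2, huz, huv⟩ := u
    intro heq
    apply huz
    have h1 : g * u * g⁻¹ = g * z * g⁻¹ := congrArg Subtype.val heq
    calc u = g⁻¹ * (g * u * g⁻¹) * g := by group
      _ = g⁻¹ * (g * z * g⁻¹) * g := by rw [h1]
      _ = z := by group
  · obtain ⟨u, huQ, hu2, huz, huv⟩ := u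
    apply Subtype.ext
    have huC : u * z = z * u := mem_centralizer_singleton_iff.1 (st_Qz_le z huQ)
    exact (conj_comm_iff g z u).2 huC.symm
  · -- `g⁻¹ b g ∈ Q`
    obtain ⟨b, hb2, hbz, hbc⟩ := b
    have hb2' : orderOf (b : G) = 2 := by rw [Subgroup.orderOf_coe]; exact hb2
    have hzb : IsConj z (b : G) := (h.hBz b b.2 hb2').symm
    have hconj : IsConj z (g⁻¹ * (b : G) * g) :=
      hzb.trans (isConj_iff.2 ⟨g⁻¹, by simp⟩)
    have hbc' : (g * z * g⁻¹) * (b : G) = (b : G) * (g * z * g⁻¹) := congrArg Subtype.val hbc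
    have hC : g⁻¹ * (b : G) * g ∈ Subgroup.centralizer ({z} : Set G) := by
      rw [mem_centralizer_singleton_iff]
      have := (conj_comm_iff g (g⁻¹ * (b : G) * g) z).1 (by
        have e : g * (g⁻¹ * (b : G) * g) * g⁻¹ = (b : G) := by group
        rw [e]; exact hbc'.symm)
      exact this
    exact st_mem_Qz_of_isConj_z h hC hconj
  · obtain ⟨b, hb2, hbz, hbc⟩ := b
    have hb2' : orderOf (b : G) = 2 := by rw [Subgroup.orderOf_coe]; exact hb2
    exact isConj_orderOf_two (isConj_iff.2 ⟨g⁻¹, by simp⟩) hb2'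
  · obtain ⟨b, hb2, hbz, hbc⟩ := b
    intro heq
    apply hbz
    apply Subtype.ext
    simp only at heq
    calc (b : G) = g * (g⁻¹ * (b : G) * g) * g⁻¹ := by group
      _ = g * z * g⁻¹ := by rw [heq]
  · obtain ⟨b, hb2, hbz, hbc⟩ := b
    simp only
    have hbt : (b : G) * t = t * (b : G) := mem_centralizer_singleton_iff.1 (st_B_le h b.2)
    have e : g * (g⁻¹ * (b : G) * g) * g⁻¹ = (b : G) := by group
    refine (conj_comm_iff g (g⁻¹ * (b : G) * g) v).1 ?_
    rw [e, hg]; exact hbt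

/-- `card_comm_invol` modulo the count in `A₅` -/
theorem st_card_comm_invol_of (h : Setting z t K V B)
    (h5 : ∀ a : alternatingGroup (Fin 5), orderOf a = 2 →
      Nat.card {b : alternatingGroup (Fin 5) // orderOf b = 2 ∧ b ≠ a ∧ a * b = b * a} = 2)
    (v : G) (hv : v ∈ Subgroup.centralizer ({z} : Set G)) (hv2 : orderOf v = 2)
    (hvQ : v ∉ Qz z) :
    Nat.card {u : G // u ∈ Qz z ∧ orderOf u = 2 ∧ u ≠ z ∧ u * v = v * u} = 2 := by
  obtain ⟨z', hz'2, heq⟩ := st_card_comm_invol_eq h v hv hv2 hvQ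
  rw [heq]
  obtain ⟨e⟩ := h.hB
  refine Eq.trans ?_ (h5 (e z') (by rw [MulEquiv.orderOf_eq]; exact hz'2))
  refine Nat.card_congr (e.toEquiv.subtypeEquiv ?_)
  intro b
  change _ ↔ orderOf (e b) = 2 ∧ e b ≠ e z' ∧ e z' * e b = e b * e z'
  rw [MulEquiv.orderOf_eq, ← map_mul, ← map_mul, e.injective.eq_iff, e.injective.ne_iff]

end Cfsg.Agent.Lib.H23.HJ
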