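import Mathlib

/-!
# Four weighted points with three vanishing moments (helper23)

Weights `1, w₂, w₃, w₄` at points `1 > r₂, r₃, r₄` with vanishing moments of order `0, 1, 2`:
exactly two of `w₂, w₃, w₄` are negative and `w₂ w₃ w₄` is a square.
-/

set_option autoImplicit false

namespace Cfsg.Agent.Lib.H23.AbSyl

/-- The key identity for one index. -/
theorem moment_key (w₂ w₃ w₄ r₂ r₃ r₄ : ℚ)
    (h0 : 1 + w₂ + w₃ + w₄ = 0) (h1 : 1 + w₂ * r₂ + w₃ * r₃ + w₄ * r₄ = 0)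
    (h2 : 1 + w₂ * r₂ ^ 2 + w₃ * r₃ ^ 2 + w₄ * r₄ ^ 2 = 0) :
    w₂ * ((r₂ - r₃) * (r₂ - r₄)) = -((1 - r₃) * (1 - r₄)) := by
  linear_combination h2 - (r₃ + r₄) * h1 + r₃ * r₄ * h0

theorem moment_four (w₂ w₃ w₄ r₂ r₃ r₄ : ℚ) (hr₂ : r₂ < 1) (hr₃ : r₃ < 1) (hr₄ : r₄ < 1)
    (h0 : 1 + w₂ + w₃ + w₄ = 0) (h1 : 1 + w₂ * r₂ + w₃ * r₃ + w₄ * r₄ = 0)
    (h2 : 1 + w₂ * r₂ ^ 2 + w₃ * r₃ ^ 2 + w₄ * r₄ ^ 2 = 0) :
    ((w₂ < 0 ∧ w₃ < 0 ∧ 0 < w₄) ∨ (w₂ < 0 ∧ 0 < w₃ ∧ w₄ < 0) ∨ (0 < w₂ ∧ w₃ < 0 ∧ w₄ < 0)) ∧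
      ∃ R : ℚ, w₂ * w₃ * w₄ = R ^ 2 := by
  have k2 := moment_key w₂ w₃ w₄ r₂ r₃ r₄ h0 h1 h2
  have k3 := moment_key w₃ w₂ w₄ r₃ r₂ r₄ (by linarith) (by linarith) (by linarith)
  have k4 := moment_key w₄ w₂ w₃ r₄ r₂ r₃ (by linarith) (by linarith) (by linarith)
  have p34 : 0 < (1 - r₃) * (1 - r₄) := mul_pos (by linarith) (by linarith)
  have p24 : 0 < (1 - r₂) * (1 - r₄) := mul_pos (by linarith) (by linarith)
  have p23 : 0 < (1 - r₂) * (1 - r₃) := mul_pos (by linarith) (by linarith)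
  have n23 : r₂ ≠ r₃ := by
    intro h
    rw [h, sub_self, zero_mul, mul_zero] at k2
    linarith
  have n24 : r₂ ≠ r₄ := by
    intro h
    rw [h, sub_self, mul_zero, mul_zero] at k2
    linarith
  have n34 : r₃ ≠ r₄ := by
    intro h
    rw [h, sub_self, mul_zero, mul_zero] at k3
    linarith
  -- signs
  have s2 : ∀ {w a b : ℚ}, w * (a * b) < 0 → (0 < a * b → w < 0) ∧ (a * b < 0 → 0 < w) := by
    intro w a b h
    constructor
    · intro hab
      by_contra hw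
      push Not at hw
      have := mul_nonneg hw hab.le
      linarith
    · intro hab
      by_contra hw
      push Not at hw
      have := mul_nonneg_of_nonpos_of_nonpos hw hab.le
      linarith
  have e2 := s2 (show w₂ * ((r₂ - r₃) * (r₂ - r₄)) < 0 by rw [k2]; linarith)
  have e3 := s2 (show w₃ * ((r₃ - r₂) * (r₃ - r₄)) < 0 by rw [k3]; linarith)
  have e4 := s2 (show w₄ * ((r₄ - r₂) * (r₄ - r₃)) < 0 by rw [k4]; linarith)
  constructor
  · rcases lt_or_gt_of_ne n23 with h23 | h23 <;> rcases lt_or_gt_of_ne n24 with h24 | h24 <;>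
      rcases lt_or_gt_of_ne n34 with h34 | h34
    · -- r₂ < r₃ < r₄
      right; left
      exact ⟨e2.1 (mul_pos_of_neg_of_neg (by linarith) (by linarith)),
        e3.2 (mul_neg_of_pos_of_neg (by linarith) (by linarith)),
        e4.1 (mul_pos (by linarith) (by linarith))⟩
    · -- r₂ < r₄ < r₃
      left
      exact ⟨e2.1 (mul_pos_of_neg_of_neg (by linarith) (by linarith)),
        e3.1 (mul_pos (by linarith) (by linarith)),
        e4.2 (mul_neg_of_pos_of_neg (by linarith) (by linarith))⟩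
    · -- r₂ < r₃, r₄ < r₂, r₃ < r₄ impossible
      exfalso; linarith
    · -- r₄ < r₂ < r₃
      right; right
      exact ⟨e2.2 (mul_neg_of_neg_of_pos (by linarith) (by linarith)),
        e3.1 (mul_pos (by linarith) (by linarith)),
        e4.1 (mul_pos_of_neg_of_neg (by linarith) (by linarith))⟩
    · -- r₃ < r₂ < r₄
      right; right
      exact ⟨e2.2 (mul_neg_of_pos_of_neg (by linarith) (by linarith)),
        e3.1 (mul_pos_of_neg_of_neg (by linarith) (by linarith)),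
        e4.1 (mul_pos (by linarith) (by linarith))⟩
    · -- r₃ < r₂, r₂ < r₄, r₄ < r₃ impossible
      exfalso; linarith
    · -- r₃ < r₄ < r₂
      left
      exact ⟨e2.1 (mul_pos (by linarith) (by linarith)),
        e3.1 (mul_pos_of_neg_of_neg (by linarith) (by linarith)),
        e4.2 (mul_neg_of_neg_of_pos (by linarith) (by linarith))⟩
    · -- r₄ < r₃ < r₂
      right; left
      exact ⟨e2.1 (mul_pos (by linarith) (by linarith)),
        e3.2 (mul_neg_of_neg_of_pos (by linarith) (by linarith)),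
        e4.1 (mul_pos_of_neg_of_neg (by linarith) (by linarith))⟩
  · set V : ℚ := (r₂ - r₃) * (r₂ - r₄) * (r₃ - r₄) with hV
    set U : ℚ := (1 - r₂) * (1 - r₃) * (1 - r₄) with hU
    have hV0 : V ≠ 0 := by
      rw [hV]
      exact mul_ne_zero (mul_ne_zero (sub_ne_zero.2 n23) (sub_ne_zero.2 n24)) (sub_ne_zero.2 n34)
    refine ⟨U / V, ?_⟩
    have h : w₂ * w₃ * w₄ * V ^ 2 = U ^ 2 := by
      have e : w₂ * w₃ * w₄ * V ^ 2 =
          -((w₂ * ((r₂ - r₃) * (r₂ - r₄))) * (w₃ * ((r₃ - r₂) * (r₃ - r₄))) *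
            (w₄ * ((r₄ - r₂) * (r₄ - r₃)))) := by
        rw [hV]; ring
      rw [e, k2, k3, k4, hU]
      ring
    rw [div_pow, eq_div_iff (pow_ne_zero 2 hV0)]
    exact h

end Cfsg.Agent.Lib.H23.AbSyl
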