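import Cfsg.Agent.Lib.H23.AbSylN
import Cfsg.Agent.Lib.H23.AbSylM
import Cfsg.Agent.Lib.H23.Rational
import Cfsg.Agent.Lib.H24.CharKer
import Cfsg.Agent.Lib.H24.CharBasic

/-!
# Involutions and the index-three principal block: auxiliary lemmas (helper23)
-/

set_option autoImplicit false

namespace Cfsg.Agent.Lib.H23.AbSyl

open Cfsg Cfsg.Agent.Lib.H23 Cfsg.Agent.Lib.H24 Cfsg.Agent.Lib.L0

section general

variable {G : Type*} [Group G] [Finite G]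

/-- For an involution `t` contained in no proper normal subgroup and a non-principal irreducible
character `χ`, the ratio `χ(t)/χ(1)` is a rational number `< 1`. -/
theorem invol_ratio (χ : IrrCharacter G) (hχ : (χ : G → ℂ) ≠ fun _ => 1) (t : G)
    (ht : t * t = 1) (htK : ∀ K : Subgroup G, K.Normal → t ∈ K → K = ⊤) :
    ∃ r : ℚ, r < 1 ∧ (χ : G → ℂ) t = (r : ℂ) * (χ : G → ℂ) 1 := by
  obtain ⟨n, ρ, hirr, hρ⟩ := irr_exists_rep χ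
  obtain ⟨d, hd, hd1⟩ := irr_one_eq χ
  have hpow : ∀ m : ℕ, m.Coprime (Nat.card G) → t ^ m = t := by
    intro m hm
    by_cases h1 : t = 1
    · rw [h1, one_pow]
    · have ho : orderOf t = 2 := orderOf_eq_prime (by rw [pow_two]; exact ht) h1
      have h2 : 2 ∣ Nat.card G := ho ▸ orderOf_dvd_natCard t
      have hodd : m % 2 = 1 := by
        rcases Nat.mod_two_eq_zero_or_one m with h | h
        · exfalso
          have h3 : 2 ∣ m := Nat.dvd_of_mod_eq_zero h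
          have h4 : 2 ∣ Nat.gcd m (Nat.card G) := Nat.dvd_gcd h3 h2
          rw [hm] at h4
          omega
        · exact h
      rw [← Nat.div_add_mod m 2, hodd, pow_add, pow_mul, pow_two, ht, one_pow, one_mul, pow_one]
  obtain ⟨q, hq⟩ := char_rational_of_forall_char_pow_eq ρ t (fun m hm => by rw [hpow m hm])
  rw [hρ] at hq
  have hchar : IsCharacter G (χ : G → ℂ) := isCharacter_of_irr χ.2
  have hle := isCharacter_norm_le hchar t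
  rw [hq, hd1, Complex.norm_natCast] at hle
  have hnq : ‖(q : ℂ)‖ = |(q : ℝ)| := by
    rw [← Complex.ofReal_ratCast, Complex.norm_real, Real.norm_eq_abs]
  rw [hnq] at hle
  have hq_le : (q : ℝ) ≤ d := le_trans (le_abs_self _) hle
  have hne : q ≠ (d : ℚ) := by
    intro h
    apply hχ
    apply irr_eq_trivial_of_charKer_eq_top χ.2
    apply htK _ (charKer_normal _ _)
    rw [mem_charKer, hq, hd1, h]
    push_cast
    rfl
  have hlt : q < (d : ℚ) := by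
    have h1 : q ≤ (d : ℚ) := by exact_mod_cast hq_le
    exact lt_of_le_of_ne h1 hne
  have hd0 : (0 : ℚ) < d := by exact_mod_cast hd
  refine ⟨q / d, (div_lt_one hd0).2 hlt, ?_⟩
  rw [hq, hd1]
  have hdc : (d : ℂ) ≠ 0 := by exact_mod_cast hd.ne'
  push_cast
  field_simp

/-- A finite sum over a block given as three characters and a finite set. -/
theorem finsum_block3 (B : Set (IrrCharacter G)) (χ₁ χ₂ χ₃ : IrrCharacter G)
    (YF : Finset (IrrCharacter G)) (h12 : χ₁ ≠ χ₂) (h13 : χ₁ ≠ χ₃) (h23 : χ₂ ≠ χ₃)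
    (h1 : χ₁ ∉ YF) (h2 : χ₂ ∉ YF) (h3 : χ₃ ∉ YF)
    (hB : ∀ χ, χ ∈ B ↔ χ = χ₁ ∨ χ = χ₂ ∨ χ = χ₃ ∨ χ ∈ YF) (F : IrrCharacter G → ℂ) :
    ∑ᶠ χ ∈ B, F χ = F χ₁ + F χ₂ + F χ₃ + ∑ η ∈ YF, F η := by
  classical
  have hset : B = ((insert χ₁ (insert χ₂ (insert χ₃ YF)) : Finset (IrrCharacter G)) :
      Set (IrrCharacter G)) := by
    ext χ
    rw [hB χ]
    simp
  rw [hset, finsum_mem_coe_finset, Finset.sum_insert (by simp [h12, h13, h1]),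
    Finset.sum_insert (by simp [h23, h2]), Finset.sum_insert h3]
  ring

theorem eps_identity (e0 e1 e2 : ℂ) (h0 : e0 ^ 2 = 1) (h1 : e1 ^ 2 = 1) (h2 : e2 ^ 2 = 1)
    (hp : e0 * e1 * e2 = 1) : (e0 + e1 + e2) ^ 2 = 3 + 2 * (e0 + e1 + e2) := by
  linear_combination (1 - 2 * e1 * e2) * h0 + (1 - 2 * e0 * e2) * h1 + (1 - 2 * e0 * e1) * h2 +
    2 * (e0 + e1 + e2) * hp

/-- The arithmetic of the three moment equations. -/
theorem final_arith (a₂ a₃ δ : ℤ) (ha₂ : a₂ = 1 ∨ a₂ = -1) (ha₃ : a₃ = 1 ∨ a₃ = -1)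
    (hδ : δ = 1 ∨ δ = -1) (x₂ x₃ f : ℕ) (hx₂ : 0 < x₂) (hx₃ : 0 < x₃) (hf : 0 < f)
    (r₂ r₃ r₄ : ℚ) (hr₂ : r₂ < 1) (hr₃ : r₃ < 1) (hr₄ : r₄ < 1)
    (T₂ T₃ τ : ℂ) (hT₂ : T₂ = r₂ * x₂) (hT₃ : T₃ = r₃ * x₃) (hτ : τ = r₄ * f)
    (h0 : -(δ : ℂ) * f + 1 + a₂ * x₂ + a₃ * x₃ = 0)
    (h1 : -(δ : ℂ) * τ + 1 + a₂ * T₂ + a₃ * T₃ = 0)
    (h2 : 1 + (a₂ : ℂ) * (T₂ ^ 2 / x₂) + a₃ * (T₃ ^ 2 / x₃) + -(δ : ℂ) * (τ ^ 2 / f) = 0) :
    ((a₂ = -1 ∧ a₃ = -1 ∧ δ = -1) ∨ (a₂ = -1 ∧ a₃ = 1 ∧ δ = 1) ∨ (a₂ = 1 ∧ a₃ = -1 ∧ δ = 1)) ∧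
      IsSquare (f * (x₂ * x₃)) := by
  have hx₂c : (x₂ : ℂ) ≠ 0 := by exact_mod_cast hx₂.ne'
  have hx₃c : (x₃ : ℂ) ≠ 0 := by exact_mod_cast hx₃.ne'
  have hfc : (f : ℂ) ≠ 0 := by exact_mod_cast hf.ne'
  have e2 : T₂ ^ 2 / x₂ = r₂ ^ 2 * x₂ := by rw [hT₂]; field_simp
  have e3 : T₃ ^ 2 / x₃ = r₃ ^ 2 * x₃ := by rw [hT₃]; field_simp
  have e4 : τ ^ 2 / f = r₄ ^ 2 * f := by rw [hτ]; field_simp
  rw [e2, e3, e4] at h2
  rw [hT₂, hT₃, hτ] at h1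
  set w₂ : ℚ := a₂ * x₂ with hw₂
  set w₃ : ℚ := a₃ * x₃ with hw₃
  set w₄ : ℚ := -δ * f with hw₄
  have q0 : 1 + w₂ + w₃ + w₄ = 0 := by
    have : ((1 + w₂ + w₃ + w₄ : ℚ) : ℂ) = 0 := by
      rw [hw₂, hw₃, hw₄]; push_cast; linear_combination h0
    exact_mod_cast this
  have q1 : 1 + w₂ * r₂ + w₃ * r₃ + w₄ * r₄ = 0 := by
    have : ((1 + w₂ * r₂ + w₃ * r₃ + w₄ * r₄ : ℚ) : ℂ) = 0 := by
      rw [hw₂, hw₃, hw₄]; push_cast; linear_combination h1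
    exact_mod_cast this
  have q2 : 1 + w₂ * r₂ ^ 2 + w₃ * r₃ ^ 2 + w₄ * r₄ ^ 2 = 0 := by
    have : ((1 + w₂ * r₂ ^ 2 + w₃ * r₃ ^ 2 + w₄ * r₄ ^ 2 : ℚ) : ℂ) = 0 := by
      rw [hw₂, hw₃, hw₄]; push_cast; linear_combination h2
    exact_mod_cast this
  obtain ⟨hpat, R, hR⟩ := moment_four w₂ w₃ w₄ r₂ r₃ r₄ hr₂ hr₃ hr₄ q0 q1 q2
  have hx₂q : (0 : ℚ) < x₂ := by exact_mod_cast hx₂
  have hx₃q : (0 : ℚ) < x₃ := by exact_mod_cast hx₃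
  have hfq : (0 : ℚ) < f := by exact_mod_cast hf
  have neg2 : w₂ < 0 → a₂ = -1 := by
    intro h
    rcases ha₂ with h' | h'
    · exfalso; rw [hw₂, h'] at h; push_cast at h; linarith
    · exact h'
  have pos2 : 0 < w₂ → a₂ = 1 := by
    intro h
    rcases ha₂ with h' | h'
    · exact h'
    · exfalso; rw [hw₂, h'] at h; push_cast at h; linarith
  have neg3 : w₃ < 0 → a₃ = -1 := by
    intro h
    rcases ha₃ with h' | h'
    · exfalso; rw [hw₃, h'] at h; push_cast at h; linarith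
    · exact h'
  have pos3 : 0 < w₃ → a₃ = 1 := by
    intro h
    rcases ha₃ with h' | h'
    · exact h'
    · exfalso; rw [hw₃, h'] at h; push_cast at h; linarith
  have neg4 : w₄ < 0 → δ = 1 := by
    intro h
    rcases hδ with h' | h'
    · exact h'
    · exfalso; rw [hw₄, h'] at h; push_cast at h; linarith
  have pos4 : 0 < w₄ → δ = -1 := by
    intro h
    rcases hδ with h' | h'
    · exfalso; rw [hw₄, h'] at h; push_cast at h; linarith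
    · exact h'
  have hpat' : (a₂ = -1 ∧ a₃ = -1 ∧ δ = -1) ∨ (a₂ = -1 ∧ a₃ = 1 ∧ δ = 1) ∨
      (a₂ = 1 ∧ a₃ = -1 ∧ δ = 1) := by
    rcases hpat with ⟨h2', h3', h4'⟩ | ⟨h2', h3', h4'⟩ | ⟨h2', h3', h4'⟩
    · exact Or.inl ⟨neg2 h2', neg3 h3', pos4 h4'⟩
    · exact Or.inr (Or.inl ⟨neg2 h2', pos3 h3', neg4 h4'⟩)
    · exact Or.inr (Or.inr ⟨pos2 h2', neg3 h3', neg4 h4'⟩)
  refine ⟨hpat', ?_⟩
  have hprod : ((f * (x₂ * x₃) : ℕ) : ℚ) = R ^ 2 := by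
    rw [← hR, hw₂, hw₃, hw₄]
    rcases hpat' with ⟨h2', h3', h4'⟩ | ⟨h2', h3', h4'⟩ | ⟨h2', h3', h4'⟩ <;>
      rw [h2', h3', h4'] <;> push_cast <;> ring
  rw [← Rat.isSquare_natCast_iff, hprod, pow_two]
  exact ⟨R, rfl⟩

end general

end Cfsg.Agent.Lib.H23.AbSyl
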