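/-
S2347 farm-out (architect helper20), piece **WEIL-L1**: `exists_symm_duality`.
For `q` odd, `Φ Y = (X ↦ χ (trace (X * Y)))` is a bijection from the symmetric matrices onto the complex
characters of the additive group of symmetric matrices (`χ` any non-trivial character of `F`).
-/
import Cfsg.Agent.Lib.H20.WeilDefs

set_option autoImplicit false
set_option linter.unusedSectionVars false

namespace Cfsg.Agent.Lib.H23.Weil

open Matrix Cfsg.Agent.Lib.H12.LS2 Cfsg.Agent.Lib.H20.Weil

variable {F : Type*} [Field F] {n : ℕ}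

/-- the additive map `X ↦ trace (X * Y)` on symmetric matrices -/
noncomputable def wl1Tr (n : ℕ) (Y : Matrix (Fin n) (Fin n) F) : Symm n F →+ F :=
  (Matrix.traceAddMonoidHom (Fin n) F).comp ((AddMonoidHom.mulRight Y).comp (Symm n F).subtype)

theorem wl1Tr_apply (n : ℕ) (Y : Matrix (Fin n) (Fin n) F) (X : Symm n F) :
    wl1Tr n Y X = Matrix.trace ((X : Matrix (Fin n) (Fin n) F) * Y) := rfl

/-- scaling a symmetric matrix -/
theorem wl1_smul_mem {X : Matrix (Fin n) (Fin n) F} (hX : X ∈ Symm n F) (a : F) : a • X ∈ Symm n F := by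
  have hX' : Xᵀ = X := hX
  show (a • X)ᵀ = a • X
  rw [Matrix.transpose_smul, hX']

/-- the symmetric matrix `E_ij + E_ji` -/
theorem wl1_pair_mem (i j : Fin n) (y : F) :
    (Matrix.single i j y + Matrix.single j i y : Matrix (Fin n) (Fin n) F) ∈ Symm n F := by
  show (Matrix.single i j y + Matrix.single j i y : Matrix (Fin n) (Fin n) F)ᵀ = _
  rw [Matrix.transpose_add, Matrix.transpose_single, Matrix.transpose_single, add_comm]

/-- the symmetric matrix `E_ii` -/
theorem wl1_diag_mem (i : Fin n) :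
    (Matrix.single i i (1 : F) : Matrix (Fin n) (Fin n) F) ∈ Symm n F := by
  show (Matrix.single i i (1 : F) : Matrix (Fin n) (Fin n) F)ᵀ = _
  rw [Matrix.transpose_single]

/-- a non-zero symmetric matrix pairs non-trivially with some symmetric matrix (`2 ≠ 0`) -/
theorem wl1_exists_pair (h2 : (2 : F) ≠ 0) (D : Matrix (Fin n) (Fin n) F) (hD : D ∈ Symm n F)
    (hD0 : D ≠ 0) :
    ∃ X : Symm n F, Matrix.trace ((X : Matrix (Fin n) (Fin n) F) * D) ≠ 0 := by
  classical
  have hDt : Dᵀ = D := hD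
  obtain ⟨i, j, hij⟩ : ∃ i j, D i j ≠ 0 := by
    by_contra hcon
    push Not at hcon
    apply hD0
    ext i j
    exact hcon i j
  by_cases hdiag : i = j
  · subst hdiag
    refine ⟨⟨_, wl1_diag_mem (F := F) (n := n) i⟩, ?_⟩
    show Matrix.trace ((Matrix.single i i (1 : F) : Matrix (Fin n) (Fin n) F) * D) ≠ 0
    rw [Matrix.trace_single_mul, smul_eq_mul, one_mul]
    exact hij
  · refine ⟨⟨_, wl1_pair_mem (F := F) (n := n) i j 1⟩, ?_⟩
    show Matrix.trace ((Matrix.single i j (1 : F) + Matrix.single j i (1 : F) :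
      Matrix (Fin n) (Fin n) F) * D) ≠ 0
    rw [Matrix.add_mul, Matrix.trace_add, Matrix.trace_single_mul, Matrix.trace_single_mul,
      smul_eq_mul, smul_eq_mul, one_mul, one_mul]
    have hji : D j i = D i j := by
      have := congrFun (congrFun hDt i) j
      simpa using this
    rw [hji, ← two_mul]
    exact mul_ne_zero h2 hij

variable [Fintype F]

/-- **WEIL-L1** -/
theorem exists_symm_duality (h2 : (2 : F) ≠ 0) (n : ℕ) :
    ∃ (χ : AddChar F ℂ) (Φ : Symm n F ≃ AddChar (Symm n F) ℂ),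
      ∀ Y X : Symm n F, Φ Y X = χ (Matrix.trace ((X : Matrix (Fin n) (Fin n) F) * (Y : Matrix (Fin n) (Fin n) F))) := by
  classical
  obtain ⟨χ, hχ⟩ := (AddChar.exists_apply_ne_zero (α := F) (a := 1)).2 one_ne_zero
  let f : Symm n F → AddChar (Symm n F) ℂ := fun Y => χ.compAddMonoidHom (wl1Tr n Y.1)
  have hf_apply : ∀ Y X : Symm n F, f Y X =
      χ (Matrix.trace ((X : Matrix (Fin n) (Fin n) F) * (Y : Matrix (Fin n) (Fin n) F))) := by
    intro Y X
    rfl
  have hinj : Function.Injective f := by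
    intro Y Y' hYY'
    by_contra hne
    have hD0 : (Y.1 - Y'.1 : Matrix (Fin n) (Fin n) F) ≠ 0 := by
      intro h0
      exact hne (Subtype.ext (sub_eq_zero.1 h0))
    have hDmem : (Y.1 - Y'.1 : Matrix (Fin n) (Fin n) F) ∈ Symm n F :=
      (Symm n F).sub_mem Y.2 Y'.2
    obtain ⟨X, hX0⟩ := wl1_exists_pair h2 _ hDmem hD0
    set c := Matrix.trace ((X : Matrix (Fin n) (Fin n) F) * (Y.1 - Y'.1)) with hc
    have hac : χ (c⁻¹ * c) ≠ 1 := by
      rw [inv_mul_cancel₀ hX0]
      exact hχ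
    apply hac
    have hX' : c⁻¹ • (X : Matrix (Fin n) (Fin n) F) ∈ Symm n F := wl1_smul_mem X.2 c⁻¹
    have h1 := congrArg (fun ψ : AddChar (Symm n F) ℂ => ψ ⟨_, hX'⟩) hYY'
    simp only [hf_apply] at h1
    have h3 : c⁻¹ * c =
        Matrix.trace ((c⁻¹ • (X : Matrix (Fin n) (Fin n) F)) * Y.1) -
          Matrix.trace ((c⁻¹ • (X : Matrix (Fin n) (Fin n) F)) * Y'.1) := by
      rw [hc, Matrix.mul_sub, Matrix.trace_sub, Matrix.smul_mul, Matrix.smul_mul, Matrix.trace_smul,
        Matrix.trace_smul, smul_eq_mul, smul_eq_mul]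
      ring
    rw [h3, AddChar.map_sub_eq_div, h1]
    refine div_self ?_
    intro h0
    have h4 := χ.map_add_eq_mul (Matrix.trace ((c⁻¹ • (X : Matrix (Fin n) (Fin n) F)) * Y'.1))
      (-(Matrix.trace ((c⁻¹ • (X : Matrix (Fin n) (Fin n) F)) * Y'.1)))
    rw [add_neg_cancel, χ.map_zero_eq_one, h0, zero_mul] at h4
    exact one_ne_zero h4
  have hbij : Function.Bijective f := by
    rw [Fintype.bijective_iff_injective_and_card]
    exact ⟨hinj, (AddChar.card_eq (α := Symm n F)).symm⟩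
  exact ⟨χ, Equiv.ofBijective f hbij, fun Y X => hf_apply Y X⟩

end Cfsg.Agent.Lib.H23.Weil
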