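import Cfsg.Agent.Lib.H1.FG19.Defs
import Cfsg.Prelude.Def_Transfer
import Cfsg.Prelude.Def_CaseTheorems

/-!
# S4404 piece P2 (helper23): `|Aut(C_2^d)| = |GL_d(2)|`

`U` a finite commutative group of exponent 2 and order `2 ^ d`.  `Additive U` is a `ZMod 2`-vector space of
dimension `d`, every additive automorphism is linear, so `MulAut U ≃ GL (Fin d) (ZMod 2)` and
`Matrix.card_GL_field` gives the count.
-/

set_option autoImplicit false

namespace Cfsg.Agent.Lib.H23.FG19

open Cfsg Cfsg.Agent.Lib.H1.FG19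
open scoped IsMulCommutative

/-- P2 (H): `|Aut(C_2^d)| = |GL_d(2)|` (`Matrix.card_GL_field`). -/
theorem card_mulAut_eq {U : Type*} [CommGroup U] [Finite U] (h2 : ∀ u : U, u * u = 1) (d : ℕ)
    (hd : Nat.card U = 2 ^ d) : Nat.card (MulAut U) = ∏ i ∈ Finset.range d, (2 ^ d - 2 ^ i) := by
  classical
  letI : Module (ZMod 2) (Additive U) := AddCommGroup.zmodModule (n := 2) (fun x => by
    rw [two_nsmul]
    exact congrArg Additive.ofMul (h2 x.toMul))
  haveI : Finite (Additive U) := inferInstanceAs (Finite U)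
  have hcardV : Nat.card (Additive U) = 2 ^ d := hd
  have hfr : Module.finrank (ZMod 2) (Additive U) = d := by
    have h := Module.natCard_eq_pow_finrank (K := ZMod 2) (V := Additive U)
    rw [hcardV, Nat.card_eq_fintype_card, ZMod.card] at h
    exact (Nat.pow_right_injective (le_refl 2) h).symm
  let b : Module.Basis (Fin d) (ZMod 2) (Additive U) := Module.finBasisOfFinrankEq _ _ hfr
  let e1 : (Additive U ≃+ Additive U) ≃ (Additive U ≃ₗ[ZMod 2] Additive U) :=
    { toFun := fun e => e.toLinearEquiv (fun c x => ZMod.map_smul e c x)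
      invFun := fun e => e.toAddEquiv
      left_inv := fun e => by ext; rfl
      right_inv := fun e => by ext; rfl }
  have hc1 : Nat.card (MulAut U) = Nat.card (Additive U ≃+ Additive U) :=
    Nat.card_congr MulEquiv.toAdditive
  have hc2 : Nat.card (Additive U ≃+ Additive U) = Nat.card (Additive U ≃ₗ[ZMod 2] Additive U) :=
    Nat.card_congr e1
  have hc3 : Nat.card (Additive U ≃ₗ[ZMod 2] Additive U) =
      Nat.card (LinearMap.GeneralLinearGroup (ZMod 2) (Additive U)) :=
    Nat.card_congr (LinearMap.GeneralLinearGroup.generalLinearEquiv (ZMod 2) (Additive U)).symm.toEquiv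
  have hc4 : Nat.card (LinearMap.GeneralLinearGroup (ZMod 2) (Additive U)) =
      Nat.card (Matrix.GeneralLinearGroup (Fin d) (ZMod 2)) :=
    Nat.card_congr (Matrix.GeneralLinearGroup.toLin' b).symm.toEquiv
  rw [hc1, hc2, hc3, hc4, Matrix.card_GL_field, ZMod.card]
  exact Fin.prod_univ_eq_prod_range (fun i => 2 ^ d - 2 ^ i) d

end Cfsg.Agent.Lib.H23.FG19
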