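import Cfsg.Agent.Lib.L0.BlockRankTrace
import Cfsg.Agent.Lib.H23.BlockHom
import Cfsg.Agent.Lib.L0.BlockParseval

/-!
# The `p`-regular rank of a union of blocks (helper23; for S4651)

`blockRank` is additive over unions of blocks: the trace formula `∑_{ξ ∈ U} ⟨ξ, ξ⟩⁰ = l(U)` of lead's
`L0.BlockRankTrace.sum_inner0_eq_blockRank` holds for every set `U` of irreducible characters that is a union of blocks.

* `IsBlockClosed M U` : `U` is a union of blocks;
* `sum_inner0_eq_blockRank_of_closed` : the trace formula for `U`;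
* `blockRank_union_blocks` : `l({ψ | ∃ β, ψ ∈ β ∧ IsPBlock M β ∧ Q β}) = ∑ᶠ β ∈ {β | IsPBlock M β ∧ Q β}, l(β)`;
* `card_union_blocks` : the same for the number of characters.
-/

set_option autoImplicit false

namespace Cfsg.Agent.Lib.H23.KR

open Cfsg Cfsg.Agent.Lib.H23 Cfsg.Agent.Lib.H24 Cfsg.Agent.Lib.L0.BlockRankTrace
open scoped ComplexConjugate

variable {K : Type*} [Group K] {p : ℕ} {M : Ideal AlgInt}

/-- `U` is a union of blocks relative to `M`. -/
def IsBlockClosed (M : Ideal AlgInt) (U : Set (IrrCharacter K)) : Prop :=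
  ∀ ξ ∈ U, ∀ ξ' : IrrCharacter K, SameBlock M (ξ : K → ℂ) (ξ' : K → ℂ) → ξ' ∈ U

theorem isBlockClosed_blockOf [M.IsPrime] (ξ₀ : IrrCharacter K) :
    IsBlockClosed M (blockOf M (ξ₀ : K → ℂ)) :=
  fun _ hξ _ h => sameBlock_trans (M := M) hξ h

theorem isBlockClosed_union [hP : M.IsPrime] (Q : Set (IrrCharacter K) → Prop) :
    IsBlockClosed M {ψ : IrrCharacter K | ∃ β : Set (IrrCharacter K), ψ ∈ β ∧ IsPBlock M β ∧ Q β} := by
  rintro ξ ⟨β, hξβ, ⟨ξ₀, rfl⟩, hQ⟩ ξ' h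
  exact ⟨_, sameBlock_trans (M := M) hξβ h, ⟨ξ₀, rfl⟩, hQ⟩

variable [Fintype K]

/-- For `ξ'` in a union of blocks `U`: `ξ'⁰ = ∑_{ξ ∈ U} ⟨ξ', ξ⟩⁰ ξ⁰`. -/
theorem pRegularPart_eq_sum_of_closed (hM : IsPModular p M) (U : Set (IrrCharacter K))
    (hU : IsBlockClosed M U) [Fintype (IrrCharacter K)] [DecidablePred (· ∈ U)]
    {ξ' : IrrCharacter K} (hξ' : ξ' ∈ U) :
    pRegularPart p (ξ' : K → ℂ) = ∑ ξ ∈ Finset.univ.filter (· ∈ U),
      inner0 p (ξ' : K → ℂ) (ξ : K → ℂ) • pRegularPart p (ξ : K → ℂ) := by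
  have hPr := isPrime_of_isPModular hM
  have hcf : IsClassFunction K (pRegularPart p (ξ' : K → ℂ)) :=
    pRegularPart_isClassFunction p (irr_isClassFunction ξ')
  have h1 := classFunction_expansion _ hcf
  simp only [classInner_pRegularPart] at h1
  have h2 : ∑ ξ : IrrCharacter K, inner0 p (ξ' : K → ℂ) (ξ : K → ℂ) • (ξ : K → ℂ) =
      ∑ ξ ∈ Finset.univ.filter (· ∈ U),
        inner0 p (ξ' : K → ℂ) (ξ : K → ℂ) • (ξ : K → ℂ) := by
    rw [Finset.sum_filter]
    refine Finset.sum_congr rfl fun ξ _ => ?_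
    split_ifs with h
    · rfl
    · have hns : ¬ SameBlock M (ξ' : K → ℂ) (ξ : K → ℂ) := fun hs => h (hU ξ' hξ' ξ hs)
      unfold inner0
      rw [sum_pRegular_mul_conj_eq_zero hM ξ' ξ hns, mul_zero, zero_smul]
  rw [h2] at h1
  have h3 := congrArg (pRegL p) h1
  rw [pRegL_apply, pRegularPart_idem, map_sum] at h3
  rw [h3]
  refine Finset.sum_congr rfl fun ξ _ => ?_
  rw [map_smul, pRegL_apply]

/-- `∑_{ξ ∈ U} ⟨ξ, ξ⟩⁰ = l(U)` for a union of blocks `U`. -/
theorem sum_inner0_eq_blockRank_of_closed (hM : IsPModular p M) (U : Set (IrrCharacter K))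
    (hU : IsBlockClosed M U) [Fintype (IrrCharacter K)] [DecidablePred (· ∈ U)] :
    ∑ ξ ∈ Finset.univ.filter (· ∈ U),
      inner0 p (ξ : K → ℂ) (ξ : K → ℂ) = (blockRank p U : ℂ) := by
  set bf := Finset.univ.filter (· ∈ U) with hbf
  set V : Submodule ℂ (K → ℂ) :=
    Submodule.span ℂ ((fun χ : IrrCharacter K => pRegularPart p (χ : K → ℂ)) '' U) with hV
  set T : (K → ℂ) →ₗ[ℂ] (K → ℂ) :=
    ∑ ξ ∈ bf, (inner0L p (ξ : K → ℂ)).smulRight (pRegularPart p (ξ : K → ℂ)) with hT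
  have hTapply : ∀ f : K → ℂ, T f = ∑ ξ ∈ bf, inner0 p f (ξ : K → ℂ) •
      pRegularPart p (ξ : K → ℂ) := by
    intro f
    rw [hT, LinearMap.sum_apply]
    rfl
  have hproj : LinearMap.IsProj V T := by
    refine ⟨fun f => ?_, fun f hf => ?_⟩
    · rw [hTapply]
      refine Submodule.sum_mem _ fun ξ hξ => Submodule.smul_mem _ _ (Submodule.subset_span ?_)
      exact ⟨ξ, (Finset.mem_filter.mp hξ).2, rfl⟩
    · refine Submodule.span_induction (p := fun f _ => T f = f) ?_ ?_ ?_ ?_ hf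
      · rintro _ ⟨ξ', hξ', rfl⟩
        rw [hTapply]
        simp only [inner0_pRegularPart_left]
        exact (pRegularPart_eq_sum_of_closed hM U hU hξ').symm
      · exact map_zero T
      · intro f g _ _ h1 h2
        rw [map_add, h1, h2]
      · intro c f _ h1
        rw [map_smul, h1]
  have h1 := hproj.trace
  rw [hT, map_sum] at h1
  simp only [LinearMap.trace_smulRight, inner0L_apply, inner0_pRegularPart_left] at h1
  rw [h1]
  rfl

open scoped Classical in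
/-- a sum over a union of blocks, block by block. -/
theorem sum_union_blocks [Fintype (IrrCharacter K)] [hP : M.IsPrime]
    (F : Finset (Set (IrrCharacter K))) (hF : ∀ β ∈ F, IsPBlock M β) (g : IrrCharacter K → ℂ) :
    ∑ β ∈ F, ∑ ξ ∈ Finset.univ.filter (· ∈ β), g ξ =
      ∑ ξ ∈ Finset.univ.filter (fun ξ : IrrCharacter K => ∃ β ∈ F, ξ ∈ β), g ξ := by
  simp only [Finset.sum_filter]
  rw [Finset.sum_comm]
  refine Finset.sum_congr rfl fun ξ _ => ?_
  split_ifs with h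
  · obtain ⟨β₀, hβ₀, hξ⟩ := h
    rw [Finset.sum_eq_single β₀]
    · rw [if_pos hξ]
    · intro β hβ hne
      rw [if_neg]
      intro hξβ
      apply hne
      obtain ⟨ξ₁, rfl⟩ := hF β hβ
      obtain ⟨ξ₂, rfl⟩ := hF β₀ hβ₀
      rw [← blockOf_eq_of_mem hξβ, ← blockOf_eq_of_mem hξ]
    · intro h'; exact absurd hβ₀ h'
  · refine Finset.sum_eq_zero fun β hβ => ?_
    rw [if_neg]
    intro hξ
    exact h ⟨β, hβ, hξ⟩

/-- **Additivity of the `p`-regular rank over a union of blocks.** -/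
theorem blockRank_union_blocks (hM : IsPModular p M) (Q : Set (IrrCharacter K) → Prop) :
    blockRank p {ψ : IrrCharacter K | ∃ β : Set (IrrCharacter K), ψ ∈ β ∧ IsPBlock M β ∧ Q β} =
      ∑ᶠ β ∈ {β : Set (IrrCharacter K) | IsPBlock M β ∧ Q β}, blockRank p β := by
  classical
  have hPr := isPrime_of_isPModular hM
  let _ : Fintype (IrrCharacter K) := Fintype.ofFinite _
  set U : Set (IrrCharacter K) :=
    {ψ : IrrCharacter K | ∃ β : Set (IrrCharacter K), ψ ∈ β ∧ IsPBlock M β ∧ Q β} with hU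
  set F : Finset (Set (IrrCharacter K)) :=
    (Cfsg.Agent.Lib.L0.BlockParseval.blocks M K).filter Q with hF
  have hFmem : ∀ β, β ∈ F ↔ IsPBlock M β ∧ Q β := by
    intro β
    rw [hF, Finset.mem_filter, Cfsg.Agent.Lib.L0.BlockParseval.mem_blocks]
  have hset : {β : Set (IrrCharacter K) | IsPBlock M β ∧ Q β} = ↑F := by
    ext β
    rw [Set.mem_ofPred_eq, Finset.mem_coe, hFmem]
  rw [hset, finsum_mem_coe_finset]
  have hcast : ((blockRank p U : ℕ) : ℂ) = ((∑ β ∈ F, blockRank p β : ℕ) : ℂ) := by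
    rw [← sum_inner0_eq_blockRank_of_closed hM U (isBlockClosed_union Q)]
    push_cast
    have h1 : ∀ β ∈ F, (blockRank p β : ℂ) =
        ∑ ξ ∈ Finset.univ.filter (· ∈ β), inner0 p (ξ : K → ℂ) (ξ : K → ℂ) := by
      intro β hβ
      obtain ⟨ξ₀, rfl⟩ := ((hFmem β).1 hβ).1
      exact (sum_inner0_eq_blockRank hM ξ₀).symm
    rw [Finset.sum_congr rfl h1, sum_union_blocks F (fun β hβ => ((hFmem β).1 hβ).1)]
    refine Finset.sum_congr ?_ fun _ _ => rfl
    ext ξ
    simp only [Finset.mem_filter, Finset.mem_univ, true_and, hU, Set.mem_ofPred_eq]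
    constructor
    · rintro ⟨β, hξ, hβ, hQ⟩
      exact ⟨β, (hFmem β).2 ⟨hβ, hQ⟩, hξ⟩
    · rintro ⟨β, hβ, hξ⟩
      exact ⟨β, hξ, ((hFmem β).1 hβ).1, ((hFmem β).1 hβ).2⟩
  exact_mod_cast hcast

/-- **Additivity of the number of characters over a union of blocks.** -/
theorem card_union_blocks (hM : IsPModular p M) (Q : Set (IrrCharacter K) → Prop) :
    Nat.card {ψ : IrrCharacter K | ∃ β : Set (IrrCharacter K), ψ ∈ β ∧ IsPBlock M β ∧ Q β} =
      ∑ᶠ β ∈ {β : Set (IrrCharacter K) | IsPBlock M β ∧ Q β}, Nat.card β := by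
  classical
  have hPr := isPrime_of_isPModular hM
  let _ : Fintype (IrrCharacter K) := Fintype.ofFinite _
  set U : Set (IrrCharacter K) :=
    {ψ : IrrCharacter K | ∃ β : Set (IrrCharacter K), ψ ∈ β ∧ IsPBlock M β ∧ Q β} with hU
  set F : Finset (Set (IrrCharacter K)) :=
    (Cfsg.Agent.Lib.L0.BlockParseval.blocks M K).filter Q with hF
  have hFmem : ∀ β, β ∈ F ↔ IsPBlock M β ∧ Q β := by
    intro β
    rw [hF, Finset.mem_filter, Cfsg.Agent.Lib.L0.BlockParseval.mem_blocks]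
  have hset : {β : Set (IrrCharacter K) | IsPBlock M β ∧ Q β} = ↑F := by
    ext β
    rw [Set.mem_ofPred_eq, Finset.mem_coe, hFmem]
  rw [hset, finsum_mem_coe_finset]
  have hcast : ((Nat.card U : ℕ) : ℂ) = ((∑ β ∈ F, Nat.card β : ℕ) : ℂ) := by
    push_cast
    have hc : ∀ V : Set (IrrCharacter K), (Nat.card V : ℂ) =
        ∑ ξ ∈ Finset.univ.filter (· ∈ V), (1 : ℂ) := by
      intro V
      rw [Finset.sum_const, nsmul_eq_mul, mul_one, Nat.card_eq_fintype_card,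
        Fintype.card_subtype]
    rw [hc U, Finset.sum_congr rfl (fun β _ => hc β),
      sum_union_blocks F (fun β hβ => ((hFmem β).1 hβ).1)]
    refine Finset.sum_congr ?_ fun _ _ => rfl
    ext ξ
    simp only [Finset.mem_filter, Finset.mem_univ, true_and, hU, Set.mem_ofPred_eq]
    constructor
    · rintro ⟨β, hξ, hβ, hQ⟩
      exact ⟨β, (hFmem β).2 ⟨hβ, hQ⟩, hξ⟩
    · rintro ⟨β, hβ, hξ⟩
      exact ⟨β, hξ, ((hFmem β).1 hβ).1, ((hFmem β).1 hβ).2⟩
  exact_mod_cast hcast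

end Cfsg.Agent.Lib.H23.KR
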