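import Mathlib
import Cfsg.Prelude.Def_Blocks
import Cfsg.Agent.Lib.H23.BlockMinMax
import Cfsg.Agent.Lib.H23.BlockVanishP

/-!
# S4443 piece (VANISH) (helper23)

`D` a normal `p`-subgroup of `G` which is a Sylow `p`-subgroup of `C_G(x)`.  If the central
character of some member of the block `B` does not vanish modulo `M` at `x`, then `D` is a defect
group of `B`.  (Min-max against a defect class of `B`; a normal `p`-subgroup lies in every defect
group; `D` is the only Sylow `p`-subgroup of `C_G(x)`.)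
-/

set_option autoImplicit false

namespace Cfsg.Agent.Lib.H23.RB

open Cfsg Cfsg.Agent.Lib.H23

variable {G : Type*} [Group G]

theorem map_conj_eq_of_normal (D : Subgroup G) [hn : D.Normal] (c : G) :
    D.map (MulAut.conj c).toMonoidHom = D := by
  ext y
  rw [Subgroup.mem_map]
  constructor
  · rintro ⟨z, hz, rfl⟩
    simpa using hn.conj_mem z hz c
  · intro hy
    refine ⟨c⁻¹ * y * c, ?_, by simp [MulAut.conj_apply, mul_assoc]⟩
    simpa using hn.conj_mem y hy c⁻¹

/-- (VANISH) a block whose central character is a unit at `x`, where the normal `p`-subgroup `D`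
is a Sylow `p`-subgroup of `C_G(x)`, has defect group `D`. -/
theorem isDefectGroup_of_centralChar_not_mem [Fintype G] {p : ℕ} [Fact p.Prime]
    {M : Ideal Cfsg.AlgInt} (hM : Cfsg.IsPModular p M) (D : Subgroup G) [hn : D.Normal]
    (hD : IsPGroup p D) (x : G) (Q : Sylow p (Subgroup.centralizer ({x} : Set G)))
    (hQ : (Q : Subgroup (Subgroup.centralizer ({x} : Set G))).map
      (Subgroup.centralizer ({x} : Set G)).subtype = D)
    (B : Set (Cfsg.IrrCharacter G)) (hB : Cfsg.IsPBlock M B) (χ : Cfsg.IrrCharacter G)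
    (hχ : χ ∈ B) (hω : ¬ Cfsg.MemLocalIdeal M (Cfsg.centralChar (χ : G → ℂ) x)) :
    Cfsg.IsDefectGroup p M B D := by
  classical
  obtain ⟨χ₀, rfl⟩ := hB
  obtain ⟨E, hE⟩ := exists_isDefectGroup (p := p) hM χ₀
  have hDE : D ≤ E := normal_le_defectGroup hM χ₀ D hD E hE
  have hEp : IsPGroup p E := by
    obtain ⟨g₀, _, S₀, rfl⟩ := hE
    exact S₀.2.map _
  have hED : E ≤ D := by
    obtain ⟨k, hk, P, hEeq⟩ := hE
    have hEk : E ≤ Subgroup.centralizer ({k} : Set G) := by
      rw [hEeq]
      rintro _ ⟨y, -, rfl⟩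
      exact y.2
    obtain ⟨x', hx', hEx'⟩ := exists_conj_centralized hM χ₀ k x hk.2.1 χ hχ hω E hEp hEk
    obtain ⟨c, R, hR⟩ := exists_sylow_centralizer_conj E hEp hx' hEx'
    obtain ⟨d, hd⟩ := sylow_map_conj (Subgroup.centralizer ({x} : Set G)) Q R
    rw [hd, hQ, map_conj_eq_of_normal D d, map_conj_eq_of_normal D c] at hR
    exact hR
  have hEq : E = D := le_antisymm hED hDE
  rw [← hEq]
  exact hE

/-- (VANISH) in the exact signature of `tools/blueprints/S4443_sigs.lean`. -/
theorem isDefectGroup_of_centralChar [Fintype G] {p : ℕ} [Fact p.Prime] {M : Ideal Cfsg.AlgInt}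
    (hM : Cfsg.IsPModular p M) (D : Subgroup G) [D.Normal]
    (hD : IsPGroup p D) (χ : IrrCharacter G) (x : G)
    (hx : ∃ Q : Sylow p (Subgroup.centralizer ({x} : Set G)),
      (Q : Subgroup (Subgroup.centralizer ({x} : Set G))).map
        (Subgroup.centralizer ({x} : Set G)).subtype = D)
    (hω : ¬ MemLocalIdeal M (centralChar (χ : G → ℂ) x)) :
    IsDefectGroup p M (blockOf M (χ : G → ℂ)) D := by
  obtain ⟨Q, hQ⟩ := hx
  have hPr := isPrime_of_isPModular hM
  exact isDefectGroup_of_centralChar_not_mem hM D hD x Q hQ _ ⟨χ, rfl⟩ χ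
    (Cfsg.Agent.Lib.H23.mem_blockOf_self χ) hω

end Cfsg.Agent.Lib.H23.RB
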