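import Cfsg.Agent.Lib.H23.AbSylC

/-!
# The action of `N_G(P)` on the dual of an abelian Sylow subgroup (helper23)
-/

set_option autoImplicit false

namespace Cfsg.Agent.Lib.H23.AbSyl

open Cfsg
open scoped ComplexConjugate

variable {G : Type*} [Group G]

/-- The twist of `ψ` by `x ∈ N_G(P)`: `w ↦ ψ (x w x⁻¹)`. -/
noncomputable def twist (P : Subgroup G) (x : ↥(Subgroup.normalizer (P : Set G)))
    (ψ : ↥P →* ℂˣ) : ↥P →* ℂˣ :=
  ψ.comp (MulDistribMulAction.toMonoidHom ↥P x)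

theorem smul_coe (P : Subgroup G) (x : ↥(Subgroup.normalizer (P : Set G))) (w : ↥P) :
    ((x • w : ↥P) : G) = (x : G) * (w : G) * (x : G)⁻¹ := rfl

theorem twist_apply (P : Subgroup G) (x : ↥(Subgroup.normalizer (P : Set G)))
    (ψ : ↥P →* ℂˣ) (w : ↥P) : twist P x ψ w = ψ (x • w) := rfl

theorem twist_one (P : Subgroup G) (ψ : ↥P →* ℂˣ) : twist P 1 ψ = ψ := by
  ext w
  rw [twist_apply, one_smul]

theorem twist_twist (P : Subgroup G) (x x' : ↥(Subgroup.normalizer (P : Set G)))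
    (ψ : ↥P →* ℂˣ) : twist P x (twist P x' ψ) = twist P (x' * x) ψ := by
  ext w
  rw [twist_apply, twist_apply, twist_apply, mul_smul]

theorem twist_eq_one_iff (P : Subgroup G) (x : ↥(Subgroup.normalizer (P : Set G)))
    (ψ : ↥P →* ℂˣ) : twist P x ψ = 1 ↔ ψ = 1 := by
  constructor
  · intro h
    have h1 : twist P x⁻¹ (twist P x ψ) = ψ := by
      rw [twist_twist, mul_inv_cancel, twist_one]
    rw [← h1, h]
    ext w
    rw [twist_apply]
    rfl
  · rintro rfl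
    ext w
    rw [twist_apply]
    rfl

/-- The relation of the statement: `ψ'` is an `N_G(P)`-conjugate of `ψ`. -/
def Rel (P : Subgroup G) (ψ ψ' : ↥P →* ℂˣ) : Prop :=
  ∃ n : G, n ∈ Subgroup.normalizer (P : Set G) ∧
    ∀ w w' : ↥P, (w' : G) = n * w * n⁻¹ → ψ' w' = ψ w

theorem rel_iff (P : Subgroup G) (ψ ψ' : ↥P →* ℂˣ) :
    Rel P ψ ψ' ↔ ∃ x : ↥(Subgroup.normalizer (P : Set G)), twist P x ψ' = ψ := by
  constructor
  · rintro ⟨n, hn, h⟩
    refine ⟨⟨n, hn⟩, ?_⟩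
    ext w
    rw [twist_apply, h w ((⟨n, hn⟩ : ↥(Subgroup.normalizer (P : Set G))) • w) rfl]
  · rintro ⟨x, rfl⟩
    refine ⟨x, x.2, fun w w' hw => ?_⟩
    rw [twist_apply]
    congr 2
    apply Subtype.ext
    rw [hw]
    rfl

theorem rel_refl (P : Subgroup G) (ψ : ↥P →* ℂˣ) : Rel P ψ ψ :=
  (rel_iff P ψ ψ).2 ⟨1, twist_one P ψ⟩

theorem rel_symm (P : Subgroup G) {ψ ψ' : ↥P →* ℂˣ} (h : Rel P ψ ψ') : Rel P ψ' ψ := by
  obtain ⟨x, hx⟩ := (rel_iff P ψ ψ').1 h
  refine (rel_iff P ψ' ψ).2 ⟨x⁻¹, ?_⟩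
  rw [← hx, twist_twist, mul_inv_cancel, twist_one]

theorem rel_ne_one (P : Subgroup G) {ψ ψ' : ↥P →* ℂˣ} (h : Rel P ψ ψ') (hψ : ψ ≠ 1) : ψ' ≠ 1 := by
  obtain ⟨x, hx⟩ := (rel_iff P ψ ψ').1 h
  intro h1
  apply hψ
  rw [← hx, h1]
  exact (twist_eq_one_iff P x 1).2 rfl

theorem twist_of_mem_centralizer (P : Subgroup G) (x : ↥(Subgroup.normalizer (P : Set G)))
    (hx : (x : G) ∈ Subgroup.centralizer (P : Set G)) (ψ : ↥P →* ℂˣ) : twist P x ψ = ψ := by
  ext w
  rw [twist_apply]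
  congr 2
  apply Subtype.ext
  rw [smul_coe]
  have := Subgroup.mem_centralizer_iff.1 hx (w : G) w.2
  rw [← this, mul_inv_cancel_right]

variable [Finite G]

/-- The action on nontrivial characters is free. -/
theorem mem_centralizer_of_twist_eq (P : Subgroup G)
    (hcomm : ∀ a ∈ P, ∀ b ∈ P, a * b = b * a)
    (hfrob : ∀ y : G, y ∈ P → y ≠ 1 →
      Subgroup.centralizer ({y} : Set G) ⊓ Subgroup.normalizer (P : Set G) =
        Subgroup.centralizer (P : Set G))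
    (x : ↥(Subgroup.normalizer (P : Set G))) (ψ : ↥P →* ℂˣ) (hψ : ψ ≠ 1)
    (h : twist P x ψ = ψ) : (x : G) ∈ Subgroup.centralizer (P : Set G) := by
  by_contra hx
  have hcomm' : ∀ a b : ↥P, a * b = b * a := fun a b =>
    Subtype.ext (hcomm a a.2 b b.2)
  set φ : ↥P → ↥P := fun w => (x • w) * w⁻¹ with hφ
  have hφmul : ∀ a b : ↥P, φ (a * b) = φ a * φ b := by
    intro a b
    simp only [hφ]
    rw [smul_mul', mul_inv_rev]
    calc x • a * x • b * (b⁻¹ * a⁻¹) = x • a * (x • b * b⁻¹) * a⁻¹ := by group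
      _ = x • a * (a⁻¹ * (x • b * b⁻¹)) := by rw [mul_assoc, hcomm' (x • b * b⁻¹) a⁻¹]
      _ = x • a * a⁻¹ * (x • b * b⁻¹) := by group
  have hφ1 : ∀ a : ↥P, φ a = 1 → a = 1 := by
    intro a ha
    by_contra ha1
    apply hx
    have ha1' : (a : G) ≠ 1 := fun h0 => ha1 (Subtype.ext h0)
    rw [← hfrob (a : G) a.2 ha1']
    refine Subgroup.mem_inf.2 ⟨?_, x.2⟩
    rw [Subgroup.mem_centralizer_singleton_iff]
    have h2 : x • a = a := by
      have : (x • a) * a⁻¹ = 1 := ha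
      exact mul_inv_eq_one.1 this
    have h3 := congrArg (Subtype.val) h2
    rw [smul_coe] at h3
    calc (x : G) * (a : G) = (x : G) * (a : G) * (x : G)⁻¹ * (x : G) := by group
      _ = (a : G) * (x : G) := by rw [h3]
  have hinj : Function.Injective φ := by
    intro a b hab
    have h2 : φ (a * b⁻¹) = 1 := by
      rw [hφmul, hab, ← hφmul, mul_inv_cancel]
      simp only [hφ, smul_one, inv_one, mul_one]
    have := hφ1 _ h2
    exact mul_inv_eq_one.1 this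
  have hsurj : Function.Surjective φ := Finite.injective_iff_surjective.1 hinj
  apply hψ
  ext w
  obtain ⟨v, rfl⟩ := hsurj w
  simp only [hφ]
  rw [map_mul, ← twist_apply, h, map_inv, mul_inv_cancel]
  rfl

open scoped Classical in
/-- Counting the elements carrying `ψ'` to `ψ`. -/
theorem card_twist_eq (P : Subgroup G)
    (hcomm : ∀ a ∈ P, ∀ b ∈ P, a * b = b * a)
    (hfrob : ∀ y : G, y ∈ P → y ≠ 1 →
      Subgroup.centralizer ({y} : Set G) ⊓ Subgroup.normalizer (P : Set G) =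
        Subgroup.centralizer (P : Set G))
    (ψ ψ' : ↥P →* ℂˣ) (hψ' : ψ' ≠ 1) :
    Nat.card {x : ↥(Subgroup.normalizer (P : Set G)) // twist P x ψ' = ψ} =
      if Rel P ψ ψ' then Nat.card ↥(Subgroup.centralizer (P : Set G)) else 0 := by
  split_ifs with hR
  · obtain ⟨x₀, hx₀⟩ := (rel_iff P ψ ψ').1 hR
    have hCN : Subgroup.centralizer (P : Set G) ≤ Subgroup.normalizer (P : Set G) :=
      Subgroup.centralizer_le_normalizer _
    refine Nat.card_congr
      { toFun := fun x => ⟨(x.1 : G) * (x₀ : G)⁻¹, ?_⟩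
        invFun := fun c => ⟨⟨(c : G) * (x₀ : G), Subgroup.mul_mem _ (hCN c.2) x₀.2⟩, ?_⟩
        left_inv := fun x => by
          apply Subtype.ext; apply Subtype.ext
          simp
        right_inv := fun c => by
          apply Subtype.ext
          simp }
    · have h1 : twist P (x.1 * x₀⁻¹) ψ' = ψ' := by
        rw [← twist_twist, x.2, ← hx₀, twist_twist, mul_inv_cancel, twist_one]
      exact mem_centralizer_of_twist_eq P hcomm hfrob (x.1 * x₀⁻¹) ψ' hψ' h1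
    · have h1 : (⟨(c : G) * (x₀ : G), Subgroup.mul_mem _ (hCN c.2) x₀.2⟩ :
          ↥(Subgroup.normalizer (P : Set G))) = ⟨(c : G), hCN c.2⟩ * x₀ := rfl
      rw [h1, ← twist_twist, twist_of_mem_centralizer P ⟨(c : G), hCN c.2⟩ c.2, hx₀]
  · rw [Nat.card_eq_zero]
    left
    constructor
    rintro ⟨x, hx⟩
    exact hR ((rel_iff P ψ ψ').2 ⟨x, hx⟩)

end Cfsg.Agent.Lib.H23.AbSyl
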