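import Mathlib

namespace Cfsg.Agent.Lib.H23.LatK

open Finset
open scoped Classical

set_option linter.unusedSectionVars false

variable {H : Type*} [CommGroup H] [Fintype H]

/-- The generalized character of `H` with integer coefficient function `f` on the dual group. -/
noncomputable def gch [Fintype (H →* ℂˣ)] (f : (H →* ℂˣ) → ℤ) (h : H) : ℂ :=
  ∑ l : H →* ℂˣ, (f l : ℂ) * ((l h : ℂˣ) : ℂ)

/-- weighted square norm -/
noncomputable def Fw (w : H → ℝ) (x : H → ℂ) : ℝ := ∑ h, w h * Complex.normSq (x h)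

theorem char_pow_card (l : H →* ℂˣ) (h : H) : ((l h : ℂˣ) : ℂ) ^ (Fintype.card H) = 1 := by
  rw [← Units.val_pow_eq_pow_val, ← map_pow, pow_card_eq_one, map_one, Units.val_one]

theorem norm_char (l : H →* ℂˣ) (h : H) : ‖((l h : ℂˣ) : ℂ)‖ = 1 :=
  Complex.norm_eq_one_of_pow_eq_one (char_pow_card l h) Fintype.card_ne_zero

theorem normSq_char (l : H →* ℂˣ) (h : H) : Complex.normSq ((l h : ℂˣ) : ℂ) = 1 := by
  rw [Complex.normSq_eq_norm_sq, norm_char, one_pow]

theorem conj_char (l : H →* ℂˣ) (h : H) :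
    (starRingEnd ℂ) ((l h : ℂˣ) : ℂ) = ((l⁻¹ h : ℂˣ) : ℂ) := by
  rw [← Complex.inv_eq_conj (norm_char l h)]
  simp

theorem sum_char_eq_zero {l : H →* ℂˣ} (hl : l ≠ 1) : ∑ h : H, ((l h : ℂˣ) : ℂ) = 0 := by
  have := sum_hom_units_eq_zero ((Units.coeHom ℂ).comp l) (by
    intro h0
    apply hl
    ext h
    have := DFunLike.congr_fun h0 h
    simpa using this)
  simpa using this

theorem sum_char_mul_conj (l l' : H →* ℂˣ) :
    ∑ h : H, ((l h : ℂˣ) : ℂ) * (starRingEnd ℂ) ((l' h : ℂˣ) : ℂ) =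
      if l = l' then (Fintype.card H : ℂ) else 0 := by
  have h1 : ∀ h : H, ((l h : ℂˣ) : ℂ) * (starRingEnd ℂ) ((l' h : ℂˣ) : ℂ)
      = (((l * l'⁻¹) h : ℂˣ) : ℂ) := by
    intro h
    rw [conj_char]
    simp
  simp_rw [h1]
  split_ifs with hll
  · subst hll
    simp
  · apply sum_char_eq_zero
    intro h0
    apply hll
    exact mul_inv_eq_one.mp h0

variable [Fintype (H →* ℂˣ)]

theorem parseval (f : (H →* ℂˣ) → ℤ) :
    ∑ h : H, Complex.normSq (gch f h) = (Fintype.card H : ℝ) * ∑ l, ((f l : ℤ) : ℝ) ^ 2 := by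
  classical
  apply Complex.ofReal_injective
  push_cast
  simp_rw [← Complex.mul_conj, gch, map_sum, Finset.sum_mul, Finset.mul_sum]
  rw [Finset.sum_comm]
  apply Finset.sum_congr rfl
  intro l _
  rw [Finset.sum_comm]
  have : ∀ l' : H →* ℂˣ, ∑ h : H, ((f l : ℂ) * ((l h : ℂˣ) : ℂ)) *
      (starRingEnd ℂ) ((f l' : ℂ) * ((l' h : ℂˣ) : ℂ)) =
      (f l : ℂ) * (f l' : ℂ) * (if l = l' then (Fintype.card H : ℂ) else 0) := by
    intro l'
    rw [← sum_char_mul_conj, Finset.mul_sum]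
    apply Finset.sum_congr rfl
    intro h _
    rw [map_mul, map_intCast]
    ring
  simp_rw [this]
  simp [Finset.sum_ite_eq]
  ring

theorem base_ineq (f : (H →* ℂˣ) → ℤ) [DecidablePred fun l => f l ≠ 0] :
    (Fintype.card H : ℝ) * ((Finset.univ.filter (fun l => f l ≠ 0)).card : ℝ)
      ≤ ∑ h : H, Complex.normSq (gch f h) := by
  rw [parseval]
  apply mul_le_mul_of_nonneg_left _ (Nat.cast_nonneg _)
  rw [Finset.card_filter]
  push_cast
  apply Finset.sum_le_sum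
  intro l _
  split_ifs with h
  · have : (1 : ℤ) ≤ (f l) ^ 2 := by
      have := sq_nonneg (f l)
      have h2 : (f l) ^ 2 ≠ 0 := pow_ne_zero 2 h
      omega
    exact_mod_cast this
  · positivity


/-- twisting the coefficient function by a translation multiplies the generalized character
by the inverse character. -/
theorem gch_twist (f : (H →* ℂˣ) → ℤ) (τ : H →* ℂˣ) (h : H) :
    gch (fun l => f (τ * l)) h = ((τ⁻¹ h : ℂˣ) : ℂ) * gch f h := by
  unfold gch
  rw [Finset.mul_sum]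
  apply Fintype.sum_equiv (Equiv.mulLeft τ)
  intro l
  simp only [Equiv.coe_mulLeft, MonoidHom.mul_apply, MonoidHom.inv_apply, Units.val_mul]
  have : ((τ h : ℂˣ) : ℂ) ≠ 0 := Units.ne_zero _
  field_simp
  simp

theorem gch_sub_twist (f : (H →* ℂˣ) → ℤ) (τ : H →* ℂˣ) (h : H) :
    gch (fun l => f l - f (τ * l)) h = (1 - ((τ⁻¹ h : ℂˣ) : ℂ)) * gch f h := by
  rw [sub_mul, one_mul, ← gch_twist]
  unfold gch
  rw [← Finset.sum_sub_distrib]
  apply Finset.sum_congr rfl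
  intro l _
  push_cast
  ring

theorem normSq_one_sub_char (l : H →* ℂˣ) (h : H) :
    Complex.normSq (1 - ((l h : ℂˣ) : ℂ)) = 2 - 2 * (((l h : ℂˣ) : ℂ)).re := by
  rw [Complex.normSq_sub, normSq_char]
  simp
  ring

/-- sum over a subgroup `L` of the dual group of `|1 - τ⁻¹(h)|²`. -/
theorem sum_normSq_one_sub (L : Subgroup (H →* ℂˣ)) [Fintype L] (h : H) :
    ∑ τ : L, Complex.normSq (1 - ((((τ : H →* ℂˣ)⁻¹) h : ℂˣ) : ℂ)) =
      if (∀ τ ∈ L, τ h = 1) then 0 else 2 * (Fintype.card L : ℝ) := by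
  split_ifs with htriv
  · apply Finset.sum_eq_zero
    intro τ _
    have : (τ : H →* ℂˣ) h = 1 := htriv τ τ.2
    simp [this]
  · simp_rw [normSq_one_sub_char]
    rw [Finset.sum_sub_distrib, ← Finset.mul_sum]
    simp only [Finset.sum_const, Finset.card_univ, nsmul_eq_mul]
    have key : ∑ τ : L, ((((τ : H →* ℂˣ)⁻¹) h : ℂˣ) : ℂ) = 0 := by
      let ev : L →* ℂ := (Units.coeHom ℂ).comp ((MonoidHom.eval h).comp L.subtype)
      have hev : ev ≠ 1 := by
        intro h0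
        apply htriv
        intro τ hτ
        have := DFunLike.congr_fun h0 ⟨τ, hτ⟩
        simpa [ev] using this
      have h1 := sum_hom_units_eq_zero ev hev
      rw [← h1]
      apply Fintype.sum_equiv (Equiv.inv L)
      intro τ
      simp [ev]
    have key2 : ∑ τ : L, (((((τ : H →* ℂˣ)⁻¹) h : ℂˣ) : ℂ)).re = 0 := by
      rw [← Complex.re_sum, key]
      simp
    rw [key2]
    ring


/-! ### combinatorics on the dual group -/

/-- saturation of the support of `f` under a subgroup `B` of the dual group -/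
noncomputable def sat (B : Subgroup (H →* ℂˣ)) (f : (H →* ℂˣ) → ℤ) : Finset (H →* ℂˣ) :=
  Finset.univ.filter (fun l => ∃ β ∈ B, f (β * l) ≠ 0)

theorem mem_sat {B : Subgroup (H →* ℂˣ)} {f : (H →* ℂˣ) → ℤ} {l : H →* ℂˣ} :
    l ∈ sat B f ↔ ∃ β ∈ B, f (β * l) ≠ 0 := by simp [sat]

noncomputable def shiftIn (X : Finset (H →* ℂˣ)) (τ : H →* ℂˣ) : Finset (H →* ℂˣ) :=
  Finset.univ.filter (fun l => τ * l ∈ X ∧ l ∉ X)

noncomputable def shiftOut (X : Finset (H →* ℂˣ)) (τ : H →* ℂˣ) : Finset (H →* ℂˣ) :=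
  Finset.univ.filter (fun l => l ∈ X ∧ τ * l ∉ X)

theorem mem_shiftIn {X : Finset (H →* ℂˣ)} {τ l : H →* ℂˣ} :
    l ∈ shiftIn X τ ↔ τ * l ∈ X ∧ l ∉ X := by simp [shiftIn]

theorem mem_shiftOut {X : Finset (H →* ℂˣ)} {τ l : H →* ℂˣ} :
    l ∈ shiftOut X τ ↔ l ∈ X ∧ τ * l ∉ X := by simp [shiftOut]

theorem card_shiftOut (X : Finset (H →* ℂˣ)) (τ : H →* ℂˣ) :
    (shiftOut X τ).card = (shiftIn X τ⁻¹).card := by
  apply Finset.card_equiv (Equiv.mulLeft τ)
  intro l
  have e : τ⁻¹ * (τ * l) = l := inv_mul_cancel_left τ l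
  simp only [mem_shiftIn, mem_shiftOut, Equiv.coe_mulLeft, e]

theorem sum_card_shiftOut (X : Finset (H →* ℂˣ)) (L : Subgroup (H →* ℂˣ)) [Fintype L] :
    ∑ τ : L, (shiftOut X (τ : H →* ℂˣ)).card = ∑ τ : L, (shiftIn X (τ : H →* ℂˣ)).card := by
  simp_rw [card_shiftOut]
  apply Fintype.sum_equiv (Equiv.inv L)
  intro τ
  simp

theorem card_sat_sup_le (L B : Subgroup (H →* ℂˣ)) [Fintype L] (f : (H →* ℂˣ) → ℤ) :
    (sat (L ⊔ B) f).card ≤ (sat B f).card + ∑ τ : L, (shiftIn (sat B f) (τ : H →* ℂˣ)).card := by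
  have hsub : sat (L ⊔ B) f ⊆ sat B f ∪
      Finset.univ.biUnion (fun τ : L => shiftIn (sat B f) (τ : H →* ℂˣ)) := by
    intro l hl
    rw [mem_sat] at hl
    obtain ⟨β, hβ, hne⟩ := hl
    obtain ⟨τ, hτ, β', hβ', rfl⟩ := Subgroup.mem_sup.mp hβ
    by_cases hlX : l ∈ sat B f
    · exact Finset.mem_union_left _ hlX
    · apply Finset.mem_union_right
      rw [Finset.mem_biUnion]
      refine ⟨⟨τ, hτ⟩, Finset.mem_univ _, ?_⟩
      rw [mem_shiftIn]
      refine ⟨?_, hlX⟩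
      rw [mem_sat]
      refine ⟨β', hβ', ?_⟩
      have : β' * (τ * l) = τ * β' * l := by
        rw [mul_assoc τ β' l]; exact mul_left_comm β' τ l
      rw [this]
      exact hne
  calc (sat (L ⊔ B) f).card ≤ _ := Finset.card_le_card hsub
    _ ≤ (sat B f).card + (Finset.univ.biUnion
          (fun τ : L => shiftIn (sat B f) (τ : H →* ℂˣ))).card := Finset.card_union_le _ _
    _ ≤ _ := Nat.add_le_add_left Finset.card_biUnion_le _

theorem card_shift_le (B : Subgroup (H →* ℂˣ)) (f : (H →* ℂˣ) → ℤ) (τ : H →* ℂˣ) :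
    (shiftIn (sat B f) τ).card + (shiftOut (sat B f) τ).card ≤
      (sat B (fun l => f l - f (τ * l))).card := by
  rw [← Finset.card_union_of_disjoint]
  · apply Finset.card_le_card
    intro l hl
    rw [Finset.mem_union] at hl
    rw [mem_sat]
    rcases hl with hl | hl
    · rw [mem_shiftIn, mem_sat] at hl
      obtain ⟨⟨β, hβ, hne⟩, hlX⟩ := hl
      refine ⟨β, hβ, ?_⟩
      have h0 : f (β * l) = 0 := by
        by_contra h0
        exact hlX (mem_sat.mpr ⟨β, hβ, h0⟩)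
      have : τ * (β * l) = β * (τ * l) := mul_left_comm τ β l
      rw [h0, this, zero_sub, neg_ne_zero]
      exact hne
    · rw [mem_shiftOut, mem_sat] at hl
      obtain ⟨⟨β, hβ, hne⟩, hlX⟩ := hl
      refine ⟨β, hβ, ?_⟩
      have h0 : f (β * (τ * l)) = 0 := by
        by_contra h0
        exact hlX (mem_sat.mpr ⟨β, hβ, h0⟩)
      have : τ * (β * l) = β * (τ * l) := mul_left_comm τ β l
      rw [this, h0, sub_zero]
      exact hne
  · rw [Finset.disjoint_left]
    intro l h1 h2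
    rw [mem_shiftIn] at h1
    rw [mem_shiftOut] at h2
    exact h1.2 h2.1


/-! ### the weights and the induction -/

/-- the weight attached to a finite family of subgroups `L j` of the dual group -/
noncomputable def wt {J : Type*} (L : J → Subgroup (H →* ℂˣ)) (m : J → ℝ) (s : Finset J)
    (h : H) : ℝ :=
  ∏ j ∈ s, if (∀ τ ∈ L j, τ h = 1) then 1 else m j

theorem wt_nonneg {J : Type*} (L : J → Subgroup (H →* ℂˣ)) (m : J → ℝ) (hm : ∀ j, 0 ≤ m j)
    (s : Finset J) (h : H) : 0 ≤ wt L m s h := by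
  unfold wt
  apply Finset.prod_nonneg
  intro j _
  split_ifs
  · exact zero_le_one
  · exact hm j

theorem Fw_step {J : Type*} (L : J → Subgroup (H →* ℂˣ)) (m : J → ℝ)
    (hm : ∀ j, (Nat.card (L j) : ℝ) + 1 ≤ m j) (s : Finset J) (t : J) (ht : t ∉ s)
    [Fintype (L t)] (f : (H →* ℂˣ) → ℤ) :
    Fw (wt L m s) (gch f) + (1 / 2) * ∑ τ : L t,
        Fw (wt L m s) (gch (fun l => f l - f ((τ : H →* ℂˣ) * l)))
      ≤ Fw (wt L m (insert t s)) (gch f) := by
  have hm0 : ∀ j, 0 ≤ m j := fun j => le_trans (by positivity) (hm j)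
  unfold Fw
  rw [Finset.sum_comm, Finset.mul_sum, ← Finset.sum_add_distrib]
  apply Finset.sum_le_sum
  intro h _
  have h1 : ∀ τ : L t, wt L m s h * Complex.normSq (gch (fun l => f l - f ((τ : H →* ℂˣ) * l)) h)
      = wt L m s h * Complex.normSq (gch f h) *
        Complex.normSq (1 - ((((τ : H →* ℂˣ)⁻¹) h : ℂˣ) : ℂ)) := by
    intro τ
    rw [gch_sub_twist, Complex.normSq_mul]
    ring
  simp_rw [h1]
  rw [← Finset.mul_sum, sum_normSq_one_sub]
  have hw : wt L m (insert t s) h = (if (∀ τ ∈ L t, τ h = 1) then 1 else m t) * wt L m s h := by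
    unfold wt
    rw [Finset.prod_insert ht]
  rw [hw]
  have hN : 0 ≤ wt L m s h * Complex.normSq (gch f h) :=
    mul_nonneg (wt_nonneg L m hm0 s h) (Complex.normSq_nonneg _)
  have hcard : (Nat.card (L t) : ℝ) = (Fintype.card (L t) : ℝ) := by
    rw [Nat.card_eq_fintype_card]
  split_ifs with htriv
  · simp
  · have := hm t
    rw [hcard] at this
    nlinarith

theorem core {J : Type*} (L : J → Subgroup (H →* ℂˣ)) (m : J → ℝ)
    (hm : ∀ j, (Nat.card (L j) : ℝ) + 1 ≤ m j) (s : Finset J) :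
    ∀ f : (H →* ℂˣ) → ℤ,
      (Fintype.card H : ℝ) * ((sat (s.sup L) f).card : ℝ) ≤ Fw (wt L m s) (gch f) := by
  induction s using Finset.induction_on with
  | empty =>
    intro f
    have h1 : sat (Finset.sup ∅ L) f = Finset.univ.filter (fun l => f l ≠ 0) := by
      ext l
      rw [mem_sat, Finset.sup_empty]
      have e : (1 : H →* ℂˣ) * l = l := one_mul l
      simp only [Subgroup.mem_bot, exists_eq_left, Finset.mem_filter, Finset.mem_univ,
        true_and, e]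
    rw [h1]
    have h2 : Fw (wt L m ∅) (gch f) = ∑ h : H, Complex.normSq (gch f h) := by
      unfold Fw wt
      simp
    rw [h2]
    exact base_ineq f
  | insert t s ht ih =>
    intro f
    let _ : Fintype (L t) := Fintype.ofFinite _
    rw [Finset.sup_insert]
    refine le_trans ?_ (Fw_step L m hm s t ht f)
    have h1 := ih f
    have h2 : ∀ τ : L t, (Fintype.card H : ℝ) *
        (((shiftIn (sat (s.sup L) f) (τ : H →* ℂˣ)).card : ℝ) +
          ((shiftOut (sat (s.sup L) f) (τ : H →* ℂˣ)).card : ℝ)) ≤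
        Fw (wt L m s) (gch (fun l => f l - f ((τ : H →* ℂˣ) * l))) := by
      intro τ
      refine le_trans ?_ (ih _)
      apply mul_le_mul_of_nonneg_left _ (Nat.cast_nonneg _)
      exact_mod_cast card_shift_le (s.sup L) f τ
    have h3 := Finset.sum_le_sum (fun τ (_ : τ ∈ (Finset.univ : Finset (L t))) => h2 τ)
    rw [← Finset.mul_sum, Finset.sum_add_distrib] at h3
    have h4 : (∑ τ : L t, ((shiftOut (sat (s.sup L) f) (τ : H →* ℂˣ)).card : ℝ)) =
        ∑ τ : L t, ((shiftIn (sat (s.sup L) f) (τ : H →* ℂˣ)).card : ℝ) := by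
      exact_mod_cast sum_card_shiftOut (sat (s.sup L) f) (L t)
    rw [h4] at h3
    have h5 : ((sat (L t ⊔ s.sup L) f).card : ℝ) ≤ ((sat (s.sup L) f).card : ℝ) +
        ∑ τ : L t, ((shiftIn (sat (s.sup L) f) (τ : H →* ℂˣ)).card : ℝ) := by
      exact_mod_cast card_sat_sup_le (L t) (s.sup L) f
    have hH : (0 : ℝ) ≤ (Fintype.card H : ℝ) := Nat.cast_nonneg _
    have h6 := mul_le_mul_of_nonneg_left h5 hH
    linarith


/-! ### user-facing forms -/

theorem sat_top_of_ne_zero {f : (H →* ℂˣ) → ℤ} (hf : f ≠ 0) :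
    sat (⊤ : Subgroup (H →* ℂˣ)) f = Finset.univ := by
  obtain ⟨l0, hl0⟩ : ∃ l0, f l0 ≠ 0 := by
    by_contra hcon
    push Not at hcon
    exact hf (funext hcon)
  ext l
  simp only [mem_sat, Subgroup.mem_top, true_and, Finset.mem_univ, iff_true]
  refine ⟨l0 * l⁻¹, ?_⟩
  have e : l0 * l⁻¹ * l = l0 := inv_mul_cancel_right l0 l
  rw [e]
  exact hl0

/-- dual-side form: subgroups `L j` of the dual group generating it. -/
theorem lattice_dual {J : Type*} [Fintype J] (L : J → Subgroup (H →* ℂˣ)) (m : J → ℝ)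
    (hm : ∀ j, (Nat.card (L j) : ℝ) + 1 ≤ m j) (hL : (⨆ j, L j) = ⊤)
    (f : (H →* ℂˣ) → ℤ) (hf : f ≠ 0) :
    (Fintype.card H : ℝ) ^ 2 ≤ Fw (wt L m Finset.univ) (gch f) := by
  have h1 := core L m hm Finset.univ f
  rw [Finset.sup_univ_eq_iSup, hL, sat_top_of_ne_zero hf, Finset.card_univ] at h1
  have h2 : Fintype.card (H →* ℂˣ) = Fintype.card H := by
    have := CommGroup.card_monoidHom_of_hasEnoughRootsOfUnity H ℂ
    rwa [Nat.card_eq_fintype_card, Nat.card_eq_fintype_card] at this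
  rw [h2] at h1
  rw [sq]
  exact h1

/-- **Lattice lemma**: `H` finite abelian, `C j` subgroups with trivial intersection, weights
`m j ≥ |H : C j| + 1`, `μ(h) = ∏_{j : h ∉ C j} m j`. Then `∑_h μ(h) |α(h)|² ≥ |H|²` for every
non-zero generalized character `α = ∑ f(λ) λ` of `H`. -/
theorem lattice_lemma {J : Type*} [Fintype J] (C : J → Subgroup H) (m : J → ℝ)
    (hm : ∀ j, ((C j).index : ℝ) + 1 ≤ m j) (hC : (⨅ j, C j) = ⊥)
    (f : (H →* ℂˣ) → ℤ) (hf : f ≠ 0) :
    (Fintype.card H : ℝ) ^ 2 ≤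
      ∑ h : H, (∏ j, if h ∈ C j then 1 else m j) *
        Complex.normSq (∑ l : H →* ℂˣ, (f l : ℂ) * ((l h : ℂˣ) : ℂ)) := by
  let Φ := CommGroup.subgroupOrderIsoSubgroupMonoidHom H ℂ
  let L : J → Subgroup (H →* ℂˣ) := fun j => (Φ (C j)).ofDual
  have hmem : ∀ j (φ : H →* ℂˣ), φ ∈ L j ↔ ∀ g ∈ C j, φ g = 1 := fun j φ =>
    CommGroup.mem_subgroupOrderIsoSubgroupMonoidHom_iff ℂ (C j) φ
  have htriv : ∀ j (h : H), (∀ τ ∈ L j, τ h = 1) ↔ h ∈ C j := by
    intro j h
    rw [← CommGroup.forall_monoidHom_apply_eq_one_iff ℂ (C j) h]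
    constructor
    · intro hh φ hφ
      exact hh φ ((hmem j φ).mpr hφ)
    · intro hh φ hφ
      exact hh φ ((hmem j φ).mp hφ)
  have hcard : ∀ j, Nat.card (L j) = (C j).index := by
    intro j
    rw [Subgroup.index_eq_card]
    exact CommGroup.card_subgroupOrderIsoSubgroupMonoidHom ℂ (C j)
  have hsup : (⨆ j, L j) = ⊤ := by
    have h1 : Φ (⨅ j, C j) = ⨅ j, Φ (C j) := Φ.map_iInf C
    rw [hC, Φ.map_bot] at h1
    have h2 := congrArg OrderDual.ofDual h1
    rw [ofDual_iInf] at h2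
    exact h2.symm
  have key := lattice_dual L m (fun j => by rw [hcard j]; exact hm j) hsup f hf
  refine le_trans key (le_of_eq ?_)
  unfold Fw wt gch
  apply Finset.sum_congr rfl
  intro h _
  congr 1
  apply Finset.prod_congr rfl
  intro j _
  simp only [htriv j h]


/-! ### function form (Fourier inversion) -/

theorem sum_dual_eq_zero {g : H} (hg : g ≠ 1) : ∑ l : H →* ℂˣ, ((l g : ℂˣ) : ℂ) = 0 := by
  obtain ⟨l0, hl0⟩ := CommGroup.exists_apply_ne_one_of_hasEnoughRootsOfUnity H ℂ hg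
  have h1 : ∑ l : H →* ℂˣ, ((l g : ℂˣ) : ℂ) =
      ((l0 g : ℂˣ) : ℂ) * ∑ l : H →* ℂˣ, ((l g : ℂˣ) : ℂ) := by
    rw [Finset.mul_sum]
    apply Fintype.sum_equiv (Equiv.mulLeft l0⁻¹)
    intro l
    simp only [Equiv.coe_mulLeft, MonoidHom.mul_apply, MonoidHom.inv_apply, Units.val_mul]
    have : ((l0 g : ℂˣ) : ℂ) ≠ 0 := Units.ne_zero _
    field_simp
    simp
  have h2 : ((l0 g : ℂˣ) : ℂ) ≠ 1 := by
    intro h
    apply hl0
    exact Units.ext h
  have h3 : (((l0 g : ℂˣ) : ℂ) - 1) * ∑ l : H →* ℂˣ, ((l g : ℂˣ) : ℂ) = 0 := by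
    rw [sub_mul, one_mul, ← h1, sub_self]
  rcases mul_eq_zero.mp h3 with h | h
  · exact absurd (sub_eq_zero.mp h) h2
  · exact h

theorem sum_dual_mul_conj (h h' : H) :
    ∑ l : H →* ℂˣ, ((l h' : ℂˣ) : ℂ) * (starRingEnd ℂ) ((l h : ℂˣ) : ℂ) =
      if h = h' then (Fintype.card H : ℂ) else 0 := by
  have h1 : ∀ l : H →* ℂˣ, ((l h' : ℂˣ) : ℂ) * (starRingEnd ℂ) ((l h : ℂˣ) : ℂ)
      = ((l (h' * h⁻¹) : ℂˣ) : ℂ) := by
    intro l
    rw [conj_char]
    simp
  simp_rw [h1]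
  split_ifs with hh
  · subst hh
    simp only [mul_inv_cancel, map_one, Units.val_one, Finset.sum_const, Finset.card_univ,
      nsmul_eq_mul, mul_one]
    have := CommGroup.card_monoidHom_of_hasEnoughRootsOfUnity H ℂ
    rw [Nat.card_eq_fintype_card, Nat.card_eq_fintype_card] at this
    rw [this]
  · apply sum_dual_eq_zero
    intro h0
    apply hh
    exact (mul_inv_eq_one.mp h0).symm

theorem fourier_inversion (x : H → ℂ) (f : (H →* ℂˣ) → ℤ)
    (hf : ∀ l : H →* ℂˣ, ∑ h, x h * (starRingEnd ℂ) ((l h : ℂˣ) : ℂ) =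
      (Fintype.card H : ℂ) * (f l : ℂ)) : x = gch f := by
  funext h'
  have hH : (Fintype.card H : ℂ) ≠ 0 := Nat.cast_ne_zero.mpr Fintype.card_ne_zero
  apply mul_left_cancel₀ hH
  unfold gch
  rw [Finset.mul_sum]
  have h1 : ∀ l : H →* ℂˣ, (Fintype.card H : ℂ) * ((f l : ℂ) * ((l h' : ℂˣ) : ℂ)) =
      ∑ h, x h * (((l h' : ℂˣ) : ℂ) * (starRingEnd ℂ) ((l h : ℂˣ) : ℂ)) := by
    intro l
    rw [← mul_assoc, ← hf l, Finset.sum_mul]
    apply Finset.sum_congr rfl
    intro h _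
    ring
  simp_rw [h1]
  rw [Finset.sum_comm]
  simp_rw [← Finset.mul_sum, sum_dual_mul_conj]
  simp [Finset.sum_ite_eq']
  ring


omit [Fintype (H →* ℂˣ)] in
/-- **Lattice lemma, function form**: `x : H → ℂ` non-zero whose Fourier coefficients
`(1/|H|) ∑_h x(h) conj λ(h)` are integers for all linear characters `λ`. -/
theorem lattice_lemma_fun {J : Type*} [Fintype J]
    (C : J → Subgroup H) [∀ j, DecidablePred (· ∈ C j)] (m : J → ℝ)
    (hm : ∀ j, ((C j).index : ℝ) + 1 ≤ m j) (hC : (⨅ j, C j) = ⊥)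
    (x : H → ℂ) (hx : x ≠ 0)
    (hint : ∀ l : H →* ℂˣ, ∃ n : ℤ, ∑ h, x h * (starRingEnd ℂ) ((l h : ℂˣ) : ℂ) =
      (Fintype.card H : ℂ) * (n : ℂ)) :
    (Fintype.card H : ℝ) ^ 2 ≤
      ∑ h : H, (∏ j, if h ∈ C j then 1 else m j) * Complex.normSq (x h) := by
  let _ : Fintype (H →* ℂˣ) := Fintype.ofFinite _
  choose f hf using hint
  have hxf : x = gch f := fourier_inversion x f hf
  have hf0 : f ≠ 0 := by
    intro h0
    apply hx
    rw [hxf, h0]
    funext h
    simp [gch]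
  have key := lattice_lemma C m hm hC f hf0
  refine le_trans key (le_of_eq ?_)
  apply Finset.sum_congr rfl
  intro h _
  rw [hxf]
  unfold gch
  congr 1
  apply Finset.prod_congr rfl
  intro j _
  congr

end Cfsg.Agent.Lib.H23.LatK
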