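import Cfsg.Agent.Lib.H23.ContribL

/-!
# Valuations of the contributions of a major subsection (helper23)

`b` a block of `H ≤ G` inducing `B`, of the same defect `d`.
* `ordCompl_mul_pow_mul_contrib`: `|G|_{p'} p^d contrib ψ χ = p^{h(χ)} χ(1)_{p'} ω_χ(secElt ψ)`;
* `contrib_ne_zero_of_height_zero`: `contrib ψ₀ χ ≠ 0` for `χ ∈ B` and `ψ₀ ∈ B` of height zero.
-/

set_option autoImplicit false

namespace Cfsg.Agent.Lib.H23.Contrib

open Cfsg MonoidAlgebra Cfsg.Agent.Lib.H23 Cfsg.Agent.Lib.H24 Cfsg.Agent.Lib.L0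
  Cfsg.Agent.Lib.L0.Tilde Cfsg.Agent.Lib.L0.BlockMinMax
open scoped ComplexConjugate

variable {G : Type*} [Group G] [Fintype G] {p : ℕ} [Fact p.Prime] {M : Ideal AlgInt}
  (H : Subgroup G) [Fintype H] [Fintype (IrrCharacter H)]

omit [Fact p.Prime] [Fintype (IrrCharacter ↥H)] in
theorem card_mul_contrib_eq (b : Set (IrrCharacter H)) (z : H) (ψ : G → ℂ) (χ : IrrCharacter G) :
    (Nat.card G : ℂ) * contrib p H b z ψ (χ : G → ℂ) =
      (χ : G → ℂ) 1 * omega (χ : G → ℂ) (secElt H b z p ψ) := by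
  have h0 : (χ : G → ℂ) 1 ≠ 0 := irr_one_ne_zero χ
  rw [omega, charEval_secElt, mul_div_cancel₀ _ h0]

/-- `|G|_{p'} p^d contrib ψ χ = p^{h(χ)} χ(1)_{p'} ω_χ(secElt ψ)`. -/
theorem ordCompl_mul_pow_mul_contrib (hM : IsPModular p M) (b : Set (IrrCharacter H)) (z : H)
    (χ₁ : IrrCharacter G) {χ : IrrCharacter G} (hχ : χ ∈ blockOf M (χ₁ : G → ℂ)) (ψ : G → ℂ) :
    ((Nat.card G / p ^ (Nat.card G).factorization p : ℕ) : ℂ) *
        ((p : ℂ) ^ blockDefect p (blockOf M (χ₁ : G → ℂ)) * contrib p H b z ψ (χ : G → ℂ)) =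
      (p : ℂ) ^ blockHeight p (blockOf M (χ₁ : G → ℂ)) (χ : G → ℂ) *
        ((charDegree (χ : G → ℂ) / p ^ (charDegree (χ : G → ℂ)).factorization p : ℕ) : ℂ) *
        omega (χ : G → ℂ) (secElt H b z p ψ) := by
  haveI hP := isPrime_of_isPModular hM
  have hp : p.Prime := Fact.out
  have hp0 : (p : ℂ) ≠ 0 := Nat.cast_ne_zero.2 hp.ne_zero
  have h1 := minDeg_eq_sub_blockDefect (p := p) (M := M) χ₁
  have h2 := minDeg_le_card (p := p) (M := M) χ₁
  have h3 := minDeg_le (p := p) χ₁ hχ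
  have hh : blockHeight p (blockOf M (χ₁ : G → ℂ)) (χ : G → ℂ) =
      (charDegree (χ : G → ℂ)).factorization p - minDeg p (blockOf M (χ₁ : G → ℂ)) := rfl
  have hd_le : blockDefect p (blockOf M (χ₁ : G → ℂ)) ≤ (Nat.card G).factorization p := by
    rw [blockDefect]; omega
  have hνeq : (charDegree (χ : G → ℂ)).factorization p =
      ((Nat.card G).factorization p - blockDefect p (blockOf M (χ₁ : G → ℂ))) +
        blockHeight p (blockOf M (χ₁ : G → ℂ)) (χ : G → ℂ) := by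
    rw [hh]; omega
  generalize blockHeight p (blockOf M (χ₁ : G → ℂ)) (χ : G → ℂ) = h at hνeq ⊢
  generalize blockDefect p (blockOf M (χ₁ : G → ℂ)) = d at hd_le hνeq ⊢
  have hG : (Nat.card G : ℂ) = (p : ℂ) ^ (Nat.card G).factorization p *
      ((Nat.card G / p ^ (Nat.card G).factorization p : ℕ) : ℂ) := by
    exact_mod_cast (Nat.ordProj_mul_ordCompl_eq_self (Nat.card G) p).symm
  have hdeg : (χ : G → ℂ) 1 = (p : ℂ) ^ (charDegree (χ : G → ℂ)).factorization p *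
      ((charDegree (χ : G → ℂ) / p ^ (charDegree (χ : G → ℂ)).factorization p : ℕ) : ℂ) := by
    rw [apply_one_eq_charDegree _ χ.2]
    exact_mod_cast (Nat.ordProj_mul_ordCompl_eq_self (charDegree (χ : G → ℂ)) p).symm
  have hkey := card_mul_contrib_eq (p := p) H b z ψ χ
  rw [hG, hdeg] at hkey
  have hpa : (p : ℂ) ^ (Nat.card G).factorization p =
      (p : ℂ) ^ ((Nat.card G).factorization p - d) * (p : ℂ) ^ d := by
    rw [← pow_add, Nat.sub_add_cancel hd_le]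
  have hpν : (p : ℂ) ^ (charDegree (χ : G → ℂ)).factorization p =
      (p : ℂ) ^ ((Nat.card G).factorization p - d) * (p : ℂ) ^ h := by
    rw [← pow_add, ← hνeq]
  rw [hpa, hpν] at hkey
  have hne : (p : ℂ) ^ ((Nat.card G).factorization p - d) ≠ 0 := pow_ne_zero _ hp0
  apply mul_left_cancel₀ hne
  linear_combination hkey

section

variable (ξ₁ : IrrCharacter H) [DecidablePred (· ∈ blockOf M (ξ₁ : H → ℂ))]
  [Fintype (IrrCharacter G)]

/-- `p^d contrib ψ₀ ψ₀` is a unit for `ψ₀` of height zero (major subsection). -/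
theorem pow_mul_contrib_self_not_mem (hM : IsPModular p M) {B : Set (IrrCharacter G)}
    (hind : IsInducedBlock M H (blockOf M (ξ₁ : H → ℂ)) B) {z : H}
    (hzc : z ∈ Subgroup.center H) (hz : ∃ k : ℕ, orderOf z = p ^ k) {ψ₀ : IrrCharacter G}
    (hψ₀ : ψ₀ ∈ B) (h0 : blockHeight p B (ψ₀ : G → ℂ) = 0) :
    ¬ MemLocalIdeal M ((p : ℂ) ^ blockDefect p (blockOf M (ξ₁ : H → ℂ)) *
      contrib p H (blockOf M (ξ₁ : H → ℂ)) z (ψ₀ : G → ℂ) (ψ₀ : G → ℂ)) := by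
  haveI hP := isPrime_of_isPModular hM
  intro hmem
  apply contribInt_not_memLocalIdeal H ξ₁ hM hind hψ₀ hψ₀ h0 h0
  have h1 := pow_mul_contrib_sub_contribInt H ξ₁ hM hzc hz ψ₀ ψ₀
  have := memLocalIdeal_sub hmem h1
  rwa [sub_sub_cancel] at this

/-- `ω_{ψ₀}(secElt ψ₀)` is a unit for `ψ₀` of height zero (major subsection). -/
theorem omega_secElt_self_not_mem (hM : IsPModular p M) {B : Set (IrrCharacter G)}
    (hind : IsInducedBlock M H (blockOf M (ξ₁ : H → ℂ)) B)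
    (hdef : blockDefect p (blockOf M (ξ₁ : H → ℂ)) = blockDefect p B) {z : H}
    (hzc : z ∈ Subgroup.center H) (hz : ∃ k : ℕ, orderOf z = p ^ k) {ψ₀ : IrrCharacter G}
    (hψ₀ : ψ₀ ∈ B) (h0 : blockHeight p B (ψ₀ : G → ℂ) = 0) :
    ¬ MemLocalIdeal M (omega (ψ₀ : G → ℂ)
      (secElt H (blockOf M (ξ₁ : H → ℂ)) z p (ψ₀ : G → ℂ))) := by
  haveI hP := isPrime_of_isPModular hM
  have hp : p.Prime := Fact.out
  obtain ⟨χ₁, hχ₁⟩ := hind.2.1
  subst hχ₁
  intro hmem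
  have hkey := ordCompl_mul_pow_mul_contrib H hM (blockOf M (ξ₁ : H → ℂ)) z χ₁ hψ₀ (ψ₀ : G → ℂ)
  rw [h0, pow_zero, one_mul, ← hdef] at hkey
  have hR : MemLocalIdeal M
      (((charDegree (ψ₀ : G → ℂ) / p ^ (charDegree (ψ₀ : G → ℂ)).factorization p : ℕ) : ℂ) *
        omega (ψ₀ : G → ℂ) (secElt H (blockOf M (ξ₁ : H → ℂ)) z p (ψ₀ : G → ℂ))) :=
    memLocalIdeal_mul_left (natCast_mem_localRing _) hmem
  rw [← hkey] at hR
  refine not_memLocalIdeal_mul (natCast_mem_localRing _) ?_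
    (pow_mul_contrib_self_not_mem H ξ₁ hM hind hzc hz hψ₀ h0) hR
  rw [natCast_memLocalIdeal_iff hM]
  exact Nat.not_dvd_ordCompl hp Nat.card_pos.ne'

/-- `ω_χ(secElt ψ₀)` is a unit for `χ ∈ B` and `ψ₀ ∈ B` of height zero (major subsection). -/
theorem omega_secElt_not_mem (hM : IsPModular p M) {B : Set (IrrCharacter G)}
    (hind : IsInducedBlock M H (blockOf M (ξ₁ : H → ℂ)) B)
    (hdef : blockDefect p (blockOf M (ξ₁ : H → ℂ)) = blockDefect p B) {z : H}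
    (hzc : z ∈ Subgroup.center H) (hz : ∃ k : ℕ, orderOf z = p ^ k) {ψ₀ χ : IrrCharacter G}
    (hψ₀ : ψ₀ ∈ B) (h0 : blockHeight p B (ψ₀ : G → ℂ) = 0) (hχ : χ ∈ B) :
    ¬ MemLocalIdeal M (omega (χ : G → ℂ)
      (secElt H (blockOf M (ξ₁ : H → ℂ)) z p (ψ₀ : G → ℂ))) := by
  haveI hP := isPrime_of_isPModular hM
  obtain ⟨χ₁, hχ₁⟩ := hind.2.1
  intro hmem
  apply omega_secElt_self_not_mem H ξ₁ hM hind hdef hzc hz hψ₀ h0
  have hsame : SameBlock M (ψ₀ : G → ℂ) (χ : G → ℂ) := by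
    rw [hχ₁] at hψ₀ hχ
    exact sameBlock_trans (sameBlock_symm hψ₀) hχ
  have h1 := omega_sub_memLocalIdeal hsame (secElt_mem_center H (blockOf M (ξ₁ : H → ℂ)) z (ψ₀ : G → ℂ))
    (secElt_mem_intCoeff (M := M) (p := p) H (blockOf M (ξ₁ : H → ℂ)) z hzc ψ₀)
  have := memLocalIdeal_add h1 hmem
  rwa [sub_add_cancel] at this

/-- The contribution of a major subsection between a height zero character and any character of
the block does not vanish. -/
theorem contrib_ne_zero_of_height_zero (hM : IsPModular p M) {B : Set (IrrCharacter G)}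
    (hind : IsInducedBlock M H (blockOf M (ξ₁ : H → ℂ)) B)
    (hdef : blockDefect p (blockOf M (ξ₁ : H → ℂ)) = blockDefect p B) {z : H}
    (hzc : z ∈ Subgroup.center H) (hz : ∃ k : ℕ, orderOf z = p ^ k) {ψ₀ χ : IrrCharacter G}
    (hψ₀ : ψ₀ ∈ B) (h0 : blockHeight p B (ψ₀ : G → ℂ) = 0) (hχ : χ ∈ B) :
    contrib p H (blockOf M (ξ₁ : H → ℂ)) z (ψ₀ : G → ℂ) (χ : G → ℂ) ≠ 0 := by
  haveI hP := isPrime_of_isPModular hM
  have hp : p.Prime := Fact.out
  have hp0 : (p : ℂ) ≠ 0 := Nat.cast_ne_zero.2 hp.ne_zero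
  have hω := omega_secElt_not_mem H ξ₁ hM hind hdef hzc hz hψ₀ h0 hχ
  obtain ⟨χ₁, hχ₁⟩ := hind.2.1
  subst hχ₁
  have hkey := ordCompl_mul_pow_mul_contrib H hM (blockOf M (ξ₁ : H → ℂ)) z χ₁ hχ (ψ₀ : G → ℂ)
  intro h
  rw [h, mul_zero, mul_zero] at hkey
  have hr : ((charDegree (χ : G → ℂ) / p ^ (charDegree (χ : G → ℂ)).factorization p : ℕ) : ℂ)
      ≠ 0 := by
    rw [Nat.cast_ne_zero]
    exact (Nat.ordCompl_pos p (charDegree_pos _ χ.2).ne').ne'
  have hω0 := ne_zero_of_not_memLocalIdeal hω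
  exact (mul_ne_zero (mul_ne_zero (pow_ne_zero _ hp0) hr) hω0) hkey.symm

end

end Cfsg.Agent.Lib.H23.Contrib
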