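import Cfsg.Agent.Lib.H23.ContribN
import Cfsg.Agent.Lib.H23.PPart2

/-!
# Orthogonality of the contributions of non-conjugate sections (helper23)

`sum_contrib_mul_conj_contrib_of_not_isConj`: for central `p`-elements `z ∈ H`, `z' ∈ H'` which are
not conjugate in `G`: `∑_ψ contrib_{H,b,z} χ ψ · conj (contrib_{H',b',z'} χ' ψ) = 0`.
-/

set_option autoImplicit false

namespace Cfsg.Agent.Lib.H23.Contrib

open Cfsg MonoidAlgebra Cfsg.Agent.Lib.H23 Cfsg.Agent.Lib.H24 Cfsg.Agent.Lib.L0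
open scoped ComplexConjugate

variable {G : Type*} [Group G] [Fintype G] {p : ℕ}
  [Fintype (IrrCharacter G)] (H H' : Subgroup G) [Fintype H] [Fintype H']

omit [Fintype G] [Fintype (IrrCharacter G)] [Fintype H] in
theorem isPPart_central_mul {z : H} (hzc : z ∈ Subgroup.center H)
    (hz : ∃ k : ℕ, orderOf z = p ^ k) {s : H} (hs : ¬ p ∣ orderOf s) :
    IsPPart p (((z * s : H)) : G) (z : G) := by
  have hzG : ∃ k : ℕ, orderOf (z : G) = p ^ k := by
    obtain ⟨k, hk⟩ := hz
    exact ⟨k, by rw [Subgroup.orderOf_coe, hk]⟩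
  have hcomm : Commute (z : G) (s : G) := by
    have := (Subgroup.mem_center_iff.1 hzc s)
    have h2 := congrArg (Subtype.val) this
    simp only [Subgroup.coe_mul] at h2
    exact h2.symm
  have hsG : ¬ p ∣ orderOf (s : G) := by rwa [Subgroup.orderOf_coe]
  have : ((z * s : H) : G) = (z : G) * (s : G) := rfl
  rw [this]
  exact isPPart_mul hcomm hzG hsG

theorem sum_contrib_mul_conj_contrib_of_not_isConj (hp : p.Prime)
    {z : H} (hzc : z ∈ Subgroup.center H) (hz : ∃ k : ℕ, orderOf z = p ^ k)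
    {z' : H'} (hzc' : z' ∈ Subgroup.center H') (hz' : ∃ k : ℕ, orderOf z' = p ^ k)
    (hnc : ¬ IsConj (z : G) (z' : G))
    (b : Set (IrrCharacter H)) (b' : Set (IrrCharacter H')) (χ χ' : G → ℂ) :
    ∑ ψ : IrrCharacter G, contrib p H b z χ (ψ : G → ℂ) *
      conj (contrib p H' b' z' χ' (ψ : G → ℂ)) = 0 := by
  classical
  have key : ∀ (s : H) (s' : H'), ¬ p ∣ orderOf s → ¬ p ∣ orderOf s' →
      ∑ ψ : IrrCharacter G, (ψ : G → ℂ) ((z' * s' : H') : G) *
        conj ((ψ : G → ℂ) ((z * s : H) : G)) = 0 := by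
    intro s s' hs hs'
    rw [second_orthogonality, if_neg]
    intro hc
    apply hnc
    obtain ⟨t, ht⟩ := isConj_iff.1 hc
    have h1 := IsPPart.conj (isPPart_central_mul H' hzc' hz' hs') t
    rw [ht] at h1
    have h2 := isPPart_central_mul H hzc hz hs
    have h3 := IsPPart.unique hp h1 h2
    rw [isConj_comm, isConj_iff]
    exact ⟨t, h3⟩
  set c : H → H' → ℂ := fun s s' => (Nat.card H : ℂ)⁻¹ * conj ((Nat.card H' : ℂ)⁻¹) *
    ((if p ∣ orderOf s then 0 else bpart H b χ (z * s)) *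
      conj (if p ∣ orderOf s' then 0 else bpart H' b' χ' (z' * s'))) with hc
  have h1 : ∀ ψ : IrrCharacter G, contrib p H b z χ (ψ : G → ℂ) *
      conj (contrib p H' b' z' χ' (ψ : G → ℂ)) =
      ∑ s : H, ∑ s' : H', c s s' * ((ψ : G → ℂ) ((z' * s' : H') : G) *
        conj ((ψ : G → ℂ) ((z * s : H) : G))) := by
    intro ψ
    unfold contrib
    rw [map_mul, map_sum, mul_mul_mul_comm, Finset.sum_mul_sum, Finset.mul_sum]
    refine Finset.sum_congr rfl fun s _ => ?_
    rw [Finset.mul_sum]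
    refine Finset.sum_congr rfl fun s' _ => ?_
    rw [hc]
    simp only
    split_ifs <;> simp <;> ring
  simp only [h1]
  rw [Finset.sum_comm]
  refine Finset.sum_eq_zero fun s _ => ?_
  rw [Finset.sum_comm]
  refine Finset.sum_eq_zero fun s' _ => ?_
  rw [← Finset.mul_sum]
  by_cases hs : p ∣ orderOf s
  · rw [hc]; simp [hs]
  · by_cases hs' : p ∣ orderOf s'
    · rw [hc]; simp [hs']
    · rw [key s s' hs hs', mul_zero]

end Cfsg.Agent.Lib.H23.Contrib
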