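import Cfsg.Agent.Lib.H23.ContribJ
import Cfsg.Agent.Lib.H23.ContribO

/-!
# The lower bound for the diagonal contributions of a major subsection (helper23)

`card_units_mul_pow_le_sum_contrib_self`: for a major subsection `(y, b)` of `B` and `χ ∈ B` of
height `h`: `φ(m) p^h ≤ ∑_k p^d m^{(y^k, b)}_{χχ}` (sum over the Galois conjugates).
-/

set_option autoImplicit false

namespace Cfsg.Agent.Lib.H23.Contrib

open Cfsg MonoidAlgebra Cfsg.Agent.Lib.H23 Cfsg.Agent.Lib.H24 Cfsg.Agent.Lib.L0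
open scoped ComplexConjugate

variable {G : Type*} [Group G] [Fintype G] {p : ℕ} [Fact p.Prime] {M : Ideal AlgInt}

omit [Fintype G] [Fact p.Prime] in
theorem pow_central_data (H : Subgroup G) {y : H} (hyc : y ∈ Subgroup.center H)
    (hy : ∃ k : ℕ, orderOf y = p ^ k) (hp : p.Prime)
    (hC : ∀ g : G, g * (y : G) * g⁻¹ = (y : G) → g ∈ H) {j : ℕ} (hj : j.Coprime (orderOf y)) :
    y ^ j ∈ Subgroup.center H ∧ (∃ k : ℕ, orderOf (y ^ j) = p ^ k) ∧
      ∀ g : G, g * ((y ^ j : H) : G) * g⁻¹ = ((y ^ j : H) : G) → g ∈ H := by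
  refine ⟨Subgroup.pow_mem _ hyc j, ?_, ?_⟩
  · obtain ⟨k, hk⟩ := hy
    have h1 : orderOf (y ^ j) ∣ p ^ k := by
      rw [← hk]
      exact orderOf_pow_dvd j
    obtain ⟨k', -, hk'⟩ := (Nat.dvd_prime_pow hp).1 h1
    exact ⟨k', hk'⟩
  · intro g hg
    apply hC
    obtain ⟨i, hi⟩ := exists_pow_eq_self_of_coprime hj
    have h1 : (y : G) = ((y ^ j : H) : G) ^ i := by
      rw [← Subgroup.coe_pow, hi]
    rw [h1]
    have h2 : g * ((y ^ j : H) : G) ^ i * g⁻¹ = (g * ((y ^ j : H) : G) * g⁻¹) ^ i := by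
      rw [conj_pow]
    rw [h2, hg]

/-- The sum over the Galois conjugates of the diagonal contribution of a major subsection. -/
theorem card_units_mul_pow_le_sum_contrib_self [Fintype (IrrCharacter G)] (hM : IsPModular p M)
    (H : Subgroup G) [Fintype H] [Fintype (IrrCharacter H)] (ξ₁ : IrrCharacter H)
    [DecidablePred (· ∈ blockOf M (ξ₁ : H → ℂ))] {B : Set (IrrCharacter G)}
    (hind : IsInducedBlock M H (blockOf M (ξ₁ : H → ℂ)) B)
    (hdef : blockDefect p (blockOf M (ξ₁ : H → ℂ)) = blockDefect p B) (y : H)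
    (hyc : y ∈ Subgroup.center H) (hy : ∃ k : ℕ, orderOf y = p ^ k)
    (hC : ∀ g : G, g * (y : G) * g⁻¹ = (y : G) → g ∈ H) {χ : IrrCharacter G}
    (hχ : χ ∈ B) (m : ℕ) [NeZero m] (hm : m = Nat.card G) :
    (Fintype.card (ZMod m)ˣ : ℝ) * (p : ℝ) ^ blockHeight p B (χ : G → ℂ) ≤
      ∑ k : (ZMod m)ˣ, (p : ℝ) ^ blockDefect p B * ∑ ψ : IrrCharacter G,
        ‖contrib p H (blockOf M (ξ₁ : H → ℂ)) (y ^ (k : ZMod m).val) (χ : G → ℂ) (ψ : G → ℂ)‖ ^ 2 := by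
  classical
  haveI hPr := isPrime_of_isPModular hM
  have hp : p.Prime := Fact.out
  have hp0 : (p : ℂ) ≠ 0 := Nat.cast_ne_zero.2 hp.ne_zero
  have hpR : (0 : ℝ) < p := by exact_mod_cast hp.pos
  set d := blockDefect p B with hd
  set h := blockHeight p B (χ : G → ℂ) with hh
  obtain ⟨χ₁, hχ₁⟩ := hind.2.1
  -- data for the powers of `y`
  have hord_dvd : orderOf y ∣ m := by
    rw [hm]
    exact (orderOf_dvd_natCard y).trans (Subgroup.card_subgroup_dvd_card H)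
  have hdata : ∀ σ : Gal(CyclotomicField m ℚ/ℚ),
      y ^ (cycPow m σ).val ∈ Subgroup.center H ∧
      (∃ k : ℕ, orderOf (y ^ (cycPow m σ).val) = p ^ k) ∧
      ∀ g : G, g * ((y ^ (cycPow m σ).val : H) : G) * g⁻¹ = ((y ^ (cycPow m σ).val : H) : G) →
        g ∈ H := by
    intro σ
    exact pow_central_data H hyc hy hp hC
      (Nat.Coprime.coprime_dvd_right hord_dvd (cycPow_val_coprime m σ))
  -- the real numbers `r σ`
  set r : Gal(CyclotomicField m ℚ/ℚ) → ℝ := fun σ => ∑ ψ : IrrCharacter G,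
    ‖contrib p H (blockOf M (ξ₁ : H → ℂ)) (y ^ (cycPow m σ).val) (χ : G → ℂ) (ψ : G → ℂ)‖ ^ 2
    with hr
  have hr0 : ∀ σ, 0 ≤ r σ := fun σ => Finset.sum_nonneg fun ψ _ => by positivity
  have hcr : ∀ σ, contrib p H (blockOf M (ξ₁ : H → ℂ)) (y ^ (cycPow m σ).val) (χ : G → ℂ)
      (χ : G → ℂ) = ((r σ : ℝ) : ℂ) := fun σ =>
    contrib_self_eq_sum H hM (hdata σ).1 (hdata σ).2.1 (hdata σ).2.2 ξ₁ χ
  obtain ⟨x, hx⟩ := exists_cyc_contrib (p := p) H (blockOf M (ξ₁ : H → ℂ)) y hyc χ χ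
    ((p ^ d : ℕ) : ℚ) m hm
  have hcast : (((p ^ d : ℕ) : ℚ) : ℂ) = (p : ℂ) ^ d := by push_cast; rfl
  simp only [hcast] at hx
  have hx' : ∀ σ, cycEmb m (σ x) = (((p : ℝ) ^ d * r σ : ℝ) : ℂ) := by
    intro σ
    rw [hx σ, hcr σ]
    push_cast
    rfl
  have hym : y ^ m = 1 := by
    rw [hm]
    obtain ⟨q, hq⟩ := Subgroup.card_subgroup_dvd_card H
    rw [hq, pow_mul, pow_card_eq_one', one_pow]
  have hk1 : (cycPow m (1 : Gal(CyclotomicField m ℚ/ℚ))) = 1 := by simp [cycPow]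
  have h1 : cycEmb m x = (p : ℂ) ^ d *
      contrib p H (blockOf M (ξ₁ : H → ℂ)) y (χ : G → ℂ) (χ : G → ℂ) := by
    have := hx 1
    rw [AlgEquiv.one_apply] at this
    rw [this, hk1, pow_val_one_eq m y hym]
  have hdb : blockDefect p (blockOf M (ξ₁ : H → ℂ)) = d := hdef
  have hint : IsIntegral ℤ (cycEmb m x) := by
    rw [h1, ← hdb]
    exact isIntegral_pow_mul_contrib H ξ₁ hM hyc χ χ
  -- non-vanishing
  obtain ⟨ψ₀, hψ₀B, hψ₀0⟩ := Cfsg.Agent.Lib.L0.BlockHeight.exists_height_zero (p := p) (M := M) χ₁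
  rw [← hχ₁] at hψ₀B hψ₀0
  have hne : cycEmb m x ≠ 0 := by
    rw [h1]
    refine mul_ne_zero (pow_ne_zero _ hp0) ?_
    have h2 := contrib_ne_zero_of_height_zero H ξ₁ hM hind hdef hyc hy hψ₀B hψ₀0 hχ
    have h3 := contrib_conj H (blockOf M (ξ₁ : H → ℂ)) y hM hyc ξ₁ rfl ψ₀ χ
    have h4 : contrib p H (blockOf M (ξ₁ : H → ℂ)) y (χ : G → ℂ) (ψ₀ : G → ℂ) ≠ 0 := by
      rw [← h3]
      exact (map_ne_zero _).2 h2
    have h5 := hcr 1
    rw [hk1, pow_val_one_eq m y hym] at h5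
    rw [h5]
    have h6 : 0 < r 1 := by
      rw [hr]
      simp only
      rw [hk1, pow_val_one_eq m y hym]
      refine lt_of_lt_of_le ?_ (Finset.single_le_sum (fun ψ _ => by positivity)
        (Finset.mem_univ ψ₀))
      have := norm_pos_iff.2 h4
      positivity
    exact_mod_cast h6.ne'
  obtain ⟨N, hN0, hN⟩ := exists_int_prod_galois m x hint hne
  set φ := Fintype.card Gal(CyclotomicField m ℚ/ℚ) with hφ
  -- divisibility of `N`
  set m' : ℕ := Nat.card G / p ^ (Nat.card G).factorization p with hm'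
  set rχ : ℕ := charDegree (χ : G → ℂ) / p ^ (charDegree (χ : G → ℂ)).factorization p with hrχ
  have hm'p : ¬ p ∣ m' := Nat.not_dvd_ordCompl hp Nat.card_pos.ne'
  have hfac : ∀ σ : Gal(CyclotomicField m ℚ/ℚ), ∃ w : ℂ, MemLocalRing M w ∧
      (m' : ℂ) * cycEmb m (σ x) = (p : ℂ) ^ h * w := by
    intro σ
    subst hχ₁
    have hkey := ordCompl_mul_pow_mul_contrib H hM (blockOf M (ξ₁ : H → ℂ))
      (y ^ (cycPow m σ).val) χ₁ hχ (χ : G → ℂ)
    refine ⟨(rχ : ℂ) * omega (χ : G → ℂ)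
      (secElt H (blockOf M (ξ₁ : H → ℂ)) (y ^ (cycPow m σ).val) p (χ : G → ℂ)), ?_, ?_⟩
    · exact memLocalRing_mul (natCast_mem_localRing _)
        (omega_memLocalRing χ (secElt_mem_center H _ _ _)
          (secElt_mem_intCoeff H _ _ (hdata σ).1 χ))
    · rw [hx σ, hkey]
      ring
  choose w hwR hw using hfac
  have hprod : ((m' ^ φ * N : ℤ) : ℂ) = (p : ℂ) ^ (h * φ) * ∏ σ : Gal(CyclotomicField m ℚ/ℚ), w σ := by
    have h2 : ∏ σ : Gal(CyclotomicField m ℚ/ℚ), ((m' : ℂ) * cycEmb m (σ x)) =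
        ∏ σ : Gal(CyclotomicField m ℚ/ℚ), ((p : ℂ) ^ h * w σ) :=
      Finset.prod_congr rfl fun σ _ => hw σ
    rw [Finset.prod_mul_distrib, Finset.prod_mul_distrib, Finset.prod_const, Finset.prod_const,
      Finset.card_univ, hN, ← hφ, ← pow_mul] at h2
    push_cast
    exact h2
  have hdvd : (p : ℤ) ^ (h * φ) ∣ m' ^ φ * N := by
    apply pow_dvd_of_intCast_div_mem hM
    rw [hprod, mul_div_cancel_left₀ _ (pow_ne_zero _ hp0)]
    exact memLocalRing_prod _ _ fun σ _ => hwR σ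
  have hdvdN : p ^ (h * φ) ∣ N.natAbs := by
    have h2 : p ^ (h * φ) ∣ (m' ^ φ * N).natAbs := by
      have := Int.natAbs_dvd_natAbs.2 hdvd
      simpa [Int.natAbs_pow] using this
    rw [Int.natAbs_mul, Int.natAbs_pow, Int.natAbs_natCast] at h2
    refine (Nat.Coprime.dvd_of_dvd_mul_left ?_ h2)
    exact Nat.Coprime.pow _ _ ((Nat.Prime.coprime_iff_not_dvd hp).2 hm'p)
  have hNle : p ^ (h * φ) ≤ N.natAbs :=
    Nat.le_of_dvd (Int.natAbs_pos.2 hN0) hdvdN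
  -- the real product
  have hprodR : ∏ σ : Gal(CyclotomicField m ℚ/ℚ), ((p : ℝ) ^ d * r σ) = (N : ℝ) := by
    have h2 : ((∏ σ : Gal(CyclotomicField m ℚ/ℚ), ((p : ℝ) ^ d * r σ) : ℝ) : ℂ) = ((N : ℝ) : ℂ) := by
      push_cast
      rw [← hN]
      refine Finset.prod_congr rfl fun σ _ => ?_
      rw [hx' σ]
      push_cast
      rfl
    exact_mod_cast h2
  have hNnonneg : (0 : ℝ) ≤ N := by
    rw [← hprodR]
    exact Finset.prod_nonneg fun σ _ => mul_nonneg (pow_nonneg hpR.le _) (hr0 σ)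
  have hNge : (p : ℝ) ^ (h * φ) ≤ (N : ℝ) := by
    have h2 : (N : ℝ) = (N.natAbs : ℝ) := by
      have h3 : 0 ≤ N := by exact_mod_cast hNnonneg
      have h4 : (N.natAbs : ℤ) = N := Int.natAbs_of_nonneg h3
      calc (N : ℝ) = ((N.natAbs : ℤ) : ℝ) := by rw [h4]
        _ = (N.natAbs : ℝ) := Int.cast_natCast _
    rw [h2]
    exact_mod_cast hNle
  -- AM-GM
  have hamgm : (φ : ℝ) ≤ ∑ σ : Gal(CyclotomicField m ℚ/ℚ), ((p : ℝ) ^ d * r σ) / (p : ℝ) ^ h := by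
    apply card_le_sum_of_one_le_prod
    · intro σ
      exact div_nonneg (mul_nonneg (pow_nonneg hpR.le _) (hr0 σ)) (pow_nonneg hpR.le _)
    · rw [Finset.prod_div_distrib, hprodR, Finset.prod_const, Finset.card_univ, ← hφ, ← pow_mul,
        le_div_iff₀ (pow_pos hpR _), one_mul]
      exact hNge
  have hsum : ∑ k : (ZMod m)ˣ, (p : ℝ) ^ d * ∑ ψ : IrrCharacter G,
      ‖contrib p H (blockOf M (ξ₁ : H → ℂ)) (y ^ (k : ZMod m).val) (χ : G → ℂ) (ψ : G → ℂ)‖ ^ 2 =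
      ∑ σ : Gal(CyclotomicField m ℚ/ℚ), (p : ℝ) ^ d * r σ := by
    symm
    refine Fintype.sum_equiv (cycGalEquiv m).toEquiv _ _ fun σ => ?_
    rfl
  have hcard : Fintype.card (ZMod m)ˣ = φ :=
    (Fintype.card_congr (cycGalEquiv m).toEquiv).symm
  rw [hsum, hcard]
  rw [← Finset.sum_div, le_div_iff₀ (pow_pos hpR _)] at hamgm
  exact hamgm

end Cfsg.Agent.Lib.H23.Contrib
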