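import Cfsg.Agent.Lib.H20.MinIdxD4Defs

/-!
# S2140-D4-PREP (helper23 for helper20): four small lemmas for the assembly of `not_caseI_four`
-/

set_option autoImplicit false

namespace Cfsg.Agent.Lib.H23.MinIdx

open Module Cfsg.Agent.Lib.H26.MinIdx Cfsg.Agent.Lib.H20.MinIdx

variable {F V : Type*} [Field F] [AddCommGroup V] [Module F V]

/-- a frame exists in dimension ≥ 2 -/
theorem exists_frame [Module.Finite F V] (hn : 2 ≤ finrank F V) : Nonempty (Frame F V) := by
  classical
  let b := Module.finBasis F V
  have h0 : 0 < finrank F V := by omega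
  have h1 : 1 < finrank F V := by omega
  let i0 : Fin (finrank F V) := ⟨0, h0⟩
  let i1 : Fin (finrank F V) := ⟨1, h1⟩
  have hne : i0 ≠ i1 := by
    intro h
    have := congrArg Fin.val h
    simp [i0, i1] at this
  refine ⟨⟨b i0, b i1, b.coord i0, b.coord i1, ?_, ?_, ?_, ?_⟩⟩
  · simp [Basis.coord_apply, Basis.repr_self]
  · simp [Basis.coord_apply, Basis.repr_self, hne.symm]
  · simp [Basis.coord_apply, Basis.repr_self, hne]
  · simp [Basis.coord_apply, Basis.repr_self]

/-- `SL(V)` is finite. -/
theorem finite_sl [Finite F] [Module.Finite F V] : Finite (SpecialLinearGroup F V) := by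
  have : Finite V := Module.finite_of_finite F
  have : Finite (V ≃ₗ[F] V) := by
    apply Finite.of_injective (fun e : V ≃ₗ[F] V => (e : V → V))
    intro e e' h
    exact DFunLike.coe_injective h
  exact Finite.of_injective (fun g : SpecialLinearGroup F V => (g.1 : V ≃ₗ[F] V))
    (fun g g' h => Subtype.ext h)

/-- no transvection in `H` ⇒ no transvection fixes a point of `G ⧸ H` -/
theorem noTvFix_quotient (H : Subgroup (SpecialLinearGroup F V))
    (hno : ∀ (f : Dual F V) (v : V) (h : f v = 0), f ≠ 0 → v ≠ 0 → tv f v h ∉ H) :
    NoTvFix F V (SpecialLinearGroup F V ⧸ H) := by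
  intro f v h hf hv ω
  induction ω using QuotientGroup.induction_on with
  | H g =>
    intro hfix
    rw [MulAction.Quotient.smul_mk] at hfix
    have hmem : g⁻¹ * (tv f v h * g) ∈ H := by
      have := QuotientGroup.eq.1 hfix.symm
      simpa [smul_eq_mul] using this
    have hconj : g⁻¹ * (tv f v h * g) =
        tv (dualConj g⁻¹ f) (g⁻¹ v) (by simpa using h) := by
      ext x
      simp
    rw [hconj] at hmem
    refine hno _ _ _ ?_ ?_ hmem
    · intro h0
      apply hf
      ext x
      have := congrArg (fun φ : Dual F V => φ (g⁻¹ x)) h0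
      simpa using this
    · intro h0
      apply hv
      have := congrArg (fun y => g y) h0
      simpa using this

/-- a field with at least 4 elements has `t ≠ 0` with `t² ≠ 1`. -/
theorem exists_sq_ne_one [Finite F] (hq : 4 ≤ Nat.card F) : ∃ t : F, t ≠ 0 ∧ t ^ 2 ≠ 1 := by
  classical
  have := Fintype.ofFinite F
  by_contra hcon
  push Not at hcon
  have hsub : (Finset.univ : Finset F) ⊆ {0, 1, -1} := by
    intro t _
    by_cases ht : t = 0
    · simp [ht]
    · have h2 := hcon t ht
      have h3 : (t - 1) * (t + 1) = 0 := by linear_combination h2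
      rcases mul_eq_zero.1 h3 with h4 | h4
      · have : t = 1 := by linear_combination h4
        simp [this]
      · have : t = -1 := by linear_combination h4
        simp [this]
  have hcard := Finset.card_le_card hsub
  rw [Finset.card_univ, ← Nat.card_eq_fintype_card] at hcard
  have h3 : ({0, 1, -1} : Finset F).card ≤ 3 := Finset.card_le_three
  omega

end Cfsg.Agent.Lib.H23.MinIdx
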