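import Mathlib
import Cfsg.Agent.Lib.H24.CharLinearMul

/-!
# Orthogonality relations for the dual group of a finite abelian group (helper23)
-/

set_option autoImplicit false

namespace Cfsg.Agent.Lib.H23.AbSyl

open Cfsg
open scoped ComplexConjugate

section Dual

variable {A : Type*} [Group A] [Finite A]

theorem card_hom (hcomm : ∀ a b : A, a * b = b * a) : Nat.card (A →* ℂˣ) = Nat.card A := by
  letI : CommGroup A := { (inferInstance : Group A) with mul_comm := hcomm }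
  exact CommGroup.card_monoidHom_of_hasEnoughRootsOfUnity A ℂ

theorem exists_hom_ne_one (hcomm : ∀ a b : A, a * b = b * a) {u : A} (hu : u ≠ 1) :
    ∃ φ : A →* ℂˣ, φ u ≠ 1 := by
  letI : CommGroup A := { (inferInstance : Group A) with mul_comm := hcomm }
  exact CommGroup.exists_apply_ne_one_of_hasEnoughRootsOfUnity A ℂ hu

open scoped Classical in
theorem sum_hom_apply (hcomm : ∀ a b : A, a * b = b * a) [Fintype (A →* ℂˣ)] (u : A) :
    ∑ ψ : A →* ℂˣ, ((ψ u : ℂˣ) : ℂ) = if u = 1 then (Nat.card A : ℂ) else 0 := by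
  classical
  split_ifs with hu
  · subst hu
    simp only [map_one, Units.val_one, Finset.sum_const, Finset.card_univ, nsmul_eq_mul, mul_one]
    rw [← Nat.card_eq_fintype_card, card_hom hcomm]
  · obtain ⟨φ, hφ⟩ := exists_hom_ne_one hcomm hu
    have h1 : ∑ ψ : A →* ℂˣ, ((ψ u : ℂˣ) : ℂ) = ((φ u : ℂˣ) : ℂ) * ∑ ψ : A →* ℂˣ, ((ψ u : ℂˣ) : ℂ) := by
      rw [Finset.mul_sum, ← Equiv.sum_comp (Equiv.mulLeft φ)]
      refine Finset.sum_congr rfl (fun ψ _ => ?_)
      simp only [Equiv.coe_mulLeft, MonoidHom.mul_apply, Units.val_mul]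
    have h2 : (1 - ((φ u : ℂˣ) : ℂ)) * ∑ ψ : A →* ℂˣ, ((ψ u : ℂˣ) : ℂ) = 0 := by
      rw [sub_mul, one_mul, ← h1, sub_self]
    rcases mul_eq_zero.1 h2 with h | h
    · exfalso
      apply hφ
      apply Units.ext
      rw [Units.val_one]
      exact (sub_eq_zero.1 h).symm
    · exact h

open scoped Classical in
theorem sum_apply_hom [Fintype A] (ψ : A →* ℂˣ) :
    ∑ w : A, ((ψ w : ℂˣ) : ℂ) = if ψ = 1 then (Nat.card A : ℂ) else 0 := by
  classical
  split_ifs with hψ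
  · subst hψ
    simp only [MonoidHom.one_apply, Units.val_one, Finset.sum_const, Finset.card_univ,
      nsmul_eq_mul, mul_one]
    rw [← Nat.card_eq_fintype_card]
  · have : ∃ w₀ : A, ψ w₀ ≠ 1 := by
      by_contra h
      push Not at h
      apply hψ
      ext w
      rw [h w]; rfl
    obtain ⟨w₀, hw₀⟩ := this
    have h1 : ∑ w : A, ((ψ w : ℂˣ) : ℂ) = ((ψ w₀ : ℂˣ) : ℂ) * ∑ w : A, ((ψ w : ℂˣ) : ℂ) := by
      rw [Finset.mul_sum, ← Equiv.sum_comp (Equiv.mulLeft w₀)]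
      refine Finset.sum_congr rfl (fun w _ => ?_)
      simp only [Equiv.coe_mulLeft, map_mul, Units.val_mul]
    have h2 : (1 - ((ψ w₀ : ℂˣ) : ℂ)) * ∑ w : A, ((ψ w : ℂˣ) : ℂ) = 0 := by
      rw [sub_mul, one_mul, ← h1, sub_self]
    rcases mul_eq_zero.1 h2 with h | h
    · exfalso
      apply hw₀
      apply Units.ext
      rw [Units.val_one]
      exact (sub_eq_zero.1 h).symm
    · exact h

theorem conj_hom_apply (φ : A →* ℂˣ) (w : A) : conj ((φ w : ℂˣ) : ℂ) = ((φ⁻¹ w : ℂˣ) : ℂ) := by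
  have h1 := Cfsg.Agent.Lib.H24.hom_mul_conj φ w
  rw [MonoidHom.inv_apply, Units.val_inv_eq_inv_val]
  have h0 : ((φ w : ℂˣ) : ℂ) ≠ 0 := Units.ne_zero _
  field_simp
  rw [mul_comm]; exact h1

theorem conj_hom_apply' (φ : A →* ℂˣ) (w : A) : conj ((φ w : ℂˣ) : ℂ) = ((φ w⁻¹ : ℂˣ) : ℂ) := by
  rw [conj_hom_apply, MonoidHom.inv_apply, map_inv]

open scoped Classical in
theorem sum_hom_mul_conj [Fintype A] (ψ φ : A →* ℂˣ) :
    ∑ w : A, ((ψ w : ℂˣ) : ℂ) * conj ((φ w : ℂˣ) : ℂ) =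
      if ψ = φ then (Nat.card A : ℂ) else 0 := by
  have h1 : ∑ w : A, ((ψ w : ℂˣ) : ℂ) * conj ((φ w : ℂˣ) : ℂ) =
      ∑ w : A, (((ψ * φ⁻¹) w : ℂˣ) : ℂ) := by
    refine Finset.sum_congr rfl (fun w _ => ?_)
    rw [conj_hom_apply, MonoidHom.mul_apply, Units.val_mul]
  rw [h1, sum_apply_hom]
  have : ψ * φ⁻¹ = 1 ↔ ψ = φ := by
    constructor
    · intro h
      ext w
      have h2 := DFunLike.congr_fun h w
      simp only [MonoidHom.mul_apply, MonoidHom.inv_apply, MonoidHom.one_apply] at h2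
      rw [mul_inv_eq_one] at h2
      rw [h2]
    · rintro rfl
      ext w
      simp
  simp only [this]

end Dual

end Cfsg.Agent.Lib.H23.AbSyl
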