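import Mathlib

/-!
# Involutions normalizing Sylow subgroups of odd-order subgroups

* `inverts_of_involution_fpf`: an involution normalizing `R` and commuting with no non-identity
  element of `R` inverts `R`, and `R` is abelian.
* `exists_involution_normalizing_sylow`: if an involution normalizes a subgroup `C` of odd order,
  every Sylow `p`-subgroup of `C` is normalized by some involution.
-/

set_option autoImplicit false
open scoped Pointwise

namespace Cfsg.Agent.Lib.H23

section

variable {G : Type*} [Group G] [Finite G]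

/-- An involution normalizing a subgroup `R` and commuting with no non-identity element of `R`
inverts `R`, and `R` is abelian. -/
theorem inverts_of_involution_fpf (t : G) (ht : orderOf t = 2) (R : Subgroup G)
    (hnorm : ∀ r ∈ R, t * r * t⁻¹ ∈ R) (hfpf : ∀ r ∈ R, t * r = r * t → r = 1) :
    (∀ r ∈ R, t * r * t⁻¹ = r⁻¹) ∧ ∀ a ∈ R, ∀ b ∈ R, a * b = b * a := by
  have ht2 : t * t = 1 := by
    have := pow_orderOf_eq_one t
    rwa [ht, pow_two] at this
  have htinv : t⁻¹ = t := inv_eq_of_mul_eq_one_left ht2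
  let φ : R →* R := MonoidHom.mk' (fun r => ⟨t * r * t⁻¹, hnorm r r.2⟩) (fun a b => by
    apply Subtype.ext
    show t * (a * b : G) * t⁻¹ = (t * a * t⁻¹) * (t * b * t⁻¹)
    group)
  have hφ : MonoidHom.FixedPointFree φ := by
    intro r hr
    have h1 : t * (r : G) * t⁻¹ = r := congrArg Subtype.val hr
    apply Subtype.ext
    apply hfpf r r.2
    calc t * (r : G) = t * r * t⁻¹ * t := by group
      _ = r * t := by rw [h1]
  have h2 : Function.Involutive φ := by
    intro r
    apply Subtype.ext
    show t * (t * (r : G) * t⁻¹) * t⁻¹ = r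
    rw [htinv]
    calc t * (t * (r : G) * t) * t = (t * t) * r * (t * t) := by group
      _ = r := by rw [ht2, one_mul, mul_one]
  constructor
  · intro r hr
    have := congrFun (hφ.coe_eq_inv_of_involutive h2) ⟨r, hr⟩
    exact congrArg Subtype.val this
  · intro a ha b hb
    have := hφ.commute_all_of_involutive h2 ⟨a, ha⟩ ⟨b, hb⟩
    exact congrArg Subtype.val this



/-- If an involution `t` normalizes a subgroup `C` of odd order, then every Sylow `p`-subgroup of
`C` is normalized by some involution of `G`. -/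
theorem exists_involution_normalizing_sylow (p : ℕ) [Fact p.Prime] (t : G) (ht : orderOf t = 2)
    (C : Subgroup G) (hnormC : ∀ c ∈ C, t * c * t⁻¹ ∈ C) (hodd : Odd (Nat.card C))
    (S : Sylow p C) :
    ∃ t' : G, orderOf t' = 2 ∧
      ∀ r ∈ (S : Subgroup C).map C.subtype, t' * r * t'⁻¹ ∈ (S : Subgroup C).map C.subtype := by
  have ht2 : t * t = 1 := by
    have := pow_orderOf_eq_one t
    rwa [ht, pow_two] at this
  have htinv : t⁻¹ = t := inv_eq_of_mul_eq_one_left ht2
  let φ : MulAut C :=
    { toFun := fun c => ⟨t * c * t⁻¹, hnormC c c.2⟩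
      invFun := fun c => ⟨t * c * t⁻¹, hnormC c c.2⟩
      left_inv := fun c => by
        apply Subtype.ext
        show t * (t * (c : G) * t⁻¹) * t⁻¹ = c
        rw [htinv]
        calc t * (t * (c : G) * t) * t = (t * t) * c * (t * t) := by group
          _ = c := by rw [ht2, one_mul, mul_one]
      right_inv := fun c => by
        apply Subtype.ext
        show t * (t * (c : G) * t⁻¹) * t⁻¹ = c
        rw [htinv]
        calc t * (t * (c : G) * t) * t = (t * t) * c * (t * t) := by group
          _ = c := by rw [ht2, one_mul, mul_one]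
      map_mul' := fun a b => by
        apply Subtype.ext
        show t * (a * b : G) * t⁻¹ = (t * a * t⁻¹) * (t * b * t⁻¹)
        group }
  obtain ⟨c, hc⟩ := MulAction.exists_smul_eq C (φ • S) S
  set m : G := (c : G) * t with hm
  -- `m` normalizes `S`
  have hmS : ∀ r : C, r ∈ S → ∃ hr : m * r * m⁻¹ ∈ C, (⟨m * r * m⁻¹, hr⟩ : C) ∈ S := by
    intro r hr
    have h1 : φ r ∈ ((φ • S : Sylow p C) : Subgroup C) := by
      rw [Sylow.pointwise_smul_def]
      exact Subgroup.smul_mem_pointwise_smul r φ _ hr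
    have h2 : MulAut.conj c (φ r) ∈ ((c • (φ • S) : Sylow p C) : Subgroup C) := by
      rw [Sylow.coe_subgroup_smul]
      exact Subgroup.smul_mem_pointwise_smul _ (MulAut.conj c) _ h1
    rw [hc] at h2
    have h3 : ((MulAut.conj c (φ r) : C) : G) = m * r * m⁻¹ := by
      rw [MulAut.conj_apply]
      show (c : G) * (t * r * t⁻¹) * (c : G)⁻¹ = m * r * m⁻¹
      rw [hm]
      group
    have hr' : m * r * m⁻¹ ∈ C := by rw [← h3]; exact (MulAut.conj c (φ r) : C).2
    refine ⟨hr', ?_⟩
    have : (⟨m * r * m⁻¹, hr'⟩ : C) = MulAut.conj c (φ r) := Subtype.ext h3.symm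
    rw [this]
    exact h2
  have hmR : ∀ r ∈ (S : Subgroup C).map C.subtype,
      m * r * m⁻¹ ∈ (S : Subgroup C).map C.subtype := by
    intro r hr
    obtain ⟨r', hr', rfl⟩ := hr
    obtain ⟨h1, h2⟩ := hmS r' hr'
    exact ⟨⟨m * r' * m⁻¹, h1⟩, h2, rfl⟩
  have hpowR : ∀ j : ℕ, ∀ r ∈ (S : Subgroup C).map C.subtype,
      m ^ j * r * (m ^ j)⁻¹ ∈ (S : Subgroup C).map C.subtype := by
    intro j
    induction j with
    | zero => intro r hr; simpa using hr
    | succ j ih =>
      intro r hr
      have := hmR _ (ih r hr)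
      have h : m ^ (j + 1) * r * (m ^ (j + 1))⁻¹ = m * (m ^ j * r * (m ^ j)⁻¹) * m⁻¹ := by
        rw [pow_succ']
        group
      rw [h]
      exact this
  -- `m * m ∈ C`
  have hmm : m * m ∈ C := by
    have : m * m = (c : G) * (t * c * t⁻¹) := by
      rw [hm, htinv]
      group
    rw [this]
    exact C.mul_mem c.2 (hnormC c c.2)
  -- `m` has even order
  have heven : Even (orderOf m) := by
    by_contra hnot
    rw [Nat.not_even_iff_odd] at hnot
    obtain ⟨j, hj⟩ := hnot
    have hmC : m ∈ C := by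
      have h1 : m = (m * m) ^ (j + 1) := by
        rw [← pow_two, ← pow_mul]
        have : 2 * (j + 1) = orderOf m + 1 := by omega
        rw [this, pow_succ, pow_orderOf_eq_one, one_mul]
      rw [h1]
      exact C.pow_mem hmm _
    have htC : t ∈ C := by
      have : t = (c : G)⁻¹ * m := by rw [hm]; group
      rw [this]
      exact C.mul_mem (C.inv_mem c.2) hmC
    have hdvd : orderOf t ∣ Nat.card C := by
      have := orderOf_dvd_natCard (⟨t, htC⟩ : C)
      rwa [Subgroup.orderOf_mk] at this
    rw [ht] at hdvd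
    exact (Nat.not_even_iff_odd.mpr hodd) (even_iff_two_dvd.mpr hdvd)
  have hm0 : orderOf m ≠ 0 := (orderOf_pos m).ne'
  exact ⟨m ^ (orderOf m / 2), orderOf_pow_orderOf_div hm0 (even_iff_two_dvd.mp heven),
    hpowR _⟩


end

section step

variable {G : Type*} [Group G] [Finite G]

omit [Finite G] in
/-- An element inverting `w` normalizes `C_G(w)`. -/
theorem conj_mem_centralizer_of_inverts (t w : G) (htw : t * w * t⁻¹ = w⁻¹) :
    ∀ c ∈ Subgroup.centralizer ({w} : Set G), t * c * t⁻¹ ∈ Subgroup.centralizer ({w} : Set G) := by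
  have htw' : t * w⁻¹ * t⁻¹ = w := by
    have : t * w⁻¹ * t⁻¹ = (t * w * t⁻¹)⁻¹ := by group
    rw [this, htw, inv_inv]
  intro c hc
  rw [Subgroup.mem_centralizer_singleton_iff] at hc ⊢
  have hc' : c * w⁻¹ = w⁻¹ * c := by
    have : w⁻¹ * (c * w) * w⁻¹ = w⁻¹ * (w * c) * w⁻¹ := by rw [hc]
    have h1 : w⁻¹ * (c * w) * w⁻¹ = w⁻¹ * c := by group
    have h2 : w⁻¹ * (w * c) * w⁻¹ = c * w⁻¹ := by group
    rw [h1, h2] at this
    exact this.symm
  calc t * c * t⁻¹ * w = t * c * t⁻¹ * (t * w⁻¹ * t⁻¹) := by rw [htw']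
    _ = t * (c * w⁻¹) * t⁻¹ := by group
    _ = t * (w⁻¹ * c) * t⁻¹ := by rw [hc']
    _ = (t * w⁻¹ * t⁻¹) * (t * c * t⁻¹) := by group
    _ = w * (t * c * t⁻¹) := by rw [htw']

/-- If non-identity `p`-elements have centralizers of odd order and an involution inverts the
non-identity `p`-element `w`, then every Sylow `p`-subgroup of `C_G(w)` is abelian and inverted by
an involution. -/
theorem exists_involution_inverting_sylow_centralizer (p : ℕ) [Fact p.Prime]
    (hC : ∀ g : G, g ≠ 1 → (∃ k : ℕ, orderOf g = p ^ k) →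
      Odd (Nat.card ↥(Subgroup.centralizer ({g} : Set G))))
    (t w : G) (ht : orderOf t = 2) (hw1 : w ≠ 1) (hwp : ∃ k : ℕ, orderOf w = p ^ k)
    (htw : t * w * t⁻¹ = w⁻¹) (S : Sylow p ↥(Subgroup.centralizer ({w} : Set G))) :
    ∃ t' : G, orderOf t' = 2 ∧
      (∀ r ∈ (S : Subgroup _).map (Subgroup.centralizer ({w} : Set G)).subtype,
        t' * r * t'⁻¹ ∈ (S : Subgroup _).map (Subgroup.centralizer ({w} : Set G)).subtype) ∧
      (∀ r ∈ (S : Subgroup _).map (Subgroup.centralizer ({w} : Set G)).subtype,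
        t' * r * t'⁻¹ = r⁻¹) ∧
      ∀ a ∈ (S : Subgroup _).map (Subgroup.centralizer ({w} : Set G)).subtype,
        ∀ b ∈ (S : Subgroup _).map (Subgroup.centralizer ({w} : Set G)).subtype, a * b = b * a := by
  obtain ⟨t', ht', hnorm⟩ := exists_involution_normalizing_sylow p t ht
    (Subgroup.centralizer ({w} : Set G)) (conj_mem_centralizer_of_inverts t w htw)
    (hC w hw1 hwp) S
  have hRp : IsPGroup p ((S : Subgroup _).map (Subgroup.centralizer ({w} : Set G)).subtype) :=
    S.isPGroup'.map _
  have hfpf : ∀ r ∈ (S : Subgroup _).map (Subgroup.centralizer ({w} : Set G)).subtype,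
      t' * r = r * t' → r = 1 := by
    intro r hr hcomm
    by_contra hr1
    obtain ⟨k, hk⟩ := (IsPGroup.iff_orderOf.mp hRp) ⟨r, hr⟩
    rw [Subgroup.orderOf_mk] at hk
    have hodd := hC r hr1 ⟨k, hk⟩
    have hmem : t' ∈ Subgroup.centralizer ({r} : Set G) := by
      rw [Subgroup.mem_centralizer_singleton_iff]
      exact hcomm
    have hdvd : orderOf t' ∣ Nat.card (Subgroup.centralizer ({r} : Set G)) := by
      have := orderOf_dvd_natCard (⟨t', hmem⟩ : Subgroup.centralizer ({r} : Set G))
      rwa [Subgroup.orderOf_mk] at this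
    rw [ht'] at hdvd
    exact (Nat.not_even_iff_odd.mpr hodd) (even_iff_two_dvd.mpr hdvd)
  obtain ⟨hinv, hab⟩ := inverts_of_involution_fpf t' ht' _ hnorm hfpf
  exact ⟨t', ht', hnorm, hinv, hab⟩

end step

end Cfsg.Agent.Lib.H23
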