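import Mathlib

/-!
# S4150, piece G2 (`isPreprimitive_of_prime_cycle`), exact signature of
`tools/blueprints/S4150_sigs.lean` (helper23)

A transitive permutation group of degree `d` containing a cycle of prime length `q > d / 2` is primitive.
-/

set_option autoImplicit false

namespace Cfsg.Agent.Lib.H23.AG

open Equiv Equiv.Perm Subgroup
open scoped Pointwise

/-- (G2) primitivity: a transitive group containing a cycle of prime length `q > d/2`. -/
theorem isPreprimitive_of_prime_cycle {d q : ℕ} (G : Subgroup (Perm (Fin d)))
    (hG : MulAction.IsPretransitive G (Fin d)) (y : Perm (Fin d)) (hyG : y ∈ G)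
    (hy : y.IsCycle) (hq : q.Prime) (hyq : y.support.card = q) (hdq : d < 2 * q) :
    MulAction.IsPreprimitive G (Fin d) := by
  classical
  obtain ⟨a, ha⟩ : ∃ a, a ∈ y.support := by
    apply Finset.card_pos.1
    rw [hyq]
    exact hq.pos
  have hya : y a ≠ a := Perm.mem_support.1 ha
  let g : G := ⟨y, hyG⟩
  have hgpow : ∀ (i : ℕ) (b : Fin d), (g ^ i) • b = (y ^ i) b := fun i b => rfl
  have hg1 : ∀ b : Fin d, g • b = y b := fun b => rfl
  have hord : orderOf y = q := by rw [hy.orderOf, hyq]
  refine MulAction.IsPreprimitive.of_isTrivialBlock_base a ?_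
  intro B haB hB
  rcases hB.smul_eq_or_disjoint g with h | h
  · -- `y` fixes `B`: the support of `y` lies in `B`
    right
    have hpow : ∀ i : ℕ, (y ^ i) a ∈ B := by
      intro i
      induction i with
      | zero => simpa using haB
      | succ n ih =>
        have h1 : g • ((y ^ n) a) ∈ g • B := Set.smul_mem_smul_set ih
        rw [h, hg1] at h1
        rwa [pow_succ', Perm.mul_apply]
    have hsub : (y.support : Set (Fin d)) ⊆ B := by
      intro b hb
      obtain ⟨i, hi⟩ := hy.exists_pow_eq hya (Perm.mem_support.1 hb)
      rw [← hi]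
      exact hpow i
    apply hB.eq_univ_of_card_lt
    rw [Nat.card_eq_fintype_card, Fintype.card_fin]
    have h2 : q ≤ B.ncard := by
      rw [← hyq, ← Set.ncard_coe_finset]
      exact Set.ncard_le_ncard hsub (Set.toFinite B)
    omega
  · -- `y • B` is disjoint from `B`: `B = {a}`
    left
    have key : ∀ b ∈ B, b = a := by
      intro b hb
      by_contra hba
      have hbs : y b ≠ b := by
        intro hyb
        have h1 : b ∈ g • B := ⟨b, hb, hyb⟩
        exact Set.disjoint_left.1 h h1 hb
      obtain ⟨i, hi⟩ := hy.exists_pow_eq hya hbs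
      have h1 : (g ^ i) • B = B :=
        hB.smul_eq_of_mem haB (by rw [hgpow, hi]; exact hb)
      have h2 : ¬ q ∣ i := by
        intro hqi
        have h3 : y ^ i = 1 := by
          rw [← hord] at hqi
          exact orderOf_dvd_iff_pow_eq_one.1 hqi
        rw [h3] at hi
        exact hba hi.symm
      have hcop : Nat.Coprime i (orderOf y) := by
        rw [hord]
        exact ((Nat.Prime.coprime_iff_not_dvd hq).2 h2).symm
      obtain ⟨j, hj⟩ := exists_pow_eq_self_of_coprime hcop
      have h4 : (g ^ i) ^ j = g := Subtype.ext (by simpa using hj)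
      have h5 : g ^ i ∈ MulAction.stabilizer G B := h1
      have h6 : g ∈ MulAction.stabilizer G B := by
        rw [← h4]
        exact pow_mem h5 j
      have h7 : g • B = B := h6
      rw [h7] at h
      exact (Set.disjoint_left.1 h haB) haB
    intro b hb c hc
    rw [key b hb, key c hc]

end Cfsg.Agent.Lib.H23.AG
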