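import Mathlib

/-!
# S4150, piece G3 (`isPretransitive_closure`), exact signature of
`tools/blueprints/S4150_sigs.lean` (helper23)

`x` of prime order `p`, `y` a cycle of length `q`, full support and `d < p + q`: `⟨x, y⟩` is transitive.
-/

set_option autoImplicit false

namespace Cfsg.Agent.Lib.H23.AG

open Equiv Equiv.Perm Subgroup

/-- (G3) transitivity. -/
theorem isPretransitive_closure {d p q : ℕ} (x y : Perm (Fin d)) (hp : p.Prime)
    (hx : orderOf x = p) (hy : y.IsCycle) (hyq : y.support.card = q)
    (hfull : x.support ∪ y.support = Finset.univ) (hpq : d < p + q) :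
    MulAction.IsPretransitive (closure ({x, y} : Set (Perm (Fin d)))) (Fin d) := by
  classical
  have hxH : x ∈ closure ({x, y} : Set (Perm (Fin d))) := subset_closure (by simp)
  have hyH : y ∈ closure ({x, y} : Set (Perm (Fin d))) := subset_closure (by simp)
  obtain ⟨a, hya⟩ : ∃ a, y a ≠ a := by
    obtain ⟨a, ha, -⟩ := hy
    exact ⟨a, ha⟩
  rw [MulAction.isPretransitive_iff_base a]
  -- points of the support of `y`
  have hsupp : ∀ w : Fin d, y w ≠ w →
      ∃ g : closure ({x, y} : Set (Perm (Fin d))), g • a = w := by
    intro w hw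
    obtain ⟨j, hj⟩ := hy.exists_pow_eq hya hw
    exact ⟨⟨y ^ j, pow_mem hyH j⟩, hj⟩
  intro z
  by_cases hz : y z = z
  · -- `z` is moved by `x`
    have hzx : x z ≠ z := by
      have h1 : z ∈ x.support ∪ y.support := by rw [hfull]; exact Finset.mem_univ z
      rcases Finset.mem_union.1 h1 with h | h
      · exact Perm.mem_support.1 h
      · exact absurd hz (Perm.mem_support.1 h)
    -- the points `x ^ i z`, `i < p`, are distinct
    have hinj : Function.Injective (fun i : Fin p => (x ^ (i : ℕ)) z) := by
      have key : ∀ i j : ℕ, i < j → j < p → (x ^ i) z = (x ^ j) z → False := by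
        intro i j hij hjp h
        have h1 : (x ^ (j - i)) z = z := by
          have h2 : x ^ j = x ^ i * x ^ (j - i) := by
            rw [← pow_add]; congr 1; omega
          rw [h2, Perm.mul_apply] at h
          exact ((x ^ i).injective h).symm
        have hcop : Nat.Coprime (j - i) (orderOf x) := by
          rw [hx]
          refine ((Nat.Prime.coprime_iff_not_dvd hp).2 ?_).symm
          intro hdvd
          have := Nat.le_of_dvd (by omega) hdvd
          omega
        obtain ⟨m, hm⟩ := exists_pow_eq_self_of_coprime hcop
        have h3 : ∀ n : ℕ, ((x ^ (j - i)) ^ n) z = z := by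
          intro n
          induction n with
          | zero => simp
          | succ n ih => rw [pow_succ, Perm.mul_apply, h1, ih]
        have h4 := h3 m
        rw [hm] at h4
        exact hzx h4
      intro i j hij
      by_contra hne
      rcases lt_or_gt_of_ne (fun h => hne (Fin.ext h)) with h | h
      · exact key i j h j.2 hij
      · exact key j i h i.2 hij.symm
    -- some `x ^ i z` lies in the support of `y`
    have hex : ∃ i : Fin p, y ((x ^ (i : ℕ)) z) ≠ (x ^ (i : ℕ)) z := by
      by_contra hall
      push Not at hall
      have hmaps : ∀ i ∈ (Finset.univ : Finset (Fin p)),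
          (fun i : Fin p => (x ^ (i : ℕ)) z) i ∈ y.supportᶜ := by
        intro i _
        rw [Finset.mem_compl, Perm.mem_support, not_not]
        exact hall i
      have hle := Finset.card_le_card_of_injOn _ hmaps (fun i _ j _ h => hinj h)
      rw [Finset.card_univ, Fintype.card_fin, Finset.card_compl, Fintype.card_fin, hyq] at hle
      have hp0 := hp.pos
      omega
    obtain ⟨i, hi⟩ := hex
    obtain ⟨g, hg⟩ := hsupp _ hi
    refine ⟨⟨(x ^ (i : ℕ))⁻¹, inv_mem (pow_mem hxH _)⟩ * g, ?_⟩
    rw [mul_smul, hg]
    show (x ^ (i : ℕ))⁻¹ ((x ^ (i : ℕ)) z) = z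
    simp
  · exact hsupp z hz

end Cfsg.Agent.Lib.H23.AG
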