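import Mathlib
import Cfsg.Prelude.Def_Blocks
import Cfsg.Agent.Lib.H23.CliffordCorr
import Cfsg.Agent.Lib.H23.BlockCovering
import Cfsg.Agent.Lib.H24.CharOrth
import Cfsg.Agent.Lib.H12.CliffordHom

/-!
# Clifford correspondence over a set of characters with a given stabilizer (helper23)

`N` normal in `G`, `N ≤ T ≤ G`, `b ⊆ Irr(N)` such that `T` stabilizes `b` and elements outside `T`
move every member of `b` out of `b` (for instance `b` a block and `T` its stabilizer).
Then induction `ψ ↦ ψ^G` is a bijection from `Irr(T | b)` onto `Irr(G | b)`: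
* `isIrr_indFun`: `ψ^G` is irreducible for `ψ ∈ Irr(T | b)`;
* `restrict_indFun_unique`: `ψ` is the only constituent of `(ψ^G)_T` lying over `b`;
* `exists_over`: every `χ ∈ Irr(G | b)` is induced from some `ψ ∈ Irr(T | b)`.
-/

set_option autoImplicit false

namespace Cfsg.Agent.Lib.H23.FR

open Cfsg Cfsg.Agent.Lib.H23 Cfsg.Agent.Lib.H24 Cfsg.Agent.Lib.L0
open scoped ComplexConjugate

section Mult

variable {K : Type*} [Group K] [Fintype K]

open Classical in
/-- Multiplicity of an irreducible character in a character, as a natural number. -/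
noncomputable def mult (α ϑ : K → ℂ) : ℕ :=
  if h : ∃ n : ℕ, classInner α ϑ = n then h.choose else 0

theorem mult_spec {α ϑ : K → ℂ} (hα : IsCharacter K α) (hϑ : IsIrrCharacter K ϑ) :
    classInner α ϑ = (mult α ϑ : ℂ) := by
  have h := classInner_char_irr_nat hα hϑ
  unfold mult
  rw [dif_pos h]
  exact h.choose_spec

end Mult

variable {G : Type*} [Group G] [Fintype G] (N T : Subgroup G) [hN : N.Normal] [Fintype N]
  [Fintype T] (hNT : N ≤ T)

/-- `ψ ∈ Irr(T)` lies over some member of `b`. -/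
def OverB (b : Set (IrrCharacter N)) (ψ : IrrCharacter T) : Prop :=
  ∃ θ ∈ b, classInner (resTo N T hNT (ψ : T → ℂ)) (θ : N → ℂ) ≠ 0

/-- The restriction to `N` of a class function of `T` is `T`-invariant. -/
theorem classInner_resTo_conjIrr {ψ : T → ℂ} (hψ : IsClassFunction T ψ) (θ : IrrCharacter N)
    {t : G} (ht : t ∈ T) :
    classInner (resTo N T hNT ψ) (conjIrr N θ t : N → ℂ) =
      classInner (resTo N T hNT ψ) (θ : N → ℂ) := by
  unfold classInner
  congr 1
  refine Fintype.sum_equiv (MulAut.conjNormal t : N ≃* N).toEquiv _ _ (fun n => ?_)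
  rw [conjIrr_apply]
  have h1 : ((MulAut.conjNormal t : N ≃* N) n : G) = t * n * t⁻¹ := by
    simp [MulAut.conjNormal_apply]
  have h2 : resTo N T hNT ψ ((MulAut.conjNormal t : N ≃* N) n) = resTo N T hNT ψ n := by
    unfold resTo
    have h3 : (⟨(((MulAut.conjNormal t : N ≃* N) n : N) : G), hNT ((MulAut.conjNormal t : N ≃* N) n).2⟩ : T) =
        (⟨t, ht⟩ : T) * ⟨(n : G), hNT n.2⟩ * (⟨t, ht⟩ : T)⁻¹ := by
      apply Subtype.ext
      simp [MulAut.conjNormal_apply]
    rw [h3]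
    exact hψ _ _
  show resTo N T hNT ψ n * conj ((θ : N → ℂ) ⟨t * n * t⁻¹, hN.conj_mem n n.2 t⟩) = _
  rw [← h2]
  congr 2

/-- Clifford's theorem inside `T`: two constituents of `ψ_N` are `T`-conjugate. -/
theorem exists_conj_of_constituents_resTo (ψ : IrrCharacter T) (θ θ' : IrrCharacter N)
    (h : classInner (resTo N T hNT (ψ : T → ℂ)) (θ : N → ℂ) ≠ 0)
    (h' : classInner (resTo N T hNT (ψ : T → ℂ)) (θ' : N → ℂ) ≠ 0) :
    ∃ t ∈ T, θ' = conjIrr N θ t := by
  obtain ⟨x, hx⟩ := Cfsg.Agent.Lib.H12.exists_conj_of_constituents (Subgroup.inclusion hNT)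
    (Subgroup.inclusion_injective hNT)
    (fun (x : T) (n : N) => (⟨(x : G) * n * (x : G)⁻¹, hN.conj_mem n n.2 x⟩ : N))
    (fun x n => Subtype.ext rfl) ψ.2 θ'.2 θ.2 h' h
  refine ⟨(x : G), x.2, ?_⟩
  apply Subtype.ext
  funext n
  rw [conjIrr_apply]
  exact (hx n).symm

variable (b : Set (IrrCharacter N))

/-- All constituents of `ψ_N` lie in `b` when one does and `T` stabilizes `b`. -/
theorem constituent_mem (hTb : ∀ g ∈ T, ∀ θ ∈ b, conjIrr N θ g ∈ b) (ψ : IrrCharacter T)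
    (hψ : OverB N T hNT b ψ) (θ' : IrrCharacter N)
    (h' : classInner (resTo N T hNT (ψ : T → ℂ)) (θ' : N → ℂ) ≠ 0) : θ' ∈ b := by
  obtain ⟨θ, hθ, h⟩ := hψ
  obtain ⟨t, ht, rfl⟩ := exists_conj_of_constituents_resTo N T hNT ψ θ θ' h h'
  exact hTb t ht θ hθ

/-- Restriction to `N` of an induced function. -/
theorem classInner_restrict_indFun_eq_sum (ψ : T → ℂ) (θ : IrrCharacter N) :
    classInner (fun n : N => indFun T ψ (n : G)) (θ : N → ℂ) =
      (Nat.card T : ℂ)⁻¹ * ∑ x : G, classInner (resTo N T hNT ψ) (conjIrr N θ x : N → ℂ) := by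
  classical
  unfold classInner
  simp only [indFun_apply]
  have h1 : ∀ n : N, ∀ x : G, extendByZero T ψ (x⁻¹ * (n : G) * x) =
      resTo N T hNT ψ ⟨x⁻¹ * (n : G) * x, by
        have := hN.conj_mem (n : G) n.2 x⁻¹
        simpa using this⟩ := by
    intro n x
    have hmem : x⁻¹ * (n : G) * x ∈ N := by
      have := hN.conj_mem (n : G) n.2 x⁻¹
      simpa using this
    rw [extendByZero_apply_of_mem T ψ (hNT hmem)]
    rfl
  have h2 : ∑ n : N, (Nat.card T : ℂ)⁻¹ * (∑ x : G, extendByZero T ψ (x⁻¹ * (n : G) * x)) *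
      conj ((θ : N → ℂ) n) = (Nat.card T : ℂ)⁻¹ * ∑ x : G, ∑ n : N,
        extendByZero T ψ (x⁻¹ * (n : G) * x) * conj ((θ : N → ℂ) n) := by
    rw [Finset.sum_comm, Finset.mul_sum]
    refine Finset.sum_congr rfl fun n _ => ?_
    rw [mul_assoc, Finset.sum_mul]
  rw [h2]
  rw [← mul_assoc, mul_comm ((Nat.card N : ℂ)⁻¹), mul_assoc, Finset.mul_sum]
  congr 1
  refine Finset.sum_congr rfl fun x _ => ?_
  congr 1
  -- reindex `n = x m x⁻¹`
  symm
  refine Fintype.sum_equiv (MulAut.conjNormal x : N ≃* N).toEquiv _ _ (fun m => ?_)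
  rw [conjIrr_apply]
  have hx1 : (((MulAut.conjNormal x : N ≃* N) m : N) : G) = x * m * x⁻¹ := by
    simp [MulAut.conjNormal_apply]
  rw [h1]
  congr 1
  · apply congrArg
    apply Subtype.ext
    show (m : G) = x⁻¹ * (((MulAut.conjNormal x : N ≃* N) m : N) : G) * x
    rw [hx1]; group

/-- For `ψ ∈ Irr(T | b)` and `θ ∈ b`: `[(ψ^G)_N, θ] = [ψ_N, θ]`. -/
theorem classInner_restrict_indFun_of_mem (hTb : ∀ g ∈ T, ∀ θ ∈ b, conjIrr N θ g ∈ b)
    (hdisj : ∀ g : G, g ∉ T → ∀ θ ∈ b, conjIrr N θ g ∉ b)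
    (ψ : IrrCharacter T) (hψ : OverB N T hNT b ψ) (θ : IrrCharacter N) (hθ : θ ∈ b) :
    classInner (fun n : N => indFun T (ψ : T → ℂ) (n : G)) (θ : N → ℂ) =
      classInner (resTo N T hNT (ψ : T → ℂ)) (θ : N → ℂ) := by
  classical
  rw [classInner_restrict_indFun_eq_sum N T hNT]
  have hterm : ∀ x : G, classInner (resTo N T hNT (ψ : T → ℂ)) (conjIrr N θ x : N → ℂ) =
      if x ∈ T then classInner (resTo N T hNT (ψ : T → ℂ)) (θ : N → ℂ) else 0 := by
    intro x
    by_cases hx : x ∈ T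
    · rw [if_pos hx]
      exact classInner_resTo_conjIrr N T hNT (irr_isClassFunction ψ) θ hx
    · rw [if_neg hx]
      by_contra hne
      exact hdisj x hx θ hθ (constituent_mem N T hNT b hTb ψ hψ _ hne)
  simp only [hterm]
  rw [← Finset.sum_filter, Finset.sum_const, nsmul_eq_mul]
  have hcard : (Finset.univ.filter (fun x : G => x ∈ T)).card = Nat.card T := by
    rw [Nat.card_eq_fintype_card, Fintype.card_subtype]
  rw [hcard]
  have hTne : (Nat.card T : ℂ) ≠ 0 := Nat.cast_ne_zero.mpr Nat.card_pos.ne'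
  field_simp

end Cfsg.Agent.Lib.H23.FR
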