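import Mathlib
import Cfsg.Prelude.Def_Blocks
import Cfsg.Agent.Lib.H23.FRCliff
import Cfsg.Agent.Lib.L0.CharDegree

/-!
# Clifford correspondence over a stabilized set, main statements (helper23)
-/

set_option autoImplicit false

namespace Cfsg.Agent.Lib.H23.FR

open Cfsg Cfsg.Agent.Lib.H23 Cfsg.Agent.Lib.H24 Cfsg.Agent.Lib.L0
open scoped ComplexConjugate

variable {G : Type*} [Group G] [Fintype G] (N T : Subgroup G) [hN : N.Normal] [Fintype N]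
  [Fintype T] (hNT : N ≤ T)

/-- `[χ_T, ψ']` as a natural number. -/
noncomputable def aa (χ : IrrCharacter G) (ψ' : IrrCharacter T) : ℕ :=
  mult (fun t : T => (χ : G → ℂ) t) (ψ' : T → ℂ)

/-- `[ψ'_N, θ]` as a natural number. -/
noncomputable def cc (ψ' : IrrCharacter T) (θ : IrrCharacter N) : ℕ :=
  mult (resTo N T hNT (ψ' : T → ℂ)) (θ : N → ℂ)

/-- `[χ_N, θ]` as a natural number. -/
noncomputable def rr (χ : IrrCharacter G) (θ : IrrCharacter N) : ℕ :=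
  mult (fun n : N => (χ : G → ℂ) n) (θ : N → ℂ)

theorem aa_spec (χ : IrrCharacter G) (ψ' : IrrCharacter T) :
    classInner (fun t : T => (χ : G → ℂ) t) (ψ' : T → ℂ) = (aa T χ ψ' : ℂ) :=
  mult_spec (isCharacter_restrict T (isCharacter_of_irr χ.2)) ψ'.2

theorem cc_spec (ψ' : IrrCharacter T) (θ : IrrCharacter N) :
    classInner (resTo N T hNT (ψ' : T → ℂ)) (θ : N → ℂ) = (cc N T hNT ψ' θ : ℂ) :=
  mult_spec (isCharacter_resTo N T hNT (isCharacter_of_irr ψ'.2)) θ.2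

theorem rr_spec (χ : IrrCharacter G) (θ : IrrCharacter N) :
    classInner (fun n : N => (χ : G → ℂ) n) (θ : N → ℂ) = (rr N χ θ : ℂ) :=
  mult_spec (isCharacter_restrict N (isCharacter_of_irr χ.2)) θ.2

/-- `[χ_N, θ] = Σ_ψ' [χ_T, ψ'] [ψ'_N, θ]`. -/
theorem rr_eq_sum [Fintype (IrrCharacter T)] (χ : IrrCharacter G) (θ : IrrCharacter N) :
    rr N χ θ = ∑ ψ' : IrrCharacter T, aa T χ ψ' * cc N T hNT ψ' θ := by
  have hcf : IsClassFunction T (fun t : T => (χ : G → ℂ) t) :=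
    isClassFunction_of_isCharacter (isCharacter_restrict T (isCharacter_of_irr χ.2))
  have hexp := classFunction_expansion (fun t : T => (χ : G → ℂ) t) hcf
  have h1 : (fun n : N => (χ : G → ℂ) n) = ∑ ψ' : IrrCharacter T,
      classInner (fun t : T => (χ : G → ℂ) t) (ψ' : T → ℂ) • resTo N T hNT (ψ' : T → ℂ) := by
    funext n
    have := congrFun hexp ⟨(n : G), hNT n.2⟩
    simp only [Finset.sum_apply, Pi.smul_apply, smul_eq_mul] at this ⊢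
    exact this
  have h2 : (rr N χ θ : ℂ) = ((∑ ψ' : IrrCharacter T, aa T χ ψ' * cc N T hNT ψ' θ : ℕ) : ℂ) := by
    rw [← rr_spec, h1, classInner_sum_left]
    push_cast
    refine Finset.sum_congr rfl (fun ψ' _ => ?_)
    rw [classInner_smul_left, aa_spec, cc_spec]
  exact_mod_cast h2

/-- `[ψ^G, χ] = [χ_T, ψ]`. -/
theorem classInner_indFun_irr (ψ : IrrCharacter T) (χ : IrrCharacter G) :
    classInner (indFun T (ψ : T → ℂ)) (χ : G → ℂ) = (aa T χ ψ : ℂ) := by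
  rw [frobenius_reciprocity T _ _ (irr_isClassFunction χ), ← classInner_conj_symm, aa_spec,
    Complex.conj_natCast]

/-- `ψ^G = Σ_χ [χ_T, ψ] χ`. -/
theorem indFun_eq_sum [Fintype (IrrCharacter G)] (ψ : IrrCharacter T) :
    indFun T (ψ : T → ℂ) = ∑ χ : IrrCharacter G, (aa T χ ψ : ℂ) • (χ : G → ℂ) := by
  have hcf : IsClassFunction G (indFun T (ψ : T → ℂ)) :=
    isClassFunction_of_isCharacter (isCharacter_indFun T (isCharacter_of_irr ψ.2))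
  have hexp := classFunction_expansion (indFun T (ψ : T → ℂ)) hcf
  conv_lhs => rw [hexp]
  refine Finset.sum_congr rfl (fun χ _ => ?_)
  rw [classInner_indFun_irr]

/-- `[(ψ^G)_N, θ] = Σ_χ [χ_T, ψ] [χ_N, θ]`. -/
theorem classInner_restrict_indFun_eq [Fintype (IrrCharacter G)] (ψ : IrrCharacter T)
    (θ : IrrCharacter N) :
    classInner (fun n : N => indFun T (ψ : T → ℂ) (n : G)) (θ : N → ℂ) =
      ((∑ χ : IrrCharacter G, aa T χ ψ * rr N χ θ : ℕ) : ℂ) := by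
  have h1 : (fun n : N => indFun T (ψ : T → ℂ) (n : G)) = ∑ χ : IrrCharacter G,
      (aa T χ ψ : ℂ) • (fun n : N => (χ : G → ℂ) n) := by
    funext n
    have := congrFun (indFun_eq_sum T ψ) (n : G)
    simp only [Finset.sum_apply, Pi.smul_apply, smul_eq_mul] at this ⊢
    exact this
  rw [h1, classInner_sum_left]
  push_cast
  refine Finset.sum_congr rfl (fun χ _ => ?_)
  rw [classInner_smul_left, rr_spec]

variable (b : Set (IrrCharacter N))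

/-- Key identity: for `ψ ∈ Irr(T | b)` and `θ ∈ b`, `[ψ_N, θ] = Σ_χ [χ_T, ψ] [χ_N, θ]`. -/
theorem cc_eq_sum [Fintype (IrrCharacter G)] (hTb : ∀ g ∈ T, ∀ θ ∈ b, conjIrr N θ g ∈ b)
    (hdisj : ∀ g : G, g ∉ T → ∀ θ ∈ b, conjIrr N θ g ∉ b)
    (ψ : IrrCharacter T) (hψ : OverB N T hNT b ψ) (θ : IrrCharacter N) (hθ : θ ∈ b) :
    cc N T hNT ψ θ = ∑ χ : IrrCharacter G, aa T χ ψ * rr N χ θ := by
  have h1 := classInner_restrict_indFun_of_mem N T hNT b hTb hdisj ψ hψ θ hθ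
  rw [classInner_restrict_indFun_eq N T ψ θ, cc_spec] at h1
  exact_mod_cast h1.symm

/-- **(A)** For `ψ ∈ Irr(T | b)`, `ψ^G` is irreducible; more precisely `[χ_T, ψ] = δ_{χ, χ₀}`. -/
theorem exists_irr_eq_indFun (hTb : ∀ g ∈ T, ∀ θ ∈ b, conjIrr N θ g ∈ b)
    (hdisj : ∀ g : G, g ∉ T → ∀ θ ∈ b, conjIrr N θ g ∉ b)
    (ψ : IrrCharacter T) (hψ : OverB N T hNT b ψ) :
    ∃ χ₀ : IrrCharacter G, (χ₀ : G → ℂ) = indFun T (ψ : T → ℂ) ∧ aa T χ₀ ψ = 1 ∧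
      ∀ χ : IrrCharacter G, χ ≠ χ₀ → aa T χ ψ = 0 := by
  classical
  haveI := Fintype.ofFinite (IrrCharacter G)
  haveI := Fintype.ofFinite (IrrCharacter T)
  obtain ⟨θ, hθ, hne⟩ := hψ
  have hψ' : OverB N T hNT b ψ := ⟨θ, hθ, hne⟩
  have hc0 : cc N T hNT ψ θ ≠ 0 := by
    intro h0
    apply hne
    rw [cc_spec, h0, Nat.cast_zero]
  have h1 := cc_eq_sum N T hNT b hTb hdisj ψ hψ' θ hθ
  -- lower bound
  have h2 : ∀ χ : IrrCharacter G, aa T χ ψ * cc N T hNT ψ θ ≤ rr N χ θ := by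
    intro χ
    rw [rr_eq_sum N T hNT χ θ]
    exact Finset.single_le_sum (f := fun ψ' => aa T χ ψ' * cc N T hNT ψ' θ)
      (fun _ _ => Nat.zero_le _) (Finset.mem_univ ψ)
  have h3 : (∑ χ : IrrCharacter G, aa T χ ψ * aa T χ ψ) * cc N T hNT ψ θ ≤ cc N T hNT ψ θ := by
    conv_rhs => rw [h1]
    rw [Finset.sum_mul]
    refine Finset.sum_le_sum (fun χ _ => ?_)
    rw [mul_assoc]
    exact Nat.mul_le_mul_left _ (h2 χ)
  have h4 : ∑ χ : IrrCharacter G, aa T χ ψ * aa T χ ψ ≤ 1 := by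
    by_contra hcon
    push Not at hcon
    have : 2 * cc N T hNT ψ θ ≤ (∑ χ : IrrCharacter G, aa T χ ψ * aa T χ ψ) * cc N T hNT ψ θ :=
      Nat.mul_le_mul_right _ hcon
    omega
  -- some coefficient is nonzero
  have h5 : ∃ χ₀ : IrrCharacter G, aa T χ₀ ψ ≠ 0 := by
    by_contra hcon
    push Not at hcon
    have h6 := indFun_eq_sum T ψ
    have h7 : indFun T (ψ : T → ℂ) 1 = 0 := by
      rw [h6]
      simp [hcon]
    rw [indFun_apply_one] at h7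
    rcases mul_eq_zero.1 h7 with h8 | h8
    · have : T.index ≠ 0 := Subgroup.index_ne_zero_of_finite
      exact this (by exact_mod_cast h8)
    · exact irr_one_ne_zero ψ h8
  obtain ⟨χ₀, hχ₀⟩ := h5
  have h6 : aa T χ₀ ψ * aa T χ₀ ψ ≤ ∑ χ : IrrCharacter G, aa T χ ψ * aa T χ ψ :=
    Finset.single_le_sum (f := fun χ => aa T χ ψ * aa T χ ψ) (fun _ _ => Nat.zero_le _)
      (Finset.mem_univ χ₀)
  have h7 : aa T χ₀ ψ = 1 := by
    have : aa T χ₀ ψ * aa T χ₀ ψ ≤ 1 := h6.trans h4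
    have h8 : 1 ≤ aa T χ₀ ψ := Nat.one_le_iff_ne_zero.2 hχ₀
    nlinarith
  have h8 : ∀ χ : IrrCharacter G, χ ≠ χ₀ → aa T χ ψ = 0 := by
    intro χ hχ
    by_contra hne0
    have h9 : aa T χ₀ ψ * aa T χ₀ ψ + aa T χ ψ * aa T χ ψ ≤
        ∑ χ : IrrCharacter G, aa T χ ψ * aa T χ ψ := by
      have := Finset.add_le_sum (f := fun χ => aa T χ ψ * aa T χ ψ) (s := Finset.univ)
        (fun _ _ => Nat.zero_le _) (Finset.mem_univ χ₀) (Finset.mem_univ χ) hχ.symm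
      exact this
    have h10 : 1 ≤ aa T χ ψ := Nat.one_le_iff_ne_zero.2 hne0
    rw [h7] at h9
    nlinarith
  refine ⟨χ₀, ?_, h7, h8⟩
  rw [indFun_eq_sum T ψ, Finset.sum_eq_single χ₀]
  · rw [h7, Nat.cast_one, one_smul]
  · intro χ _ hχ
    rw [h8 χ hχ, Nat.cast_zero, zero_smul]
  · intro h; exact absurd (Finset.mem_univ _) h

/-- **(B)** `ψ` is the only constituent of `(ψ^G)_T` over `b`. -/
theorem restrict_indFun_unique (hTb : ∀ g ∈ T, ∀ θ ∈ b, conjIrr N θ g ∈ b)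
    (hdisj : ∀ g : G, g ∉ T → ∀ θ ∈ b, conjIrr N θ g ∉ b)
    (ψ : IrrCharacter T) (hψ : OverB N T hNT b ψ) (χ₀ : IrrCharacter G)
    (hχ₀ : (χ₀ : G → ℂ) = indFun T (ψ : T → ℂ))
    (ψ' : IrrCharacter T) (hψ' : OverB N T hNT b ψ') (ha : aa T χ₀ ψ' ≠ 0) : ψ' = ψ := by
  classical
  haveI := Fintype.ofFinite (IrrCharacter G)
  haveI := Fintype.ofFinite (IrrCharacter T)
  obtain ⟨χ₁, hχ₁, h1, h2⟩ := exists_irr_eq_indFun N T hNT b hTb hdisj ψ hψ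
  have hχ : χ₁ = χ₀ := Subtype.ext (hχ₁.trans hχ₀.symm)
  subst hχ
  obtain ⟨θ', hθ', hne'⟩ := hψ'
  have hc' : cc N T hNT ψ' θ' ≠ 0 := by
    intro h0
    apply hne'
    rw [cc_spec, h0, Nat.cast_zero]
  by_contra hne
  have h3 := cc_eq_sum N T hNT b hTb hdisj ψ hψ θ' hθ'
  rw [Finset.sum_eq_single χ₁ (fun χ _ hχ => by rw [h2 χ hχ, zero_mul])
    (fun h => absurd (Finset.mem_univ _) h), h1, one_mul, rr_eq_sum N T hNT χ₁ θ'] at h3
  have h4 := Finset.add_le_sum (f := fun ψ'' => aa T χ₁ ψ'' * cc N T hNT ψ'' θ')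
    (s := Finset.univ) (fun _ _ => Nat.zero_le _) (Finset.mem_univ ψ) (Finset.mem_univ ψ')
    (fun h => hne h.symm)
  rw [← h3, h1, one_mul] at h4
  have h5 : 0 < aa T χ₁ ψ' * cc N T hNT ψ' θ' :=
    Nat.mul_pos (Nat.pos_of_ne_zero ha) (Nat.pos_of_ne_zero hc')
  omega

/-- **(C)** Every `χ ∈ Irr(G | b)` is induced from some `ψ ∈ Irr(T | b)`. -/
theorem exists_over (hTb : ∀ g ∈ T, ∀ θ ∈ b, conjIrr N θ g ∈ b)
    (hdisj : ∀ g : G, g ∉ T → ∀ θ ∈ b, conjIrr N θ g ∉ b)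
    (χ : IrrCharacter G) (θ : IrrCharacter N) (hθ : θ ∈ b)
    (hne : classInner (fun n : N => (χ : G → ℂ) n) (θ : N → ℂ) ≠ 0) :
    ∃ ψ : IrrCharacter T, classInner (resTo N T hNT (ψ : T → ℂ)) (θ : N → ℂ) ≠ 0 ∧
      (χ : G → ℂ) = indFun T (ψ : T → ℂ) := by
  classical
  haveI := Fintype.ofFinite (IrrCharacter G)
  haveI := Fintype.ofFinite (IrrCharacter T)
  have hr : rr N χ θ ≠ 0 := by
    intro h0
    apply hne
    rw [rr_spec, h0, Nat.cast_zero]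
  rw [rr_eq_sum N T hNT χ θ] at hr
  obtain ⟨ψ, -, hψ⟩ := Finset.exists_ne_zero_of_sum_ne_zero hr
  have ha : aa T χ ψ ≠ 0 := fun h => hψ (by rw [h, zero_mul])
  have hc : cc N T hNT ψ θ ≠ 0 := fun h => hψ (by rw [h, mul_zero])
  have hcne : classInner (resTo N T hNT (ψ : T → ℂ)) (θ : N → ℂ) ≠ 0 := by
    rw [cc_spec]; exact_mod_cast hc
  refine ⟨ψ, hcne, ?_⟩
  obtain ⟨χ₀, hχ₀, -, h2⟩ := exists_irr_eq_indFun N T hNT b hTb hdisj ψ ⟨θ, hθ, hcne⟩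
  have : χ = χ₀ := by
    by_contra hne'
    exact ha (h2 χ hne')
  rw [this, hχ₀]

/-- **(D)** Induction is injective on `Irr(T | b)`. -/
theorem indFun_injOn (hTb : ∀ g ∈ T, ∀ θ ∈ b, conjIrr N θ g ∈ b)
    (hdisj : ∀ g : G, g ∉ T → ∀ θ ∈ b, conjIrr N θ g ∉ b)
    (ψ ψ' : IrrCharacter T) (hψ : OverB N T hNT b ψ) (hψ' : OverB N T hNT b ψ')
    (h : indFun T (ψ : T → ℂ) = indFun T (ψ' : T → ℂ)) : ψ' = ψ := by
  obtain ⟨χ₀, hχ₀, -, -⟩ := exists_irr_eq_indFun N T hNT b hTb hdisj ψ hψ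
  obtain ⟨χ₁, hχ₁, h1, -⟩ := exists_irr_eq_indFun N T hNT b hTb hdisj ψ' hψ'
  have : χ₁ = χ₀ := Subtype.ext (hχ₁.trans (h.symm.trans hχ₀.symm))
  subst this
  exact restrict_indFun_unique N T hNT b hTb hdisj ψ hψ χ₁ hχ₀ ψ' hψ' (by rw [h1]; exact one_ne_zero)

end Cfsg.Agent.Lib.H23.FR
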