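import Mathlib
import Cfsg.Prelude.Def_Blocks
import Cfsg.Agent.Lib.H23.FRCliff2
import Cfsg.Agent.Lib.H23.BlockEquiv
import Cfsg.Agent.Lib.H23.BlockFong
import Cfsg.Agent.Lib.H24.GoodClasses
import Cfsg.Agent.Lib.L0.CharCentral
import Cfsg.Agent.Lib.H23.DegreeDvd
import Cfsg.Agent.Lib.H23.BlockDefectGroups

/-!
# Fong–Reynolds: the block part

`N ⊴ G`, `b` a block of `N`, `T` its stabilizer.  A block `B'` of `T` covering `b` consists of
characters over `b`; the induced characters form a block of `G`.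
-/

set_option autoImplicit false

namespace Cfsg.Agent.Lib.H23.FR

open Cfsg Cfsg.Agent.Lib.H23 Cfsg.Agent.Lib.H24 Cfsg.Agent.Lib.L0
open scoped ComplexConjugate

variable {G : Type*} [Group G] [Fintype G] (N T : Subgroup G) [hN : N.Normal] [Fintype N]
  [Fintype T] (hNT : N ≤ T) {p : ℕ} {M : Ideal AlgInt}

omit [Fintype G] [Fintype N] [Fintype T] in
/-- A block containing `θ` is the block of `θ`. -/
theorem isPBlock_eq_blockOf [M.IsPrime] {K : Type*} [Group K] {b : Set (IrrCharacter K)}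
    (hb : IsPBlock M b) {θ : IrrCharacter K} (hθ : θ ∈ b) : b = blockOf M (θ : K → ℂ) := by
  obtain ⟨θ₀, rfl⟩ := hb
  ext φ
  constructor
  · intro hφ
    exact sameBlock_trans (sameBlock_symm hθ) hφ
  · intro hφ
    exact sameBlock_trans hθ hφ

/-- **Claim 1.** Same-block characters of `T`: if one lies over `b`, so does the other. -/
theorem overB_of_sameBlock (hM : IsPModular p M) (b : Set (IrrCharacter N)) (hb : IsPBlock M b)
    (hTb : ∀ g ∈ T, ∀ θ ∈ b, conjIrr N θ g ∈ b)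
    (ψ ψ' : IrrCharacter T) (hs : SameBlock M (ψ : T → ℂ) (ψ' : T → ℂ))
    (hψ : OverB N T hNT b ψ) : OverB N T hNT b ψ' := by
  classical
  haveI hP := isPrime_of_isPModular hM
  obtain ⟨θ, hθ, hne⟩ := hψ
  haveI hN' : (N.subgroupOf T).Normal := Subgroup.normal_subgroupOf
  haveI : Fintype (N.subgroupOf T) := Fintype.ofFinite _
  let e : N.subgroupOf T ≃* N := Subgroup.subgroupOfEquivOfLe hNT
  have he : ∀ n' : N.subgroupOf T, ((e n' : N) : G) = ((n' : T) : G) := fun n' => rfl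
  have hres : ∀ φ : IrrCharacter T, (fun n' : N.subgroupOf T => (φ : T → ℂ) n') =
      (resTo N T hNT (φ : T → ℂ)) ∘ e := by
    intro φ
    funext n'
    rfl
  have hin : ∀ (φ : IrrCharacter T) (ϑ : IrrCharacter N),
      classInner (fun n' : N.subgroupOf T => (φ : T → ℂ) n') (irrEquiv e ϑ : N.subgroupOf T → ℂ) =
        classInner (resTo N T hNT (φ : T → ℂ)) (ϑ : N → ℂ) := by
    intro φ ϑ
    rw [hres φ]
    exact classInner_comp_equiv e _ _
  obtain ⟨θ₂', hθ₂'⟩ := exists_constituent_restrict (N.subgroupOf T) ψ'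
  have h1 : classInner (fun n' : N.subgroupOf T => (ψ : T → ℂ) n')
      (irrEquiv e θ : N.subgroupOf T → ℂ) ≠ 0 := by
    rw [hin]; exact hne
  obtain ⟨t, ht⟩ := exists_conj_mem_of_sameBlock (N.subgroupOf T) hM ψ ψ' hs (irrEquiv e θ) θ₂'
    h1 hθ₂'
  set θ₂ : IrrCharacter N := (irrEquiv e).symm θ₂' with hθ₂
  have h2 : conjIrr (N.subgroupOf T) θ₂' t = irrEquiv e (conjIrr N θ₂ (t : G)) := by
    apply Subtype.ext
    funext n'
    rw [conjIrr_apply, irrEquiv_apply, conjIrr_apply, hθ₂, irrEquiv_symm_apply]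
    refine congrArg (θ₂' : N.subgroupOf T → ℂ) ?_
    apply e.injective
    rw [MulEquiv.apply_symm_apply]
    rfl
  rw [h2, irrEquiv_mem_blockOf_iff, ← isPBlock_eq_blockOf hb hθ] at ht
  have h3 := hTb (t : G)⁻¹ (T.inv_mem t.2) _ ht
  rw [conjIrr_inv_cancel] at h3
  refine ⟨θ₂, h3, ?_⟩
  rw [← hin ψ' θ₂, hθ₂, Equiv.apply_symm_apply]
  exact hθ₂'

/-- The characters of `G` induced from members of `B'`. -/
def indSet (B' : Set (IrrCharacter T)) : Set (IrrCharacter G) :=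
  {χ | ∃ ψ ∈ B', (χ : G → ℂ) = indFun T (ψ : T → ℂ)}

omit [Fintype N] hN in
/-- The idempotent of the induced set is the trace of the idempotent of `B'`. -/
theorem blockCoeff_indSet (B' : Set (IrrCharacter T))
    (hirr : ∀ ψ ∈ B', IsIrrCharacter G (indFun T (ψ : T → ℂ)))
    (hinj : ∀ ψ ∈ B', ∀ ψ' ∈ B', indFun T (ψ : T → ℂ) = indFun T (ψ' : T → ℂ) → ψ = ψ')
    (g : G) :
    blockCoeff (indSet T B') g =
      (Nat.card T : ℂ)⁻¹ * ∑ x : G, extendByZero T (blockCoeff B') (x⁻¹ * g * x) := by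
  classical
  haveI := Fintype.ofFinite (IrrCharacter G)
  haveI := Fintype.ofFinite (IrrCharacter T)
  rw [blockCoeff_eq_sum]
  have h1 : ∑ χ : IrrCharacter G,
      (if χ ∈ indSet T B' then (χ : G → ℂ) 1 * conj ((χ : G → ℂ) g) else 0) =
      ∑ ψ : IrrCharacter T, if ψ ∈ B' then
        indFun T (ψ : T → ℂ) 1 * conj (indFun T (ψ : T → ℂ) g) else 0 := by
    rw [← Finset.sum_filter, ← Finset.sum_filter]
    symm
    refine Finset.sum_bij
      (fun ψ hψ => ⟨indFun T (ψ : T → ℂ), hirr ψ (Finset.mem_filter.mp hψ).2⟩) ?_ ?_ ?_ ?_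
    · intro ψ hψ
      exact Finset.mem_filter.mpr ⟨Finset.mem_univ _, ψ, (Finset.mem_filter.mp hψ).2, rfl⟩
    · intro ψ hψ ψ' hψ' h
      exact hinj ψ (Finset.mem_filter.mp hψ).2 ψ' (Finset.mem_filter.mp hψ').2
        (congrArg Subtype.val h)
    · intro χ hχ
      obtain ⟨ψ, hψ, h⟩ := (Finset.mem_filter.mp hχ).2
      exact ⟨ψ, Finset.mem_filter.mpr ⟨Finset.mem_univ _, hψ⟩, Subtype.ext h.symm⟩
    · intro ψ hψ
      rfl
  rw [h1]
  have h2 : ∀ y : G, extendByZero T (blockCoeff B') y = (Nat.card T : ℂ)⁻¹ *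
      ∑ ψ : IrrCharacter T, if ψ ∈ B' then
        (ψ : T → ℂ) 1 * conj (extendByZero T (ψ : T → ℂ) y) else 0 := by
    intro y
    by_cases hy : y ∈ T
    · rw [extendByZero_apply_of_mem T _ hy, blockCoeff_eq_sum]
      congr 1
      refine Finset.sum_congr rfl fun ψ _ => ?_
      rw [extendByZero_apply_of_mem T _ hy]
    · rw [extendByZero_apply_not_mem T _ hy]
      symm
      rw [mul_eq_zero]
      right
      refine Finset.sum_eq_zero fun ψ _ => ?_
      rw [extendByZero_apply_not_mem T _ hy, map_zero, mul_zero, ite_self]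
  simp only [h2]
  rw [← Finset.mul_sum, Finset.sum_comm]
  have hT0 : (Nat.card T : ℂ) ≠ 0 := Nat.cast_ne_zero.mpr Nat.card_pos.ne'
  have hG0 : (Nat.card G : ℂ) ≠ 0 := Nat.cast_ne_zero.mpr Nat.card_pos.ne'
  have hidx : (Nat.card G : ℂ) = (Nat.card T : ℂ) * (T.index : ℂ) := by
    exact_mod_cast (T.card_mul_index).symm
  rw [Finset.mul_sum, Finset.mul_sum, Finset.mul_sum]
  refine Finset.sum_congr rfl fun ψ _ => ?_
  by_cases hψ : ψ ∈ B'
  · simp only [if_pos hψ]
    rw [indFun_apply_one, indFun_apply, map_mul, map_inv₀, Complex.conj_natCast, map_sum,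
      ← Finset.mul_sum, hidx]
    have hI0 : (T.index : ℂ) ≠ 0 := by
      intro h0
      rw [h0, mul_zero] at hidx
      exact hG0 hidx
    field_simp
  · simp only [if_neg hψ, Finset.sum_const_zero, mul_zero]

omit [Fintype N] hN in
/-- The trace from `T` to `G` of a `T`-invariant local-integer valued function has local-integer
values. -/
theorem memLocalRing_trace [hP : M.IsPrime] (f : G → ℂ) (hf : ∀ y, MemLocalRing M (f y))
    (hfT : ∀ y : G, ∀ t ∈ T, f (t⁻¹ * y * t) = f y) (g : G) :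
    MemLocalRing M ((Nat.card T : ℂ)⁻¹ * ∑ x : G, f (x⁻¹ * g * x)) := by
  classical
  haveI : Fintype (G ⧸ T) := Fintype.ofFinite _
  set F : G ⧸ T → ℂ := fun q => f ((Quotient.out q)⁻¹ * g * Quotient.out q) with hF
  have h1 : ∀ x : G, f (x⁻¹ * g * x) = F (x : G ⧸ T) := by
    intro x
    have hx : (Quotient.out (x : G ⧸ T))⁻¹ * x ∈ T := by
      rw [← QuotientGroup.eq]
      exact QuotientGroup.out_eq' _
    have := hfT ((Quotient.out (x : G ⧸ T))⁻¹ * g * Quotient.out (x : G ⧸ T)) _ hx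
    rw [hF]
    show _ = f ((Quotient.out (x : G ⧸ T))⁻¹ * g * Quotient.out (x : G ⧸ T))
    rw [← this]
    congr 1
    group
  rw [Finset.sum_congr rfl fun x _ => h1 x, sum_comp_mk]
  have hT0 : (Nat.card T : ℂ) ≠ 0 := Nat.cast_ne_zero.mpr Nat.card_pos.ne'
  rw [← mul_assoc, inv_mul_cancel₀ hT0, one_mul]
  exact memLocalRing_sum _ _ fun q _ => hf _

/-- **Fong–Reynolds, block part.** The characters induced from the block of `ψ₀ ∈ Irr(T | b)` form
the block of `ψ₀^G`. -/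
theorem indSet_blockOf_eq (hM : IsPModular p M) (b : Set (IrrCharacter N)) (hb : IsPBlock M b)
    (hTb : ∀ g ∈ T, ∀ θ ∈ b, conjIrr N θ g ∈ b)
    (hdisj : ∀ g : G, g ∉ T → ∀ θ ∈ b, conjIrr N θ g ∉ b)
    (ψ₀ : IrrCharacter T) (hψ₀ : OverB N T hNT b ψ₀) (χ₀ : IrrCharacter G)
    (hχ₀ : (χ₀ : G → ℂ) = indFun T (ψ₀ : T → ℂ)) :
    indSet T (blockOf M (ψ₀ : T → ℂ)) = blockOf M (χ₀ : G → ℂ) := by
  classical
  haveI hP := isPrime_of_isPModular hM
  have hover : ∀ ψ ∈ blockOf M (ψ₀ : T → ℂ), OverB N T hNT b ψ := fun ψ hψ =>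
    overB_of_sameBlock N T hNT hM b hb hTb ψ₀ ψ hψ hψ₀
  have hirr : ∀ ψ ∈ blockOf M (ψ₀ : T → ℂ), IsIrrCharacter G (indFun T (ψ : T → ℂ)) := by
    intro ψ hψ
    obtain ⟨χ, hχ, -, -⟩ := exists_irr_eq_indFun N T hNT b hTb hdisj ψ (hover ψ hψ)
    rw [← hχ]; exact χ.2
  have hinj : ∀ ψ ∈ blockOf M (ψ₀ : T → ℂ), ∀ ψ' ∈ blockOf M (ψ₀ : T → ℂ),
      indFun T (ψ : T → ℂ) = indFun T (ψ' : T → ℂ) → ψ = ψ' := by
    intro ψ hψ ψ' hψ' h
    exact (indFun_injOn N T hNT b hTb hdisj ψ ψ' (hover ψ hψ) (hover ψ' hψ') h).symm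
  apply Set.Subset.antisymm
  · rintro χ ⟨ψ, hψ, hχ⟩
    intro g
    rw [hχ₀, hχ, ← inducedCentralChar_eq, ← inducedCentralChar_eq]
    exact inducedCentralChar_sub_memLocalIdeal T hψ g
  · apply subset_of_memLocalRing_blockCoeff
    · intro g
      rw [blockCoeff_indSet T _ hirr hinj]
      apply memLocalRing_trace
      · intro y
        by_cases hy : y ∈ T
        · rw [extendByZero_apply_of_mem T _ hy]; exact memLocalRing_blockCoeff hM ψ₀ _
        · rw [extendByZero_apply_not_mem T _ hy]; exact memLocalRing_zero hP.ne_top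
      · intro y t ht
        by_cases hy : y ∈ T
        · have hy' : t⁻¹ * y * t ∈ T := T.mul_mem (T.mul_mem (T.inv_mem ht) hy) ht
          rw [extendByZero_apply_of_mem T _ hy, extendByZero_apply_of_mem T _ hy']
          have := blockCoeff_conj (blockOf M (ψ₀ : T → ℂ)) ⟨y, hy⟩ ⟨t⁻¹, T.inv_mem ht⟩
          rw [← this]
          congr 1
          apply Subtype.ext
          simp
        · have hy' : t⁻¹ * y * t ∉ T := by
            intro h
            apply hy
            have : y = t * (t⁻¹ * y * t) * t⁻¹ := by group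
            rw [this]
            exact T.mul_mem (T.mul_mem ht h) (T.inv_mem ht)
          rw [extendByZero_apply_not_mem T _ hy, extendByZero_apply_not_mem T _ hy']
    · exact ⟨ψ₀, sameBlock_refl _, hχ₀⟩

omit [Fintype N] hN in
/-- If `ψ₀^G = χ₀` is irreducible, the block of `ψ₀` induces the block of `χ₀`. -/
theorem isInducedBlock_of_indFun_eq [hP : M.IsPrime] (ψ₀ : IrrCharacter T) (χ₀ : IrrCharacter G)
    (hχ₀ : (χ₀ : G → ℂ) = indFun T (ψ₀ : T → ℂ)) :
    IsInducedBlock M T (blockOf M (ψ₀ : T → ℂ)) (blockOf M (χ₀ : G → ℂ)) := by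
  refine ⟨⟨ψ₀, rfl⟩, ⟨χ₀, rfl⟩, fun ξ hξ χ hχ g => ?_⟩
  have h1 := inducedCentralChar_sub_memLocalIdeal T (sameBlock_symm hξ) g
  have h2 := hχ g
  rw [hχ₀, ← inducedCentralChar_eq] at h2
  have := memLocalIdeal_add h1 h2
  rwa [sub_add_sub_cancel] at this

omit [Fintype G] [Fintype N] in
/-- The two properties of the stabilizer used throughout. -/
theorem stab_props [hP : M.IsPrime] (b : Set (IrrCharacter N)) (hb : IsPBlock M b)
    (hT : ∀ g : G, g ∈ T ↔ ∀ θ ∈ b, ∀ θ' : IrrCharacter N,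
      (∀ n : N, (θ' : N → ℂ) n = (θ : N → ℂ) ⟨g * n * g⁻¹, hN.conj_mem n n.2 g⟩) → θ' ∈ b) :
    (∀ g ∈ T, ∀ θ ∈ b, conjIrr N θ g ∈ b) ∧ (∀ g : G, g ∉ T → ∀ θ ∈ b, conjIrr N θ g ∉ b) := by
  constructor
  · intro g hg θ hθ
    exact (hT g).1 hg θ hθ (conjIrr N θ g) (fun n => conjIrr_apply N θ g n)
  · intro g hg θ hθ hcon
    apply hg
    rw [hT g]
    intro θ₁ hθ₁ θ' hθ'
    have h1 : θ' = conjIrr N θ₁ g := by
      apply Subtype.ext
      funext n
      rw [hθ' n, conjIrr_apply]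
    rw [h1]
    have hb1 := isPBlock_eq_blockOf hb hθ
    have hb2 := isPBlock_eq_blockOf hb hcon
    have h2 : SameBlock M (θ : N → ℂ) (θ₁ : N → ℂ) := by
      rw [hb1] at hθ₁; exact hθ₁
    have h3 := sameBlock_conjIrr N h2 g
    rw [hb2]
    exact h3

omit [Fintype N] hN in
theorem charDegree_indFun (ψ : IrrCharacter T) :
    charDegree (indFun T (ψ : T → ℂ)) = T.index * charDegree (ψ : T → ℂ) := by
  apply charDegree_eq_of_apply_one
  rw [indFun_apply_one, apply_one_eq_charDegree _ ψ.2]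
  push_cast
  rfl

omit [Fintype N] hN in
/-- Minimal `p`-part of degrees in the induced set. -/
theorem minDeg_indSet [Fact p.Prime] (B' : Set (IrrCharacter T)) (hne : B'.Nonempty)
    (hirr : ∀ ψ ∈ B', IsIrrCharacter G (indFun T (ψ : T → ℂ))) :
    sInf ((fun χ : IrrCharacter G => (charDegree (χ : G → ℂ)).factorization p) '' indSet T B') =
      T.index.factorization p +
        sInf ((fun ψ : IrrCharacter T => (charDegree (ψ : T → ℂ)).factorization p) '' B') := by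
  have hidx0 : T.index ≠ 0 := Subgroup.index_ne_zero_of_finite
  have hdeg : ∀ ψ : IrrCharacter T, (charDegree (indFun T (ψ : T → ℂ))).factorization p =
      T.index.factorization p + (charDegree (ψ : T → ℂ)).factorization p := by
    intro ψ
    rw [charDegree_indFun, Nat.factorization_mul hidx0 (charDegree_pos _ ψ.2).ne']
    rfl
  have hne' : ((fun ψ : IrrCharacter T => (charDegree (ψ : T → ℂ)).factorization p) '' B').Nonempty :=
    hne.image _
  apply le_antisymm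
  · obtain ⟨ψ, hψ, hm⟩ := Nat.sInf_mem hne'
    rw [← hm]
    refine Nat.sInf_le ⟨⟨indFun T (ψ : T → ℂ), hirr ψ hψ⟩, ⟨ψ, hψ, rfl⟩, ?_⟩
    exact hdeg ψ
  · obtain ⟨ψ₁, hψ₁⟩ := hne
    have hS : ((fun χ : IrrCharacter G => (charDegree (χ : G → ℂ)).factorization p) ''
        indSet T B').Nonempty :=
      ⟨_, ⟨indFun T (ψ₁ : T → ℂ), hirr ψ₁ hψ₁⟩, ⟨ψ₁, hψ₁, rfl⟩, rfl⟩
    refine le_csInf hS ?_
    rintro _ ⟨χ, ⟨ψ, hψ, hχ⟩, rfl⟩
    show _ ≤ (charDegree (χ : G → ℂ)).factorization p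
    rw [hχ, hdeg ψ]
    exact Nat.add_le_add_left (Nat.sInf_le (Set.mem_image_of_mem _ hψ)) _

end Cfsg.Agent.Lib.H23.FR
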