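import Mathlib
import Cfsg.Prelude.Def_Blocks
import Cfsg.Agent.Lib.H23.FRBlock
import Cfsg.Agent.Lib.H23.BlockCoveringCentral
import Cfsg.Agent.Lib.H23.BlockVanishP

/-!
# Fong–Reynolds and defects

* `blockDefect_indFun`: the Fong–Reynolds correspondence preserves the defect;
* `blockDefect_blockOf_irrEquiv`: transport of the defect along a group isomorphism;
* `blockDefect_of_over`: `H ⊴ L`, `b` a block of `H`, `T` its stabilizer, `P ⊴ L` a `p`-subgroup with
  `C_L(P) ≤ H`; every block of `L` covering `b` has defect `d(b) + ν_p |T : H|`.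
-/

set_option autoImplicit false

namespace Cfsg.Agent.Lib.H23.FR

open Cfsg Cfsg.Agent.Lib.H23 Cfsg.Agent.Lib.H24 Cfsg.Agent.Lib.L0
open scoped ComplexConjugate

section Defect

variable {G : Type*} [Group G] [Fintype G] (N T : Subgroup G) [hN : N.Normal] [Fintype N]
  [Fintype T] (hNT : N ≤ T) {p : ℕ} {M : Ideal AlgInt}

/-- The Fong–Reynolds correspondence preserves defects. -/
theorem blockDefect_indFun [Fact p.Prime] (hM : IsPModular p M) (b : Set (IrrCharacter N))
    (hb : IsPBlock M b)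
    (hTb : ∀ g ∈ T, ∀ θ ∈ b, conjIrr N θ g ∈ b)
    (hdisj : ∀ g : G, g ∉ T → ∀ θ ∈ b, conjIrr N θ g ∉ b)
    (ψ₀ : IrrCharacter T) (hψ₀ : OverB N T hNT b ψ₀) (χ₀ : IrrCharacter G)
    (hχ₀ : (χ₀ : G → ℂ) = indFun T (ψ₀ : T → ℂ)) :
    blockDefect p (blockOf M (χ₀ : G → ℂ)) = blockDefect p (blockOf M (ψ₀ : T → ℂ)) := by
  classical
  haveI hP := isPrime_of_isPModular hM
  have hset := indSet_blockOf_eq N T hNT hM b hb hTb hdisj ψ₀ hψ₀ χ₀ hχ₀
  have hover : ∀ ψ ∈ blockOf M (ψ₀ : T → ℂ), OverB N T hNT b ψ := fun ψ hψ =>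
    overB_of_sameBlock N T hNT hM b hb hTb ψ₀ ψ hψ hψ₀
  have hirr : ∀ ψ ∈ blockOf M (ψ₀ : T → ℂ), IsIrrCharacter G (indFun T (ψ : T → ℂ)) := by
    intro ψ hψ
    obtain ⟨χ, hχ, -, -⟩ := exists_irr_eq_indFun N T hNT b hTb hdisj ψ (hover ψ hψ)
    rw [← hχ]; exact χ.2
  have hmin := minDeg_indSet (p := p) T (blockOf M (ψ₀ : T → ℂ)) ⟨ψ₀, mem_blockOf_self ψ₀⟩ hirr
  rw [hset] at hmin
  have hidx0 : T.index ≠ 0 := Subgroup.index_ne_zero_of_finite
  unfold blockDefect
  rw [hmin]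
  have : (Nat.card G).factorization p =
      (Nat.card T).factorization p + T.index.factorization p := by
    rw [← T.card_mul_index, Nat.factorization_mul Nat.card_pos.ne' hidx0]
    rfl
  omega

end Defect

section Transport

variable {A B : Type*} [Group A] [Group B] [Fintype A] [Fintype B] (e : A ≃* B) {p : ℕ}
  {M : Ideal AlgInt}

omit [Fintype A] [Fintype B] in
theorem charDegree_irrEquiv (θ : IrrCharacter B) :
    charDegree (irrEquiv e θ : A → ℂ) = charDegree (θ : B → ℂ) := by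
  unfold charDegree
  rw [irrEquiv_apply, map_one]

omit [Fintype A] [Fintype B] in
/-- Transport of the defect of a block along a group isomorphism. -/
theorem blockDefect_blockOf_irrEquiv (θ : IrrCharacter B) :
    blockDefect p (blockOf M (irrEquiv e θ : A → ℂ)) = blockDefect p (blockOf M (θ : B → ℂ)) := by
  unfold blockDefect
  rw [Nat.card_congr e.toEquiv]
  congr 2
  ext n
  constructor
  · rintro ⟨φ, hφ, rfl⟩
    refine ⟨(irrEquiv e).symm φ, ?_, ?_⟩
    · rw [← irrEquiv_mem_blockOf_iff e, Equiv.apply_symm_apply]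
      exact hφ
    · show (charDegree ((irrEquiv e).symm φ : B → ℂ)).factorization p = _
      rw [← charDegree_irrEquiv e, Equiv.apply_symm_apply]
  · rintro ⟨θ', hθ', rfl⟩
    refine ⟨irrEquiv e θ', (irrEquiv_mem_blockOf_iff e θ θ').2 hθ', ?_⟩
    show (charDegree (irrEquiv e θ' : A → ℂ)).factorization p = _
    rw [charDegree_irrEquiv]

end Transport

section Over

variable {L : Type*} [Group L] [Fintype L] (H T : Subgroup L) [hH : H.Normal] [Fintype H]
  [Fintype T] {p : ℕ} {M : Ideal AlgInt}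

/-- `H ⊴ L`, `b` a block of `H` with stabilizer `T`, `P ⊴ L` a `p`-subgroup with `C_L(P) ≤ H`:
every block of `L` covering `b` has defect `d(b) + ν_p |T : H|`. -/
theorem blockDefect_of_over [Fact p.Prime] (hM : IsPModular p M) (hHT : H ≤ T)
    (b : Set (IrrCharacter H)) (hb : IsPBlock M b)
    (hTb : ∀ g ∈ T, ∀ θ ∈ b, conjIrr H θ g ∈ b)
    (hdisj : ∀ g : L, g ∉ T → ∀ θ ∈ b, conjIrr H θ g ∉ b)
    (P : Subgroup L) [hPn : P.Normal] (hP : IsPGroup p P) (hPH : P ≤ H)
    (hC : Subgroup.centralizer (P : Set L) ≤ H)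
    (ζ : IrrCharacter L) (θ : IrrCharacter H) (hθ : θ ∈ b)
    (hne : classInner (fun n : H => (ζ : L → ℂ) n) (θ : H → ℂ) ≠ 0) :
    blockDefect p (blockOf M (ζ : L → ℂ)) =
      blockDefect p b + (H.relIndex T).factorization p := by
  classical
  haveI hPr := isPrime_of_isPModular hM
  obtain ⟨ψ, hψ, hζ⟩ := exists_over H T hHT b hTb hdisj ζ θ hθ hne
  have hover : OverB H T hHT b ψ := ⟨θ, hθ, hψ⟩
  rw [blockDefect_indFun H T hHT hM b hb hTb hdisj ψ hover ζ hζ]
  haveI hN' : (H.subgroupOf T).Normal := Subgroup.normal_subgroupOf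
  haveI : Fintype (H.subgroupOf T) := Fintype.ofFinite _
  let e : H.subgroupOf T ≃* H := Subgroup.subgroupOfEquivOfLe hHT
  have hbeq := isPBlock_eq_blockOf hb hθ
  have hconj : ∀ (φ₀ : IrrCharacter H) (t : T),
      conjIrr (H.subgroupOf T) (irrEquiv e φ₀) t = irrEquiv e (conjIrr H φ₀ (t : L)) := by
    intro φ₀ t
    apply Subtype.ext
    funext n'
    rw [conjIrr_apply, irrEquiv_apply, irrEquiv_apply, conjIrr_apply]
    rfl
  have hinv : ∀ t : T, ∀ φ ∈ blockOf M (irrEquiv e θ : H.subgroupOf T → ℂ),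
      conjIrr (H.subgroupOf T) φ t ∈ blockOf M (irrEquiv e θ : H.subgroupOf T → ℂ) := by
    intro t φ hφ
    obtain ⟨φ₀, rfl⟩ := (irrEquiv e).surjective φ
    rw [irrEquiv_mem_blockOf_iff] at hφ
    rw [hconj, irrEquiv_mem_blockOf_iff, ← hbeq]
    exact hTb t t.2 φ₀ (hbeq ▸ hφ)
  have hres : ∀ (φ : IrrCharacter T) (ϑ : IrrCharacter H),
      classInner (fun n' : H.subgroupOf T => (φ : T → ℂ) n')
        (irrEquiv e ϑ : H.subgroupOf T → ℂ) =
        classInner (resTo H T hHT (φ : T → ℂ)) (ϑ : H → ℂ) := by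
    intro φ ϑ
    have : (fun n' : H.subgroupOf T => (φ : T → ℂ) n') = (resTo H T hHT (φ : T → ℂ)) ∘ e := by
      funext n'
      rfl
    rw [this]
    exact classInner_comp_equiv e _ _
  have hψover : ψ ∈ overSet (H.subgroupOf T)
      (blockOf M (irrEquiv e θ : H.subgroupOf T → ℂ)) :=
    ⟨irrEquiv e θ, mem_blockOf_self _, by rw [hres]; exact hψ⟩
  have hPT : P ≤ T := hPH.trans hHT
  haveI hP'n : (P.subgroupOf T).Normal := Subgroup.normal_subgroupOf
  have hP' : IsPGroup p (P.subgroupOf T) := hP.comap_subtype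
  have hC' : Subgroup.centralizer ((P.subgroupOf T : Subgroup T) : Set T) ≤ H.subgroupOf T := by
    intro x hx
    rw [Subgroup.mem_subgroupOf]
    apply hC
    rw [Subgroup.mem_centralizer_iff]
    intro y hy
    have h1 := Subgroup.mem_centralizer_iff.1 hx ⟨y, hPT hy⟩ (Subgroup.mem_subgroupOf.2 hy)
    exact congrArg Subtype.val h1
  have hmax : ∀ χ' : IrrCharacter T,
      χ' ∈ overSet (H.subgroupOf T) (blockOf M (irrEquiv e θ : H.subgroupOf T → ℂ)) →
      blockDefect p (blockOf M (χ' : T → ℂ)) ≤ blockDefect p (blockOf M (ψ : T → ℂ)) := by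
    intro χ' hχ'
    have h1 := isInducedBlock_of_covers_of_centralizer_le hM (P.subgroupOf T) hP'
      (H.subgroupOf T) hC' (irrEquiv e θ) χ' ⟨χ', mem_blockOf_self χ', hχ'⟩
    have h2 := isInducedBlock_of_covers_of_centralizer_le hM (P.subgroupOf T) hP'
      (H.subgroupOf T) hC' (irrEquiv e θ) ψ ⟨ψ, mem_blockOf_self ψ, hψover⟩
    rw [isInducedBlock_unique _ h1 h2]
  obtain ⟨D, hD⟩ := exists_isDefectGroup (p := p) hM ψ
  have hf := (fong (H.subgroupOf T) hM (irrEquiv e θ) hinv ψ hψover hmax D hD).2.2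
  rw [hf, blockDefect_blockOf_irrEquiv, ← hbeq]
  rfl

end Over

section Norm

variable {G : Type*} [Group G]

/-- `N_G(P)` normalizes `P C_G(P)`. -/
theorem normalizer_le_normalizer_sup_centralizer (P : Subgroup G) :
    Subgroup.normalizer (P : Set G) ≤
      Subgroup.normalizer ((P ⊔ Subgroup.centralizer (P : Set G) : Subgroup G) : Set G) := by
  have hconj : ∀ n ∈ Subgroup.normalizer (P : Set G), ∀ x ∈ P ⊔ Subgroup.centralizer (P : Set G),
      n * x * n⁻¹ ∈ P ⊔ Subgroup.centralizer (P : Set G) := by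
    intro n hn x hx
    have h1 : (P ⊔ Subgroup.centralizer (P : Set G)).map (MulAut.conj n).toMonoidHom ≤
        P ⊔ Subgroup.centralizer (P : Set G) := by
      rw [Subgroup.map_sup]
      apply sup_le_sup
      · rintro _ ⟨y, hy, rfl⟩
        exact (Subgroup.mem_normalizer_iff.1 hn y).1 hy
      · rintro _ ⟨c, hc, rfl⟩
        rw [Subgroup.mem_centralizer_iff]
        intro y hy
        have hy' : n⁻¹ * y * n ∈ P := by
          have := (Subgroup.mem_normalizer_iff.1 (Subgroup.inv_mem _ hn) y).1 hy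
          simpa using this
        have h2 := Subgroup.mem_centralizer_iff.1 hc _ hy'
        simp only [MulEquiv.coe_toMonoidHom, MulAut.conj_apply]
        calc y * (n * c * n⁻¹) = n * ((n⁻¹ * y * n) * c) * n⁻¹ := by group
          _ = n * (c * (n⁻¹ * y * n)) * n⁻¹ := by rw [h2]
          _ = n * c * n⁻¹ * y := by group
    exact h1 ⟨x, hx, by simp⟩
  intro n hn
  rw [Subgroup.mem_normalizer_iff]
  intro h
  constructor
  · exact hconj n hn h
  · intro hh
    have := hconj n⁻¹ (Subgroup.inv_mem _ hn) _ hh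
    simpa [mul_assoc] using this

end Norm

section Stab

variable {G : Type*} [Group G] (H L T : Subgroup G) (hHL : H ≤ L)
  [hn : (H.subgroupOf L).Normal] {M : Ideal AlgInt}

/-- Transport of the stabilizer condition (in the convention `θ'(g h g⁻¹) = θ(h)`) to the ambient
group `L`. -/
theorem stab_props_sub [M.IsPrime] (θ₀ : IrrCharacter H)
    (hT : ∀ g : G, g ∈ L → (g ∈ T ↔ ∀ θ ∈ blockOf M (θ₀ : H → ℂ), ∀ θ' : IrrCharacter H,
      (∀ h h' : H, (h' : G) = g * h * g⁻¹ → (θ' : H → ℂ) h' = (θ : H → ℂ) h) →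
        θ' ∈ blockOf M (θ₀ : H → ℂ))) :
    (∀ g ∈ T.subgroupOf L,
      ∀ φ ∈ blockOf M (irrEquiv (Subgroup.subgroupOfEquivOfLe hHL) θ₀ : H.subgroupOf L → ℂ),
        conjIrr (H.subgroupOf L) φ g ∈
          blockOf M (irrEquiv (Subgroup.subgroupOfEquivOfLe hHL) θ₀ : H.subgroupOf L → ℂ)) ∧
    (∀ g : L, g ∉ T.subgroupOf L →
      ∀ φ ∈ blockOf M (irrEquiv (Subgroup.subgroupOfEquivOfLe hHL) θ₀ : H.subgroupOf L → ℂ),
        conjIrr (H.subgroupOf L) φ g ∉
          blockOf M (irrEquiv (Subgroup.subgroupOfEquivOfLe hHL) θ₀ : H.subgroupOf L → ℂ)) := by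
  set e := Subgroup.subgroupOfEquivOfLe hHL with he
  have hval : ∀ (g : L) (n' : H.subgroupOf L),
      ((e ⟨g * n' * g⁻¹, hn.conj_mem n' n'.2 g⟩ : H) : G) = (g : G) * ((e n' : H) : G) * (g : G)⁻¹ := by
    intro g n'
    rfl
  -- key: a character `θ'` of `H` satisfying the statement's condition for `g⁻¹` is the transport of
  -- the `g`-conjugate
  have hkey : ∀ (g : L) (θ θ' : IrrCharacter H),
      (∀ h h' : H, (h' : G) = (g : G)⁻¹ * h * ((g : G)⁻¹)⁻¹ → (θ' : H → ℂ) h' = (θ : H → ℂ) h) →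
      irrEquiv e θ' = conjIrr (H.subgroupOf L) (irrEquiv e θ) g := by
    intro g θ θ' h
    apply Subtype.ext
    funext n'
    rw [irrEquiv_apply, conjIrr_apply, irrEquiv_apply]
    apply h
    rw [hval]
    group
  have hkey' : ∀ (g : L) (θ : IrrCharacter H),
      ∀ h h' : H, (h' : G) = (g : G)⁻¹ * h * ((g : G)⁻¹)⁻¹ →
        (((irrEquiv e).symm (conjIrr (H.subgroupOf L) (irrEquiv e θ) g) : IrrCharacter H) : H → ℂ) h' =
          (θ : H → ℂ) h := by
    intro g θ h h' hh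
    rw [irrEquiv_symm_apply, conjIrr_apply, irrEquiv_apply]
    refine congrArg (θ : H → ℂ) (Subtype.ext ?_)
    rw [hval, MulEquiv.apply_symm_apply, hh]
    group
  constructor
  · intro g hg φ hφ
    obtain ⟨φ₀, rfl⟩ := (irrEquiv e).surjective φ
    rw [irrEquiv_mem_blockOf_iff] at hφ
    have hg' : (g : G)⁻¹ ∈ T := T.inv_mem (Subgroup.mem_subgroupOf.1 hg)
    have h1 := (hT _ (L.inv_mem g.2)).1 hg' φ₀ hφ _ (hkey' g φ₀)
    rw [← irrEquiv_mem_blockOf_iff e, Equiv.apply_symm_apply] at h1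
    exact h1
  · intro g hg φ hφ hcon
    apply hg
    rw [Subgroup.mem_subgroupOf]
    have : (g : G)⁻¹ ∈ T := by
      rw [hT _ (L.inv_mem g.2)]
      intro θ hθ θ' hθ'
      rw [← irrEquiv_mem_blockOf_iff e, hkey g θ θ' hθ']
      obtain ⟨φ₀, rfl⟩ := (irrEquiv e).surjective φ
      rw [irrEquiv_mem_blockOf_iff] at hφ
      have h2 : SameBlock M (irrEquiv e φ₀ : H.subgroupOf L → ℂ) (irrEquiv e θ : H.subgroupOf L → ℂ) :=
        (sameBlock_irrEquiv_iff e φ₀ θ).2 (sameBlock_trans (sameBlock_symm hφ) hθ)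
      have h3 := sameBlock_conjIrr (H.subgroupOf L) h2 g
      exact sameBlock_trans hcon h3
    have h4 := T.inv_mem this
    rwa [inv_inv] at h4

end Stab

end Cfsg.Agent.Lib.H23.FR
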