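import Mathlib
import Cfsg.Prelude.Def_Blocks
import Cfsg.Agent.Lib.H23.FRDefect
import Cfsg.Agent.Lib.H23.BlockExtFirstMain

/-!
# The index criterion in the extended first main theorem

`P` a `p`-subgroup, `H = P C_G(P)` (more generally `P, C_G(P) ≤ H ⊴ L = N_G(P)`), `b` a block of
`H` with defect group `P`, `T` its stabilizer in `L`, `B = b^G`.  Then `B` has defect group `P` iff
`p ∤ |T : H|`.
-/

set_option autoImplicit false

namespace Cfsg.Agent.Lib.H23.FR

open Cfsg Cfsg.Agent.Lib.H23 Cfsg.Agent.Lib.H24 Cfsg.Agent.Lib.L0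
open scoped ComplexConjugate

variable {G : Type*} [Group G] [Fintype G] {p : ℕ} {M : Ideal AlgInt}

theorem defect_iff_aux [Fact p.Prime] (hM : IsPModular p M) (P H L T : Subgroup G) [Fintype H]
    [Fintype L] (hL : L = Subgroup.normalizer (P : Set G)) (hP : IsPGroup p P) (hPH : P ≤ H)
    (hCH : Subgroup.centralizer (P : Set G) ≤ H) (hHL : H ≤ L)
    [hn : (H.subgroupOf L).Normal] (θ₀ : IrrCharacter H)
    (hbP : IsDefectGroup p M (blockOf M (θ₀ : H → ℂ)) (P.subgroupOf H)) (χ₀ : IrrCharacter G)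
    (hind : IsInducedBlock M H (blockOf M (θ₀ : H → ℂ)) (blockOf M (χ₀ : G → ℂ)))
    (hTL : T ≤ L)
    (hT : ∀ g : G, g ∈ L → (g ∈ T ↔ ∀ θ ∈ blockOf M (θ₀ : H → ℂ), ∀ θ' : IrrCharacter H,
      (∀ h h' : H, (h' : G) = g * h * g⁻¹ → (θ' : H → ℂ) h' = (θ : H → ℂ) h) →
        θ' ∈ blockOf M (θ₀ : H → ℂ))) :
    IsDefectGroup p M (blockOf M (χ₀ : G → ℂ)) P ↔ ¬ p ∣ H.relIndex T := by
  classical
  haveI hPr := isPrime_of_isPModular hM
  have hp : p.Prime := Fact.out
  haveI : Fintype (H.subgroupOf L) := Fintype.ofFinite _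
  haveI : Fintype (T.subgroupOf L) := Fintype.ofFinite _
  obtain ⟨hTb, hdisj⟩ := stab_props_sub H L T hHL θ₀ hT
  have hPL : P ≤ L := hPH.trans hHL
  have hCL : Subgroup.centralizer (P : Set G) ≤ L := hCH.trans hHL
  haveI hnP : (P.subgroupOf L).Normal :=
    Subgroup.normal_subgroupOf_of_le_normalizer (le_of_eq hL)
  have hpg : IsPGroup p (P.subgroupOf L) := hP.comap_subtype
  have hPH' : P.subgroupOf L ≤ H.subgroupOf L := fun x hx => hPH hx
  have hC' : Subgroup.centralizer ((P.subgroupOf L : Subgroup L) : Set L) ≤ H.subgroupOf L := by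
    intro x hx
    rw [Subgroup.mem_subgroupOf]
    apply hCH
    rw [Subgroup.mem_centralizer_iff]
    intro y hy
    have h1 := Subgroup.mem_centralizer_iff.1 hx ⟨y, hPL hy⟩ (Subgroup.mem_subgroupOf.2 hy)
    exact congrArg Subtype.val h1
  have hHT : H ≤ T := by
    intro g hg
    rw [hT g (hHL hg)]
    intro θ hθ θ' hθ'
    have : θ' = θ := by
      apply Subtype.ext
      funext h'
      have h1 := hθ' ((⟨g, hg⟩ : H)⁻¹ * h' * ⟨g, hg⟩) h' (by
        push_cast
        group)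
      rw [h1]
      have h2 := irr_conj θ h' (⟨g, hg⟩ : H)⁻¹
      rw [inv_inv] at h2
      exact h2
    rw [this]
    exact hθ
  have hHT' : H.subgroupOf L ≤ T.subgroupOf L := fun x hx => hHT hx
  -- a block of `L` covering
  obtain ⟨ζ, hζ⟩ := exists_irr_over_restrict (H.subgroupOf L)
    (irrEquiv (Subgroup.subgroupOfEquivOfLe hHL) θ₀)
  have hX := blockDefect_of_over (H.subgroupOf L) (T.subgroupOf L) hM hHT'
    (blockOf M (irrEquiv (Subgroup.subgroupOfEquivOfLe hHL) θ₀ : H.subgroupOf L → ℂ)) ⟨_, rfl⟩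
    hTb hdisj (P.subgroupOf L) hpg hPH' hC' ζ _ (mem_blockOf_self _) hζ
  rw [blockDefect_blockOf_irrEquiv, Subgroup.relIndex_subgroupOf hTL] at hX
  -- defect of `b`
  have hcb := card_defectGroup hM θ₀ _ hbP
  have hcP : Nat.card (P.subgroupOf H) = Nat.card P :=
    Nat.card_congr (Subgroup.subgroupOfEquivOfLe hPH).toEquiv
  have hcPL : Nat.card (P.subgroupOf L) = Nat.card P :=
    Nat.card_congr (Subgroup.subgroupOfEquivOfLe hPL).toEquiv
  -- induction chain
  have h1 := isInducedBlock_sub_of_covers P H L hM hP hL hCH _ ζ hζ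
  obtain ⟨χ₁, hχ₁⟩ := exists_isInducedBlock P L hM hP hPL hCL (le_of_eq hL) ζ
  have h2 := isInducedBlock_trans H L hHL θ₀ ζ χ₁ h1 hχ₁
  have h3 : blockOf M (χ₀ : G → ℂ) = blockOf M (χ₁ : G → ℂ) := isInducedBlock_unique H hind h2
  rw [← h3] at hχ₁
  have hrel0 : H.relIndex T ≠ 0 := by
    unfold Subgroup.relIndex
    exact Subgroup.index_ne_zero_of_finite
  obtain ⟨DL, hDL⟩ := exists_isDefectGroup (p := p) hM ζ
  have hcDL := card_defectGroup hM ζ DL hDL
  have hPDL := normal_le_defectGroup hM ζ (P.subgroupOf L) hpg DL hDL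
  constructor
  · intro hBP
    obtain ⟨E, hE, hDE⟩ := defectGroup_le_of_induced L hM hχ₁ DL hDL
    have hcE := card_defectGroup hM χ₀ E hE
    have hcBP := card_defectGroup hM χ₀ P hBP
    have h4 : Nat.card DL ≤ Nat.card E := by
      rw [← Subgroup.card_map_of_injective (Subgroup.subtype_injective L)]
      exact Subgroup.card_le_of_le hDE
    rw [hcDL, hcE, ← hcBP, ← hcP, hcb] at h4
    have h5 := (Nat.pow_le_pow_iff_right hp.one_lt).1 h4
    have h6 : (H.relIndex T).factorization p = 0 := by omega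
    rcases (Nat.factorization_eq_zero_iff _ _).1 h6 with h | h | h
    · exact absurd hp h
    · exact h
    · exact absurd h hrel0
  · intro hnd
    have h6 : (H.relIndex T).factorization p = 0 := Nat.factorization_eq_zero_of_not_dvd hnd
    rw [h6, add_zero] at hX
    have h7 : P.subgroupOf L = DL := by
      apply Subgroup.eq_of_le_of_card_ge hPDL
      rw [hcDL, hX, ← hcb, hcP, hcPL]
    rw [← h7] at hDL
    obtain ⟨χ₂, hχ₂D, hχ₂⟩ := exists_block_up P L hL hM hP ζ hDL
    have h8 : blockOf M (χ₀ : G → ℂ) = blockOf M (χ₂ : G → ℂ) := isInducedBlock_unique L hχ₁ hχ₂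
    rw [h8]
    exact hχ₂D

end Cfsg.Agent.Lib.H23.FR
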