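import Mathlib
import Cfsg.Prelude.Def_BrauerPairs
import Cfsg.Agent.Lib.H23.BlockCentralDefect
import Cfsg.Agent.Lib.H23.BlockNormalDefect
import Cfsg.Agent.Lib.H23.BlockFongIndex
import Cfsg.Agent.Lib.H23.PCPBlock
import Cfsg.Agent.Lib.H24.CharDefl
import Cfsg.Agent.Lib.L0.BlockMinMax

/-!
# Blocks with a central defect group; the block of `K` over an invariant block of a normal
subgroup of `p`-power index (type-level parts of the maximal Brauer pair criterion)
-/

set_option autoImplicit false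

namespace Cfsg.Agent.Lib.H23.MaxPair

open Cfsg Cfsg.Agent.Lib.H23 Cfsg.Agent.Lib.H24 Cfsg.Agent.Lib.L0
  Cfsg.Agent.Lib.L0.BlockMinMax Cfsg.Agent.Lib.H23.NormalDefect
open scoped ComplexConjugate

section Central

variable {C : Type*} [Group C] [Fintype C] {p : ℕ} [Fact p.Prime] {M : Ideal AlgInt}

theorem factorization_index_add (Z : Subgroup C) :
    Z.index.factorization p + (Nat.card Z).factorization p = (Nat.card C).factorization p := by
  have h := Subgroup.index_mul_card Z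
  have h0 : Z.index ≠ 0 := Subgroup.index_ne_zero_of_finite
  rw [← h, Nat.factorization_mul h0 Nat.card_pos.ne']
  rfl

/-- A character of central defect: `Z` is a defect group of its block. -/
theorem isDefectGroup_of_degree (hM : IsPModular p M) (Z : Subgroup C) (hZ : IsPGroup p Z)
    (hZc : Z ≤ Subgroup.center C) (θ : IrrCharacter C)
    (hdeg : (charDegree (θ : C → ℂ)).factorization p + (Nat.card Z).factorization p =
      (Nat.card C).factorization p) :
    IsDefectGroup p M (blockOf M (θ : C → ℂ)) Z := by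
  apply central_defect_group hM Z hZ hZc θ
  have := factorization_index_add (p := p) Z
  omega

/-- A block with a central defect group `Z` contains a character with `Z` in its kernel and of
central defect. -/
theorem exists_canonical (hM : IsPModular p M) (Z : Subgroup C) (hZ : IsPGroup p Z)
    (hZc : Z ≤ Subgroup.center C) (θ₀ : IrrCharacter C)
    (hD : IsDefectGroup p M (blockOf M (θ₀ : C → ℂ)) Z) :
    ∃ θ ∈ blockOf M (θ₀ : C → ℂ), (∀ z ∈ Z, (θ : C → ℂ) z = (θ : C → ℂ) 1) ∧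
      (charDegree (θ : C → ℂ)).factorization p + (Nat.card Z).factorization p =
        (Nat.card C).factorization p := by
  classical
  haveI hPr := isPrime_of_isPModular hM
  have hp : p.Prime := Fact.out
  haveI : Fintype Z := Fintype.ofFinite _
  haveI hZn : Z.Normal := ⟨fun z hz g => by
    have := Subgroup.mem_center_iff.1 (hZc hz) g
    rw [this, mul_inv_cancel_right]
    exact hz⟩
  have hG : Z ⊔ Subgroup.centralizer (Z : Set C) = ⊤ := by
    rw [eq_top_iff]
    refine le_trans ?_ le_sup_right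
    intro g _
    rw [Subgroup.mem_centralizer_iff]
    intro z hz
    exact (Subgroup.mem_center_iff.1 (hZc hz) g).symm
  obtain ⟨θ, hθ, hcon⟩ := exists_irr_over_of_pGroup hM θ₀ Z hZ (PCP.triv Z)
  have hker : ∀ z ∈ Z, (θ : C → ℂ) z = (θ : C → ℂ) 1 := by
    intro z hz
    have := PCP.apply_mul_eq Z hG θ (PCP.triv Z) hcon ⟨z, hz⟩ 1 (fun v _ => by simp)
    simp only [mul_one] at this
    rw [this]
    show (1 : ℂ) * (θ : C → ℂ) 1 / 1 = _
    simp
  refine ⟨θ, hθ, hker, ?_⟩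
  have h1 := charDegree_dvd_index θ Z hker
  have h2 : (charDegree (θ : C → ℂ)).factorization p ≤ Z.index.factorization p :=
    (Nat.factorization_le_iff_dvd (charDegree_pos _ θ.2).ne'
      Subgroup.index_ne_zero_of_finite).mpr h1 p
  have h3 := minDeg_le (p := p) θ₀ hθ
  have h4 := minDeg_eq_sub_blockDefect (p := p) (M := M) θ₀
  have h5 := card_defectGroup hM θ₀ Z hD
  have h6 : (Nat.card Z).factorization p = blockDefect p (blockOf M (θ₀ : C → ℂ)) := by
    rw [h5, Nat.factorization_pow]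
    simp [Nat.Prime.factorization_self hp]
  have h7 := factorization_index_add (p := p) Z
  have h8 := minDeg_le_card (p := p) (M := M) θ₀
  omega

end Central

section Over

variable {K : Type*} [Group K] [Fintype K] (N : Subgroup K) [hN : N.Normal] [Fintype N]
  {p : ℕ} [Fact p.Prime] {M : Ideal AlgInt}

omit [Fintype K] [Fintype N] in
/-- If every element of `K` induces an inner automorphism of `N`, every irreducible character of
`N` is `K`-invariant. -/
theorem conjIrr_eq_self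
    (hinn : ∀ (k : K) (n : N), ∃ m : N, (k * n * k⁻¹ : K) = m * n * m⁻¹)
    (θ : IrrCharacter N) (k : K) : conjIrr N θ k = θ := by
  apply Subtype.ext
  funext n
  rw [conjIrr_apply]
  obtain ⟨m, hm⟩ := hinn k n
  have h1 : (⟨k * n * k⁻¹, hN.conj_mem n n.2 k⟩ : N) = m * n * m⁻¹ := Subtype.ext hm
  rw [h1]
  exact irr_conj θ n m

theorem overSet_eq_blockOf (hM : IsPModular p M) (hidx : ∃ k : ℕ, N.index = p ^ k)
    (hinn : ∀ (k : K) (n : N), ∃ m : N, (k * n * k⁻¹ : K) = m * n * m⁻¹)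
    (θ₀ : IrrCharacter N) (χ₀ : IrrCharacter K)
    (hχ₀ : classInner (fun n : N => (χ₀ : K → ℂ) n) (θ₀ : N → ℂ) ≠ 0) :
    overSet N (blockOf M (θ₀ : N → ℂ)) = blockOf M (χ₀ : K → ℂ) := by
  haveI hPr := isPrime_of_isPModular hM
  apply overSet_eq_blockOf_of_index_pow N hM hidx θ₀ _ χ₀ ⟨θ₀, mem_blockOf_self θ₀, hχ₀⟩
  intro g θ hθ
  rw [conjIrr_eq_self N hinn]
  exact hθ

theorem blockDefect_over (hM : IsPModular p M) (hidx : ∃ k : ℕ, N.index = p ^ k)
    (hinn : ∀ (k : K) (n : N), ∃ m : N, (k * n * k⁻¹ : K) = m * n * m⁻¹)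
    (θ₀ : IrrCharacter N) (χ₀ : IrrCharacter K)
    (hχ₀ : classInner (fun n : N => (χ₀ : K → ℂ) n) (θ₀ : N → ℂ) ≠ 0) :
    blockDefect p (blockOf M (χ₀ : K → ℂ)) =
      blockDefect p (blockOf M (θ₀ : N → ℂ)) + N.index.factorization p := by
  haveI hPr := isPrime_of_isPModular hM
  have hinv : ∀ g : K, ∀ θ ∈ blockOf M (θ₀ : N → ℂ), conjIrr N θ g ∈ blockOf M (θ₀ : N → ℂ) := by
    intro g θ hθ
    rw [conjIrr_eq_self N hinn]
    exact hθ
  have hover : χ₀ ∈ overSet N (blockOf M (θ₀ : N → ℂ)) := ⟨θ₀, mem_blockOf_self θ₀, hχ₀⟩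
  have hOB := overSet_eq_blockOf N hM hidx hinn θ₀ χ₀ hχ₀
  have hmax : ∀ χ' : IrrCharacter K, χ' ∈ overSet N (blockOf M (θ₀ : N → ℂ)) →
      blockDefect p (blockOf M (χ' : K → ℂ)) ≤ blockDefect p (blockOf M (χ₀ : K → ℂ)) := by
    intro χ' hχ'
    rw [hOB] at hχ'
    rw [blockOf_eq_of_mem hχ']
  obtain ⟨D, hD⟩ := exists_isDefectGroup (p := p) hM χ₀
  exact (fong N hM θ₀ hinv χ₀ hover hmax D hD).2.2

theorem constituent_mem_of_mem (hM : IsPModular p M)
    (hinn : ∀ (k : K) (n : N), ∃ m : N, (k * n * k⁻¹ : K) = m * n * m⁻¹)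
    (θ₀ : IrrCharacter N) (χ₀ : IrrCharacter K)
    (hχ₀ : classInner (fun n : N => (χ₀ : K → ℂ) n) (θ₀ : N → ℂ) ≠ 0)
    (χ : IrrCharacter K) (hχ : χ ∈ blockOf M (χ₀ : K → ℂ)) (ψ : IrrCharacter N)
    (hψ : classInner (fun n : N => (χ : K → ℂ) n) (ψ : N → ℂ) ≠ 0) :
    ψ ∈ blockOf M (θ₀ : N → ℂ) := by
  haveI hPr := isPrime_of_isPModular hM
  obtain ⟨g, θ', hθ', hconj⟩ := covers_conj N hM (blockOf M (χ₀ : K → ℂ)) ⟨χ₀, rfl⟩
    (blockOf M (θ₀ : N → ℂ)) ⟨θ₀, rfl⟩ χ₀ (mem_blockOf_self χ₀) θ₀ (mem_blockOf_self θ₀) hχ₀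
    χ hχ ψ hψ
  have h1 : ψ = conjIrr N θ' g := by
    apply Subtype.ext
    funext n
    rw [hconj n, conjIrr_apply]
  rw [h1, conjIrr_eq_self N hinn]
  exact hθ'

theorem isDefectGroup_over (hM : IsPModular p M) (hidx : ∃ k : ℕ, N.index = p ^ k)
    (hinn : ∀ (k : K) (n : N), ∃ m : N, (k * n * k⁻¹ : K) = m * n * m⁻¹)
    (θ₀ : IrrCharacter N) (χ₀ : IrrCharacter K)
    (hχ₀ : classInner (fun n : N => (χ₀ : K → ℂ) n) (θ₀ : N → ℂ) ≠ 0)
    (P : Subgroup K) [hPn : P.Normal] (hP : IsPGroup p P)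
    (hcard : Nat.card P =
      p ^ (blockDefect p (blockOf M (θ₀ : N → ℂ)) + N.index.factorization p)) :
    IsDefectGroup p M (blockOf M (χ₀ : K → ℂ)) P := by
  obtain ⟨D, hD⟩ := exists_isDefectGroup (p := p) hM χ₀
  have h1 := normal_le_defectGroup hM χ₀ P hP D hD
  have h2 := card_defectGroup hM χ₀ D hD
  rw [blockDefect_over N hM hidx hinn θ₀ χ₀ hχ₀, ← hcard] at h2
  have h3 : P = D := Subgroup.eq_of_le_of_card_ge h1 h2.le
  rw [h3]
  exact hD

end Over

end Cfsg.Agent.Lib.H23.MaxPair
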