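import Mathlib
import Cfsg.Prelude.Def_BrauerPairs
import Cfsg.Agent.Lib.H23.MaxPairA
import Cfsg.Agent.Lib.H23.FRExtMain
import Cfsg.Agent.Lib.L0.BrauerFully

/-!
# Maximal Brauer pairs: the covering block of `Q C_G(Q)` and the stabilizer criterion
-/

set_option autoImplicit false

namespace Cfsg.Agent.Lib.H23.MaxPair

open Cfsg Cfsg.Agent.Lib.H23 Cfsg.Agent.Lib.H24 Cfsg.Agent.Lib.L0
  Cfsg.Agent.Lib.L0.BlockMinMax Cfsg.Agent.Lib.L0.BlockAut Cfsg.Agent.Lib.L0.PrincipalBrauerPair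
  Cfsg.Agent.Lib.L0.BrauerNormal Cfsg.Agent.Lib.L0.BrauerSubpair Cfsg.Agent.Lib.H23.FR
open scoped ComplexConjugate

section Basic

variable {G : Type*} [Group G] (Q : Subgroup G)

/-- `C_G(Q)`. -/
abbrev CC : Subgroup G := Subgroup.centralizer (Q : Set G)

/-- `Q C_G(Q)`. -/
abbrev HH : Subgroup G := Q ⊔ Subgroup.centralizer (Q : Set G)

/-- `N_G(Q)`. -/
abbrev LL : Subgroup G := Subgroup.normalizer (Q : Set G)

theorem CC_le_HH : CC Q ≤ HH Q := le_sup_right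

theorem Q_le_HH : Q ≤ HH Q := le_sup_left

theorem CC_le_LL : CC Q ≤ LL Q := Subgroup.centralizer_le_normalizer _

theorem HH_le_LL : HH Q ≤ LL Q := sup_le Subgroup.le_normalizer (CC_le_LL Q)

theorem LL_le_normalizer_CC : LL Q ≤ Subgroup.normalizer ((CC Q : Subgroup G) : Set G) :=
  normalizer_le_normalizer_centralizer Q

theorem LL_le_normalizer_HH : LL Q ≤ Subgroup.normalizer ((HH Q : Subgroup G) : Set G) :=
  normalizer_le_normalizer_sup_centralizer Q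

theorem Q_le_normalizer_CC : Q ≤ Subgroup.normalizer ((CC Q : Subgroup G) : Set G) :=
  Subgroup.le_normalizer.trans (LL_le_normalizer_CC Q)

instance normal_CH : ((CC Q).subgroupOf (HH Q)).Normal :=
  Subgroup.normal_subgroupOf_of_le_normalizer ((HH_le_LL Q).trans (LL_le_normalizer_CC Q))

instance normal_HL : ((HH Q).subgroupOf (LL Q)).Normal :=
  Subgroup.normal_subgroupOf_of_le_normalizer (LL_le_normalizer_HH Q)

instance normal_QH : (Q.subgroupOf (HH Q)).Normal :=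
  Subgroup.normal_subgroupOf_of_le_normalizer (HH_le_LL Q)

theorem index_CH : ((CC Q).subgroupOf (HH Q)).index = (CC Q).relIndex Q := by
  letI := Subgroup.normal_subgroupOf_of_le_normalizer (Q_le_normalizer_CC Q)
  letI := Subgroup.normal_subgroupOf_sup_of_le_normalizer (Q_le_normalizer_CC Q)
  have e := (QuotientGroup.quotientInfEquivProdNormalizerQuotient Q (CC Q)
    (Q_le_normalizer_CC Q)).toEquiv
  rw [Subgroup.relIndex, Subgroup.index_eq_card, Subgroup.index_eq_card]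
  exact (Nat.card_congr e).symm

theorem exists_index_CH [Finite G] {p : ℕ} [Fact p.Prime] (hQ : IsPGroup p Q) :
    ∃ k : ℕ, ((CC Q).subgroupOf (HH Q)).index = p ^ k := by
  have hp : p.Prime := Fact.out
  rw [index_CH]
  obtain ⟨n, hn⟩ := IsPGroup.iff_card.1 hQ
  have h1 : (CC Q).relIndex Q ∣ p ^ n := hn ▸ Subgroup.relIndex_dvd_card (CC Q) Q
  obtain ⟨j, _, hj⟩ := (Nat.dvd_prime_pow hp).1 h1
  exact ⟨j, hj⟩

/-- `|Q| = |Z(Q)| |Q C : C|`. -/
theorem card_Q [Finite G] :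
    Nat.card Q = Nat.card ↥(Q ⊓ CC Q) * ((CC Q).subgroupOf (HH Q)).index := by
  rw [index_CH, ← Subgroup.inf_relIndex_left, mul_comm]
  have := Subgroup.relIndex_mul_relIndex (⊥ : Subgroup G) (Q ⊓ CC Q) Q bot_le inf_le_left
  rw [Subgroup.relIndex_bot_left, Subgroup.relIndex_bot_left] at this
  rw [← this, mul_comm]

/-- Every element of `Q C_G(Q)` induces an inner automorphism of `C_G(Q)`. -/
theorem inner_CH (k : HH Q) (n : (CC Q).subgroupOf (HH Q)) :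
    ∃ m : (CC Q).subgroupOf (HH Q), (k * n * k⁻¹ : HH Q) = m * n * m⁻¹ := by
  have hk : (k : G) ∈ ((Q ⊔ CC Q : Subgroup G) : Set G) := k.2
  rw [Subgroup.coe_mul_of_left_le_normalizer_right Q (CC Q) (Q_le_normalizer_CC Q)] at hk
  obtain ⟨q, hq, c, hc, hqc⟩ := hk
  refine ⟨⟨⟨c, CC_le_HH Q hc⟩, hc⟩, ?_⟩
  apply Subtype.ext
  have hn : ((n : HH Q) : G) ∈ CC Q := n.2
  have hcn : c * ((n : HH Q) : G) * c⁻¹ ∈ CC Q :=
    (CC Q).mul_mem ((CC Q).mul_mem hc hn) ((CC Q).inv_mem hc)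
  have hcomm := Subgroup.mem_centralizer_iff.1 hcn q hq
  show (k : G) * ((n : HH Q) : G) * (k : G)⁻¹ = c * ((n : HH Q) : G) * c⁻¹
  rw [← hqc]
  simp only [] at hqc
  calc q * c * ((n : HH Q) : G) * (q * c)⁻¹ = q * (c * ((n : HH Q) : G) * c⁻¹) * q⁻¹ := by group
    _ = (c * ((n : HH Q) : G) * c⁻¹) * q * q⁻¹ := by rw [hcomm]
    _ = c * ((n : HH Q) : G) * c⁻¹ := by group

end Basic

section Block

variable {G : Type*} [Group G] [Fintype G] {p : ℕ} [Fact p.Prime] {M : Ideal AlgInt}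
  (Q : Subgroup G) [Fintype (CC Q)] [Fintype (HH Q)] [Fintype ((CC Q).subgroupOf (HH Q))]

/-- Transport of a character of `C_G(Q)` to the copy of `C_G(Q)` inside `Q C_G(Q)`. -/
noncomputable abbrev tr (θ : IrrCharacter (CC Q)) : IrrCharacter ((CC Q).subgroupOf (HH Q)) :=
  irrEquiv (Subgroup.subgroupOfEquivOfLe (CC_le_HH Q)) θ

/-- `χ ∈ Irr(Q C_G(Q))` lies over `θ ∈ Irr(C_G(Q))`. -/
def Over (χ : IrrCharacter (HH Q)) (θ : IrrCharacter (CC Q)) : Prop :=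
  classInner (fun n : (CC Q).subgroupOf (HH Q) => (χ : HH Q → ℂ) n) (tr Q θ : _ → ℂ) ≠ 0

omit [Fintype G] [Fintype (CC Q)] in
theorem exists_over (θ : IrrCharacter (CC Q)) : ∃ χ : IrrCharacter (HH Q), Over Q χ θ :=
  exists_irr_over_restrict _ (tr Q θ)

/-- The sum computing the multiplicity, over `C_G(Q)` itself. -/
noncomputable def ovSum (χ : IrrCharacter (HH Q)) (θ : IrrCharacter (CC Q)) : ℂ :=
  ∑ c : CC Q, (χ : HH Q → ℂ) ⟨c, CC_le_HH Q c.2⟩ * conj ((θ : CC Q → ℂ) c)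

omit [Fintype G] in
theorem over_iff (χ : IrrCharacter (HH Q)) (θ : IrrCharacter (CC Q)) :
    Over Q χ θ ↔ ovSum Q χ θ ≠ 0 := by
  unfold Over ovSum classInner
  have h0 : (Nat.card ((CC Q).subgroupOf (HH Q)) : ℂ)⁻¹ ≠ 0 := by
    apply inv_ne_zero
    exact_mod_cast (Nat.card_pos (α := (CC Q).subgroupOf (HH Q))).ne'
  have h1 : ∑ n : (CC Q).subgroupOf (HH Q), (χ : HH Q → ℂ) n * conj ((tr Q θ : _ → ℂ) n) =
      ∑ c : CC Q, (χ : HH Q → ℂ) ⟨c, CC_le_HH Q c.2⟩ * conj ((θ : CC Q → ℂ) c) := by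
    refine Fintype.sum_equiv (Subgroup.subgroupOfEquivOfLe (CC_le_HH Q)).toEquiv _ _ fun n => ?_
    rw [irrEquiv_apply]
    rfl
  rw [h1]
  constructor
  · intro h h2
    exact h (by rw [h2, mul_zero])
  · intro h h2
    rcases mul_eq_zero.1 h2 with h3 | h3
    · exact h0 h3
    · exact h h3

omit [Fintype G] [Fintype (HH Q)] [Fintype ((CC Q).subgroupOf (HH Q))] in
theorem ovSum_cj (g : G) (hg : g ∈ LL Q) (χ : IrrCharacter (HH Q)) (θ : IrrCharacter (CC Q)) :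
    ovSum Q (cj (conjAut (HH Q) g (LL_le_normalizer_HH Q hg)) χ)
      (cj (conjAut (CC Q) g (LL_le_normalizer_CC Q hg)) θ) = ovSum Q χ θ := by
  unfold ovSum
  symm
  refine Fintype.sum_equiv (conjAut (CC Q) g (LL_le_normalizer_CC Q hg)).toEquiv _ _ fun c => ?_
  have h1 : (⟨((conjAut (CC Q) g (LL_le_normalizer_CC Q hg)).toEquiv c : CC Q),
      CC_le_HH Q ((conjAut (CC Q) g (LL_le_normalizer_CC Q hg)).toEquiv c).2⟩ : HH Q) =
      conjAut (HH Q) g (LL_le_normalizer_HH Q hg) ⟨c, CC_le_HH Q c.2⟩ := by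
    apply Subtype.ext
    rfl
  rw [h1, cj_apply_apply]
  show _ = _ * conj ((cj (conjAut (CC Q) g (LL_le_normalizer_CC Q hg)) θ : CC Q → ℂ)
    ((conjAut (CC Q) g (LL_le_normalizer_CC Q hg)) c))
  rw [cj_apply_apply]

theorem isDefectGroup_hat (hM : IsPModular p M) (hQ : IsPGroup p Q) (θ : IrrCharacter (CC Q))
    (hZ : IsDefectGroup p M (blockOf M (θ : CC Q → ℂ)) ((Q ⊓ CC Q).subgroupOf (CC Q)))
    (χ : IrrCharacter (HH Q)) (hover : Over Q χ θ) :
    IsDefectGroup p M (blockOf M (χ : HH Q → ℂ)) (Q.subgroupOf (HH Q)) := by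
  have hp : p.Prime := Fact.out
  apply isDefectGroup_over ((CC Q).subgroupOf (HH Q)) hM (exists_index_CH Q hQ) (inner_CH Q)
    (tr Q θ) χ hover (Q.subgroupOf (HH Q)) hQ.comap_subtype
  rw [blockDefect_blockOf_irrEquiv]
  have h1 := card_defectGroup hM θ _ hZ
  rw [BrauerFully.card_inf_subgroupOf] at h1
  obtain ⟨k, hk⟩ := exists_index_CH Q hQ
  rw [Nat.card_congr (Subgroup.subgroupOfEquivOfLe (Q_le_HH Q)).toEquiv, card_Q, h1, hk,
    Nat.factorization_pow, pow_add]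
  simp [Nat.Prime.factorization_self hp]

theorem isInducedBlock_hat (hM : IsPModular p M) (hQ : IsPGroup p Q) (θ : IrrCharacter (CC Q))
    (χ : IrrCharacter (HH Q)) (hover : Over Q χ θ) (B : Set (IrrCharacter G))
    (hind : IsInducedBlock M (CC Q) (blockOf M (θ : CC Q → ℂ)) B) :
    IsInducedBlock M (HH Q) (blockOf M (χ : HH Q → ℂ)) B := by
  haveI hPr := isPrime_of_isPModular hM
  have hC' : Subgroup.centralizer ((Q.subgroupOf (HH Q) : Subgroup (HH Q)) : Set (HH Q)) ≤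
      (CC Q).subgroupOf (HH Q) := by
    intro x hx
    rw [Subgroup.mem_subgroupOf, Subgroup.mem_centralizer_iff]
    intro y hy
    have h1 := Subgroup.mem_centralizer_iff.1 hx ⟨y, Q_le_HH Q hy⟩ (Subgroup.mem_subgroupOf.2 hy)
    exact congrArg Subtype.val h1
  have h4 := isInducedBlock_of_covers_of_centralizer_le hM (Q.subgroupOf (HH Q))
    hQ.comap_subtype ((CC Q).subgroupOf (HH Q)) hC' (tr Q θ) χ
    ⟨χ, mem_blockOf_self χ, tr Q θ, mem_blockOf_self _, hover⟩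
  obtain ⟨χ₁, h5⟩ := exists_isInducedBlock Q (HH Q) hM hQ (Q_le_HH Q) (CC_le_HH Q) (HH_le_LL Q) χ
  have h6 := isInducedBlock_trans (CC Q) (HH Q) (CC_le_HH Q) θ χ χ₁ h4 h5
  have h7 : B = blockOf M (χ₁ : G → ℂ) := isInducedBlock_unique (CC Q) hind h6
  rw [h7]
  exact h5

/-- The stabilizer condition on `e` and on the covering block of `Q C_G(Q)` agree. -/
theorem stab_iff (hM : IsPModular p M) (hQ : IsPGroup p Q) (θ : IrrCharacter (CC Q))
    (χ₀ : IrrCharacter (HH Q)) (hover : Over Q χ₀ θ) (g : G) (hg : g ∈ LL Q) :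
    StabilizesBlock (CC Q) (blockOf M (θ : CC Q → ℂ)) g ↔
      ∀ χ ∈ blockOf M (χ₀ : HH Q → ℂ), ∀ χ' : IrrCharacter (HH Q),
        (∀ h h' : HH Q, (h' : G) = g * h * g⁻¹ → (χ' : HH Q → ℂ) h' = (χ : HH Q → ℂ) h) →
          χ' ∈ blockOf M (χ₀ : HH Q → ℂ) := by
  haveI hPr := isPrime_of_isPModular hM
  have hgC := LL_le_normalizer_CC Q hg
  have hgH := LL_le_normalizer_HH Q hg
  have hOB := overSet_eq_blockOf ((CC Q).subgroupOf (HH Q)) hM (exists_index_CH Q hQ)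
    (inner_CH Q) (tr Q θ) χ₀ hover
  rw [stabilizesBlock_iff (CC Q) g hgC ⟨θ, rfl⟩]
  constructor
  · intro hst χ hχ χ' hconj
    have hχ' : χ' = cj (conjAut (HH Q) g hgH) χ := eq_cj_of_isConjCharOf (HH Q) g hgH hconj
    rw [← hOB] at hχ ⊢
    obtain ⟨θ₁', hθ₁', hcon⟩ := hχ
    obtain ⟨θ₁, rfl⟩ := (irrEquiv (Subgroup.subgroupOfEquivOfLe (CC_le_HH Q))).surjective θ₁'
    have hθ₁ : θ₁ ∈ blockOf M (θ : CC Q → ℂ) := (irrEquiv_mem_blockOf_iff _ θ θ₁).1 hθ₁'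
    have h1 : Over Q χ θ₁ := hcon
    have h2 : Over Q χ' (cj (conjAut (CC Q) g hgC) θ₁) := by
      rw [hχ', over_iff, ovSum_cj Q g hg, ← over_iff]
      exact h1
    have h3 : cj (conjAut (CC Q) g hgC) θ₁ ∈ blockOf M (θ : CC Q → ℂ) := by
      rw [← hst]
      exact ⟨θ₁, hθ₁, rfl⟩
    exact ⟨tr Q (cj (conjAut (CC Q) g hgC) θ₁), (irrEquiv_mem_blockOf_iff _ θ _).2 h3, h2⟩
  · intro h
    have h1 := h χ₀ (mem_blockOf_self χ₀) (cj (conjAut (HH Q) g hgH) χ₀)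
      (isConjCharOf_cj (HH Q) g hgH χ₀)
    have h2 : Over Q (cj (conjAut (HH Q) g hgH) χ₀) (cj (conjAut (CC Q) g hgC) θ) := by
      rw [over_iff, ovSum_cj Q g hg, ← over_iff]
      exact hover
    have h3 := constituent_mem_of_mem ((CC Q).subgroupOf (HH Q)) hM (inner_CH Q) (tr Q θ) χ₀
      hover _ h1 _ h2
    have h4 : cj (conjAut (CC Q) g hgC) θ ∈ blockOf M (θ : CC Q → ℂ) :=
      (irrEquiv_mem_blockOf_iff _ θ _).1 h3
    exact block_eq_of_mem (isPBlock_cj_image _ ⟨θ, rfl⟩) ⟨θ, rfl⟩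
      ⟨θ, mem_blockOf_self θ, rfl⟩ h4

end Block

section Stab

variable {G : Type*} [Group G] [Fintype G] {M : Ideal AlgInt} (Q : Subgroup G)

/-- The stabilizer `N_G(Q, e)`. -/
noncomputable def stabT (e : Set (IrrCharacter (CC Q))) : Subgroup G :=
  (@MulAction.stabilizer (LL Q) _ _ (blockAction (LL Q) (CC Q) (LL_le_normalizer_CC Q)) e).map
    (LL Q).subtype

theorem stabT_le (e : Set (IrrCharacter (CC Q))) : stabT Q e ≤ LL Q := by
  rintro _ ⟨t, -, rfl⟩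
  exact t.2

theorem mem_stabT [hPr : M.IsPrime] [Fintype (CC Q)] {e : Set (IrrCharacter (CC Q))}
    (he : IsPBlock M e) (g : G) :
    g ∈ stabT Q e ↔ g ∈ LL Q ∧ StabilizesBlock (CC Q) e g := by
  constructor
  · rintro ⟨t, ht, rfl⟩
    refine ⟨t.2, ?_⟩
    show StabilizesBlock (CC Q) e (t : G)
    rw [stabilizesBlock_iff (CC Q) (t : G) (LL_le_normalizer_CC Q t.2) he]
    exact ht
  · rintro ⟨hg, hst⟩
    refine ⟨⟨g, hg⟩, ?_, rfl⟩
    rw [stabilizesBlock_iff (CC Q) g (LL_le_normalizer_CC Q hg) he] at hst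
    exact hst

end Stab

section Core

variable {G : Type*} [Group G] [Fintype G] {p : ℕ} [Fact p.Prime] {M : Ideal AlgInt}

omit [Fintype G] in
theorem mem_of_pow_order_of_not_dvd_index {K : Type*} [Group K] [Finite K] (N : Subgroup K)
    [N.Normal] (hnd : ¬ p ∣ N.index) {x : K} (hx : ∃ k : ℕ, orderOf x = p ^ k) : x ∈ N := by
  have hp : p.Prime := Fact.out
  obtain ⟨k, hk⟩ := hx
  rw [← QuotientGroup.eq_one_iff]
  have h1 : orderOf (x : K ⧸ N) ∣ orderOf x := orderOf_dvd_of_pow_eq_one (by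
    rw [← QuotientGroup.mk_pow, pow_orderOf_eq_one]; rfl)
  rw [hk] at h1
  obtain ⟨j, _, hj⟩ := (Nat.dvd_prime_pow hp).1 h1
  rcases Nat.eq_zero_or_pos j with h0 | h0
  · rw [h0, pow_zero] at hj
    exact orderOf_eq_one_iff.1 hj
  · exfalso
    apply hnd
    rw [Subgroup.index_eq_card]
    exact (dvd_pow_self p h0.ne').trans (hj ▸ orderOf_dvd_natCard _)

/-- **Core criterion.** For a Brauer pair `(Q, e)` of `B` such that `Z(Q)` is a defect group of
`e`: `Q` is a defect group of `B` iff every `p`-element of `N_G(Q, e)` lies in `Q C_G(Q)`. -/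
theorem core (hM : IsPModular p M) (Q : Subgroup G) (hQ : IsPGroup p Q)
    (e : Set (IrrCharacter (CC Q))) (he : IsPBlock M e)
    (hZ : IsDefectGroup p M e ((Q ⊓ CC Q).subgroupOf (CC Q)))
    (B : Set (IrrCharacter G)) (hB : IsBrauerPairOf p M B Q e) :
    IsDefectGroup p M B Q ↔
      ∀ g : G, g ∈ LL Q → StabilizesBlock (CC Q) e g → (∃ k : ℕ, orderOf g = p ^ k) →
        g ∈ HH Q := by
  classical
  haveI hPr := isPrime_of_isPModular hM
  have hp : p.Prime := Fact.out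
  haveI : Fintype (CC Q) := Fintype.ofFinite _
  haveI : Fintype (HH Q) := Fintype.ofFinite _
  haveI : Fintype (LL Q) := Fintype.ofFinite _
  haveI : Fintype ((CC Q).subgroupOf (HH Q)) := Fintype.ofFinite _
  have hind := BrauerDefect.isInducedBlock_of_pair hM hB
  obtain ⟨θ, rfl⟩ := he
  obtain ⟨χ₀, hover⟩ := exists_over Q θ
  have hhat := isInducedBlock_hat Q hM hQ θ χ₀ hover B hind
  obtain ⟨χ₁, rfl⟩ := hB.2.1
  have hD := isDefectGroup_hat Q hM hQ θ hZ χ₀ hover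
  have hT : ∀ g : G, g ∈ LL Q → (g ∈ stabT Q (blockOf M (θ : CC Q → ℂ)) ↔
      ∀ χ ∈ blockOf M (χ₀ : HH Q → ℂ), ∀ χ' : IrrCharacter (HH Q),
        (∀ h h' : HH Q, (h' : G) = g * h * g⁻¹ → (χ' : HH Q → ℂ) h' = (χ : HH Q → ℂ) h) →
          χ' ∈ blockOf M (χ₀ : HH Q → ℂ)) := by
    intro g hg
    rw [mem_stabT (M := M) Q ⟨θ, rfl⟩ g, ← stab_iff Q hM hQ θ χ₀ hover g hg]
    exact ⟨fun h => h.2, fun h => ⟨hg, h⟩⟩
  have key := defect_iff_aux hM Q (HH Q) (LL Q) (stabT Q (blockOf M (θ : CC Q → ℂ))) rfl hQ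
    (Q_le_HH Q) (CC_le_HH Q) (HH_le_LL Q) χ₀ hD χ₁ hhat (stabT_le Q _) hT
  rw [key]
  have hTN : stabT Q (blockOf M (θ : CC Q → ℂ)) ≤
      Subgroup.normalizer ((HH Q : Subgroup G) : Set G) :=
    (stabT_le Q _).trans (LL_le_normalizer_HH Q)
  haveI hnorm : ((HH Q).subgroupOf (stabT Q (blockOf M (θ : CC Q → ℂ)))).Normal :=
    Subgroup.normal_subgroupOf_of_le_normalizer hTN
  constructor
  · intro hnd g hgL hst hpow
    have hgT : g ∈ stabT Q (blockOf M (θ : CC Q → ℂ)) :=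
      (mem_stabT (M := M) Q ⟨θ, rfl⟩ g).2 ⟨hgL, hst⟩
    have hx : ∃ k : ℕ, orderOf (⟨g, hgT⟩ : stabT Q (blockOf M (θ : CC Q → ℂ))) = p ^ k := by
      obtain ⟨k, hk⟩ := hpow
      exact ⟨k, by rw [← hk, ← Subgroup.orderOf_coe]⟩
    exact mem_of_pow_order_of_not_dvd_index
      ((HH Q).subgroupOf (stabT Q (blockOf M (θ : CC Q → ℂ)))) hnd hx
  · intro hall
    obtain ⟨S⟩ : Nonempty (Sylow p (stabT Q (blockOf M (θ : CC Q → ℂ)))) := inferInstance
    have hle : (S : Subgroup (stabT Q (blockOf M (θ : CC Q → ℂ)))) ≤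
        (HH Q).subgroupOf (stabT Q (blockOf M (θ : CC Q → ℂ))) := by
      intro s hs
      rw [Subgroup.mem_subgroupOf]
      obtain ⟨hsL, hsst⟩ := (mem_stabT (M := M) Q ⟨θ, rfl⟩ (s : G)).1 s.2
      apply hall _ hsL hsst
      obtain ⟨k, hk⟩ := (IsPGroup.iff_orderOf.1 S.isPGroup') ⟨s, hs⟩
      refine ⟨k, ?_⟩
      rw [Subgroup.orderOf_coe, ← hk]
      exact Subgroup.orderOf_coe (⟨s, hs⟩ : (S : Subgroup _))
    have h1 := Subgroup.index_dvd_of_le hle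
    intro hdvd
    exact S.not_dvd_index (hdvd.trans h1)

end Core

end Cfsg.Agent.Lib.H23.MaxPair
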