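import Mathlib
import Cfsg.Agent.Lib.H20.ConjCover

set_option autoImplicit false

namespace Cfsg.Agent.Lib.H23.CoprimeFix

open scoped Pointwise

variable {G : Type*} [Group G] [Finite G] {p : ℕ} [Fact p.Prime]

/-- A `p`-group `P` normalizing a `p'`-group `K` and fixing every `K`-conjugacy class of `K`
fixes a point in each class. -/
theorem exists_conj_mem_centralizer (P K : Subgroup G) (hP : IsPGroup p P)
    (hK : (Nat.card K).Coprime p) (hPK : P ≤ Subgroup.normalizer (K : Set G))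
    (h : ∀ y ∈ P, ∀ k ∈ K, ∃ c ∈ K, y * k * y⁻¹ = c * k * c⁻¹) (k : G) (hk : k ∈ K) :
    ∃ c ∈ K, c * k * c⁻¹ ∈ Subgroup.centralizer (P : Set G) := by
  classical
  -- actions by conjugation
  letI actK : MulAction K G := MulAction.compHom G ((MulAut.conj).comp K.subtype)
  letI actP : MulAction P G := MulAction.compHom G ((MulAut.conj).comp P.subtype)
  have hKs : ∀ (c : K) (g : G), c • g = (c : G) * g * (c : G)⁻¹ := fun c g => rfl
  have hPs : ∀ (y : P) (g : G), y • g = (y : G) * g * (y : G)⁻¹ := fun y g => rfl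
  set S : Set G := MulAction.orbit K k with hS
  have hSK : ∀ x ∈ S, x ∈ K := by
    rintro x ⟨c, rfl⟩
    show c • k ∈ K
    rw [hKs]
    exact K.mul_mem (K.mul_mem c.2 hk) (K.inv_mem c.2)
  have hSP : ∀ (y : P), ∀ x ∈ S, y • x ∈ S := by
    rintro y x ⟨c, rfl⟩
    obtain ⟨c', hc', hyk⟩ := h y y.2 k hk
    have hyc : (y : G) * (c : G) * (y : G)⁻¹ ∈ K :=
      (Subgroup.mem_normalizer_iff.1 (hPK y.2) (c : G)).1 c.2
    refine ⟨⟨(y : G) * (c : G) * (y : G)⁻¹ * c', K.mul_mem hyc hc'⟩, ?_⟩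
    show (⟨(y : G) * (c : G) * (y : G)⁻¹ * c', _⟩ : K) • k = y • (c • k)
    rw [hKs, hPs, hKs]
    simp only []
    have : (y : G) * ((c : G) * k * (c : G)⁻¹) * (y : G)⁻¹ =
        ((y : G) * (c : G) * (y : G)⁻¹) * ((y : G) * k * (y : G)⁻¹) *
          ((y : G) * (c : G) * (y : G)⁻¹)⁻¹ := by group
    rw [this, hyk]
    group
  let sub : SubMulAction P G := ⟨S, fun y x hx => hSP y x hx⟩
  haveI : Finite sub := Set.Finite.to_subtype (Set.toFinite S)
  have hcard : ¬ p ∣ Nat.card sub := by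
    have h1 : (MulAction.stabilizer K k).index = (MulAction.orbit K k).ncard :=
      MulAction.index_stabilizer K k
    have h2 : Nat.card sub ∣ Nat.card K := by
      have h3 : Nat.card sub = (MulAction.orbit K k).ncard := Nat.card_coe_set_eq _
      rw [h3, ← h1]
      exact Subgroup.index_dvd_card _
    intro hp
    have hp' : p ∣ Nat.card K := hp.trans h2
    have := Nat.Coprime.eq_one_of_dvd hK.symm hp'
    exact (Fact.out : p.Prime).one_lt.ne' this
  obtain ⟨x, hx⟩ := hP.nonempty_fixed_point_of_prime_not_dvd_card sub hcard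
  obtain ⟨c, hc⟩ : ∃ c : K, c • k = (x : G) := x.2
  refine ⟨c, c.2, ?_⟩
  rw [← hKs, hc, Subgroup.mem_centralizer_iff]
  intro y hy
  have h3 := hx ⟨y, hy⟩
  have h4 : (⟨y, hy⟩ : P) • (x : G) = (x : G) := congrArg Subtype.val h3
  rw [hPs] at h4
  simp only [] at h4
  calc y * (x : G) = y * (x : G) * y⁻¹ * y := by group
    _ = (x : G) * y := by rw [h4]

/-- A `p`-group acting on a `p'`-group and fixing every conjugacy class centralizes it. -/
theorem le_centralizer_of_fixes_classes (P K : Subgroup G) (hP : IsPGroup p P)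
    (hK : (Nat.card K).Coprime p) (hPK : P ≤ Subgroup.normalizer (K : Set G))
    (h : ∀ y ∈ P, ∀ k ∈ K, ∃ c ∈ K, y * k * y⁻¹ = c * k * c⁻¹) :
    K ≤ Subgroup.centralizer (P : Set G) := by
  classical
  set M : Subgroup K := (Subgroup.centralizer (P : Set G)).subgroupOf K with hM
  by_cases hMtop : M = ⊤
  · intro k hk
    have : (⟨k, hk⟩ : K) ∈ M := by rw [hMtop]; trivial
    exact this
  · exfalso
    obtain ⟨g, hg⟩ := Cfsg.Agent.Lib.H20.exists_not_mem_conj M hMtop
    obtain ⟨c, hc, hcen⟩ := exists_conj_mem_centralizer P K hP hK hPK h (g : G) g.2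
    apply hg (⟨c, hc⟩⁻¹ : K)
    rw [Subgroup.mem_pointwise_smul_iff_inv_smul_mem, ← map_inv, inv_inv]
    show (⟨c, hc⟩ : K) * g * (⟨c, hc⟩ : K)⁻¹ ∈ M
    rw [hM, Subgroup.mem_subgroupOf]
    exact hcen

end Cfsg.Agent.Lib.H23.CoprimeFix
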