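import Cfsg.Agent.Lib.H23.Isaacs1129b
import Cfsg.Agent.Lib.H23.CoprimeFix
import Cfsg.Agent.Lib.H24.CharPermLemma
import Cfsg.Agent.Lib.H24.CharOrth
import Cfsg.Agent.Lib.H10.PSolvable2
import Cfsg.Agent.Lib.H24.CharDefl
import Cfsg.Agent.Lib.H23.BlockNormalDefect
import Cfsg.Agent.Lib.H23.BlockCovering

/-!
# Itô–Michler for `p`-solvable groups (helper23)

`ito_michler_pSolvable`: a finite `p`-solvable group all of whose irreducible characters have degree
prime to `p` has a normal abelian Sylow `p`-subgroup.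
-/

set_option autoImplicit false

namespace Cfsg.Agent.Lib.H23.ItoMichler

open Cfsg Cfsg.Agent.Lib.H23 Cfsg.Agent.Lib.H24 Cfsg.Agent.Lib.L0

section Normal

variable {G : Type*} [Group G] [Fintype G] {p : ℕ}

/-- Degrees of irreducible characters of a normal subgroup divide degrees of characters of `G`. -/
theorem not_dvd_degree_of_normal (hdeg : ∀ χ : IrrCharacter G, ¬ p ∣ charDegree (χ : G → ℂ))
    (H : Subgroup G) [H.Normal] [Fintype H] (η : IrrCharacter H) :
    ¬ p ∣ charDegree (η : H → ℂ) := by
  obtain ⟨χ, hχ⟩ := exists_irr_over_restrict H η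
  have := charDegree_dvd_of_constituent H χ.2 η.2 hχ
  intro h
  exact hdeg χ (h.trans this)

variable [Fact p.Prime]

/-- If `K ⊴ L` has `p`-power index and all irreducible characters of `L` have `p'`-degree, every
irreducible character of `K` is `L`-invariant. -/
theorem invariant_of_index_pow (hdeg : ∀ χ : IrrCharacter G, ¬ p ∣ charDegree (χ : G → ℂ))
    (K : Subgroup G) [hK : K.Normal] [Fintype K] {k : ℕ} (hidx : K.index = p ^ k)
    (θ : IrrCharacter K) (g : G) (n : K) :
    (θ : K → ℂ) ⟨g * n * g⁻¹, hK.conj_mem (n : G) n.2 g⟩ = (θ : K → ℂ) n := by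
  have hp : p.Prime := Fact.out
  obtain ⟨χ, hχ⟩ := exists_irr_over_restrict K θ
  have h1 := inertia_index_dvd_charDegree K χ.2 θ.2 hχ
  have hle : K ≤ inertia K (θ : K → ℂ) :=
    le_inertia K (isClassFunction_of_isCharacter (isCharacter_of_irr θ.2))
  have h2 : (inertia K (θ : K → ℂ)).index ∣ p ^ k := hidx ▸ Subgroup.index_dvd_of_le hle
  obtain ⟨j, _, hj⟩ := (Nat.dvd_prime_pow hp).1 h2
  have hj0 : j = 0 := by
    by_contra hne
    apply hdeg χ
    refine dvd_trans ?_ h1
    rw [hj]
    exact dvd_pow_self p hne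
  rw [hj0, pow_zero] at hj
  have htop : inertia K (θ : K → ℂ) = ⊤ := Subgroup.index_eq_one.1 hj
  have : g ∈ inertia K (θ : K → ℂ) := by rw [htop]; trivial
  exact this n

/-- If every irreducible character of the normal subgroup `K` is fixed by `y`, then `y` fixes every
conjugacy class of `K`. -/
theorem exists_conj_of_invariant (K : Subgroup G) [hK : K.Normal] [Fintype K] (y : G)
    (hinv : ∀ (θ : IrrCharacter K) (n : K),
      (θ : K → ℂ) ⟨y * n * y⁻¹, hK.conj_mem (n : G) n.2 y⟩ = (θ : K → ℂ) n)
    (k : G) (hk : k ∈ K) : ∃ c ∈ K, y * k * y⁻¹ = c * k * c⁻¹ := by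
  classical
  set τ : K → K := fun n => ⟨y * n * y⁻¹, hK.conj_mem (n : G) n.2 y⟩ with hτ
  have hfix : ∀ χ : IrrCharacter K, (χ : K → ℂ) ∘ τ = (χ : K → ℂ) := by
    intro χ
    funext n
    exact hinv χ n
  have hperm := perm_lemma (G := K) τ (fun χ => by rw [hfix χ]; exact χ.2)
  have h1 : Nat.card {χ : IrrCharacter K // (χ : K → ℂ) ∘ τ = (χ : K → ℂ)} =
      Nat.card (IrrCharacter K) := Nat.card_congr (Equiv.subtypeUnivEquiv hfix)
  rw [h1, card_irr_eq_card_conjClasses] at hperm
  haveI : Fintype (ConjClasses K) := Fintype.ofFinite _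
  have h2 : ∀ C : ConjClasses K, ∀ g : K, ConjClasses.mk g = C → IsConj (τ g) g := by
    by_contra hcon
    push Not at hcon
    obtain ⟨C, hC⟩ := hcon
    have := Fintype.card_subtype_lt (p := fun C : ConjClasses K =>
      ∀ g : K, ConjClasses.mk g = C → IsConj (τ g) g) (x := C) (by
        intro h
        obtain ⟨g, hg, hng⟩ := hC
        exact hng (h g hg))
    rw [Nat.card_eq_fintype_card, Nat.card_eq_fintype_card] at hperm
    omega
  have h3 := h2 _ ⟨k, hk⟩ rfl
  obtain ⟨c, hc⟩ := isConj_iff.1 h3.symm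
  refine ⟨c, c.2, ?_⟩
  have := congrArg Subtype.val hc
  simpa [hτ] using this.symm

end Normal

section Main

universe u

variable {p : ℕ} [Fact p.Prime]

/-- A group with a normal `p'`-subgroup of `p`-power index, all of whose irreducible characters have
`p'`-degree, has normal Sylow `p`-subgroups. -/
theorem sylow_normal_of_index_pow {L : Type*} [Group L] [Fintype L]
    (hdeg : ∀ χ : IrrCharacter L, ¬ p ∣ charDegree (χ : L → ℂ))
    (K : Subgroup L) [hK : K.Normal] (hKc : (Nat.card K).Coprime p) {k : ℕ}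
    (hidx : K.index = p ^ k) (P : Sylow p L) : (P : Subgroup L).Normal := by
  classical
  have hp : p.Prime := Fact.out
  haveI : Fintype K := Fintype.ofFinite _
  have hcen : K ≤ Subgroup.centralizer ((P : Subgroup L) : Set L) := by
    apply CoprimeFix.le_centralizer_of_fixes_classes (P : Subgroup L) K P.isPGroup' hKc
    · intro y _
      exact Subgroup.mem_normalizer_iff.2 (fun n =>
        ⟨fun hn => hK.conj_mem n hn y, fun hn => by
          have := hK.conj_mem _ hn y⁻¹
          simpa [mul_assoc] using this⟩)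
    · intro y _ k' hk'
      exact exists_conj_of_invariant K y
        (fun θ n => invariant_of_index_pow hdeg K hidx θ y n) k' hk'
  have hKN : K ≤ Subgroup.normalizer ((P : Subgroup L) : Set L) :=
    hcen.trans (Subgroup.centralizer_le_normalizer _)
  have h1 : (Subgroup.normalizer ((P : Subgroup L) : Set L)).index ∣ p ^ k :=
    hidx ▸ Subgroup.index_dvd_of_le hKN
  have h2 : (Subgroup.normalizer ((P : Subgroup L) : Set L)).index ∣ (P : Subgroup L).index :=
    Subgroup.index_dvd_of_le Subgroup.le_normalizer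
  obtain ⟨j, _, hj⟩ := (Nat.dvd_prime_pow hp).1 h1
  have hj0 : j = 0 := by
    by_contra hne
    apply P.not_dvd_index
    refine dvd_trans ?_ h2
    rw [hj]
    exact dvd_pow_self p hne
  rw [hj0, pow_zero] at hj
  have htop : Subgroup.normalizer ((P : Subgroup L) : Set L) = ⊤ := Subgroup.index_eq_one.1 hj
  exact Subgroup.normalizer_eq_top_iff.1 htop

/-- Normality of the Sylow `p`-subgroups, by induction on the order. -/
theorem sylow_normal_aux : ∀ (n : ℕ) (G : Type u) [Group G] [Finite G], Nat.card G = n →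
    IsPSolvable p G → (∀ χ : IrrCharacter G, ¬ p ∣ charDegree (χ : G → ℂ)) →
    ∀ P : Sylow p G, (P : Subgroup G).Normal := by
  intro n
  induction n using Nat.strong_induction_on with
  | _ n ih =>
    intro G _ _ hn hsolv hdeg P
    classical
    have hp : p.Prime := Fact.out
    haveI := Fintype.ofFinite G
    by_cases hnt : Nontrivial G
    swap
    · rw [not_nontrivial_iff_subsingleton] at hnt
      exact ⟨fun a ha g => by
        have : g * a * g⁻¹ = a := Subsingleton.elim _ _
        rw [this]; exact ha⟩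
    obtain ⟨K, hKn, hK1, hKcase⟩ := Cfsg.Agent.Lib.H10.exists_normal_of_isPSolvable hsolv
    haveI := hKn
    haveI : Fintype (G ⧸ K) := Fintype.ofFinite _
    have hcardlt : Nat.card (G ⧸ K) < n := by
      rw [← hn, ← Subgroup.index_eq_card, ← Subgroup.index_mul_card K]
      have h1 : 1 < Nat.card K := (Subgroup.one_lt_card_iff_ne_bot K).2 hK1
      have h2 : 0 < K.index := Nat.pos_of_ne_zero Subgroup.index_ne_zero_of_finite
      nlinarith
    have hsolvq := Cfsg.Agent.Lib.H10.isPSolvable_quotient hsolv K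
    have hdegq : ∀ ψ : IrrCharacter (G ⧸ K), ¬ p ∣ charDegree (ψ : G ⧸ K → ℂ) := fun ψ => by
      rw [← charDegree_inflIrr K ψ]; exact hdeg _
    set Pq : Sylow p (G ⧸ K) := P.mapSurjective (QuotientGroup.mk'_surjective K) with hPqdef
    have hPq := ih _ hcardlt (G ⧸ K) rfl hsolvq hdegq Pq
    set H := (Pq : Subgroup (G ⧸ K)).comap (QuotientGroup.mk' K) with hH
    haveI hHn : H.Normal := hPq.comap _
    have hPH : (P : Subgroup G) ≤ H := fun x hx => by
      rw [hH, Subgroup.mem_comap, hPqdef, Sylow.coe_mapSurjective]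
      exact Subgroup.mem_map_of_mem _ hx
    have hKH : K ≤ H := fun x hx => by
      rw [hH, Subgroup.mem_comap]
      have : QuotientGroup.mk' K x = 1 := (QuotientGroup.eq_one_iff x).2 hx
      rw [this]; exact one_mem _
    rcases hKcase with hKp | hKc
    · have hKP : K ≤ P := hKp.le_sylow_of_normal P
      have hHP : H = P := by
        apply le_antisymm _ hPH
        intro x hx
        rw [hH, Subgroup.mem_comap, hPqdef, Sylow.coe_mapSurjective] at hx
        obtain ⟨y, hy, hyx⟩ := hx
        have h1 : y⁻¹ * x ∈ K := QuotientGroup.eq.1 hyx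
        have h2 := (P : Subgroup G).mul_mem hy (hKP h1)
        simpa using h2
      rw [← hHP]; exact hHn
    · haveI : Fintype H := Fintype.ofFinite _
      have hdegH := not_dvd_degree_of_normal hdeg H
      haveI : (K.subgroupOf H).Normal := hKn.subgroupOf H
      have hKc' : (Nat.card (K.subgroupOf H)).Coprime p := by
        rw [Nat.card_congr (Subgroup.subgroupOfEquivOfLe hKH).toEquiv]; exact hKc
      have hidx : ∃ k, (K.subgroupOf H).index = p ^ k := by
        set f : H →* G ⧸ K := (QuotientGroup.mk' K).comp H.subtype with hf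
        have hker : f.ker = K.subgroupOf H := by
          ext x
          rw [MonoidHom.mem_ker, Subgroup.mem_subgroupOf]
          exact QuotientGroup.eq_one_iff (x : G)
        have hrange : f.range ≤ (Pq : Subgroup (G ⧸ K)) := by
          rintro _ ⟨x, rfl⟩; exact x.2
        rw [← hker, Subgroup.index_ker]
        obtain ⟨m, hm⟩ := IsPGroup.iff_card.1 Pq.isPGroup'
        have h3 := Subgroup.card_dvd_of_le hrange
        rw [hm] at h3
        obtain ⟨j, _, hj⟩ := (Nat.dvd_prime_pow hp).1 h3
        exact ⟨j, hj⟩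
      obtain ⟨k, hk⟩ := hidx
      have hPHn := sylow_normal_of_index_pow hdegH (K.subgroupOf H) hKc' hk (P.subtype hPH)
      haveI : ((P.subtype hPH : Sylow p H) : Subgroup H).Characteristic :=
        Sylow.characteristic_of_normal _ hPHn
      have h4 := ConjAct.normal_of_characteristic_of_normal (H := H)
        (K := ((P.subtype hPH : Sylow p H) : Subgroup H))
      rw [Sylow.coe_subtype, Subgroup.map_subgroupOf_eq_of_le hPH] at h4
      exact h4

/-- **Itô–Michler for `p`-solvable groups**: if all irreducible characters of the `p`-solvable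
group `G` have degree prime to `p`, the Sylow `p`-subgroup is normal and abelian. -/
theorem ito_michler_pSolvable {G : Type u} [Group G] [Finite G] (hsolv : IsPSolvable p G)
    (hdeg : ∀ χ : IrrCharacter G, ¬ p ∣ charDegree (χ : G → ℂ)) (P : Sylow p G) :
    (P : Subgroup G).Normal ∧ ∀ a ∈ (P : Subgroup G), ∀ b ∈ (P : Subgroup G), a * b = b * a := by
  classical
  have hp : p.Prime := Fact.out
  haveI := Fintype.ofFinite G
  have hn := sylow_normal_aux _ G rfl hsolv hdeg P
  refine ⟨hn, ?_⟩
  haveI := hn
  haveI : Fintype (P : Subgroup G) := Fintype.ofFinite _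
  have hlin : ∀ ξ : IrrCharacter (P : Subgroup G), (ξ : ↥(P : Subgroup G) → ℂ) 1 = 1 := by
    intro ξ
    have h1 := not_dvd_degree_of_normal hdeg (P : Subgroup G) ξ
    have h2 := charDegree_dvd_card (ξ : ↥(P : Subgroup G) → ℂ) ξ.2
    obtain ⟨m, hm⟩ := IsPGroup.iff_card.1 P.isPGroup'
    rw [hm] at h2
    obtain ⟨j, _, hj⟩ := (Nat.dvd_prime_pow hp).1 h2
    have hj0 : j = 0 := by
      by_contra hne
      apply h1
      rw [hj]
      exact dvd_pow_self p hne
    rw [hj0, pow_zero] at hj
    rw [apply_one_eq_charDegree _ ξ.2, hj]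
    simp
  have hcomm := Cfsg.Agent.Lib.H23.NormalDefect.comm_of_forall_linear hlin
  intro a ha b hb
  exact congrArg Subtype.val (hcomm ⟨a, ha⟩ ⟨b, hb⟩)

end Main

end Cfsg.Agent.Lib.H23.ItoMichler
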