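import Cfsg.Agent.Lib.H23.ContribM

/-!
# Orthogonality of the contributions of different blocks of the same section (helper23)

`H ≤ G`, `z` a central `p`-element of `H` with `C_G(z) ≤ H`, `b₁ b₂` blocks of `H`:
* `sum_contrib_mul_contrib_same`: `∑_ψ m^{b}_{χψ} m^{b}_{ψχ'} = m^{b}_{χχ'}`;
* `sum_contrib_mul_contrib_ne`: `∑_ψ m^{b₁}_{χψ} m^{b₂}_{ψχ'} = 0` for `b₁ ≠ b₂`.
-/

set_option autoImplicit false

namespace Cfsg.Agent.Lib.H23.Contrib

open Cfsg MonoidAlgebra Cfsg.Agent.Lib.H23 Cfsg.Agent.Lib.H24 Cfsg.Agent.Lib.L0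
open scoped ComplexConjugate

variable {G : Type*} [Group G] [Fintype G] {p : ℕ} {M : Ideal AlgInt}
  [Fintype (IrrCharacter G)] (H : Subgroup G) [Fintype H] [Fintype (IrrCharacter H)]

omit [Fintype G] [Fintype (IrrCharacter G)] in
/-- The reproducing property of the block kernel on `p`-regular elements. -/
theorem sum_reg_irr_mul_kernel (hM : IsPModular p M) (ξ₂ : IrrCharacter H)
    [DecidablePred (· ∈ blockOf M (ξ₂ : H → ℂ))] (ξ' : IrrCharacter H) {s' : H}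
    (hs' : ¬ p ∣ orderOf s') :
    ∑ s : H, (if p ∣ orderOf s then 0 else (ξ' : H → ℂ) s *
      ∑ ξ : IrrCharacter H, (if ξ ∈ blockOf M (ξ₂ : H → ℂ) then
        (ξ : H → ℂ) s' * conj ((ξ : H → ℂ) s) else 0)) =
      if ξ' ∈ blockOf M (ξ₂ : H → ℂ) then (Nat.card H : ℂ) * (ξ' : H → ℂ) s' else 0 := by
  have hH0 : (Nat.card H : ℂ) ≠ 0 := Nat.cast_ne_zero.2 Nat.card_pos.ne'
  have h1 : ∑ s : H, (if p ∣ orderOf s then 0 else (ξ' : H → ℂ) s *
      ∑ ξ : IrrCharacter H, (if ξ ∈ blockOf M (ξ₂ : H → ℂ) then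
        (ξ : H → ℂ) s' * conj ((ξ : H → ℂ) s) else 0)) =
      ∑ ξ : IrrCharacter H, (if ξ ∈ blockOf M (ξ₂ : H → ℂ) then
        (ξ : H → ℂ) s' * ((Nat.card H : ℂ) * pin p (ξ' : H → ℂ) (ξ : H → ℂ)) else 0) := by
    have : ∀ s : H, (if p ∣ orderOf s then 0 else (ξ' : H → ℂ) s *
        ∑ ξ : IrrCharacter H, (if ξ ∈ blockOf M (ξ₂ : H → ℂ) then
          (ξ : H → ℂ) s' * conj ((ξ : H → ℂ) s) else 0)) =
        ∑ ξ : IrrCharacter H, (if ξ ∈ blockOf M (ξ₂ : H → ℂ) then (ξ : H → ℂ) s' *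
          (if p ∣ orderOf s then 0 else (ξ' : H → ℂ) s * conj ((ξ : H → ℂ) s)) else 0) := by
      intro s
      split_ifs with hs
      · simp
      · rw [Finset.mul_sum]
        refine Finset.sum_congr rfl fun ξ _ => ?_
        split_ifs
        · ring
        · rw [mul_zero]
    simp only [this]
    rw [Finset.sum_comm]
    refine Finset.sum_congr rfl fun ξ _ => ?_
    split_ifs
    · rw [pin_eq, ← mul_assoc (Nat.card H : ℂ), mul_inv_cancel₀ hH0, one_mul, Finset.mul_sum]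
    · simp
  rw [h1]
  by_cases hξ' : ξ' ∈ blockOf M (ξ₂ : H → ℂ)
  · rw [if_pos hξ']
    have h2 := sum_pin_mul_irr hM ξ₂ (blockOf M (ξ₂ : H → ℂ)) rfl hξ' hs'
    rw [← h2, Finset.mul_sum]
    refine Finset.sum_congr rfl fun ξ _ => ?_
    split_ifs
    · ring
    · rw [mul_zero]
  · rw [if_neg hξ']
    refine Finset.sum_eq_zero fun ξ _ => ?_
    split_ifs with hξ
    · have h3 := pin_eq_zero_of_not_mem hM ξ₂ (blockOf M (ξ₂ : H → ℂ)) rfl hξ hξ'
      have h4 : pin p (ξ' : H → ℂ) (ξ : H → ℂ) = 0 := by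
        rw [← pin_conj, h3, map_zero]
      rw [h4, mul_zero, mul_zero]
    · rfl

/-- `∑_{s reg} bpart_{b₁} χ (z s) K_{b₂}(s', s)`. -/
theorem sum_reg_bpart_mul_kernel (hM : IsPModular p M) {z : H} (hzc : z ∈ Subgroup.center H)
    (ξ₁ ξ₂ : IrrCharacter H) [DecidablePred (· ∈ blockOf M (ξ₁ : H → ℂ))]
    [DecidablePred (· ∈ blockOf M (ξ₂ : H → ℂ))] (χ : IrrCharacter G) {s' : H}
    (hs' : ¬ p ∣ orderOf s') :
    ∑ s : H, (if p ∣ orderOf s then 0 else bpart H (blockOf M (ξ₁ : H → ℂ)) (χ : G → ℂ) (z * s) *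
      ∑ ξ : IrrCharacter H, (if ξ ∈ blockOf M (ξ₂ : H → ℂ) then
        (ξ : H → ℂ) s' * conj ((ξ : H → ℂ) s) else 0)) =
      ∑ ξ' : IrrCharacter H, (if ξ' ∈ blockOf M (ξ₁ : H → ℂ) ∧ ξ' ∈ blockOf M (ξ₂ : H → ℂ) then
        (Nat.card H : ℂ) * ((ξ' : H → ℂ) (z * s') * resMult H (χ : G → ℂ) (ξ' : H → ℂ)) else 0) := by
  have h1 : ∀ s : H, (if p ∣ orderOf s then 0 else
      bpart H (blockOf M (ξ₁ : H → ℂ)) (χ : G → ℂ) (z * s) *
      ∑ ξ : IrrCharacter H, (if ξ ∈ blockOf M (ξ₂ : H → ℂ) then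
        (ξ : H → ℂ) s' * conj ((ξ : H → ℂ) s) else 0)) =
      ∑ ξ' : IrrCharacter H, (if ξ' ∈ blockOf M (ξ₁ : H → ℂ) then
        ((ξ' : H → ℂ) z / (ξ' : H → ℂ) 1 * resMult H (χ : G → ℂ) (ξ' : H → ℂ)) *
        (if p ∣ orderOf s then 0 else (ξ' : H → ℂ) s *
          ∑ ξ : IrrCharacter H, (if ξ ∈ blockOf M (ξ₂ : H → ℂ) then
            (ξ : H → ℂ) s' * conj ((ξ : H → ℂ) s) else 0)) else 0) := by
    intro s
    split_ifs with hs
    · simp
    · rw [bpart_eq_sum, Finset.sum_mul]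
      refine Finset.sum_congr rfl fun ξ' _ => ?_
      split_ifs
      · rw [irr_central_mul ξ' hzc]
        ring
      · rw [zero_mul]
  simp only [h1]
  rw [Finset.sum_comm]
  refine Finset.sum_congr rfl fun ξ' _ => ?_
  by_cases h1' : ξ' ∈ blockOf M (ξ₁ : H → ℂ)
  · simp only [if_pos h1']
    rw [← Finset.mul_sum, sum_reg_irr_mul_kernel H hM ξ₂ ξ' hs']
    by_cases h2' : ξ' ∈ blockOf M (ξ₂ : H → ℂ)
    · rw [if_pos h2', if_pos ⟨h1', h2'⟩, irr_central_mul ξ' hzc]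
      ring
    · rw [if_neg h2', if_neg (fun h => h2' h.2), mul_zero]
  · simp only [if_neg h1']
    rw [Finset.sum_const_zero, if_neg (fun h => h1' h.1)]

/-- The product of the contribution matrices of two blocks, expanded. -/
theorem sum_contrib_mul_contrib_expand (hM : IsPModular p M) {z : H}
    (hzc : z ∈ Subgroup.center H) (hz : ∃ k : ℕ, orderOf z = p ^ k)
    (hC : ∀ g : G, g * (z : G) * g⁻¹ = (z : G) → g ∈ H)
    (ξ₁ ξ₂ : IrrCharacter H) [DecidablePred (· ∈ blockOf M (ξ₁ : H → ℂ))]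
    [DecidablePred (· ∈ blockOf M (ξ₂ : H → ℂ))] (χ χ' : IrrCharacter G) :
    ∑ ψ : IrrCharacter G, contrib p H (blockOf M (ξ₁ : H → ℂ)) z (χ : G → ℂ) (ψ : G → ℂ) *
        contrib p H (blockOf M (ξ₂ : H → ℂ)) z (ψ : G → ℂ) (χ' : G → ℂ) =
      (Nat.card H : ℂ)⁻¹ * ∑ s' : H, (if p ∣ orderOf s' then 0 else
        (∑ ξ' : IrrCharacter H,
          (if ξ' ∈ blockOf M (ξ₁ : H → ℂ) ∧ ξ' ∈ blockOf M (ξ₂ : H → ℂ) then
            (ξ' : H → ℂ) (z * s') * resMult H (χ : G → ℂ) (ξ' : H → ℂ) else 0)) *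
          conj ((χ' : G → ℂ) ((z * s' : H) : G))) := by
  have hH0 : (Nat.card H : ℂ) ≠ 0 := Nat.cast_ne_zero.2 Nat.card_pos.ne'
  unfold contrib
  -- expand the product into a triple sum
  have h1 : ∀ ψ : IrrCharacter G,
      ((Nat.card H : ℂ)⁻¹ * ∑ s : H, (if p ∣ orderOf s then 0 else
        bpart H (blockOf M (ξ₁ : H → ℂ)) (χ : G → ℂ) (z * s) *
          conj ((ψ : G → ℂ) ((z * s : H) : G)))) *
      ((Nat.card H : ℂ)⁻¹ * ∑ s' : H, (if p ∣ orderOf s' then 0 else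
        bpart H (blockOf M (ξ₂ : H → ℂ)) (ψ : G → ℂ) (z * s') *
          conj ((χ' : G → ℂ) ((z * s' : H) : G)))) =
      (Nat.card H : ℂ)⁻¹ * ((Nat.card H : ℂ)⁻¹ * ∑ s' : H, ∑ s : H,
        (if p ∣ orderOf s' then 0 else (if p ∣ orderOf s then 0 else
          bpart H (blockOf M (ξ₁ : H → ℂ)) (χ : G → ℂ) (z * s) *
          conj ((χ' : G → ℂ) ((z * s' : H) : G)) *
          (bpart H (blockOf M (ξ₂ : H → ℂ)) (ψ : G → ℂ) (z * s') *
            conj ((ψ : G → ℂ) ((z * s : H) : G)))))) := by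
    intro ψ
    rw [mul_mul_mul_comm, Finset.sum_mul_sum, mul_assoc, Finset.sum_comm]
    congr 2
    refine Finset.sum_congr rfl fun s' _ => Finset.sum_congr rfl fun s _ => ?_
    split_ifs <;> ring
  simp only [h1]
  rw [← Finset.mul_sum, ← Finset.mul_sum, Finset.sum_comm]
  simp only [Finset.sum_comm (γ := IrrCharacter G)]
  congr 1
  rw [Finset.mul_sum]
  refine Finset.sum_congr rfl fun s' _ => ?_
  by_cases hs' : p ∣ orderOf s'
  · simp only [if_pos hs']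
    simp
  · simp only [if_neg hs']
    -- inner: sum over s and ψ
    have h2 : ∀ s : H, ∑ ψ : IrrCharacter G, (if p ∣ orderOf s then 0 else
        bpart H (blockOf M (ξ₁ : H → ℂ)) (χ : G → ℂ) (z * s) *
          conj ((χ' : G → ℂ) ((z * s' : H) : G)) *
          (bpart H (blockOf M (ξ₂ : H → ℂ)) (ψ : G → ℂ) (z * s') *
            conj ((ψ : G → ℂ) ((z * s : H) : G)))) =
        conj ((χ' : G → ℂ) ((z * s' : H) : G)) * (if p ∣ orderOf s then 0 else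
          bpart H (blockOf M (ξ₁ : H → ℂ)) (χ : G → ℂ) (z * s) *
          ∑ ξ : IrrCharacter H, (if ξ ∈ blockOf M (ξ₂ : H → ℂ) then
            (ξ : H → ℂ) s' * conj ((ξ : H → ℂ) s) else 0)) := by
      intro s
      by_cases hs : p ∣ orderOf s
      · simp only [if_pos hs]
        simp
      · simp only [if_neg hs]
        have h3 := section_sum_general hM H z hzc hz hC ξ₂ (blockOf M (ξ₂ : H → ℂ)) rfl s' s hs' hs
        rw [← h3, Finset.mul_sum, Finset.mul_sum]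
        refine Finset.sum_congr rfl fun ψ _ => ?_
        unfold bpart
        ring
    simp only [h2]
    rw [← Finset.mul_sum, sum_reg_bpart_mul_kernel H hM hzc ξ₁ ξ₂ χ hs']
    have h4 : ∑ ξ' : IrrCharacter H,
        (if ξ' ∈ blockOf M (ξ₁ : H → ℂ) ∧ ξ' ∈ blockOf M (ξ₂ : H → ℂ) then
          (Nat.card H : ℂ) * ((ξ' : H → ℂ) (z * s') * resMult H (χ : G → ℂ) (ξ' : H → ℂ)) else 0) =
        (Nat.card H : ℂ) * ∑ ξ' : IrrCharacter H,
        (if ξ' ∈ blockOf M (ξ₁ : H → ℂ) ∧ ξ' ∈ blockOf M (ξ₂ : H → ℂ) then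
          (ξ' : H → ℂ) (z * s') * resMult H (χ : G → ℂ) (ξ' : H → ℂ) else 0) := by
      rw [Finset.mul_sum]
      refine Finset.sum_congr rfl fun ξ' _ => ?_
      split_ifs
      · rfl
      · rw [mul_zero]
    rw [h4]
    field_simp

omit [Fintype G] [Fintype (IrrCharacter G)] [Fintype (IrrCharacter H)] in
theorem contrib_def (b : Set (IrrCharacter H)) (z : H) (χ ψ : G → ℂ) :
    contrib p H b z χ ψ = (Nat.card H : ℂ)⁻¹ * ∑ s : H, (if p ∣ orderOf s then 0 else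
      bpart H b χ (z * s) * conj (ψ ((z * s : H) : G))) := rfl

/-- The contribution matrix of a block is idempotent. -/
theorem sum_contrib_mul_contrib_same (hM : IsPModular p M) {z : H}
    (hzc : z ∈ Subgroup.center H) (hz : ∃ k : ℕ, orderOf z = p ^ k)
    (hC : ∀ g : G, g * (z : G) * g⁻¹ = (z : G) → g ∈ H)
    (ξ₁ : IrrCharacter H) [DecidablePred (· ∈ blockOf M (ξ₁ : H → ℂ))] (χ χ' : IrrCharacter G) :
    ∑ ψ : IrrCharacter G, contrib p H (blockOf M (ξ₁ : H → ℂ)) z (χ : G → ℂ) (ψ : G → ℂ) *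
        contrib p H (blockOf M (ξ₁ : H → ℂ)) z (ψ : G → ℂ) (χ' : G → ℂ) =
      contrib p H (blockOf M (ξ₁ : H → ℂ)) z (χ : G → ℂ) (χ' : G → ℂ) := by
  rw [sum_contrib_mul_contrib_expand H hM hzc hz hC ξ₁ ξ₁ χ χ', contrib_def]
  congr 1
  refine Finset.sum_congr rfl fun s' _ => ?_
  split_ifs
  · rfl
  · rw [bpart_eq_sum]
    congr 1
    refine Finset.sum_congr rfl fun ξ' _ => ?_
    by_cases h : ξ' ∈ blockOf M (ξ₁ : H → ℂ)
    · rw [if_pos ⟨h, h⟩, if_pos h]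
    · rw [if_neg (fun hh => h hh.1), if_neg h]

/-- The contribution matrices of two different blocks annihilate each other. -/
theorem sum_contrib_mul_contrib_ne (hM : IsPModular p M) {z : H}
    (hzc : z ∈ Subgroup.center H) (hz : ∃ k : ℕ, orderOf z = p ^ k)
    (hC : ∀ g : G, g * (z : G) * g⁻¹ = (z : G) → g ∈ H)
    (ξ₁ ξ₂ : IrrCharacter H) (hne : blockOf M (ξ₁ : H → ℂ) ≠ blockOf M (ξ₂ : H → ℂ))
    (χ χ' : IrrCharacter G) :
    ∑ ψ : IrrCharacter G, contrib p H (blockOf M (ξ₁ : H → ℂ)) z (χ : G → ℂ) (ψ : G → ℂ) *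
        contrib p H (blockOf M (ξ₂ : H → ℂ)) z (ψ : G → ℂ) (χ' : G → ℂ) = 0 := by
  classical
  haveI hPr := isPrime_of_isPModular hM
  rw [sum_contrib_mul_contrib_expand H hM hzc hz hC ξ₁ ξ₂ χ χ']
  rw [Finset.sum_eq_zero, mul_zero]
  intro s' _
  split_ifs
  · rfl
  · rw [Finset.sum_eq_zero, zero_mul]
    intro ξ' _
    rw [if_neg]
    rintro ⟨h1, h2⟩
    exact hne ((blockOf_eq_of_mem h1).symm.trans (blockOf_eq_of_mem h2))

/-- The diagonal contributions are sums of squares. -/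
theorem contrib_self_eq_sum (hM : IsPModular p M) {z : H}
    (hzc : z ∈ Subgroup.center H) (hz : ∃ k : ℕ, orderOf z = p ^ k)
    (hC : ∀ g : G, g * (z : G) * g⁻¹ = (z : G) → g ∈ H)
    (ξ₁ : IrrCharacter H) (χ : IrrCharacter G) :
    contrib p H (blockOf M (ξ₁ : H → ℂ)) z (χ : G → ℂ) (χ : G → ℂ) =
      ((∑ ψ : IrrCharacter G,
        ‖contrib p H (blockOf M (ξ₁ : H → ℂ)) z (χ : G → ℂ) (ψ : G → ℂ)‖ ^ 2 : ℝ) : ℂ) := by
  classical
  rw [← sum_contrib_mul_contrib_same H hM hzc hz hC ξ₁ χ χ]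
  push_cast
  refine Finset.sum_congr rfl fun ψ _ => ?_
  rw [← contrib_conj H (blockOf M (ξ₁ : H → ℂ)) z hM hzc ξ₁ rfl χ ψ, Complex.mul_conj,
    Complex.normSq_eq_norm_sq]
  push_cast
  rfl

end Cfsg.Agent.Lib.H23.Contrib
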