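import Mathlib
import Cfsg.Agent.Lib.H22.PearlDefs
import Cfsg.Agent.Lib.H22.SuzukiMaxClass

/-!
# S5239 piece BASE (architect helper22): maximal class from a self-centralizing subgroup of order nine
-/

set_option autoImplicit false
set_option linter.style.haveILetI false

namespace Cfsg.Agent.Lib.H23.Pearl

open Cfsg.Agent.Lib.H22.Pearl

variable {G : Type*} [Group G] [Finite G] {n : ℕ} {e : G}

omit [Finite G] in
theorem centralizer_singleton_inv (e : G) :
    Subgroup.centralizer ({e⁻¹} : Set G) = Subgroup.centralizer ({e} : Set G) := by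
  ext g
  simp only [Subgroup.mem_centralizer_iff, Set.mem_singleton_iff, forall_eq]
  constructor
  · intro h
    calc e * g = e * (g * e⁻¹) * e := by group
      _ = e * (e⁻¹ * g) * e := by rw [h]
      _ = g * e := by group
  · intro h
    calc e⁻¹ * g = e⁻¹ * (g * e) * e⁻¹ := by group
      _ = e⁻¹ * (e * g) * e⁻¹ := by rw [h]
      _ = g * e⁻¹ := by group

/-- **BASE**.  `C_G(e⁻¹) = C_G(e)`. -/
theorem P3.inv (h : P3 G n e) : P3 G n e⁻¹ := by
  refine ⟨h.card, ?_, ?_⟩
  · rw [inv_pow, h.he, inv_one]
  · rw [centralizer_singleton_inv]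
    exact h.hC

/-- **BASE**.  `A = C_G(e)` has order `9`, is abelian and self-centralizing, so Suzuki's lemma gives class `n - 1`. -/
theorem P3.lcs_ne_bot (h : P3 G n e) (hn : 3 ≤ n) : L G (n - 2) ≠ ⊥ := by
  haveI : Fact (Nat.Prime 3) := ⟨by norm_num⟩
  set A : Subgroup G := Subgroup.centralizer ({e} : Set G) with hA
  have hcA : Nat.card ↥A = 3 ^ 2 := by rw [h.hC]; norm_num
  have hcomm : IsMulCommutative ↥A := IsPGroup.isMulCommutative_of_card_eq_prime_sq hcA
  have hle : A ≤ Subgroup.centralizer (A : Set G) := Subgroup.le_centralizer A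
  have heA : e ∈ A := by
    rw [hA, Subgroup.mem_centralizer_iff]
    intro x hx
    rw [Set.mem_singleton_iff] at hx
    rw [hx]
  have hge : Subgroup.centralizer (A : Set G) ≤ A := by
    rw [hA]
    apply Subgroup.centralizer_le
    intro x hx
    rw [Set.mem_singleton_iff] at hx
    rw [hx]
    exact heA
  have hself : Subgroup.centralizer (A : Set G) = A := le_antisymm hge hle
  have hclass : Group.nilpotencyClass G = n - 1 :=
    Cfsg.Agent.Lib.H22.nilpotencyClass_of_selfCentralizing_sq (p := 3) n G h.card ⟨A, hcA, hself⟩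
  have hp : IsPGroup 3 G := IsPGroup.of_card h.card
  haveI : Group.IsNilpotent G := hp.isNilpotent
  intro hbot
  have := (Subgroup.lowerCentralSeries_eq_bot_iff_nilpotencyClass_le (G := G) (n := n - 2)).mp hbot
  omega

end Cfsg.Agent.Lib.H23.Pearl
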