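import Mathlib

/-!
# S4150, piece TR (`exists_full_support`), exact signature of `tools/blueprints/S4150_sigs.lean`
(helper23)

Transport of a pair of permutations of `Fin m` to `Fin d`, `d` the size of the union of the supports.
-/

set_option autoImplicit false

namespace Cfsg.Agent.Lib.H23.AG

open Equiv Equiv.Perm Subgroup

/-- A permutation whose support lies in a finset `S` is the extension of a permutation of `Fin d`,
`d = |S|`. -/
theorem exists_extendDomain_eq {m d : ℕ} (S : Finset (Fin m))
    (f : Fin d ≃ {a // a ∈ S}) (x : Perm (Fin m)) (hx : x.support ⊆ S) :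
    ∃ x' : Perm (Fin d), x'.extendDomain f = x := by
  classical
  have hinv : ∀ a, x a ∈ S ↔ a ∈ S := by
    intro a
    by_cases ha : x a = a
    · rw [ha]
    · have h1 : a ∈ x.support := Perm.mem_support.2 ha
      have h2 : x a ∈ x.support := Perm.apply_mem_support.2 h1
      exact ⟨fun _ => hx h1, fun _ => hx h2⟩
  refine ⟨f.symm.permCongr (x.subtypePerm hinv), ?_⟩
  ext b
  by_cases hb : b ∈ S
  · rw [Perm.extendDomain_apply_subtype _ _ hb]
    simp [Equiv.permCongr_apply]
  · rw [Perm.extendDomain_apply_not_subtype _ _ hb]
    have h1 : b ∉ x.support := fun h => hb (hx h)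
    rw [Perm.notMem_support] at h1
    rw [h1]

/-- (TR) transport of a pair of permutations to the union of their supports. -/
theorem exists_full_support {m d : ℕ} (x y : Perm (Fin m))
    (hd : (x.support ∪ y.support).card = d) :
    ∃ x' y' : Perm (Fin d), x'.cycleType = x.cycleType ∧ y'.cycleType = y.cycleType ∧
      x'.support ∪ y'.support = Finset.univ ∧
      Nonempty (closure ({x, y} : Set (Perm (Fin m))) ≃*
        closure ({x', y'} : Set (Perm (Fin d)))) := by
  classical
  let S : Finset (Fin m) := x.support ∪ y.support
  let f : Fin d ≃ {a // a ∈ S} := (Finset.equivFinOfCardEq hd).symm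
  obtain ⟨x', hx'⟩ := exists_extendDomain_eq S f x Finset.subset_union_left
  obtain ⟨y', hy'⟩ := exists_extendDomain_eq S f y Finset.subset_union_right
  refine ⟨x', y', ?_, ?_, ?_, ?_⟩
  · rw [← hx', cycleType_extendDomain]
  · rw [← hy', cycleType_extendDomain]
  · -- full support
    rw [Finset.eq_univ_iff_forall]
    intro i
    have hi : ((f i : {a // a ∈ S}) : Fin m) ∈ x.support ∪ y.support := (f i).2
    have hxs : x.support = x'.support.map f.asEmbedding := by
      rw [← hx', support_extend_domain]
    have hys : y.support = y'.support.map f.asEmbedding := by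
      rw [← hy', support_extend_domain]
    rw [Finset.mem_union] at hi ⊢
    rcases hi with h | h
    · left
      rw [hxs, Finset.mem_map] at h
      obtain ⟨j, hj, hji⟩ := h
      have : j = i := f.injective (Subtype.ext hji)
      rwa [← this]
    · right
      rw [hys, Finset.mem_map] at h
      obtain ⟨j, hj, hji⟩ := h
      have : j = i := f.injective (Subtype.ext hji)
      rwa [← this]
  · -- the closures are isomorphic
    have hmap : (closure ({x', y'} : Set (Perm (Fin d)))).map (extendDomainHom f) =
        closure ({x, y} : Set (Perm (Fin m))) := by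
      rw [MonoidHom.map_closure, Set.image_pair]
      show closure {x'.extendDomain f, y'.extendDomain f} = _
      rw [hx', hy']
    exact ⟨((Subgroup.equivMapOfInjective _ (extendDomainHom f)
      (extendDomainHom_injective f)).trans (MulEquiv.subgroupCongr hmap)).symm⟩

end Cfsg.Agent.Lib.H23.AG
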