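import Cfsg.Agent.Lib.L0.PrincipalSection
import Cfsg.Agent.Lib.L0.TransferPC
import Cfsg.Agent.Lib.H23.BlockNormalComplement
import Cfsg.Agent.Lib.H23.BlockOsima

/-!
# Abelian Sylow subgroups with `C_G(y) ∩ N_G(P) = C_G(P)`: local structure (helper23)

`C_G(y)` has a normal `p`-complement for `y ∈ P#`, the principal block section sums equal `|P|`,
and members of the principal block are constant on `p`-sections of elements of `P#`.
-/

set_option autoImplicit false

namespace Cfsg.Agent.Lib.H23.AbSyl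

open Cfsg Cfsg.Agent.Lib.H23 Cfsg.Agent.Lib.H24 Cfsg.Agent.Lib.L0
open scoped ComplexConjugate

variable {G : Type*} [Group G] [Finite G] {p : ℕ} [Fact p.Prime]

/-- `C_G(y)` has a normal `p`-complement of index `|P|`. -/
theorem centralizer_npc (P : Sylow p G) (hcomm : ∀ a ∈ P, ∀ b ∈ P, a * b = b * a)
    (hfrob : ∀ y : G, y ∈ (P : Subgroup G) → y ≠ 1 →
      Subgroup.centralizer ({y} : Set G) ⊓ Subgroup.normalizer ((P : Subgroup G) : Set G) =
        Subgroup.centralizer ((P : Subgroup G) : Set G))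
    (y : G) (hy : y ∈ P) (hy1 : y ≠ 1) :
    ∃ K : Subgroup ↥(Subgroup.centralizer ({y} : Set G)), K.Normal ∧ ¬ p ∣ Nat.card K ∧
      ∃ k : ℕ, K.index = p ^ k ∧ p ^ k = Nat.card P := by
  set H := Subgroup.centralizer ({y} : Set G) with hH
  have hPH : (P : Subgroup G) ≤ H := by
    intro w hw
    rw [hH, Subgroup.mem_centralizer_singleton_iff]
    exact hcomm w hw y hy
  set Q : Sylow p H := P.subtype hPH with hQ
  have hQco : ((Q : Subgroup H)) = (P : Subgroup G).subgroupOf H := rfl
  have hQN : Subgroup.normalizer ((Q : Subgroup H) : Set H) ≤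
      Subgroup.centralizer ((Q : Subgroup H) : Set H) := by
    intro c hc
    have hcN : (c : G) ∈ Subgroup.normalizer ((P : Subgroup G) : Set G) := by
      apply Subgroup.mem_normalizer_fintype
      intro w hw
      have hwQ : (⟨w, hPH hw⟩ : H) ∈ (Q : Subgroup H) := by
        rw [hQco]; exact Subgroup.mem_subgroupOf.2 hw
      have h1 := (Subgroup.mem_normalizer_iff.1 hc ⟨w, hPH hw⟩).1 hwQ
      rw [hQco] at h1
      exact Subgroup.mem_subgroupOf.1 h1
    have hcC : (c : G) ∈ Subgroup.centralizer ((P : Subgroup G) : Set G) := by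
      rw [← hfrob y hy hy1]
      exact ⟨c.2, hcN⟩
    rw [Subgroup.mem_centralizer_iff]
    intro s hs
    apply Subtype.ext
    have hsP : (s : G) ∈ (P : Subgroup G) := by
      have : s ∈ (P : Subgroup G).subgroupOf H := by rw [← hQco]; exact hs
      exact Subgroup.mem_subgroupOf.1 this
    exact Subgroup.mem_centralizer_iff.1 hcC _ hsP
  have hcompl := MonoidHom.ker_transferSylow_isComplement' Q hQN
  have hnd := MonoidHom.not_dvd_card_ker_transferSylow Q hQN
  refine ⟨(MonoidHom.transferSylow Q hQN).ker, inferInstance, hnd, ?_⟩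
  obtain ⟨k, hk⟩ := P.2.exists_card_eq
  refine ⟨k, ?_, hk.symm⟩
  rw [hcompl.symm.index_eq_card, ← hk]
  have : Nat.card (Q : Subgroup H) = Nat.card ((P : Subgroup G).subgroupOf H) := by rw [hQco]
  rw [this]
  exact Nat.card_congr (Subgroup.subgroupOfEquivOfLe hPH).toEquiv

variable {M : Ideal AlgInt}

theorem pElement_of_mem (P : Sylow p G) {y : G} (hy : y ∈ P) : ∃ k : ℕ, orderOf y = p ^ k := by
  obtain ⟨k, hk⟩ := (IsPGroup.iff_orderOf.mp P.2) ⟨y, hy⟩
  exact ⟨k, by rw [← hk, Subgroup.orderOf_mk]⟩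

open scoped Classical in
/-- The principal block of `C_G(y)`: values at `p`-regular elements are the degrees, and the sum
of the squares of the degrees is `|P|`. -/
theorem centralizer_block (hM : IsPModular p M) (P : Sylow p G)
    (hcomm : ∀ a ∈ P, ∀ b ∈ P, a * b = b * a)
    (hfrob : ∀ y : G, y ∈ (P : Subgroup G) → y ≠ 1 →
      Subgroup.centralizer ({y} : Set G) ⊓ Subgroup.normalizer ((P : Subgroup G) : Set G) =
        Subgroup.centralizer ((P : Subgroup G) : Set G))
    (y : G) (hy : y ∈ P) (hy1 : y ≠ 1)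
    [Fintype (IrrCharacter ↥(Subgroup.centralizer ({y} : Set G)))] :
    (∀ ξ ∈ principalBlock M ↥(Subgroup.centralizer ({y} : Set G)),
      ∀ s : ↥(Subgroup.centralizer ({y} : Set G)), ¬ p ∣ orderOf s →
        (ξ : ↥(Subgroup.centralizer ({y} : Set G)) → ℂ) s =
          (ξ : ↥(Subgroup.centralizer ({y} : Set G)) → ℂ) 1) ∧
    ∑ ξ : IrrCharacter ↥(Subgroup.centralizer ({y} : Set G)),
      (if ξ ∈ principalBlock M ↥(Subgroup.centralizer ({y} : Set G)) then
        (ξ : ↥(Subgroup.centralizer ({y} : Set G)) → ℂ) 1 *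
          conj ((ξ : ↥(Subgroup.centralizer ({y} : Set G)) → ℂ) 1) else 0) = (Nat.card P : ℂ) := by
  have hp : p.Prime := Fact.out
  obtain ⟨K, hKn, hKp, k, hidx, hk⟩ := centralizer_npc P hcomm hfrob y hy hy1
  haveI := Fintype.ofFinite ↥(Subgroup.centralizer ({y} : Set G))
  constructor
  · intro ξ hξ s hs
    exact (mem_principalBlock_iff_ker hM K hKp hidx ξ).1 hξ s
      (mem_of_pRegular_of_index_pow hp K hidx hs)
  · have hone : ¬ p ∣ orderOf (1 : ↥(Subgroup.centralizer ({y} : Set G))) := by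
      rw [orderOf_one]
      exact hp.one_lt.ne' ∘ Nat.dvd_one.mp
    have h1 := sum_principal_sq hM K hKp hidx hone
    rw [← hk]
    convert h1 using 2

/-- The principal-block section sums for `y ∈ P#`. -/
theorem sum_section (hM : IsPModular p M) (P : Sylow p G)
    (hcomm : ∀ a ∈ P, ∀ b ∈ P, a * b = b * a)
    (hfrob : ∀ y : G, y ∈ (P : Subgroup G) → y ≠ 1 →
      Subgroup.centralizer ({y} : Set G) ⊓ Subgroup.normalizer ((P : Subgroup G) : Set G) =
        Subgroup.centralizer ((P : Subgroup G) : Set G))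
    (y : G) (hy : y ∈ P) (hy1 : y ≠ 1) (s s' : G)
    (hs : s ∈ Subgroup.centralizer ({y} : Set G)) (hs' : s' ∈ Subgroup.centralizer ({y} : Set G))
    (hsr : ¬ p ∣ orderOf s) (hsr' : ¬ p ∣ orderOf s') :
    ∑ᶠ ζ ∈ principalBlock M G, conj ((ζ : G → ℂ) (y * s')) * (ζ : G → ℂ) (y * s) =
      (Nat.card P : ℂ) := by
  classical
  haveI := Fintype.ofFinite G
  haveI := Fintype.ofFinite (IrrCharacter G)
  haveI := Fintype.ofFinite ↥(Subgroup.centralizer ({y} : Set G))
  haveI := Fintype.ofFinite (IrrCharacter ↥(Subgroup.centralizer ({y} : Set G)))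
  have hx := pElement_of_mem P hy
  have hsr2 : ¬ p ∣ orderOf (⟨s, hs⟩ : ↥(Subgroup.centralizer ({y} : Set G))) := by
    rw [Subgroup.orderOf_mk]; exact hsr
  have hsr2' : ¬ p ∣ orderOf (⟨s', hs'⟩ : ↥(Subgroup.centralizer ({y} : Set G))) := by
    rw [Subgroup.orderOf_mk]; exact hsr'
  have h1 := Cfsg.Agent.Lib.L0.PrincipalSection.sum_principal_section (M := M) hx
    (C := Subgroup.centralizer ({y} : Set G)) rfl hM hsr2 hsr2'
  rw [finsum_mem_eq_sum_ite, h1]
  obtain ⟨hval, hsum⟩ := centralizer_block hM P hcomm hfrob y hy hy1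
  rw [← hsum]
  refine Finset.sum_congr rfl (fun ξ _ => ?_)
  by_cases hξ : ξ ∈ principalBlock M ↥(Subgroup.centralizer ({y} : Set G))
  · rw [if_pos hξ, if_pos hξ, hval ξ hξ _ hsr2, hval ξ hξ _ hsr2']
    ring
  · rw [if_neg hξ, if_neg hξ]

/-- Members of the principal block are constant on the `p`-sections of elements of `P#`. -/
theorem const_section (hM : IsPModular p M) (P : Sylow p G)
    (hcomm : ∀ a ∈ P, ∀ b ∈ P, a * b = b * a)
    (hfrob : ∀ y : G, y ∈ (P : Subgroup G) → y ≠ 1 →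
      Subgroup.centralizer ({y} : Set G) ⊓ Subgroup.normalizer ((P : Subgroup G) : Set G) =
        Subgroup.centralizer ((P : Subgroup G) : Set G))
    (y : G) (hy : y ∈ P) (hy1 : y ≠ 1) (s : G)
    (hs : s ∈ Subgroup.centralizer ({y} : Set G)) (hsr : ¬ p ∣ orderOf s)
    (ζ : IrrCharacter G) (hζ : ζ ∈ principalBlock M G) :
    (ζ : G → ℂ) (y * s) = (ζ : G → ℂ) y := by
  classical
  haveI := Fintype.ofFinite G
  haveI := Fintype.ofFinite (IrrCharacter G)
  have hp : p.Prime := Fact.out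
  have hone : ¬ p ∣ orderOf (1 : G) := by
    rw [orderOf_one]
    exact hp.one_lt.ne' ∘ Nat.dvd_one.mp
  have h1m : (1 : G) ∈ Subgroup.centralizer ({y} : Set G) := Subgroup.one_mem _
  have hss := sum_section hM P hcomm hfrob y hy hy1 s s hs hs hsr hsr
  have hs1 := sum_section hM P hcomm hfrob y hy hy1 s 1 hs h1m hsr hone
  have h1s := sum_section hM P hcomm hfrob y hy hy1 1 s h1m hs hone hsr
  have h11 := sum_section hM P hcomm hfrob y hy hy1 1 1 h1m h1m hone hone
  rw [finsum_mem_eq_sum_ite] at hss hs1 h1s h11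
  rw [mul_one] at hs1 h1s h11
  have hsq : ∑ χ : IrrCharacter G, (if χ ∈ principalBlock M G then
      conj ((χ : G → ℂ) (y * s) - (χ : G → ℂ) y) * ((χ : G → ℂ) (y * s) - (χ : G → ℂ) y)
      else 0) = 0 := by
    have e : ∀ χ : IrrCharacter G, (if χ ∈ principalBlock M G then
        conj ((χ : G → ℂ) (y * s) - (χ : G → ℂ) y) * ((χ : G → ℂ) (y * s) - (χ : G → ℂ) y)
        else 0) =
        (if χ ∈ principalBlock M G then conj ((χ : G → ℂ) (y * s)) * (χ : G → ℂ) (y * s) else 0)
        - (if χ ∈ principalBlock M G then conj ((χ : G → ℂ) y) * (χ : G → ℂ) (y * s) else 0)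
        - (if χ ∈ principalBlock M G then conj ((χ : G → ℂ) (y * s)) * (χ : G → ℂ) y else 0)
        + (if χ ∈ principalBlock M G then conj ((χ : G → ℂ) y) * (χ : G → ℂ) y else 0) := by
      intro χ
      split_ifs
      · rw [map_sub]; ring
      · ring
    rw [Finset.sum_congr rfl (fun χ _ => e χ), Finset.sum_add_distrib, Finset.sum_sub_distrib,
      Finset.sum_sub_distrib, hss, hs1, h1s, h11]
    ring
  have hnn : ∀ χ ∈ (Finset.univ : Finset (IrrCharacter G)), (0 : ℝ) ≤ (if χ ∈ principalBlock M G then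
      Complex.normSq ((χ : G → ℂ) (y * s) - (χ : G → ℂ) y) else 0) := by
    intro χ _
    split_ifs
    · exact Complex.normSq_nonneg _
    · exact le_refl _
  have hsq' : ∑ χ : IrrCharacter G, (if χ ∈ principalBlock M G then
      Complex.normSq ((χ : G → ℂ) (y * s) - (χ : G → ℂ) y) else 0) = 0 := by
    have : ((∑ χ : IrrCharacter G, (if χ ∈ principalBlock M G then
      Complex.normSq ((χ : G → ℂ) (y * s) - (χ : G → ℂ) y) else 0) : ℝ) : ℂ) = 0 := by
      rw [← hsq]
      push_cast
      refine Finset.sum_congr rfl (fun χ _ => ?_)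
      split_ifs
      · rw [Complex.normSq_eq_conj_mul_self]
      · rfl
    exact_mod_cast this
  have h0 := (Finset.sum_eq_zero_iff_of_nonneg hnn).1 hsq' ζ (Finset.mem_univ ζ)
  rw [if_pos hζ, Complex.normSq_eq_zero, sub_eq_zero] at h0
  exact h0

end Cfsg.Agent.Lib.H23.AbSyl
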