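import Cfsg.Agent.Lib.H23.AbSylB
import Cfsg.Agent.Lib.L0.CharOps
import Cfsg.Agent.Lib.H24.CharBasic
import Cfsg.Agent.Lib.H23.BlockVanish
import Cfsg.Agent.Lib.H23.BlockOsima

/-!
# Coefficients of characters with respect to the dual of an abelian subgroup (helper23)

For a subgroup `P` of `G`, a function `χ` on `G` and `ψ : P →* ℂˣ` put
`coef P χ ψ = [χ|_P, ψ] - [χ|_P, 1]`.
-/

set_option autoImplicit false

namespace Cfsg.Agent.Lib.H23.AbSyl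

open Cfsg Cfsg.Agent.Lib.H23 Cfsg.Agent.Lib.H24
open scoped ComplexConjugate

variable {G : Type*} [Group G] [Finite G]

/-- The coefficient `[χ|_P, ψ] - [χ|_P, 1]`. -/
noncomputable def coef (P : Subgroup G) (χ : G → ℂ) (ψ : ↥P →* ℂˣ) : ℂ :=
  (Nat.card ↥P : ℂ)⁻¹ * ∑ᶠ y : ↥P, χ (y : G) * ((((ψ y⁻¹ : ℂˣ)) : ℂ) - 1)

theorem coef_eq_sum (P : Subgroup G) [Fintype ↥P] (χ : G → ℂ) (ψ : ↥P →* ℂˣ) :
    coef P χ ψ = (Nat.card ↥P : ℂ)⁻¹ * ∑ y : ↥P, χ (y : G) * ((((ψ y⁻¹ : ℂˣ)) : ℂ) - 1) := by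
  rw [coef, finsum_eq_sum_of_fintype]

theorem coef_one (P : Subgroup G) (χ : G → ℂ) : coef P χ 1 = 0 := by
  haveI : Fintype ↥P := Fintype.ofFinite _
  rw [coef_eq_sum]
  simp

theorem coef_int (P : Subgroup G) {χ : G → ℂ} (hχ : IsCharacter G χ) (ψ : ↥P →* ℂˣ) :
    ∃ z : ℤ, coef P χ ψ = z := by
  haveI : Fintype ↥P := Fintype.ofFinite _
  have hres : IsCharacter ↥P (fun x : ↥P => χ x) := Cfsg.Agent.Lib.L0.isCharacter_restrict P hχ
  obtain ⟨n₁, hn₁⟩ := Cfsg.Agent.Lib.L0.classInner_char_irr_nat hres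
    (Cfsg.Agent.Lib.L0.isIrrCharacter_of_hom ψ)
  obtain ⟨n₂, hn₂⟩ := Cfsg.Agent.Lib.L0.classInner_char_irr_nat hres
    (Cfsg.Agent.Lib.L0.isIrrCharacter_of_hom (1 : ↥P →* ℂˣ))
  refine ⟨(n₁ : ℤ) - n₂, ?_⟩
  push_cast
  rw [← hn₁, ← hn₂, coef_eq_sum, classInner, classInner, ← mul_sub, ← Finset.sum_sub_distrib]
  congr 1
  refine Finset.sum_congr rfl (fun y _ => ?_)
  rw [conj_hom_apply', conj_hom_apply']
  simp only [MonoidHom.one_apply, Units.val_one]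
  ring

open scoped Classical in
/-- Fourier expansion on `P#`. -/
theorem expansion (P : Subgroup G) (hcomm : ∀ a b : ↥P, a * b = b * a) [Fintype (↥P →* ℂˣ)]
    (χ : G → ℂ) (y : ↥P) (hy : y ≠ 1) :
    χ (y : G) = ∑ ψ : ↥P →* ℂˣ, coef P χ ψ * ((ψ y : ℂˣ) : ℂ) := by
  haveI : Fintype ↥P := Fintype.ofFinite _
  have hP0 : (Nat.card ↥P : ℂ) ≠ 0 := Nat.cast_ne_zero.2 Nat.card_pos.ne'
  have h1 : ∀ ψ : ↥P →* ℂˣ, coef P χ ψ * ((ψ y : ℂˣ) : ℂ) =
      (Nat.card ↥P : ℂ)⁻¹ * ∑ w : ↥P, χ (w : G) *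
        ((((ψ (w⁻¹ * y) : ℂˣ)) : ℂ) - ((ψ y : ℂˣ) : ℂ)) := by
    intro ψ
    rw [coef_eq_sum, mul_assoc, Finset.sum_mul]
    congr 1
    refine Finset.sum_congr rfl (fun w _ => ?_)
    rw [map_mul, Units.val_mul]
    ring
  rw [Finset.sum_congr rfl (fun ψ _ => h1 ψ), ← Finset.mul_sum, Finset.sum_comm]
  have h2 : ∀ w : ↥P, ∑ ψ : ↥P →* ℂˣ, χ (w : G) *
        ((((ψ (w⁻¹ * y) : ℂˣ)) : ℂ) - ((ψ y : ℂˣ) : ℂ)) =
      if w = y then χ (w : G) * (Nat.card ↥P : ℂ) else 0 := by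
    intro w
    rw [← Finset.mul_sum, Finset.sum_sub_distrib, sum_hom_apply hcomm, sum_hom_apply hcomm,
      if_neg hy, sub_zero]
    by_cases hwy : w = y
    · rw [if_pos hwy, if_pos (by rw [hwy]; group)]
    · rw [if_neg hwy, if_neg, mul_zero]
      intro h
      apply hwy
      have := congrArg (fun t => w * t) h
      simpa using this.symm
  rw [Finset.sum_congr rfl (fun w _ => h2 w), Finset.sum_ite_eq' Finset.univ y, if_pos (Finset.mem_univ y)]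
  field_simp

variable {p : ℕ} [Fact p.Prime] {M : Ideal AlgInt}

/-- The coefficient vectors are orthogonal to the columns of `p`-regular elements. -/
theorem sum_coef_mul_preg (hM : IsPModular p M) (P : Subgroup G) (hP : IsPGroup p P)
    (χ₀ : IrrCharacter G) (ψ : ↥P →* ℂˣ) (g : G) (hg : ¬ p ∣ orderOf g) :
    ∑ᶠ χ ∈ blockOf M (χ₀ : G → ℂ), coef P (χ : G → ℂ) ψ * (χ : G → ℂ) g = 0 := by
  classical
  haveI := Fintype.ofFinite G
  haveI := Fintype.ofFinite (IrrCharacter G)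
  haveI : Fintype ↥P := Fintype.ofFinite _
  have hp : p.Prime := Fact.out
  rw [finsum_mem_eq_sum_ite]
  have h1 : ∀ χ : IrrCharacter G, (if χ ∈ blockOf M (χ₀ : G → ℂ) then
      coef P (χ : G → ℂ) ψ * (χ : G → ℂ) g else 0) =
      (Nat.card ↥P : ℂ)⁻¹ * ∑ y : ↥P, ((((ψ y⁻¹ : ℂˣ)) : ℂ) - 1) *
        (if χ ∈ blockOf M (χ₀ : G → ℂ) then (χ : G → ℂ) g * conj ((χ : G → ℂ) ((y : G)⁻¹))
          else 0) := by
    intro χ
    split_ifs with hχ
    · rw [coef_eq_sum, mul_assoc, Finset.sum_mul]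
      congr 1
      refine Finset.sum_congr rfl (fun y _ => ?_)
      rw [irr_inv, Complex.conj_conj]
      ring
    · simp
  rw [Finset.sum_congr rfl (fun χ _ => h1 χ), ← Finset.mul_sum, Finset.sum_comm]
  have h2 : ∀ y : ↥P, ∑ χ : IrrCharacter G, ((((ψ y⁻¹ : ℂˣ)) : ℂ) - 1) *
        (if χ ∈ blockOf M (χ₀ : G → ℂ) then (χ : G → ℂ) g * conj ((χ : G → ℂ) ((y : G)⁻¹))
          else 0) = 0 := by
    intro y
    rw [← Finset.mul_sum]
    by_cases hy : y = 1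
    · rw [hy]
      simp
    · have hdvd : p ∣ orderOf ((y : G)⁻¹) := by
        rw [orderOf_inv]
        obtain ⟨k, hk⟩ := (IsPGroup.iff_orderOf.1 hP) y
        rw [Subgroup.orderOf_coe, hk]
        rcases k with _ | k
        · exfalso
          rw [pow_zero, orderOf_eq_one_iff] at hk
          exact hy hk
        · exact dvd_pow_self p (Nat.succ_ne_zero k)
      rw [weak_block_orthogonality hM χ₀ g _ hg hdvd, mul_zero]
  rw [Finset.sum_congr rfl (fun y _ => h2 y)]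
  simp

end Cfsg.Agent.Lib.H23.AbSyl
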