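import Cfsg.Agent.S4720
import Cfsg.Agent.Lib.H23.AbSylA
import Cfsg.Agent.Lib.H23.AbSylD
import Cfsg.Agent.Lib.L0.TransferBasic
import Cfsg.Agent.Lib.L0.CharInd

/-!
# The Gram matrix of the coefficient vectors (helper23)
-/

set_option autoImplicit false

namespace Cfsg.Agent.Lib.H23.AbSyl

open Cfsg Cfsg.Agent.Lib.H23 Cfsg.Agent.Lib.H24 Cfsg.Agent.Lib.L0
open scoped ComplexConjugate

variable {G : Type*} [Group G] [Finite G] {p : ℕ} [Fact p.Prime] {M : Ideal AlgInt}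

theorem relIndex_mul_card_of_le {H K : Subgroup G} (h : H ≤ K) :
    H.relIndex K * Nat.card ↥H = Nat.card ↥K := by
  have h1 := Subgroup.index_mul_card (H.subgroupOf K)
  rw [← h1, Subgroup.relIndex]
  congr 1
  exact (Nat.card_congr (Subgroup.subgroupOfEquivOfLe h).toEquiv).symm

open scoped Classical in
/-- A product sum over `P` for two nontrivial linear characters. -/
theorem sum_sub_one_mul [Fintype G] (P : Subgroup G) [Fintype ↥P] (ψ φ : ↥P →* ℂˣ) (hψ : ψ ≠ 1)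
    (hφ : φ ≠ 1) :
    ∑ y : ↥P, (((ψ y : ℂˣ) : ℂ) - 1) * (conj ((φ y : ℂˣ) : ℂ) - 1) =
      (Nat.card ↥P : ℂ) * ((if ψ = φ then 1 else 0) + 1) := by
  have e : ∀ y : ↥P, (((ψ y : ℂˣ) : ℂ) - 1) * (conj ((φ y : ℂˣ) : ℂ) - 1) =
      ((ψ y : ℂˣ) : ℂ) * conj ((φ y : ℂˣ) : ℂ) - ((ψ y : ℂˣ) : ℂ) - conj ((φ y : ℂˣ) : ℂ) + 1 := by
    intro y; ring
  rw [Finset.sum_congr rfl (fun y _ => e y), Finset.sum_add_distrib, Finset.sum_sub_distrib,
    Finset.sum_sub_distrib, sum_hom_mul_conj, sum_apply_hom, if_neg hψ, ← map_sum, sum_apply_hom,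
    if_neg hφ, map_zero]
  simp only [Finset.sum_const, Finset.card_univ, nsmul_eq_mul, mul_one]
  rw [← Nat.card_eq_fintype_card]
  split_ifs <;> ring

open scoped Classical in
/-- **The Gram matrix.** -/
theorem gram (hM : IsPModular p M) (P : Sylow p G)
    (hcomm : ∀ a ∈ P, ∀ b ∈ P, a * b = b * a)
    (hfrob : ∀ y : G, y ∈ (P : Subgroup G) → y ≠ 1 →
      Subgroup.centralizer ({y} : Set G) ⊓ Subgroup.normalizer ((P : Subgroup G) : Set G) =
        Subgroup.centralizer ((P : Subgroup G) : Set G))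
    (ψ ψ' : ↥(P : Subgroup G) →* ℂˣ) (hψ : ψ ≠ 1) (hψ' : ψ' ≠ 1) :
    ∑ᶠ χ ∈ principalBlock M G,
      coef (P : Subgroup G) (χ : G → ℂ) ψ * conj (coef (P : Subgroup G) (χ : G → ℂ) ψ') =
    (((Subgroup.centralizer ((P : Subgroup G) : Set G)).relIndex
      (Subgroup.normalizer ((P : Subgroup G) : Set G)) : ℕ) : ℂ) +
      (if Rel (P : Subgroup G) ψ ψ' then 1 else 0) := by
  haveI := Fintype.ofFinite G
  haveI : Fintype ↥(P : Subgroup G) := Fintype.ofFinite _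
  set N := Subgroup.normalizer ((P : Subgroup G) : Set G) with hN
  set C := Subgroup.centralizer ((P : Subgroup G) : Set G) with hC
  haveI : Fintype ↥N := Fintype.ofFinite _
  have hCN : C ≤ N := Subgroup.centralizer_le_normalizer _
  have hPN : (P : Subgroup G) ≤ N := Subgroup.le_normalizer
  set U : Set G := {y | y ∈ (P : Subgroup G) ∧ y ≠ 1} with hU
  have hUne : U.Nonempty := by
    by_contra hemp
    apply hψ
    ext w
    by_cases hw : w = 1
    · rw [hw]; simp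
    · exfalso
      apply hemp
      exact ⟨(w : G), w.2, fun h0 => hw (Subtype.ext h0)⟩
  have hUP : U ⊆ ((P : Subgroup G) : Set G) := fun y hy => hy.1
  have hUN : ∀ n ∈ N, ∀ u ∈ U, n * u * n⁻¹ ∈ U := by
    intro n hn u hu
    refine ⟨(Subgroup.mem_normalizer_iff.1 hn u).1 hu.1, ?_⟩
    intro h0
    apply hu.2
    have : u = n⁻¹ * (n * u * n⁻¹) * n := by group
    rw [this, h0]; group
  have hfus : ∀ u ∈ U, ∀ g : G, g * u * g⁻¹ ∈ ((P : Subgroup G) : Set G) →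
      ∃ n ∈ N, n * u * n⁻¹ = g * u * g⁻¹ := by
    intro u hu g hg
    exact burnside_fusion_elt P hcomm u (g * u * g⁻¹) hu.1 hg g rfl
  have hC0 : (Nat.card ↥C : ℂ) ≠ 0 := Nat.cast_ne_zero.2 Nat.card_pos.ne'
  have hP0 : (Nat.card ↥(P : Subgroup G) : ℂ) ≠ 0 := Nat.cast_ne_zero.2 Nat.card_pos.ne'
  set w : ℚ := (Nat.card ↥(P : Subgroup G) : ℚ) / (Nat.card ↥C : ℚ) with hw
  have hwU : ∀ y ∈ U, ((∑ᶠ ξ ∈ principalBlock M ↥(Subgroup.centralizer ({y} : Set G)),
      Cfsg.charDegree (ξ : ↥(Subgroup.centralizer ({y} : Set G)) → ℂ) ^ 2) : ℚ) =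
      w * Nat.card ↥(N ⊓ Subgroup.centralizer ({y} : Set G)) := by
    intro y hy
    haveI := Fintype.ofFinite (IrrCharacter ↥(Subgroup.centralizer ({y} : Set G)))
    have h1 := (centralizer_block (M := M) hM P hcomm hfrob y hy.1 hy.2).2
    have h2 : N ⊓ Subgroup.centralizer ({y} : Set G) = C := by
      rw [inf_comm]; exact hfrob y hy.1 hy.2
    rw [h2, hw]
    have hC0' : (Nat.card ↥C : ℚ) ≠ 0 := Nat.cast_ne_zero.2 Nat.card_pos.ne'
    rw [div_mul_cancel₀ _ hC0']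
    apply Rat.cast_injective (α := ℂ)
    rw [Rat.cast_natCast, ← h1, finsum_mem_eq_finite_toFinset_sum _ (Set.toFinite _), Rat.cast_sum,
      ← Finset.sum_filter]
    refine Finset.sum_congr ?_ (fun ξ _ => ?_)
    · ext ξ; simp
    · rw [Cfsg.Agent.Lib.H23.apply_one_eq_charDegree _ ξ.2, Complex.conj_natCast]
      push_cast
      ring
  set θ : ↥(P : Subgroup G) → ℂ := fun y => ((ψ y : ℂˣ) : ℂ) - 1 with hθ
  set η : ↥(P : Subgroup G) → ℂ := fun y => ((ψ' y : ℂˣ) : ℂ) - 1 with hη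
  have hgen : ∀ φ : ↥(P : Subgroup G) →* ℂˣ,
      IsGeneralizedCharacter ↥(P : Subgroup G) (fun y => ((φ y : ℂˣ) : ℂ) - 1) := by
    intro φ
    refine ⟨fun y => ((φ y : ℂˣ) : ℂ), fun _ => 1,
      isCharacter_of_irr (isIrrCharacter_of_hom φ), ?_, rfl⟩
    have := isCharacter_of_irr (isIrrCharacter_of_hom (1 : ↥(P : Subgroup G) →* ℂˣ))
    simpa using this
  have hθU : ∀ y : ↥(P : Subgroup G), (y : G) ∉ U → θ y = 0 := by
    intro y hy
    have : y = 1 := by
      by_contra h1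
      exact hy ⟨y.2, fun h0 => h1 (Subtype.ext h0)⟩
    rw [hθ, this]
    simp
  have hmain := Cfsg.Agent.S4720.result p M hM (P : Subgroup G) P.2 N hPN (le_refl _) U hUne hUP
    hUN hfus w hwU θ η (hgen ψ) (hgen ψ') hθU
  have hL : ∀ χ : IrrCharacter G, coef (P : Subgroup G) (χ : G → ℂ) ψ *
      conj (coef (P : Subgroup G) (χ : G → ℂ) ψ') =
      ((Nat.card ↥(P : Subgroup G) : ℂ)⁻¹ * ∑ᶠ y : ↥(P : Subgroup G), (χ : G → ℂ) (y : G) * θ y⁻¹) *
        (starRingEnd ℂ) ((Nat.card ↥(P : Subgroup G) : ℂ)⁻¹ *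
          ∑ᶠ y : ↥(P : Subgroup G), (χ : G → ℂ) (y : G) * η y⁻¹) := fun χ => rfl
  rw [finsum_mem_congr rfl (fun χ _ => hL χ), hmain]
  -- evaluate the right-hand side
  have hin : ∀ y : ↥(P : Subgroup G), ∑ᶠ x : ↥N, extendByZero (P : Subgroup G) η
      ((x : G) * (y : G) * (x : G)⁻¹) =
      ∑ x : ↥N, (((twist (P : Subgroup G) x ψ' y : ℂˣ) : ℂ) - 1) := by
    intro y
    rw [finsum_eq_sum_of_fintype]
    refine Finset.sum_congr rfl (fun x _ => ?_)
    have hmem : (x : G) * (y : G) * (x : G)⁻¹ ∈ (P : Subgroup G) := (x • y).2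
    rw [extendByZero_apply_of_mem _ η hmem]
    rfl
  rw [finsum_eq_sum_of_fintype]
  have h3 : ∑ y : ↥(P : Subgroup G), θ y * conj (∑ᶠ x : ↥N, extendByZero (P : Subgroup G) η
      ((x : G) * (y : G) * (x : G)⁻¹)) =
      ∑ x : ↥N, (Nat.card ↥(P : Subgroup G) : ℂ) *
        ((if ψ = twist (P : Subgroup G) x ψ' then 1 else 0) + 1) := by
    have : ∀ y : ↥(P : Subgroup G), θ y * conj (∑ᶠ x : ↥N, extendByZero (P : Subgroup G) η
        ((x : G) * (y : G) * (x : G)⁻¹)) =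
        ∑ x : ↥N, (((ψ y : ℂˣ) : ℂ) - 1) *
          (conj ((twist (P : Subgroup G) x ψ' y : ℂˣ) : ℂ) - 1) := by
      intro y
      rw [hin y, map_sum, Finset.mul_sum]
      refine Finset.sum_congr rfl (fun x _ => ?_)
      rw [map_sub, map_one]
    rw [Finset.sum_congr rfl (fun y _ => this y), Finset.sum_comm]
    refine Finset.sum_congr rfl (fun x _ => ?_)
    exact sum_sub_one_mul (P : Subgroup G) ψ _ hψ
      (fun h => hψ' ((twist_eq_one_iff (P : Subgroup G) x ψ').1 h))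
  rw [h3, ← Finset.mul_sum, Finset.sum_add_distrib]
  have h4 : ∑ x : ↥N, (if ψ = twist (P : Subgroup G) x ψ' then (1 : ℂ) else 0) =
      if Rel (P : Subgroup G) ψ ψ' then (Nat.card ↥C : ℂ) else 0 := by
    have h5 := card_twist_eq (P : Subgroup G) hcomm hfrob ψ ψ' hψ'
    rw [Finset.sum_boole]
    have h6 : (Finset.univ.filter (fun x : ↥N => ψ = twist (P : Subgroup G) x ψ')).card =
        Nat.card {x : ↥N // twist (P : Subgroup G) x ψ' = ψ} := by
      rw [Nat.card_eq_fintype_card, Fintype.card_subtype]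
      congr 1
      ext x
      simp only [Finset.mem_filter, Finset.mem_univ, true_and]
      exact eq_comm
    rw [h6, h5]
    split_ifs
    · rfl
    · simp
  rw [h4]
  have h7 : (Nat.card ↥N : ℂ) = ((C.relIndex N : ℕ) : ℂ) * (Nat.card ↥C : ℂ) := by
    rw [← Nat.cast_mul, relIndex_mul_card_of_le hCN]
  simp only [Finset.sum_const, Finset.card_univ, nsmul_eq_mul, mul_one]
  rw [← Nat.card_eq_fintype_card, h7, hw]
  push_cast
  split_ifs
  · field_simp
    ring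
  · field_simp
    ring

end Cfsg.Agent.Lib.H23.AbSyl
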