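import Mathlib

/-!
# A lattice lemma for exceptional characters (helper23)

Integer vectors `a j : I → ℤ` (`j : J`) with Gram matrix `⟨a j, a j'⟩ = m + [j ~ j']` for an
equivalence-like relation `~` with at least two classes, orthogonal to a positive vector `x`, have
the shape `a j = δ e_{ζ j} + b`.
-/

set_option autoImplicit false

namespace Cfsg.Agent.Lib.H23.AbSyl

open Finset

variable {I : Type*} [Fintype I] [DecidableEq I]

/-- An integer vector of norm `2` orthogonal to a positive vector is `e_α - e_β`. -/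
theorem norm_two (v : I → ℤ) (hv : ∑ i, v i ^ 2 = 2) (x : I → ℤ) (hx : ∀ i, 0 < x i)
    (hvx : ∑ i, x i * v i = 0) :
    ∃ α β : I, α ≠ β ∧ ∀ i, v i = (if i = α then 1 else 0) - (if i = β then 1 else 0) := by
  classical
  have hle : ∀ i, v i ^ 2 ≤ 2 := by
    intro i
    rw [← hv]
    exact Finset.single_le_sum (f := fun i => v i ^ 2) (fun j _ => sq_nonneg (v j))
      (Finset.mem_univ i)
  have hval : ∀ i, v i = 0 ∨ v i = 1 ∨ v i = -1 := by
    intro i
    have h1 := hle i
    have h2 : -1 ≤ v i := by nlinarith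
    have h3 : v i ≤ 1 := by nlinarith
    interval_cases v i <;> simp
  -- there is a nonzero entry
  have hne : ∃ α, v α ≠ 0 := by
    by_contra h
    push Not at h
    have : ∑ i, v i ^ 2 = 0 := Finset.sum_eq_zero (fun i _ => by rw [h i]; ring)
    omega
  obtain ⟨α, hα⟩ := hne
  have hα2 : v α ^ 2 = 1 := by
    rcases hval α with h | h | h
    · exact absurd h hα
    · rw [h]; ring
    · rw [h]; ring
  have hrest : ∑ i ∈ Finset.univ.erase α, v i ^ 2 = 1 := by
    have := Finset.add_sum_erase Finset.univ (fun i => v i ^ 2) (Finset.mem_univ α)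
    omega
  have hne2 : ∃ β ∈ Finset.univ.erase α, v β ≠ 0 := by
    by_contra h
    push Not at h
    have : ∑ i ∈ Finset.univ.erase α, v i ^ 2 = 0 :=
      Finset.sum_eq_zero (fun i hi => by rw [h i hi]; ring)
    omega
  obtain ⟨β, hβmem, hβ⟩ := hne2
  have hβα : β ≠ α := (Finset.mem_erase.1 hβmem).1
  have hβ2 : v β ^ 2 = 1 := by
    rcases hval β with h | h | h
    · exact absurd h hβ
    · rw [h]; ring
    · rw [h]; ring
  have hrest2 : ∑ i ∈ (Finset.univ.erase α).erase β, v i ^ 2 = 0 := by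
    have := Finset.add_sum_erase (Finset.univ.erase α) (fun i => v i ^ 2) hβmem
    omega
  have hzero : ∀ i, i ≠ α → i ≠ β → v i = 0 := by
    intro i hiα hiβ
    have hmem : i ∈ (Finset.univ.erase α).erase β :=
      Finset.mem_erase.2 ⟨hiβ, Finset.mem_erase.2 ⟨hiα, Finset.mem_univ i⟩⟩
    have h1 := (Finset.sum_eq_zero_iff_of_nonneg (fun j _ => sq_nonneg (v j))).1 hrest2 i hmem
    exact pow_eq_zero_iff (two_ne_zero) |>.1 h1
  -- the orthogonality forces opposite signs
  have hsum : x α * v α + x β * v β = 0 := by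
    have h1 := Finset.add_sum_erase Finset.univ (fun i => x i * v i) (Finset.mem_univ α)
    have h2 := Finset.add_sum_erase (Finset.univ.erase α) (fun i => x i * v i) hβmem
    have h3 : ∑ i ∈ (Finset.univ.erase α).erase β, x i * v i = 0 := by
      refine Finset.sum_eq_zero (fun i hi => ?_)
      have hiβ := (Finset.mem_erase.1 hi).1
      have hiα := (Finset.mem_erase.1 (Finset.mem_erase.1 hi).2).1
      rw [hzero i hiα hiβ, mul_zero]
    rw [hvx] at h1
    linarith
  have hxα := hx α
  have hxβ := hx β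
  rcases hval α with h | h | h
  · exact absurd h hα
  · rcases hval β with h' | h' | h'
    · exact absurd h' hβ
    · rw [h, h'] at hsum; exfalso; linarith
    · refine ⟨α, β, hβα.symm, fun i => ?_⟩
      by_cases hiα : i = α
      · subst hiα
        rw [if_pos rfl, if_neg hβα.symm, h]; ring
      · by_cases hiβ : i = β
        · subst hiβ
          rw [if_neg hiα, if_pos rfl, h']; ring
        · rw [if_neg hiα, if_neg hiβ, hzero i hiα hiβ]; ring
  · rcases hval β with h' | h' | h'
    · exact absurd h' hβ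
    · refine ⟨β, α, hβα, fun i => ?_⟩
      by_cases hiα : i = α
      · subst hiα
        rw [if_neg hβα.symm, if_pos rfl, h]; ring
      · by_cases hiβ : i = β
        · subst hiβ
          rw [if_pos rfl, if_neg hiα, h']; ring
        · rw [if_neg hiβ, if_neg hiα, hzero i hiα hiβ]; ring
    · rw [h, h'] at hsum; exfalso; linarith

/-- `e_u = e_v` forces `u = v`. -/
theorem ind_inj {u v : I} (h : ∀ i : I, (if i = u then (1 : ℤ) else 0) = if i = v then 1 else 0) :
    u = v := by
  have := h u
  rw [if_pos rfl] at this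
  by_contra hne
  rw [if_neg hne] at this
  exact one_ne_zero this

section Sun

variable {J : Type*} (R : J → J → Prop) (a : J → I → ℤ) (m : ℤ)

open scoped Classical in
/-- Equality of the vectors is the relation. -/
theorem eq_iff_rel
    (hG : ∀ j j', ∑ i, a j i * a j' i = m + (if R j j' then 1 else 0)) (hrefl : ∀ j, R j j)
    (j j' : J) : a j = a j' ↔ R j j' := by
  constructor
  · intro h
    have h1 := hG j j'
    have h2 := hG j j
    rw [← h, h2, if_pos (hrefl j)] at h1
    by_contra hR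
    rw [if_neg hR] at h1
    omega
  · intro hR
    have h1 := hG j j'
    have h2 := hG j j
    have h3 := hG j' j'
    rw [if_pos hR] at h1
    rw [if_pos (hrefl j)] at h2
    rw [if_pos (hrefl j')] at h3
    have h4 : ∑ i, (a j i - a j' i) ^ 2 = 0 := by
      have : ∀ i, (a j i - a j' i) ^ 2 = a j i * a j i + a j' i * a j' i - 2 * (a j i * a j' i) := by
        intro i; ring
      simp only [this]
      rw [Finset.sum_sub_distrib, Finset.sum_add_distrib, ← Finset.mul_sum, h1, h2, h3]
      ring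
    funext i
    have h5 := (Finset.sum_eq_zero_iff_of_nonneg (fun j _ => sq_nonneg _)).1 h4 i (Finset.mem_univ i)
    have h6 := pow_eq_zero_iff (two_ne_zero) |>.1 h5
    omega

open scoped Classical in
/-- Non-related vectors differ by `e_α - e_β`. -/
theorem diff_of_not_rel
    (hG : ∀ j j', ∑ i, a j i * a j' i = m + (if R j j' then 1 else 0)) (hrefl : ∀ j, R j j)
    (x : I → ℤ) (hx : ∀ i, 0 < x i) (hax : ∀ j, ∑ i, x i * a j i = 0) (j j' : J)
    (hR : ¬ R j j') :
    ∃ α β : I, α ≠ β ∧
      ∀ i, a j i - a j' i = (if i = α then 1 else 0) - (if i = β then 1 else 0) := by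
  have h1 := hG j j'
  have h2 := hG j j
  have h3 := hG j' j'
  rw [if_neg hR] at h1
  rw [if_pos (hrefl j)] at h2
  rw [if_pos (hrefl j')] at h3
  have h4 : ∑ i, (a j i - a j' i) ^ 2 = 2 := by
    have : ∀ i, (a j i - a j' i) ^ 2 = a j i * a j i + a j' i * a j' i - 2 * (a j i * a j' i) := by
      intro i; ring
    simp only [this]
    rw [Finset.sum_sub_distrib, Finset.sum_add_distrib, ← Finset.mul_sum, h1, h2, h3]
    ring
  have h5 : ∑ i, x i * (a j i - a j' i) = 0 := by
    simp only [mul_sub]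
    rw [Finset.sum_sub_distrib, hax j, hax j', sub_zero]
  exact norm_two (fun i => a j i - a j' i) h4 x hx h5

open scoped Classical in
/-- The core: a common `α₀`. -/
theorem sunflower_core
    (hG : ∀ j j', ∑ i, a j i * a j' i = m + (if R j j' then 1 else 0)) (hrefl : ∀ j, R j j)
    (j₀ : J) (α₀ : I) (β : J → I)
    (hβ : ∀ j, ¬ R j₀ j →
      ∀ i, a j₀ i - a j i = (if i = α₀ then 1 else 0) - (if i = β j then 1 else 0)) :
    ∃ (ζ : J → I) (b : I → ℤ), (∀ j i, a j i = (if i = ζ j then 1 else 0) + b i) ∧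
      ∀ j j', ζ j = ζ j' ↔ R j j' := by
  set ζ : J → I := fun j => if R j₀ j then α₀ else β j with hζ
  set b : I → ℤ := fun i => a j₀ i - (if i = α₀ then 1 else 0) with hb
  have hform : ∀ j i, a j i = (if i = ζ j then 1 else 0) + b i := by
    intro j i
    by_cases hR : R j₀ j
    · have h1 := (eq_iff_rel R a m hG hrefl j₀ j).2 hR
      simp only [hζ, hb, if_pos hR]
      rw [← h1]; ring
    · have h1 := hβ j hR i
      simp only [hζ, hb, if_neg hR]
      linarith
  refine ⟨ζ, b, hform, fun j j' => ?_⟩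
  rw [← eq_iff_rel R a m hG hrefl j j']
  constructor
  · intro h
    funext i
    rw [hform j i, hform j' i, h]
  · intro h
    apply ind_inj
    intro i
    have := congrFun h i
    rw [hform j i, hform j' i] at this
    linarith

open scoped Classical in
/-- Two differences `a j₀ - a j = e_α - e_β`, `a j₀ - a j' = e_α' - e_β'` share `α` or `β`. -/
theorem pair_cases
    (hG : ∀ j j', ∑ i, a j i * a j' i = m + (if R j j' then 1 else 0)) (hrefl : ∀ j, R j j)
    (x : I → ℤ) (hx : ∀ i, 0 < x i) (hax : ∀ j, ∑ i, x i * a j i = 0)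
    (j₀ j j' : J) (α β α' β' : I) (hαβ : α ≠ β) (hαβ' : α' ≠ β')
    (h : ∀ i, a j₀ i - a j i = (if i = α then 1 else 0) - (if i = β then 1 else 0))
    (h' : ∀ i, a j₀ i - a j' i = (if i = α' then 1 else 0) - (if i = β' then 1 else 0)) :
    α = α' ∨ β = β' := by
  by_cases hR : R j j'
  · left
    have h1 := (eq_iff_rel R a m hG hrefl j j').2 hR
    have h2 := h α
    have h3 := h' α
    rw [← h1, h2, if_pos rfl, if_neg hαβ] at h3
    by_contra hne
    rw [if_neg hne] at h3
    split_ifs at h3 <;> omega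
  · obtain ⟨γ, ε, hγε, hd⟩ := diff_of_not_rel R a m hG hrefl x hx hax j j' hR
    by_contra hcon
    push Not at hcon
    obtain ⟨hαα', hββ'⟩ := hcon
    have key : ∀ i, ((if i = α' then (1:ℤ) else 0) - (if i = β' then 1 else 0)) -
        ((if i = α then 1 else 0) - (if i = β then 1 else 0)) =
        (if i = γ then 1 else 0) - (if i = ε then 1 else 0) := by
      intro i
      rw [← hd i, ← h i, ← h' i]; ring
    have k1 := key α
    rw [if_pos rfl, if_neg hαα', if_neg hαβ] at k1
    have hαβ'2 : α ≠ β' := by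
      intro he
      rw [if_pos he] at k1
      split_ifs at k1 <;> omega
    have hεα : α = ε := by
      by_contra hne
      rw [if_neg hαβ'2, if_neg hne] at k1
      split_ifs at k1 <;> omega
    have k2 := key β'
    rw [if_pos rfl, if_neg hαβ'.symm, if_neg (Ne.symm hαβ'2), if_neg (Ne.symm hββ')] at k2
    have : β' = ε := by
      by_contra hne
      rw [if_neg hne] at k2
      split_ifs at k2 <;> omega
    exact hαβ'2 (hεα.trans this.symm)

open scoped Classical in
/-- **Sunflower lemma**: integer vectors with Gram matrix `m + [j ~ j']` orthogonal to a positive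
vector are `δ e_{ζ j} + b` for a sign `δ`. -/
theorem sunflower [Nonempty I]
    (hG : ∀ j j', ∑ i, a j i * a j' i = m + (if R j j' then 1 else 0)) (hrefl : ∀ j, R j j)
    (x : I → ℤ) (hx : ∀ i, 0 < x i) (hax : ∀ j, ∑ i, x i * a j i = 0) [Nonempty J] :
    ∃ (δ : ℤ) (ζ : J → I) (b : I → ℤ), (δ = 1 ∨ δ = -1) ∧
      (∀ j i, a j i = δ * (if i = ζ j then 1 else 0) + b i) ∧
      ∀ j j', ζ j = ζ j' ↔ R j j' := by
  obtain ⟨j₀⟩ := ‹Nonempty J›
  obtain ⟨i₀⟩ := ‹Nonempty I›
  have hex : ∀ j, ∃ αβ : I × I, ¬ R j₀ j → (αβ.1 ≠ αβ.2 ∧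
      ∀ i, a j₀ i - a j i = (if i = αβ.1 then 1 else 0) - (if i = αβ.2 then 1 else 0)) := by
    intro j
    by_cases hR : R j₀ j
    · exact ⟨(i₀, i₀), fun h => absurd hR h⟩
    · obtain ⟨α, β, hne, hd⟩ := diff_of_not_rel R a m hG hrefl x hx hax j₀ j hR
      exact ⟨(α, β), fun _ => ⟨hne, hd⟩⟩
  choose αβ hαβ using hex
  have hpair : ∀ j j', ¬ R j₀ j → ¬ R j₀ j' →
      (αβ j).1 = (αβ j').1 ∨ (αβ j).2 = (αβ j').2 := by
    intro j j' hj hj'
    exact pair_cases R a m hG hrefl x hx hax j₀ j j' _ _ _ _ (hαβ j hj).1 (hαβ j' hj').1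
      (hαβ j hj).2 (hαβ j' hj').2
  by_cases hA : ∀ j j', ¬ R j₀ j → ¬ R j₀ j' → (αβ j).1 = (αβ j').1
  · -- common α
    by_cases hne : ∃ j₁, ¬ R j₀ j₁
    · obtain ⟨j₁, hj₁⟩ := hne
      obtain ⟨ζ, b, h1, h2⟩ := sunflower_core R a m hG hrefl j₀ (αβ j₁).1 (fun j => (αβ j).2)
        (fun j hj i => by rw [(hαβ j hj).2 i, hA j j₁ hj hj₁])
      exact ⟨1, ζ, b, Or.inl rfl, fun j i => by rw [h1 j i]; ring, h2⟩
    · push Not at hne
      obtain ⟨ζ, b, h1, h2⟩ := sunflower_core R a m hG hrefl j₀ i₀ (fun _ => i₀)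
        (fun j hj i => absurd (hne j) hj)
      exact ⟨1, ζ, b, Or.inl rfl, fun j i => by rw [h1 j i]; ring, h2⟩
  · -- common β
    push Not at hA
    obtain ⟨j₁, j₂, hj₁, hj₂, hne12⟩ := hA
    have hβ12 : (αβ j₁).2 = (αβ j₂).2 := (hpair j₁ j₂ hj₁ hj₂).resolve_left hne12
    have hB : ∀ j, ¬ R j₀ j → (αβ j).2 = (αβ j₁).2 := by
      intro j hj
      by_contra hne
      have e1 := (hpair j j₁ hj hj₁).resolve_right hne
      have e2 := (hpair j j₂ hj hj₂).resolve_right (by rw [← hβ12]; exact hne)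
      exact hne12 (e1.symm.trans e2)
    have hG' : ∀ j j', ∑ i, (-a j i) * (-a j' i) = m + (if R j j' then 1 else 0) := by
      intro j j'
      rw [← hG j j']
      exact Finset.sum_congr rfl (fun i _ => by ring)
    obtain ⟨ζ, b, h1, h2⟩ := sunflower_core R (fun j i => -a j i) m hG' hrefl j₀ (αβ j₁).2
      (fun j => (αβ j).1)
      (fun j hj i => by
        have := (hαβ j hj).2 i
        rw [hB j hj] at this
        linarith)
    refine ⟨-1, ζ, fun i => -b i, Or.inr rfl, fun j i => ?_, h2⟩
    have := h1 j i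
    linarith

end Sun

end Cfsg.Agent.Lib.H23.AbSyl
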