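import Cfsg.Agent.Lib.H23.AbSylE
import Cfsg.Agent.Lib.H23.AbSylLattice
import Cfsg.Agent.Lib.H23.DegreeDvd
import Cfsg.Agent.Lib.L0.PrincipalBrauerPair

/-!
# Applying the lattice lemma to the coefficient vectors (helper23)
-/

set_option autoImplicit false

namespace Cfsg.Agent.Lib.H23.AbSyl

open Cfsg Cfsg.Agent.Lib.H23 Cfsg.Agent.Lib.H24 Cfsg.Agent.Lib.L0
  Cfsg.Agent.Lib.L0.PrincipalCrit Cfsg.Agent.Lib.L0.PrincipalBrauerPair
open scoped ComplexConjugate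

variable {G : Type*} [Group G] [Finite G]

/-- The `N_G(P)`-classes of nontrivial characters have `|N : C|` elements. -/
theorem class_card (P : Subgroup G)
    (hcomm : ∀ a ∈ P, ∀ b ∈ P, a * b = b * a)
    (hfrob : ∀ y : G, y ∈ P → y ≠ 1 →
      Subgroup.centralizer ({y} : Set G) ⊓ Subgroup.normalizer (P : Set G) =
        Subgroup.centralizer (P : Set G))
    (ψ : ↥P →* ℂˣ) (hψ : ψ ≠ 1) :
    Nat.card {ψ' : ↥P →* ℂˣ // Rel P ψ ψ'} * Nat.card ↥(Subgroup.centralizer (P : Set G)) =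
      Nat.card ↥(Subgroup.normalizer (P : Set G)) := by
  classical
  haveI : Fintype (↥P →* ℂˣ) := Fintype.ofFinite _
  haveI : Fintype {ψ' : ↥P →* ℂˣ // Rel P ψ ψ'} := Fintype.ofFinite _
  set N := Subgroup.normalizer (P : Set G) with hN
  have e : ↥N ≃ Σ ψ' : {ψ' : ↥P →* ℂˣ // Rel P ψ ψ'}, {x : ↥N // twist P x ψ'.1 = ψ} :=
    { toFun := fun x => ⟨⟨twist P x⁻¹ ψ, (rel_iff P ψ _).2 ⟨x, by
        rw [twist_twist, inv_mul_cancel, twist_one]⟩⟩, ⟨x, by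
        rw [twist_twist, inv_mul_cancel, twist_one]⟩⟩
      invFun := fun s => s.2.1
      left_inv := fun x => rfl
      right_inv := fun s => by
        obtain ⟨⟨ψ', hR⟩, ⟨x, hx⟩⟩ := s
        have h1 : twist P x⁻¹ ψ = ψ' := by
          rw [← hx, twist_twist, mul_inv_cancel, twist_one]
        simp only
        subst h1
        rfl }
  rw [Nat.card_congr e, Nat.card_sigma]
  have h1 : ∀ ψ' : {ψ' : ↥P →* ℂˣ // Rel P ψ ψ'},
      Nat.card {x : ↥N // twist P x ψ'.1 = ψ} = Nat.card ↥(Subgroup.centralizer (P : Set G)) := by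
    intro ψ'
    rw [card_twist_eq P hcomm hfrob ψ ψ'.1 (rel_ne_one P ψ'.2 hψ), if_pos ψ'.2]
  rw [Finset.sum_congr rfl (fun ψ' _ => h1 ψ'), Finset.sum_const, Finset.card_univ, smul_eq_mul,
    Nat.card_eq_fintype_card]

/-- There are at least two classes. -/
theorem exists_not_rel (P : Subgroup G)
    (hcomm : ∀ a ∈ P, ∀ b ∈ P, a * b = b * a)
    (hfrob : ∀ y : G, y ∈ P → y ≠ 1 →
      Subgroup.centralizer ({y} : Set G) ⊓ Subgroup.normalizer (P : Set G) =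
        Subgroup.centralizer (P : Set G))
    (m : ℕ) (hm2 : m + 1 < Nat.card ↥P)
    (hCN : (Subgroup.centralizer (P : Set G)).relIndex (Subgroup.normalizer (P : Set G)) = m)
    (ψ : ↥P →* ℂˣ) (hψ : ψ ≠ 1) :
    Nat.card {ψ' : ↥P →* ℂˣ // Rel P ψ ψ'} = m ∧
    ∃ ψ' : ↥P →* ℂˣ, ψ' ≠ 1 ∧ ¬ Rel P ψ ψ' := by
  classical
  haveI : Fintype (↥P →* ℂˣ) := Fintype.ofFinite _
  have hcomm' : ∀ a b : ↥P, a * b = b * a := fun a b => Subtype.ext (hcomm a a.2 b b.2)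
  have h1 := class_card P hcomm hfrob ψ hψ
  have h2 := relIndex_mul_card_of_le
    (Subgroup.centralizer_le_normalizer (s := (P : Set G)))
  rw [hCN] at h2
  have hC0 : 0 < Nat.card ↥(Subgroup.centralizer (P : Set G)) := Nat.card_pos
  have hcard : Nat.card {ψ' : ↥P →* ℂˣ // Rel P ψ ψ'} = m := by
    rw [← h2] at h1
    exact Nat.eq_of_mul_eq_mul_right hC0 h1
  refine ⟨hcard, ?_⟩
  by_contra hcon
  push Not at hcon
  -- every character is trivial or related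
  have h3 : Nat.card (↥P →* ℂˣ) ≤ m + 1 := by
    rw [← hcard]
    have : Nat.card (↥P →* ℂˣ) ≤ Nat.card (Option {ψ' : ↥P →* ℂˣ // Rel P ψ ψ'}) := by
      apply Nat.card_le_card_of_injective
        (fun φ : ↥P →* ℂˣ => if h : φ = 1 then none else some ⟨φ, hcon φ h⟩)
      intro φ φ' hφ
      by_cases h : φ = 1
      · by_cases h' : φ' = 1
        · rw [h, h']
        · simp only [dif_pos h, dif_neg h'] at hφ
          exact absurd hφ (by simp)
      · by_cases h' : φ' = 1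
        · simp only [dif_neg h, dif_pos h'] at hφ
          exact absurd hφ (by simp)
        · simp only [dif_neg h, dif_neg h', Option.some.injEq, Subtype.mk.injEq] at hφ
          exact hφ
    rw [Nat.card_eq_fintype_card (α := Option _), Fintype.card_option,
      ← Nat.card_eq_fintype_card] at this
    exact this
  rw [card_hom hcomm'] at h3
  omega

variable {p : ℕ} [Fact p.Prime] {M : Ideal AlgInt}

open scoped Classical in
/-- The coefficient vectors have the shape `δ e_{ζ ψ} + b`. -/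
theorem sunflower_data (hM : IsPModular p M) (P : Sylow p G)
    (hcomm : ∀ a ∈ P, ∀ b ∈ P, a * b = b * a)
    (hfrob : ∀ y : G, y ∈ (P : Subgroup G) → y ≠ 1 →
      Subgroup.centralizer ({y} : Set G) ⊓ Subgroup.normalizer ((P : Subgroup G) : Set G) =
        Subgroup.centralizer ((P : Subgroup G) : Set G))
    (m : ℕ) (hm2 : m + 1 < Nat.card ↥(P : Subgroup G))
    (hCN : (Subgroup.centralizer ((P : Subgroup G) : Set G)).relIndex
      (Subgroup.normalizer ((P : Subgroup G) : Set G)) = m) :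
    ∃ (δ : ℤ) (ζ : (↥(P : Subgroup G) →* ℂˣ) → IrrCharacter G) (b : IrrCharacter G → ℤ),
      (δ = 1 ∨ δ = -1) ∧
      (∀ ψ : ↥(P : Subgroup G) →* ℂˣ, ψ ≠ 1 → ζ ψ ∈ principalBlock M G) ∧
      (∀ χ : IrrCharacter G, χ ∉ principalBlock M G → b χ = 0) ∧
      (∀ ψ : ↥(P : Subgroup G) →* ℂˣ, ψ ≠ 1 →
        coef (P : Subgroup G) (ζ ψ : G → ℂ) ψ = ((δ + b (ζ ψ) : ℤ) : ℂ)) ∧
      (∀ ψ : ↥(P : Subgroup G) →* ℂˣ, ψ ≠ 1 → ∀ χ ∈ principalBlock M G, χ ≠ ζ ψ →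
        coef (P : Subgroup G) (χ : G → ℂ) ψ = ((b χ : ℤ) : ℂ)) ∧
      (∀ ψ ψ' : ↥(P : Subgroup G) →* ℂˣ, ψ ≠ 1 → ψ' ≠ 1 →
        (ζ ψ = ζ ψ' ↔ Rel (P : Subgroup G) ψ ψ')) ∧
      (∀ ψ : ↥(P : Subgroup G) →* ℂˣ, ψ ≠ 1 →
        2 * δ * b (ζ ψ) + ∑ᶠ χ : IrrCharacter G, b χ ^ 2 = (m : ℤ)) := by
  haveI := Fintype.ofFinite G
  haveI := Fintype.ofFinite (IrrCharacter G)
  haveI : Fintype (↥(P : Subgroup G) →* ℂˣ) := Fintype.ofFinite _
  have hp : p.Prime := Fact.out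
  have hcomm' : ∀ a b : ↥(P : Subgroup G), a * b = b * a :=
    fun a b => Subtype.ext (hcomm a a.2 b b.2)
  set J := {ψ : ↥(P : Subgroup G) →* ℂˣ // ψ ≠ 1} with hJ
  haveI : Nonempty J := by
    have h1 : 1 < Nat.card (↥(P : Subgroup G) →* ℂˣ) := by
      rw [card_hom hcomm']; omega
    haveI : Nontrivial (↥(P : Subgroup G) →* ℂˣ) := Finite.one_lt_card_iff_nontrivial.1 h1
    obtain ⟨ψ, hψ⟩ := exists_ne (1 : ↥(P : Subgroup G) →* ℂˣ)
    exact ⟨⟨ψ, hψ⟩⟩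
  haveI : Nonempty (IrrCharacter G) := ⟨trivIrr G⟩
  set A : J → IrrCharacter G → ℤ := fun j χ =>
    if χ ∈ principalBlock M G then
      Classical.choose (coef_int (P : Subgroup G) (isCharacter_of_irr χ.2) j.1) else 0 with hAdef
  have hA : ∀ (j : J) (χ : IrrCharacter G), χ ∈ principalBlock M G →
      ((A j χ : ℤ) : ℂ) = coef (P : Subgroup G) (χ : G → ℂ) j.1 := by
    intro j χ hχ
    simp only [hAdef, if_pos hχ]
    exact (Classical.choose_spec (coef_int (P : Subgroup G) (isCharacter_of_irr χ.2) j.1)).symm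
  have hA0 : ∀ (j : J) (χ : IrrCharacter G), χ ∉ principalBlock M G → A j χ = 0 := by
    intro j χ hχ
    simp only [hAdef, if_neg hχ]
  have hAc : ∀ (j : J) (χ : IrrCharacter G), ((A j χ : ℤ) : ℂ) =
      if χ ∈ principalBlock M G then coef (P : Subgroup G) (χ : G → ℂ) j.1 else 0 := by
    intro j χ
    split_ifs with hχ
    · exact hA j χ hχ
    · rw [hA0 j χ hχ, Int.cast_zero]
  -- the Gram matrix
  have hG : ∀ j j' : J, ∑ χ : IrrCharacter G, A j χ * A j' χ =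
      (m : ℤ) + (if Rel (P : Subgroup G) j.1 j'.1 then 1 else 0) := by
    intro j j'
    apply Int.cast_injective (α := ℂ)
    have h1 := gram hM P hcomm hfrob j.1 j'.1 j.2 j'.2
    rw [hCN, finsum_mem_eq_sum_ite] at h1
    push_cast
    rw [← h1]
    refine Finset.sum_congr rfl (fun χ _ => ?_)
    split_ifs with hχ
    · rw [hA j χ hχ, hA j' χ hχ, ← hA j' χ hχ, map_intCast]
    · rw [hA0 j χ hχ, Int.cast_zero, zero_mul]
  -- orthogonality to the degree vector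
  set x : IrrCharacter G → ℤ := fun χ => (charDegree (χ : G → ℂ) : ℤ) with hxdef
  have hx : ∀ χ, 0 < x χ := by
    intro χ
    simp only [hxdef]
    exact_mod_cast charDegree_pos (χ : G → ℂ) χ.2
  have hax : ∀ j : J, ∑ χ : IrrCharacter G, x χ * A j χ = 0 := by
    intro j
    apply Int.cast_injective (α := ℂ)
    have hone : ¬ p ∣ orderOf (1 : G) := by
      rw [orderOf_one]
      exact hp.one_lt.ne' ∘ Nat.dvd_one.mp
    have h1 := sum_coef_mul_preg hM (P : Subgroup G) P.2 (trivIrr G) j.1 1 hone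
    rw [← principalBlock_eq, finsum_mem_eq_sum_ite] at h1
    push_cast
    rw [← h1]
    refine Finset.sum_congr rfl (fun χ _ => ?_)
    rw [hAc j χ]
    split_ifs with hχ
    · simp only [hxdef]
      rw [apply_one_eq_charDegree _ χ.2]
      push_cast
      ring
    · rw [mul_zero]
  obtain ⟨δ, ζ₀, b, hδ, hform, hζ₀⟩ := sunflower
    (fun j j' : J => Rel (P : Subgroup G) j.1 j'.1) A (m : ℤ) hG
    (fun j => rel_refl (P : Subgroup G) j.1) x hx hax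
  have hform1 : ∀ (j : J) (i : IrrCharacter G), i = ζ₀ j → A j i = δ + b i := by
    intro j i h
    rw [hform j i, if_pos h, mul_one]
  have hform2 : ∀ (j : J) (i : IrrCharacter G), i ≠ ζ₀ j → A j i = b i := by
    intro j i h
    rw [hform j i, if_neg h, mul_zero, zero_add]
  set ζ : (↥(P : Subgroup G) →* ℂˣ) → IrrCharacter G :=
    fun ψ => if h : ψ ≠ 1 then ζ₀ ⟨ψ, h⟩ else trivIrr G with hζdef
  have hζ : ∀ (ψ : ↥(P : Subgroup G) →* ℂˣ) (h : ψ ≠ 1), ζ ψ = ζ₀ ⟨ψ, h⟩ := by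
    intro ψ h
    simp only [hζdef, dif_pos h]
  have hδ0 : δ ≠ 0 := by rcases hδ with h | h <;> rw [h] <;> norm_num
  have hδ2 : δ ^ 2 = 1 := by rcases hδ with h | h <;> rw [h] <;> norm_num
  -- the image lies in the principal block
  have hZ1 : ∀ j : J, ζ₀ j ∈ principalBlock M G := by
    intro j
    by_contra hout
    have h1 := hform1 j (ζ₀ j) rfl
    rw [hA0 j _ hout] at h1
    obtain ⟨-, ψ', hψ', hnr⟩ := exists_not_rel (P : Subgroup G) hcomm hfrob m hm2 hCN j.1 j.2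
    have hne : ζ₀ j ≠ ζ₀ ⟨ψ', hψ'⟩ := fun h => hnr ((hζ₀ j ⟨ψ', hψ'⟩).1 h)
    have h2 := hform2 ⟨ψ', hψ'⟩ (ζ₀ j) hne
    rw [hA0 _ _ hout] at h2
    apply hδ0
    omega
  have hZ2 : ∀ χ : IrrCharacter G, χ ∉ principalBlock M G → b χ = 0 := by
    intro χ hχ
    obtain ⟨j⟩ := ‹Nonempty J›
    have hne : χ ≠ ζ₀ j := fun h => hχ (h ▸ hZ1 j)
    rw [← hform2 j χ hne, hA0 j χ hχ]
  refine ⟨δ, ζ, b, hδ, ?_, hZ2, ?_, ?_, ?_, ?_⟩
  · intro ψ hψ
    rw [hζ ψ hψ]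
    exact hZ1 _
  · intro ψ hψ
    rw [hζ ψ hψ, ← hform1 ⟨ψ, hψ⟩ _ rfl, hA ⟨ψ, hψ⟩ _ (hZ1 _)]
  · intro ψ hψ χ hχ hne
    rw [hζ ψ hψ] at hne
    rw [← hform2 ⟨ψ, hψ⟩ χ hne, hA ⟨ψ, hψ⟩ χ hχ]
  · intro ψ ψ' hψ hψ'
    rw [hζ ψ hψ, hζ ψ' hψ']
    exact hζ₀ ⟨ψ, hψ⟩ ⟨ψ', hψ'⟩
  · intro ψ hψ
    rw [hζ ψ hψ, finsum_eq_sum_of_fintype]
    have h1 := hG ⟨ψ, hψ⟩ ⟨ψ, hψ⟩
    rw [if_pos (rel_refl (P : Subgroup G) ψ)] at h1
    have h2 : ∑ χ : IrrCharacter G, A ⟨ψ, hψ⟩ χ * A ⟨ψ, hψ⟩ χ =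
        ∑ χ : IrrCharacter G, ((if χ = ζ₀ ⟨ψ, hψ⟩ then (1 + 2 * δ * b (ζ₀ ⟨ψ, hψ⟩)) else 0)
          + b χ ^ 2) := by
      refine Finset.sum_congr rfl (fun χ _ => ?_)
      by_cases h : χ = ζ₀ ⟨ψ, hψ⟩
      · rw [if_pos h, hform1 _ _ h, h]
        linear_combination hδ2
      · rw [if_neg h, hform2 _ _ h]
        ring
    rw [h2, Finset.sum_add_distrib, Finset.sum_ite_eq' Finset.univ (ζ₀ ⟨ψ, hψ⟩),
      if_pos (Finset.mem_univ _)] at h1
    linarith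

end Cfsg.Agent.Lib.H23.AbSyl
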