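import Cfsg.Agent.Lib.H23.AbSylF
import Cfsg.Agent.Lib.H23.BlockDefectZero
import Cfsg.Agent.Lib.H23.BlockHom
import Cfsg.Agent.Lib.H23.PPart
import Cfsg.Agent.Lib.H16.SylowBasic

/-!
# Consequences of the sunflower shape (helper23)
-/

set_option autoImplicit false

namespace Cfsg.Agent.Lib.H23.AbSyl

open Cfsg Cfsg.Agent.Lib.H23 Cfsg.Agent.Lib.H24 Cfsg.Agent.Lib.L0
  Cfsg.Agent.Lib.L0.PrincipalCrit Cfsg.Agent.Lib.L0.PrincipalBrauerPair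
open scoped ComplexConjugate

variable {G : Type*} [Group G] [Finite G] {p : ℕ} [Fact p.Prime] {M : Ideal AlgInt}

/-- The data produced by the lattice lemma. -/
structure SunData (M : Ideal AlgInt) (P : Sylow p G) (m : ℕ) where
  δ : ℤ
  ζ : (↥(P : Subgroup G) →* ℂˣ) → IrrCharacter G
  b : IrrCharacter G → ℤ
  hδ : δ = 1 ∨ δ = -1
  mem : ∀ ψ : ↥(P : Subgroup G) →* ℂˣ, ψ ≠ 1 → ζ ψ ∈ principalBlock M G
  out : ∀ χ : IrrCharacter G, χ ∉ principalBlock M G → b χ = 0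
  diag : ∀ ψ : ↥(P : Subgroup G) →* ℂˣ, ψ ≠ 1 →
    coef (P : Subgroup G) (ζ ψ : G → ℂ) ψ = ((δ + b (ζ ψ) : ℤ) : ℂ)
  off : ∀ ψ : ↥(P : Subgroup G) →* ℂˣ, ψ ≠ 1 → ∀ χ ∈ principalBlock M G, χ ≠ ζ ψ →
    coef (P : Subgroup G) (χ : G → ℂ) ψ = ((b χ : ℤ) : ℂ)
  rel : ∀ ψ ψ' : ↥(P : Subgroup G) →* ℂˣ, ψ ≠ 1 → ψ' ≠ 1 →
    (ζ ψ = ζ ψ' ↔ Rel (P : Subgroup G) ψ ψ')
  norm : ∀ ψ : ↥(P : Subgroup G) →* ℂˣ, ψ ≠ 1 →
    2 * δ * b (ζ ψ) + ∑ᶠ χ : IrrCharacter G, b χ ^ 2 = (m : ℤ)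

theorem exists_sunData (hM : IsPModular p M) (P : Sylow p G)
    (hcomm : ∀ a ∈ P, ∀ b ∈ P, a * b = b * a)
    (hfrob : ∀ y : G, y ∈ (P : Subgroup G) → y ≠ 1 →
      Subgroup.centralizer ({y} : Set G) ⊓ Subgroup.normalizer ((P : Subgroup G) : Set G) =
        Subgroup.centralizer ((P : Subgroup G) : Set G))
    (m : ℕ) (hm2 : m + 1 < Nat.card ↥(P : Subgroup G))
    (hCN : (Subgroup.centralizer ((P : Subgroup G) : Set G)).relIndex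
      (Subgroup.normalizer ((P : Subgroup G) : Set G)) = m) :
    Nonempty (SunData M P m) := by
  obtain ⟨δ, ζ, b, h1, h2, h3, h4, h5, h6, h7⟩ := sunflower_data hM P hcomm hfrob m hm2 hCN
  exact ⟨⟨δ, ζ, b, h1, h2, h3, h4, h5, h6, h7⟩⟩

namespace SunData

variable {P : Sylow p G} {m : ℕ} (D : SunData M P m)

theorem δ_ne_zero : D.δ ≠ 0 := by
  rcases D.hδ with h | h <;> rw [h] <;> norm_num

theorem δ_sq : D.δ ^ 2 = 1 := by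
  rcases D.hδ with h | h <;> rw [h] <;> norm_num

/-- The value `b (ζ ψ)` does not depend on `ψ`. -/
theorem b_const (ψ ψ' : ↥(P : Subgroup G) →* ℂˣ) (hψ : ψ ≠ 1) (hψ' : ψ' ≠ 1) :
    D.b (D.ζ ψ) = D.b (D.ζ ψ') := by
  have h1 := D.norm ψ hψ
  have h2 := D.norm ψ' hψ'
  have h3 : 2 * D.δ * (D.b (D.ζ ψ) - D.b (D.ζ ψ')) = 0 := by linarith
  have h4 := D.δ_ne_zero
  rcases mul_eq_zero.1 h3 with h | h
  · exfalso
    rcases mul_eq_zero.1 h with h' | h'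
    · norm_num at h'
    · exact h4 h'
  · linarith

/-- The coefficient in general form. -/
theorem coef_eq (ψ : ↥(P : Subgroup G) →* ℂˣ) (hψ : ψ ≠ 1) (χ : IrrCharacter G)
    (hχ : χ ∈ principalBlock M G) [Decidable (χ = D.ζ ψ)] :
    coef (P : Subgroup G) (χ : G → ℂ) ψ =
      (D.b χ : ℂ) + (if χ = D.ζ ψ then (D.δ : ℂ) else 0) := by
  split_ifs with h
  · rw [h, D.diag ψ hψ]
    push_cast
    ring
  · rw [D.off ψ hψ χ hχ h, add_zero]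

include D in
/-- Values on `P#` of the members of the principal block outside the image of `ζ`. -/
theorem value_X (hcomm : ∀ a ∈ P, ∀ b ∈ P, a * b = b * a) (χ : IrrCharacter G)
    (hχ : χ ∈ principalBlock M G)
    (hχY : ∀ ψ : ↥(P : Subgroup G) →* ℂˣ, ψ ≠ 1 → χ ≠ D.ζ ψ)
    (y : ↥(P : Subgroup G)) (hy : y ≠ 1) :
    (χ : G → ℂ) (y : G) = ((-D.b χ : ℤ) : ℂ) := by
  classical
  haveI : Fintype (↥(P : Subgroup G) →* ℂˣ) := Fintype.ofFinite _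
  have hcomm' : ∀ a b : ↥(P : Subgroup G), a * b = b * a :=
    fun a b => Subtype.ext (hcomm a a.2 b b.2)
  rw [expansion (P : Subgroup G) hcomm' (χ : G → ℂ) y hy]
  have h1 : ∀ ψ : ↥(P : Subgroup G) →* ℂˣ, coef (P : Subgroup G) (χ : G → ℂ) ψ * ((ψ y : ℂˣ) : ℂ) =
      (D.b χ : ℂ) * ((ψ y : ℂˣ) : ℂ) - (if ψ = 1 then (D.b χ : ℂ) else 0) := by
    intro ψ
    split_ifs with hψ
    · rw [hψ, coef_one]
      simp
    · rw [D.off ψ hψ χ hχ (hχY ψ hψ), sub_zero]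
  rw [Finset.sum_congr rfl (fun ψ _ => h1 ψ), Finset.sum_sub_distrib, ← Finset.mul_sum,
    sum_hom_apply hcomm', if_neg hy, Finset.sum_ite_eq' Finset.univ (1 : ↥(P : Subgroup G) →* ℂˣ),
    if_pos (Finset.mem_univ _)]
  push_cast
  ring

include D in
/-- Values on `P#` of the members of the image of `ζ`. -/
theorem value_Y (hcomm : ∀ a ∈ P, ∀ b ∈ P, a * b = b * a)
    (ψ₀ : ↥(P : Subgroup G) →* ℂˣ) (hψ₀ : ψ₀ ≠ 1) (y : ↥(P : Subgroup G)) (hy : y ≠ 1) :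
    (D.ζ ψ₀ : G → ℂ) (y : G) = ((-D.b (D.ζ ψ₀) : ℤ) : ℂ) +
      (D.δ : ℂ) * ∑ᶠ ψ' ∈ {ψ' : ↥(P : Subgroup G) →* ℂˣ | Rel (P : Subgroup G) ψ₀ ψ'},
        ((ψ' y : ℂˣ) : ℂ) := by
  classical
  haveI : Fintype (↥(P : Subgroup G) →* ℂˣ) := Fintype.ofFinite _
  have hcomm' : ∀ a b : ↥(P : Subgroup G), a * b = b * a :=
    fun a b => Subtype.ext (hcomm a a.2 b b.2)
  rw [expansion (P : Subgroup G) hcomm' (D.ζ ψ₀ : G → ℂ) y hy, finsum_mem_eq_sum_ite]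
  have h1 : ∀ ψ : ↥(P : Subgroup G) →* ℂˣ,
      coef (P : Subgroup G) (D.ζ ψ₀ : G → ℂ) ψ * ((ψ y : ℂˣ) : ℂ) =
      (D.b (D.ζ ψ₀) : ℂ) * ((ψ y : ℂˣ) : ℂ) - (if ψ = 1 then (D.b (D.ζ ψ₀) : ℂ) else 0) +
        (D.δ : ℂ) * (if ψ ∈ {ψ' : ↥(P : Subgroup G) →* ℂˣ | Rel (P : Subgroup G) ψ₀ ψ'} then
          ((ψ y : ℂˣ) : ℂ) else 0) := by
    intro ψ
    by_cases hψ : ψ = 1
    · have hnr : ψ ∉ {ψ' : ↥(P : Subgroup G) →* ℂˣ | Rel (P : Subgroup G) ψ₀ ψ'} := by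
        intro hr
        exact rel_ne_one (P : Subgroup G) hr hψ₀ hψ
      rw [if_pos hψ, if_neg hnr, hψ, coef_one]
      simp
    · rw [if_neg hψ, sub_zero]
      by_cases hr : Rel (P : Subgroup G) ψ₀ ψ
      · have hmem : ψ ∈ {ψ' : ↥(P : Subgroup G) →* ℂˣ | Rel (P : Subgroup G) ψ₀ ψ'} := hr
        have hζ : D.ζ ψ₀ = D.ζ ψ := (D.rel ψ₀ ψ hψ₀ hψ).2 hr
        rw [if_pos hmem, hζ, D.diag ψ hψ]
        push_cast
        ring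
      · have hmem : ψ ∉ {ψ' : ↥(P : Subgroup G) →* ℂˣ | Rel (P : Subgroup G) ψ₀ ψ'} := hr
        have hζ : D.ζ ψ₀ ≠ D.ζ ψ := fun h => hr ((D.rel ψ₀ ψ hψ₀ hψ).1 h)
        rw [if_neg hmem, D.off ψ hψ _ (D.mem ψ₀ hψ₀) hζ]
        ring
  rw [Finset.sum_congr rfl (fun ψ _ => h1 ψ), Finset.sum_add_distrib, Finset.sum_sub_distrib,
    ← Finset.mul_sum, ← Finset.mul_sum,
    sum_hom_apply hcomm', if_neg hy, Finset.sum_ite_eq' Finset.univ (1 : ↥(P : Subgroup G) →* ℂˣ),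
    if_pos (Finset.mem_univ _)]
  push_cast
  ring

include D in
/-- The relation on `p`-regular elements. -/
theorem preg (hM : IsPModular p M) (ψ : ↥(P : Subgroup G) →* ℂˣ) (hψ : ψ ≠ 1) (g : G)
    (hg : ¬ p ∣ orderOf g) :
    (D.δ : ℂ) * (D.ζ ψ : G → ℂ) g + ∑ᶠ χ : IrrCharacter G, (D.b χ : ℂ) * (χ : G → ℂ) g = 0 := by
  classical
  haveI := Fintype.ofFinite (IrrCharacter G)
  have h1 := sum_coef_mul_preg hM (P : Subgroup G) P.2 (trivIrr G) ψ g hg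
  rw [← principalBlock_eq, finsum_mem_eq_sum_ite] at h1
  rw [finsum_eq_sum_of_fintype, ← h1]
  have h2 : ∀ χ : IrrCharacter G, (if χ ∈ principalBlock M G then
      coef (P : Subgroup G) (χ : G → ℂ) ψ * (χ : G → ℂ) g else 0) =
      (D.b χ : ℂ) * (χ : G → ℂ) g + (if χ = D.ζ ψ then (D.δ : ℂ) * (χ : G → ℂ) g else 0) := by
    intro χ
    by_cases hχ : χ ∈ principalBlock M G
    · rw [if_pos hχ, D.coef_eq ψ hψ χ hχ]
      split_ifs <;> ring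
    · have hne : χ ≠ D.ζ ψ := fun h => hχ (h ▸ D.mem ψ hψ)
      rw [if_neg hχ, if_neg hne, D.out χ hχ]
      simp
  rw [Finset.sum_congr rfl (fun χ _ => h2 χ), Finset.sum_add_distrib,
    Finset.sum_ite_eq' Finset.univ (D.ζ ψ), if_pos (Finset.mem_univ _)]
  ring

end SunData

end Cfsg.Agent.Lib.H23.AbSyl
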