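import Cfsg.Agent.Lib.H23.AbSylG

/-!
# Nonvanishing, the trivial character and counting (helper23)
-/

set_option autoImplicit false

namespace Cfsg.Agent.Lib.H23.AbSyl

open Cfsg Cfsg.Agent.Lib.H23 Cfsg.Agent.Lib.H24 Cfsg.Agent.Lib.L0
  Cfsg.Agent.Lib.L0.PrincipalCrit Cfsg.Agent.Lib.L0.PrincipalBrauerPair
open scoped ComplexConjugate

variable {G : Type*} [Group G] [Finite G] {p : ℕ} [Fact p.Prime] {M : Ideal AlgInt}

/-- Constancy on `p`-sections in terms of `IsPPart`. -/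
theorem const_isPPart (hM : IsPModular p M) (P : Sylow p G)
    (hcomm : ∀ a ∈ P, ∀ b ∈ P, a * b = b * a)
    (hfrob : ∀ y : G, y ∈ (P : Subgroup G) → y ≠ 1 →
      Subgroup.centralizer ({y} : Set G) ⊓ Subgroup.normalizer ((P : Subgroup G) : Set G) =
        Subgroup.centralizer ((P : Subgroup G) : Set G))
    (z y : G) (hzy : IsPPart p z y) (hy : y ∈ P) (hy1 : y ≠ 1)
    (χ : IrrCharacter G) (hχ : χ ∈ principalBlock M G) :
    (χ : G → ℂ) z = (χ : G → ℂ) y := by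
  obtain ⟨u, hyu, hcu, -, hu⟩ := hzy
  rw [← hyu]
  refine const_section hM P hcomm hfrob y hy hy1 u ?_ hu χ hχ
  rw [Subgroup.mem_centralizer_singleton_iff]
  exact hcu.eq.symm

/-- A member of the principal block cannot vanish on `P#`. -/
theorem vanish_contra (hM : IsPModular p M) (P : Sylow p G)
    (hcomm : ∀ a ∈ P, ∀ b ∈ P, a * b = b * a)
    (hfrob : ∀ y : G, y ∈ (P : Subgroup G) → y ≠ 1 →
      Subgroup.centralizer ({y} : Set G) ⊓ Subgroup.normalizer ((P : Subgroup G) : Set G) =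
        Subgroup.centralizer ((P : Subgroup G) : Set G))
    (hP1 : ∃ y ∈ (P : Subgroup G), y ≠ 1)
    (χ : IrrCharacter G) (hχ : χ ∈ principalBlock M G)
    (h0 : ∀ y ∈ (P : Subgroup G), y ≠ 1 → (χ : G → ℂ) y = 0) : False := by
  classical
  haveI := Fintype.ofFinite G
  haveI hPr := isPrime_of_isPModular hM
  have hp : p.Prime := Fact.out
  -- χ vanishes on all p-singular elements
  have hvan : ∀ g : G, p ∣ orderOf g → (χ : G → ℂ) g = 0 := by
    intro g hg
    obtain ⟨z, hz⟩ := exists_isPPart hp g (isOfFinOrder_of_finite g)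
    have hz' := hz
    obtain ⟨u, hzu, hcu, ⟨k, hk⟩, hu⟩ := hz'
    have hz1 : z ≠ 1 := by
      intro h1
      rw [h1, one_mul] at hzu
      rw [hzu] at hu
      exact hu hg
    have hzp : IsPGroup p (Subgroup.zpowers z) := by
      apply IsPGroup.of_card (n := k)
      rw [Nat.card_zpowers, hk]
    obtain ⟨h, hh⟩ := Cfsg.Agent.Lib.H16.exists_conj_mem_sylow (Subgroup.zpowers z) hzp P
    have hyP : h * z * h⁻¹ ∈ (P : Subgroup G) := hh z (Subgroup.mem_zpowers z)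
    have hy1 : h * z * h⁻¹ ≠ 1 := by
      intro h1
      apply hz1
      have : z = h⁻¹ * (h * z * h⁻¹) * h := by group
      rw [this, h1]; group
    have h2 := const_isPPart hM P hcomm hfrob (h * g * h⁻¹) (h * z * h⁻¹) (IsPPart.conj hz h) hyP hy1 χ hχ
    rw [irr_isClassFunction χ g h] at h2
    rw [h2, h0 _ hyP hy1]
  -- defect zero
  have hd := apply_one_eq_charDegree (χ : G → ℂ) χ.2
  have hdvd := card_sylow_dvd_of_vanish (p := p) (isCharacter_of_irr χ.2) hd hvan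
  have hdG := charDegree_dvd_card (χ : G → ℂ) χ.2
  have hdpos := charDegree_pos (χ : G → ℂ) χ.2
  have hnd : ¬ p ∣ Nat.card G / charDegree (χ : G → ℂ) := by
    intro hpd
    obtain ⟨q, hq⟩ := hdG
    have hpd' : p ∣ q := by
      rw [hq, Nat.mul_div_cancel_left q hdpos] at hpd
      exact hpd
    have h1 : p ^ ((Nat.card G).factorization p + 1) ∣ Nat.card G := by
      rw [pow_succ]
      nth_rewrite 2 [hq]
      exact Nat.mul_dvd_mul hdvd hpd'
    exact Nat.pow_succ_factorization_not_dvd Nat.card_pos.ne' hp h1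
  have hsing := (not_dvd_iff_blockOf_eq_singleton hM χ).1 hnd
  have h1 : blockOf M (χ : G → ℂ) = blockOf M (trivIrr G : G → ℂ) := blockOf_eq_of_mem hχ
  have h2 : trivIrr G ∈ blockOf M (χ : G → ℂ) := by
    rw [h1]; exact mem_blockOf_self _
  rw [hsing, Set.mem_singleton_iff] at h2
  obtain ⟨y, hyP, hy1⟩ := hP1
  have h3 := h0 y hyP hy1
  rw [← h2, trivIrr_apply] at h3
  exact one_ne_zero h3

/-- The coefficient of the trivial character. -/
theorem coef_triv (P : Subgroup G) (ψ : ↥P →* ℂˣ) (hψ : ψ ≠ 1) :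
    coef P (fun _ : G => (1 : ℂ)) ψ = -1 := by
  classical
  haveI : Fintype ↥P := Fintype.ofFinite _
  have hP0 : (Nat.card ↥P : ℂ) ≠ 0 := Nat.cast_ne_zero.2 Nat.card_pos.ne'
  rw [coef_eq_sum]
  have h1 : ∑ y : ↥P, (1 : ℂ) * ((((ψ y⁻¹ : ℂˣ)) : ℂ) - 1) = -(Nat.card ↥P : ℂ) := by
    simp only [one_mul]
    have h2 : ∑ y : ↥P, ((ψ y⁻¹ : ℂˣ) : ℂ) = ∑ y : ↥P, ((ψ y : ℂˣ) : ℂ) :=
      Equiv.sum_comp (Equiv.inv ↥P) (fun y => ((ψ y : ℂˣ) : ℂ))
    rw [Finset.sum_sub_distrib, h2, sum_apply_hom, if_neg hψ]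
    simp only [Finset.sum_const, Finset.card_univ, nsmul_eq_mul, mul_one]
    rw [← Nat.card_eq_fintype_card]
    ring
  rw [h1]
  field_simp

namespace SunData

variable {P : Sylow p G} {m : ℕ} (D : SunData M P m)

include D in
/-- The trivial character is not in the image of `ζ`. -/
theorem triv_ne (hM : IsPModular p M)
    (hcomm : ∀ a ∈ P, ∀ b ∈ P, a * b = b * a)
    (hfrob : ∀ y : G, y ∈ (P : Subgroup G) → y ≠ 1 →
      Subgroup.centralizer ({y} : Set G) ⊓ Subgroup.normalizer ((P : Subgroup G) : Set G) =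
        Subgroup.centralizer ((P : Subgroup G) : Set G))
    (hm2 : m + 1 < Nat.card ↥(P : Subgroup G))
    (hCN : (Subgroup.centralizer ((P : Subgroup G) : Set G)).relIndex
      (Subgroup.normalizer ((P : Subgroup G) : Set G)) = m)
    (ψ₀ : ↥(P : Subgroup G) →* ℂˣ) (hψ₀ : ψ₀ ≠ 1) : trivIrr G ≠ D.ζ ψ₀ := by
  haveI := Fintype.ofFinite G
  haveI hPr := isPrime_of_isPModular hM
  intro heq
  have htriv : trivIrr G ∈ principalBlock M G := by
    rw [principalBlock_eq]; exact mem_blockOf_self _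
  have h1 := D.diag ψ₀ hψ₀
  rw [← heq] at h1
  have h1' : coef (P : Subgroup G) (trivIrr G : G → ℂ) ψ₀ = -1 := coef_triv _ ψ₀ hψ₀
  rw [h1'] at h1
  obtain ⟨-, ψ₁, hψ₁, hnr⟩ := exists_not_rel (P : Subgroup G) hcomm hfrob m hm2 hCN ψ₀ hψ₀
  have hne : trivIrr G ≠ D.ζ ψ₁ := by
    rw [heq]
    exact fun h => hnr ((D.rel ψ₀ ψ₁ hψ₀ hψ₁).1 h)
  have h2 := D.off ψ₁ hψ₁ (trivIrr G) htriv hne
  have h2' : coef (P : Subgroup G) (trivIrr G : G → ℂ) ψ₁ = -1 := coef_triv _ ψ₁ hψ₁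
  rw [h2'] at h2
  have h3 : (-1 : ℤ) = D.δ + D.b (trivIrr G) := by exact_mod_cast h1
  have h4 : (-1 : ℤ) = D.b (trivIrr G) := by exact_mod_cast h2
  have := D.δ_ne_zero
  omega

include D in
/-- The members outside the image of `ζ` have nonzero value on `P#`. -/
theorem b_ne_zero (hM : IsPModular p M)
    (hcomm : ∀ a ∈ P, ∀ b ∈ P, a * b = b * a)
    (hfrob : ∀ y : G, y ∈ (P : Subgroup G) → y ≠ 1 →
      Subgroup.centralizer ({y} : Set G) ⊓ Subgroup.normalizer ((P : Subgroup G) : Set G) =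
        Subgroup.centralizer ((P : Subgroup G) : Set G))
    (hP1 : ∃ y ∈ (P : Subgroup G), y ≠ 1)
    (χ : IrrCharacter G) (hχ : χ ∈ principalBlock M G)
    (hχY : ∀ ψ : ↥(P : Subgroup G) →* ℂˣ, ψ ≠ 1 → χ ≠ D.ζ ψ) : D.b χ ≠ 0 := by
  intro hb
  apply vanish_contra hM P hcomm hfrob hP1 χ hχ
  intro y hy hy1
  have h1 := D.value_X hcomm χ hχ hχY ⟨y, hy⟩ (fun h => hy1 (congrArg Subtype.val h))
  rw [hb] at h1
  simpa using h1

end SunData

end Cfsg.Agent.Lib.H23.AbSyl
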