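import Cfsg.Agent.Lib.H23.AbSylH

/-!
# The structure of the principal block for an abelian Sylow subgroup with a fixed-point-free
normalizer action (helper23)
-/

set_option autoImplicit false

namespace Cfsg.Agent.Lib.H23.AbSyl

open Cfsg Cfsg.Agent.Lib.H23 Cfsg.Agent.Lib.H24 Cfsg.Agent.Lib.L0
  Cfsg.Agent.Lib.L0.PrincipalCrit Cfsg.Agent.Lib.L0.PrincipalBrauerPair
open scoped ComplexConjugate

variable {G : Type*} [Group G] [Finite G] {p : ℕ} [Fact p.Prime] {M : Ideal AlgInt}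

open scoped Classical in
/-- The main structure theorem, in `Finset` form. -/
theorem main (hM : IsPModular p M) (P : Sylow p G)
    (hcomm : ∀ a ∈ P, ∀ b ∈ P, a * b = b * a)
    (hfrob : ∀ y : G, y ∈ (P : Subgroup G) → y ≠ 1 →
      Subgroup.centralizer ({y} : Set G) ⊓ Subgroup.normalizer ((P : Subgroup G) : Set G) =
        Subgroup.centralizer ((P : Subgroup G) : Set G))
    (m : ℕ) (hm2 : m + 1 < Nat.card ↥(P : Subgroup G))
    (hCN : (Subgroup.centralizer ((P : Subgroup G) : Set G)).relIndex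
      (Subgroup.normalizer ((P : Subgroup G) : Set G)) = m) :
    ∃ (XF YF : Finset (IrrCharacter G)) (a : IrrCharacter G → ℤ) (d δ : ℤ)
      (ζ : (↥(P : Subgroup G) →* ℂˣ) → IrrCharacter G),
      (∀ χ : IrrCharacter G, χ ∈ principalBlock M G ↔ χ ∈ XF ∨ χ ∈ YF) ∧
      Disjoint XF YF ∧
      YF.card * m = Nat.card ↥(P : Subgroup G) - 1 ∧
      XF.card ≤ m ∧
      trivIrr G ∈ XF ∧
      (δ = 1 ∨ δ = -1) ∧
      (∀ χ ∈ XF, a χ ≠ 0 ∧ ∀ y ∈ (P : Subgroup G), y ≠ 1 → (χ : G → ℂ) y = (a χ : ℂ)) ∧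
      (∀ ψ : ↥(P : Subgroup G) →* ℂˣ, ψ ≠ 1 → ζ ψ ∈ YF) ∧
      (∀ η ∈ YF, ∃ ψ : ↥(P : Subgroup G) →* ℂˣ, ψ ≠ 1 ∧ ζ ψ = η) ∧
      (∀ ψ ψ' : ↥(P : Subgroup G) →* ℂˣ, ψ ≠ 1 → Rel (P : Subgroup G) ψ ψ' → ζ ψ' = ζ ψ) ∧
      (∀ ψ : ↥(P : Subgroup G) →* ℂˣ, ψ ≠ 1 → ∀ y : ↥(P : Subgroup G), y ≠ 1 →
        (ζ ψ : G → ℂ) (y : G) = (d : ℂ) + (δ : ℂ) *
          ∑ᶠ ψ' ∈ {ψ' : ↥(P : Subgroup G) →* ℂˣ | Rel (P : Subgroup G) ψ ψ'},
            ((ψ' y : ℂˣ) : ℂ)) ∧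
      ((d - δ) ^ 2 + ((YF.card : ℤ) - 1) * d ^ 2 + ∑ χ ∈ XF, a χ ^ 2 = (m : ℤ) + 1) ∧
      (∀ η ∈ YF, ∀ η' ∈ YF, ∀ g : G, ¬ p ∣ orderOf g → (η : G → ℂ) g = (η' : G → ℂ) g) ∧
      (∀ η ∈ YF, ∀ g : G, ¬ p ∣ orderOf g →
        ((YF.card : ℂ) * (d : ℂ) - (δ : ℂ)) * (η : G → ℂ) g +
          ∑ χ ∈ XF, (a χ : ℂ) * (χ : G → ℂ) g = 0) := by
  haveI := Fintype.ofFinite G
  haveI := Fintype.ofFinite (IrrCharacter G)
  haveI : Fintype (↥(P : Subgroup G) →* ℂˣ) := Fintype.ofFinite _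
  haveI hPr := isPrime_of_isPModular hM
  have hcomm' : ∀ a b : ↥(P : Subgroup G), a * b = b * a :=
    fun a b => Subtype.ext (hcomm a a.2 b b.2)
  obtain ⟨D⟩ := exists_sunData hM P hcomm hfrob m hm2 hCN
  -- a nontrivial character and a nontrivial element
  have hHom1 : 1 < Nat.card (↥(P : Subgroup G) →* ℂˣ) := by
    rw [card_hom hcomm']; omega
  haveI : Nontrivial (↥(P : Subgroup G) →* ℂˣ) := Finite.one_lt_card_iff_nontrivial.1 hHom1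
  obtain ⟨ψ₀, hψ₀⟩ := exists_ne (1 : ↥(P : Subgroup G) →* ℂˣ)
  have hP1 : ∃ y ∈ (P : Subgroup G), y ≠ 1 := by
    haveI : Nontrivial ↥(P : Subgroup G) :=
      Finite.one_lt_card_iff_nontrivial.1 (by omega)
    obtain ⟨y, hy⟩ := exists_ne (1 : ↥(P : Subgroup G))
    exact ⟨(y : G), y.2, fun h => hy (Subtype.ext h)⟩
  obtain ⟨hclass₀, ψ₁, hψ₁, hnr⟩ :=
    exists_not_rel (P : Subgroup G) hcomm hfrob m hm2 hCN ψ₀ hψ₀
  set d : ℤ := -D.b (D.ζ ψ₀) with hd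
  have hbd : ∀ ψ : ↥(P : Subgroup G) →* ℂˣ, ψ ≠ 1 → D.b (D.ζ ψ) = -d := by
    intro ψ hψ
    rw [hd, neg_neg]
    exact D.b_const ψ ψ₀ hψ hψ₀
  set S : Finset (↥(P : Subgroup G) →* ℂˣ) := Finset.univ.filter (fun ψ => ψ ≠ 1) with hS
  set YF : Finset (IrrCharacter G) := S.image D.ζ with hYF
  set BF : Finset (IrrCharacter G) := Finset.univ.filter (· ∈ principalBlock M G) with hBF
  set XF : Finset (IrrCharacter G) := BF \ YF with hXF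
  have hYmem : ∀ η : IrrCharacter G, η ∈ YF ↔
      ∃ ψ : ↥(P : Subgroup G) →* ℂˣ, ψ ≠ 1 ∧ D.ζ ψ = η := by
    intro η
    rw [hYF, Finset.mem_image]
    constructor
    · rintro ⟨ψ, hψ, rfl⟩
      exact ⟨ψ, (Finset.mem_filter.1 hψ).2, rfl⟩
    · rintro ⟨ψ, hψ, rfl⟩
      exact ⟨ψ, Finset.mem_filter.2 ⟨Finset.mem_univ _, hψ⟩, rfl⟩
  have hYB : YF ⊆ BF := by
    intro η hη
    obtain ⟨ψ, hψ, rfl⟩ := (hYmem η).1 hη
    exact Finset.mem_filter.2 ⟨Finset.mem_univ _, D.mem ψ hψ⟩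
  have hXmem : ∀ χ : IrrCharacter G, χ ∈ XF ↔ χ ∈ principalBlock M G ∧ χ ∉ YF := by
    intro χ
    rw [hXF, Finset.mem_sdiff, hBF, Finset.mem_filter]
    simp
  have hXY : ∀ χ ∈ XF, ∀ ψ : ↥(P : Subgroup G) →* ℂˣ, ψ ≠ 1 → χ ≠ D.ζ ψ := by
    intro χ hχ ψ hψ h
    exact ((hXmem χ).1 hχ).2 ((hYmem χ).2 ⟨ψ, hψ, h.symm⟩)
  have hXb : ∀ χ ∈ XF, D.b χ ≠ 0 := fun χ hχ =>
    D.b_ne_zero hM hcomm hfrob hP1 χ ((hXmem χ).1 hχ).1 (hXY χ hχ)
  have hYb : ∀ η ∈ YF, D.b η = -d := by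
    intro η hη
    obtain ⟨ψ, hψ, rfl⟩ := (hYmem η).1 hη
    exact hbd ψ hψ
  -- sums over all characters split
  have hsplit : ∀ f : IrrCharacter G → ℂ, (∀ χ, χ ∉ principalBlock M G → f χ = 0) →
      ∑ᶠ χ : IrrCharacter G, f χ = ∑ χ ∈ XF, f χ + ∑ χ ∈ YF, f χ := by
    intro f hf
    rw [finsum_eq_sum_of_fintype, hXF, Finset.sum_sdiff hYB, hBF, Finset.sum_filter]
    refine Finset.sum_congr rfl (fun χ _ => ?_)
    split_ifs with h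
    · rfl
    · exact hf χ h
  have hsplitZ : ∑ᶠ χ : IrrCharacter G, D.b χ ^ 2 =
      ∑ χ ∈ XF, D.b χ ^ 2 + ∑ χ ∈ YF, D.b χ ^ 2 := by
    rw [finsum_eq_sum_of_fintype, hXF, Finset.sum_sdiff hYB, hBF, Finset.sum_filter]
    refine Finset.sum_congr rfl (fun χ _ => ?_)
    split_ifs with h
    · rfl
    · rw [D.out χ h]; ring
  -- the two classes give two members of YF
  have hY2 : 2 ≤ YF.card := by
    have h0 : D.ζ ψ₀ ∈ YF := (hYmem _).2 ⟨ψ₀, hψ₀, rfl⟩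
    have h1 : D.ζ ψ₁ ∈ YF := (hYmem _).2 ⟨ψ₁, hψ₁, rfl⟩
    have hne : D.ζ ψ₀ ≠ D.ζ ψ₁ := fun h => hnr ((D.rel ψ₀ ψ₁ hψ₀ hψ₁).1 h)
    exact Finset.one_lt_card.2 ⟨_, h0, _, h1, hne⟩
  -- the norm equation
  have hnorm : (d - D.δ) ^ 2 + ((YF.card : ℤ) - 1) * d ^ 2 + ∑ χ ∈ XF, (-D.b χ) ^ 2 =
      (m : ℤ) + 1 := by
    have h1 := D.norm ψ₀ hψ₀
    rw [hsplitZ, hbd ψ₀ hψ₀] at h1
    have h2 : ∑ χ ∈ YF, D.b χ ^ 2 = (YF.card : ℤ) * d ^ 2 := by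
      rw [Finset.sum_congr rfl (fun χ hχ => by rw [hYb χ hχ]), Finset.sum_const, nsmul_eq_mul]
      ring
    have h3 : ∑ χ ∈ XF, (-D.b χ) ^ 2 = ∑ χ ∈ XF, D.b χ ^ 2 :=
      Finset.sum_congr rfl (fun χ _ => by ring)
    rw [h2] at h1
    rw [h3]
    have h4 := D.δ_sq
    linear_combination h1 + h4
  refine ⟨XF, YF, fun χ => -D.b χ, d, D.δ, D.ζ, ?_, ?_, ?_, ?_, ?_, D.hδ, ?_, ?_, ?_, ?_, ?_,
    hnorm, ?_, ?_⟩
  · intro χ
    rw [hXmem]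
    constructor
    · intro h
      by_cases hY : χ ∈ YF
      · exact Or.inr hY
      · exact Or.inl ⟨h, hY⟩
    · rintro (h | h)
      · exact h.1
      · exact (Finset.mem_filter.1 (hYB h)).2
  · exact Finset.sdiff_disjoint
  · -- counting
    have h1 : S.card = Nat.card ↥(P : Subgroup G) - 1 := by
      rw [hS, Finset.filter_ne' Finset.univ (1 : ↥(P : Subgroup G) →* ℂˣ),
        Finset.card_erase_of_mem (Finset.mem_univ _), Finset.card_univ,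
        ← Nat.card_eq_fintype_card, card_hom hcomm']
    rw [← h1, Finset.card_eq_sum_card_image D.ζ S]
    have h2 : ∀ η ∈ S.image D.ζ, (S.filter (fun ψ => D.ζ ψ = η)).card = m := by
      intro η hη
      obtain ⟨ψ, hψ, rfl⟩ := (hYmem η).1 hη
      have h3 : S.filter (fun ψ' => D.ζ ψ' = D.ζ ψ) =
          Finset.univ.filter (fun ψ' => Rel (P : Subgroup G) ψ ψ') := by
        ext ψ'
        simp only [hS, Finset.mem_filter, Finset.mem_univ, true_and]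
        constructor
        · rintro ⟨h1', h2'⟩
          exact (D.rel ψ ψ' hψ h1').1 h2'.symm
        · intro hr
          have h1' := rel_ne_one (P : Subgroup G) hr hψ
          exact ⟨h1', ((D.rel ψ ψ' hψ h1').2 hr).symm⟩
      rw [h3, ← (exists_not_rel (P : Subgroup G) hcomm hfrob m hm2 hCN ψ hψ).1,
        Nat.card_eq_fintype_card, Fintype.card_subtype]
    rw [Finset.sum_congr rfl h2, Finset.sum_const, smul_eq_mul]
  · -- |X| ≤ m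
    have h1 : (XF.card : ℤ) ≤ ∑ χ ∈ XF, (-D.b χ) ^ 2 := by
      have : ∀ χ ∈ XF, (1 : ℤ) ≤ (-D.b χ) ^ 2 := by
        intro χ hχ
        have hne : -D.b χ ≠ 0 := neg_ne_zero.2 (hXb χ hχ)
        have h2 : 0 < (-D.b χ) ^ 2 := by positivity
        omega
      calc (XF.card : ℤ) = ∑ χ ∈ XF, (1 : ℤ) := by simp
        _ ≤ ∑ χ ∈ XF, (-D.b χ) ^ 2 := Finset.sum_le_sum this
    have h2 : (1 : ℤ) ≤ (d - D.δ) ^ 2 + ((YF.card : ℤ) - 1) * d ^ 2 := by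
      have hY2' : (2 : ℤ) ≤ (YF.card : ℤ) := by exact_mod_cast hY2
      by_cases hd0 : d = 0
      · rw [hd0]
        have := D.δ_sq
        nlinarith
      · have h3 : (1 : ℤ) ≤ d ^ 2 := by
          have h4 : 0 < d ^ 2 := by positivity
          omega
        nlinarith [sq_nonneg (d - D.δ)]
    have h3 : (XF.card : ℤ) ≤ (m : ℤ) := by linarith
    exact_mod_cast h3
  · rw [hXmem]
    refine ⟨by rw [principalBlock_eq]; exact mem_blockOf_self _, ?_⟩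
    intro hY
    obtain ⟨ψ, hψ, h⟩ := (hYmem _).1 hY
    exact D.triv_ne hM hcomm hfrob hm2 hCN ψ hψ h.symm
  · intro χ hχ
    refine ⟨neg_ne_zero.2 (hXb χ hχ), ?_⟩
    intro y hy hy1
    exact D.value_X hcomm χ ((hXmem χ).1 hχ).1 (hXY χ hχ) ⟨y, hy⟩
      (fun h => hy1 (congrArg Subtype.val h))
  · intro ψ hψ
    exact (hYmem _).2 ⟨ψ, hψ, rfl⟩
  · intro η hη
    exact (hYmem η).1 hη
  · intro ψ ψ' hψ hr
    exact ((D.rel ψ ψ' hψ (rel_ne_one (P : Subgroup G) hr hψ)).2 hr).symm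
  · intro ψ hψ y hy
    rw [D.value_Y hcomm ψ hψ y hy, hbd ψ hψ, neg_neg]
  · -- members of Y agree on p-regular elements
    intro η hη η' hη' g hg
    obtain ⟨ψ, hψ, rfl⟩ := (hYmem η).1 hη
    obtain ⟨ψ', hψ', rfl⟩ := (hYmem η').1 hη'
    have h1 := D.preg hM ψ hψ g hg
    have h2 := D.preg hM ψ' hψ' g hg
    have h3 : (D.δ : ℂ) * ((D.ζ ψ : G → ℂ) g - (D.ζ ψ' : G → ℂ) g) = 0 := by
      linear_combination h1 - h2
    have hδ0 : (D.δ : ℂ) ≠ 0 := by exact_mod_cast D.δ_ne_zero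
    rcases mul_eq_zero.1 h3 with h | h
    · exact absurd h hδ0
    · exact sub_eq_zero.1 h
  · intro η hη g hg
    obtain ⟨ψ, hψ, rfl⟩ := (hYmem η).1 hη
    have h1 := D.preg hM ψ hψ g hg
    rw [hsplit (fun χ => (D.b χ : ℂ) * (χ : G → ℂ) g)
      (fun χ hχ => by rw [D.out χ hχ]; simp)] at h1
    have h2 : ∑ χ ∈ YF, (D.b χ : ℂ) * (χ : G → ℂ) g =
        -((YF.card : ℂ) * (d : ℂ) * (D.ζ ψ : G → ℂ) g) := by
      have : ∀ χ ∈ YF, (D.b χ : ℂ) * (χ : G → ℂ) g = -((d : ℂ) * (D.ζ ψ : G → ℂ) g) := by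
        intro χ hχ
        obtain ⟨ψ', hψ', rfl⟩ := (hYmem χ).1 hχ
        have e1 := D.preg hM ψ hψ g hg
        have e2 := D.preg hM ψ' hψ' g hg
        have e3 : (D.δ : ℂ) * ((D.ζ ψ : G → ℂ) g - (D.ζ ψ' : G → ℂ) g) = 0 := by
          linear_combination e1 - e2
        have hδ0 : (D.δ : ℂ) ≠ 0 := by exact_mod_cast D.δ_ne_zero
        have e4 : (D.ζ ψ' : G → ℂ) g = (D.ζ ψ : G → ℂ) g := by
          rcases mul_eq_zero.1 e3 with h | h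
          · exact absurd h hδ0
          · exact (sub_eq_zero.1 h).symm
        rw [hbd ψ' hψ', e4]
        push_cast
        ring
      rw [Finset.sum_congr rfl this, Finset.sum_const, nsmul_eq_mul]
      ring
    rw [h2] at h1
    have h3 : ∑ χ ∈ XF, ((-D.b χ : ℤ) : ℂ) * (χ : G → ℂ) g =
        -∑ χ ∈ XF, (D.b χ : ℂ) * (χ : G → ℂ) g := by
      rw [← Finset.sum_neg_distrib]
      refine Finset.sum_congr rfl (fun χ _ => ?_)
      push_cast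
      ring
    rw [h3]
    linear_combination -h1

end Cfsg.Agent.Lib.H23.AbSyl
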