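import Cfsg.Agent.Lib.H23.AbSylD
import Cfsg.Agent.Lib.L0.TransferBasic
import Cfsg.Agent.Lib.H16.SylowBasic

/-!
# `|N_G(P) : C_G(P)| = 3`: inversion and products of two conjugate involutions (helper23)
-/

set_option autoImplicit false

namespace Cfsg.Agent.Lib.H23.AbSyl

open Cfsg Cfsg.Agent.Lib.L0

variable {G : Type*} [Group G]

/-- If `|N : C| = 3` then cubes of elements of `N` lie in `C`. -/
theorem pow_three_mem (P : Subgroup G)
    (hCN : (Subgroup.centralizer (P : Set G)).relIndex (Subgroup.normalizer (P : Set G)) = 3)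
    {n : G} (hn : n ∈ Subgroup.normalizer (P : Set G)) :
    n ^ 3 ∈ Subgroup.centralizer (P : Set G) := by
  have hker := Subgroup.normalizerMonoidHom_ker (H := P)
  have h1 : (P.normalizerMonoidHom.ker).index = 3 := by
    rw [hker]; exact hCN
  have h2 := Subgroup.pow_index_mem (P.normalizerMonoidHom.ker)
    (⟨n, hn⟩ : ↥(Subgroup.normalizer (P : Set G)))
  rw [h1, hker, Subgroup.mem_subgroupOf] at h2
  exact h2

section

variable [Finite G] {p : ℕ} [Fact p.Prime]

/-- The product over the orbit of `a ∈ P` under `n ∈ N ∖ C` is trivial. -/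
theorem prod_orbit_eq_one (P : Sylow p G)
    (hcomm : ∀ a ∈ P, ∀ b ∈ P, a * b = b * a)
    (hfrob : ∀ y : G, y ∈ (P : Subgroup G) → y ≠ 1 →
      Subgroup.centralizer ({y} : Set G) ⊓ Subgroup.normalizer ((P : Subgroup G) : Set G) =
        Subgroup.centralizer ((P : Subgroup G) : Set G))
    (hCN : (Subgroup.centralizer ((P : Subgroup G) : Set G)).relIndex
      (Subgroup.normalizer ((P : Subgroup G) : Set G)) = 3)
    {a n : G} (ha : a ∈ (P : Subgroup G))
    (hn : n ∈ Subgroup.normalizer ((P : Subgroup G) : Set G))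
    (hnC : n ∉ Subgroup.centralizer ((P : Subgroup G) : Set G)) :
    a * (n * a * n⁻¹) * (n ^ 2 * a * (n ^ 2)⁻¹) = 1 := by
  have hn2 : n ^ 2 ∈ Subgroup.normalizer ((P : Subgroup G) : Set G) := Subgroup.pow_mem _ hn 2
  have ha1 : n * a * n⁻¹ ∈ (P : Subgroup G) := (Subgroup.mem_normalizer_iff.1 hn a).1 ha
  have ha2 : n ^ 2 * a * (n ^ 2)⁻¹ ∈ (P : Subgroup G) :=
    (Subgroup.mem_normalizer_iff.1 hn2 a).1 ha
  have h3 := pow_three_mem (P : Subgroup G) hCN hn
  have h3a : n ^ 3 * a * (n ^ 3)⁻¹ = a := by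
    have := Subgroup.mem_centralizer_iff.1 h3 a ha
    rw [← this, mul_inv_cancel_right]
  by_contra hne
  apply hnC
  set v := a * (n * a * n⁻¹) * (n ^ 2 * a * (n ^ 2)⁻¹) with hv
  have hvP : v ∈ (P : Subgroup G) := Subgroup.mul_mem _ (Subgroup.mul_mem _ ha ha1) ha2
  rw [← hfrob v hvP hne]
  refine Subgroup.mem_inf.2 ⟨?_, hn⟩
  rw [Subgroup.mem_centralizer_singleton_iff]
  have h4 : n * v * n⁻¹ = (n * a * n⁻¹) * (n ^ 2 * a * (n ^ 2)⁻¹) * (n ^ 3 * a * (n ^ 3)⁻¹) := by
    rw [hv, pow_succ n 2, pow_two]; group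
  rw [h3a] at h4
  have h5 : (n * a * n⁻¹) * (n ^ 2 * a * (n ^ 2)⁻¹) * a = v := by
    rw [hv, hcomm _ (Subgroup.mul_mem _ ha1 ha2) a ha, ← mul_assoc]
  rw [h5] at h4
  calc n * v = n * v * n⁻¹ * n := by group
    _ = v * n := by rw [h4]

/-- No element of `G` inverts an element of `P` of order greater than `2`. -/
theorem sq_eq_one_of_inverted (P : Sylow p G)
    (hcomm : ∀ a ∈ P, ∀ b ∈ P, a * b = b * a)
    (hfrob : ∀ y : G, y ∈ (P : Subgroup G) → y ≠ 1 →
      Subgroup.centralizer ({y} : Set G) ⊓ Subgroup.normalizer ((P : Subgroup G) : Set G) =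
        Subgroup.centralizer ((P : Subgroup G) : Set G))
    (hCN : (Subgroup.centralizer ((P : Subgroup G) : Set G)).relIndex
      (Subgroup.normalizer ((P : Subgroup G) : Set G)) = 3)
    {y g : G} (hy : y ∈ (P : Subgroup G)) (hy1 : y ≠ 1) (hg : g * y * g⁻¹ = y⁻¹) :
    y * y = 1 := by
  obtain ⟨n, hn, hny⟩ := burnside_fusion_elt P hcomm y y⁻¹ hy (Subgroup.inv_mem _ hy) g hg
  have hn2 : n ^ 2 ∈ Subgroup.centralizer ((P : Subgroup G) : Set G) := by
    rw [← hfrob y hy hy1]
    refine Subgroup.mem_inf.2 ⟨?_, Subgroup.pow_mem _ hn 2⟩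
    rw [Subgroup.mem_centralizer_singleton_iff]
    have h1 : n ^ 2 * y * (n ^ 2)⁻¹ = y := by
      have : n ^ 2 * y * (n ^ 2)⁻¹ = n * (n * y * n⁻¹) * n⁻¹ := by rw [pow_two]; group
      rw [this, hny]
      have : n * y⁻¹ * n⁻¹ = (n * y * n⁻¹)⁻¹ := by group
      rw [this, hny, inv_inv]
    calc n ^ 2 * y = n ^ 2 * y * (n ^ 2)⁻¹ * n ^ 2 := by group
      _ = y * n ^ 2 := by rw [h1]
  have hn3 := pow_three_mem (P : Subgroup G) hCN hn
  have hnC : n ∈ Subgroup.centralizer ((P : Subgroup G) : Set G) := by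
    have : n = n ^ 3 * (n ^ 2)⁻¹ := by group
    rw [this]
    exact Subgroup.mul_mem _ hn3 (Subgroup.inv_mem _ hn2)
  have h2 : n * y * n⁻¹ = y := by
    have := Subgroup.mem_centralizer_iff.1 hnC y hy
    rw [← this, mul_inv_cancel_right]
  rw [h2] at hny
  calc y * y = y * y⁻¹ := by rw [← hny]
    _ = 1 := mul_inv_cancel y

/-- **Claim A**: for `y ∈ P#` not conjugate to the involution `t`, no product of two conjugates
of `t` has a `p`-part conjugate to (a generator of `⟨y⟩`). -/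
theorem not_isConj_pow (P : Sylow p G)
    (hcomm : ∀ a ∈ P, ∀ b ∈ P, a * b = b * a)
    (hfrob : ∀ y : G, y ∈ (P : Subgroup G) → y ≠ 1 →
      Subgroup.centralizer ({y} : Set G) ⊓ Subgroup.normalizer ((P : Subgroup G) : Set G) =
        Subgroup.centralizer ((P : Subgroup G) : Set G))
    (hCN : (Subgroup.centralizer ((P : Subgroup G) : Set G)).relIndex
      (Subgroup.normalizer ((P : Subgroup G) : Set G)) = 3)
    (t : G) (ht : t * t = 1) (y : G) (hy : y ∈ (P : Subgroup G)) (hy1 : y ≠ 1)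
    (hyt : ¬ IsConj y t) (c : ℕ) (hc : ¬ p ∣ c) (x : G) :
    ¬ IsConj (y ^ c) (((x⁻¹ * t * x * t)⁻¹) ^ c) := by
  classical
  have hp : p.Prime := Fact.out
  have htinv : t⁻¹ = t := inv_eq_of_mul_eq_one_right ht
  set t' := x⁻¹ * t * x with ht'def
  have ht' : t' * t' = 1 := by
    rw [ht'def]
    calc x⁻¹ * t * x * (x⁻¹ * t * x) = x⁻¹ * (t * t) * x := by group
      _ = 1 := by rw [ht]; group
  have ht'inv : t'⁻¹ = t' := inv_eq_of_mul_eq_one_right ht'
  set h := (x⁻¹ * t * x * t)⁻¹ with hh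
  have hh' : h = t * t' := by
    rw [hh, mul_inv_rev, htinv, ← ht'def, ht'inv]
  have hinv : t * h * t⁻¹ = h⁻¹ := by
    rw [hh', mul_inv_rev, htinv, ht'inv]
    calc t * (t * t') * t = (t * t) * t' * t := by group
      _ = t' * t := by rw [ht, one_mul]
  intro hconj
  obtain ⟨g, hg⟩ := isConj_iff.1 hconj
  have hinvc : t * h ^ c * t⁻¹ = (h ^ c)⁻¹ := by
    rw [← conj_pow, hinv, inv_pow]
  -- y is inverted by a conjugate of t
  obtain ⟨k, hk⟩ := (IsPGroup.iff_orderOf.mp P.2) ⟨y, hy⟩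
  have hk' : orderOf y = p ^ k := by rw [← hk, Subgroup.orderOf_mk]
  have hcop : c.Coprime (orderOf y) := by
    rw [hk']
    exact Nat.Coprime.pow_right _ ((Nat.Prime.coprime_iff_not_dvd hp).mpr hc).symm
  obtain ⟨c', hc'⟩ := exists_pow_eq_self_of_coprime hcop
  set s := g⁻¹ * t * g with hs
  have hsy : s * y ^ c * s⁻¹ = (y ^ c)⁻¹ := by
    have h1 : y ^ c = g⁻¹ * h ^ c * g := by rw [← hg]; group
    rw [hs, h1]
    calc g⁻¹ * t * g * (g⁻¹ * h ^ c * g) * (g⁻¹ * t * g)⁻¹ = g⁻¹ * (t * h ^ c * t⁻¹) * g := by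
          group
      _ = (g⁻¹ * h ^ c * g)⁻¹ := by rw [hinvc]; group
  have hsy' : s * y * s⁻¹ = y⁻¹ := by
    conv_lhs => rw [← hc']
    rw [← conj_pow, hsy, inv_pow, hc']
  by_cases hy2 : y * y = 1
  · -- involution case
    have hy2' : y ^ 2 = 1 := by rw [pow_two]; exact hy2
    have hord : orderOf y = 2 := orderOf_eq_prime hy2' hy1
    have hp2 : p = 2 := by
      rw [hk'] at hord
      have hk0 : k ≠ 0 := by
        intro h0; rw [h0, pow_zero] at hord; omega
      have : p ∣ 2 := by rw [← hord]; exact dvd_pow_self p hk0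
      exact (Nat.prime_dvd_prime_iff_eq hp Nat.prime_two).1 this
    have hcodd : ¬ 2 ∣ c := by rw [← hp2]; exact hc
    obtain ⟨u, hu⟩ : ∃ u, c = 2 * u + 1 := by
      have := Nat.odd_iff.2 (Nat.two_dvd_ne_zero.1 hcodd)
      exact this
    have hyc : y ^ c = y := by
      rw [hu, pow_succ, pow_mul, hy2', one_pow, one_mul]
    set v := h ^ c with hv
    rw [hyc] at hg
    have hv2 : v * v = 1 := by
      rw [← hg]
      calc g * y * g⁻¹ * (g * y * g⁻¹) = g * (y * y) * g⁻¹ := by group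
        _ = 1 := by rw [hy2]; group
    have hvinv : v⁻¹ = v := inv_eq_of_mul_eq_one_right hv2
    have hv1 : v ≠ 1 := by
      intro h1
      apply hy1
      have : y = g⁻¹ * v * g := by rw [← hg]; group
      rw [this, h1]; group
    -- t commutes with v
    have htv : t * v = v * t := by
      have h1 : t * v * t⁻¹ = v := by rw [hinvc, hvinv]
      calc t * v = t * v * t⁻¹ * t := by group
        _ = v * t := by rw [h1]
    -- t v is conjugate to t'
    have hhu : (h ^ u)⁻¹ * t = t * h ^ u := by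
      have h1 : t * h ^ u * t⁻¹ = (h ^ u)⁻¹ := by rw [← conj_pow, hinv, inv_pow]
      rw [← h1]; group
    have htv' : (h ^ u)⁻¹ * t' * h ^ u = t * v := by
      have h1 : t' = t * h := by rw [hh', ← mul_assoc, ht, one_mul]
      have h2 : h ^ u * h * h ^ u = v := by
        rw [hv, hu, ← pow_succ, ← pow_add]
        congr 1
        ring
      calc (h ^ u)⁻¹ * t' * h ^ u = ((h ^ u)⁻¹ * t) * h * h ^ u := by rw [h1]; group
        _ = t * (h ^ u * h * h ^ u) := by rw [hhu]; group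
        _ = t * v := by rw [h2]
    have hconj1 : IsConj t (t * v) := by
      have h1 : IsConj t t' := isConj_iff.2 ⟨x⁻¹, by rw [ht'def, inv_inv]⟩
      have h2 : IsConj t' (t * v) := isConj_iff.2 ⟨(h ^ u)⁻¹, by rw [inv_inv]; exact htv'⟩
      exact h1.trans h2
    -- the 2-group ⟨t, v⟩
    have hpt : IsPGroup p (Subgroup.zpowers t) := by
      rw [hp2]
      apply IsPGroup.of_card (n := if t = 1 then 0 else 1)
      rw [Nat.card_zpowers]
      split_ifs with h1
      · rw [h1, orderOf_one, pow_zero]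
      · rw [pow_one]; exact orderOf_eq_prime (by rw [pow_two]; exact ht) h1
    have hpv : IsPGroup p (Subgroup.zpowers v) := by
      rw [hp2]
      apply IsPGroup.of_card (n := 1)
      rw [Nat.card_zpowers, pow_one]
      exact orderOf_eq_prime (by rw [pow_two]; exact hv2) hv1
    have hnorm : Subgroup.zpowers t ≤ Subgroup.normalizer ((Subgroup.zpowers v : Subgroup G) : Set G) := by
      refine le_trans ?_ (Subgroup.centralizer_le_normalizer (s := ((Subgroup.zpowers v : Subgroup G) : Set G)))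
      rw [Subgroup.zpowers_le]
      rw [Subgroup.mem_centralizer_iff]
      intro w hw
      obtain ⟨i, rfl⟩ := Subgroup.mem_zpowers_iff.1 hw
      exact ((Commute.zpow_right (show Commute t v from htv) i).eq).symm
    have hA := IsPGroup.to_sup_of_normal_right' hpt hpv hnorm
    obtain ⟨g₂, hg₂⟩ := Cfsg.Agent.Lib.H16.exists_conj_mem_sylow _ hA P
    have htA : t ∈ Subgroup.zpowers t ⊔ Subgroup.zpowers v :=
      Subgroup.mem_sup_left (Subgroup.mem_zpowers t)
    have hvA : v ∈ Subgroup.zpowers t ⊔ Subgroup.zpowers v :=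
      Subgroup.mem_sup_right (Subgroup.mem_zpowers v)
    set a := g₂ * t * g₂⁻¹ with ha
    set b := g₂ * v * g₂⁻¹ with hb
    have haP : a ∈ (P : Subgroup G) := hg₂ t htA
    have hbP : b ∈ (P : Subgroup G) := hg₂ v hvA
    have hab : a * b = g₂ * (t * v) * g₂⁻¹ := by rw [ha, hb]; group
    have habP : a * b ∈ (P : Subgroup G) := Subgroup.mul_mem _ haP hbP
    have haa : a * a = 1 := by
      rw [ha]
      calc g₂ * t * g₂⁻¹ * (g₂ * t * g₂⁻¹) = g₂ * (t * t) * g₂⁻¹ := by group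
        _ = 1 := by rw [ht]; group
    have hb1 : b ≠ 1 := by
      intro h1
      apply hv1
      have : v = g₂⁻¹ * b * g₂ := by rw [hb]; group
      rw [this, h1]; group
    have hconj2 : IsConj a (a * b) := by
      have h1 : IsConj a t := isConj_iff.2 ⟨g₂⁻¹, by rw [ha]; group⟩
      have h2 : IsConj (t * v) (a * b) := isConj_iff.2 ⟨g₂, hab.symm⟩
      exact (h1.trans hconj1).trans h2
    obtain ⟨g₃, hg₃⟩ := isConj_iff.1 hconj2
    obtain ⟨n, hn, hna⟩ := burnside_fusion_elt P hcomm a (a * b) haP habP g₃ hg₃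
    have hnC : n ∉ Subgroup.centralizer ((P : Subgroup G) : Set G) := by
      intro hC
      apply hb1
      have h1 : n * a * n⁻¹ = a := by
        have := Subgroup.mem_centralizer_iff.1 hC a haP
        rw [← this, mul_inv_cancel_right]
      rw [h1] at hna
      exact (mul_eq_left.1 hna.symm)
    have hprod := prod_orbit_eq_one P hcomm hfrob hCN haP hn hnC
    have hprod' : b * (n ^ 2 * a * (n ^ 2)⁻¹) = 1 := by
      rw [hna] at hprod
      have : a * (a * b) = b := by rw [← mul_assoc, haa, one_mul]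
      rw [this] at hprod
      exact hprod
    have hb' : n ^ 2 * a * (n ^ 2)⁻¹ = b⁻¹ := eq_inv_of_mul_eq_one_right hprod'
    -- y is conjugate to t
    apply hyt
    have h1 : IsConj y v := isConj_iff.2 ⟨g, hg⟩
    have h2 : IsConj v b := isConj_iff.2 ⟨g₂, rfl⟩
    have hbinv : b⁻¹ = b := by
      rw [hb]
      have : (g₂ * v * g₂⁻¹)⁻¹ = g₂ * v⁻¹ * g₂⁻¹ := by group
      rw [this, hvinv]
    have h3 : IsConj b a := by
      rw [← hbinv, ← hb']
      exact isConj_iff.2 ⟨(n ^ 2)⁻¹, by group⟩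
    have h4 : IsConj a t := isConj_iff.2 ⟨g₂⁻¹, by rw [ha]; group⟩
    exact ((h1.trans h2).trans h3).trans h4
  · exact hy2 (sq_eq_one_of_inverted P hcomm hfrob hCN hy hy1 hsy')

end

end Cfsg.Agent.Lib.H23.AbSyl
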