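import Cfsg.Agent.Lib.H23.AbSylJ
import Cfsg.Agent.Lib.H23.BlockTraceGroup
import Cfsg.Agent.Lib.H23.BlockOsima
import Cfsg.Agent.Lib.L0.PrincipalBrauerPair

/-!
# The second moment relation for an involution (helper23)
-/

set_option autoImplicit false

namespace Cfsg.Agent.Lib.H23.AbSyl

open Cfsg Cfsg.Agent.Lib.H23 Cfsg.Agent.Lib.H24 Cfsg.Agent.Lib.L0
  Cfsg.Agent.Lib.L0.PrincipalCrit Cfsg.Agent.Lib.L0.PrincipalBrauerPair
open scoped ComplexConjugate

variable {G : Type*} [Group G] [Finite G] {p : ℕ} [Fact p.Prime] {M : Ideal AlgInt}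

/-- **Claim B**: `∑_{χ ∈ B₀} χ(y) χ(t)² / χ(1) = 0` for `y ∈ P#` not conjugate to the
involution `t`. -/
theorem moment_two (hM : IsPModular p M) (P : Sylow p G)
    (hcomm : ∀ a ∈ P, ∀ b ∈ P, a * b = b * a)
    (hfrob : ∀ y : G, y ∈ (P : Subgroup G) → y ≠ 1 →
      Subgroup.centralizer ({y} : Set G) ⊓ Subgroup.normalizer ((P : Subgroup G) : Set G) =
        Subgroup.centralizer ((P : Subgroup G) : Set G))
    (hCN : (Subgroup.centralizer ((P : Subgroup G) : Set G)).relIndex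
      (Subgroup.normalizer ((P : Subgroup G) : Set G)) = 3)
    (t : G) (ht : t * t = 1) (y : G) (hy : y ∈ (P : Subgroup G)) (hy1 : y ≠ 1)
    (hyt : ¬ IsConj y t) :
    ∑ᶠ χ ∈ principalBlock M G,
      (χ : G → ℂ) y * ((χ : G → ℂ) t ^ 2 / (χ : G → ℂ) 1) = 0 := by
  classical
  haveI := Fintype.ofFinite G
  haveI := Fintype.ofFinite (IrrCharacter G)
  have hp : p.Prime := Fact.out
  have hGc : (Nat.card G : ℂ) ≠ 0 := by exact_mod_cast (Nat.card_pos (α := G)).ne'
  set e := (Nat.card G).factorization p with he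
  set c := Nat.card G / p ^ e with hc
  have hce : c * p ^ e = Nat.card G := by
    rw [mul_comm]; exact Nat.ordProj_mul_ordCompl_eq_self (Nat.card G) p
  have hcp : ¬ p ∣ c := Nat.not_dvd_ordCompl hp Nat.card_pos.ne'
  have hpow : ∀ g : G, g ^ (c * p ^ e) = 1 := by
    intro g; rw [hce]; exact pow_card_eq_one'
  rw [finsum_mem_eq_sum_ite]
  have h1 : ∀ χ : IrrCharacter G, (χ : G → ℂ) t ^ 2 / (χ : G → ℂ) 1 =
      (Nat.card G : ℂ)⁻¹ * ∑ x : G, (χ : G → ℂ) (x⁻¹ * t * x * t) := by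
    intro χ
    rw [sum_irr_twist χ t t]
    field_simp
  have h2 : ∀ χ : IrrCharacter G, (if χ ∈ principalBlock M G then
      (χ : G → ℂ) y * ((χ : G → ℂ) t ^ 2 / (χ : G → ℂ) 1) else 0) =
      (Nat.card G : ℂ)⁻¹ * ∑ x : G, (if χ ∈ principalBlock M G then
        (χ : G → ℂ) y * (χ : G → ℂ) (x⁻¹ * t * x * t) else 0) := by
    intro χ
    split_ifs with h
    · rw [h1 χ, Finset.mul_sum, Finset.mul_sum, Finset.mul_sum]
      refine Finset.sum_congr rfl (fun x _ => ?_)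
      ring
    · simp
  rw [Finset.sum_congr rfl (fun χ _ => h2 χ), ← Finset.mul_sum, Finset.sum_comm]
  rw [Finset.sum_eq_zero, mul_zero]
  intro x _
  have h3 := block_orthogonality_aux hM (trivIrr G) y ((x⁻¹ * t * x * t)⁻¹) c e (hpow _) (hpow _)
    (not_isConj_pow P hcomm hfrob hCN t ht y hy hy1 hyt c hcp x)
  rw [inv_inv, ← principalBlock_eq] at h3
  exact h3

end Cfsg.Agent.Lib.H23.AbSyl
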