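import Cfsg.Agent.Lib.H23.AbSylI

/-!
# The case `|N_G(P) : C_G(P)| = 3` (helper23)
-/

set_option autoImplicit false

namespace Cfsg.Agent.Lib.H23.AbSyl

open Cfsg Cfsg.Agent.Lib.H23 Cfsg.Agent.Lib.H24 Cfsg.Agent.Lib.L0
  Cfsg.Agent.Lib.L0.PrincipalCrit Cfsg.Agent.Lib.L0.PrincipalBrauerPair
open scoped ComplexConjugate

variable {G : Type*} [Group G] [Finite G] {p : ℕ} [Fact p.Prime] {M : Ideal AlgInt}

/-- An integer whose square is `2` does not exist. -/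
theorem int_sq_ne_two (a : ℤ) : a ^ 2 ≠ 2 := by
  intro h
  have h1 : -1 ≤ a := by nlinarith
  have h2 : a ≤ 1 := by nlinarith
  interval_cases a <;> omega

open scoped Classical in
/-- Normal form for index `3`: `d = 0`. -/
theorem main3_aux (hM : IsPModular p M) (P : Sylow p G)
    (hcomm : ∀ a ∈ P, ∀ b ∈ P, a * b = b * a)
    (hfrob : ∀ y : G, y ∈ (P : Subgroup G) → y ≠ 1 →
      Subgroup.centralizer ({y} : Set G) ⊓ Subgroup.normalizer ((P : Subgroup G) : Set G) =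
        Subgroup.centralizer ((P : Subgroup G) : Set G))
    (hm2 : 3 + 1 < Nat.card ↥(P : Subgroup G))
    (hCN : (Subgroup.centralizer ((P : Subgroup G) : Set G)).relIndex
      (Subgroup.normalizer ((P : Subgroup G) : Set G)) = 3) :
    ∃ (XF YF : Finset (IrrCharacter G)) (a : IrrCharacter G → ℤ) (δ : ℤ)
      (ζ : (↥(P : Subgroup G) →* ℂˣ) → IrrCharacter G),
      (∀ χ : IrrCharacter G, χ ∈ principalBlock M G ↔ χ ∈ XF ∨ χ ∈ YF) ∧
      Disjoint XF YF ∧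
      YF.card * 3 = Nat.card ↥(P : Subgroup G) - 1 ∧
      trivIrr G ∈ XF ∧
      (δ = 1 ∨ δ = -1) ∧
      (∀ χ ∈ XF, a χ ≠ 0 ∧ ∀ y ∈ (P : Subgroup G), y ≠ 1 → (χ : G → ℂ) y = (a χ : ℂ)) ∧
      (∀ ψ : ↥(P : Subgroup G) →* ℂˣ, ψ ≠ 1 → ζ ψ ∈ YF) ∧
      (∀ η ∈ YF, ∃ ψ : ↥(P : Subgroup G) →* ℂˣ, ψ ≠ 1 ∧ ζ ψ = η) ∧
      (∀ ψ ψ' : ↥(P : Subgroup G) →* ℂˣ, ψ ≠ 1 → Rel (P : Subgroup G) ψ ψ' → ζ ψ' = ζ ψ) ∧
      (∀ ψ : ↥(P : Subgroup G) →* ℂˣ, ψ ≠ 1 → ∀ y : ↥(P : Subgroup G), y ≠ 1 →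
        (ζ ψ : G → ℂ) (y : G) = (δ : ℂ) *
          ∑ᶠ ψ' ∈ {ψ' : ↥(P : Subgroup G) →* ℂˣ | Rel (P : Subgroup G) ψ ψ'},
            ((ψ' y : ℂˣ) : ℂ)) ∧
      (∑ χ ∈ XF, a χ ^ 2 = 3) ∧
      (∀ η ∈ YF, ∀ η' ∈ YF, ∀ g : G, ¬ p ∣ orderOf g → (η : G → ℂ) g = (η' : G → ℂ) g) ∧
      (∀ η ∈ YF, ∀ g : G, ¬ p ∣ orderOf g →
        -(δ : ℂ) * (η : G → ℂ) g + ∑ χ ∈ XF, (a χ : ℂ) * (χ : G → ℂ) g = 0) ∧
      (∀ y ∈ (P : Subgroup G), y ≠ 1 → ∑ η ∈ YF, (η : G → ℂ) y = -(δ : ℂ)) := by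
  haveI := Fintype.ofFinite G
  haveI := Fintype.ofFinite (IrrCharacter G)
  have hp : p.Prime := Fact.out
  obtain ⟨XF, YF, a, d, δ, ζ, hB, hdisj, hYcard, hXcard, htriv, hδ, hX, hζY, hYζ, hrel, hval,
    hnorm, hagree, hlast⟩ := main hM P hcomm hfrob 3 hm2 hCN
  have hone : ¬ p ∣ orderOf (1 : G) := by
    rw [orderOf_one]
    exact hp.one_lt.ne' ∘ Nat.dvd_one.mp
  have hδ2 : δ ^ 2 = 1 := by rcases hδ with h | h <;> rw [h] <;> norm_num
  have hδ0 : δ ≠ 0 := by rcases hδ with h | h <;> rw [h] <;> norm_num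
  -- a nontrivial element of P
  have hP1 : ∃ y ∈ (P : Subgroup G), y ≠ 1 := by
    haveI : Nontrivial ↥(P : Subgroup G) :=
      Finite.one_lt_card_iff_nontrivial.1 (by omega)
    obtain ⟨y, hy⟩ := exists_ne (1 : ↥(P : Subgroup G))
    exact ⟨(y : G), y.2, fun h => hy (Subtype.ext h)⟩
  have hr2 : 2 ≤ YF.card := by omega
  obtain ⟨η₀, hη₀⟩ : ∃ η₀, η₀ ∈ YF := Finset.card_pos.1 (by omega)
  -- the sum of the members of Y at an element of P#
  have hS : ∀ y ∈ (P : Subgroup G), y ≠ 1 →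
      ∑ η ∈ YF, (η : G → ℂ) y = (YF.card : ℂ) * (d : ℂ) - (δ : ℂ) := by
    intro y hy hy1
    have hyinv : y⁻¹ ∈ (P : Subgroup G) := Subgroup.inv_mem _ hy
    have hdvd : p ∣ orderOf (y⁻¹) := by
      rw [orderOf_inv]
      obtain ⟨k, hk⟩ := (IsPGroup.iff_orderOf.1 P.2) ⟨y, hy⟩
      rw [Subgroup.orderOf_mk] at hk
      rw [hk]
      rcases k with _ | k
      · exfalso
        rw [pow_zero, orderOf_eq_one_iff] at hk
        exact hy1 hk
      · exact dvd_pow_self p (Nat.succ_ne_zero k)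
    have h1 := weak_block_orthogonality hM (trivIrr G) 1 y⁻¹ hone hdvd
    rw [← principalBlock_eq] at h1
    have h2 : ∑ χ : IrrCharacter G, (if χ ∈ principalBlock M G then
        (χ : G → ℂ) 1 * conj ((χ : G → ℂ) y⁻¹) else 0) =
        ∑ χ ∈ XF, (χ : G → ℂ) 1 * (χ : G → ℂ) y + ∑ χ ∈ YF, (χ : G → ℂ) 1 * (χ : G → ℂ) y := by
      rw [← Finset.sum_union hdisj, ← Finset.sum_filter]
      refine Finset.sum_congr ?_ (fun χ _ => ?_)
      · ext χ
        simp only [Finset.mem_filter, Finset.mem_univ, true_and, Finset.mem_union]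
        exact hB χ
      · rw [irr_inv, Complex.conj_conj]
    rw [h2] at h1
    have h3 := hlast η₀ hη₀ 1 hone
    have h4 : ∑ χ ∈ XF, (χ : G → ℂ) 1 * (χ : G → ℂ) y =
        ∑ χ ∈ XF, (a χ : ℂ) * (χ : G → ℂ) 1 := by
      refine Finset.sum_congr rfl (fun χ hχ => ?_)
      rw [(hX χ hχ).2 y hy hy1]
      ring
    have h5 : ∑ χ ∈ YF, (χ : G → ℂ) 1 * (χ : G → ℂ) y =
        (η₀ : G → ℂ) 1 * ∑ χ ∈ YF, (χ : G → ℂ) y := by
      rw [Finset.mul_sum]
      refine Finset.sum_congr rfl (fun χ hχ => ?_)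
      rw [hagree χ hχ η₀ hη₀ 1 hone]
    rw [h4, h5] at h1
    have hf0 : (η₀ : G → ℂ) 1 ≠ 0 := irr_one_ne_zero η₀
    have h6 : (η₀ : G → ℂ) 1 * (∑ χ ∈ YF, (χ : G → ℂ) y -
        ((YF.card : ℂ) * (d : ℂ) - (δ : ℂ))) = 0 := by
      linear_combination h1 - h3
    rcases mul_eq_zero.1 h6 with h | h
    · exact absurd h hf0
    · exact sub_eq_zero.1 h
  -- a(triv) = 1
  have hatriv : a (trivIrr G) = 1 := by
    obtain ⟨y, hy, hy1⟩ := hP1
    have := (hX _ htriv).2 y hy hy1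
    rw [trivIrr_apply] at this
    exact_mod_cast this.symm
  have hage : ∀ χ ∈ XF, 1 ≤ a χ ^ 2 := by
    intro χ hχ
    have h1 := (hX χ hχ).1
    have h2 : 0 < a χ ^ 2 := by positivity
    omega
  have hsumge : 1 ≤ ∑ χ ∈ XF, a χ ^ 2 := by
    calc (1 : ℤ) = a (trivIrr G) ^ 2 := by rw [hatriv]; norm_num
      _ ≤ ∑ χ ∈ XF, a χ ^ 2 :=
        Finset.single_le_sum (f := fun χ => a χ ^ 2) (fun χ _ => sq_nonneg (a χ)) htriv
  have hrZ : (2 : ℤ) ≤ (YF.card : ℤ) := by exact_mod_cast hr2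
  push_cast at hnorm
  -- d = 0 or d = δ
  have hd : d = 0 ∨ d = δ := by
    by_contra hcon
    push Not at hcon
    obtain ⟨hd0, hdδ⟩ := hcon
    have h1 : 1 ≤ d ^ 2 := by
      have : 0 < d ^ 2 := by positivity
      omega
    have h2 : 1 ≤ (d - δ) ^ 2 := by
      have h3 : d - δ ≠ 0 := sub_ne_zero.2 hdδ
      have : 0 < (d - δ) ^ 2 := by positivity
      omega
    have h4 : ((YF.card : ℤ) - 1) * d ^ 2 ≥ d ^ 2 := by nlinarith
    have h9 : (d - δ) ^ 2 + d ^ 2 ≤ 3 := by linarith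
    rcases hδ with h | h
    · rw [h] at h9 hdδ
      have h8 : d ≤ -1 ∨ 2 ≤ d := by omega
      rcases h8 with h8 | h8 <;> nlinarith
    · rw [h] at h9 hdδ
      have h8 : d ≤ -2 ∨ 1 ≤ d := by omega
      rcases h8 with h8 | h8 <;> nlinarith
  rcases hd with hd | hd
  · -- d = 0
    refine ⟨XF, YF, a, δ, ζ, hB, hdisj, hYcard, htriv, hδ, hX, hζY, hYζ, hrel, ?_, ?_, hagree, ?_, ?_⟩
    · intro ψ hψ y hy
      rw [hval ψ hψ y hy, hd]
      push_cast
      ring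
    · rw [hd] at hnorm
      have : (0 - δ) ^ 2 = 1 := by rw [zero_sub, neg_sq]; exact hδ2
      rw [this] at hnorm
      linarith
    · intro η hη g hg
      have := hlast η hη g hg
      rw [hd] at this
      push_cast at this
      linear_combination this
    · intro y hy hy1
      rw [hS y hy hy1, hd]
      push_cast
      ring
  · -- d = δ: then r = 2 (after excluding r = 3, 4)
    rw [hd, sub_self] at hnorm
    have hnorm' : ((YF.card : ℤ) - 1) + ∑ χ ∈ XF, a χ ^ 2 = 4 := by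
      rw [hδ2] at hnorm
      linarith
    have hr4 : (YF.card : ℤ) ≤ 4 := by linarith
    have hr4' : YF.card ≤ 4 := by exact_mod_cast hr4
    have hcases : YF.card = 2 ∨ YF.card = 3 ∨ YF.card = 4 := by omega
    rcases hcases with hr | hr | hr
    · -- r = 2 : relabel
      obtain ⟨η₁, η₂, hne, hYeq⟩ := Finset.card_eq_two.1 hr
      have hη₁ : η₁ ∈ YF := by rw [hYeq]; simp
      have hη₂ : η₂ ∈ YF := by rw [hYeq]; simp
      have hYmem : ∀ η ∈ YF, η = η₁ ∨ η = η₂ := by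
        intro η hη
        rw [hYeq] at hη
        simpa using hη
      set ζ' : (↥(P : Subgroup G) →* ℂˣ) → IrrCharacter G :=
        fun ψ => if ζ ψ = η₁ then η₂ else η₁ with hζ'
      have hsum2 : ∀ y ∈ (P : Subgroup G), y ≠ 1 →
          (η₁ : G → ℂ) y + (η₂ : G → ℂ) y = (δ : ℂ) := by
        intro y hy hy1
        have := hS y hy hy1
        rw [hYeq, Finset.sum_pair hne, hd, ← hYeq, hr] at this
        rw [this]
        push_cast
        ring
      refine ⟨XF, YF, a, -δ, ζ', hB, hdisj, hYcard, htriv, ?_, hX, ?_, ?_, ?_, ?_, ?_, hagree, ?_, ?_⟩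
      · rcases hδ with h | h
        · right; rw [h]
        · left; rw [h]; norm_num
      · intro ψ hψ
        simp only [hζ']
        split_ifs
        · exact hη₂
        · exact hη₁
      · intro η hη
        rcases hYmem η hη with h | h
        · obtain ⟨ψ, hψ, hζψ⟩ := hYζ η₂ hη₂
          refine ⟨ψ, hψ, ?_⟩
          simp only [hζ']
          rw [hζψ, if_neg (Ne.symm hne), h]
        · obtain ⟨ψ, hψ, hζψ⟩ := hYζ η₁ hη₁
          refine ⟨ψ, hψ, ?_⟩
          simp only [hζ']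
          rw [hζψ, if_pos rfl, h]
      · intro ψ ψ' hψ hr'
        simp only [hζ']
        rw [hrel ψ ψ' hψ hr']
      · intro ψ hψ y hy
        have hy1 : (y : G) ≠ 1 := fun h => hy (Subtype.ext h)
        have h1 := hval ψ hψ y hy
        have h2 := hsum2 (y : G) y.2 hy1
        rw [hd] at h1
        simp only [hζ']
        rcases hYmem (ζ ψ) (hζY ψ hψ) with h | h
        · rw [if_pos h]
          rw [h] at h1
          push_cast
          linear_combination h2 - h1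
        · have hne' : ζ ψ ≠ η₁ := by rw [h]; exact Ne.symm hne
          rw [if_neg hne']
          rw [h] at h1
          push_cast
          linear_combination h2 - h1
      · have : ((YF.card : ℤ) - 1) = 1 := by rw [hr]; norm_num
        rw [this] at hnorm'
        linarith
      · intro η hη g hg
        have := hlast η hη g hg
        rw [hd, hr] at this
        push_cast at this ⊢
        linear_combination this
      · intro y hy hy1
        rw [hS y hy hy1, hd, hr]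
        push_cast
        ring
    · -- r = 3 : |P| = 10 is not a prime power
      exfalso
      rw [hr] at hYcard
      have hcard : Nat.card ↥(P : Subgroup G) = 10 := by omega
      obtain ⟨k, hk⟩ := P.2.exists_card_eq
      rw [hcard] at hk
      have hk0 : k ≠ 0 := by
        intro h0; rw [h0, pow_zero] at hk; omega
      have hp10 : p ∣ 10 := by rw [hk]; exact dvd_pow_self p hk0
      have hp25 : p = 2 ∨ p = 5 := by
        have h10 : (10 : ℕ) = 2 * 5 := by norm_num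
        rw [h10] at hp10
        rcases (Nat.Prime.dvd_mul hp).1 hp10 with h | h
        · left; exact (Nat.prime_dvd_prime_iff_eq hp Nat.prime_two).1 h
        · right; exact (Nat.prime_dvd_prime_iff_eq hp (by norm_num)).1 h
      rcases hp25 with h | h
      · rw [h] at hk
        have : k ≤ 3 := by
          by_contra hk4
          push Not at hk4
          have : 2 ^ 4 ≤ 2 ^ k := Nat.pow_le_pow_right (by norm_num) hk4
          omega
        interval_cases k <;> omega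
      · rw [h] at hk
        have : k ≤ 1 := by
          by_contra hk4
          push Not at hk4
          have : 5 ^ 2 ≤ 5 ^ k := Nat.pow_le_pow_right (by norm_num) hk4
          omega
        interval_cases k <;> omega
    · -- r = 4 : X = {1}, degree equation impossible
      exfalso
      have hsum1 : ∑ χ ∈ XF, a χ ^ 2 = 1 := by
        rw [hr] at hnorm'
        push_cast at hnorm'
        linarith
      -- XF = {triv}
      have hXeq : ∀ χ ∈ XF, χ = trivIrr G := by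
        intro χ hχ
        by_contra hne
        have h1 : a (trivIrr G) ^ 2 + a χ ^ 2 ≤ ∑ χ ∈ XF, a χ ^ 2 := by
          have hsub : ({trivIrr G, χ} : Finset (IrrCharacter G)) ⊆ XF := by
            intro x hx
            simp only [Finset.mem_insert, Finset.mem_singleton] at hx
            rcases hx with rfl | rfl
            · exact htriv
            · exact hχ
          calc a (trivIrr G) ^ 2 + a χ ^ 2 = ∑ x ∈ ({trivIrr G, χ} : Finset (IrrCharacter G)), a x ^ 2 := by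
                rw [Finset.sum_pair (Ne.symm hne)]
            _ ≤ ∑ χ ∈ XF, a χ ^ 2 :=
                Finset.sum_le_sum_of_subset_of_nonneg hsub (fun x _ _ => sq_nonneg (a x))
        have h2 := hage χ hχ
        rw [hatriv] at h1
        linarith
      have hXsingle : XF = {trivIrr G} := by
        ext χ
        simp only [Finset.mem_singleton]
        exact ⟨hXeq χ, fun h => h ▸ htriv⟩
      have h3 := hlast η₀ hη₀ 1 hone
      rw [hXsingle, Finset.sum_singleton, hatriv, trivIrr_apply, hd, hr] at h3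
      have h4 := apply_one_eq_charDegree (η₀ : G → ℂ) η₀.2
      rw [h4] at h3
      have h5 : (3 : ℤ) * δ * (charDegree (η₀ : G → ℂ) : ℤ) + 1 = 0 := by
        have : (((3 : ℤ) * δ * (charDegree (η₀ : G → ℂ) : ℤ) + 1 : ℤ) : ℂ) = 0 := by
          push_cast
          linear_combination h3
        exact_mod_cast this
      rcases hδ with h | h <;> rw [h] at h5 <;> omega

open scoped Classical in
/-- The structure of the principal block for index `3`. -/
theorem main3 (hM : IsPModular p M) (P : Sylow p G)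
    (hcomm : ∀ a ∈ P, ∀ b ∈ P, a * b = b * a)
    (hfrob : ∀ y : G, y ∈ (P : Subgroup G) → y ≠ 1 →
      Subgroup.centralizer ({y} : Set G) ⊓ Subgroup.normalizer ((P : Subgroup G) : Set G) =
        Subgroup.centralizer ((P : Subgroup G) : Set G))
    (hm2 : 3 + 1 < Nat.card ↥(P : Subgroup G))
    (hCN : (Subgroup.centralizer ((P : Subgroup G) : Set G)).relIndex
      (Subgroup.normalizer ((P : Subgroup G) : Set G)) = 3) :
    ∃ (χ₂ χ₃ : IrrCharacter G) (YF : Finset (IrrCharacter G)) (a₂ a₃ δ : ℤ)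
      (ζ : (↥(P : Subgroup G) →* ℂˣ) → IrrCharacter G),
      χ₂ ≠ χ₃ ∧ χ₂ ≠ trivIrr G ∧ χ₃ ≠ trivIrr G ∧ χ₂ ∉ YF ∧ χ₃ ∉ YF ∧ trivIrr G ∉ YF ∧
      (∀ χ : IrrCharacter G, χ ∈ principalBlock M G ↔
        χ = trivIrr G ∨ χ = χ₂ ∨ χ = χ₃ ∨ χ ∈ YF) ∧
      YF.card * 3 = Nat.card ↥(P : Subgroup G) - 1 ∧
      (a₂ = 1 ∨ a₂ = -1) ∧ (a₃ = 1 ∨ a₃ = -1) ∧ (δ = 1 ∨ δ = -1) ∧
      (∀ y ∈ (P : Subgroup G), y ≠ 1 → (χ₂ : G → ℂ) y = (a₂ : ℂ)) ∧
      (∀ y ∈ (P : Subgroup G), y ≠ 1 → (χ₃ : G → ℂ) y = (a₃ : ℂ)) ∧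
      (∀ ψ : ↥(P : Subgroup G) →* ℂˣ, ψ ≠ 1 → ζ ψ ∈ YF) ∧
      (∀ η ∈ YF, ∃ ψ : ↥(P : Subgroup G) →* ℂˣ, ψ ≠ 1 ∧ ζ ψ = η) ∧
      (∀ ψ ψ' : ↥(P : Subgroup G) →* ℂˣ, ψ ≠ 1 → Rel (P : Subgroup G) ψ ψ' → ζ ψ' = ζ ψ) ∧
      (∀ ψ : ↥(P : Subgroup G) →* ℂˣ, ψ ≠ 1 → ∀ y : ↥(P : Subgroup G), y ≠ 1 →
        (ζ ψ : G → ℂ) (y : G) = (δ : ℂ) *
          ∑ᶠ ψ' ∈ {ψ' : ↥(P : Subgroup G) →* ℂˣ | Rel (P : Subgroup G) ψ ψ'},
            ((ψ' y : ℂˣ) : ℂ)) ∧
      (∀ η ∈ YF, ∀ η' ∈ YF, ∀ g : G, ¬ p ∣ orderOf g → (η : G → ℂ) g = (η' : G → ℂ) g) ∧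
      (∀ η ∈ YF, ∀ g : G, ¬ p ∣ orderOf g →
        -(δ : ℂ) * (η : G → ℂ) g + 1 + (a₂ : ℂ) * (χ₂ : G → ℂ) g +
          (a₃ : ℂ) * (χ₃ : G → ℂ) g = 0) ∧
      (∀ y ∈ (P : Subgroup G), y ≠ 1 → ∑ η ∈ YF, (η : G → ℂ) y = -(δ : ℂ)) := by
  obtain ⟨XF, YF, a, δ, ζ, hB, hdisj, hYcard, htriv, hδ, hX, hζY, hYζ, hrel, hval, hsum, hagree,
    hlast, hS⟩ := main3_aux hM P hcomm hfrob hm2 hCN
  haveI := Fintype.ofFinite G
  have hP1 : ∃ y ∈ (P : Subgroup G), y ≠ 1 := by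
    haveI : Nontrivial ↥(P : Subgroup G) :=
      Finite.one_lt_card_iff_nontrivial.1 (by omega)
    obtain ⟨y, hy⟩ := exists_ne (1 : ↥(P : Subgroup G))
    exact ⟨(y : G), y.2, fun h => hy (Subtype.ext h)⟩
  have hatriv : a (trivIrr G) = 1 := by
    obtain ⟨y, hy, hy1⟩ := hP1
    have := (hX _ htriv).2 y hy hy1
    rw [trivIrr_apply] at this
    exact_mod_cast this.symm
  have hage : ∀ χ ∈ XF, 1 ≤ a χ ^ 2 := by
    intro χ hχ
    have h1 := (hX χ hχ).1
    have h2 : 0 < a χ ^ 2 := by positivity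
    omega
  -- the other two members of X
  set S' := XF.erase (trivIrr G) with hS'
  have hsum' : ∑ χ ∈ S', a χ ^ 2 = 2 := by
    have := Finset.add_sum_erase XF (fun χ => a χ ^ 2) htriv
    rw [hatriv] at this
    linarith
  have hS'sub : ∀ χ ∈ S', χ ∈ XF := fun χ hχ => Finset.mem_of_mem_erase hχ
  have hcard' : S'.card = 2 := by
    have h1 : (S'.card : ℤ) ≤ ∑ χ ∈ S', a χ ^ 2 := by
      calc (S'.card : ℤ) = ∑ χ ∈ S', (1 : ℤ) := by simp
        _ ≤ ∑ χ ∈ S', a χ ^ 2 := Finset.sum_le_sum (fun χ hχ => hage χ (hS'sub χ hχ))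
    rw [hsum'] at h1
    have h2 : S'.card ≤ 2 := by exact_mod_cast h1
    have h3 : S'.card ≠ 0 := by
      intro h0
      rw [Finset.card_eq_zero] at h0
      rw [h0, Finset.sum_empty] at hsum'
      omega
    have h4 : S'.card ≠ 1 := by
      intro h0
      obtain ⟨χ, hχ⟩ := Finset.card_eq_one.1 h0
      rw [hχ, Finset.sum_singleton] at hsum'
      exact int_sq_ne_two _ hsum'
    omega
  obtain ⟨χ₂, χ₃, hne, hS'eq⟩ := Finset.card_eq_two.1 hcard'
  have hχ₂S : χ₂ ∈ S' := by rw [hS'eq]; simp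
  have hχ₃S : χ₃ ∈ S' := by rw [hS'eq]; simp
  have hχ₂X : χ₂ ∈ XF := hS'sub χ₂ hχ₂S
  have hχ₃X : χ₃ ∈ XF := hS'sub χ₃ hχ₃S
  have hχ₂t : χ₂ ≠ trivIrr G := Finset.ne_of_mem_erase hχ₂S
  have hχ₃t : χ₃ ≠ trivIrr G := Finset.ne_of_mem_erase hχ₃S
  rw [hS'eq, Finset.sum_pair hne] at hsum'
  have ha2 : a χ₂ ^ 2 = 1 := by
    have h1 := hage χ₂ hχ₂X
    have h2 := hage χ₃ hχ₃X
    linarith
  have ha3 : a χ₃ ^ 2 = 1 := by
    have h1 := hage χ₂ hχ₂X
    linarith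
  have hpm : ∀ z : ℤ, z ^ 2 = 1 → z = 1 ∨ z = -1 := by
    intro z hz
    have h1 : (z - 1) * (z + 1) = 0 := by ring_nf; linarith
    rcases mul_eq_zero.1 h1 with h | h
    · left; linarith
    · right; linarith
  have hXmem : ∀ χ : IrrCharacter G, χ ∈ XF ↔ χ = trivIrr G ∨ χ = χ₂ ∨ χ = χ₃ := by
    intro χ
    constructor
    · intro hχ
      by_cases ht : χ = trivIrr G
      · exact Or.inl ht
      · right
        have : χ ∈ S' := Finset.mem_erase.2 ⟨ht, hχ⟩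
        rw [hS'eq] at this
        simpa using this
    · rintro (h | h | h)
      · rw [h]; exact htriv
      · rw [h]; exact hχ₂X
      · rw [h]; exact hχ₃X
  have hnotY : ∀ χ ∈ XF, χ ∉ YF := fun χ hχ hY => (Finset.disjoint_left.1 hdisj) hχ hY
  have hXsum : ∀ f : IrrCharacter G → ℂ, ∑ χ ∈ XF, f χ = f (trivIrr G) + f χ₂ + f χ₃ := by
    intro f
    rw [← Finset.add_sum_erase XF f htriv, ← hS', hS'eq, Finset.sum_pair hne]
    ring
  refine ⟨χ₂, χ₃, YF, a χ₂, a χ₃, δ, ζ, hne, hχ₂t, hχ₃t, hnotY _ hχ₂X, hnotY _ hχ₃X,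
    hnotY _ htriv, ?_, hYcard, hpm _ ha2, hpm _ ha3, hδ, (hX χ₂ hχ₂X).2, (hX χ₃ hχ₃X).2, hζY, hYζ,
    hrel, hval, hagree, ?_, hS⟩
  · intro χ
    rw [hB χ, hXmem χ]
    tauto
  · intro η hη g hg
    have := hlast η hη g hg
    rw [hXsum, hatriv, trivIrr_apply] at this
    push_cast at this
    linear_combination this

end Cfsg.Agent.Lib.H23.AbSyl
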