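import Cfsg.Agent.Lib.H23.AbSylJ
import Cfsg.Agent.Lib.H23.AbSylF

/-!
# Cosets of `C_G(P)` in `N_G(P)` for index `3`; explicit classes of characters (helper23)
-/

set_option autoImplicit false

namespace Cfsg.Agent.Lib.H23.AbSyl

open Cfsg Cfsg.Agent.Lib.L0

variable {G : Type*} [Group G]

/-- Coset decomposition: `N = C ∪ nC ∪ n²C` for `n ∈ N ∖ C`. -/
theorem exists_pow_mul_of_index_three [Finite G] (P : Subgroup G)
    (hCN : (Subgroup.centralizer (P : Set G)).relIndex (Subgroup.normalizer (P : Set G)) = 3)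
    {n x : G} (hn : n ∈ Subgroup.normalizer (P : Set G))
    (hnC : n ∉ Subgroup.centralizer (P : Set G)) (hx : x ∈ Subgroup.normalizer (P : Set G)) :
    ∃ i : ℕ, i < 3 ∧ (n ^ i)⁻¹ * x ∈ Subgroup.centralizer (P : Set G) := by
  have hker := Subgroup.normalizerMonoidHom_ker (H := P)
  set K := (Subgroup.centralizer (P : Set G)).subgroupOf (Subgroup.normalizer (P : Set G)) with hK
  haveI : K.Normal := by
    have : (P.normalizerMonoidHom.ker).Normal := inferInstance
    rw [hker] at this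
    exact this
  have hidx : K.index = 3 := hCN
  have hcard : Nat.card (↥(Subgroup.normalizer (P : Set G)) ⧸ K) = 3 := by
    rw [← Subgroup.index_eq_card]; exact hidx
  haveI : Fact (Nat.Prime 3) := ⟨Nat.prime_three⟩
  set nn : ↥(Subgroup.normalizer (P : Set G)) := ⟨n, hn⟩ with hnn
  set xx : ↥(Subgroup.normalizer (P : Set G)) := ⟨x, hx⟩ with hxx
  have hn1 : (QuotientGroup.mk nn : ↥(Subgroup.normalizer (P : Set G)) ⧸ K) ≠ 1 := by
    intro h1
    rw [QuotientGroup.eq_one_iff, hK, Subgroup.mem_subgroupOf] at h1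
    exact hnC h1
  have hmem := mem_zpowers_of_prime_card hcard hn1
    (g' := (QuotientGroup.mk xx : ↥(Subgroup.normalizer (P : Set G)) ⧸ K))
  obtain ⟨k, hk⟩ := Subgroup.mem_zpowers_iff.1 hmem
  have h3 : (QuotientGroup.mk nn : ↥(Subgroup.normalizer (P : Set G)) ⧸ K) ^ (3 : ℤ) = 1 := by
    have := pow_card_eq_one' (G := ↥(Subgroup.normalizer (P : Set G)) ⧸ K)
      (x := QuotientGroup.mk nn)
    rw [hcard] at this
    exact_mod_cast this
  set i := (k % 3).toNat with hi
  have hk3 : 0 ≤ k % 3 := Int.emod_nonneg k (by norm_num)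
  have hk3' : k % 3 < 3 := Int.emod_lt_of_pos k (by norm_num)
  have hi3 : i < 3 := by omega
  have hik : (i : ℤ) = k % 3 := Int.toNat_of_nonneg hk3
  have hpow : (QuotientGroup.mk nn : ↥(Subgroup.normalizer (P : Set G)) ⧸ K) ^ i =
      QuotientGroup.mk xx := by
    rw [← hk, ← zpow_natCast, hik]
    conv_rhs => rw [← Int.emod_add_mul_ediv k 3, zpow_add, zpow_mul, h3, one_zpow, mul_one]
  refine ⟨i, hi3, ?_⟩
  have h4 : (QuotientGroup.mk (nn ^ i) : ↥(Subgroup.normalizer (P : Set G)) ⧸ K) =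
      QuotientGroup.mk xx := by
    rw [QuotientGroup.mk_pow]; exact hpow
  rw [QuotientGroup.eq, hK, Subgroup.mem_subgroupOf] at h4
  exact h4

section

variable [Finite G] {p : ℕ} [Fact p.Prime]

/-- The conjugates of `a ∈ P` inside `P` are `a`, `n a n⁻¹`, `n² a n⁻²`. -/
theorem conj_mem_orbit (P : Sylow p G)
    (hcomm : ∀ a ∈ P, ∀ b ∈ P, a * b = b * a)
    (hCN : (Subgroup.centralizer ((P : Subgroup G) : Set G)).relIndex
      (Subgroup.normalizer ((P : Subgroup G) : Set G)) = 3)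
    {a n y : G} (ha : a ∈ (P : Subgroup G)) (hy : y ∈ (P : Subgroup G))
    (hn : n ∈ Subgroup.normalizer ((P : Subgroup G) : Set G))
    (hnC : n ∉ Subgroup.centralizer ((P : Subgroup G) : Set G)) (hay : IsConj a y) :
    y = a ∨ y = n * a * n⁻¹ ∨ y = n ^ 2 * a * (n ^ 2)⁻¹ := by
  obtain ⟨g, hg⟩ := isConj_iff.1 hay
  obtain ⟨x, hx, hxa⟩ := burnside_fusion_elt P hcomm a y ha hy g hg
  obtain ⟨i, hi, hc⟩ := exists_pow_mul_of_index_three (P : Subgroup G) hCN hn hnC hx
  have hca : (n ^ i)⁻¹ * x * a * ((n ^ i)⁻¹ * x)⁻¹ = a := by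
    have := Subgroup.mem_centralizer_iff.1 hc a ha
    rw [← this, mul_inv_cancel_right]
  have hxa' : y = n ^ i * a * (n ^ i)⁻¹ := by
    rw [← hxa]
    conv_rhs => rw [← hca]
    group
  interval_cases i
  · left; rw [hxa']; group
  · right; left; rw [hxa', pow_one]
  · right; right; exact hxa'

/-- The class of `ψ` consists of `ψ`, `ψ ∘ m`, `ψ ∘ m²`. -/
theorem class_subset (P : Subgroup G)
    (hCN : (Subgroup.centralizer (P : Set G)).relIndex (Subgroup.normalizer (P : Set G)) = 3)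
    (m : ↥(Subgroup.normalizer (P : Set G)))
    (hmC : (m : G) ∉ Subgroup.centralizer (P : Set G))
    (ψ ψ' : ↥P →* ℂˣ) (hr : Rel P ψ ψ') :
    ψ' = ψ ∨ ψ' = twist P m ψ ∨ ψ' = twist P (m ^ 2) ψ := by
  obtain ⟨x, hx⟩ := (rel_iff P ψ ψ').1 hr
  have hψ' : ψ' = twist P x⁻¹ ψ := by
    rw [← hx, twist_twist, mul_inv_cancel, twist_one]
  obtain ⟨i, hi, hc⟩ := exists_pow_mul_of_index_three P hCN m.2 hmC (x⁻¹).2
  set c : ↥(Subgroup.normalizer (P : Set G)) := (m ^ i)⁻¹ * x⁻¹ with hcdef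
  have hcC : (c : G) ∈ Subgroup.centralizer (P : Set G) := by
    have : (c : G) = ((m : G) ^ i)⁻¹ * ((x⁻¹ : ↥(Subgroup.normalizer (P : Set G))) : G) := by
      rw [hcdef]; simp
    rw [this]; exact hc
  have hx' : x⁻¹ = m ^ i * c := by rw [hcdef]; group
  have h2 : ψ' = twist P (m ^ i) ψ := by
    rw [hψ', hx', ← twist_twist, twist_of_mem_centralizer P c hcC]
  interval_cases i
  · left; rw [h2, pow_zero, twist_one]
  · right; left; rw [h2, pow_one]
  · right; right; exact h2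

theorem rel_twist (P : Subgroup G) (x : ↥(Subgroup.normalizer (P : Set G))) (ψ : ↥P →* ℂˣ) :
    Rel P ψ (twist P x ψ) := by
  refine (rel_iff P ψ _).2 ⟨x⁻¹, ?_⟩
  rw [twist_twist, mul_inv_cancel, twist_one]

/-- The sum over the class of `ψ ≠ 1`. -/
theorem finsum_class (P : Sylow p G)
    (hcomm : ∀ a ∈ P, ∀ b ∈ P, a * b = b * a)
    (hfrob : ∀ y : G, y ∈ (P : Subgroup G) → y ≠ 1 →
      Subgroup.centralizer ({y} : Set G) ⊓ Subgroup.normalizer ((P : Subgroup G) : Set G) =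
        Subgroup.centralizer ((P : Subgroup G) : Set G))
    (hCN : (Subgroup.centralizer ((P : Subgroup G) : Set G)).relIndex
      (Subgroup.normalizer ((P : Subgroup G) : Set G)) = 3)
    (m : ↥(Subgroup.normalizer ((P : Subgroup G) : Set G)))
    (hmC : (m : G) ∉ Subgroup.centralizer ((P : Subgroup G) : Set G))
    (ψ : ↥(P : Subgroup G) →* ℂˣ) (hψ : ψ ≠ 1) (f : (↥(P : Subgroup G) →* ℂˣ) → ℂ) :
    ∑ᶠ ψ' ∈ {ψ' : ↥(P : Subgroup G) →* ℂˣ | Rel (P : Subgroup G) ψ ψ'}, f ψ' =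
      f ψ + f (twist (P : Subgroup G) m ψ) + f (twist (P : Subgroup G) (m ^ 2) ψ) := by
  classical
  have hm3 : ((m ^ 3 : ↥(Subgroup.normalizer ((P : Subgroup G) : Set G))) : G) ∈
      Subgroup.centralizer ((P : Subgroup G) : Set G) := by
    have := pow_three_mem (P : Subgroup G) hCN m.2
    simpa using this
  have hm2C : ((m ^ 2 : ↥(Subgroup.normalizer ((P : Subgroup G) : Set G))) : G) ∉
      Subgroup.centralizer ((P : Subgroup G) : Set G) := by
    intro h2
    apply hmC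
    have h3 : (m : G) = ((m ^ 3 : ↥(Subgroup.normalizer ((P : Subgroup G) : Set G))) : G) *
        (((m ^ 2 : ↥(Subgroup.normalizer ((P : Subgroup G) : Set G))) : G))⁻¹ := by
      simp only [Subgroup.coe_pow]
      group
    rw [h3]
    exact Subgroup.mul_mem _ hm3 (Subgroup.inv_mem _ h2)
  have hne1 : ψ ≠ twist (P : Subgroup G) m ψ := by
    intro h
    exact hmC (mem_centralizer_of_twist_eq (P : Subgroup G) hcomm hfrob m ψ hψ h.symm)
  have hne2 : ψ ≠ twist (P : Subgroup G) (m ^ 2) ψ := by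
    intro h
    exact hm2C (mem_centralizer_of_twist_eq (P : Subgroup G) hcomm hfrob (m ^ 2) ψ hψ h.symm)
  have hne3 : twist (P : Subgroup G) m ψ ≠ twist (P : Subgroup G) (m ^ 2) ψ := by
    intro h
    have h1 : twist (P : Subgroup G) (m ^ 2) ψ =
        twist (P : Subgroup G) m (twist (P : Subgroup G) m ψ) := by
      rw [twist_twist, pow_two]
    rw [h1] at h
    have hφ : twist (P : Subgroup G) m ψ ≠ 1 :=
      fun h0 => hψ ((twist_eq_one_iff (P : Subgroup G) m ψ).1 h0)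
    exact hmC (mem_centralizer_of_twist_eq (P : Subgroup G) hcomm hfrob m _ hφ h.symm)
  have hset : {ψ' : ↥(P : Subgroup G) →* ℂˣ | Rel (P : Subgroup G) ψ ψ'} =
      (({ψ, twist (P : Subgroup G) m ψ, twist (P : Subgroup G) (m ^ 2) ψ} :
        Finset (↥(P : Subgroup G) →* ℂˣ)) : Set (↥(P : Subgroup G) →* ℂˣ)) := by
    ext ψ'
    simp only [Set.mem_setOf_eq, Finset.coe_insert, Finset.coe_singleton, Set.mem_insert_iff,
      Set.mem_singleton_iff]
    constructor
    · exact class_subset (P : Subgroup G) hCN m hmC ψ ψ'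
    · rintro (h | h | h)
      · rw [h]; exact rel_refl _ ψ
      · rw [h]; exact rel_twist _ m ψ
      · rw [h]; exact rel_twist _ (m ^ 2) ψ
  rw [hset, finsum_mem_coe_finset, Finset.sum_insert (by simp [hne1, hne2]),
    Finset.sum_insert (by simp [hne3]), Finset.sum_singleton]
  ring

end

end Cfsg.Agent.Lib.H23.AbSyl
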