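import Cfsg.Agent.Lib.H23.AbSylO
import Cfsg.Agent.Lib.H23.AbSylL
import Cfsg.Agent.Lib.H23.AbSylK

/-!
# The index-three principal block and an involution outside every proper normal subgroup
(helper23)
-/

set_option autoImplicit false

namespace Cfsg.Agent.Lib.H23.AbSyl

open Cfsg Cfsg.Agent.Lib.H23 Cfsg.Agent.Lib.H24 Cfsg.Agent.Lib.L0
  Cfsg.Agent.Lib.L0.PrincipalCrit Cfsg.Agent.Lib.L0.PrincipalBrauerPair
open scoped ComplexConjugate

variable {G : Type*} [Group G] [Finite G] {p : ℕ} [Fact p.Prime] {M : Ideal AlgInt}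

/-- There is an element of `N ∖ C`. -/
theorem exists_normalizer_not_centralizer (P : Subgroup G)
    (hCN : (Subgroup.centralizer (P : Set G)).relIndex (Subgroup.normalizer (P : Set G)) = 3) :
    ∃ m : ↥(Subgroup.normalizer (P : Set G)), (m : G) ∉ Subgroup.centralizer (P : Set G) := by
  by_contra hcon
  push Not at hcon
  have hle : Subgroup.normalizer (P : Set G) ≤ Subgroup.centralizer (P : Set G) :=
    fun x hx => hcon ⟨x, hx⟩
  rw [Subgroup.relIndex_eq_one.2 hle] at hCN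
  omega

/-- The square of a class sum at an involution of `P`. -/
theorem class_sum_sq (P : Sylow p G)
    (hcomm : ∀ a ∈ P, ∀ b ∈ P, a * b = b * a)
    (hfrob : ∀ y : G, y ∈ (P : Subgroup G) → y ≠ 1 →
      Subgroup.centralizer ({y} : Set G) ⊓ Subgroup.normalizer ((P : Subgroup G) : Set G) =
        Subgroup.centralizer ((P : Subgroup G) : Set G))
    (hCN : (Subgroup.centralizer ((P : Subgroup G) : Set G)).relIndex
      (Subgroup.normalizer ((P : Subgroup G) : Set G)) = 3)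
    (ψ : ↥(P : Subgroup G) →* ℂˣ) (hψ : ψ ≠ 1) (t : ↥(P : Subgroup G))
    (ht : (t : G) * (t : G) = 1) :
    (∑ᶠ ψ' ∈ {ψ' : ↥(P : Subgroup G) →* ℂˣ | Rel (P : Subgroup G) ψ ψ'},
        ((ψ' t : ℂˣ) : ℂ)) ^ 2 =
      3 + 2 * ∑ᶠ ψ' ∈ {ψ' : ↥(P : Subgroup G) →* ℂˣ | Rel (P : Subgroup G) ψ ψ'},
        ((ψ' t : ℂˣ) : ℂ) := by
  obtain ⟨m, hmC⟩ := exists_normalizer_not_centralizer (P : Subgroup G) hCN
  rw [finsum_class P hcomm hfrob hCN m hmC ψ hψ (fun ψ' => ((ψ' t : ℂˣ) : ℂ))]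
  have ht2 : t ^ 2 = 1 := by
    apply Subtype.ext
    rw [Subgroup.coe_pow, pow_two, ht]
    rfl
  have hsq : ∀ x : ↥(Subgroup.normalizer ((P : Subgroup G) : Set G)),
      (((twist (P : Subgroup G) x ψ) t : ℂˣ) : ℂ) ^ 2 = 1 := by
    intro x
    rw [twist_apply, ← Units.val_pow_eq_pow_val, ← map_pow, ← smul_pow', ht2, smul_one, map_one,
      Units.val_one]
  have h0 := hsq 1
  rw [twist_one] at h0
  refine eps_identity _ _ _ h0 (hsq m) (hsq (m ^ 2)) ?_
  rw [twist_apply, twist_apply, ← Units.val_mul, ← Units.val_mul, ← map_mul, ← map_mul]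
  have hprod : t * m • t * (m ^ 2) • t = 1 := by
    apply Subtype.ext
    rw [Subgroup.coe_mul, Subgroup.coe_mul, smul_coe, smul_coe, Subgroup.coe_pow]
    exact prod_orbit_eq_one P hcomm hfrob hCN t.2 m.2 hmC
  rw [hprod, map_one, Units.val_one]

end Cfsg.Agent.Lib.H23.AbSyl
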