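import Cfsg.Agent.Lib.H23.AbSylP

/-!
# The index-three principal block with an involution outside every proper normal subgroup:
signs and degrees (helper23)
-/

set_option autoImplicit false

namespace Cfsg.Agent.Lib.H23.AbSyl

open Cfsg Cfsg.Agent.Lib.H23 Cfsg.Agent.Lib.H24 Cfsg.Agent.Lib.L0
  Cfsg.Agent.Lib.L0.PrincipalCrit Cfsg.Agent.Lib.L0.PrincipalBrauerPair
open scoped ComplexConjugate

variable {G : Type*} [Group G] [Finite G] {p : ℕ} [Fact p.Prime] {M : Ideal AlgInt}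

theorem int_sq_cast {a : ℤ} (ha : a = 1 ∨ a = -1) : (a : ℂ) ^ 2 = 1 := by
  rcases ha with h | h <;> rw [h] <;> norm_num

open scoped Classical in
/-- The structure of the principal block for index `3`, with the involution clause. -/
theorem main3_invol (hM : IsPModular p M) (P : Sylow p G)
    (hcomm : ∀ a ∈ P, ∀ b ∈ P, a * b = b * a)
    (hfrob : ∀ y : G, y ∈ (P : Subgroup G) → y ≠ 1 →
      Subgroup.centralizer ({y} : Set G) ⊓ Subgroup.normalizer ((P : Subgroup G) : Set G) =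
        Subgroup.centralizer ((P : Subgroup G) : Set G))
    (hm2 : 3 + 1 < Nat.card ↥(P : Subgroup G))
    (hCN : (Subgroup.centralizer ((P : Subgroup G) : Set G)).relIndex
      (Subgroup.normalizer ((P : Subgroup G) : Set G)) = 3) :
    ∃ (χ₂ χ₃ : IrrCharacter G) (YF : Finset (IrrCharacter G)) (a₂ a₃ δ : ℤ)
      (ζ : (↥(P : Subgroup G) →* ℂˣ) → IrrCharacter G),
      χ₂ ≠ χ₃ ∧ χ₂ ≠ trivIrr G ∧ χ₃ ≠ trivIrr G ∧ χ₂ ∉ YF ∧ χ₃ ∉ YF ∧ trivIrr G ∉ YF ∧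
      (∀ χ : IrrCharacter G, χ ∈ principalBlock M G ↔
        χ = trivIrr G ∨ χ = χ₂ ∨ χ = χ₃ ∨ χ ∈ YF) ∧
      YF.card * 3 = Nat.card ↥(P : Subgroup G) - 1 ∧
      (a₂ = 1 ∨ a₂ = -1) ∧ (a₃ = 1 ∨ a₃ = -1) ∧ (δ = 1 ∨ δ = -1) ∧
      (∀ y ∈ (P : Subgroup G), y ≠ 1 → (χ₂ : G → ℂ) y = (a₂ : ℂ)) ∧
      (∀ y ∈ (P : Subgroup G), y ≠ 1 → (χ₃ : G → ℂ) y = (a₃ : ℂ)) ∧
      (∀ ψ : ↥(P : Subgroup G) →* ℂˣ, ψ ≠ 1 → ζ ψ ∈ YF) ∧
      (∀ η ∈ YF, ∃ ψ : ↥(P : Subgroup G) →* ℂˣ, ψ ≠ 1 ∧ ζ ψ = η) ∧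
      (∀ ψ ψ' : ↥(P : Subgroup G) →* ℂˣ, ψ ≠ 1 → Rel (P : Subgroup G) ψ ψ' → ζ ψ' = ζ ψ) ∧
      (∀ ψ : ↥(P : Subgroup G) →* ℂˣ, ψ ≠ 1 → ∀ y : ↥(P : Subgroup G), y ≠ 1 →
        (ζ ψ : G → ℂ) (y : G) = (δ : ℂ) *
          ∑ᶠ ψ' ∈ {ψ' : ↥(P : Subgroup G) →* ℂˣ | Rel (P : Subgroup G) ψ ψ'},
            ((ψ' y : ℂˣ) : ℂ)) ∧
      ((∃ t : G, orderOf t = 2 ∧ ∀ K : Subgroup G, K.Normal → t ∈ K → K = ⊤) →
        ((a₂ = -1 ∧ a₃ = -1 ∧ δ = -1) ∨ (a₂ = -1 ∧ a₃ = 1 ∧ δ = 1) ∨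
          (a₂ = 1 ∧ a₃ = -1 ∧ δ = 1)) ∧
        ∀ η ∈ YF, IsSquare (charDegree (η : G → ℂ) *
          (charDegree (χ₂ : G → ℂ) * charDegree (χ₃ : G → ℂ)))) := by
  obtain ⟨χ₂, χ₃, YF, a₂, a₃, δ, ζ, h23, h2t, h3t, h2Y, h3Y, htY, hB, hYcard, ha₂, ha₃, hδ, hv₂,
    hv₃, hζY, hYζ, hrel, hval, hagree, hlast, hS⟩ := main3 hM P hcomm hfrob hm2 hCN
  refine ⟨χ₂, χ₃, YF, a₂, a₃, δ, ζ, h23, h2t, h3t, h2Y, h3Y, htY, hB, hYcard, ha₂, ha₃, hδ, hv₂,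
    hv₃, hζY, hYζ, hrel, hval, ?_⟩
  rintro ⟨t₀, hto₀, htK₀⟩
  haveI := Fintype.ofFinite G
  haveI := Fintype.ofFinite (IrrCharacter G)
  have hp : p.Prime := Fact.out
  have hone : ¬ p ∣ orderOf (1 : G) := by
    rw [orderOf_one]
    exact hp.one_lt.ne' ∘ Nat.dvd_one.mp
  have hfun : ∀ χ : IrrCharacter G, χ ≠ trivIrr G → (χ : G → ℂ) ≠ fun _ => 1 :=
    fun χ hχ h => hχ (Subtype.ext h)
  have hYne : YF.Nonempty := by
    rw [Finset.nonempty_iff_ne_empty]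
    intro h
    rw [h, Finset.card_empty] at hYcard
    omega
  have hPcard : (Nat.card ↥(P : Subgroup G) : ℂ) = (YF.card : ℂ) * 3 + 1 := by
    have : Nat.card ↥(P : Subgroup G) = YF.card * 3 + 1 := by omega
    rw [this]; push_cast; ring
  have ha₂c := int_sq_cast ha₂
  have ha₃c := int_sq_cast ha₃
  have hδc := int_sq_cast hδ
  have hx₂c : ((charDegree (χ₂ : G → ℂ) : ℕ) : ℂ) = (χ₂ : G → ℂ) 1 := charDegree_irr χ₂
  have hx₃c : ((charDegree (χ₃ : G → ℂ) : ℕ) : ℂ) = (χ₃ : G → ℂ) 1 := charDegree_irr χ₃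
  have hx₂p : 0 < charDegree (χ₂ : G → ℂ) := Cfsg.Agent.Lib.H24.charDegree_pos χ₂
  have hx₃p : 0 < charDegree (χ₃ : G → ℂ) := Cfsg.Agent.Lib.H24.charDegree_pos χ₃
  have hdeg : ∀ η ∈ YF, ∀ η' ∈ YF, (η : G → ℂ) 1 = (η' : G → ℂ) 1 :=
    fun η hη η' hη' => hagree η hη η' hη' 1 hone
  have hblock : ∀ F : IrrCharacter G → ℂ, ∑ᶠ χ ∈ principalBlock M G, F χ =
      F (trivIrr G) + F χ₂ + F χ₃ + ∑ η ∈ YF, F η :=
    fun F => finsum_block3 (principalBlock M G) (trivIrr G) χ₂ χ₃ YF (Ne.symm h2t) (Ne.symm h3t)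
      h23 htY h2Y h3Y hB F
  have hP1 : ∃ y ∈ (P : Subgroup G), y ≠ 1 := by
    haveI : Nontrivial ↥(P : Subgroup G) :=
      Finite.one_lt_card_iff_nontrivial.1 (by omega)
    obtain ⟨y, hy⟩ := exists_ne (1 : ↥(P : Subgroup G))
    exact ⟨(y : G), y.2, fun h => hy (Subtype.ext h)⟩
  suffices hmain : ∀ η ∈ YF, ((a₂ = -1 ∧ a₃ = -1 ∧ δ = -1) ∨ (a₂ = -1 ∧ a₃ = 1 ∧ δ = 1) ∨
      (a₂ = 1 ∧ a₃ = -1 ∧ δ = 1)) ∧ IsSquare (charDegree (η : G → ℂ) *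
        (charDegree (χ₂ : G → ℂ) * charDegree (χ₃ : G → ℂ))) by
    obtain ⟨η₀, hη₀⟩ := hYne
    exact ⟨(hmain η₀ hη₀).1, fun η hη => (hmain η hη).2⟩
  intro η hη
  have hηt : η ≠ trivIrr G := fun h => htY (h ▸ hη)
  have hfc : ((charDegree (η : G → ℂ) : ℕ) : ℂ) = (η : G → ℂ) 1 := charDegree_irr η
  have hfp : 0 < charDegree (η : G → ℂ) := Cfsg.Agent.Lib.H24.charDegree_pos η
  have h0 : -(δ : ℂ) * (charDegree (η : G → ℂ) : ℕ) + 1 + a₂ * (charDegree (χ₂ : G → ℂ) : ℕ) +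
      a₃ * (charDegree (χ₃ : G → ℂ) : ℕ) = 0 := by
    rw [hfc, hx₂c, hx₃c]
    exact hlast η hη 1 hone
  have ht₀ : t₀ * t₀ = 1 := by
    rw [← pow_two, ← hto₀]; exact pow_orderOf_eq_one t₀
  have ht₀1 : t₀ ≠ 1 := by
    intro h; rw [h, orderOf_one] at hto₀; omega
  by_cases hpt : p ∣ orderOf t₀
  · -- p = 2
    have hp2 : p = 2 := by
      rw [hto₀] at hpt
      exact (Nat.prime_dvd_prime_iff_eq hp Nat.prime_two).1 hpt
    have hpg : IsPGroup p ↥(Subgroup.zpowers t₀) := by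
      apply IsPGroup.of_card (n := 1)
      rw [Nat.card_zpowers, hto₀, hp2, pow_one]
    obtain ⟨g, hg⟩ := Cfsg.Agent.Lib.H16.exists_conj_mem_sylow (Subgroup.zpowers t₀) hpg P
    set t := g * t₀ * g⁻¹ with htdef
    have htP : t ∈ (P : Subgroup G) := hg t₀ (Subgroup.mem_zpowers t₀)
    have ht : t * t = 1 := by
      rw [htdef]
      calc g * t₀ * g⁻¹ * (g * t₀ * g⁻¹) = g * (t₀ * t₀) * g⁻¹ := by group
        _ = 1 := by rw [ht₀]; group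
    have ht1 : t ≠ 1 := by
      intro h
      apply ht₀1
      rw [htdef] at h
      exact conj_eq_one_iff.1 h
    have htK : ∀ K : Subgroup G, K.Normal → t ∈ K → K = ⊤ := by
      intro K hK htK'
      apply htK₀ K hK
      have h1 := hK.conj_mem t htK' g⁻¹
      have h2 : g⁻¹ * t * g⁻¹⁻¹ = t₀ := by rw [htdef]; group
      rw [h2] at h1
      exact h1
    obtain ⟨m, hmC⟩ := exists_normalizer_not_centralizer (P : Subgroup G) hCN
    -- an element of `P#` not conjugate to `t`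
    obtain ⟨y, hy, hyS⟩ : ∃ y ∈ (P : Subgroup G), y ∉ ({1, t, (m : G) * t * (m : G)⁻¹,
        (m : G) ^ 2 * t * ((m : G) ^ 2)⁻¹} : Finset G) := by
      by_contra hcon
      push Not at hcon
      have hsub : (((P : Subgroup G) : Set G)) ⊆ (({1, t, (m : G) * t * (m : G)⁻¹,
          (m : G) ^ 2 * t * ((m : G) ^ 2)⁻¹} : Finset G) : Set G) := fun y hy => hcon y hy
      have h1 := Set.ncard_le_ncard hsub (Finset.finite_toSet _)
      rw [Set.ncard_coe_finset] at h1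
      have h2 : Nat.card ↥(P : Subgroup G) = (((P : Subgroup G) : Set G)).ncard :=
        Nat.card_coe_set_eq _
      have h3 := Finset.card_le_four (a := (1 : G)) (b := t) (c := (m : G) * t * (m : G)⁻¹)
        (d := (m : G) ^ 2 * t * ((m : G) ^ 2)⁻¹)
      omega
    simp only [Finset.mem_insert, Finset.mem_singleton, not_or] at hyS
    obtain ⟨hy1, hyt1, hyt2, hyt3⟩ := hyS
    have hyt : ¬ IsConj y t := by
      intro hc
      rcases conj_mem_orbit P hcomm hCN htP hy m.2 hmC hc.symm with h | h | h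
      · exact hyt1 h
      · exact hyt2 h
      · exact hyt3 h
    have hχ₂t : (χ₂ : G → ℂ) t = a₂ := hv₂ t htP ht1
    have hχ₃t : (χ₃ : G → ℂ) t = a₃ := hv₃ t htP ht1
    have hηsq : ∀ η' ∈ YF, (η' : G → ℂ) t ^ 2 = 3 + 2 * (δ : ℂ) * (η' : G → ℂ) t := by
      intro η' hη'
      obtain ⟨ψ, hψ, hζψ⟩ := hYζ η' hη'
      have hne : (⟨t, htP⟩ : ↥(P : Subgroup G)) ≠ 1 := fun h => ht1 (congrArg Subtype.val h)
      have h1 := hval ψ hψ ⟨t, htP⟩ hne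
      rw [hζψ] at h1
      have h2 := class_sum_sq P hcomm hfrob hCN ψ hψ ⟨t, htP⟩ ht
      set Λ := ∑ᶠ ψ' ∈ {ψ' : ↥(P : Subgroup G) →* ℂˣ | Rel (P : Subgroup G) ψ ψ'},
        ((ψ' (⟨t, htP⟩ : ↥(P : Subgroup G)) : ℂˣ) : ℂ) with hΛ
      have h1' : (η' : G → ℂ) t = (δ : ℂ) * Λ := h1
      rw [h1']
      linear_combination (δ : ℂ) ^ 2 * h2 + 3 * hδc
    have hreal : ∀ χ : IrrCharacter G, conj ((χ : G → ℂ) t) = (χ : G → ℂ) t := by
      intro χ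
      rw [← isCharacter_apply_inv (isCharacter_of_irr χ.2) t, inv_eq_of_mul_eq_one_right ht]
    have horth : ∑ η' ∈ YF, (η' : G → ℂ) t * (η' : G → ℂ) y = -3 := by
      have h1 := PrincipalSection.sum_block_pElements_eq_zero hM (trivIrr G) t y
        (pElement_of_mem P htP) (pElement_of_mem P hy) (fun h => hyt h.symm)
      rw [← principalBlock_eq, ← finsum_mem_eq_sum_ite, hblock] at h1
      simp only [hreal] at h1
      rw [hχ₂t, hχ₃t, hv₂ y hy hy1, hv₃ y hy hy1] at h1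
      simp only [trivIrr_apply] at h1
      linear_combination h1 - ha₂c - ha₃c
    have hsqs : ∑ η' ∈ YF, (η' : G → ℂ) t * (η' : G → ℂ) t = (YF.card : ℂ) * 3 - 2 := by
      have h1 := sum_section hM P hcomm hfrob t htP ht1 1 1 (Subgroup.one_mem _)
        (Subgroup.one_mem _) hone hone
      rw [mul_one, hblock, hPcard] at h1
      simp only [hreal] at h1
      rw [hχ₂t, hχ₃t] at h1
      simp only [trivIrr_apply] at h1
      linear_combination h1 - ha₂c - ha₃c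
    obtain ⟨η₀, hη₀, hη₀t⟩ : ∃ η₀ ∈ YF, (η₀ : G → ℂ) t = 3 * (δ : ℂ) := by
      by_contra hcon
      push Not at hcon
      have hall : ∀ η' ∈ YF, (η' : G → ℂ) t * (η' : G → ℂ) t = 1 := by
        intro η' hη'
        have h1 := hηsq η' hη'
        have h2 : ((η' : G → ℂ) t - 3 * δ) * ((η' : G → ℂ) t + δ) = 0 := by
          linear_combination h1 - 3 * hδc
        rcases mul_eq_zero.1 h2 with h | h
        · exact absurd (sub_eq_zero.1 h) (hcon η' hη')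
        · have h3 : (η' : G → ℂ) t = -δ := eq_neg_of_add_eq_zero_left h
          rw [h3]; linear_combination hδc
      rw [Finset.sum_congr rfl hall, Finset.sum_const, nsmul_eq_mul, mul_one] at hsqs
      have h3 : (YF.card : ℂ) = 1 := by linear_combination (-1 / 2 : ℂ) * hsqs
      have h4 : YF.card = 1 := by exact_mod_cast h3
      omega
    obtain ⟨r₂, hr₂, hT₂⟩ := invol_ratio χ₂ (hfun χ₂ h2t) t ht htK
    obtain ⟨r₃, hr₃, hT₃⟩ := invol_ratio χ₃ (hfun χ₃ h3t) t ht htK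
    have hη₀t' : η₀ ≠ trivIrr G := fun h => htY (h ▸ hη₀)
    obtain ⟨r₄, hr₄, hτ⟩ := invol_ratio η₀ (hfun η₀ hη₀t') t ht htK
    rw [hχ₂t] at hT₂
    rw [hχ₃t] at hT₃
    rw [hη₀t, hdeg η₀ hη₀ η hη] at hτ
    have mt := moment_two hM P hcomm hfrob hCN t ht y hy hy1 hyt
    rw [hblock] at mt
    have hsum : ∑ η' ∈ YF, (η' : G → ℂ) y * ((η' : G → ℂ) t ^ 2 / (η' : G → ℂ) 1) =
        -9 * (δ : ℂ) / (η : G → ℂ) 1 := by
      have h1 : ∀ η' ∈ YF, (η' : G → ℂ) y * ((η' : G → ℂ) t ^ 2 / (η' : G → ℂ) 1) =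
          (3 * (η' : G → ℂ) y + 2 * (δ : ℂ) * ((η' : G → ℂ) t * (η' : G → ℂ) y)) /
            (η : G → ℂ) 1 := by
        intro η' hη'
        rw [hηsq η' hη', hdeg η' hη' η hη]
        ring
      rw [Finset.sum_congr rfl h1, ← Finset.sum_div, Finset.sum_add_distrib, ← Finset.mul_sum,
        ← Finset.mul_sum, hS y hy hy1, horth]
      ring
    rw [hsum, hχ₂t, hχ₃t, hv₂ y hy hy1, hv₃ y hy hy1] at mt
    simp only [trivIrr_apply] at mt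
    refine final_arith a₂ a₃ δ ha₂ ha₃ hδ _ _ _ hx₂p hx₃p hfp r₂ r₃ r₄ hr₂ hr₃ hr₄
      (a₂ : ℂ) (a₃ : ℂ) (3 * (δ : ℂ)) (by rw [hx₂c]; exact hT₂) (by rw [hx₃c]; exact hT₃)
      (by rw [hfc]; exact hτ) h0 ?_ ?_
    · linear_combination -3 * hδc + ha₂c + ha₃c
    · rw [hx₂c, hx₃c, hfc]
      linear_combination mt + (-9 * (δ : ℂ) / (η : G → ℂ) 1) * hδc
  · -- p odd
    obtain ⟨y, hy, hy1⟩ := hP1
    have hyt : ¬ IsConj y t₀ := by
      intro hc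
      obtain ⟨g, hg⟩ := isConj_iff.1 hc
      have ho : orderOf t₀ = orderOf y := by
        rw [← hg]
        exact orderOf_injective (MulAut.conj g).toMonoidHom (MulAut.conj g).injective y
      obtain ⟨k, hk⟩ := pElement_of_mem P hy
      have hk0 : k ≠ 0 := by
        intro h
        rw [h, pow_zero, orderOf_eq_one_iff] at hk
        exact hy1 hk
      apply hpt
      rw [ho, hk]
      exact dvd_pow_self p hk0
    have mt := moment_two hM P hcomm hfrob hCN t₀ ht₀ y hy hy1 hyt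
    rw [hblock] at mt
    have hsum : ∑ η' ∈ YF, (η' : G → ℂ) y * ((η' : G → ℂ) t₀ ^ 2 / (η' : G → ℂ) 1) =
        -(δ : ℂ) * ((η : G → ℂ) t₀ ^ 2 / (η : G → ℂ) 1) := by
      rw [← hS y hy hy1, Finset.sum_mul]
      refine Finset.sum_congr rfl (fun η' hη' => ?_)
      rw [hagree η' hη' η hη t₀ hpt, hdeg η' hη' η hη]
    rw [hsum] at mt
    obtain ⟨r₂, hr₂, hT₂⟩ := invol_ratio χ₂ (hfun χ₂ h2t) t₀ ht₀ htK₀
    obtain ⟨r₃, hr₃, hT₃⟩ := invol_ratio χ₃ (hfun χ₃ h3t) t₀ ht₀ htK₀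
    obtain ⟨r₄, hr₄, hτ⟩ := invol_ratio η (hfun η hηt) t₀ ht₀ htK₀
    refine final_arith a₂ a₃ δ ha₂ ha₃ hδ _ _ _ hx₂p hx₃p hfp r₂ r₃ r₄ hr₂ hr₃ hr₄
      ((χ₂ : G → ℂ) t₀) ((χ₃ : G → ℂ) t₀) ((η : G → ℂ) t₀) (by rw [hx₂c]; exact hT₂)
      (by rw [hx₃c]; exact hT₃) (by rw [hfc]; exact hτ) h0 (hlast η hη t₀ hpt) ?_
    rw [hx₂c, hx₃c, hfc, ← hv₂ y hy hy1, ← hv₃ y hy hy1]
    rw [← mt]
    simp only [trivIrr_apply]
    ring
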