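import Cfsg.Agent.Lib.H23.BrauerThm
import Cfsg.Agent.Lib.L0.CharLinear
import Cfsg.Agent.Lib.L0.CharDegree

/-!
# Artin's induction theorem (helper23)

* `genFun C`: the function `|C|` on generators of `C`, `0` elsewhere;
* `sum_indFun_genFun`: `∑_A (genFun A)^G = |G|`;
* `isGeneralizedCharacter_indFun`, `isGeneralizedCharacter_genFun`;
* `exists_list_hom_of_isCharacter`: characters of commutative groups are sums of homs to `ℂˣ`;
* `artin_induction`.
-/

set_option autoImplicit false

universe u

namespace Cfsg.Agent.Lib.H23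

open Cfsg.Agent.Lib.L0 Cfsg.Agent.Lib.H8

section Artin

open Classical in
/-- `|C|` on the generators of `C`, `0` elsewhere. -/
noncomputable def genFun (C : Type*) [Group C] : C → ℂ :=
  fun c => if Subgroup.zpowers c = ⊤ then (Nat.card C : ℂ) else 0

theorem zpowers_mk_eq_top_iff {G : Type*} [Group G] (A : Subgroup G) (y : G) (hy : y ∈ A) :
    Subgroup.zpowers (⟨y, hy⟩ : A) = ⊤ ↔ Subgroup.zpowers y = A := by
  have h1 : (Subgroup.zpowers (⟨y, hy⟩ : A)).map A.subtype = Subgroup.zpowers y := by
    rw [MonoidHom.map_zpowers]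
    rfl
  constructor
  · intro h
    rw [← h1, h, ← MonoidHom.range_eq_map, Subgroup.range_subtype]
  · intro h
    apply Subgroup.map_injective A.subtype_injective
    rw [h1, h, ← MonoidHom.range_eq_map, Subgroup.range_subtype]

theorem zpowers_conj_eq_iff {G : Type*} [Group G] (g x : G) :
    Subgroup.zpowers (x⁻¹ * g * x) = ⊤ ↔ Subgroup.zpowers g = ⊤ := by
  have h1 : (Subgroup.zpowers g).map (MulAut.conj x⁻¹).toMonoidHom =
      Subgroup.zpowers (x⁻¹ * g * x) := by
    rw [MonoidHom.map_zpowers]
    simp
  rw [← h1]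
  constructor
  · intro h
    have := congrArg (Subgroup.map (MulAut.conj x⁻¹).symm.toMonoidHom) h
    rw [Subgroup.map_map] at this
    have h2 : x * (x⁻¹ * g * x) * x⁻¹ = g := by group
    simpa [h2] using this
  · intro h
    rw [h]
    simp

variable {G : Type u} [Group G] [Fintype G]

theorem extendByZero_genFun (A : Subgroup G) (y : G) [Decidable (Subgroup.zpowers y = A)] :
    Cfsg.extendByZero A (genFun A) y = if Subgroup.zpowers y = A then (Nat.card A : ℂ) else 0 := by
  classical
  by_cases hy : y ∈ A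
  · rw [extendByZero_apply_of_mem A _ hy]
    unfold genFun
    by_cases h : Subgroup.zpowers y = A
    · rw [if_pos ((zpowers_mk_eq_top_iff A y hy).mpr h)]
      simp [h]
    · rw [if_neg (fun h' => h ((zpowers_mk_eq_top_iff A y hy).mp h'))]
      simp [h]
  · rw [extendByZero_apply_not_mem A _ hy, if_neg]
    intro h
    apply hy
    rw [← h]
    exact Subgroup.mem_zpowers y

theorem indFun_genFun_apply (A : Subgroup G) (g : G) [DecidableEq (Subgroup G)] :
    Cfsg.indFun A (genFun A) g =
      ∑ x : G, (if Subgroup.zpowers (x⁻¹ * g * x) = A then (1 : ℂ) else 0) := by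
  rw [L0.indFun_apply, Finset.mul_sum]
  refine Finset.sum_congr rfl fun x _ => ?_
  rw [extendByZero_genFun]
  have hne : (Nat.card A : ℂ) ≠ 0 := Nat.cast_ne_zero.mpr (Nat.card_pos (α := A)).ne'
  split_ifs
  · rw [inv_mul_cancel₀ hne]
  · rw [mul_zero]

/-- The basic identity of Artin's theorem. -/
theorem sum_indFun_genFun [Fintype (Subgroup G)] :
    ∑ A : Subgroup G, Cfsg.indFun A (genFun A) = fun _ => (Nat.card G : ℂ) := by
  classical
  funext g
  rw [Finset.sum_apply]
  simp_rw [indFun_genFun_apply]
  rw [Finset.sum_comm]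
  simp [Nat.card_eq_fintype_card]

theorem indFun_top_genFun (g : G) :
    Cfsg.indFun (⊤ : Subgroup G) (genFun (⊤ : Subgroup G)) g = genFun G g := by
  classical
  rw [indFun_genFun_apply]
  unfold genFun
  simp_rw [zpowers_conj_eq_iff]
  by_cases h : Subgroup.zpowers g = ⊤
  · simp [h, Nat.card_eq_fintype_card]
  · simp [h]

theorem isGeneralizedCharacter_indFun (H : Subgroup G) {θ : H → ℂ}
    (hθ : Cfsg.IsGeneralizedCharacter H θ) : Cfsg.IsGeneralizedCharacter G (Cfsg.indFun H θ) := by
  obtain ⟨a, b, ha, hb, rfl⟩ := hθ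
  refine ⟨Cfsg.indFun H a, Cfsg.indFun H b, isCharacter_indFun H ha, isCharacter_indFun H hb, ?_⟩
  rw [sub_eq_add_neg, indFun_add, indFun_neg, ← sub_eq_add_neg]

theorem genFun_eq_zero_of_not_isCyclic {C : Type*} [Group C] (h : ¬ IsCyclic C) : genFun C = 0 := by
  classical
  funext c
  unfold genFun
  rw [if_neg]
  · rfl
  · intro htop
    apply h
    refine ⟨c, fun x => ?_⟩
    have : x ∈ Subgroup.zpowers c := by rw [htop]; exact Subgroup.mem_top x
    exact this

/-- `genFun C` is a generalized character. -/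
theorem isGeneralizedCharacter_genFun_aux : ∀ (n : ℕ) (C : Type u) [Group C] [Fintype C],
    Nat.card C = n → Cfsg.IsGeneralizedCharacter C (genFun C) := by
  intro n
  induction n using Nat.strong_induction_on with
  | _ n ih =>
    intro C _ _ hn
    classical
    have : Fintype (Subgroup C) := Fintype.ofFinite _
    have h1 := sum_indFun_genFun (G := C)
    rw [← Finset.add_sum_erase _ _ (Finset.mem_univ (⊤ : Subgroup C))] at h1
    have h2 : Cfsg.indFun (⊤ : Subgroup C) (genFun (⊤ : Subgroup C)) = genFun C :=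
      funext indFun_top_genFun
    rw [h2] at h1
    have h3 : genFun C = (fun _ : C => (Nat.card C : ℂ)) -
        ∑ B ∈ (Finset.univ : Finset (Subgroup C)).erase ⊤, Cfsg.indFun B (genFun B) := by
      rw [← h1]; abel
    rw [h3]
    apply isGeneralizedCharacter_sub
    · have : (fun _ : C => (Nat.card C : ℂ)) = (Nat.card C) • (1 : C → ℂ) := by
        funext c; simp
      rw [this]
      exact isGeneralizedCharacter_nsmul
        (isGeneralizedCharacter_of_isCharacter (isCharacter_of_irr isIrrCharacter_one)) _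
    · apply isGeneralizedCharacter_sum
      intro B hB
      have hBne : B ≠ ⊤ := Finset.ne_of_mem_erase hB
      have : Fintype B := Fintype.ofFinite B
      apply isGeneralizedCharacter_indFun
      apply ih (Nat.card B) _ B rfl
      rw [← hn]
      by_contra hle
      rw [not_lt] at hle
      apply hBne
      exact Subgroup.eq_top_of_card_eq B (le_antisymm (Subgroup.card_le_card_group B) hle)

theorem isGeneralizedCharacter_genFun (C : Type u) [Group C] [Fintype C] :
    Cfsg.IsGeneralizedCharacter C (genFun C) :=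
  isGeneralizedCharacter_genFun_aux _ C rfl

/-- A character of a finite commutative group is a sum of homomorphisms to `ℂˣ`. -/
theorem exists_list_hom_of_isCharacter {A : Type*} [Group A] [Finite A] (hcomm : ∀ a b : A, a * b = b * a)
    {ψ : A → ℂ} (hψ : Cfsg.IsCharacter A ψ) :
    ∃ l : List (A →* ℂˣ), ψ = (l.map fun (lam : A →* ℂˣ) => fun a => (lam a : ℂ)).sum := by
  obtain ⟨l, hl, rfl⟩ := isCharacter_exists_irr_decomp hψ
  clear hψ
  induction l with
  | nil => exact ⟨[], by simp⟩
  | cons χ l ih =>
    obtain ⟨l', hl'⟩ := ih (fun ψ hψ => hl ψ (List.mem_cons_of_mem _ hψ))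
    have hχ := hl χ List.mem_cons_self
    have h1 := irr_apply_one_of_comm hcomm hχ
    refine ⟨linearCharHom (isCharacter_of_irr hχ) h1 :: l', ?_⟩
    rw [List.sum_cons, List.map_cons, List.sum_cons, ← hl']
    rfl


/-- The list form of an induced difference of characters of a commutative subgroup. -/
theorem exists_list_indFun_of_comm (A : Subgroup G) (hcomm : ∀ a b : A, a * b = b * a)
    {ψ : A → ℂ} (hψ : Cfsg.IsGeneralizedCharacter A ψ) :
    ∃ l : List ((A →* ℂˣ) × ℤ), Cfsg.indFun A ψ =
      (l.map fun t => (t.2 : ℂ) • Cfsg.indFun A (fun a => (t.1 a : ℂ))).sum := by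
  obtain ⟨a, b, ha, hb, rfl⟩ := hψ
  obtain ⟨la, rfl⟩ := exists_list_hom_of_isCharacter hcomm ha
  obtain ⟨lb, rfl⟩ := exists_list_hom_of_isCharacter hcomm hb
  refine ⟨la.map (fun lam => (lam, 1)) ++ lb.map (fun lam => (lam, -1)), ?_⟩
  rw [sub_eq_add_neg, indFun_add, indFun_neg, indFun_list_sum, indFun_list_sum, List.map_append,
    List.sum_append, List.map_map, List.map_map, List.map_map, List.map_map]
  congr 1
  · congr 1
    apply List.map_congr_left
    intro lam _
    simp
  · rw [List.sum_neg, List.map_map]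
    congr 1
    apply List.map_congr_left
    intro lam _
    simp

/-- **Artin's induction theorem.** -/
theorem artin_induction {χ : G → ℂ} (hχ : Cfsg.IsCharacter G χ) :
    ∃ l : List ((A : Subgroup G) × ((A →* ℂˣ) × ℤ)), (∀ t ∈ l, IsCyclic t.1) ∧
      (Nat.card G : ℂ) • χ =
        (l.map fun t => (t.2.2 : ℂ) • Cfsg.indFun t.1 (fun a => (t.2.1 a : ℂ))).sum := by
  classical
  have : Fintype (Subgroup G) := Fintype.ofFinite _
  have h1 : (Nat.card G : ℂ) • χ =
      ∑ A : Subgroup G, Cfsg.indFun A (genFun A * fun a : A => χ a) := by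
    have h2 := sum_indFun_genFun (G := G)
    have h3 : (Nat.card G : ℂ) • χ = (fun _ : G => (Nat.card G : ℂ)) * χ := by
      funext g; simp
    rw [h3, ← h2, Finset.sum_mul]
    refine Finset.sum_congr rfl fun A _ => ?_
    rw [indFun_mul_restrict' A _ χ (isClassFunction_of_isCharacter hχ)]
  rw [h1]
  -- each term is a list
  have hterm : ∀ A : Subgroup G, ∃ l : List ((A : Subgroup G) × ((A →* ℂˣ) × ℤ)),
      (∀ t ∈ l, IsCyclic t.1) ∧ Cfsg.indFun A (genFun A * fun a : A => χ a) =
        (l.map fun t => (t.2.2 : ℂ) • Cfsg.indFun t.1 (fun a => (t.2.1 a : ℂ))).sum := by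
    intro A
    by_cases hcyc : IsCyclic A
    · have : Fintype A := Fintype.ofFinite A
      have hgen : Cfsg.IsGeneralizedCharacter A (genFun A * fun a : A => χ a) := by
        obtain ⟨a, b, ha, hb, hab⟩ := isGeneralizedCharacter_genFun A
        refine ⟨a * fun a : A => χ a, b * fun a : A => χ a,
          isCharacter_mul ha (isCharacter_restrict A hχ),
          isCharacter_mul hb (isCharacter_restrict A hχ), ?_⟩
        rw [hab, sub_mul]
      have hcomm : ∀ a b : A, a * b = b * a := fun a b => by
        have := hcyc.commutative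
        exact mul_comm' a b
      obtain ⟨l, hl⟩ := exists_list_indFun_of_comm A hcomm hgen
      refine ⟨l.map (fun t => ⟨A, t⟩), ?_, ?_⟩
      · intro t ht
        obtain ⟨t', _, rfl⟩ := List.mem_map.mp ht
        exact hcyc
      · rw [hl, List.map_map]
        rfl
    · refine ⟨[], by simp, ?_⟩
      rw [genFun_eq_zero_of_not_isCyclic hcyc, zero_mul, indFun_zero]
      simp
  choose L hL1 hL2 using hterm
  refine ⟨(Finset.univ : Finset (Subgroup G)).toList.flatMap L, ?_, ?_⟩
  · intro t ht
    obtain ⟨A, _, hA⟩ := List.mem_flatMap.mp ht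
    exact hL1 A t hA
  · rw [List.map_flatMap, List.flatMap_def, List.sum_flatten, List.map_map]
    rw [← Finset.sum_map_toList]
    congr 1
    apply List.map_congr_left
    intro A _
    exact hL2 A

end Artin

end Cfsg.Agent.Lib.H23
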