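import Mathlib
import Cfsg.Prelude.Def_Transfer
import Cfsg.Prelude.Def_Local
import Cfsg.Prelude.Def_LocalEven
import Cfsg.Prelude.Def_PLocal
import Cfsg.Agent.Lib.H10.SylowIn
import Cfsg.Agent.Lib.H7.Coprime
import Cfsg.Agent.Lib.H1.CharSubgroup
import Cfsg.Agent.Lib.L0.NPCBasic
import Cfsg.Agent.Lib.L0.NPCReduction
import Cfsg.Agent.Lib.H8.AutQHALL
import Cfsg.Agent.Lib.H5.AutQT
import Cfsg.Agent.Lib.H11.AutQS3C

set_option autoImplicit false
set_option linter.unusedSectionVars false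
set_option linter.unusedVariables false
set_option linter.style.haveILetI false



namespace Cfsg.Agent.Lib.H23.AutQ

open Cfsg.Agent.Lib

variable {G : Type*} [Group G]

/-- `(γ)`: a `p'`-element of `C_G(H)` normalizing a `p`-subgroup `K ≤ N_G(H)` centralizes it, provided every
`p`-subgroup of `C_G(H)` lies in `H`. -/
theorem gamma [Finite G] {p : ℕ} [Fact p.Prime] {H K : Subgroup G} (hH : IsPGroup p H)
    (hK : IsPGroup p K) (hKN : K ≤ Subgroup.normalizer (H : Set G))
    (hC1 : ∀ R : Subgroup G, IsPGroup p R → R ≤ Subgroup.centralizer (H : Set G) → R ≤ H)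
    {y : G} (hyC : y ∈ Subgroup.centralizer (H : Set G)) (hyK : y ∈ Subgroup.normalizer (K : Set G))
    (hy : (orderOf y).Coprime p) : y ∈ Subgroup.centralizer (K : Set G) := by
  have hQ : IsPGroup p (K ⊔ H : Subgroup G) := IsPGroup.to_sup_of_normal_right' hK hH hKN
  have hA : (Nat.card (Subgroup.zpowers y)).Coprime p := by
    rw [Nat.card_zpowers]; exact hy
  have hAC : Subgroup.zpowers y ≤ Subgroup.centralizer (H : Set G) := by
    rw [Subgroup.zpowers_le]; exact hyC
  have hAB : ⁅Subgroup.zpowers y, H⁆ = ⊥ :=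
    Subgroup.commutator_eq_bot_iff_le_centralizer.mpr hAC
  have hyN : y ∈ Subgroup.normalizer (H : Set G) := Subgroup.centralizer_le_normalizer _ hyC
  have hyQ : y ∈ Subgroup.normalizer ((K ⊔ H : Subgroup G) : Set G) := by
    rw [H10.mem_normalizer_iff_map_conj, Subgroup.map_sup,
      H10.mem_normalizer_iff_map_conj.mp hyK, H10.mem_normalizer_iff_map_conj.mp hyN]
  have hAQ : Subgroup.zpowers y ≤ Subgroup.normalizer ((K ⊔ H : Subgroup G) : Set G) := by
    rw [Subgroup.zpowers_le]; exact hyQ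
  have hBQ : H ≤ Subgroup.normalizer ((K ⊔ H : Subgroup G) : Set G) :=
    le_trans le_sup_right Subgroup.le_normalizer
  have hR : (K ⊔ H) ⊓ Subgroup.centralizer (H : Set G) ≤ H :=
    hC1 _ (hQ.to_le inf_le_left) inf_le_right
  have hC : ⁅Subgroup.zpowers y, (K ⊔ H) ⊓ Subgroup.centralizer (H : Set G)⁆ = ⊥ := by
    rw [eq_bot_iff, ← hAB]
    exact Subgroup.commutator_mono le_rfl hR
  have hfin := H7.thompson_AxB' p hQ hH hA hAB hAQ hBQ hC
  have h1 : Subgroup.zpowers y ≤ Subgroup.centralizer ((K ⊔ H : Subgroup G) : Set G) :=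
    Subgroup.commutator_eq_bot_iff_le_centralizer.mp hfin
  have h2 : y ∈ Subgroup.centralizer ((K ⊔ H : Subgroup G) : Set G) :=
    h1 (Subgroup.mem_zpowers y)
  exact Subgroup.centralizer_le (by exact_mod_cast (le_sup_left : K ≤ K ⊔ H)) h2

/-- the order of the automizer `N_G(H) / C_G(H)`. -/
noncomputable def aut (H : Subgroup G) : ℕ :=
  (Subgroup.centralizer (H : Set G)).relIndex (Subgroup.normalizer (H : Set G))

theorem normalizer_le_normalizer_centralizer (H : Subgroup G) :
    Subgroup.normalizer (H : Set G) ≤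
      Subgroup.normalizer ((Subgroup.centralizer (H : Set G) : Subgroup G) : Set G) := by
  have key : ∀ n ∈ Subgroup.normalizer (H : Set G), ∀ c ∈ Subgroup.centralizer (H : Set G),
      n * c * n⁻¹ ∈ Subgroup.centralizer (H : Set G) := by
    intro n hn c hc
    rw [Subgroup.mem_centralizer_iff]
    intro h hh
    have h1 : n⁻¹ * h * n ∈ H := by
      have := (Subgroup.mem_normalizer_iff.mp (Subgroup.inv_mem _ hn) h).mp hh
      simpa using this
    have h2 := (Subgroup.mem_centralizer_iff.mp hc) (n⁻¹ * h * n) h1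
    have e1 : h * (n * c * n⁻¹) = n * ((n⁻¹ * h * n) * c) * n⁻¹ := by group
    have e2 : n * c * n⁻¹ * h = n * (c * (n⁻¹ * h * n)) * n⁻¹ := by group
    rw [e1, e2, h2]
  intro n hn
  rw [Subgroup.mem_normalizer_iff]
  intro c
  constructor
  · exact key n hn c
  · intro hc
    have := key n⁻¹ (Subgroup.inv_mem _ hn) _ hc
    have e : n⁻¹ * (n * c * n⁻¹) * n⁻¹⁻¹ = c := by group
    rwa [e] at this

theorem normalizer_le_normalizer_sup_centralizer (H : Subgroup G) :
    Subgroup.normalizer (H : Set G) ≤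
      Subgroup.normalizer ((H ⊔ Subgroup.centralizer (H : Set G) : Subgroup G) : Set G) := by
  intro n hn
  rw [H10.mem_normalizer_iff_map_conj, Subgroup.map_sup,
    H10.mem_normalizer_iff_map_conj.mp hn,
    H10.mem_normalizer_iff_map_conj.mp (normalizer_le_normalizer_centralizer H hn)]

/-- relative version of `relIndex_dvd_index_of_normal`. -/
theorem relIndex_dvd_relIndex_of_le_normalizer {A M B : Subgroup G} (hMB : M ≤ B)
    (hB : B ≤ Subgroup.normalizer (A : Set G)) : A.relIndex M ∣ A.relIndex B := by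
  haveI : (A.subgroupOf B).Normal := Subgroup.normal_subgroupOf_of_le_normalizer hB
  have h1 := Subgroup.relIndex_dvd_index_of_normal (A.subgroupOf B) (M.subgroupOf B)
  rwa [Subgroup.relIndex_subgroupOf hMB] at h1

/-- The `U`-step: `U` a Sylow `p`-subgroup of `H C_G(H)` containing `H`. -/
theorem u_step [Finite G] {p : ℕ} [Fact p.Prime] {H U : Subgroup G} (hH : IsPGroup p H)
    (hHU : H ≤ U) (hU : IsPGroup p U) (hUM : U ≤ H ⊔ Subgroup.centralizer (H : Set G))
    (hUi : ¬ p ∣ U.relIndex (H ⊔ Subgroup.centralizer (H : Set G))) :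
    aut H ∣ aut U ∧ ∃ T : Subgroup G, IsPGroup p T ∧ T ≤ Subgroup.normalizer (U : Set G) ∧
      T ≤ Subgroup.normalizer (H : Set G) ∧ ¬ p ∣ T.relIndex (Subgroup.normalizer (H : Set G)) := by
  set C := Subgroup.centralizer (H : Set G) with hCdef
  set N := Subgroup.normalizer (H : Set G) with hNdef
  set M := H ⊔ C with hMdef
  have hCN : C ≤ N := Subgroup.centralizer_le_normalizer _
  have hHN : H ≤ N := Subgroup.le_normalizer
  have hMN : M ≤ N := sup_le hHN hCN
  have hNM : N ≤ Subgroup.normalizer (M : Set G) := normalizer_le_normalizer_sup_centralizer H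
  constructor
  · -- Frattini
    set NU := N ⊓ Subgroup.normalizer (U : Set G) with hNUdef
    have hHNU : H ≤ NU := le_inf hHN (le_trans hHU Subgroup.le_normalizer)
    have hfr : N ≤ C ⊔ NU := by
      intro n hn
      have hQM : U.map (MulAut.conj n).toMonoidHom ≤ M := by
        have h1 : M.map (MulAut.conj n).toMonoidHom = M :=
          H10.mem_normalizer_iff_map_conj.mp (hNM hn)
        rw [← h1]
        exact Subgroup.map_mono hUM
      obtain ⟨m, hmM, hm⟩ := H10.exists_mem_map_conj_le_of_sylowIn hU hUM hUi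
        (H10.isPGroup_map_conj n hU) hQM
      rw [H10.map_conj_map_conj] at hm
      have hmn : m * n ∈ Subgroup.normalizer (U : Set G) := by
        rw [H10.mem_normalizer_iff_map_conj]
        apply Subgroup.eq_of_le_of_card_ge hm
        rw [H10.card_map_conj]
      have hmnN : m * n ∈ N := N.mul_mem (hMN hmM) hn
      have h2 : n = m⁻¹ * (m * n) := by group
      have h3 : M ⊔ NU = C ⊔ NU := by
        rw [hMdef, sup_comm H C, sup_assoc, sup_eq_right.mpr hHNU]
      rw [h2, ← h3]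
      exact Subgroup.mul_mem_sup (M.inv_mem hmM) ⟨hmnN, hmn⟩
    have hNUN : NU ≤ N := inf_le_left
    have hsup : C ⊔ NU = N := le_antisymm (sup_le hCN hNUN) hfr
    haveI hCn : (C.subgroupOf N).Normal := inferInstance
    have h1 : (C.subgroupOf N).relIndex (C.subgroupOf N ⊔ NU.subgroupOf N) =
        (C.subgroupOf N).relIndex (NU.subgroupOf N) := Subgroup.relIndex_sup_left _ _
    rw [← Subgroup.subgroupOf_sup hCN hNUN, hsup, Subgroup.subgroupOf_self,
      Subgroup.relIndex_top_right, Subgroup.relIndex_subgroupOf hNUN] at h1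
    -- h1 : (C.subgroupOf N).index = C.relIndex NU
    have hautH : aut H = C.relIndex NU := h1
    have hCU : Subgroup.centralizer (U : Set G) ≤ C :=
      Subgroup.centralizer_le (by exact_mod_cast hHU)
    have h2 : C.relIndex NU ∣ (Subgroup.centralizer (U : Set G)).relIndex NU :=
      Subgroup.relIndex_dvd_of_le_left NU hCU
    have h3 : (Subgroup.centralizer (U : Set G)).relIndex NU ∣ aut U :=
      relIndex_dvd_relIndex_of_le_normalizer inf_le_right
        (normalizer_le_normalizer_centralizer U)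
    rw [hautH]
    exact h2.trans h3
  · obtain ⟨T, hUT, hTN, hT, hTi⟩ := H10.exists_sylowIn hU (le_trans hUM hMN)
    refine ⟨T, hT, ?_, hTN, hTi⟩
    have hTM : U = T ⊓ M := H10.eq_of_le_of_not_dvd_relIndex (le_inf hUT hUM) inf_le_right
      (hT.to_le inf_le_left) hUi
    intro t ht
    rw [H10.mem_normalizer_iff_map_conj, hTM, H10.map_conj_inf,
      H10.mem_normalizer_iff_map_conj.mp (Subgroup.le_normalizer ht),
      H10.mem_normalizer_iff_map_conj.mp (hNM (hTN ht))]

/-- the `p`-part of the order of the normalizer, as an exponent. -/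
noncomputable def ev (p : ℕ) (H : Subgroup G) : ℕ :=
  (Nat.card (Subgroup.normalizer (H : Set G))).factorization p

theorem factorization_of_sylowIn [Finite G] {p : ℕ} [Fact p.Prime] {T N : Subgroup G}
    (hTN : T ≤ N) (hTi : ¬ p ∣ T.relIndex N) :
    (Nat.card T).factorization p = (Nat.card N).factorization p := by
  have h1 := L0.card_eq_card_mul_relIndex hTN
  have hr : T.relIndex N ≠ 0 := by
    intro h0
    rw [h0, mul_zero] at h1
    exact Nat.card_pos.ne' h1
  rw [h1, Nat.factorization_mul Nat.card_pos.ne' hr, Finsupp.add_apply,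
    Nat.factorization_eq_zero_of_not_dvd hTi, add_zero]

/-- Claim C1: for an extremal member `H` of the family, every `p`-subgroup of `C_G(H)` lies in `H`. -/
theorem c1 [Finite G] {p q : ℕ} [Fact p.Prime] {H : Subgroup G} (hH : IsPGroup p H)
    (hq : q ∣ aut H)
    (hmax1 : ∀ Q : Subgroup G, IsPGroup p Q → q ∣ aut Q → ev p Q ≤ ev p H)
    (hmax2 : ∀ Q : Subgroup G, IsPGroup p Q → q ∣ aut Q → ev p Q = ev p H →
      Nat.card Q ≤ Nat.card H)
    (R : Subgroup G) (hR : IsPGroup p R) (hRC : R ≤ Subgroup.centralizer (H : Set G)) : R ≤ H := by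
  have hRN : R ≤ Subgroup.normalizer (H : Set G) :=
    le_trans hRC (Subgroup.centralizer_le_normalizer _)
  have hHR : IsPGroup p (H ⊔ R : Subgroup G) := by
    rw [sup_comm]
    exact IsPGroup.to_sup_of_normal_right' hR hH hRN
  have hHRM : H ⊔ R ≤ H ⊔ Subgroup.centralizer (H : Set G) := sup_le_sup_left hRC H
  obtain ⟨U, hU1, hUM, hU, hUi⟩ := H10.exists_sylowIn hHR hHRM
  have hHU : H ≤ U := le_trans le_sup_left hU1
  obtain ⟨hdvd, T, hT, hTU, hTN, hTi⟩ := u_step hH hHU hU hUM hUi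
  have hqU : q ∣ aut U := hq.trans hdvd
  have h1 : ev p H ≤ ev p U := by
    unfold ev
    rw [← factorization_of_sylowIn hTN hTi]
    exact L0.factorization_card_le p hTU
  have h2 : ev p U = ev p H := le_antisymm (hmax1 U hU hqU) h1
  have h3 : Nat.card U ≤ Nat.card H := hmax2 U hU hqU h2
  have h4 : H = U := Subgroup.eq_of_le_of_card_ge hHU h3
  rw [h4]
  exact le_trans le_sup_right hU1

/-- the `n`-th power of an element of `X1` lies in `C`, for `n = |X1 : C|`, `C` normalized by `X1`. -/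
theorem pow_relIndex_mem {C X1 : Subgroup G} (hX : X1 ≤ Subgroup.normalizer (C : Set G))
    {x : G} (hx : x ∈ X1) : x ^ C.relIndex X1 ∈ C := by
  haveI : (C.subgroupOf X1).Normal := Subgroup.normal_subgroupOf_of_le_normalizer hX
  have h1 := Subgroup.pow_index_mem (C.subgroupOf X1) (⟨x, hx⟩ : X1)
  rw [Subgroup.mem_subgroupOf] at h1
  have h2 : ((⟨x, hx⟩ : X1) ^ (C.subgroupOf X1).index : X1).1 = x ^ C.relIndex X1 := by
    simp [Subgroup.relIndex]
  rwa [h2] at h1

/-- Claim C4. -/
theorem c4 [Finite G] {p q : ℕ} [Fact p.Prime] [hq : Fact q.Prime] {H K X1 : Subgroup G}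
    (hH : IsPGroup p H)
    (hC1 : ∀ R : Subgroup G, IsPGroup p R → R ≤ Subgroup.centralizer (H : Set G) → R ≤ H)
    (hXN : X1 ≤ Subgroup.normalizer (H : Set G)) {a b : ℕ}
    (hidx : (Subgroup.centralizer (H : Set G)).relIndex X1 = p ^ a * q ^ b)
    (hK : IsPGroup p K) (hKX : K ≤ X1) {x : G} (hxX : x ∈ X1)
    (hxN : x ∈ Subgroup.normalizer (K : Set G)) (hxC : x ∉ Subgroup.centralizer (K : Set G))
    (hx : (orderOf x).Coprime p) : q ∣ aut K := by
  set C := Subgroup.centralizer (H : Set G) with hCdef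
  set n := p ^ a * q ^ b with hn
  have hXC : X1 ≤ Subgroup.normalizer (C : Set G) :=
    le_trans hXN (normalizer_le_normalizer_centralizer H)
  have hy1 : x ^ n ∈ C := by
    have := pow_relIndex_mem hXC hxX
    rwa [hidx] at this
  have hy2 : x ^ n ∈ Subgroup.normalizer (K : Set G) := Subgroup.pow_mem _ hxN n
  have hy3 : (orderOf (x ^ n)).Coprime p :=
    Nat.Coprime.coprime_dvd_left (orderOf_pow_dvd n) hx
  have hy4 : x ^ n ∈ Subgroup.centralizer (K : Set G) :=
    gamma hH hK (le_trans hKX hXN) hC1 hy1 hy2 hy3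
  -- the quotient
  set NK := Subgroup.normalizer (K : Set G) with hNK
  set CK := (Subgroup.centralizer (K : Set G)).subgroupOf NK with hCK
  haveI : CK.Normal := inferInstance
  set xh : NK ⧸ CK := QuotientGroup.mk' CK ⟨x, hxN⟩ with hxh
  have hxh1 : xh ≠ 1 := by
    intro h1
    rw [hxh, QuotientGroup.mk'_apply, QuotientGroup.eq_one_iff, hCK, Subgroup.mem_subgroupOf] at h1
    exact hxC h1
  have hxhn : xh ^ n = 1 := by
    rw [hxh, ← map_pow, QuotientGroup.mk'_apply, QuotientGroup.eq_one_iff, hCK,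
      Subgroup.mem_subgroupOf]
    simpa using hy4
  have ho1 : orderOf xh ∣ n := orderOf_dvd_of_pow_eq_one hxhn
  have ho2 : orderOf xh ∣ orderOf x := by
    have h1 : orderOf xh ∣ orderOf (⟨x, hxN⟩ : NK) := orderOf_map_dvd _ _
    rwa [← Subgroup.orderOf_coe] at h1
  have ho3 : (orderOf xh).Coprime (p ^ a) :=
    Nat.Coprime.pow_right a (Nat.Coprime.coprime_dvd_left ho2 hx)
  have ho4 : orderOf xh ∣ q ^ b := ho3.dvd_of_dvd_mul_left ho1
  obtain ⟨j, hj, hjeq⟩ := (Nat.dvd_prime_pow hq.out).mp ho4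
  have hj0 : j ≠ 0 := by
    intro h0
    rw [h0, pow_zero, orderOf_eq_one_iff] at hjeq
    exact hxh1 hjeq
  have hqo : q ∣ orderOf xh := by
    rw [hjeq]; exact dvd_pow_self q hj0
  have hcard : orderOf xh ∣ Nat.card (NK ⧸ CK) := orderOf_dvd_natCard xh
  have haut : aut K = Nat.card (NK ⧸ CK) := by
    unfold aut Subgroup.relIndex
    rw [Subgroup.index_eq_card]
  rw [haut]
  exact hqo.trans hcard

/-- Claim C2. -/
theorem c2 [Finite G] {p q : ℕ} [Fact p.Prime] [hq : Fact q.Prime] (hpq : p ≠ q)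
    {H X1 : Subgroup G} (hH : IsPGroup p H) (hHX : H ≤ X1)
    (hCX : Subgroup.centralizer (H : Set G) ≤ X1)
    (hXN : X1 ≤ Subgroup.normalizer (H : Set G)) {a b : ℕ}
    (hidx : (Subgroup.centralizer (H : Set G)).relIndex X1 = p ^ a * q ^ b) (hb : b ≠ 0) :
    ¬ Cfsg.HasNormalPComplement p ↥X1 := by
  intro hnpc
  obtain ⟨M', hM'n, hpM', k, hk⟩ := L0.HasNormalPComplement.exists_normal hnpc
  set M := M'.map X1.subtype with hM
  have hMX : M ≤ X1 := Subgroup.map_subtype_le _
  have hcardM : Nat.card M = Nat.card M' :=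
    Subgroup.card_map_of_injective X1.subtype_injective
  have hdisj : M ⊓ H = ⊥ := by
    apply (Subgroup.disjoint_of_coprime_natCard ?_).eq_bot
    obtain ⟨j, hj⟩ := IsPGroup.iff_card.mp hH
    rw [hj, hcardM]
    exact Nat.Coprime.pow_right j
      ((Nat.Prime.coprime_iff_not_dvd Fact.out).mpr hpM').symm
  have hMC : M ≤ Subgroup.centralizer (H : Set G) := by
    rintro _ ⟨m, hm, rfl⟩
    rw [Subgroup.mem_centralizer_iff]
    intro h hh
    have hmN : (m : G) ∈ Subgroup.normalizer (H : Set G) := hXN m.2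
    have h1 : (m : G) * h * (m : G)⁻¹ * h⁻¹ ∈ M ⊓ H := by
      refine ⟨?_, ?_⟩
      · have e : (m : G) * h * (m : G)⁻¹ * h⁻¹ = (m : G) * (h * (m : G)⁻¹ * h⁻¹) := by group
        rw [e]
        have h2 : (⟨h, hHX hh⟩ : X1) * m⁻¹ * (⟨h, hHX hh⟩ : X1)⁻¹ ∈ M' :=
          hM'n.conj_mem _ (M'.inv_mem hm) _
        have h3 : m * ((⟨h, hHX hh⟩ : X1) * m⁻¹ * (⟨h, hHX hh⟩ : X1)⁻¹) ∈ M' := M'.mul_mem hm h2
        exact ⟨_, h3, by simp⟩
      · exact H.mul_mem ((Subgroup.mem_normalizer_iff.mp hmN h).mp hh) (H.inv_mem hh)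
    rw [hdisj, Subgroup.mem_bot] at h1
    have h2 : (m : G) * h * (m : G)⁻¹ = h := mul_inv_eq_one.mp h1
    show h * X1.subtype m = X1.subtype m * h
    simp only [Subgroup.coe_subtype]
    calc h * (m : G) = ((m : G) * h * (m : G)⁻¹) * m := by rw [h2]
      _ = m * h := by group
  have hMidx : M.relIndex X1 = p ^ k := by
    have : M.subgroupOf X1 = M' := by
      rw [hM]
      exact Subgroup.comap_map_eq_self_of_injective X1.subtype_injective M'
    unfold Subgroup.relIndex
    rw [this, hk]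
  have h1 : M.relIndex (Subgroup.centralizer (H : Set G)) *
      (Subgroup.centralizer (H : Set G)).relIndex X1 = M.relIndex X1 :=
    Subgroup.relIndex_mul_relIndex _ _ _ hMC hCX
  rw [hidx, hMidx] at h1
  have h2 : q ∣ p ^ k := by
    rw [← h1]
    exact Dvd.dvd.mul_left (Dvd.dvd.mul_left (dvd_pow_self q hb) _) _
  have h3 : q ∣ p := hq.out.dvd_of_dvd_pow h2
  exact hpq ((Nat.prime_dvd_prime_iff_eq hq.out Fact.out).mp h3).symm

/-- Claim C3: for `p = 2` the group `X1` is `S₄`-free. -/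
theorem c3 [Finite G] {q : ℕ} [hq : Fact q.Prime] (hq2 : q ≠ 2) (hq3 : q ≠ 3)
    {H X1 : Subgroup G} (hH : IsPGroup 2 H)
    (hC1 : ∀ R : Subgroup G, IsPGroup 2 R → R ≤ Subgroup.centralizer (H : Set G) → R ≤ H)
    (hXN : X1 ≤ Subgroup.normalizer (H : Set G)) {a b : ℕ}
    (hidx : (Subgroup.centralizer (H : Set G)).relIndex X1 = 2 ^ a * q ^ b) :
    ¬ Cfsg.Involves (Equiv.Perm (Fin 4)) ↥X1 := by
  haveI : Fact (Nat.Prime 2) := ⟨Nat.prime_two⟩
  apply Cfsg.Agent.Lib.H11.AutQ.not_involves_sfour_of_three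
  intro T hT y hy ⟨k, hk⟩
  set C := Subgroup.centralizer (H : Set G) with hCdef
  set n := 2 ^ a * q ^ b with hn
  set TG := T.map X1.subtype with hTG
  have hXC : X1 ≤ Subgroup.normalizer (C : Set G) :=
    le_trans hXN (normalizer_le_normalizer_centralizer H)
  have hoy : orderOf (y : G) = 3 ^ k := by rw [Subgroup.orderOf_coe, hk]
  have hcop : n.Coprime (orderOf (y : G)) := by
    rw [hoy, hn]
    apply Nat.Coprime.pow_right
    apply Nat.Coprime.mul_left
    · exact Nat.Coprime.pow_left a (by norm_num)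
    · exact Nat.Coprime.pow_left b ((Nat.coprime_primes hq.out Nat.prime_three).mpr hq3)
  have hy1 : (y : G) ^ n ∈ C := by
    have := pow_relIndex_mem hXC y.2
    rwa [hidx] at this
  have hyC : (y : G) ∈ C := by
    obtain ⟨m, hm⟩ := exists_pow_eq_self_of_coprime hcop
    rw [← hm]
    exact Subgroup.pow_mem _ hy1 m
  have hyN : (y : G) ∈ Subgroup.normalizer (TG : Set G) :=
    Subgroup.le_normalizer_map X1.subtype ⟨y, hy, rfl⟩
  have hy2 : (orderOf (y : G)).Coprime 2 := by
    rw [hoy]; exact Nat.Coprime.pow_left k (by norm_num)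
  have hTGX : TG ≤ X1 := Subgroup.map_subtype_le _
  have hfin : (y : G) ∈ Subgroup.centralizer (TG : Set G) :=
    gamma hH (hT.map _) (le_trans hTGX hXN) hC1 hyC hyN hy2
  rw [Subgroup.mem_centralizer_iff]
  intro t ht
  apply Subtype.ext
  have := (Subgroup.mem_centralizer_iff.mp hfin) (t : G) ⟨t, ht, rfl⟩
  simpa using this

/-- transport of a characteristic subgroup of a Sylow subgroup of `↥X1` to the ambient group. -/
theorem transport_char {X1 P1 : Subgroup G} (hPX : P1 ≤ X1) (S : Subgroup ↥X1)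
    (hS : S = P1.subgroupOf X1) (K : Subgroup ↥S) [hK : K.Characteristic] :
    (K.map S.subtype).map X1.subtype ≤ P1 ∧
      Subgroup.normalizer (P1 : Set G) ≤
        Subgroup.normalizer (((K.map S.subtype).map X1.subtype : Subgroup G) : Set G) := by
  subst hS
  set e : ↥(P1.subgroupOf X1) ≃* ↥P1 := Subgroup.subgroupOfEquivOfLe hPX with he
  set C : Subgroup ↥P1 := K.map e.toMonoidHom with hC
  have hcomp : P1.subtype.comp e.toMonoidHom = X1.subtype.comp (P1.subgroupOf X1).subtype := by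
    ext g
    simp [he]
  have hmap : C.map P1.subtype = (K.map (P1.subgroupOf X1).subtype).map X1.subtype := by
    rw [hC, Subgroup.map_map, Subgroup.map_map, hcomp]
  haveI hCchar : C.Characteristic := by
    rw [Subgroup.characteristic_iff_map_eq]
    intro φ
    have h1 := Subgroup.characteristic_iff_map_eq.mp hK ((e.trans φ).trans e.symm)
    rw [hC, Subgroup.map_map]
    conv_rhs => rw [← h1]
    rw [Subgroup.map_map]
    congr 1
  constructor
  · rw [← hmap]
    exact Subgroup.map_subtype_le _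
  · rw [← hmap]
    exact H1.normalizer_le_normalizer_map_of_characteristic C

theorem centralizer_map_conj (g : G) (H : Subgroup G) :
    Subgroup.centralizer ((H.map (MulAut.conj g).toMonoidHom : Subgroup G) : Set G) =
      (Subgroup.centralizer (H : Set G)).map (MulAut.conj g).toMonoidHom := by
  ext x
  rw [H10.mem_map_conj, Subgroup.mem_centralizer_iff, Subgroup.mem_centralizer_iff]
  constructor
  · intro hx h hh
    have h1 := hx (g * h * g⁻¹) (H10.conj_mem_map_conj hh)
    have e1 : h * (g⁻¹ * x * g) = g⁻¹ * ((g * h * g⁻¹) * x) * g := by group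
    have e2 : g⁻¹ * x * g * h = g⁻¹ * (x * (g * h * g⁻¹)) * g := by group
    rw [e1, e2, h1]
  · intro hx y hy
    rw [SetLike.mem_coe, H10.mem_map_conj] at hy
    have h1 := hx _ hy
    have e1 : y * x = g * ((g⁻¹ * y * g) * (g⁻¹ * x * g)) * g⁻¹ := by group
    have e2 : x * y = g * ((g⁻¹ * x * g) * (g⁻¹ * y * g)) * g⁻¹ := by group
    rw [e1, e2, h1]

theorem aut_map_conj (g : G) (H : Subgroup G) :
    aut (H.map (MulAut.conj g).toMonoidHom) = aut H := by
  unfold aut
  rw [centralizer_map_conj, H10.normalizer_map_conj, H10.relIndex_map_conj]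

/-- **Main theorem** (S4411). -/
theorem main [Finite G] (p q : ℕ) [hp : Fact p.Prime] [hq : Fact q.Prime] (hpq : p ≠ q)
    (h23 : ¬ ((p = 2 ∧ q = 3) ∨ (p = 3 ∧ q = 2)))
    (hsol : ∀ H : Subgroup G, IsPGroup p ↥H →
      Cfsg.IsPSolvable p (↥(Subgroup.normalizer (H : Set G)) ⧸
        (Subgroup.centralizer (H : Set G)).subgroupOf (Subgroup.normalizer (H : Set G))))
    (H₀ : Subgroup G) (hH₀ : IsPGroup p ↥H₀) (hq₀ : q ∣ aut H₀) (Gp : Sylow p G) :
    ∃ K : Subgroup G, K ≤ (Gp : Subgroup G) ∧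
      (Gp : Subgroup G) ≤ Subgroup.normalizer (K : Set G) ∧ q ∣ aut K := by
  classical
  -- extremal member of the family
  obtain ⟨H, ⟨hH, hqH⟩, hmax1, hmax2⟩ := L0.exists_extremal
    {Q : Subgroup G | IsPGroup p Q ∧ q ∣ aut Q} ⟨H₀, hH₀, hq₀⟩ (ev p)
  have hC1 : ∀ R : Subgroup G, IsPGroup p R → R ≤ Subgroup.centralizer (H : Set G) → R ≤ H :=
    c1 hH hqH (fun Q hQ hqQ => hmax1 Q ⟨hQ, hqQ⟩) (fun Q hQ hqQ he => hmax2 Q ⟨hQ, hqQ⟩ he)
  set N := Subgroup.normalizer (H : Set G) with hNdef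
  set C := Subgroup.centralizer (H : Set G) with hCdef
  have hCN : C ≤ N := Subgroup.centralizer_le_normalizer _
  have hHN : H ≤ N := Subgroup.le_normalizer
  haveI hCn : (C.subgroupOf N).Normal := inferInstance
  have hNbar : Cfsg.IsPSolvable p (↥N ⧸ C.subgroupOf N) := hsol H hH
  have hcardN : Nat.card (↥N ⧸ C.subgroupOf N) = aut H := by
    unfold aut Subgroup.relIndex
    rw [Subgroup.index_eq_card]
  have hqN : q ∣ Nat.card (↥N ⧸ C.subgroupOf N) := by rw [hcardN]; exact hqH
  -- the Hall subgroup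
  obtain ⟨Pbar⟩ : Nonempty (Sylow p (↥N ⧸ C.subgroupOf N)) := inferInstance
  obtain ⟨Y, hPY, hYcard⟩ := Cfsg.Agent.Lib.H8.AutQ.exists_hall_pq q hpq hNbar Pbar
  set a := (Nat.card (↥N ⧸ C.subgroupOf N)).factorization p with ha
  set b := (Nat.card (↥N ⧸ C.subgroupOf N)).factorization q with hb
  have hb0 : b ≠ 0 :=
    (Nat.Prime.factorization_pos_of_dvd hq.out Nat.card_pos.ne' hqN).ne'
  have hsurj : Function.Surjective (QuotientGroup.mk' (C.subgroupOf N)) :=
    QuotientGroup.mk'_surjective _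
  set X1' : Subgroup ↥N := Y.comap (QuotientGroup.mk' (C.subgroupOf N)) with hX1'
  set X1 : Subgroup G := X1'.map N.subtype with hX1
  have hX1N : X1 ≤ N := Subgroup.map_subtype_le _
  have hX1sub : X1.subgroupOf N = X1' :=
    Subgroup.comap_map_eq_self_of_injective N.subtype_injective X1'
  have hCX1' : C.subgroupOf N ≤ X1' := by
    intro c hc
    rw [hX1', Subgroup.mem_comap, QuotientGroup.mk'_apply, (QuotientGroup.eq_one_iff c).mpr hc]
    exact Y.one_mem
  have hCX1 : C ≤ X1 := by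
    intro c hc
    exact ⟨⟨c, hCN hc⟩, hCX1' (Subgroup.mem_subgroupOf.mpr hc), rfl⟩
  have hidx : C.relIndex X1 = p ^ a * q ^ b := by
    rw [← hYcard, ← Subgroup.relIndex_subgroupOf hX1N, hX1sub]
    have h2 := Subgroup.relIndex_ker (QuotientGroup.mk' (C.subgroupOf N)) (K := X1')
    rw [hX1', Subgroup.map_comap_eq_self_of_surjective hsurj, QuotientGroup.ker_mk'] at h2
    exact h2
  have hHX1 : H ≤ X1 := by
    intro h hh
    refine ⟨⟨h, hHN hh⟩, ?_, rfl⟩
    rw [hX1', SetLike.mem_coe, Subgroup.mem_comap]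
    apply hPY
    haveI : ((H.subgroupOf N).map (QuotientGroup.mk' (C.subgroupOf N))).Normal :=
      Subgroup.Normal.map Subgroup.normal_in_normalizer _ hsurj
    have hp' : IsPGroup p ((H.subgroupOf N).map (QuotientGroup.mk' (C.subgroupOf N))) :=
      (hH.comap_subtype).map _
    exact L0.normal_le_sylow hp' Pbar ⟨⟨h, hHN hh⟩, Subgroup.mem_subgroupOf.mpr hh, rfl⟩
  -- the Sylow subgroup P1 of X1
  obtain ⟨P1, hHP1, hP1X, hP1, hP1i⟩ := H10.exists_sylowIn hH hHX1
  have hP1N : P1 ≤ N := le_trans hP1X hX1N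
  have hX1iN : ¬ p ∣ X1.relIndex N := by
    unfold Subgroup.relIndex
    rw [hX1sub, hX1', Subgroup.index_comap_of_surjective _ hsurj]
    intro hd
    exact Pbar.not_dvd_index (hd.trans (Subgroup.index_dvd_of_le hPY))
  have hP1iN : ¬ p ∣ P1.relIndex N := by
    rw [← Subgroup.relIndex_mul_relIndex P1 X1 N hP1X hX1N]
    intro hd
    rcases (Nat.Prime.dvd_mul hp.out).mp hd with h | h
    · exact hP1i h
    · exact hX1iN h
  -- X1 is not NPC, and is S4-free if p = 2
  have hnpc : ¬ Cfsg.HasNormalPComplement p ↥X1 := c2 hpq hH hHX1 hCX1 hX1N hidx hb0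
  have hgood : p ≠ 2 ∨ ¬ Cfsg.Involves (Equiv.Perm (Fin 4)) ↥X1 := by
    by_cases hp2 : p = 2
    · right
      subst hp2
      have hq2 : q ≠ 2 := fun h => hpq h.symm
      have hq3 : q ≠ 3 := fun h => h23 (Or.inl ⟨rfl, h⟩)
      exact c3 hq2 hq3 hH hC1 hX1N hidx
    · exact Or.inl hp2
  -- Thompson's refinement
  have hP1' : IsPGroup p (P1.subgroupOf X1) := hP1.comap_subtype
  set S : Sylow p ↥X1 := hP1'.toSylow hP1i with hSdef
  have hS : (S : Subgroup ↥X1) = P1.subgroupOf X1 := hP1'.toSylow_coe hP1i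
  obtain ⟨K, hKchar, x, hxN, hxC, hx⟩ := Cfsg.Agent.Lib.H5.AutQ.exists_char_not_pgroup hgood S hnpc
  set K2 : Subgroup G := (K.map (S : Subgroup ↥X1).subtype).map X1.subtype with hK2
  obtain ⟨hK2P, hNK2⟩ := transport_char hP1X (S : Subgroup ↥X1) hS K
  have hK2p : IsPGroup p K2 := hP1.to_le hK2P
  have hxN' : (x : G) ∈ Subgroup.normalizer (K2 : Set G) :=
    Subgroup.le_normalizer_map X1.subtype ⟨x, hxN, rfl⟩
  have hxC' : (x : G) ∉ Subgroup.centralizer (K2 : Set G) := by
    intro hc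
    apply hxC
    rw [Subgroup.mem_centralizer_iff]
    intro k hk
    apply Subtype.ext
    have := (Subgroup.mem_centralizer_iff.mp hc) (k : G) ⟨k, hk, rfl⟩
    simpa using this
  have hx' : (orderOf (x : G)).Coprime p := by rwa [Subgroup.orderOf_coe]
  have hqK2 : q ∣ aut K2 :=
    c4 hH hC1 hX1N hidx hK2p (le_trans hK2P hP1X) x.2 hxN' hxC' hx'
  -- P1 is a Sylow subgroup of G
  obtain ⟨P, hP1P⟩ := hP1.exists_le_sylow
  have hevH : ev p H = (Nat.card P1).factorization p := by
    unfold ev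
    rw [factorization_of_sylowIn hP1N hP1iN]
  have hP1eq : P1 = (P : Subgroup G) := by
    by_contra hne
    have hlt : P1 < (P : Subgroup G) := lt_of_le_of_ne hP1P hne
    have hL := H10.lt_inf_normalizer_of_lt P.2 hlt
    set L := (P : Subgroup G) ⊓ Subgroup.normalizer (P1 : Set G) with hLdef
    have hLp : IsPGroup p L := P.2.to_le inf_le_left
    obtain ⟨j, hj⟩ := IsPGroup.iff_card.mp hLp
    obtain ⟨i, hi⟩ := IsPGroup.iff_card.mp hP1
    have hLK2 : L ≤ Subgroup.normalizer (K2 : Set G) := le_trans inf_le_right hNK2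
    have h1 : j ≤ ev p K2 := L0.le_factorization_of_isPGroup hLK2 hj
    have h2 : ev p H = i := by
      rw [hevH, hi, Nat.Prime.factorization_pow hp.out]
      simp
    have h3 : Nat.card P1 < Nat.card L := by
      have hle : Nat.card P1 ≤ Nat.card L := Subgroup.card_le_of_le hL.le
      rcases lt_or_eq_of_le hle with h | h
      · exact h
      · exact absurd (Subgroup.eq_of_le_of_card_ge hL.le h.ge) hL.ne
    rw [hi, hj] at h3
    have h4 : i < j := (Nat.pow_lt_pow_iff_right hp.out.one_lt).mp h3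
    have h5 := hmax1 K2 ⟨hK2p, hqK2⟩
    omega
  -- conclusion
  obtain ⟨g, hg⟩ := MulAction.exists_smul_eq G P Gp
  have hGp : (Gp : Subgroup G) = (P : Subgroup G).map (MulAut.conj g).toMonoidHom := by
    rw [← hg, H10.coe_smul_sylow_eq_map]
  refine ⟨H.map (MulAut.conj g).toMonoidHom, ?_, ?_, ?_⟩
  · rw [hGp, ← hP1eq]
    exact Subgroup.map_mono hHP1
  · rw [hGp, ← hP1eq, H10.normalizer_map_conj]
    exact Subgroup.map_mono hP1N
  · rw [aut_map_conj]
    exact hqH

end Cfsg.Agent.Lib.H23.AutQ
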