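import Mathlib
import Cfsg.Agent.Lib.H7.BG124
import Cfsg.Agent.Lib.H16.BG11j

/-!
# BG section 12: the `α`-step (helper16's request, board #1121 item (2))

If `M_α ≠ 1` centralizes the elementary abelian `A ≤ M` of order `p²`, then `A` lies in a unique
maximal subgroup (namely `M`), hence `N_G(X) ≤ M` for every `1 ≠ X ≤ A`.
-/

set_option autoImplicit false
set_option linter.style.haveILetI false
set_option linter.unusedSectionVars false
open Cfsg
open Cfsg.Agent.Lib.H16.BG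
open Cfsg.Agent.Lib.H7.BG7
open Cfsg.Agent.Lib.H7.BG10
open Cfsg.Agent.Lib.H20.BGS
open Cfsg.Agent.Lib.H20.BGT
open Cfsg.Agent.Lib.H8.BG12
open Cfsg.Agent.Lib.H19 (IsPiCard)
open Cfsg.Agent.Lib.H7.BG124

namespace Cfsg.Agent.Lib.H23.BGAlpha

universe u
variable {G : Type u} [Group G] [Finite G]

/-- `A ≤ M` elementary abelian of order `p²` centralized by `M_α ≠ 1` lies in a unique maximal
subgroup. -/
theorem inUniqueMaximal_of_alphaCore_ne_bot (hG : IsMinSimpleOddOrder G) {M : Subgroup G}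
    (hM : IsCoatom M) {p : ℕ} [hp : Fact p.Prime] {A : Subgroup G} (hAM : A ≤ M)
    (hAe : IsElementaryAbelian p A) (hAc : Nat.card A = p ^ 2) (hα : alphaCore M ≠ ⊥)
    (hαA : alphaCore M ≤ Subgroup.centralizer (A : Set G)) : InUniqueMaximal A := by
  have hU := Cfsg.Agent.Lib.H20.BGT.uniq3 hG
  have hpp := hp.out
  have hαM : alphaCore M ≤ M := piCoreOf_le (alpha M) M
  have hαπ : IsPiCard (alpha M) (Nat.card (alphaCore M)) := piCoreOf_isPiCard (alpha M) M
  have hc1 : Nat.card (alphaCore M) ≠ 1 := fun h => hα (Subgroup.card_eq_one.1 h)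
  obtain ⟨q, hq, hqd⟩ := Nat.exists_prime_and_dvd hc1
  haveI : Fact q.Prime := ⟨hq⟩
  have hqα : q ∈ alpha M := hαπ q hq hqd
  obtain ⟨T, hT⟩ := SylIn.exists_sylIn q (alphaCore M)
  have hαH := (alpha_core_hall hG hU hM).1
  have hTM : SylIn q T M := by
    refine ⟨hT.le.trans hαM, hT.isPGroup, fun hd => ?_⟩
    rw [← Subgroup.relIndex_mul_relIndex T (alphaCore M) M hT.le hαM, Nat.Prime.dvd_mul hq] at hd
    rcases hd with hd | hd
    · exact hT.2.2 hd
    · exact hαH.2.2 q hq hqα hd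
  have hrT : ¬ PRankLE q 2 ↥T := fun h => hqα.2 (pRankLE_of_sylIn hTM h)
  have hr3 : ¬ PRankLE q 2 ↥(Subgroup.centralizer (A : Set G)) :=
    fun h => hrT (pRankLE_of_le (hT.le.trans hαA) h)
  have hAt : A ≠ ⊤ := by
    rintro rfl
    exact hM.1 (top_le_iff.1 hAM)
  have hA1' : ¬ RankLE 1 ↥A := by
    intro h
    refine not_pRankLE_of_elemAb le_rfl hAe ?_ (h p hpp)
    rw [hAc, pow_one]
    nlinarith [hpp.one_lt]
  exact Cfsg.Agent.S1403.result hG A hAt hA1' (Or.inr (fun h => hr3 (h q hq)))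

/-- **ALPHA step** (board #1121 (2)): if `M_α ≠ 1` centralizes `A`, then `N_G(X) ≤ M` for every
nontrivial `X ≤ A`. -/
theorem normalizer_le_of_alphaCore_ne_bot (hG : IsMinSimpleOddOrder G) {M : Subgroup G}
    (hM : IsCoatom M) {p : ℕ} [hp : Fact p.Prime] {A : Subgroup G} (hAM : A ≤ M)
    (hAe : IsElementaryAbelian p A) (hAc : Nat.card A = p ^ 2) (hα : alphaCore M ≠ ⊥)
    (hαA : alphaCore M ≤ Subgroup.centralizer (A : Set G)) {X : Subgroup G} (hXA : X ≤ A)
    (hX1 : X ≠ ⊥) : Subgroup.normalizer (X : Set G) ≤ M := by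
  have hAU := inUniqueMaximal_of_alphaCore_ne_bot hG hM hAM hAe hAc hα hαA
  have hXp : IsPGroup p X := (isPGroup_of_elemAb' hAe).to_le hXA
  have hNt : Subgroup.normalizer (X : Set G) ≠ ⊤ := normalizer_ne_top_of_isPGroup hG hXp hX1
  exact (uniq_of_inUniqueMaximal hM hAM hAU (le_normalizer_of_le_comm hAe.1 hXA) hNt).1

/-- Variant also giving uniqueness of `M` over `N_G(X)`. -/
theorem normalizer_uniq_of_alphaCore_ne_bot (hG : IsMinSimpleOddOrder G) {M : Subgroup G}
    (hM : IsCoatom M) {p : ℕ} [hp : Fact p.Prime] {A : Subgroup G} (hAM : A ≤ M)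
    (hAe : IsElementaryAbelian p A) (hAc : Nat.card A = p ^ 2) (hα : alphaCore M ≠ ⊥)
    (hαA : alphaCore M ≤ Subgroup.centralizer (A : Set G)) {X : Subgroup G} (hXA : X ≤ A)
    (hX1 : X ≠ ⊥) : Subgroup.normalizer (X : Set G) ≤ M ∧
      ∀ L : Subgroup G, IsCoatom L → Subgroup.normalizer (X : Set G) ≤ L → L = M := by
  have hAU := inUniqueMaximal_of_alphaCore_ne_bot hG hM hAM hAe hAc hα hαA
  have hXp : IsPGroup p X := (isPGroup_of_elemAb' hAe).to_le hXA
  have hNt : Subgroup.normalizer (X : Set G) ≠ ⊤ := normalizer_ne_top_of_isPGroup hG hXp hX1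
  exact uniq_of_inUniqueMaximal hM hAM hAU (le_normalizer_of_le_comm hAe.1 hXA) hNt

end Cfsg.Agent.Lib.H23.BGAlpha
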