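import Mathlib
import Cfsg.Prelude.Def_Blocks
import Cfsg.Agent.Lib.L0.PrincipalSection
import Cfsg.Agent.Lib.H23.BlockPrincipal
import Cfsg.Agent.Lib.H23.ContribR

/-!
# S4719, Part I, piece B3 (`exists_nonprincipal_induced`), exact signature of
`tools/blueprints/S4719_I_sigs.lean` (helper23)

A non-principal block of `C_G(u)`, `u` a `p`-element, induces a non-principal block of `G` of
defect at least as large: `inducedBlockDefined_centralizer` + `blockDefect_le_of_induced` +
`third_main`.
-/

set_option autoImplicit false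

namespace Cfsg.Agent.Lib.H23.BI

open Cfsg Cfsg.Agent.Lib.H23

variable {G : Type*} [Group G] [Finite G] {p : ℕ} [Fact p.Prime] {M : Ideal AlgInt}

/-- (B3 IND) a non-principal block of `C_G(u)`, `u` a `p`-element, induces a non-principal block
of `G` of defect at least as large. -/
theorem exists_nonprincipal_induced (hM : IsPModular p M) {u : G} (hu : ∃ k : ℕ, orderOf u = p ^ k)
    (b : Set (IrrCharacter (Subgroup.centralizer ({u} : Set G)))) (hb : IsPBlock M b)
    (hnp : b ≠ principalBlock M (Subgroup.centralizer ({u} : Set G))) :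
    ∃ B : Set (IrrCharacter G), IsPBlock M B ∧ B ≠ principalBlock M G ∧
      blockDefect p b ≤ blockDefect p B := by
  classical
  let _ : Fintype G := Fintype.ofFinite G
  let _ : Fintype (Subgroup.centralizer ({u} : Set G)) := Fintype.ofFinite _
  obtain ⟨B, hind⟩ :=
    Cfsg.Agent.Lib.L0.PrincipalSection.inducedBlockDefined_centralizer hu rfl hM b hb
  refine ⟨B, hind.2.1, ?_, ?_⟩
  · intro hB
    exact hnp ((third_main hM _ hind).1 hB)
  · obtain ⟨θ, hθ⟩ := hind.1
    obtain ⟨ζ, hζ⟩ := hind.2.1
    subst hθ
    subst hζ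
    exact Contrib.blockDefect_le_of_induced _ hM hind

end Cfsg.Agent.Lib.H23.BI
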