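import Mathlib
import Cfsg.Prelude.Def_Blocks
import Cfsg.Agent.S4718
import Cfsg.Agent.Lib.H1.BIDEFS

/-!
# S4719, FINAL helper F0 (`row_zero`), exact signature of `tools/blueprints/S4719_I_sigs.lean`
(helper23)

The row `0` is the landed S4718: `blockDefect 2 B < 0` is impossible, so every block is principal.
-/

set_option autoImplicit false

universe u

namespace Cfsg.Agent.Lib.H23.BI

open Cfsg Cfsg.Agent.Lib.H1.BI

/-- (F0) the row `0` is the landed S4718 (`blockDefect B < 0` is impossible). -/
theorem row_zero : Row.{u} 0 := by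
  intro a
  obtain ⟨N, hN⟩ := Cfsg.Agent.S4718.result.{u} 2 a
  refine ⟨N, fun G _ _ M P hyp => ?_⟩
  obtain ⟨hM, hP, hB, -⟩ := hyp
  refine hN G M hM ?_ ?_
  · have h1 := P.card_eq_multiplicity
    rw [hP] at h1
    exact (Nat.pow_right_injective (le_refl 2) h1).symm
  · intro B hB'
    by_contra h
    exact absurd (hB B hB' h) (Nat.not_lt_zero _)

end Cfsg.Agent.Lib.H23.BI
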