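import Cfsg.Agent.Lib.H10.BUDefs

/-!
# S1857 (Bender uniqueness, symmetric case): piece P7 COMPTRANSFER

If `E(M₁) ≤ M₂`, `E(M₂) ≤ M₁` and `E(M₁)` centralizes `F(M₂)`, then `E(M₁) ≤ E(M₂)`.
(Variant of `PrimPair.exists_component_map_eq` / `LayG_le_LayG`.)
-/

set_option autoImplicit false

namespace Cfsg.Agent.Lib.H23.BU
open Cfsg Cfsg.Agent.Lib.H7 Cfsg.Agent.Lib.H7.PrimPair Cfsg.Agent.Lib.H10.BU

universe u
variable {G : Type u} [Group G]

/-- `F*(M) = E(M) F(M)`, in `G`. -/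
theorem p7_FsG_eq_sup (M : Subgroup G) : FsG M = LayG M ⊔ FitG M := by
  show (generalizedFittingSubgroup ↥M).map M.subtype = _
  unfold generalizedFittingSubgroup
  rw [Subgroup.map_sup]

/-- Under the hypotheses of P7, every component of `M₁` is a component of `M₂`. -/
theorem p7_exists_component_map_eq [Finite G] {M₁ M₂ : Subgroup G} (h₁ : LayG M₁ ≤ M₂)
    (h₂ : LayG M₂ ≤ M₁) (hc : LayG M₁ ≤ Subgroup.centralizer (FitG M₂ : Set G))
    {K : Subgroup ↥M₁} (hK : IsComponent K) :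
    ∃ K' : Subgroup ↥M₂, IsComponent K' ∧ K'.map M₂.subtype = K.map M₁.subtype := by
  by_contra hcon
  push Not at hcon
  have hKE : K.map M₁.subtype ≤ LayG M₁ := Subgroup.map_mono (component_le_layer hK)
  have hKL : K.map M₁.subtype ≤ M₁ ⊓ M₂ := le_inf (Subgroup.map_subtype_le _) (hKE.trans h₁)
  have hKc : IsComponent ((K.map M₁.subtype).subgroupOf (M₁ ⊓ M₂)) :=
    isComponent_subgroupOf_of_le inf_le_left hK hKL
  -- K centralizes E(M₂)
  have hE : LayG M₂ ≤ Subgroup.centralizer ((K.map M₁.subtype : Subgroup G) : Set G) := by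
    show (layer ↥M₂).map M₂.subtype ≤ _
    rw [Subgroup.map_le_iff_le_comap]
    apply sSup_le
    intro K' hK'
    rw [← Subgroup.map_le_iff_le_comap]
    have hK'E : K'.map M₂.subtype ≤ LayG M₂ := Subgroup.map_mono (component_le_layer hK')
    have hK'L : K'.map M₂.subtype ≤ M₁ ⊓ M₂ :=
      le_inf (hK'E.trans h₂) (Subgroup.map_subtype_le _)
    have hK'c : IsComponent ((K'.map M₂.subtype).subgroupOf (M₁ ⊓ M₂)) :=
      isComponent_subgroupOf_of_le inf_le_right hK' hK'L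
    rcases eq_or_commutator_eq_bot_of_isComponent_subgroupOf hK'L hKL hK'c hKc with h | h
    · exact absurd h (hcon K' hK')
    · exact Subgroup.commutator_eq_bot_iff_le_centralizer.1 h
  -- K centralizes F(M₂) by hypothesis
  have hF : FitG M₂ ≤ Subgroup.centralizer ((K.map M₁.subtype : Subgroup G) : Set G) := by
    rw [Subgroup.le_centralizer_iff]
    exact hKE.trans hc
  -- hence K ≤ Z(F*(M₂)) is abelian
  have hKC : K.map M₁.subtype ≤ Subgroup.centralizer (FsG M₂ : Set G) := by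
    rw [Subgroup.le_centralizer_iff, p7_FsG_eq_sup]
    exact sup_le hE hF
  have hKF₂ : K.map M₁.subtype ≤ FsG M₂ :=
    (le_inf (hKL.trans inf_le_right) hKC).trans (inf_centralizer_FsG_le M₂)
  apply quasisimple_not_solvable hK.2
  have hcomm : ∀ a b : ↥K, a * b = b * a := by
    intro a b
    apply Subtype.ext
    apply Subtype.ext
    have ha : ((a : ↥M₁) : G) ∈ K.map M₁.subtype := ⟨a, a.2, rfl⟩
    have hb : ((b : ↥M₁) : G) ∈ K.map M₁.subtype := ⟨b, b.2, rfl⟩
    exact (Subgroup.mem_centralizer_iff.1 (hKC hb) _ (hKF₂ ha))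
  let _ : CommGroup ↥K := { (inferInstance : Group ↥K) with mul_comm := hcomm }
  infer_instance

/-- **P7 COMPTRANSFER** (exact signature of `tools/blueprints/S1857_sigs.lean`). -/
theorem LayG_le_LayG_of_centralizes [Finite G] {M₁ M₂ : Subgroup G} (h₁ : LayG M₁ ≤ M₂)
    (h₂ : LayG M₂ ≤ M₁) (hc : LayG M₁ ≤ Subgroup.centralizer (FitG M₂ : Set G)) :
    LayG M₁ ≤ LayG M₂ := by
  show (layer ↥M₁).map M₁.subtype ≤ _
  rw [Subgroup.map_le_iff_le_comap]
  apply sSup_le
  intro K hK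
  rw [← Subgroup.map_le_iff_le_comap]
  obtain ⟨K', hK', hKK'⟩ := p7_exists_component_map_eq h₁ h₂ hc hK
  rw [← hKK']
  exact Subgroup.map_mono (component_le_layer hK')

end Cfsg.Agent.Lib.H23.BU
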