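import Cfsg.Agent.Lib.H23.RelMToM
import Cfsg.Agent.Lib.H10.PGroup

/-!
# Isaacs 11.32 (the lemma behind Berger's theorem), helper23

`L ⊲ G`, `L ≤ H`, `H` maximal, `G/L` solvable, `ϑ ∈ Irr(H)` with `ϑ_L` irreducible and
`χ = ϑ^G` irreducible.  Then `χ_M` is not homogeneous for some `M ⊲ G` containing `L`.
-/

set_option autoImplicit false

namespace Cfsg.Agent.Lib.H23

open Cfsg Cfsg.Agent.Lib.L0
open scoped ComplexConjugate commutatorElement

universe u

section General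

variable {G : Type*} [Group G] [Fintype G]

omit [Fintype G] in
/-- For a list of irreducible characters of `G`, the norm of the restriction of the sum to `Y`
is a natural number at least the length. -/
theorem exists_nat_le_classInner_restrict_list_sum (Y : Subgroup G) [Fintype Y]
    (l : List (G → ℂ)) (hl : ∀ ξ ∈ l, IsIrrCharacter G ξ) :
    ∃ k : ℕ, l.length ≤ k ∧
      classInner (fun y : Y => l.sum y) (fun y : Y => l.sum y) = k := by
  induction l with
  | nil =>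
    refine ⟨0, le_rfl, ?_⟩
    simp only [List.sum_nil, Pi.zero_apply, Nat.cast_zero]
    exact classInner_zero_left _
  | cons a l ih =>
    obtain ⟨k, hk, hk'⟩ := ih (fun ξ hξ => hl ξ (List.mem_cons_of_mem _ hξ))
    have ha : IsCharacter Y (fun y : Y => a y) :=
      isCharacter_restrict Y (isCharacter_of_irr (hl a (by simp)))
    have hlc : IsCharacter Y (fun y : Y => l.sum y) :=
      isCharacter_restrict Y (isCharacter_list_sum
        (fun ξ hξ => isCharacter_of_irr (hl ξ (List.mem_cons_of_mem _ hξ))))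
    obtain ⟨i, hi⟩ := classInner_char_char_nat ha ha
    obtain ⟨j₁, hj₁⟩ := classInner_char_char_nat ha hlc
    obtain ⟨j₂, hj₂⟩ := classInner_char_char_nat hlc ha
    have hi0 : i ≠ 0 := by
      rintro rfl
      rw [Nat.cast_zero] at hi
      have h0 := congrFun (classInner_self_eq_zero hi) 1
      have h3 : a 1 ≠ 0 := Cfsg.Agent.Lib.H24.irr_one_ne_zero ⟨a, hl a (by simp)⟩
      exact h3 h0
    refine ⟨i + j₁ + j₂ + k, by simp only [List.length_cons]; omega, ?_⟩
    have hsplit : (fun y : Y => (a :: l).sum y) = (fun y : Y => a y) + (fun y : Y => l.sum y) := by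
      funext y
      simp [List.sum_cons]
    rw [hsplit, classInner_add_left, classInner_add_right, classInner_add_right, hi, hj₁, hj₂,
      hk']
    push_cast
    ring

/-- A character with irreducible restriction to a subgroup is irreducible. -/
theorem isIrrCharacter_of_restrict_irr_berger (Y : Subgroup G) {α : G → ℂ} (hα : IsCharacter G α)
    (hY : IsIrrCharacter Y (fun y : Y => α y)) : IsIrrCharacter G α := by
  classical
  have : Fintype Y := Fintype.ofFinite Y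
  obtain ⟨l, hl, rfl⟩ := isCharacter_exists_irr_decomp hα
  obtain ⟨k, hk, hk'⟩ := exists_nat_le_classInner_restrict_list_sum Y l hl
  rw [irr_classInner_self hY] at hk'
  have hk1 : k = 1 := by exact_mod_cast hk'.symm
  match l, hl, hk, hY with
  | [], _, _, hY =>
    exfalso
    have h3 := Cfsg.Agent.Lib.H24.irr_one_ne_zero ⟨_, hY⟩
    simp at h3
  | [ξ], hl, _, _ =>
    simpa using hl ξ (by simp)
  | _ :: _ :: _, _, hk, _ =>
    exfalso
    simp only [List.length_cons] at hk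
    omega

/-- The isomorphism `N.subgroupOf H ≃* L` when `N ∩ H = L`. -/
def subgroupOfEquivOfInf {N H L : Subgroup G} (hLH : L ≤ H) (hLN : L ≤ N)
    (hinf : ∀ x, x ∈ N → x ∈ H → x ∈ L) : N.subgroupOf H ≃* L where
  toFun x := ⟨((x : H) : G), hinf _ (Subgroup.mem_subgroupOf.mp x.2) (x : H).2⟩
  invFun l := ⟨⟨(l : G), hLH l.2⟩, Subgroup.mem_subgroupOf.mpr (hLN l.2)⟩
  left_inv _ := rfl
  right_inv _ := rfl
  map_mul' _ _ := rfl

/-- Mackey substitute for `G = HN`: restriction to `N` of a function induced from `H`, paired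
with a `G`-invariant function on `N`. -/
theorem classInner_restrict_indFun_of_sup_eq_top (N : Subgroup G) [hN : N.Normal] [Fintype N]
    (H : Subgroup G) [Fintype H] (hHN : H ⊔ N = ⊤) (L : Subgroup G) [Fintype L] (hLH : L ≤ H)
    (hLN : L ≤ N) (hinf : ∀ x, x ∈ N → x ∈ H → x ∈ L) (θ : N → ℂ)
    (hinv : ∀ (g : G) (n : N), θ ⟨g * n * g⁻¹, hN.conj_mem (n : G) n.2 g⟩ = θ n)
    (ϑ : H → ℂ) :
    classInner (fun n : N => indFun H ϑ n) θ =
      classInner (fun l : L => ϑ ⟨(l : G), hLH l.2⟩) (fun l : L => θ ⟨(l : G), hLN l.2⟩) := by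
  classical
  have : Fintype (N.subgroupOf H) := Fintype.ofFinite _
  rw [classInner_restrict_indFun_invariant N θ hinv H ϑ, hHN, Subgroup.index_top, Nat.cast_one,
    one_mul, ← classInner_comp_equiv (subgroupOfEquivOfInf hLH hLN hinf)]
  rfl

/-- Norm bound: if `δ` is irreducible and `[α, δ] = e` then `∑ |α|² ≥ e² |D|`. -/
theorem sum_normSq_ge_of_classInner_irr (α δ : G → ℂ) (hδ : IsIrrCharacter G δ) (e : ℕ)
    (he : classInner α δ = e) :
    (e : ℝ) ^ 2 * Nat.card G ≤ ∑ g : G, ‖α g‖ ^ 2 := by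
  have hβδ : classInner (α - (e : ℂ) • δ) δ = 0 := by
    rw [sub_eq_add_neg, classInner_add_left, ← neg_smul, classInner_smul_left,
      irr_classInner_self hδ, he]
    ring
  have hδβ : classInner δ (α - (e : ℂ) • δ) = 0 := by
    rw [← classInner_conj_symm, hβδ, map_zero]
  have hα : α = (e : ℂ) • δ + (α - (e : ℂ) • δ) := by
    rw [add_sub_cancel]
  have h1 : classInner α α = (e : ℂ) ^ 2 + classInner (α - (e : ℂ) • δ) (α - (e : ℂ) • δ) := by
    conv_lhs => rw [hα]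
    rw [classInner_add_left, classInner_add_right, classInner_add_right, classInner_smul_left,
      classInner_smul_right, classInner_smul_left, classInner_smul_right,
      irr_classInner_self hδ, hβδ, hδβ, Complex.conj_natCast]
    ring
  rw [classInner_self_eq, classInner_self_eq] at h1
  have h2 : (Nat.card G : ℝ)⁻¹ * ∑ g : G, ‖α g‖ ^ 2 = (e : ℝ) ^ 2 +
      (Nat.card G : ℝ)⁻¹ * ∑ g : G, ‖(α - (e : ℂ) • δ) g‖ ^ 2 := by
    exact_mod_cast h1
  have hG : (0 : ℝ) < Nat.card G := by exact_mod_cast Nat.card_pos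
  have h3 : (0 : ℝ) ≤ (Nat.card G : ℝ)⁻¹ * ∑ g : G, ‖(α - (e : ℂ) • δ) g‖ ^ 2 :=
    mul_nonneg (inv_nonneg.mpr hG.le) (Finset.sum_nonneg (fun g _ => sq_nonneg _))
  have h4 : (e : ℝ) ^ 2 ≤ (Nat.card G : ℝ)⁻¹ * ∑ g : G, ‖α g‖ ^ 2 := by linarith
  calc (e : ℝ) ^ 2 * Nat.card G ≤ ((Nat.card G : ℝ)⁻¹ * ∑ g : G, ‖α g‖ ^ 2) * Nat.card G :=
        mul_le_mul_of_nonneg_right h4 hG.le
    _ = ∑ g : G, ‖α g‖ ^ 2 := by field_simp

/-- `∑ |ψ|² = |G|` for irreducible `ψ`. -/
theorem sum_normSq_irr {ψ : G → ℂ} (hψ : IsIrrCharacter G ψ) :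
    ∑ g : G, ‖ψ g‖ ^ 2 = (Nat.card G : ℝ) := by
  have h1 := irr_classInner_self hψ
  rw [classInner_self_eq] at h1
  have hG : (0 : ℝ) < Nat.card G := by exact_mod_cast Nat.card_pos
  have : (Nat.card G : ℝ)⁻¹ * ∑ g : G, ‖ψ g‖ ^ 2 = 1 := by exact_mod_cast h1
  field_simp at this
  linarith

/-- **Lemma X**: vanishing off `L` in the fully ramified configuration. -/
theorem vanish_off_of_ramified (K D L : Subgroup G) [hK : K.Normal] [Fintype D] (hLK : L ≤ K)
    (hLD : L ≤ D)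
    (hinf : ∀ x, x ∈ K → x ∈ D → x ∈ L) (hsup : D ⊔ K = ⊤)
    (ψ : G → ℂ) (hψ : IsIrrCharacter G ψ) (δ : D → ℂ) (hδ : IsIrrCharacter D δ) (e : ℕ)
    (he : classInner (fun d : D => ψ d) δ = e)
    (hn : e ^ 2 * Nat.card L = Nat.card K)
    (hcore : ∀ x ∈ D, (∀ k ∈ K, k * x * k⁻¹ ∈ D) → x ∈ L) :
    ∀ g, g ∉ L → ψ g = 0 := by
  classical
  have hcard : Nat.card G * Nat.card L = Nat.card K * Nat.card D := by
    have h1 := card_identity K D
    rw [hsup, Subgroup.index_top, one_mul,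
      Nat.card_congr (subgroupOfEquivOfInf hLD hLK hinf).toEquiv] at h1
    exact h1
  have hLpos : 0 < Nat.card L := Nat.card_pos
  have heD : e ^ 2 * Nat.card D = Nat.card G := by
    have h2 : (e ^ 2 * Nat.card D) * Nat.card L = Nat.card G * Nat.card L := by
      rw [hcard, ← hn]
      ring
    exact Nat.eq_of_mul_eq_mul_right hLpos h2
  have h3 := sum_normSq_ge_of_classInner_irr (fun d : D => ψ d) δ hδ e he
  have h4 := sum_normSq_subgroup_le D ψ
  have h5 := sum_normSq_irr hψ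
  have h6 : ((e : ℝ) ^ 2 * Nat.card D) = Nat.card G := by exact_mod_cast heD
  have h7 : ∑ d : D, ‖ψ d‖ ^ 2 = ∑ g : G, ‖ψ g‖ ^ 2 := by
    apply le_antisymm h4
    rw [h5, ← h6]
    exact h3
  have hvan := (sum_normSq_subgroup_eq_iff D ψ).mp h7
  have hψcl := isClassFunction_of_isCharacter (isCharacter_of_irr hψ)
  intro g hg
  by_contra hne
  apply hg
  have hmem : ∀ k : G, k * g * k⁻¹ ∈ D := by
    intro k
    by_contra hk
    apply hne
    rw [← hψcl g k]
    exact hvan _ hk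
  have hgD : g ∈ D := by
    have := hmem 1
    simpa using this
  exact hcore g hgD (fun k _ => hmem k)

/-- **Lemma Y**: an irreducible character vanishing off `L` with `ψ_L = e φ` has `e² = |G:L|`. -/
theorem sq_eq_index_of_vanish_off (L : Subgroup G) (ψ : G → ℂ) (hψ : IsIrrCharacter G ψ)
    (hvan : ∀ g, g ∉ L → ψ g = 0) (φ : L → ℂ) (hφ : IsIrrCharacter L φ) (e : ℕ)
    (hres : (fun l : L => ψ l) = (e : ℂ) • φ) : e ^ 2 = L.index := by
  classical
  have : Fintype L := Fintype.ofFinite L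
  have h1 := (classInner_restrict_self_eq_index_iff L ψ hψ).mpr hvan
  rw [hres, classInner_smul_left, classInner_smul_right, irr_classInner_self hφ,
    Complex.conj_natCast] at h1
  have h2 : ((e ^ 2 : ℕ) : ℂ) = (L.index : ℂ) := by
    rw [← h1]
    push_cast
    ring
  exact_mod_cast h2

end General

section GroupTheory

/-- A subgroup normalized by two subgroups generating the group is normal. -/
theorem normal_of_sup_eq_top {G : Type*} [Group G] (S X Y : Subgroup G) (hXY : X ⊔ Y = ⊤)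
    (hX : ∀ x ∈ X, ∀ s ∈ S, x * s * x⁻¹ ∈ S) (hY : ∀ y ∈ Y, ∀ s ∈ S, y * s * y⁻¹ ∈ S) :
    S.Normal := by
  have h : ∀ Z : Subgroup G, (∀ z ∈ Z, ∀ s ∈ S, z * s * z⁻¹ ∈ S) →
      Z ≤ Subgroup.normalizer (S : Set G) := by
    intro Z hZ z hz
    rw [Subgroup.mem_normalizer_iff]
    intro s
    constructor
    · exact hZ z hz s
    · intro hs
      have := hZ z⁻¹ (inv_mem hz) _ hs
      have h2 : z⁻¹ * (z * s * z⁻¹) * z⁻¹⁻¹ = s := by group
      rwa [h2] at this
  rw [← Subgroup.normalizer_eq_top_iff, eq_top_iff, ← hXY]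
  exact sup_le (h X hX) (h Y hY)

/-- A chief factor above a normal subgroup with solvable quotient: abelian of prime power
order. -/
theorem exists_chief_above {X : Type*} [Group X] [Finite X] (Y : Subgroup X) [hY : Y.Normal]
    (hYtop : Y ≠ ⊤) (hsolv : ∃ m, derivedSeries X m ≤ Y) :
    ∃ K : Subgroup X, K.Normal ∧ Y < K ∧
      (∀ X' : Subgroup X, X'.Normal → Y ≤ X' → X' ≤ K → X' = Y ∨ X' = K) ∧
      ⁅K, K⁆ ≤ Y ∧ ∃ p a : ℕ, p.Prime ∧ Y.relIndex K = p ^ a := by
  classical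
  have hker : (QuotientGroup.mk' Y).ker = Y := QuotientGroup.ker_mk' Y
  have hsurj : Function.Surjective (QuotientGroup.mk' Y) := QuotientGroup.mk'_surjective Y
  have hsolvQ : Group.IsSolvable (X ⧸ Y) := by
    obtain ⟨m, hm⟩ := hsolv
    refine ⟨⟨m, ?_⟩⟩
    rw [← map_derivedSeries_eq hsurj, Subgroup.map_eq_bot_iff, hker]
    exact hm
  have htop : (⊤ : Subgroup (X ⧸ Y)) ≠ ⊥ := by
    intro h
    apply hYtop
    rw [eq_top_iff, ← hker, ← Subgroup.map_eq_bot_iff, ← le_bot_iff, ← h]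
    exact le_top
  obtain ⟨M, ⟨hMn, hM1, hMmin⟩, -⟩ :=
    Cfsg.Agent.Lib.H3.exists_isMinNormal_le (⊤ : Subgroup (X ⧸ Y)) inferInstance htop
  have hcomm := Cfsg.Agent.Lib.H3.minNormal_comm_of_isSolvable M hM1 hMmin
  obtain ⟨p, a, hp, -, hcard, -⟩ :=
    Cfsg.Agent.Lib.H3.minNormal_exists_prime_pow M hM1 hMmin hcomm
  have hKn : (M.comap (QuotientGroup.mk' Y)).Normal := hMn.comap _
  have hYK : Y ≤ M.comap (QuotientGroup.mk' Y) := by
    have h1 := MonoidHom.ker_le_comap (QuotientGroup.mk' Y) M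
    rwa [hker] at h1
  have hmapK : (M.comap (QuotientGroup.mk' Y)).map (QuotientGroup.mk' Y) = M :=
    Subgroup.map_comap_eq_self_of_surjective hsurj M
  refine ⟨M.comap (QuotientGroup.mk' Y), hKn, lt_of_le_of_ne hYK ?_, ?_, ?_, p, a, hp, ?_⟩
  · intro h
    apply hM1
    rw [← hmapK, ← h, Subgroup.map_eq_bot_iff, hker]
  · intro X' hX'n hYX' hX'K
    have h1 : (X'.map (QuotientGroup.mk' Y)).Normal := hX'n.map _ hsurj
    have h2 : X'.map (QuotientGroup.mk' Y) ≤ M := by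
      rw [Subgroup.map_le_iff_le_comap]
      exact hX'K
    rcases hMmin _ h1 h2 with h | h
    · left
      rw [Subgroup.map_eq_bot_iff, hker] at h
      exact le_antisymm h hYX'
    · right
      rw [← h, Subgroup.comap_map_eq, hker, sup_eq_left.mpr hYX']
  · rw [Subgroup.commutator_le]
    intro g₁ hg₁ g₂ hg₂
    rw [← hker, MonoidHom.mem_ker, map_commutatorElement, commutatorElement_eq_one_iff_mul_comm]
    exact hcomm _ hg₁ _ hg₂
  · have h1 := Subgroup.relIndex_comap (H := (⊥ : Subgroup (X ⧸ Y))) (QuotientGroup.mk' Y)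
      (M.comap (QuotientGroup.mk' Y))
    rw [MonoidHom.comap_bot, hker, hmapK, Subgroup.relIndex_bot_left, hcard] at h1
    exact h1

/-- GT1: a chief factor `K/L` above the core `L` of a maximal subgroup `H` complements `H`. -/
theorem exists_chief_above_core {G : Type*} [Group G] [Finite G] (H : Subgroup G)
    (hmax : IsCoatom H) (hsolv : ∃ m, derivedSeries G m ≤ H.normalCore) :
    ∃ K : Subgroup G, K.Normal ∧ H.normalCore < K ∧
      (∀ X' : Subgroup G, X'.Normal → H.normalCore ≤ X' → X' ≤ K → X' = H.normalCore ∨ X' = K) ∧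
      ⁅K, K⁆ ≤ H.normalCore ∧ (∃ p a : ℕ, p.Prime ∧ H.normalCore.relIndex K = p ^ a) ∧
      K ⊔ H = ⊤ ∧ ∀ x, x ∈ K → x ∈ H → x ∈ H.normalCore := by
  have hLH : H.normalCore ≤ H := Subgroup.normalCore_le H
  have hLtop : H.normalCore ≠ ⊤ := by
    intro h
    apply hmax.1
    rw [eq_top_iff, ← h]
    exact hLH
  obtain ⟨K, hKn, hLK, hchief, hab, hpa⟩ := exists_chief_above H.normalCore hLtop hsolv
  have hKH : ¬ K ≤ H := by
    intro h
    exact not_le_of_gt hLK (Subgroup.normal_le_normalCore.mpr h)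
  have hsup : K ⊔ H = ⊤ := by
    apply hmax.2
    refine lt_of_le_of_ne le_sup_right ?_
    intro h
    apply hKH
    rw [h]
    exact le_sup_left
  refine ⟨K, hKn, hLK, hchief, hab, hpa, hsup, ?_⟩
  have hinfn : (K ⊓ H).Normal := by
    apply normal_of_sup_eq_top (K ⊓ H) K H hsup
    · intro k hk s hs
      refine ⟨hKn.conj_mem s hs.1 k, ?_⟩
      have h1 : k * s * k⁻¹ = ⁅k, s⁆ * s := by
        rw [commutatorElement_def]; group
      rw [h1]
      exact H.mul_mem (hLH (hab (Subgroup.commutator_mem_commutator hk hs.1))) hs.2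
    · intro h hh s hs
      exact ⟨hKn.conj_mem s hs.1 h, H.mul_mem (H.mul_mem hh hs.2) (H.inv_mem hh)⟩
  intro x hxK hxH
  have : K ⊓ H ≤ H.normalCore := Subgroup.normal_le_normalCore.mpr inf_le_right
  exact this ⟨hxK, hxH⟩

/-- GT2: a chief factor `D/L` of `H` above `L`. -/
theorem exists_chief_in_subgroup {G : Type*} [Group G] [Finite G] (H L : Subgroup G)
    [hL : L.Normal] (hLH : L < H) (hsolv : ∃ m, derivedSeries G m ≤ L) :
    ∃ D : Subgroup G, L < D ∧ D ≤ H ∧ (∀ h ∈ H, ∀ d ∈ D, h * d * h⁻¹ ∈ D) ∧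
      (∀ D' : Subgroup G, L ≤ D' → D' ≤ D → (∀ h ∈ H, ∀ d ∈ D', h * d * h⁻¹ ∈ D') →
        D' = L ∨ D' = D) ∧
      ∃ q b : ℕ, q.Prime ∧ L.relIndex D = q ^ b := by
  have hinj := H.subtype_injective
  have hYtop : L.subgroupOf H ≠ ⊤ := by
    intro h
    rw [Subgroup.subgroupOf_eq_top] at h
    exact not_le_of_gt hLH h
  have hsolv' : ∃ m, derivedSeries H m ≤ L.subgroupOf H := by
    obtain ⟨m, hm⟩ := hsolv
    refine ⟨m, ?_⟩
    intro x hx
    rw [Subgroup.mem_subgroupOf]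
    apply hm
    exact map_derivedSeries_le_derivedSeries H.subtype m ⟨x, hx, rfl⟩
  obtain ⟨K', hK'n, hYK', hchief, -, q, b, hq, hqb⟩ :=
    exists_chief_above (L.subgroupOf H) hYtop hsolv'
  have hmapY : (L.subgroupOf H).map H.subtype = L := Subgroup.map_subgroupOf_eq_of_le hLH.le
  have hDH : K'.map H.subtype ≤ H := by
    rintro _ ⟨x, -, rfl⟩
    exact x.2
  refine ⟨K'.map H.subtype, ?_, hDH, ?_, ?_, q, b, hq, ?_⟩
  · rw [← hmapY]
    exact (Subgroup.map_lt_map_iff_of_injective hinj).mpr hYK'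
  · rintro h hh _ ⟨x, hx, rfl⟩
    exact ⟨⟨h, hh⟩ * x * ⟨h, hh⟩⁻¹, hK'n.conj_mem x hx ⟨h, hh⟩, by simp⟩
  · intro D' hLD' hD'D hD'inv
    have hD'H : D' ≤ H := hD'D.trans hDH
    have hn : (D'.subgroupOf H).Normal := by
      constructor
      intro x hx h
      rw [Subgroup.mem_subgroupOf] at hx ⊢
      have := hD'inv (h : G) h.2 (x : G) hx
      simpa using this
    have h1 : L.subgroupOf H ≤ D'.subgroupOf H := Subgroup.subgroupOf_mono H hLD'
    have h2 : D'.subgroupOf H ≤ K' := by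
      intro x hx
      rw [Subgroup.mem_subgroupOf] at hx
      obtain ⟨y, hy, hxy⟩ := hD'D hx
      have : y = x := Subtype.ext hxy
      rwa [← this]
    rcases hchief _ hn h1 h2 with h | h
    · left
      rw [← Subgroup.map_subgroupOf_eq_of_le hD'H, h, hmapY]
    · right
      rw [← Subgroup.map_subgroupOf_eq_of_le hD'H, h]
  · rw [← hqb, ← Subgroup.relIndex_map_map_of_injective _ _ hinj, hmapY]

section GT3

variable {G : Type*} [Group G] (H L K D : Subgroup G) [hL : L.Normal] [hK : K.Normal]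

omit hL hK in
/-- GT3a: `D` does not centralize `K/L`. -/
theorem not_centralize_of_core (hcore : ∀ N' : Subgroup G, N'.Normal → N' ≤ H → N' ≤ L)
    (hsup : K ⊔ H = ⊤) (hLD : L < D) (hDH : D ≤ H)
    (hDinv : ∀ h ∈ H, ∀ d ∈ D, h * d * h⁻¹ ∈ D) :
    ¬ ∀ d ∈ D, ∀ k ∈ K, d * k * d⁻¹ * k⁻¹ ∈ L := by
  intro hcent
  have hDn : D.Normal := by
    apply normal_of_sup_eq_top D K H hsup _ hDinv
    intro k hk d hd
    have h1 : k * d * k⁻¹ = (d * k * d⁻¹ * k⁻¹)⁻¹ * d := by group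
    rw [h1]
    exact D.mul_mem (D.inv_mem (hLD.le (hcent d hd k hk))) hd
  exact not_le_of_gt hLD (hcore D hDn hDH)

/-- GT3b: the centralizer of `K/L` in `D` is `L`. -/
theorem mem_of_centralize (hcore : ∀ N' : Subgroup G, N'.Normal → N' ≤ H → N' ≤ L)
    (hsup : K ⊔ H = ⊤) (hLD : L < D) (hDH : D ≤ H)
    (hDinv : ∀ h ∈ H, ∀ d ∈ D, h * d * h⁻¹ ∈ D)
    (hDchief : ∀ D' : Subgroup G, L ≤ D' → D' ≤ D → (∀ h ∈ H, ∀ d ∈ D', h * d * h⁻¹ ∈ D') →
      D' = L ∨ D' = D) :
    ∀ d ∈ D, (∀ k ∈ K, d * k * d⁻¹ * k⁻¹ ∈ L) → d ∈ L := by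
  let C : Subgroup G :=
    { carrier := {d | d ∈ D ∧ ∀ k ∈ K, d * k * d⁻¹ * k⁻¹ ∈ L}
      mul_mem' := by
        rintro d₁ d₂ ⟨h1, h1'⟩ ⟨h2, h2'⟩
        refine ⟨D.mul_mem h1 h2, fun k hk => ?_⟩
        have h3 : d₁ * d₂ * k * (d₁ * d₂)⁻¹ * k⁻¹ =
            d₁ * (d₂ * k * d₂⁻¹ * k⁻¹) * d₁⁻¹ * (d₁ * k * d₁⁻¹ * k⁻¹) := by group
        rw [h3]
        exact L.mul_mem (hL.conj_mem _ (h2' k hk) d₁) (h1' k hk)
      one_mem' := ⟨D.one_mem, fun k _ => by simp⟩
      inv_mem' := by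
        rintro d ⟨h1, h1'⟩
        refine ⟨D.inv_mem h1, fun k hk => ?_⟩
        have hk' : d⁻¹ * k * d ∈ K := by
          have := hK.conj_mem k hk d⁻¹
          simpa using this
        have h3 := h1' _ hk'
        have h4 : d⁻¹ * k * d⁻¹⁻¹ * k⁻¹ = (d * (d⁻¹ * k * d) * d⁻¹ * (d⁻¹ * k * d)⁻¹)⁻¹ := by group
        rw [h4]
        exact L.inv_mem h3 }
  have hCmem : ∀ d, d ∈ C ↔ d ∈ D ∧ ∀ k ∈ K, d * k * d⁻¹ * k⁻¹ ∈ L := fun d => Iff.rfl
  have hLC : L ≤ C := by
    intro l hl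
    refine ⟨hLD.le hl, fun k _ => ?_⟩
    have h1 : l * k * l⁻¹ * k⁻¹ = l * (k * l⁻¹ * k⁻¹) := by group
    rw [h1]
    exact L.mul_mem hl (hL.conj_mem _ (L.inv_mem hl) k)
  have hCD : C ≤ D := fun d hd => hd.1
  have hCinv : ∀ h ∈ H, ∀ d ∈ C, h * d * h⁻¹ ∈ C := by
    rintro h hh d ⟨hd, hd'⟩
    refine ⟨hDinv h hh d hd, fun k hk => ?_⟩
    have hk' : h⁻¹ * k * h ∈ K := by
      have := hK.conj_mem k hk h⁻¹
      simpa using this
    have h1 : h * d * h⁻¹ * k * (h * d * h⁻¹)⁻¹ * k⁻¹ =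
        h * (d * (h⁻¹ * k * h) * d⁻¹ * (h⁻¹ * k * h)⁻¹) * h⁻¹ := by group
    rw [h1]
    exact hL.conj_mem _ (hd' _ hk') h
  intro d hd hdc
  rcases hDchief C hLC hCD hCinv with h | h
  · rw [← h]
    exact ⟨hd, hdc⟩
  · exfalso
    apply not_centralize_of_core H L K D hcore hsup hLD hDH hDinv
    intro d' hd' k hk
    have : d' ∈ C := by rw [h]; exact hd'
    exact this.2 k hk

/-- GT3c: the core of `D` in `KD` is `L`. -/
theorem mem_of_conj_mem (hcore : ∀ N' : Subgroup G, N'.Normal → N' ≤ H → N' ≤ L)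
    (hsup : K ⊔ H = ⊤) (hinf : ∀ x, x ∈ K → x ∈ H → x ∈ L) (hLD : L < D) (hDH : D ≤ H)
    (hDinv : ∀ h ∈ H, ∀ d ∈ D, h * d * h⁻¹ ∈ D)
    (hDchief : ∀ D' : Subgroup G, L ≤ D' → D' ≤ D → (∀ h ∈ H, ∀ d ∈ D', h * d * h⁻¹ ∈ D') →
      D' = L ∨ D' = D) :
    ∀ x ∈ D, (∀ k ∈ K, k * x * k⁻¹ ∈ D) → x ∈ L := by
  intro x hx hconj
  apply mem_of_centralize H L K D hcore hsup hLD hDH hDinv hDchief x hx
  intro k hk
  apply hinf
  · have h1 : x * k * x⁻¹ * k⁻¹ = (x * k * x⁻¹) * k⁻¹ := by group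
    rw [h1]
    exact K.mul_mem (hK.conj_mem k hk x) (K.inv_mem hk)
  · have h1 : x * k * x⁻¹ * k⁻¹ = x * (k * x * k⁻¹)⁻¹ := by group
    rw [h1]
    exact hDH (D.mul_mem hx (D.inv_mem (hconj k hk)))

/-- GT3e: `KD` is normal. -/
theorem sup_normal_of_inv (hsup : K ⊔ H = ⊤) (hDinv : ∀ h ∈ H, ∀ d ∈ D, h * d * h⁻¹ ∈ D) :
    (K ⊔ D).Normal := by
  apply normal_of_sup_eq_top (K ⊔ D) K H hsup
  · intro k hk m hm
    have hk' : k ∈ K ⊔ D := (le_sup_left : K ≤ K ⊔ D) hk
    exact (K ⊔ D).mul_mem ((K ⊔ D).mul_mem hk' hm) ((K ⊔ D).inv_mem hk')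
  · intro h hh m hm
    have hle : K ⊔ D ≤ (K ⊔ D).comap (MulAut.conj h).toMonoidHom := by
      apply sup_le
      · intro k hk
        rw [Subgroup.mem_comap]
        exact (le_sup_left : K ≤ K ⊔ D) (hK.conj_mem k hk h)
      · intro d hd
        rw [Subgroup.mem_comap]
        exact (le_sup_right : D ≤ K ⊔ D) (hDinv h hh d hd)
    exact hle hm

omit hL in
/-- GT3f: `KD ∩ H = D`. -/
theorem mem_of_mem_sup_of_mem (hinf : ∀ x, x ∈ K → x ∈ H → x ∈ L) (hLD : L ≤ D) (hDH : D ≤ H) :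
    ∀ x, x ∈ K ⊔ D → x ∈ H → x ∈ D := by
  intro x hx hxH
  rw [← SetLike.mem_coe, Subgroup.normal_mul, Set.mem_mul] at hx
  obtain ⟨k, hk, d, hd, rfl⟩ := hx
  have hkH : k ∈ H := by
    have h1 : k = k * d * d⁻¹ := by group
    rw [h1]
    exact H.mul_mem hxH (H.inv_mem (hDH hd))
  exact D.mul_mem (hLD (hinf k hk hkH)) hd

omit hL in
/-- The index of `L` in `KD`. -/
theorem relIndex_sup_eq (hinf : ∀ x, x ∈ K → x ∈ H → x ∈ L) (hLK : L ≤ K) (hLD : L ≤ D)
    (hDH : D ≤ H) : L.relIndex (K ⊔ D) = L.relIndex K * L.relIndex D := by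
  have h1 : K ⊓ D = L := by
    apply le_antisymm
    · intro x hx
      exact hinf x hx.1 (hDH hx.2)
    · exact le_inf hLK hLD
  rw [← Subgroup.relIndex_mul_relIndex L K (K ⊔ D) hLK le_sup_left, Subgroup.relIndex_sup_left,
    ← Subgroup.inf_relIndex_right K D, h1]

/-- GT3d: the primes of `K/L` and `D/L` are different. -/
theorem false_of_same_prime [Finite G]
    (hcore : ∀ N' : Subgroup G, N'.Normal → N' ≤ H → N' ≤ L)
    (hsup : K ⊔ H = ⊤) (hinf : ∀ x, x ∈ K → x ∈ H → x ∈ L) (hLK : L < K) (hab : ⁅K, K⁆ ≤ L)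
    (hKchief : ∀ X' : Subgroup G, X'.Normal → L ≤ X' → X' ≤ K → X' = L ∨ X' = K)
    (hLD : L < D) (hDH : D ≤ H) (hDinv : ∀ h ∈ H, ∀ d ∈ D, h * d * h⁻¹ ∈ D)
    {p a b : ℕ} (hp : p.Prime) (hpa : L.relIndex K = p ^ a) (hpb : L.relIndex D = p ^ b) :
    False := by
  classical
  have : Fact p.Prime := ⟨hp⟩
  have hidx : L.relIndex (K ⊔ D) = p ^ (a + b) := by
    rw [relIndex_sup_eq H L K D hinf hLK.le hLD.le hDH, hpa, hpb, pow_add]
  have hP : IsPGroup p ((K ⊔ D : Subgroup G) ⧸ L.subgroupOf (K ⊔ D)) := by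
    apply IsPGroup.of_card (n := a + b)
    rw [← Subgroup.index_eq_card]
    exact hidx
  have hsurj : Function.Surjective (QuotientGroup.mk' (L.subgroupOf (K ⊔ D))) :=
    QuotientGroup.mk'_surjective _
  have hker : (QuotientGroup.mk' (L.subgroupOf (K ⊔ D))).ker = L.subgroupOf (K ⊔ D) :=
    QuotientGroup.ker_mk' _
  have hNn : ((K.subgroupOf (K ⊔ D)).map (QuotientGroup.mk' (L.subgroupOf (K ⊔ D)))).Normal :=
    Subgroup.Normal.map inferInstance _ hsurj
  have hN1 : (K.subgroupOf (K ⊔ D)).map (QuotientGroup.mk' (L.subgroupOf (K ⊔ D))) ≠ ⊥ := by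
    intro h
    rw [Subgroup.map_eq_bot_iff, hker] at h
    apply not_le_of_gt hLK
    intro k hk
    have : (⟨k, (le_sup_left : K ≤ K ⊔ D) hk⟩ : (K ⊔ D : Subgroup G)) ∈ L.subgroupOf (K ⊔ D) :=
      h (Subgroup.mem_subgroupOf.mpr hk)
    exact Subgroup.mem_subgroupOf.mp this
  obtain ⟨x, hxN, hx1, hxc⟩ :=
    Cfsg.Agent.Lib.H10.exists_ne_one_mem_center_of_normal hP _ hN1
  obtain ⟨k₀, hk₀, rfl⟩ := hxN
  rw [SetLike.mem_coe, Subgroup.mem_subgroupOf] at hk₀
  have hk₀L : (k₀ : G) ∉ L := by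
    intro h
    apply hx1
    rw [← MonoidHom.mem_ker, hker, Subgroup.mem_subgroupOf]
    exact h
  have hcen : ∀ d ∈ D, d * (k₀ : G) * d⁻¹ * (k₀ : G)⁻¹ ∈ L := by
    intro d hd
    have hdM : d⁻¹ ∈ K ⊔ D := (le_sup_right : D ≤ K ⊔ D) (D.inv_mem hd)
    have h1 := Subgroup.mem_center_iff.mp hxc (QuotientGroup.mk' _ ⟨d⁻¹, hdM⟩)
    rw [← map_mul, ← map_mul] at h1
    have h2 := (QuotientGroup.eq).mp h1
    rw [Subgroup.mem_subgroupOf] at h2
    have h3 : d * (k₀ : G) * d⁻¹ * (k₀ : G)⁻¹ =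
        (k₀ : G) * (((⟨d⁻¹, hdM⟩ * k₀)⁻¹ * (k₀ * ⟨d⁻¹, hdM⟩) : (K ⊔ D : Subgroup G)) : G) *
          (k₀ : G)⁻¹ := by
      push_cast
      group
    rw [h3]
    exact hL.conj_mem _ h2 _
  let K₀ : Subgroup G :=
    { carrier := {k | k ∈ K ∧ ∀ d ∈ D, d * k * d⁻¹ * k⁻¹ ∈ L}
      mul_mem' := by
        rintro k₁ k₂ ⟨h1, h1'⟩ ⟨h2, h2'⟩
        refine ⟨K.mul_mem h1 h2, fun d hd => ?_⟩
        have h3 : d * (k₁ * k₂) * d⁻¹ * (k₁ * k₂)⁻¹ =
            (d * k₁ * d⁻¹ * k₁⁻¹) * (k₁ * (d * k₂ * d⁻¹ * k₂⁻¹) * k₁⁻¹) := by group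
        rw [h3]
        exact L.mul_mem (h1' d hd) (hL.conj_mem _ (h2' d hd) k₁)
      one_mem' := ⟨K.one_mem, fun d _ => by simp⟩
      inv_mem' := by
        rintro k ⟨h1, h1'⟩
        refine ⟨K.inv_mem h1, fun d hd => ?_⟩
        have h4 : d * k⁻¹ * d⁻¹ * k⁻¹⁻¹ = k⁻¹ * (d * k * d⁻¹ * k⁻¹)⁻¹ * k⁻¹⁻¹ := by group
        rw [h4]
        exact hL.conj_mem _ (L.inv_mem (h1' d hd)) _ }
  have hLK₀ : L ≤ K₀ := by
    intro l hl
    refine ⟨hLK.le hl, fun d _ => ?_⟩
    exact L.mul_mem (hL.conj_mem l hl d) (L.inv_mem hl)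
  have hK₀K : K₀ ≤ K := fun k hk => hk.1
  have hK₀n : K₀.Normal := by
    apply normal_of_sup_eq_top K₀ K H hsup
    · intro k' hk' k hk
      have h1 : k' * k * k'⁻¹ = ⁅k', k⁆ * k := by
        rw [commutatorElement_def]; group
      rw [h1]
      exact K₀.mul_mem (hLK₀ (hab (Subgroup.commutator_mem_commutator hk' hk.1))) hk
    · rintro h hh k ⟨hk, hk'⟩
      refine ⟨hK.conj_mem k hk h, fun d hd => ?_⟩
      have hd' : h⁻¹ * d * h ∈ D := by
        have := hDinv h⁻¹ (H.inv_mem hh) d hd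
        simpa using this
      have h1 : d * (h * k * h⁻¹) * d⁻¹ * (h * k * h⁻¹)⁻¹ =
          h * ((h⁻¹ * d * h) * k * (h⁻¹ * d * h)⁻¹ * k⁻¹) * h⁻¹ := by group
      rw [h1]
      exact hL.conj_mem _ (hk' _ hd') h
  have hk₀K₀ : (k₀ : G) ∈ K₀ := ⟨hk₀, hcen⟩
  rcases hKchief K₀ hK₀n hLK₀ hK₀K with h | h
  · apply hk₀L
    rw [← h]
    exact hk₀K₀
  · apply not_centralize_of_core H L K D hcore hsup hLD hDH hDinv
    intro d hd k hk
    have : k ∈ K₀ := by rw [h]; exact hk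
    exact this.2 d hd

end GT3

end GroupTheory

section Assembly

variable {G : Type u} [Group G] [Fintype G]

omit [Fintype G] in
theorem relIndex_mul_card_of_le [Finite G] {L K : Subgroup G} (h : L ≤ K) :
    L.relIndex K * Nat.card L = Nat.card K := by
  have h1 := Subgroup.index_mul_card (L.subgroupOf K)
  rw [Nat.card_congr (Subgroup.subgroupOfEquivOfLe h).toEquiv] at h1
  exact h1

/-- Ramification divides the relative index (Isaacs 11.29 for a normal subgroup of a subgroup). -/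
theorem ramification_dvd_relIndex (K M : Subgroup G) [hK : K.Normal] [Fintype K] (hKM : K ≤ M)
    (ψ₀ : M → ℂ) (hψ₀ : IsIrrCharacter M ψ₀) (η : K → ℂ) (hη : IsIrrCharacter K η)
    (hinv : ∀ (g : G) (k : K), η ⟨g * k * g⁻¹, hK.conj_mem (k : G) k.2 g⟩ = η k) (a : ℕ)
    (ha : classInner (fun k : K => ψ₀ ⟨(k : G), hKM k.2⟩) η = a)
    (ha0 : a ≠ 0) : a ∣ K.relIndex M := by
  classical
  have : Fintype M := Fintype.ofFinite M
  have : Fintype (K.subgroupOf M) := Fintype.ofFinite _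
  have h1 := Cfsg.Agent.Lib.H24.ramification_dvd_index (K.subgroupOf M) ψ₀ hψ₀
    (η ∘ (Subgroup.subgroupOfEquivOfLe hKM))
    (isIrrCharacter_comp_mulEquiv (Subgroup.subgroupOfEquivOfLe hKM) hη) ?_ a ?_ ha0
  · exact h1
  · intro g n
    exact hinv (g : G) (Subgroup.subgroupOfEquivOfLe hKM n)
  · rw [← ha, ← classInner_comp_equiv (Subgroup.subgroupOfEquivOfLe hKM)]
    rfl

/-- Core of **Isaacs 11.32** with `L` the core of `H`. -/
theorem berger_lemma_core (H : Subgroup G) (hmax : IsCoatom H)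
    (hsolv : ∃ m, derivedSeries G m ≤ H.normalCore)
    (ϑ : H → ℂ) (hϑ : IsIrrCharacter H ϑ)
    (hϑL : IsIrrCharacter H.normalCore
      (fun x : H.normalCore => ϑ ⟨(x : G), H.normalCore_le x.2⟩))
    (hind : IsIrrCharacter G (indFun H ϑ))
    (hhom : ∀ M : Subgroup G, M.Normal → H.normalCore ≤ M → ∃ (φ : M → ℂ) (e : ℕ),
      IsIrrCharacter M φ ∧ (fun m : M => indFun H ϑ m) = (e : ℂ) • φ) : False := by
  classical
  have hLH : H.normalCore ≤ H := H.normalCore_le
  have hLn : H.normalCore.Normal := inferInstance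
  have hcore : ∀ N' : Subgroup G, N'.Normal → N' ≤ H → N' ≤ H.normalCore :=
    fun N' hN' h => Subgroup.normal_le_normalCore.mpr h
  have hχcl := isClassFunction_of_isCharacter (isCharacter_of_irr hind)
  have hχ1 : indFun H ϑ 1 ≠ 0 := Cfsg.Agent.Lib.H24.irr_one_ne_zero ⟨_, hind⟩
  have hϑ1 : ϑ 1 ≠ 0 := Cfsg.Agent.Lib.H24.irr_one_ne_zero ⟨_, hϑ⟩
  obtain ⟨K, hKn, hLK, hKchief, hab, ⟨p, a, hp, hpa⟩, hsup, hinf⟩ :=
    exists_chief_above_core H hmax hsolv
  have hsup' : H ⊔ K = ⊤ := by rw [sup_comm]; exact hsup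
  have : Fintype H := Fintype.ofFinite H
  have : Fintype K := Fintype.ofFinite K
  have : Fintype H.normalCore := Fintype.ofFinite _
  obtain ⟨φ₀, e₀, hφ₀, hχL⟩ := hhom H.normalCore hLn le_rfl
  obtain ⟨η, e, hη, hχK⟩ := hhom K hKn hLK.le
  -- `e ≠ 0`
  have he0 : e ≠ 0 := by
    rintro rfl
    have := congrFun hχK 1
    simp at this
    exact hχ1 this
  -- `[χ_K, χ_K] = [φ, χ_L]`
  have hinvK : ∀ (g : G) (n : K), (fun k : K => indFun H ϑ k)
      ⟨g * n * g⁻¹, hKn.conj_mem (n : G) n.2 g⟩ = (fun k : K => indFun H ϑ k) n :=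
    fun g n => hχcl n g
  have h3 := classInner_restrict_indFun_of_sup_eq_top K H hsup' H.normalCore hLH hLK.le hinf
    (fun k : K => indFun H ϑ k) hinvK ϑ
  have h3' : classInner (fun k : K => indFun H ϑ k) (fun k : K => indFun H ϑ k) =
      classInner (fun l : H.normalCore => ϑ ⟨(l : G), hLH l.2⟩)
        (fun l : H.normalCore => indFun H ϑ l) := h3
  rw [hχK, hχL, classInner_smul_left, classInner_smul_right, classInner_smul_right,
    irr_classInner_self hη, Complex.conj_natCast, Complex.conj_natCast] at h3'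
  have hφeq : (fun l : H.normalCore => ϑ ⟨(l : G), hLH l.2⟩) = φ₀ := by
    by_contra hne
    rw [irr_classInner_ne hϑL hφ₀ hne] at h3'
    simp at h3'
    exact he0 h3'
  rw [hφeq, irr_classInner_self hφ₀] at h3'
  have hee₀ : e ^ 2 = e₀ := by
    have : ((e ^ 2 : ℕ) : ℂ) = (e₀ : ℂ) := by
      push_cast
      rw [← mul_one (e₀ : ℂ), ← h3']
      ring
    exact_mod_cast this
  -- `e₀ = |G : H|`
  have he₀idx : e₀ = H.index := by
    have h5 := congrFun hχL 1
    simp only [Pi.smul_apply, smul_eq_mul, OneMemClass.coe_one] at h5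
    rw [indFun_one', ← hφeq] at h5
    have h6 : ((H.index : ℂ) - e₀) * ϑ 1 = 0 := by
      rw [sub_mul]
      exact sub_eq_zero.mpr h5
    rcases mul_eq_zero.mp h6 with h7 | h7
    · have : (H.index : ℂ) = (e₀ : ℂ) := sub_eq_zero.mp h7
      exact_mod_cast this.symm
    · exact absurd h7 hϑ1
  -- `|G : H| |L| = |K|`
  have hcardK : e ^ 2 * Nat.card H.normalCore = Nat.card K := by
    have h8 := card_identity K H
    rw [hsup', Subgroup.index_top, one_mul,
      Nat.card_congr (subgroupOfEquivOfInf hLH hLK.le hinf).toEquiv,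
      ← Subgroup.index_mul_card H] at h8
    have hHpos : 0 < Nat.card H := Nat.card_pos
    rw [hee₀, he₀idx]
    have h9 : H.index * Nat.card H.normalCore * Nat.card H = Nat.card K * Nat.card H := by
      rw [← h8]
      ring
    exact Nat.eq_of_mul_eq_mul_right hHpos h9
  have hidxK : e ^ 2 = H.normalCore.relIndex K := by
    have h10 := relIndex_mul_card_of_le hLK.le
    rw [← hcardK] at h10
    exact (Nat.eq_of_mul_eq_mul_right Nat.card_pos h10).symm
  have hHidx : H.index ≠ 1 := by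
    intro h
    exact hmax.1 (Subgroup.index_eq_one.mp h)
  by_cases hLeq : H ≤ H.normalCore
  · -- `H` normal: then `K = ⊤`
    have hK : K = ⊤ := by
      rw [← hsup, eq_comm, sup_eq_left]
      exact hLeq.trans hLK.le
    subst hK
    have h11 : IsIrrCharacter (⊤ : Subgroup G) (fun k : (⊤ : Subgroup G) => indFun H ϑ k) :=
      isIrrCharacter_comp_mulEquiv Subgroup.topEquiv hind
    have h12 := irr_classInner_self h11
    rw [hχK, classInner_smul_left, classInner_smul_right, irr_classInner_self hη,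
      Complex.conj_natCast] at h12
    apply hHidx
    rw [← he₀idx, ← hee₀]
    have : ((e ^ 2 : ℕ) : ℂ) = 1 := by
      push_cast
      rw [← h12]
      ring
    exact_mod_cast this
  · have hLH' : H.normalCore < H := lt_of_le_of_ne hLH (fun h => hLeq (le_of_eq h.symm))
    obtain ⟨D, hLD, hDH, hDinv, hDchief, q, b, hq, hqb⟩ :=
      exists_chief_in_subgroup H H.normalCore hLH' hsolv
    have hqp : q ≠ p := by
      rintro rfl
      exact false_of_same_prime H H.normalCore K D hcore hsup hinf hLK hab hKchief hLD hDH hDinv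
        hq hpa hqb
    have hMn : (K ⊔ D).Normal := sup_normal_of_inv H K D hsup hDinv
    have hKM : K ≤ K ⊔ D := le_sup_left
    have hDM : D ≤ K ⊔ D := le_sup_right
    have hLM : H.normalCore ≤ K ⊔ D := hLK.le.trans hKM
    obtain ⟨ψ₀, f, hψ₀, hχM⟩ := hhom (K ⊔ D) hMn hLM
    have hχMv : ∀ m : (K ⊔ D : Subgroup G), indFun H ϑ m = f * ψ₀ m := by
      intro m
      have := congrFun hχM m
      simpa using this
    have hχKv : ∀ k : K, indFun H ϑ k = e * η k := by
      intro k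
      have := congrFun hχK k
      simpa using this
    have hχLv : ∀ l : H.normalCore, indFun H ϑ l = e₀ * φ₀ l := by
      intro l
      have := congrFun hχL l
      simpa using this
    have : Fintype (K ⊔ D : Subgroup G) := Fintype.ofFinite _
    have : Fintype D := Fintype.ofFinite D
    have hψ₀c := isCharacter_of_irr hψ₀
    have hψ₀K : IsCharacter K (fun k : K => ψ₀ ⟨(k : G), hKM k.2⟩) :=
      isCharacter_comp (Subgroup.inclusion hKM) hψ₀c
    obtain ⟨a', ha'⟩ := classInner_char_irr_nat hψ₀K hη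
    have hfa : f * a' = e := by
      have h13 : (f : ℂ) • (fun k : K => ψ₀ ⟨(k : G), hKM k.2⟩) = (e : ℂ) • η := by
        funext k
        simp only [Pi.smul_apply, smul_eq_mul]
        rw [← hχKv k]
        exact (hχMv ⟨k, hKM k.2⟩).symm
      have h14 := congrArg (fun F => classInner F η) h13
      simp only [classInner_smul_left, irr_classInner_self hη, ha', mul_one] at h14
      exact_mod_cast h14
    have hf0 : f ≠ 0 := by
      rintro rfl
      simp at hfa
      exact he0 hfa.symm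
    have ha'0 : a' ≠ 0 := by
      rintro rfl
      simp at hfa
      exact he0 hfa.symm
    have hηinv : ∀ (g : G) (k : K), η ⟨g * k * g⁻¹, hKn.conj_mem (k : G) k.2 g⟩ = η k := by
      intro g k
      have h15 := hχKv ⟨g * k * g⁻¹, hKn.conj_mem (k : G) k.2 g⟩
      have h16 := hχKv k
      have h17 : indFun H ϑ (g * k * g⁻¹) = indFun H ϑ k := hχcl k g
      simp only at h15
      rw [h17, h16] at h15
      exact (mul_left_cancel₀ (by exact_mod_cast he0) h15).symm
    have hdvd1 := ramification_dvd_relIndex K (K ⊔ D) hKM ψ₀ hψ₀ η hη hηinv a' ha' ha'0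
    have hKMidx : K.relIndex (K ⊔ D) = q ^ b := by
      have h18 := relIndex_sup_eq H H.normalCore K D hinf hLK.le hLD.le hDH
      rw [← Subgroup.relIndex_mul_relIndex _ _ _ hLK.le hKM, hqb] at h18
      have hpos : 0 < H.normalCore.relIndex K := by
        rw [hpa]
        exact pow_pos hp.pos a
      exact Nat.eq_of_mul_eq_mul_left hpos h18
    have ha'1 : a' = 1 := by
      have h19 : a' ∣ p ^ a := by
        rw [← hpa, ← hidxK]
        exact dvd_trans (Dvd.intro_left f hfa) (dvd_pow_self e two_ne_zero)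
      have h20 : a' ∣ q ^ b := hKMidx ▸ hdvd1
      exact Nat.eq_one_of_dvd_coprimes
        (Nat.Coprime.pow a b ((Nat.coprime_primes hp hq).mpr hqp.symm)) h19 h20
    have hfe : f = e := by rw [← hfa, ha'1, mul_one]
    have hψ₀inv : ∀ (g : G) (n : (K ⊔ D : Subgroup G)),
        ψ₀ ⟨g * n * g⁻¹, hMn.conj_mem (n : G) n.2 g⟩ = ψ₀ n := by
      intro g n
      have h21 := hχMv ⟨g * n * g⁻¹, hMn.conj_mem (n : G) n.2 g⟩
      have h22 := hχMv n
      have h23 : indFun H ϑ (g * n * g⁻¹) = indFun H ϑ n := hχcl n g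
      simp only at h21
      rw [h23, h22] at h21
      exact (mul_left_cancel₀ (by exact_mod_cast hf0) h21).symm
    have hsupM : H ⊔ (K ⊔ D) = ⊤ := by
      rw [eq_top_iff, ← hsup']
      exact sup_le_sup_left hKM H
    have hinfM := mem_of_mem_sup_of_mem H H.normalCore K D hinf hLD.le hDH
    have h24 := classInner_restrict_indFun_of_sup_eq_top (K ⊔ D) H hsupM D hDH hDM hinfM ψ₀
      hψ₀inv ϑ
    rw [hχM, classInner_smul_left, irr_classInner_self hψ₀, mul_one] at h24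
    have hδc : IsCharacter D (fun d : D => ϑ ⟨(d : G), hDH d.2⟩) :=
      isCharacter_comp (Subgroup.inclusion hDH) (isCharacter_of_irr hϑ)
    have hδ : IsIrrCharacter D (fun d : D => ϑ ⟨(d : G), hDH d.2⟩) := by
      apply isIrrCharacter_of_restrict_irr_berger (H.normalCore.subgroupOf D) hδc
      exact isIrrCharacter_comp_mulEquiv (Subgroup.subgroupOfEquivOfLe hLD.le) hϑL
    have h25 : classInner (fun d : D => ψ₀ ⟨(d : G), hDM d.2⟩)
        (fun d : D => ϑ ⟨(d : G), hDH d.2⟩) = (e : ℂ) := by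
      rw [← classInner_conj_symm, ← h24, Complex.conj_natCast, hfe]
    have : Fintype (D.subgroupOf (K ⊔ D)) := Fintype.ofFinite _
    have hvan := vanish_off_of_ramified (G := (K ⊔ D : Subgroup G)) (K.subgroupOf (K ⊔ D))
      (D.subgroupOf (K ⊔ D)) (H.normalCore.subgroupOf (K ⊔ D))
      (Subgroup.subgroupOf_mono _ hLK.le) (Subgroup.subgroupOf_mono _ hLD.le) ?_ ?_ ψ₀ hψ₀
      ((fun d : D => ϑ ⟨(d : G), hDH d.2⟩) ∘ (Subgroup.subgroupOfEquivOfLe hDM))
      (isIrrCharacter_comp_mulEquiv _ hδ) e ?_ ?_ ?_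
    · have hres : (fun l : H.normalCore.subgroupOf (K ⊔ D) => ψ₀ l) =
          (e : ℂ) • (φ₀ ∘ (Subgroup.subgroupOfEquivOfLe hLM)) := by
        funext l
        simp only [Pi.smul_apply, smul_eq_mul, Function.comp]
        have h26 := hχMv (l : (K ⊔ D : Subgroup G))
        have h27 := hχLv (Subgroup.subgroupOfEquivOfLe hLM l)
        have h28 : ((Subgroup.subgroupOfEquivOfLe hLM l : H.normalCore) : G) =
            ((l : (K ⊔ D : Subgroup G)) : G) := rfl
        rw [h28, h26, hfe, ← hee₀] at h27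
        push_cast at h27
        have he0' : (e : ℂ) ≠ 0 := by exact_mod_cast he0
        apply mul_left_cancel₀ he0'
        rw [h27]
        ring
      have h29 := sq_eq_index_of_vanish_off (H.normalCore.subgroupOf (K ⊔ D)) ψ₀ hψ₀ hvan
        (φ₀ ∘ (Subgroup.subgroupOfEquivOfLe hLM)) (isIrrCharacter_comp_mulEquiv _ hφ₀) e hres
      have h30 := relIndex_sup_eq H H.normalCore K D hinf hLK.le hLD.le hDH
      have hpos : 0 < H.normalCore.relIndex K := by
        rw [hpa]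
        exact pow_pos hp.pos a
      have h31 : H.normalCore.relIndex D = 1 := by
        have h32 : H.normalCore.relIndex K * H.normalCore.relIndex D =
            H.normalCore.relIndex K * 1 := by
          rw [mul_one, ← h30, ← hidxK]
          exact h29.symm
        exact Nat.eq_of_mul_eq_mul_left hpos h32
      exact not_le_of_gt hLD (Subgroup.relIndex_eq_one.mp h31)
    · intro x hx hx'
      rw [Subgroup.mem_subgroupOf] at hx hx' ⊢
      exact hinf _ hx (hDH hx')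
    · rw [← Subgroup.subgroupOf_sup hDM hKM, sup_comm, Subgroup.subgroupOf_self]
    · rw [← h25, ← classInner_comp_equiv (Subgroup.subgroupOfEquivOfLe hDM)]
      rfl
    · rw [Nat.card_congr (Subgroup.subgroupOfEquivOfLe hLM).toEquiv,
        Nat.card_congr (Subgroup.subgroupOfEquivOfLe hKM).toEquiv]
      exact hcardK
    · intro x hx hk
      rw [Subgroup.mem_subgroupOf] at hx ⊢
      apply mem_of_conj_mem H H.normalCore K D hcore hsup hinf hLD hDH hDinv hDchief _ hx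
      intro k hk'
      have := hk ⟨k, hKM hk'⟩ (Subgroup.mem_subgroupOf.mpr hk')
      exact Subgroup.mem_subgroupOf.mp this

/-- **Isaacs 11.32**. -/
theorem berger_lemma (L H : Subgroup G) [L.Normal] (hLH : L ≤ H) (hmax : IsCoatom H)
    (hsolv : Group.IsSolvable (G ⧸ L)) (ϑ : H → ℂ) (hϑ : IsIrrCharacter H ϑ)
    (hϑL : IsIrrCharacter L (fun x : L => ϑ ⟨(x : G), hLH x.2⟩))
    (hind : IsIrrCharacter G (indFun H ϑ)) :
    ∃ M : Subgroup G, M.Normal ∧ L ≤ M ∧ ¬ ∃ (φ : M → ℂ) (e : ℕ), IsIrrCharacter M φ ∧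
      (fun m : M => indFun H ϑ m) = (e : ℂ) • φ := by
  by_contra hcon
  have hLC : L ≤ H.normalCore := Subgroup.normal_le_normalCore.mpr hLH
  obtain ⟨m, hm⟩ := exists_derivedSeries_le_of_isSolvable_quotient L hsolv
  have : Fintype H.normalCore := Fintype.ofFinite _
  apply berger_lemma_core H hmax ⟨m, hm.trans hLC⟩ ϑ hϑ ?_ hind
  · intro M hM hCM
    by_contra hno
    exact hcon ⟨M, hM, hLC.trans hCM, hno⟩
  · have hc : IsCharacter H.normalCore
        (fun x : H.normalCore => ϑ ⟨(x : G), H.normalCore_le x.2⟩) :=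
      isCharacter_comp (Subgroup.inclusion H.normalCore_le) (isCharacter_of_irr hϑ)
    apply isIrrCharacter_of_restrict_irr_berger (L.subgroupOf H.normalCore) hc
    exact isIrrCharacter_comp_mulEquiv (Subgroup.subgroupOfEquivOfLe hLC) hϑL

end Assembly

end Cfsg.Agent.Lib.H23
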