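import Mathlib
import Cfsg.Prelude.Def_Blocks
import Cfsg.Agent.Lib.H23.PCPBlock

/-!
# The members of a block of `G = P · C_G(P)` with defect group `P`, in terms of the canonical
character (helper23)

* `apply_mul_canonical`: `θ(y x) = λ_θ(y) χ(x)` for `θ ∈ B`, `χ ∈ B` the canonical character,
  `y ∈ P`, `x` `p`-regular.
* `canonical_main`: the statement S4714.
-/

set_option autoImplicit false

namespace Cfsg.Agent.Lib.H23.PCP

open Cfsg MonoidAlgebra Cfsg.Agent.Lib.H23 Cfsg.Agent.Lib.H24 Cfsg.Agent.Lib.L0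
  Cfsg.Agent.Lib.L0.BlockMinMax Cfsg.Agent.Lib.L0.Tilde Cfsg.Agent.Lib.H23.NormalDefect
open scoped ComplexConjugate

variable {G : Type*} [Group G] [Fintype G] {p : ℕ} [Fact p.Prime] {M : Ideal AlgInt}
  (P : Subgroup G) [hPn : P.Normal] [Fintype P]

theorem apply_mul_canonical (hM : IsPModular p M) (χ₀ : IrrCharacter G)
    (hPp : IsPGroup p P) (hG : P ⊔ Subgroup.centralizer (P : Set G) = ⊤)
    (hD : IsDefectGroup p M (blockOf M (χ₀ : G → ℂ)) P)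
    (χ : IrrCharacter G) (hχ : χ ∈ blockOf M (χ₀ : G → ℂ))
    (hχP : ∀ x ∈ P, (χ : G → ℂ) x = (χ : G → ℂ) 1)
    (θ : IrrCharacter G) (hθ : θ ∈ blockOf M (χ₀ : G → ℂ)) (y : P) (x : G)
    (hx : ¬ p ∣ orderOf x) :
    (θ : G → ℂ) ((y : G) * x) = (lam P θ : P → ℂ) y * (χ : G → ℂ) x := by
  classical
  haveI hPr := isPrime_of_isPModular hM
  obtain ⟨ψ, hψ, h0⟩ := Cfsg.Agent.Lib.L0.BlockHeight.exists_height_zero (p := p) (M := M) χ₀
  obtain ⟨h1, -⟩ := apply_pRegular_eq P hM χ₀ hPp hG hD ψ hψ h0 θ hθ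
  obtain ⟨h2, -⟩ := apply_pRegular_eq P hM χ₀ hPp hG hD ψ hψ h0 χ hχ
  have hl : lam P χ = triv P := (lam_eq_triv_iff P hG χ).2 hχP
  have h3 : (χ : G → ℂ) x = (ψ : G → ℂ) x := by
    rw [h2 x hx, hl]
    show (1 : ℂ) * _ = _
    rw [one_mul]
  have hxc := commute_of_pRegular P hPp hG hx
  rw [apply_mul_eq P hG θ (lam P θ) (lam_spec P θ) y x hxc, h1 x hx, h3]
  have h4 : (lam P θ : P → ℂ) 1 ≠ 0 := irr_one_ne_zero _
  field_simp

theorem orderOf_coe_pow (hPp : IsPGroup p P) (w : P) : ∃ k : ℕ, orderOf (w : G) = p ^ k := by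
  obtain ⟨j, hj⟩ := (IsPGroup.iff_orderOf.1 hPp) w
  exact ⟨j, by rw [Subgroup.orderOf_coe, hj]⟩

open Classical in
theorem mem_prodSet_iff (hPp : IsPGroup p P)
    (hG : P ⊔ Subgroup.centralizer (P : Set G) = ⊤) (z : G) :
    z ∈ prodSet p P ↔ ∃ y ∈ P, IsPPart p z y := by
  constructor
  · intro hz
    unfold prodSet at hz
    obtain ⟨⟨u, y⟩, hs, rfl⟩ := Finset.mem_image.1 hz
    have hy : ¬ p ∣ orderOf y := (Finset.mem_filter.1 (Finset.mem_product.1 hs).2).2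
    exact ⟨u, u.2, isPPart_mul (commute_of_pRegular P hPp hG hy u u.2) (orderOf_coe_pow P hPp u) hy⟩
  · rintro ⟨y, hy, w, rfl, -, -, hw⟩
    unfold prodSet
    refine Finset.mem_image.2 ⟨(⟨y, hy⟩, w), ?_, rfl⟩
    exact Finset.mem_product.2 ⟨Finset.mem_univ _, Finset.mem_filter.2 ⟨Finset.mem_univ _, hw⟩⟩

/-- **S4714** in `blockOf` form. -/
theorem canonical_main (hM : IsPModular p M) (χ₀ : IrrCharacter G)
    (hPp : IsPGroup p P) (hG : P ⊔ Subgroup.centralizer (P : Set G) = ⊤)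
    (hD : IsDefectGroup p M (blockOf M (χ₀ : G → ℂ)) P)
    (χ : IrrCharacter G) (hχ : χ ∈ blockOf M (χ₀ : G → ℂ))
    (hχP : ∀ x ∈ P, (χ : G → ℂ) x = (χ : G → ℂ) 1) :
    (∀ θ : IrrCharacter G, θ ∈ blockOf M (χ₀ : G → ℂ) ↔ ∃ ζ : IrrCharacter P,
      (∀ (y : P) (x : G), ¬ p ∣ orderOf x → Commute (y : G) x →
        (θ : G → ℂ) ((y : G) * x) = (ζ : P → ℂ) y * (χ : G → ℂ) x) ∧
      (∀ z : G, (∀ y : G, IsPPart p z y → y ∉ P) → (θ : G → ℂ) z = 0)) ∧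
    ∀ ζ : IrrCharacter P, ∃ θ ∈ blockOf M (χ₀ : G → ℂ),
      (∀ (y : P) (x : G), ¬ p ∣ orderOf x → Commute (y : G) x →
        (θ : G → ℂ) ((y : G) * x) = (ζ : P → ℂ) y * (χ : G → ℂ) x) ∧
      (∀ z : G, (∀ y : G, IsPPart p z y → y ∉ P) → (θ : G → ℂ) z = 0) := by
  classical
  have hsurj : ∀ ξ : IrrCharacter P, ∃ θ ∈ blockOf M (χ₀ : G → ℂ), lam P θ = ξ := by
    intro ξ
    obtain ⟨θ, hθ, hcon⟩ := exists_irr_over_of_pGroup hM χ₀ P hPp ξ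
    exact ⟨θ, hθ, constituent_unique P hG θ ξ (lam P θ) hcon (lam_spec P θ)⟩
  have hfwd : ∀ θ : IrrCharacter G, θ ∈ blockOf M (χ₀ : G → ℂ) →
      (∀ (y : P) (x : G), ¬ p ∣ orderOf x → Commute (y : G) x →
        (θ : G → ℂ) ((y : G) * x) = (lam P θ : P → ℂ) y * (χ : G → ℂ) x) ∧
      (∀ z : G, (∀ y : G, IsPPart p z y → y ∉ P) → (θ : G → ℂ) z = 0) := by
    intro θ hθ
    refine ⟨fun y x hx _ => apply_mul_canonical P hM χ₀ hPp hG hD χ hχ hχP θ hθ y x hx, ?_⟩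
    intro z hz
    apply eq_zero_of_not_mem_prodSet P hM χ₀ hPp hG hD θ hθ
    rw [mem_prodSet_iff P hPp hG]
    rintro ⟨y, hy, hyz⟩
    exact hz y hyz hy
  refine ⟨fun θ => ⟨fun hθ => ⟨lam P θ, hfwd θ hθ⟩, ?_⟩, ?_⟩
  · rintro ⟨ζ, h1, h2⟩
    obtain ⟨θ', hθ', hl⟩ := hsurj ζ
    obtain ⟨h1', h2'⟩ := hfwd θ' hθ'
    have : θ = θ' := by
      apply Subtype.ext
      funext g
      by_cases hg : g ∈ prodSet p P
      · obtain ⟨y, hy, w, rfl, hc, -, hw⟩ := (mem_prodSet_iff P hPp hG g).1 hg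
        have e1 := h1 ⟨y, hy⟩ w hw hc
        have e2 := h1' ⟨y, hy⟩ w hw hc
        rw [hl] at e2
        exact e1.trans e2.symm
      · have hz : ∀ y : G, IsPPart p g y → y ∉ P := by
          intro y hyz hy
          exact hg ((mem_prodSet_iff P hPp hG g).2 ⟨y, hy, hyz⟩)
        rw [h2 g hz, h2' g hz]
    rw [this]
    exact hθ'
  · intro ζ
    obtain ⟨θ', hθ', hl⟩ := hsurj ζ
    obtain ⟨h1', h2'⟩ := hfwd θ' hθ'
    rw [hl] at h1'
    exact ⟨θ', hθ', h1', h2'⟩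

end Cfsg.Agent.Lib.H23.PCP
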