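import Mathlib
import Cfsg.Prelude.Def_Blocks
import Cfsg.Agent.S0973
import Cfsg.Agent.Lib.H23.PCPCanon
import Cfsg.Agent.Lib.H23.DegreeDvd
import Cfsg.Agent.Lib.L0.PRegCongP

/-!
# Central characters at `p`-elements (helper23)

* `centralChar_pElement`: for a block `B` with defect group `D`, `χ ∈ B` and a `p`-element `x`:
  `ω_χ(K_x) ≡ |K_x ∩ D|` modulo the local ideal.
* `dvd_card_pow_eq_one`: a nontrivial `p`-group has `≡ 0 (mod p)` solutions of `h ^ p = 1`.
* `defect_zero_of_vanish`: the statement S0928.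
-/

set_option autoImplicit false

namespace Cfsg.Agent.Lib.H23.CentralP

open Cfsg MonoidAlgebra Cfsg.Agent.Lib.H23 Cfsg.Agent.Lib.H24 Cfsg.Agent.Lib.L0
open scoped ComplexConjugate

variable {G : Type*} [Group G] [Fintype G] {p : ℕ} [Fact p.Prime] {M : Ideal AlgInt}

/-- Auxiliary form with a general subgroup `L = D C_G(D)`. -/
theorem centralChar_pElement_aux (hM : IsPModular p M) (χ₀ : IrrCharacter G) (D L : Subgroup G)
    [Fintype L] (hDL : D ≤ L)
    (hsup : D.subgroupOf L ⊔ Subgroup.centralizer ((D.subgroupOf L : Subgroup L) : Set L) = ⊤)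
    (θ₀ : IrrCharacter L)
    (hbD : IsDefectGroup p M (blockOf M (θ₀ : L → ℂ)) (D.subgroupOf L))
    (hbind : IsInducedBlock M L (blockOf M (θ₀ : L → ℂ)) (blockOf M (χ₀ : G → ℂ)))
    (x : G) (hx : ∃ k : ℕ, orderOf x = p ^ k) :
    MemLocalIdeal M (centralChar (χ₀ : G → ℂ) x -
      (Nat.card {h : D // IsConj x (h : G)} : ℂ)) := by
  classical
  haveI hPr := isPrime_of_isPModular hM
  have hp : p.Prime := Fact.out
  haveI : Fintype (D.subgroupOf L) := Fintype.ofFinite _
  have hPp : IsPGroup p (D.subgroupOf L) := isPGroup_of_isDefectGroup hbD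
  haveI : (D.subgroupOf L).Normal := PCP.normal_of_sup_eq_top (D.subgroupOf L) hsup
  obtain ⟨⟨θ, ⟨hθb, hθP⟩, -⟩, -, -⟩ := PCP.pcp_main (D.subgroupOf L) hM θ₀ hPp hsup hbD
  have h1 : (θ : L → ℂ) 1 ≠ 0 := irr_one_ne_zero θ
  have hnd : ¬ p ∣ orderOf (1 : L) := by
    rw [orderOf_one]; exact fun h => hp.one_lt.ne' (Nat.dvd_one.1 h)
  -- values of `θ` on `p`-elements
  have hval : ∀ h : L, (∃ k : ℕ, orderOf h = p ^ k) →
      (θ : L → ℂ) h / (θ : L → ℂ) 1 = if (h : G) ∈ D then 1 else 0 := by
    intro h hh
    by_cases hhD : (h : G) ∈ D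
    · rw [if_pos hhD, hθP h (Subgroup.mem_subgroupOf.2 hhD), div_self h1]
    · rw [if_neg hhD]
      have : (θ : L → ℂ) h = 0 := by
        apply PCP.eq_zero_of_not_mem_prodSet (D.subgroupOf L) hM θ₀ hPp hsup hbD θ hθb
        rw [PCP.mem_prodSet_iff (D.subgroupOf L) hPp hsup]
        rintro ⟨y, hy, hyh⟩
        have h2 : IsPPart p h h := ⟨1, mul_one h, Commute.one_right h, hh, hnd⟩
        have h3 := IsPPart.unique hp hyh h2
        rw [h3] at hy
        exact hhD (Subgroup.mem_subgroupOf.1 hy)
      rw [this, zero_div]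
  have hind := hbind.2.2 θ hθb χ₀ (mem_blockOf_self χ₀) x
  have hcomp : inducedCentralChar L (θ : L → ℂ) x =
      (Nat.card {h : D // IsConj x (h : G)} : ℂ) := by
    unfold inducedCentralChar
    have h2 : ∀ h : L, h ∈ {h : L | IsConj x (h : G)} →
        (θ : L → ℂ) h / (θ : L → ℂ) 1 = if (h : G) ∈ D then 1 else 0 := by
      intro h hh
      apply hval
      obtain ⟨k, hk⟩ := hx
      refine ⟨k, ?_⟩
      rw [← Subgroup.orderOf_coe, ← orderOf_eq_of_isConj (hh : IsConj x (h : G)), hk]
    rw [finsum_mem_congr rfl h2, finsum_mem_def, finsum_eq_sum_of_fintype]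
    have h3 : ∀ h : L, ({h : L | IsConj x (h : G)}.indicator
        (fun i : L => if (i : G) ∈ D then (1 : ℂ) else 0) h) =
        if (IsConj x (h : G) ∧ (h : G) ∈ D) then 1 else 0 := by
      intro h
      by_cases ha : IsConj x (h : G)
      · rw [Set.indicator_of_mem (show h ∈ {h : L | IsConj x (h : G)} from ha)]
        by_cases hb : (h : G) ∈ D
        · rw [if_pos hb, if_pos ⟨ha, hb⟩]
        · rw [if_neg hb, if_neg (fun hc : IsConj x (h : G) ∧ (h : G) ∈ D => hb hc.2)]
      · rw [Set.indicator_of_notMem (show h ∉ {h : L | IsConj x (h : G)} from ha),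
          if_neg (fun hc : IsConj x (h : G) ∧ (h : G) ∈ D => ha hc.1)]
    rw [Finset.sum_congr rfl (fun h _ => h3 h), Finset.sum_boole, Nat.cast_inj]
    rw [← Fintype.card_subtype, ← Nat.card_eq_fintype_card]
    refine Nat.card_congr ⟨fun h => ⟨⟨(h.1 : G), h.2.2⟩, h.2.1⟩,
      fun h => ⟨⟨(h.1 : G), hDL h.1.2⟩, h.2, h.1.2⟩, ?_, ?_⟩
    · intro h; rfl
    · intro h; rfl
  rw [hcomp] at hind
  have := memLocalIdeal_neg hind
  rwa [neg_sub] at this

/-- `ω_χ(K_x) ≡ |K_x ∩ D|` for a `p`-element `x` and `χ` in a block with defect group `D`. -/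
theorem centralChar_pElement (hM : IsPModular p M) (χ₀ : IrrCharacter G) (D : Subgroup G)
    (hD : IsDefectGroup p M (blockOf M (χ₀ : G → ℂ)) D) (x : G)
    (hx : ∃ k : ℕ, orderOf x = p ^ k) :
    MemLocalIdeal M (centralChar (χ₀ : G → ℂ) x -
      (Nat.card {h : D // IsConj x (h : G)} : ℂ)) := by
  classical
  obtain ⟨⟨b, hbD, hbind⟩, -⟩ := Cfsg.Agent.S0973.result p M hM _ ⟨χ₀, rfl⟩ D hD
  obtain ⟨θ₀, rfl⟩ := hbind.1
  haveI : Fintype ↥(D ⊔ Subgroup.centralizer (D : Set G)) := Fintype.ofFinite _
  refine centralChar_pElement_aux hM χ₀ D (D ⊔ Subgroup.centralizer (D : Set G)) le_sup_left ?_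
    θ₀ hbD hbind x hx
  rw [eq_top_iff]
  have h1 : D.subgroupOf (D ⊔ Subgroup.centralizer (D : Set G)) ⊔
      (Subgroup.centralizer (D : Set G)).subgroupOf (D ⊔ Subgroup.centralizer (D : Set G)) = ⊤ := by
    rw [← Subgroup.subgroupOf_sup le_sup_left le_sup_right, Subgroup.subgroupOf_self]
  rw [← h1]
  apply sup_le_sup le_rfl
  intro c hc
  rw [Subgroup.mem_centralizer_iff]
  intro y hy
  have := Subgroup.mem_centralizer_iff.1 (Subgroup.mem_subgroupOf.1 hc) (y : G)
    (Subgroup.mem_subgroupOf.1 hy)
  exact Subtype.ext this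

/-- In a nontrivial `p`-group the number of solutions of `h ^ p = 1` is divisible by `p`. -/
theorem dvd_card_pow_eq_one {D : Type*} [Group D] [Finite D] (hD : IsPGroup p D)
    (hne : Nontrivial D) : p ∣ Nat.card {h : D // h ^ p = 1} := by
  classical
  haveI := Fintype.ofFinite D
  have hp : p.Prime := Fact.out
  -- a central element of order `p`
  haveI : Nontrivial (Subgroup.center D) := hD.center_nontrivial
  have hpc : p ∣ Fintype.card (Subgroup.center D) := by
    obtain ⟨n, hn⟩ := IsPGroup.iff_card.1 (hD.to_subgroup (Subgroup.center D))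
    rw [← Nat.card_eq_fintype_card, hn]
    have hn0 : n ≠ 0 := by
      rintro rfl
      rw [pow_zero] at hn
      have := (Nat.card_eq_one_iff_unique.1 hn).1
      exact not_subsingleton (Subgroup.center D) this
    exact dvd_pow_self p hn0
  obtain ⟨z, hz⟩ := exists_prime_orderOf_dvd_card p hpc
  have hzc : ∀ h : D, (z : D) * h = h * (z : D) := fun h => (Subgroup.mem_center_iff.1 z.2 h).symm
  have hzp : (z : D) ^ p = 1 := by
    have := pow_orderOf_eq_one z
    rw [hz] at this
    exact_mod_cast congrArg Subtype.val this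
  have hz1 : (z : D) ≠ 1 := by
    intro h
    have : z = 1 := Subtype.ext h
    rw [this, orderOf_one] at hz
    exact hp.one_lt.ne' hz.symm
  set S := {h : D // h ^ p = 1} with hS
  let f : Function.End S := fun h => ⟨(z : D) * h.1, by
    rw [(show Commute (z : D) h.1 from hzc h.1).mul_pow, hzp, h.2, one_mul]⟩
  have hfpow : ∀ (k : ℕ) (h : S), ((f : S → S)^[k] h).1 = (z : D) ^ k * h.1 := by
    intro k
    induction k with
    | zero => intro h; rw [Function.iterate_zero, id_eq, pow_zero, one_mul]
    | succ k ih =>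
      intro h
      rw [Function.iterate_succ_apply']
      show (z : D) * ((f : S → S)^[k] h).1 = _
      rw [ih h, pow_succ', mul_assoc]
  have hcoe : ∀ k : ℕ, ((f ^ k : Function.End S) : S → S) = (f : S → S)^[k] := fun k =>
    hom_coe_pow (fun g : Function.End S ↦ (g : S → S)) rfl (fun g h ↦ rfl) f k
  have hf : f ^ p ^ 1 = 1 := by
    funext h
    apply Subtype.ext
    rw [pow_one]
    show (((f ^ p : Function.End S) : S → S) h).1 = h.1
    rw [hcoe, hfpow, hzp, one_mul]
  have h1 := Equiv.Perm.card_fixedPoints_modEq (p := p) (n := 1) hf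
  have h2 : Fintype.card (Function.fixedPoints f) = 0 := by
    rw [Fintype.card_eq_zero_iff]
    refine ⟨fun h => ?_⟩
    have h3 : f h.1 = h.1 := h.2
    have h4 : (z : D) * h.1.1 = h.1.1 := congrArg Subtype.val h3
    exact hz1 (mul_eq_right.1 h4)
  rw [h2] at h1
  rw [Nat.card_eq_fintype_card]
  exact (Nat.modEq_zero_iff_dvd).1 h1

/-- **S0928**: an irreducible character vanishing at all elements of order `p` has `p`-defect
zero. -/
theorem defect_zero_of_vanish (χ : IrrCharacter G)
    (hvan : ∀ g : G, orderOf g = p → (χ : G → ℂ) g = 0) :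
    (charDegree (χ : G → ℂ)).factorization p = (Nat.card G).factorization p := by
  classical
  have hp : p.Prime := Fact.out
  obtain ⟨M, hM⟩ := Cfsg.Agent.Lib.L0.PRegP.exists_isPModular hp
  haveI hPr := isPrime_of_isPModular hM
  obtain ⟨D, hD⟩ := exists_isDefectGroup hM χ
  have hcard := card_defectGroup hM χ D hD
  have hDp : IsPGroup p D := isPGroup_of_isDefectGroup hD
  have hχB : χ ∈ blockOf M (χ : G → ℂ) := mem_blockOf_self χ
  by_cases hd : blockDefect p (blockOf M (χ : G → ℂ)) = 0
  · -- defect zero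
    have h1 := Cfsg.Agent.Lib.L0.BlockMinMax.minDeg_le (p := p) (M := M) χ hχB
    rw [Cfsg.Agent.Lib.L0.BlockMinMax.minDeg_eq_sub_blockDefect, hd, Nat.sub_zero] at h1
    apply le_antisymm _ h1
    have h2 : charDegree (χ : G → ℂ) ∣ Nat.card G := charDegree_dvd_card _ χ.2
    have h3 : Nat.card G ≠ 0 := (Nat.card_pos (α := G)).ne'
    exact (Nat.factorization_le_iff_dvd (fun h => h3 (by rw [h] at h2; exact Nat.eq_zero_of_zero_dvd h2))
      h3).2 h2 p
  · exfalso
    haveI : Fintype D := Fintype.ofFinite D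
    have hnt : Nontrivial D := by
      rw [← Finite.one_lt_card_iff_nontrivial, hcard]
      exact Nat.one_lt_pow hd hp.one_lt
    -- the fibres have size divisible by `p`
    have hfib : ∀ x : G, orderOf x = p → p ∣ Nat.card {h : D // IsConj x (h : G)} := by
      intro x hx
      have h1 := centralChar_pElement hM χ D hD x ⟨1, by rw [hx, pow_one]⟩
      have h2 : centralChar (χ : G → ℂ) x = 0 := by
        unfold centralChar
        rw [hvan x hx, mul_zero, zero_div]
      rw [h2, zero_sub] at h1
      have h3 := memLocalIdeal_neg h1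
      rw [neg_neg] at h3
      exact (natCast_memLocalIdeal_iff hM _).1 h3
    -- count the elements of order `p` in `D` class by class
    set T : Finset D := Finset.univ.filter (fun h : D => orderOf (h : G) = p) with hT
    have hTdvd : p ∣ T.card := by
      haveI := Fintype.ofFinite (ConjClasses G)
      rw [Finset.card_eq_sum_card_fiberwise (f := fun h : D => ConjClasses.mk (h : G))
        (t := Finset.univ) (fun _ _ => Finset.mem_univ _)]
      apply Finset.dvd_sum
      intro c _
      by_cases hne : (T.filter (fun h : D => ConjClasses.mk (h : G) = c)).Nonempty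
      · obtain ⟨x₀, hx₀⟩ := hne
        obtain ⟨hx₀T, hx₀c⟩ := Finset.mem_filter.1 hx₀
        have hx₀p : orderOf (x₀ : G) = p := (Finset.mem_filter.1 hx₀T).2
        have h1 := hfib (x₀ : G) hx₀p
        have h2 : (T.filter (fun h : D => ConjClasses.mk (h : G) = c)).card =
            Nat.card {h : D // IsConj (x₀ : G) (h : G)} := by
          rw [Nat.card_eq_fintype_card, Fintype.card_subtype]
          congr 1
          ext h
          simp only [Finset.mem_filter, Finset.mem_univ, true_and, hT]
          constructor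
          · rintro ⟨-, hc⟩
            rw [← hx₀c] at hc
            exact ConjClasses.mk_eq_mk_iff_isConj.1 hc.symm
          · intro hc
            refine ⟨?_, ?_⟩
            · rw [← orderOf_eq_of_isConj hc]; exact hx₀p
            · rw [← hx₀c]; exact (ConjClasses.mk_eq_mk_iff_isConj.2 hc).symm
        rw [h2]; exact h1
      · rw [Finset.not_nonempty_iff_eq_empty.1 hne, Finset.card_empty]
        exact dvd_zero p
    -- solutions of `h ^ p = 1`
    have hsol := dvd_card_pow_eq_one (p := p) hDp hnt
    have hsol2 : Nat.card {h : D // h ^ p = 1} = T.card + 1 := by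
      rw [Nat.card_eq_fintype_card, Fintype.card_subtype]
      have h1 : (Finset.univ.filter (fun h : D => h ^ p = 1)) = insert (1 : D) T := by
        ext h
        simp only [Finset.mem_filter, Finset.mem_univ, true_and, Finset.mem_insert, hT]
        constructor
        · intro hh
          have h2 : orderOf h ∣ p := orderOf_dvd_of_pow_eq_one hh
          rcases (Nat.dvd_prime hp).1 h2 with h3 | h3
          · left; exact orderOf_eq_one_iff.1 h3
          · right; rw [Subgroup.orderOf_coe]; exact h3
        · rintro (rfl | hh)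
          · exact one_pow p
          · rw [Subgroup.orderOf_coe] at hh
            rw [← hh]; exact pow_orderOf_eq_one h
      rw [h1, Finset.card_insert_of_notMem]
      intro h1T
      have := (Finset.mem_filter.1 h1T).2
      rw [Subgroup.coe_one, orderOf_one] at this
      exact hp.one_lt.ne' this.symm
    rw [hsol2] at hsol
    have := (Nat.dvd_add_right hTdvd).1 hsol
    exact hp.one_lt.ne' (Nat.dvd_one.1 this)

end Cfsg.Agent.Lib.H23.CentralP
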