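import Mathlib
import Cfsg.Prelude.Def_Blocks
import Cfsg.Agent.Lib.H23.BlockLocal
import Cfsg.Agent.Lib.H23.CharGalois
import Cfsg.Agent.Lib.H23.CentralChar

/-!
# Blocks do not depend on the maximal ideal (helper23)

* `mem_of_forall_galois_mem`: if all Galois conjugates of a cyclotomic algebraic integer lie in
  one maximal ideal `M ∋ p` of the algebraic integers, then the number lies in every maximal
  ideal containing `p`;
* `centralizer_pow_of_coprime`: `C(g ^ k) = C(g)` for `k` prime to the order of `g`;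
* `sameBlock_sub_mem`: if `χ, ψ` are in the same block relative to `M`, the differences of
  their central characters lie in every maximal ideal containing `p`.
-/

set_option autoImplicit false

namespace Cfsg.Agent.Lib.H23

open Cfsg

section Galois

variable {p : ℕ} {M M' : Ideal AlgInt} (m : ℕ) [NeZero m]

/-- A product of elements congruent to `1` modulo an ideal is congruent to `1`. -/
theorem prod_one_sub_sub_one_mem {R : Type*} [CommRing R] (I : Ideal R) {ι : Type*}
    (s : Finset ι) (w : ι → R) (hw : ∀ i ∈ s, w i ∈ I) : ∏ i ∈ s, (1 - w i) - 1 ∈ I := by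
  rw [← Ideal.Quotient.eq, map_prod, map_one]
  refine Finset.prod_eq_one (fun i hi => ?_)
  rw [map_sub, map_one, Ideal.Quotient.eq_zero_iff_mem.2 (hw i hi), sub_zero]

theorem mem_of_forall_galois_mem (hM : IsPModular p M) (hM' : IsPModular p M')
    (y : CyclotomicField m ℚ)
    (hall : ∀ σ : Gal(CyclotomicField m ℚ/ℚ), ∃ r : AlgInt, r ∈ M ∧ (r : ℂ) = cycEmb m (σ y)) :
    ∃ r : AlgInt, r ∈ M' ∧ (r : ℂ) = cycEmb m y := by
  classical
  have hP := isPrime_of_isPModular hM
  have hP' := isPrime_of_isPModular hM'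
  have hp := prime_of_isPModular hM
  choose z hzM hzval using hall
  refine ⟨z 1, ?_, by rw [hzval 1, AlgEquiv.one_apply]⟩
  obtain ⟨n, t, ht, r, hr⟩ := exists_pow_sub_pow_mem_span hM' (z 1)
  -- the norm of `1 - y ^ t`
  set u : CyclotomicField m ℚ := 1 - y ^ t with hu
  have huσ : ∀ σ : Gal(CyclotomicField m ℚ/ℚ),
      cycEmb m (σ u) = ((1 - z σ ^ t : AlgInt) : ℂ) := by
    intro σ
    rw [hu, map_sub, map_sub, map_one, map_one, map_pow, map_pow, ← hzval σ]
    push_cast
    rfl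
  have hne1 : ∀ σ : Gal(CyclotomicField m ℚ/ℚ), (1 - z σ ^ t : AlgInt) ∉ M := by
    intro σ h
    have h2 : z σ ^ t ∈ M := M.pow_mem_of_mem (hzM σ) t ht
    have := M.add_mem h h2
    rw [sub_add_cancel] at this
    exact (Ideal.ne_top_iff_one M).1 hP.ne_top this
  have hu1 : cycEmb m u = ((1 - z 1 ^ t : AlgInt) : ℂ) := by
    have := huσ 1
    rwa [AlgEquiv.one_apply] at this
  obtain ⟨N, -, hN⟩ := exists_int_prod_galois m u
    (by rw [hu1]; exact (1 - z 1 ^ t : AlgInt).2)
    (by rw [hu1]; exact coe_ne_zero_of_not_mem (hne1 1))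
  have hN' : ∏ σ : Gal(CyclotomicField m ℚ/ℚ), (1 - z σ ^ t : AlgInt) = (N : AlgInt) := by
    apply Subtype.ext
    push_cast
    rw [← hN]
    refine Finset.prod_congr rfl (fun σ _ => ?_)
    rw [huσ σ]
    push_cast
    rfl
  -- `N ≡ 1 mod p`
  have hN1 : (p : ℤ) ∣ N - 1 := by
    rw [← intCast_mem_iff hM]
    push_cast
    rw [← hN']
    exact prod_one_sub_sub_one_mem M _ _ (fun σ _ => M.pow_mem_of_mem (hzM σ) t ht)
  have hNp : ¬ (p : ℤ) ∣ N := by
    intro h
    have h1 : (p : ℤ) ∣ 1 := by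
      have := dvd_sub h hN1
      rwa [sub_sub_cancel] at this
    have : p ∣ 1 := by exact_mod_cast h1
    exact hp.one_lt.ne' (Nat.dvd_one.1 this)
  -- hence `1 - z ^ t ∉ M'`
  have hnot : (1 - z 1 ^ t : AlgInt) ∉ M' := by
    intro h
    apply hNp
    rw [← intCast_mem_iff hM', ← hN']
    exact Ideal.IsPrime.prod_mem_iff.2 ⟨1, Finset.mem_univ _, h⟩
  have h2 : z 1 ^ n * (1 - z 1 ^ t) ∈ M' := by
    have : z 1 ^ n * (1 - z 1 ^ t) = (p : AlgInt) * r := by rw [← hr]; ring
    rw [this]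
    exact M'.mul_mem_right _ (natCast_mem_of_isPModular hM')
  exact hP'.mem_of_pow_mem _ ((hP'.mem_or_mem h2).resolve_right hnot)

end Galois

section Centralizer

variable {G : Type*} [Group G]

theorem centralizer_pow_of_coprime (g : G) {k : ℕ} (hk : k.Coprime (orderOf g)) :
    Subgroup.centralizer ({g ^ k} : Set G) = Subgroup.centralizer ({g} : Set G) := by
  obtain ⟨j, hj⟩ := exists_pow_eq_self_of_coprime hk
  ext x
  simp only [Subgroup.mem_centralizer_iff, Set.mem_singleton_iff, forall_eq]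
  constructor
  · intro h
    have hc : Commute (g ^ k) x := h
    have := (hc.pow_left j).eq
    rwa [hj] at this
  · intro h
    have hc : Commute g x := h
    exact (hc.pow_left k).eq

end Centralizer

section Block

variable {G : Type*} [Group G] [Finite G] {p : ℕ} {M M' : Ideal AlgInt}

/-- Two irreducible characters in the same block relative to `M` have central characters
congruent modulo every maximal ideal containing `p`. -/
theorem sameBlock_sub_mem (hM : IsPModular p M) (hM' : IsPModular p M') {χ ψ : G → ℂ}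
    (hχ : IsIrrCharacter G χ) (hψ : IsIrrCharacter G ψ) (h : SameBlock M χ ψ) (g : G) :
    ∃ r : AlgInt, r ∈ M' ∧ (r : ℂ) = centralChar χ g - centralChar ψ g := by
  classical
  have hP := isPrime_of_isPModular hM
  obtain ⟨n₁, ρ₁, hirr₁, hρ₁⟩ := hχ
  obtain ⟨n₂, ρ₂, hirr₂, hρ₂⟩ := hψ
  have hχ' : IsIrrCharacter G χ := ⟨n₁, ρ₁, hirr₁, hρ₁⟩
  have hψ' : IsIrrCharacter G ψ := ⟨n₂, ρ₂, hirr₂, hρ₂⟩
  set m := Nat.card G with hm
  haveI : NeZero m := ⟨Nat.card_pos.ne'⟩
  have hgm : g ^ m = 1 := pow_card_eq_one'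
  obtain ⟨x₁, hx₁⟩ := exists_cyc_char m ρ₁ g hgm
  obtain ⟨x₂, hx₂⟩ := exists_cyc_char m ρ₂ g hgm
  set c : ℕ := (Subgroup.centralizer ({g} : Set G)).index with hc
  set d₁ : ℕ := Module.finrank ℂ (Fin n₁ → ℂ) with hd₁
  set d₂ : ℕ := Module.finrank ℂ (Fin n₂ → ℂ) with hd₂
  have hχ1 : χ 1 = (d₁ : ℂ) := by rw [← hρ₁, Representation.char_one]
  have hψ1 : ψ 1 = (d₂ : ℂ) := by rw [← hρ₂, Representation.char_one]
  set y : CyclotomicField m ℚ :=
    (c : CyclotomicField m ℚ) * x₁ * ((d₁ : CyclotomicField m ℚ))⁻¹ -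
      (c : CyclotomicField m ℚ) * x₂ * ((d₂ : CyclotomicField m ℚ))⁻¹ with hy
  have hyσ : ∀ σ : Gal(CyclotomicField m ℚ/ℚ), cycEmb m (σ y) =
      centralChar χ (g ^ (cycPow m σ).val) - centralChar ψ (g ^ (cycPow m σ).val) := by
    intro σ
    have hcop : ((cycPow m σ).val).Coprime (orderOf g) := by
      have h1 : ((cycPow m σ).val).Coprime m := ZMod.val_coe_unit_coprime (cycGalEquiv m σ)
      exact Nat.Coprime.coprime_dvd_right (orderOf_dvd_of_pow_eq_one hgm) h1
    unfold centralChar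
    rw [centralizer_pow_of_coprime g hcop, ← hc, hχ1, hψ1, hy]
    simp only [map_sub, map_mul, map_natCast, map_inv₀]
    rw [hx₁ σ, hx₂ σ, hρ₁, hρ₂]
    simp only [div_eq_mul_inv]
  have hall : ∀ σ : Gal(CyclotomicField m ℚ/ℚ), ∃ r : AlgInt, r ∈ M ∧
      (r : ℂ) = cycEmb m (σ y) := by
    intro σ
    set k := (cycPow m σ).val
    have h1 := h (g ^ k)
    have hint : IsIntegral ℤ (centralChar χ (g ^ k) - centralChar ψ (g ^ k)) :=
      (isIntegral_centralChar χ hχ' _).sub (isIntegral_centralChar ψ hψ' _)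
    refine ⟨⟨_, hint⟩, ?_, (hyσ σ).symm⟩
    exact (memLocalIdeal_coe_iff (M := M) ⟨_, hint⟩).1 h1
  obtain ⟨r, hr, hrv⟩ := mem_of_forall_galois_mem m hM hM' y hall
  refine ⟨r, hr, ?_⟩
  rw [hrv]
  have := hyσ 1
  rw [AlgEquiv.one_apply] at this
  rw [this]
  have hk : cycPow m (1 : Gal(CyclotomicField m ℚ/ℚ)) = 1 := by simp [cycPow]
  rw [hk, pow_val_one_eq m g hgm]

end Block

end Cfsg.Agent.Lib.H23
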