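import Mathlib
import Cfsg.Prelude.Def_Blocks
import Cfsg.Agent.Lib.H23.BlockGreen
import Cfsg.Agent.Lib.H23.BlockFirstMain

/-!
# Green's theorem: defect groups are Sylow intersections, general form (helper23)

`green`: if `D` is a defect group of the block `B` and `P` is a Sylow `p`-subgroup containing `D`,
there is a `p`-regular `x` with `D ∈ Syl_p(C_G(x))` and `D = P ∩ xPx⁻¹`.
Reduction to `N_G(D)` via Brauer's first main theorem and `Green.exists_sylow_inter`.
-/

set_option autoImplicit false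

namespace Cfsg.Agent.Lib.H23.Green

open Cfsg MonoidAlgebra Cfsg.Agent.Lib.H23
open scoped ComplexConjugate

/-- In a finite `p`-group `R`, a subgroup `D` with `N_R(D) ≤ D` is all of `R`. -/
theorem eq_of_normalizer_inf_le {G : Type*} [Group G] {p : ℕ} [Fact p.Prime] {D R : Subgroup G}
    [Finite R] (hR : IsPGroup p R) (hDR : D ≤ R)
    (hN : R ⊓ Subgroup.normalizer (D : Set G) ≤ D) : D = R := by
  haveI : Group.IsNilpotent R := hR.isNilpotent
  have hnc := (normalizerCondition_iff_only_full_group_self_normalizing (G := R)).1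
    Group.normalizerCondition_of_isNilpotent
  have h1 : Subgroup.normalizer ((D.subgroupOf R : Subgroup R) : Set R) = D.subgroupOf R := by
    rw [← Subgroup.subgroupOf_normalizer_eq hDR]
    apply le_antisymm
    · intro u hu
      rw [Subgroup.mem_subgroupOf] at hu ⊢
      exact hN (Subgroup.mem_inf.2 ⟨u.2, hu⟩)
    · intro u hu
      rw [Subgroup.mem_subgroupOf] at hu ⊢
      exact Subgroup.le_normalizer hu
  have h2 := hnc _ h1
  rw [Subgroup.subgroupOf_eq_top] at h2
  exact le_antisymm hDR h2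

variable {G : Type*} [Group G] [Fintype G] {p : ℕ} [Fact p.Prime] {M : Ideal AlgInt}

/-- **Green's theorem** (with Brauer's refinement). -/
theorem green (hM : IsPModular p M) (χ₀ : IrrCharacter G) (D : Subgroup G)
    (hD : IsDefectGroup p M (blockOf M (χ₀ : G → ℂ)) D) (P : Sylow p G)
    (hDP : D ≤ (P : Subgroup G)) :
    ∃ x : G, ¬ p ∣ orderOf x ∧
      (∃ S : Sylow p (Subgroup.centralizer ({x} : Set G)),
        (S : Subgroup (Subgroup.centralizer ({x} : Set G))).map
          (Subgroup.centralizer ({x} : Set G)).subtype = D) ∧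
      (P : Subgroup G) ⊓ (P : Subgroup G).map (MulAut.conj x).toMonoidHom = D := by
  classical
  haveI hPr := isPrime_of_isPModular hM
  have hp := prime_of_isPModular hM
  set NN := Subgroup.normalizer (D : Set G) with hNN
  haveI : Fintype NN := Fintype.ofFinite _
  obtain ⟨ξ₀, hDN, -⟩ := exists_block_down D NN rfl hM χ₀ hD
  set DN := D.subgroupOf NN with hDNdef
  have hDle : D ≤ NN := Subgroup.le_normalizer
  haveI hDNn : DN.Normal := Subgroup.normal_in_normalizer
  have hDp : IsPGroup p D := P.isPGroup'.to_le hDP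
  have hDNp : IsPGroup p DN := hDp.comap_subtype (K := NN)
  have hcardDN : Nat.card DN = p ^ blockDefect p (blockOf M (ξ₀ : NN → ℂ)) :=
    card_defectGroup hM ξ₀ DN hDN
  have hPN : IsPGroup p (((P : Subgroup G) ⊓ NN).subgroupOf NN) :=
    (P.isPGroup'.to_le inf_le_left).comap_subtype (K := NN)
  obtain ⟨P₁, hP₁⟩ := hPN.exists_le_sylow
  obtain ⟨y, hyreg, hycard, hyeq, hycent⟩ := exists_sylow_inter hM ξ₀ P₁
  have h1 : DN ≤ (P₁ : Subgroup NN) := hDNp.le_sylow_of_normal P₁
  have h2 : DN ≤ (P₁ : Subgroup NN).map (MulAut.conj y).toMonoidHom := by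
    intro u hu
    refine ⟨y⁻¹ * u * y, h1 ?_, ?_⟩
    · have := hDNn.conj_mem u hu y⁻¹
      rwa [inv_inv] at this
    · show (MulAut.conj y) (y⁻¹ * u * y) = u
      rw [MulAut.conj_apply]; group
  have hDNeq : DN = (P₁ : Subgroup NN) ⊓ Subgroup.centralizer {y} := by
    rw [hyeq]
    refine Subgroup.eq_of_le_of_card_ge (le_inf h1 h2) ?_
    rw [← hyeq, hycard, hcardDN]
  have hDNC : DN ≤ Subgroup.centralizer ({y} : Set NN) := hDNeq ▸ inf_le_right
  have hl : ∃ S : Sylow p (Subgroup.centralizer ({y} : Set NN)),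
      (S : Subgroup (Subgroup.centralizer ({y} : Set NN))).map
        (Subgroup.centralizer ({y} : Set NN)).subtype = D.subgroupOf NN := by
    have hcard : Nat.card (DN.subgroupOf (Subgroup.centralizer ({y} : Set NN))) =
        p ^ (Nat.card (Subgroup.centralizer ({y} : Set NN))).factorization p := by
      rw [hycent, Nat.card_congr (Subgroup.subgroupOfEquivOfLe hDNC).toEquiv, hcardDN]
    exact ⟨Sylow.ofCard _ hcard, by
      rw [Sylow.coe_ofCard]; exact Subgroup.map_subgroupOf_eq_of_le hDNC⟩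
  obtain ⟨hS, hyD, -⟩ := class_correspondence D NN rfl hDp y hl
  have hyD' : ∀ u ∈ D, u * (y : G) = (y : G) * u := by
    intro u hu
    exact (Subgroup.mem_centralizer_iff.1 hyD u hu)
  refine ⟨(y : G), ?_, hS, ?_⟩
  · rwa [Subgroup.orderOf_coe]
  · symm
    have hRp : IsPGroup p ↥((P : Subgroup G) ⊓ (P : Subgroup G).map
        (MulAut.conj (y : G)).toMonoidHom) := P.isPGroup'.to_le inf_le_left
    refine eq_of_normalizer_inf_le hRp ?_ ?_
    · intro u hu
      refine Subgroup.mem_inf.2 ⟨hDP hu, u, hDP hu, ?_⟩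
      show (MulAut.conj (y : G)) u = u
      rw [MulAut.conj_apply, ← hyD' u hu]; group
    · intro v hv
      obtain ⟨hvR, hvN⟩ := Subgroup.mem_inf.1 hv
      obtain ⟨hvP, t, ht, htv⟩ := Subgroup.mem_inf.1 hvR
      have htv' : (y : G) * t * (y : G)⁻¹ = v := by
        have : (MulAut.conj (y : G)) t = v := htv
        rwa [MulAut.conj_apply] at this
      have htN : t ∈ NN := by
        have : t = (y : G)⁻¹ * v * (y : G) := by rw [← htv']; group
        rw [this]
        exact NN.mul_mem (NN.mul_mem (NN.inv_mem y.2) hvN) y.2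
      have hvP₁ : (⟨v, hvN⟩ : NN) ∈ (P₁ : Subgroup NN) :=
        hP₁ (Subgroup.mem_subgroupOf.2 (Subgroup.mem_inf.2 ⟨hvP, hvN⟩))
      have htP₁ : (⟨t, htN⟩ : NN) ∈ (P₁ : Subgroup NN) :=
        hP₁ (Subgroup.mem_subgroupOf.2 (Subgroup.mem_inf.2 ⟨ht, htN⟩))
      have hvmap : (⟨v, hvN⟩ : NN) ∈ (P₁ : Subgroup NN).map (MulAut.conj y).toMonoidHom := by
        refine ⟨⟨t, htN⟩, htP₁, ?_⟩
        show (MulAut.conj y) ⟨t, htN⟩ = ⟨v, hvN⟩
        rw [MulAut.conj_apply]
        exact Subtype.ext htv'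
      have hvDN : (⟨v, hvN⟩ : NN) ∈ DN := by
        rw [hDNeq, hyeq]
        exact Subgroup.mem_inf.2 ⟨hvP₁, hvmap⟩
      exact Subgroup.mem_subgroupOf.1 hvDN

end Cfsg.Agent.Lib.H23.Green
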