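import Mathlib
import Cfsg.Prelude.Def_Blocks
import Cfsg.Agent.Lib.H23.BlockHeightZero
import Cfsg.Agent.Lib.L0.CharInd
import Cfsg.Agent.Lib.L0.CharIndChar

/-!
# Height zero characters and induction of characters (helper23)

If `b` induces `B`, both of the same defect, and `ζ ∈ b` has height zero, then some height zero
`χ ∈ B` occurs in `ζ^G` with multiplicity prime to `p`.
-/

set_option autoImplicit false

namespace Cfsg.Agent.Lib.H23

open Cfsg MonoidAlgebra Cfsg.Agent.Lib.H24 Cfsg.Agent.Lib.L0 Cfsg.Agent.Lib.L0.BlockMinMax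
open scoped ComplexConjugate

section HeightInd

variable {G : Type*} [Group G] [Fintype G] {p : ℕ} {M : Ideal AlgInt}

open scoped Classical in
/-- `f(e_B) = ∑_{χ ∈ B} χ(1) [f, χ]`. -/
theorem charEval_blockIdem_eq_sum [Fintype (IrrCharacter G)] (B : Set (IrrCharacter G))
    (f : G → ℂ) :
    charEval f (blockIdem B) = ∑ χ : IrrCharacter G,
      if χ ∈ B then (χ : G → ℂ) 1 * classInner f (χ : G → ℂ) else 0 := by
  rw [blockIdem, charEval_ofFun]
  simp only [blockCoeff_eq_sum, Finset.mul_sum, Finset.sum_mul]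
  rw [Finset.sum_comm]
  refine Finset.sum_congr rfl (fun χ _ => ?_)
  split_ifs with h
  · rw [classInner, Finset.mul_sum, Finset.mul_sum]
    refine Finset.sum_congr rfl (fun g _ => ?_)
    ring
  · simp

/-- Frobenius reciprocity for central elements:
`(ζ^G)(z) = |G:H| ζ(z|_H)` for `z` central. -/
theorem charEval_indFun (H : Subgroup G) [Fintype H] (ζ : H → ℂ) {z : MonoidAlgebra ℂ G}
    (hz : z ∈ Subalgebra.center ℂ (MonoidAlgebra ℂ G)) :
    charEval (indFun H ζ) z =
      (Nat.card G : ℂ) / (Nat.card H : ℂ) * charEval ζ (resAlg H z) := by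
  have hG : (Nat.card G : ℂ) ≠ 0 := by exact_mod_cast (Nat.card_pos (α := G)).ne'
  have hH : (Nat.card H : ℂ) ≠ 0 := by exact_mod_cast (Nat.card_pos (α := H)).ne'
  have hcf : IsClassFunction G (fun g => conj (z.coeff g)) := by
    intro g h
    simp only [coeff_conj_of_mem_center hz g h]
  have h1 := frobenius_reciprocity H ζ (fun g => conj (z.coeff g)) hcf
  unfold classInner at h1
  simp only [Complex.conj_conj] at h1
  unfold charEval
  simp only [coeff_resAlg]
  have h2 : ∑ g : G, z.coeff g * indFun H ζ g = ∑ g : G, indFun H ζ g * z.coeff g :=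
    Finset.sum_congr rfl fun g _ => mul_comm _ _
  have h3 : ∑ h : H, z.coeff (h : G) * ζ h = ∑ h : H, ζ h * z.coeff (h : G) :=
    Finset.sum_congr rfl fun g _ => mul_comm _ _
  rw [h2, h3]
  field_simp
  field_simp at h1
  linear_combination h1

/-- S4725. -/
theorem exists_height_zero_induced [Fact p.Prime] (hM : IsPModular p M) (H : Subgroup G)
    [Fintype H] (b : Set (IrrCharacter H)) (B : Set (IrrCharacter G))
    (hind : IsInducedBlock M H b B) (hdef : blockDefect p b = blockDefect p B)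
    (ζ : IrrCharacter H) (hζ : ζ ∈ b) (hζ0 : blockHeight p b (ζ : H → ℂ) = 0) :
    ∃ χ ∈ B, blockHeight p B (χ : G → ℂ) = 0 ∧ ∃ a : ℕ,
      classInner (indFun H (ζ : H → ℂ)) (χ : G → ℂ) = (a : ℂ) ∧ ¬ p ∣ a := by
  classical
  haveI := Fintype.ofFinite (IrrCharacter G)
  haveI hP := isPrime_of_isPModular hM
  have hp : p.Prime := Fact.out
  obtain ⟨ξ₁, hξ₁⟩ := hind.1
  obtain ⟨χ₁, hχ₁⟩ := hind.2.1
  have hχ₁B : χ₁ ∈ B := hχ₁ ▸ mem_blockOf_self χ₁
  -- multiplicities
  have hindc : IsCharacter G (indFun H (ζ : H → ℂ)) :=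
    isCharacter_indFun H (isCharacter_of_irr ζ.2)
  have hnat : ∀ χ : IrrCharacter G, ∃ n : ℕ,
      classInner (indFun H (ζ : H → ℂ)) (χ : G → ℂ) = n :=
    fun χ => classInner_char_irr_nat hindc χ.2
  choose m hm using hnat
  by_contra hcon
  push Not at hcon
  -- the numbers
  set a := (Nat.card G).factorization p with ha
  set a' := (Nat.card H).factorization p with ha'
  set e := minDeg p B with he
  set e' := minDeg p b with he'
  have hdB : blockDefect p B = a - e := rfl
  have hdb : blockDefect p b = a' - e' := rfl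
  have hele : e ≤ a := by
    rw [he, hχ₁]; exact minDeg_le_card (p := p) (M := M) χ₁
  have hele' : e' ≤ a' := by
    rw [he', hξ₁]; exact minDeg_le_card (p := p) (M := M) ξ₁
  have hζe : (charDegree (ζ : H → ℂ)).factorization p = e' := by
    have h3 : (charDegree (ζ : H → ℂ)).factorization p - minDeg p b = 0 := hζ0
    refine le_antisymm (Nat.sub_eq_zero_iff_le.mp h3) ?_
    rw [he', hξ₁]; rw [hξ₁] at hζ
    exact minDeg_le ξ₁ hζ
  have haa' : a' ≤ a := by
    have hdvd : Nat.card H ∣ Nat.card G := Subgroup.card_subgroup_dvd_card H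
    exact (Nat.factorization_le_iff_dvd Nat.card_pos.ne' Nat.card_pos.ne').mpr hdvd p
  -- key identity
  have hzc := blockIdem_mem_center B
  have hzi : blockIdem B ∈ intCoeff (G := G) M := by
    rw [hχ₁]; exact fun g => blockIdem_memLocalRing hM χ₁ g
  have h1 := charEval_blockIdem_eq_sum B (indFun H (ζ : H → ℂ))
  rw [charEval_indFun H _ hzc] at h1
  set u := omega (ζ : H → ℂ) (resAlg H (blockIdem B)) with hu
  have hu1 : MemLocalIdeal M (u - 1) := by
    have := omega_resAlg_sub_memLocalIdeal H hind hζ hχ₁B hzc hzi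
    rwa [omega_blockIdem, if_pos hχ₁B] at this
  have hζ1 : (ζ : H → ℂ) 1 ≠ 0 := irr_one_ne_zero ζ
  have h2 : charEval (ζ : H → ℂ) (resAlg H (blockIdem B)) = (ζ : H → ℂ) 1 * u := by
    rw [hu, omega, mul_div_cancel₀ _ hζ1]
  rw [h2] at h1
  -- degrees
  have hdvd : ∀ χ : IrrCharacter G, χ ∈ B → p ^ e ∣ charDegree (χ : G → ℂ) := by
    intro χ hχ
    have h3 : e ≤ (charDegree (χ : G → ℂ)).factorization p := by
      rw [he, hχ₁]; rw [hχ₁] at hχ
      exact minDeg_le χ₁ hχ
    exact (pow_dvd_pow p h3).trans (Nat.ordProj_dvd _ _)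
  set t : IrrCharacter G → ℕ := fun χ => charDegree (χ : G → ℂ) / p ^ e with ht
  have hte : ∀ χ : IrrCharacter G, χ ∈ B → charDegree (χ : G → ℂ) = p ^ e * t χ := by
    intro χ hχ
    exact (Nat.mul_div_cancel' (hdvd χ hχ)).symm
  -- every term divisible by p
  have hterm : ∀ χ : IrrCharacter G, χ ∈ B → p ∣ m χ * t χ := by
    intro χ hχ
    by_cases h0 : blockHeight p B (χ : G → ℂ) = 0
    · exact Dvd.dvd.mul_right (hcon χ hχ h0 (m χ) (hm χ)) _
    · apply Dvd.dvd.mul_left
      have h3 : ¬ (charDegree (χ : G → ℂ)).factorization p - e = 0 := h0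
      have h4 : e + 1 ≤ (charDegree (χ : G → ℂ)).factorization p := by omega
      have h5 : p ^ (e + 1) ∣ charDegree (χ : G → ℂ) :=
        (pow_dvd_pow p h4).trans (Nat.ordProj_dvd _ _)
      rw [hte χ hχ, pow_succ] at h5
      exact Nat.dvd_of_mul_dvd_mul_left (pow_pos hp.pos e) h5
  set T : ℕ := ∑ χ : IrrCharacter G, if χ ∈ B then m χ * t χ else 0 with hT
  have hpT : p ∣ T := by
    apply Finset.dvd_sum
    intro χ _
    by_cases hχ : χ ∈ B
    · rw [if_pos hχ]; exact hterm χ hχ
    · rw [if_neg hχ]; exact dvd_zero p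
  -- the right hand side
  have hrhs : ∑ χ : IrrCharacter G,
      (if χ ∈ B then (χ : G → ℂ) 1 * classInner (indFun H (ζ : H → ℂ)) (χ : G → ℂ) else 0) =
      ((p ^ e : ℕ) : ℂ) * (T : ℂ) := by
    rw [hT]
    push_cast
    rw [Finset.mul_sum]
    refine Finset.sum_congr rfl fun χ _ => ?_
    by_cases hχ : χ ∈ B
    · rw [if_pos hχ, if_pos hχ, hm χ, apply_one_eq_charDegree _ χ.2, hte χ hχ]
      push_cast; ring
    · rw [if_neg hχ, if_neg hχ, mul_zero]
  rw [hrhs] at h1
  -- the left hand side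
  have hidx : Nat.card G = H.index * Nat.card H := (Subgroup.index_mul_card H).symm
  have hidx0 : H.index ≠ 0 := by
    intro h0; rw [h0, zero_mul] at hidx
    exact Nat.card_pos.ne' hidx
  have hνidx : H.index.factorization p = a - a' := by
    have h3 : (Nat.card G).factorization p =
        H.index.factorization p + (Nat.card H).factorization p := by
      rw [hidx, Nat.factorization_mul hidx0 Nat.card_pos.ne']; rfl
    omega
  set w := H.index * charDegree (ζ : H → ℂ) with hw
  have hdeg0 : charDegree (ζ : H → ℂ) ≠ 0 := (charDegree_pos _ ζ.2).ne'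
  have hw0 : w ≠ 0 := Nat.mul_ne_zero hidx0 hdeg0
  have hkey : (a - a') + e' = e := by
    rw [hdB, hdb] at hdef
    clear_value a a' e e'
    omega
  have hνw : w.factorization p = e := by
    have h3 : w.factorization p =
        H.index.factorization p + (charDegree (ζ : H → ℂ)).factorization p := by
      rw [hw, Nat.factorization_mul hidx0 hdeg0]; rfl
    rw [h3, hνidx, hζe, hkey]
  set w' := w / p ^ e with hw'
  have hww' : w = p ^ e * w' := by
    rw [hw', ← hνw]; exact (Nat.ordProj_mul_ordCompl_eq_self w p).symm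
  have hw'p : ¬ p ∣ w' := by
    rw [hw', ← hνw]; exact Nat.not_dvd_ordCompl hp hw0
  have hlhs : (Nat.card G : ℂ) / (Nat.card H : ℂ) * ((ζ : H → ℂ) 1 * u) =
      ((p ^ e : ℕ) : ℂ) * ((w' : ℂ) * u) := by
    have hH : (Nat.card H : ℂ) ≠ 0 := by exact_mod_cast (Nat.card_pos (α := H)).ne'
    have h3 : (Nat.card G : ℂ) / (Nat.card H : ℂ) = (H.index : ℂ) := by
      rw [hidx]; push_cast; field_simp
    rw [h3, apply_one_eq_charDegree _ ζ.2]
    have h4 : (H.index : ℂ) * ((charDegree (ζ : H → ℂ) : ℂ) * u) = (w : ℂ) * u := by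
      rw [hw]; push_cast; ring
    rw [h4, hww']; push_cast; ring
  rw [hlhs] at h1
  have hpe : ((p ^ e : ℕ) : ℂ) ≠ 0 := by exact_mod_cast (pow_pos hp.pos e).ne'
  have h5 : (w' : ℂ) * u = (T : ℂ) := mul_left_cancel₀ hpe h1
  have h6 : MemLocalIdeal M ((w' : ℂ) * u) := by
    rw [h5]; exact (natCast_memLocalIdeal_iff hM T).mpr hpT
  have h7 : MemLocalIdeal M ((w' : ℂ) * (u - 1)) :=
    memLocalIdeal_mul_left (natCast_mem_localRing _) hu1
  have h8 := memLocalIdeal_sub h6 h7
  have h9 : (w' : ℂ) * u - (w' : ℂ) * (u - 1) = (w' : ℂ) := by ring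
  rw [h9] at h8
  exact hw'p ((natCast_memLocalIdeal_iff hM w').mp h8)

end HeightInd

end Cfsg.Agent.Lib.H23
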