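import Mathlib
import Cfsg.Prelude.Def_Blocks
import Cfsg.Agent.Lib.H23.BlockNormalizer
import Cfsg.Agent.Lib.L0.BlockHeight

/-!
# Induced blocks and centres of defect groups (helper23)

* `exists_conj_center_of_induced`: if `b^G = B`, every element of the centre of a defect group of
  `B` is conjugate to an element of the centre of a given defect group of `b`.
* `blockDefect_eq_zero_iff_of_induced`.
-/

set_option autoImplicit false

namespace Cfsg.Agent.Lib.H23

open Cfsg MonoidAlgebra
open scoped ComplexConjugate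

section InducedCenter

variable {G : Type*} [Group G] [Fintype G] {p : ℕ} {M : Ideal AlgInt} (H : Subgroup G)
  [Fintype H]

theorem exists_conj_center_of_induced [Fact p.Prime] (hM : IsPModular p M)
    {ξ₀ : IrrCharacter H} {χ₀ : IrrCharacter G}
    (hind : IsInducedBlock M H (blockOf M (ξ₀ : H → ℂ)) (blockOf M (χ₀ : G → ℂ)))
    (D : Subgroup H) (hD : IsDefectGroup p M (blockOf M (ξ₀ : H → ℂ)) D)
    (P : Subgroup G) (hP : IsDefectGroup p M (blockOf M (χ₀ : G → ℂ)) P)
    (x : G) (hx : x ∈ P) (hxc : ∀ w ∈ P, x * w = w * x) :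
    ∃ g : G, g * x * g⁻¹ ∈ D.map H.subtype ∧
      ∀ w ∈ D.map H.subtype, (g * x * g⁻¹) * w = w * (g * x * g⁻¹) := by
  classical
  haveI hPr := isPrime_of_isPModular hM
  have hp := prime_of_isPModular hM
  haveI := Fintype.ofFinite (ConjClasses H)
  have hPp : IsPGroup p P := isPGroup_of_isDefectGroup hP
  obtain ⟨y, hy, S, hS⟩ := hP
  -- x is a p-element commuting with y
  have hxord : ∃ k : ℕ, orderOf x = p ^ k := by
    obtain ⟨k, hk⟩ := (IsPGroup.iff_orderOf.1 hPp) ⟨x, hx⟩
    exact ⟨k, by rw [← hk, Subgroup.orderOf_mk]⟩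
  have hPy : ∀ w ∈ P, Commute w y := by
    intro w hw
    rw [hS] at hw
    obtain ⟨u, _, rfl⟩ := hw
    exact (Subgroup.mem_centralizer_singleton_iff.1 u.2)
  have hxy : Commute x y := hPy x hx
  have hcard : Nat.card P = p ^ (Nat.card (Subgroup.centralizer ({y} : Set G))).factorization p := by
    rw [hS, Subgroup.card_subtype]
    exact S.card_eq_multiplicity
  have hPc : ∀ w ∈ P, Commute w (x * y) := by
    intro w hw
    exact Commute.mul_right (hxc w hw).symm (hPy w hw)
  have hω := Cfsg.Agent.Lib.L0.BlockHeight.centralChar_mul_not_mem hM χ₀ y hy hxy hxord P hcard hPc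
    χ₀ (mem_blockOf_self χ₀)
  -- transfer to H
  have h1 := hind.2.2 ξ₀ (mem_blockOf_self ξ₀) χ₀ (mem_blockOf_self χ₀) (x * y)
  have h2 : ¬ MemLocalIdeal M (inducedCentralChar H (ξ₀ : H → ℂ) (x * y)) := by
    intro h3
    apply hω
    have := memLocalIdeal_sub h3 h1
    rwa [sub_sub_cancel] at this
  rw [inducedCentralChar_eq_omega,
    omega_eq_sum_centralChar (Cfsg.Agent.Lib.H24.irr_isClassFunction ξ₀)
      (resAlg_mem_center H (classSum_mem_center _))] at h2
  have hex : ∃ c : ConjClasses H, ¬ MemLocalIdeal M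
      ((resAlg H (classSum (x * y))).coeff (classRep c) *
        centralChar (ξ₀ : H → ℂ) (classRep c)) := by
    by_contra hcon
    apply h2
    refine memLocalIdeal_sum _ _ (fun c _ => ?_)
    by_contra h4
    exact hcon ⟨c, h4⟩
  obtain ⟨c, hc⟩ := hex
  set l := classRep c with hl
  rw [coeff_resAlg, coeff_classSum] at hc
  have hlg : IsConj (x * y) (l : G) := by
    by_contra h4
    rw [if_neg h4, zero_mul] at hc
    exact hc (memLocalIdeal_zero hPr.ne_top)
  rw [if_pos hlg, one_mul] at hc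
  obtain ⟨x', hlx', _, hz'⟩ := exists_conj_centralizer_ppart D hM ξ₀ hD l hc
  -- x' is G-conjugate to x * y
  have hconj : IsConj (x * y) (x' : G) := by
    refine hlg.trans ?_
    obtain ⟨t, ht⟩ := isConj_iff.1 hlx'
    rw [isConj_iff]
    refine ⟨(t : G), ?_⟩
    rw [← ht]
    simp
  obtain ⟨t, ht⟩ := isConj_iff.1 hconj
  have hyreg : ¬ p ∣ orderOf y :=
    Cfsg.Agent.Lib.L0.BlockHeight.not_dvd_orderOf_of_isDefectClass hM χ₀ y hy
  have hpp : IsPPart p (x * y) x := isPPart_mul hxy hxord hyreg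
  have hpp' : IsPPart p (x' : G) (t * x * t⁻¹) := by
    rw [← ht]
    exact IsPPart.conj hpp t
  obtain ⟨z', hz'z, hz'pp⟩ := IsPPart.of_subgroup hp H x' hpp'
  obtain ⟨hzD, hzc⟩ := hz' z' hz'pp
  refine ⟨t, ⟨z', hzD, hz'z⟩, ?_⟩
  rintro _ ⟨w, hw, rfl⟩
  rw [← hz'z]
  have := hzc w hw
  exact congrArg Subtype.val this

theorem blockDefect_eq_zero_iff_defectGroup [Fact p.Prime] (hM : IsPModular p M)
    (χ₀ : IrrCharacter G) (D : Subgroup G)
    (hD : IsDefectGroup p M (blockOf M (χ₀ : G → ℂ)) D) :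
    blockDefect p (blockOf M (χ₀ : G → ℂ)) = 0 ↔ D = ⊥ := by
  have hp := prime_of_isPModular hM
  have hc := card_defectGroup hM χ₀ D hD
  constructor
  · intro h0
    rw [h0, pow_zero] at hc
    exact Subgroup.eq_bot_of_card_eq D hc
  · intro hbot
    rw [hbot, Subgroup.card_bot] at hc
    by_contra hne
    have : 1 < p ^ blockDefect p (blockOf M (χ₀ : G → ℂ)) := Nat.one_lt_pow hne hp.one_lt
    omega

theorem blockDefect_eq_zero_iff_of_induced [Fact p.Prime] (hM : IsPModular p M)
    {ξ₀ : IrrCharacter H} {χ₀ : IrrCharacter G}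
    (hind : IsInducedBlock M H (blockOf M (ξ₀ : H → ℂ)) (blockOf M (χ₀ : G → ℂ))) :
    blockDefect p (blockOf M (ξ₀ : H → ℂ)) = 0 ↔ blockDefect p (blockOf M (χ₀ : G → ℂ)) = 0 := by
  classical
  obtain ⟨D, hD⟩ := exists_isDefectGroup (p := p) hM ξ₀
  obtain ⟨P, hP⟩ := exists_isDefectGroup (p := p) hM χ₀
  rw [blockDefect_eq_zero_iff_defectGroup hM ξ₀ D hD, blockDefect_eq_zero_iff_defectGroup hM χ₀ P hP]
  constructor
  · intro hbot
    have hPp : IsPGroup p P := isPGroup_of_isDefectGroup hP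
    by_contra hne
    haveI : Nontrivial P := (Subgroup.nontrivial_iff_ne_bot P).2 hne
    haveI : Finite P := inferInstance
    haveI := hPp.center_nontrivial
    obtain ⟨z, hz⟩ := exists_ne (1 : Subgroup.center P)
    have hzc : ∀ w ∈ P, ((z : P) : G) * w = w * ((z : P) : G) := by
      intro w hw
      have := (Subgroup.mem_center_iff.1 z.2) ⟨w, hw⟩
      exact (congrArg Subtype.val this).symm
    obtain ⟨g, hg, _⟩ := exists_conj_center_of_induced H hM hind D hD P hP ((z : P) : G)
      (z : P).2 hzc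
    rw [hbot, Subgroup.map_bot, Subgroup.mem_bot] at hg
    apply hz
    have h1 : ((z : P) : G) = 1 := by
      have : ((z : P) : G) = g⁻¹ * (g * ((z : P) : G) * g⁻¹) * g := by group
      rw [this, hg]
      group
    apply Subtype.ext
    apply Subtype.ext
    exact h1
  · intro hbot
    obtain ⟨E, hE, hDE⟩ := defectGroup_le_of_induced H hM hind D hD
    have hEbot : E = ⊥ := by
      rw [← blockDefect_eq_zero_iff_defectGroup hM χ₀ E hE,
        blockDefect_eq_zero_iff_defectGroup hM χ₀ P hP]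
      exact hbot
    rw [hEbot, le_bot_iff] at hDE
    rw [eq_bot_iff]
    intro d hd
    have : (d : G) ∈ D.map H.subtype := ⟨d, hd, rfl⟩
    rw [hDE, Subgroup.mem_bot] at this
    rw [Subgroup.mem_bot]
    exact Subtype.ext this

end InducedCenter

end Cfsg.Agent.Lib.H23
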