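import Cfsg.Agent.Lib.H23.DefectZero
import Cfsg.Agent.Lib.H24.CharBasic

/-!
# `|G|_{p'}` times the indicator of the `p`-elements is a generalized character (helper23)

* `exists_sylow_nilpotent`: the Sylow `p`-subgroup of a nilpotent group is the set of `p`-elements.
* `ordCompl_mul_pElemInd_isGeneralizedCharacter`.
* `exists_int_sum_pElem`: `(|G|_{p'} / |G|) ∑_{x p-element} χ(x) ∈ ℤ`.
-/

set_option autoImplicit false

universe u

namespace Cfsg.Agent.Lib.H23

open Cfsg.Agent.Lib.L0 Cfsg.Agent.Lib.H8 Module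
open scoped ComplexConjugate

/-- The indicator function of the `p`-elements. -/
noncomputable def pElemInd {G : Type*} [Group G] (p : ℕ) (x : G) : ℂ :=
  haveI := Classical.propDecidable (∃ k : ℕ, orderOf x = p ^ k)
  if (∃ k : ℕ, orderOf x = p ^ k) then 1 else 0

theorem pElemInd_conj {G : Type*} [Group G] (p : ℕ) (g h : G) :
    pElemInd p (h * g * h⁻¹) = pElemInd p g := by
  have : orderOf (h * g * h⁻¹) = orderOf g := by
    have := (MulAut.conj h).orderOf_eq g
    simpa using this
  unfold pElemInd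
  rw [this]

theorem exists_sylow_nilpotent (E : Type*) [Group E] [Finite E] [Group.IsNilpotent E] (p : ℕ)
    (hp : p.Prime) :
    ∃ P : Subgroup E, Nat.card P = p ^ (Nat.card E).factorization p ∧
      ∀ e : E, e ∈ P ↔ ∃ k : ℕ, orderOf e = p ^ k := by
  have : Fact p.Prime := ⟨hp⟩
  obtain ⟨P⟩ : Nonempty (Sylow p E) := inferInstance
  have hnorm : (P : Subgroup E).Normal := inferInstance
  refine ⟨P, Sylow.card_eq_multiplicity P, ?_⟩
  intro e
  constructor
  · intro he
    have h1 : orderOf e ∣ Nat.card (P : Subgroup E) := by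
      have := orderOf_dvd_natCard (⟨e, he⟩ : (P : Subgroup E))
      rwa [Subgroup.orderOf_mk] at this
    rw [Sylow.card_eq_multiplicity P] at h1
    obtain ⟨k, _, hk⟩ := (Nat.dvd_prime_pow hp).1 h1
    exact ⟨k, hk⟩
  · rintro ⟨k, hk⟩
    have hpg : IsPGroup p (Subgroup.zpowers e) := by
      apply IsPGroup.of_card (n := k)
      rw [Nat.card_zpowers, hk]
    obtain ⟨Q, hQ⟩ := hpg.exists_le_sylow
    obtain ⟨g, hg⟩ := MulAction.exists_smul_eq E P Q
    rw [Sylow.smul_eq_of_normal] at hg
    rw [hg]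
    exact hQ (Subgroup.mem_zpowers e)

section Main

variable {G : Type u} [Group G] [Fintype G]

theorem smul_pElemInd_restrict_genChar {p : ℕ} (hp : p.Prime) (E : Subgroup G) (q : ℕ)
    (hq : q.Prime) (hE : Cfsg.IsElementary q E) :
    Cfsg.IsGeneralizedCharacter E
      (fun e : E => ((Nat.card G / p ^ (Nat.card G).factorization p : ℕ) : ℂ) *
        pElemInd p (e : G)) := by
  classical
  have : Fintype E := Fintype.ofFinite E
  have hnil : Group.IsNilpotent E := isNilpotent_of_isElementary hq hE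
  obtain ⟨P, hPcard, hP⟩ := exists_sylow_nilpotent E p hp
  set m := Nat.card G / p ^ (Nat.card G).factorization p with hm
  have hind : ∀ e : E, pElemInd p (e : G) = if e ∈ P then 1 else 0 := by
    intro e
    unfold pElemInd
    rw [Subgroup.orderOf_coe]
    by_cases h : e ∈ P
    · rw [if_pos h, if_pos ((hP e).1 h)]
    · rw [if_neg h, if_neg (fun h' => h ((hP e).2 h'))]
  -- `|E| = |P| t`, `t ∣ m`
  have hEdvd : Nat.card E ∣ Nat.card G := Subgroup.card_subgroup_dvd_card E
  have ht : Nat.card E / p ^ (Nat.card E).factorization p ∣ m :=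
    Nat.ordCompl_dvd_ordCompl_of_dvd hEdvd p
  obtain ⟨s, hs⟩ := ht
  have hEeq : Nat.card E = Nat.card P * (Nat.card E / p ^ (Nat.card E).factorization p) := by
    rw [hPcard]
    exact (Nat.ordProj_mul_ordCompl_eq_self (Nat.card E) p).symm
  set t := Nat.card E / p ^ (Nat.card E).factorization p with htdef
  have hE0 : Nat.card E ≠ 0 := (Nat.card_pos (α := E)).ne'
  have hP0 : Nat.card P ≠ 0 := (Nat.card_pos (α := P)).ne'
  have ht0 : t ≠ 0 := by
    intro h
    rw [h, mul_zero] at hEeq
    exact hE0 hEeq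
  apply isGeneralizedCharacter_of_classInner_int
  · intro e h
    simp only
    have h0 : ((h * e * h⁻¹ : E) : G) = (h : G) * (e : G) * (h : G)⁻¹ := by simp
    rw [h0, pElemInd_conj]
  · intro ψ
    have hψ : Cfsg.IsCharacter E (ψ : E → ℂ) := isCharacter_of_irr ψ.2
    have h1P : Cfsg.IsCharacter P (fun _ : P => (1 : ℂ)) :=
      isCharacter_of_irr Cfsg.Agent.Lib.H24.isIrrCharacter_one
    obtain ⟨n, hn⟩ := classInner_char_char_nat h1P (isCharacter_restrict P hψ)
    refine ⟨((s * n : ℕ) : ℤ), ?_⟩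
    unfold Cfsg.classInner at hn ⊢
    have hsum : ∑ e : E, ((m : ℂ) * pElemInd p (e : G)) * conj ((ψ : E → ℂ) e) =
        (m : ℂ) * ∑ e : E, (if e ∈ P then conj ((ψ : E → ℂ) e) else 0) := by
      rw [Finset.mul_sum]
      refine Finset.sum_congr rfl fun e _ => ?_
      rw [hind]
      split_ifs <;> simp
    rw [hsum, sum_ite_mem_subgroup P (fun e => conj ((ψ : E → ℂ) e))]
    have hn' : ∑ u : P, conj ((ψ : E → ℂ) u) = (Nat.card P : ℂ) * n := by
      rw [← hn]
      have hPC : (Nat.card P : ℂ) ≠ 0 := Nat.cast_ne_zero.mpr hP0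
      rw [← mul_assoc, mul_inv_cancel₀ hPC, one_mul]
      refine Finset.sum_congr rfl fun u _ => ?_
      rw [one_mul]
    rw [hn', hs]
    have hEC : (Nat.card E : ℂ) = (Nat.card P : ℂ) * (t : ℂ) := by
      conv_lhs => rw [hEeq]
      push_cast
      rfl
    rw [hEC]
    have hPC : (Nat.card P : ℂ) ≠ 0 := Nat.cast_ne_zero.mpr hP0
    have htC : (t : ℂ) ≠ 0 := Nat.cast_ne_zero.mpr ht0
    push_cast
    field_simp

/-- `|G|_{p'}` times the indicator function of the `p`-elements is a generalized character. -/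
theorem ordCompl_mul_pElemInd_isGeneralizedCharacter {p : ℕ} (hp : p.Prime) :
    Cfsg.IsGeneralizedCharacter G
      (fun x : G => ((Nat.card G / p ^ (Nat.card G).factorization p : ℕ) : ℂ) * pElemInd p x) := by
  refine brauer_characterization ?_ (fun E q hq hE => smul_pElemInd_restrict_genChar hp E q hq hE)
  intro g h
  simp only
  rw [pElemInd_conj]

/-- `(|G|_{p'} / |G|) ∑_{x p-element} χ(x)` is an integer. -/
theorem exists_int_sum_pElem {p : ℕ} (hp : p.Prime) (χ : Cfsg.IrrCharacter G) :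
    ∃ c : ℤ, ((Nat.card G / p ^ (Nat.card G).factorization p : ℕ) : ℂ) *
      ((Nat.card G : ℂ)⁻¹ * ∑ x : G, pElemInd p x * (χ : G → ℂ) x) = c := by
  obtain ⟨c, hc⟩ := genChar_classInner_irr_int
    (ordCompl_mul_pElemInd_isGeneralizedCharacter (G := G) hp) χ.2
  refine ⟨c, ?_⟩
  have h1 := congrArg conj hc
  rw [map_intCast] at h1
  rw [← h1]
  unfold Cfsg.classInner
  rw [map_mul, map_sum, map_inv₀, Complex.conj_natCast, Finset.mul_sum, Finset.mul_sum,
    Finset.mul_sum]
  refine Finset.sum_congr rfl fun x _ => ?_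
  rw [map_mul, map_mul, Complex.conj_conj, Complex.conj_natCast]
  have : conj (pElemInd p x) = pElemInd p x := by
    unfold pElemInd
    split_ifs <;> simp
  rw [this]
  ring

end Main

end Cfsg.Agent.Lib.H23
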