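import Cfsg.Agent.Lib.H23.BlockPrincipal
import Cfsg.Agent.Lib.H23.PElemGenChar
import Cfsg.Agent.Lib.H23.BlockDefect

/-!
# Külshammer's formula for the principal block idempotent (helper23)

For `p`-regular `g`, the number `N(g)` of pairs `(x, y)` with `x` a `p`-element, `y` `p`-regular,
`x y = g` satisfies `N(g) ≡ R β₀(g)` modulo the local ideal, where `R` is the number of `p`-regular
elements and `β₀` is the coefficient function of the principal block idempotent.
-/

set_option autoImplicit false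

namespace Cfsg.Agent.Lib.H23

open Cfsg MonoidAlgebra
open scoped ComplexConjugate

section Kulshammer

variable {G : Type*} [Group G] [Fintype G] {p : ℕ} {M : Ideal AlgInt}

/-- The sum of the `p`-elements of `G` in the group algebra. -/
noncomputable def pElemSum (G : Type*) [Group G] [Fintype G] (p : ℕ) : MonoidAlgebra ℂ G :=
  ofFun (pElemInd p)

theorem coeff_pElemSum (g : G) : (pElemSum G p).coeff g = pElemInd p g := rfl

theorem pElemSum_mem_center : pElemSum G p ∈ Subalgebra.center ℂ (MonoidAlgebra ℂ G) := by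
  apply mem_center_of_classFunction
  intro g h
  rw [coeff_pElemSum, coeff_pElemSum, pElemInd_conj]

theorem charEval_pElemSum (χ : G → ℂ) :
    charEval χ (pElemSum G p) = ∑ x, pElemInd p x * χ x := rfl

theorem sum_pElem_memLocalRing (hM : IsPModular p M) (χ : IrrCharacter G) :
    MemLocalRing M ((Nat.card G : ℂ)⁻¹ * charEval (χ : G → ℂ) (pElemSum G p)) := by
  haveI hP := isPrime_of_isPModular hM
  have hp := prime_of_isPModular hM
  obtain ⟨c, hc⟩ := exists_int_sum_pElem (G := G) hp χ
  set m := Nat.card G / p ^ (Nat.card G).factorization p with hm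
  have hmdvd : ¬ p ∣ m := Nat.not_dvd_ordCompl hp Nat.card_pos.ne'
  have hm0 : (m : ℂ) ≠ 0 := by
    rw [Nat.cast_ne_zero]
    rintro h
    exact hmdvd (h ▸ dvd_zero p)
  rw [charEval_pElemSum]
  have : (Nat.card G : ℂ)⁻¹ * ∑ x : G, pElemInd p x * (χ : G → ℂ) x = (m : ℂ)⁻¹ * (c : ℂ) := by
    rw [← hc, ← mul_assoc, inv_mul_cancel₀ hm0, one_mul]
  rw [this]
  exact memLocalRing_mul (memLocalRing_inv_natCast hM hmdvd) (intCast_mem_localRing c)

theorem pElemInd_one (_hp : p.Prime) : pElemInd p (1 : G) = 1 := by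
  unfold pElemInd
  rw [if_pos]
  exact ⟨0, by rw [orderOf_one, pow_zero]⟩

theorem dvd_orderOf_of_pElemInd_ne_zero (_hp : p.Prime) {x : G} (hx : pElemInd p x ≠ 0)
    (hx1 : x ≠ 1) : p ∣ orderOf x := by
  unfold pElemInd at hx
  split_ifs at hx with h
  · obtain ⟨k, hk⟩ := h
    rw [hk]
    apply dvd_pow_self
    rintro rfl
    rw [pow_zero, orderOf_eq_one_iff] at hk
    exact hx1 hk
  · exact absurd rfl hx

/-- Külshammer's congruence. -/
theorem kulshammer (hM : IsPModular p M) (g : G) (hg : ¬ p ∣ orderOf g) :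
    MemLocalIdeal M ((pElemSum G p * pRegSum G p).coeff g -
      (pRegCard G p : ℂ) * blockCoeff (principalBlock M G) g) := by
  classical
  haveI hP := isPrime_of_isPModular hM
  haveI := Fintype.ofFinite (IrrCharacter G)
  have hp := prime_of_isPModular hM
  set B₀ := principalBlock M G with hB₀
  set zP := pElemSum G p with hzP
  set z := pRegSum G p with hz
  set R : ℂ := (pRegCard G p : ℂ) with hR
  have hzPc : zP ∈ Subalgebra.center ℂ (MonoidAlgebra ℂ G) := pElemSum_mem_center
  have hzc : z ∈ Subalgebra.center ℂ (MonoidAlgebra ℂ G) := pRegSum_mem_center p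
  have hprodc : zP * z ∈ Subalgebra.center ℂ (MonoidAlgebra ℂ G) := Subalgebra.mul_mem _ hzPc hzc
  -- weak orthogonality step
  have hW : ∑ χ : IrrCharacter G, (if χ ∈ B₀ then
        charEval (χ : G → ℂ) zP * conj ((χ : G → ℂ) g) else 0) =
      ∑ χ : IrrCharacter G, (if χ ∈ B₀ then (χ : G → ℂ) 1 * conj ((χ : G → ℂ) g) else 0) := by
    have h1 : ∀ χ : IrrCharacter G, (if χ ∈ B₀ then
        charEval (χ : G → ℂ) zP * conj ((χ : G → ℂ) g) else 0) =
        ∑ x : G, pElemInd p x * (if χ ∈ B₀ then (χ : G → ℂ) x * conj ((χ : G → ℂ) g) else 0) := by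
      intro χ
      split_ifs
      · rw [hzP, charEval_pElemSum, Finset.sum_mul]
        refine Finset.sum_congr rfl (fun x _ => ?_)
        ring
      · simp
    simp only [h1]
    rw [Finset.sum_comm]
    simp only [← Finset.mul_sum]
    rw [Finset.sum_eq_single (1 : G)]
    · rw [pElemInd_one hp, one_mul]
    · intro x _ hx1
      by_cases hx0 : pElemInd p x = 0
      · rw [hx0, zero_mul]
      · have hxp := dvd_orderOf_of_pElemInd_ne_zero hp hx0 hx1
        have hwo := weak_block_orthogonality hM (Cfsg.Agent.Lib.H24.trivialIrr G) g x hg hxp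
        have hwo' := congrArg conj hwo
        rw [map_sum, map_zero] at hwo'
        have hzero : ∑ χ : IrrCharacter G,
            (if χ ∈ B₀ then (χ : G → ℂ) x * conj ((χ : G → ℂ) g) else 0) = 0 := by
          refine Eq.trans ?_ hwo'
          refine Finset.sum_congr rfl (fun χ _ => ?_)
          have : (χ ∈ B₀) =
              (χ ∈ blockOf M ((Cfsg.Agent.Lib.H24.trivialIrr G : IrrCharacter G) : G → ℂ)) := rfl
          simp only [this]
          split_ifs
          · rw [map_mul, Complex.conj_conj, mul_comm]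
          · rw [map_zero]
        rw [hzero, mul_zero]
    · intro h
      exact absurd (Finset.mem_univ _) h
  -- the Fourier expansion of `N(g)`
  have hN : (zP * z).coeff g = ∑ χ : IrrCharacter G, (if χ ∈ B₀ then
      ((Nat.card G : ℂ)⁻¹ * charEval (χ : G → ℂ) zP) * omega (χ : G → ℂ) z *
        conj ((χ : G → ℂ) g) else 0) := by
    rw [coeff_eq_sum_omega hprodc g, Finset.mul_sum]
    refine Finset.sum_congr rfl (fun χ _ => ?_)
    rw [omega_mul χ.2 hzPc]
    by_cases hχ : χ ∈ B₀
    · rw [if_pos hχ]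
      have h1 : (χ : G → ℂ) 1 ≠ 0 := Cfsg.Agent.Lib.H24.irr_one_ne_zero χ
      rw [omega]
      field_simp
    · rw [if_neg hχ, omega_pRegSum_eq_zero hM χ hχ]
      ring
  have hβ : R * blockCoeff B₀ g = ∑ χ : IrrCharacter G, (if χ ∈ B₀ then
      ((Nat.card G : ℂ)⁻¹ * charEval (χ : G → ℂ) zP) * R * conj ((χ : G → ℂ) g) else 0) := by
    rw [blockCoeff_eq_sum, ← hW, Finset.mul_sum, Finset.mul_sum]
    refine Finset.sum_congr rfl (fun χ _ => ?_)
    split_ifs
    · ring
    · ring
  rw [hN, hβ, ← Finset.sum_sub_distrib]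
  refine memLocalIdeal_sum _ _ (fun χ _ => ?_)
  by_cases hχ : χ ∈ B₀
  · rw [if_pos hχ, if_pos hχ]
    have : (Nat.card G : ℂ)⁻¹ * charEval (χ : G → ℂ) zP * omega (χ : G → ℂ) z *
        conj ((χ : G → ℂ) g) - (Nat.card G : ℂ)⁻¹ * charEval (χ : G → ℂ) zP * R *
        conj ((χ : G → ℂ) g) = ((Nat.card G : ℂ)⁻¹ * charEval (χ : G → ℂ) zP *
        conj ((χ : G → ℂ) g)) * (omega (χ : G → ℂ) z - R) := by ring
    rw [this]
    refine memLocalIdeal_mul_left (memLocalRing_mul (sum_pElem_memLocalRing hM χ) ?_)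
      (omega_pRegSum_sub_memLocalIdeal hM χ hχ)
    exact isIntegral_mem_localRing (isIntegral_conj (irr_isIntegral χ g))
  · rw [if_neg hχ, if_neg hχ, sub_zero]
    exact memLocalIdeal_zero hP.ne_top

end Kulshammer

end Cfsg.Agent.Lib.H23
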