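import Mathlib
import Cfsg.Prelude.Def_BlockRank
import Cfsg.Agent.Lib.H23.BlockQuotientP
import Cfsg.Agent.Lib.H23.BlockOrth
import Cfsg.Agent.Lib.H24.CharOrth

/-!
# `l(B) = l(B̄)` for a normal `p`-subgroup `P` with `G / C_G(P)` a `p`-group (helper23)

`blockRank_quotient`: for a block `B` of `G`, `blockRank p B = blockRank p B̄` where
`B̄ = {θ̄ ∈ Irr(G/P) | θ̄ ∘ π ∈ B}`.
-/

set_option autoImplicit false

namespace Cfsg.Agent.Lib.H23.RankQuot

open Cfsg MonoidAlgebra Cfsg.Agent.Lib.H23 Cfsg.Agent.Lib.H24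
open scoped ComplexConjugate

variable {G : Type*} [Group G] [Fintype G] {p : ℕ} {M : Ideal AlgInt}
  (P : Subgroup G) [P.Normal]

open Classical in
/-- Inflate and cut down to the `p`-regular elements. -/
noncomputable def Phi (p : ℕ) : (G ⧸ P → ℂ) →ₗ[ℂ] (G → ℂ) where
  toFun f g := if IsPRegular p g then f (g : G ⧸ P) else 0
  map_add' f f' := by
    funext g
    simp only [Pi.add_apply]
    split_ifs <;> simp
  map_smul' c f := by
    funext g
    simp only [Pi.smul_apply, RingHom.id_apply]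
    split_ifs <;> simp

open Classical in
/-- Sum over the `p`-regular elements of a coset. -/
noncomputable def Psi (p : ℕ) : (G → ℂ) →ₗ[ℂ] (G ⧸ P → ℂ) where
  toFun f q := ∑ y ∈ Finset.univ.filter (fun y : G => IsPRegular p y ∧ (y : G ⧸ P) = q), f y
  map_add' f f' := by
    funext q
    simp only [Pi.add_apply, Finset.sum_add_distrib]
  map_smul' c f := by
    funext q
    simp only [Pi.smul_apply, RingHom.id_apply, smul_eq_mul, Finset.mul_sum]

theorem isPRegular_mk {g : G} (hg : IsPRegular p g) : IsPRegular p (g : G ⧸ P) :=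
  fun h => hg (dvd_trans h (orderOf_map_dvd (QuotientGroup.mk' P) g))

theorem Phi_pRegularPart (f : G ⧸ P → ℂ) : Phi P p (pRegularPart p f) = Phi P p f := by
  classical
  funext g
  show (if IsPRegular p g then pRegularPart p f (g : G ⧸ P) else 0) =
    if IsPRegular p g then f (g : G ⧸ P) else 0
  by_cases hg : IsPRegular p g
  · rw [if_pos hg, if_pos hg]
    unfold pRegularPart
    rw [if_pos (isPRegular_mk P hg)]
  · rw [if_neg hg, if_neg hg]

theorem Phi_eq_pRegularPart (f : G ⧸ P → ℂ) :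
    Phi P p f = pRegularPart p (f ∘ (QuotientGroup.mk : G → G ⧸ P)) := by
  classical
  funext g
  show (if IsPRegular p g then f (g : G ⧸ P) else 0) = _
  unfold pRegularPart
  rfl

/-- Uniqueness of `p`-regular preimages. -/
theorem eq_of_mk_eq (hp : p.Prime) (hP : IsPGroup p P)
    (hcent : ∀ x : G, ¬ p ∣ orderOf x → x ∈ Subgroup.centralizer (P : Set G))
    {x x' : G} (hx : IsPRegular p x) (hx' : IsPRegular p x')
    (h1 : (x : G ⧸ P) = (x' : G ⧸ P)) : x = x' := by
  haveI : Fact p.Prime := ⟨hp⟩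
  have h2 : x⁻¹ * x' ∈ P := QuotientGroup.eq.1 h1
  set u := x⁻¹ * x' with hu
  have hx'eq : x' = x * u := by rw [hu, mul_inv_cancel_left]
  have hcomm : Commute u x := by
    have := hcent x hx
    exact (Subgroup.mem_centralizer_iff.1 this u h2)
  have hupow : ∃ k : ℕ, orderOf u = p ^ k := by
    obtain ⟨k, hk⟩ := (IsPGroup.iff_orderOf.1 hP) ⟨u, h2⟩
    exact ⟨k, by rw [← hk, Subgroup.orderOf_mk]⟩
  have hreg' : ¬ p ∣ orderOf (u * x) := by
    rw [hcomm.eq, ← hx'eq]
    exact hx'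
  have hu1 := eq_one_of_pRegular_mul hp hcomm hupow hx hreg'
  rw [hx'eq, hu1, mul_one]

theorem Psi_Phi (hp : p.Prime) (hP : IsPGroup p P)
    (hcent : ∀ x : G, ¬ p ∣ orderOf x → x ∈ Subgroup.centralizer (P : Set G))
    (f : G ⧸ P → ℂ) : Psi P p (Phi P p f) = pRegularPart p f := by
  classical
  funext q
  show ∑ y ∈ Finset.univ.filter (fun y : G => IsPRegular p y ∧ (y : G ⧸ P) = q),
    (if IsPRegular p y then f (y : G ⧸ P) else 0) = pRegularPart p f q
  unfold pRegularPart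
  by_cases hq : IsPRegular p q
  · rw [if_pos hq]
    obtain ⟨g, hg, rfl⟩ := exists_pRegular_preimage P hp hq
    rw [Finset.sum_eq_single g]
    · exact if_pos hg
    · intro y hy hyg
      obtain ⟨-, hy1, hy2⟩ := Finset.mem_filter.1 hy
      exact absurd (eq_of_mk_eq P hp hP hcent hy1 hg hy2) hyg
    · intro h
      exact absurd (Finset.mem_filter.2 ⟨Finset.mem_univ _, hg, rfl⟩) h
  · rw [if_neg hq]
    apply Finset.sum_eq_zero
    intro y hy
    obtain ⟨-, hy1, hy2⟩ := Finset.mem_filter.1 hy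
    exact absurd (hy2 ▸ isPRegular_mk P hy1) hq

theorem Phi_Psi (hp : p.Prime) (hP : IsPGroup p P)
    (hcent : ∀ x : G, ¬ p ∣ orderOf x → x ∈ Subgroup.centralizer (P : Set G))
    (f : G → ℂ) : Phi P p (Psi P p f) = pRegularPart p f := by
  classical
  funext g
  show (if IsPRegular p g then
    ∑ y ∈ Finset.univ.filter (fun y : G => IsPRegular p y ∧ (y : G ⧸ P) = (g : G ⧸ P)), f y
      else 0) = pRegularPart p f g
  unfold pRegularPart
  by_cases hg : IsPRegular p g
  · rw [if_pos hg, if_pos hg]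
    rw [Finset.sum_eq_single g]
    · intro y hy hyg
      obtain ⟨-, hy1, hy2⟩ := Finset.mem_filter.1 hy
      exact absurd (eq_of_mk_eq P hp hP hcent hy1 hg hy2) hyg
    · intro h
      exact absurd (Finset.mem_filter.2 ⟨Finset.mem_univ _, hg, rfl⟩) h
  · rw [if_neg hg, if_neg hg]

theorem Psi_isClassFunction {f : G → ℂ} (hf : IsClassFunction G f) :
    IsClassFunction (G ⧸ P) (Psi P p f) := by
  classical
  intro q a
  obtain ⟨a₀, rfl⟩ := QuotientGroup.mk_surjective a
  show ∑ y ∈ Finset.univ.filter (fun y : G => IsPRegular p y ∧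
      (y : G ⧸ P) = (a₀ : G ⧸ P) * q * (a₀ : G ⧸ P)⁻¹), f y =
    ∑ y ∈ Finset.univ.filter (fun y : G => IsPRegular p y ∧ (y : G ⧸ P) = q), f y
  symm
  refine Finset.sum_bij (fun y _ => a₀ * y * a₀⁻¹) ?_ ?_ ?_ ?_
  · intro y hy
    obtain ⟨-, hy1, hy2⟩ := Finset.mem_filter.1 hy
    refine Finset.mem_filter.2 ⟨Finset.mem_univ _, ?_, ?_⟩
    · show ¬ p ∣ orderOf (a₀ * y * a₀⁻¹)
      have : orderOf (a₀ * y * a₀⁻¹) = orderOf y :=
        (orderOf_eq_of_isConj (isConj_iff.2 ⟨a₀, rfl⟩)).symm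
      rw [this]; exact hy1
    · rw [← hy2]; rfl
  · intro y _ y' _ h
    simpa using h
  · intro z hz
    obtain ⟨-, hz1, hz2⟩ := Finset.mem_filter.1 hz
    refine ⟨a₀⁻¹ * z * a₀, Finset.mem_filter.2 ⟨Finset.mem_univ _, ?_, ?_⟩, by group⟩
    · show ¬ p ∣ orderOf (a₀⁻¹ * z * a₀)
      have : orderOf (a₀⁻¹ * z * a₀) = orderOf z :=
        (orderOf_eq_of_isConj (isConj_iff.2 ⟨a₀⁻¹, by group⟩)).symm
      rw [this]; exact hz1
    · show ((a₀⁻¹ * z * a₀ : G) : G ⧸ P) = q
      rw [QuotientGroup.mk_mul, QuotientGroup.mk_mul, hz2]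
      simp only [QuotientGroup.mk_inv]
      group
  · intro y _
    exact (hf y a₀).symm

/-- `⟨Ψ χ, θ̄⟩ = |P| ⟨χ°, θ̄ ∘ π⟩`, as a sum. -/
theorem classInner_Psi (f : G → ℂ) (θ : G ⧸ P → ℂ) [Fintype (G ⧸ P)] :
    ∑ q : G ⧸ P, Psi P p f q * conj (θ q) =
      ∑ y : G, (if p ∣ orderOf y then 0 else f y * conj (θ (y : G ⧸ P))) := by
  classical
  have h1 : ∀ q : G ⧸ P, Psi P p f q * conj (θ q) =
      ∑ y : G, if (y : G ⧸ P) = q then
        (if p ∣ orderOf y then 0 else f y * conj (θ (y : G ⧸ P))) else 0 := by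
    intro q
    show (∑ y ∈ Finset.univ.filter (fun y : G => IsPRegular p y ∧ (y : G ⧸ P) = q), f y) *
      conj (θ q) = _
    rw [Finset.sum_mul, Finset.sum_filter]
    refine Finset.sum_congr rfl (fun y _ => ?_)
    by_cases hyq : (y : G ⧸ P) = q
    · by_cases hy : p ∣ orderOf y
      · rw [if_neg (fun h : IsPRegular p y ∧ (y : G ⧸ P) = q => h.1 hy), if_pos hyq, if_pos hy]
      · rw [if_pos ⟨hy, hyq⟩, if_pos hyq, if_neg hy, hyq]
    · rw [if_neg (fun h : IsPRegular p y ∧ (y : G ⧸ P) = q => hyq h.2), if_neg hyq]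
  rw [Finset.sum_congr rfl (fun q _ => h1 q), Finset.sum_comm]
  refine Finset.sum_congr rfl (fun y _ => ?_)
  rw [Finset.sum_ite_eq]
  simp

theorem pRegularPart_idem {H : Type*} [Group H] (f : H → ℂ) :
    pRegularPart p (pRegularPart p f) = pRegularPart p f := by
  classical
  funext g
  unfold pRegularPart
  by_cases hg : IsPRegular p g
  · simp only [if_pos hg]
  · simp only [if_neg hg]

variable [Fact p.Prime]

theorem pRegularPart_mem_map (hM : IsPModular p M) (hP : IsPGroup p P)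
    (hcent : ∀ x : G, ¬ p ∣ orderOf x → x ∈ Subgroup.centralizer (P : Set G))
    (χ₀ : IrrCharacter G) (χ : IrrCharacter G) (hχ : χ ∈ blockOf M (χ₀ : G → ℂ)) :
    pRegularPart p (χ : G → ℂ) ∈ Submodule.map (Phi P p) (Submodule.span ℂ
      ((fun θ : IrrCharacter (G ⧸ P) => pRegularPart p (θ : G ⧸ P → ℂ)) ''
        {θ | inflIrr P θ ∈ blockOf M (χ₀ : G → ℂ)})) := by
  classical
  haveI := Fintype.ofFinite (G ⧸ P)
  haveI := Fintype.ofFinite (IrrCharacter (G ⧸ P))
  haveI hPr := isPrime_of_isPModular hM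
  have hp : p.Prime := Fact.out
  have hcf := Psi_isClassFunction P (p := p) (irr_isClassFunction χ)
  have hexp := classFunction_expansion (Psi P p (χ : G → ℂ)) hcf
  have h1 : pRegularPart p (χ : G → ℂ) = Phi P p (Psi P p (χ : G → ℂ)) :=
    (Phi_Psi P hp hP hcent _).symm
  rw [h1, hexp, map_sum]
  refine Submodule.sum_mem _ (fun θ _ => ?_)
  rw [map_smul]
  by_cases hθ : inflIrr P θ ∈ blockOf M (χ₀ : G → ℂ)
  · refine Submodule.smul_mem _ _ ?_
    rw [← Phi_pRegularPart]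
    exact Submodule.mem_map_of_mem (Submodule.subset_span ⟨θ, hθ, rfl⟩)
  · have h0 : classInner (Psi P p (χ : G → ℂ)) (θ : G ⧸ P → ℂ) = 0 := by
      rw [classInner, classInner_Psi]
      have hne : ¬ SameBlock M (χ : G → ℂ) (inflIrr P θ : G → ℂ) :=
        fun h => hθ (sameBlock_trans hχ h)
      have h2 := sum_pRegular_mul_conj_eq_zero hM χ (inflIrr P θ) hne
      have h3 : ∑ y : G, (if p ∣ orderOf y then 0 else
          (χ : G → ℂ) y * conj ((θ : G ⧸ P → ℂ) (y : G ⧸ P))) = 0 := h2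
      rw [h3, mul_zero]
    rw [h0, zero_smul]
    exact Submodule.zero_mem _

/-- **`l(B) = l(B̄)`** for a normal `p`-subgroup centralized by all `p`-regular elements. -/
theorem blockRank_quotient (hM : IsPModular p M) (hP : IsPGroup p P)
    (hcent : ∀ x : G, ¬ p ∣ orderOf x → x ∈ Subgroup.centralizer (P : Set G))
    (χ₀ : IrrCharacter G) :
    blockRank p (blockOf M (χ₀ : G → ℂ)) =
      blockRank p {θ : IrrCharacter (G ⧸ P) | inflIrr P θ ∈ blockOf M (χ₀ : G → ℂ)} := by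
  classical
  have hp : p.Prime := Fact.out
  set S : Set (G ⧸ P → ℂ) := (fun θ : IrrCharacter (G ⧸ P) => pRegularPart p (θ : G ⧸ P → ℂ)) ''
        {θ | inflIrr P θ ∈ blockOf M (χ₀ : G → ℂ)} with hS
  have hspan : Submodule.span ℂ ((fun χ : IrrCharacter G => pRegularPart p (χ : G → ℂ)) ''
      blockOf M (χ₀ : G → ℂ)) = Submodule.map (Phi P p) (Submodule.span ℂ S) := by
    apply le_antisymm
    · rw [Submodule.span_le]
      rintro _ ⟨χ, hχ, rfl⟩
      exact pRegularPart_mem_map P hM hP hcent χ₀ χ hχ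
    · rw [Submodule.map_span, Submodule.span_le]
      rintro _ ⟨_, ⟨θ, hθ, rfl⟩, rfl⟩
      apply Submodule.subset_span
      refine ⟨inflIrr P θ, hθ, ?_⟩
      show pRegularPart p (inflIrr P θ : G → ℂ) = Phi P p (pRegularPart p (θ : G ⧸ P → ℂ))
      rw [Phi_pRegularPart, Phi_eq_pRegularPart]
      rfl
  have hback : Submodule.span ℂ S =
      Submodule.map (Psi P p) (Submodule.map (Phi P p) (Submodule.span ℂ S)) := by
    rw [← Submodule.map_comp, Submodule.map_span]
    congr 1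
    ext f
    constructor
    · rintro ⟨θ, hθ, rfl⟩
      refine ⟨pRegularPart p (θ : G ⧸ P → ℂ), ⟨θ, hθ, rfl⟩, ?_⟩
      show Psi P p (Phi P p (pRegularPart p (θ : G ⧸ P → ℂ))) = _
      rw [Psi_Phi P hp hP hcent, pRegularPart_idem]
    · rintro ⟨_, ⟨θ, hθ, rfl⟩, rfl⟩
      refine ⟨θ, hθ, ?_⟩
      show _ = Psi P p (Phi P p (pRegularPart p (θ : G ⧸ P → ℂ)))
      rw [Psi_Phi P hp hP hcent, pRegularPart_idem]
  unfold blockRank
  rw [hspan]
  apply le_antisymm
  · exact Submodule.finrank_map_le _ _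
  · conv_lhs => rw [hback]
    exact Submodule.finrank_map_le _ _

end Cfsg.Agent.Lib.H23.RankQuot
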