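import Cfsg.Agent.Lib.H23.ElemSpan
import Cfsg.Agent.Lib.L0.CharDegree

/-!
# Auxiliary lemmas for Brauer's induction theorem (helper23)

* `IsQE p H`: the group `H` is `p`-quasi-elementary; `IsQE.subgroup`, `isQE_of_isQESub`;
* `hom_eq_one_of_invariant`: coprime action: an invariant homomorphism from an abelian group which is
  trivial on the fixed points is trivial;
* `exists_fixed_vector`: a representation whose character has nonzero sum has a nonzero fixed vector;
* `char_eq_one_of_fixed`: an irreducible representation with a nonzero fixed vector is trivial.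
-/

set_option autoImplicit false

universe u

namespace Cfsg.Agent.Lib.H23

open Cfsg.Agent.Lib.L0 Module

section QE

variable {G : Type*} [Group G]

/-- The group `H` is `p`-quasi-elementary. -/
def IsQE (p : ℕ) (H : Type*) [Group H] : Prop :=
  ∃ C : Subgroup H, C.Normal ∧ IsCyclic C ∧ Nat.Coprime (Nat.card C) p ∧ ∃ k : ℕ, C.index = p ^ k

theorem IsQE.subgroup {p : ℕ} (hp : p.Prime) (h : IsQE p G) (T : Subgroup G) : IsQE p T := by
  obtain ⟨C, hCn, hCcyc, hCcop, k, hk⟩ := h
  let f : C.subgroupOf T →* C :=
    { toFun := fun x => ⟨(x : T), x.2⟩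
      map_one' := rfl
      map_mul' := fun _ _ => rfl }
  have hf : Function.Injective f := by
    intro a b hab
    apply Subtype.ext
    apply Subtype.ext
    exact congrArg (fun z : C => (z : G)) hab
  refine ⟨C.subgroupOf T, inferInstance, isCyclic_of_injective f hf, ?_, ?_⟩
  · exact Nat.Coprime.coprime_dvd_left (Subgroup.card_dvd_of_injective f hf) hCcop
  · have h1 : C.relIndex T ∣ C.index := Subgroup.relIndex_dvd_index_of_normal C T
    rw [hk] at h1
    obtain ⟨j, _, hj⟩ := (Nat.dvd_prime_pow hp).mp h1
    exact ⟨j, hj⟩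

theorem isQE_of_isQESub {p : ℕ} {U : Subgroup G} (h : IsQESub p U) : IsQE p U := by
  obtain ⟨C, hCU, hUN, hcyc, hcop, k, hk⟩ := h
  have hnorm : (C.subgroupOf U).Normal :=
    (Subgroup.normal_subgroupOf_iff_le_normalizer hCU).mpr hUN
  refine ⟨C.subgroupOf U, hnorm, ?_, ?_, k, hk⟩
  · exact isCyclic_of_surjective _ (Subgroup.subgroupOfEquivOfLe hCU).symm.surjective
  · rw [Nat.card_congr (Subgroup.subgroupOfEquivOfLe hCU).toEquiv]
    exact hcop

end QE

section Coprime

/-- Coprime action on an abelian group: an invariant homomorphism which is trivial on the fixed points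
is trivial. -/
theorem hom_eq_one_of_invariant {A P M : Type*} [Group A] [Finite A] [Group P] [Fintype P]
    [CommGroup M] (hA : ∀ a b : A, a * b = b * a) (φ : P →* MulAut A) (lam : A →* M)
    (hcop : Nat.Coprime (Nat.card P) (Nat.card A))
    (hinv : ∀ (y : P) (a : A), lam (φ y a) = lam a)
    (hfix : ∀ a : A, (∀ y : P, φ y a = a) → lam a = 1) (a : A) : lam a = 1 := by
  classical
  let _ : CommGroup A := { ‹Group A› with mul_comm := hA }
  set N : A := ∏ y : P, φ y a with hN
  have hNfix : ∀ y' : P, φ y' N = N := by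
    intro y'
    rw [hN, map_prod]
    refine Fintype.prod_equiv (Equiv.mulLeft y') _ _ ?_
    intro y
    rw [Equiv.coe_mulLeft, map_mul]
    rfl
  have h1 : lam N = lam a ^ Nat.card P := by
    rw [hN, map_prod, Finset.prod_congr rfl (fun y _ => hinv y a), Finset.prod_const,
      Finset.card_univ, Nat.card_eq_fintype_card]
  have h2 : lam a ^ Nat.card P = 1 := by rw [← h1]; exact hfix N hNfix
  have h3 : lam a ^ Nat.card A = 1 := by rw [← map_pow, pow_card_eq_one', map_one]
  have h4 := pow_gcd_eq_one.mpr ⟨h2, h3⟩
  rwa [hcop, pow_one] at h4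

end Coprime

section Fixed

variable {E : Type*} [Group E] {V : Type*} [AddCommGroup V] [Module ℂ V] [FiniteDimensional ℂ V]

omit [FiniteDimensional ℂ V] in
/-- A representation whose character has nonzero sum has a nonzero fixed vector. -/
theorem exists_fixed_vector [Fintype E] (σ : Representation ℂ E V)
    (h : ∑ e : E, σ.character e ≠ 0) : ∃ v : V, v ≠ 0 ∧ ∀ e : E, σ e v = v := by
  classical
  set π : Module.End ℂ V := ∑ e : E, σ e with hπ
  have htr : LinearMap.trace ℂ V π = ∑ e : E, σ.character e := by
    rw [hπ, map_sum]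
    rfl
  have hπ0 : π ≠ 0 := by
    intro h0
    rw [h0, map_zero] at htr
    exact h htr.symm
  obtain ⟨w, hw⟩ : ∃ w, π w ≠ 0 := by
    by_contra hcon
    push Not at hcon
    apply hπ0
    ext w
    exact hcon w
  refine ⟨π w, hw, ?_⟩
  intro e'
  rw [hπ, LinearMap.sum_apply, map_sum]
  refine Fintype.sum_equiv (Equiv.mulLeft e') _ _ ?_
  intro e
  rw [Equiv.coe_mulLeft, map_mul]
  rfl

/-- An irreducible representation with a nonzero vector fixed by the whole group has the trivial
character. -/
theorem char_eq_one_of_fixed (ρ : Representation ℂ E V) [ρ.IsIrreducible] (v : V) (hv : v ≠ 0)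
    (hfix : ∀ h : E, ρ h v = v) : ρ.character = fun _ => 1 := by
  let W : Subrepresentation ρ :=
    { toSubmodule := Submodule.span ℂ {v}
      apply_mem_toSubmodule := by
        intro g w hw
        obtain ⟨a, rfl⟩ := Submodule.mem_span_singleton.mp hw
        rw [map_smul, hfix]
        exact Submodule.smul_mem _ _ (Submodule.mem_span_singleton_self v) }
  have hW : W = ⊤ := by
    rcases eq_bot_or_eq_top W with h | h
    · exfalso
      have h1 : W.toSubmodule = (⊥ : Submodule ℂ V) := congrArg Subrepresentation.toSubmodule h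
      have h2 : v ∈ W.toSubmodule := Submodule.mem_span_singleton_self v
      rw [h1, Submodule.mem_bot] at h2
      exact hv h2
    · exact h
  have htop : Submodule.span ℂ {v} = (⊤ : Submodule ℂ V) :=
    congrArg Subrepresentation.toSubmodule hW
  have hid : ∀ g : E, ρ g = LinearMap.id := by
    intro g
    ext w
    have hw : w ∈ Submodule.span ℂ {v} := by rw [htop]; trivial
    obtain ⟨a, rfl⟩ := Submodule.mem_span_singleton.mp hw
    rw [map_smul, hfix]
    rfl
  have hdim : finrank ℂ V = 1 := by
    rw [← finrank_top ℂ V, ← htop, finrank_span_singleton hv]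
  funext g
  unfold Representation.character
  rw [hid g, LinearMap.trace_id, hdim]
  simp

end Fixed

section Invariant

variable {H : Type*} [Group H] [Fintype H]

/-- Key step of Brauer's induction theorem: in a group `H = C E` with `C` a normal cyclic subgroup,
`P ≤ E` of order prime to `|C|` and `C_C(P) ≤ E`, an irreducible character `χ` with `⟨χ_E, 1_E⟩ ≠ 0`
whose restriction to `C` has an `H`-invariant irreducible constituent is the trivial character. -/
theorem eq_one_of_invariant_constituent (C : Subgroup H) [hCn : C.Normal] [Fintype C]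
    (hCcyc : IsCyclic C) (P : Subgroup H) (hcop : Nat.Coprime (Nat.card P) (Nat.card C))
    (E : Subgroup H) [Fintype E]
    (hZE : C ⊓ Subgroup.centralizer (P : Set H) ≤ E) (hCE : C ⊔ E = ⊤)
    (χ : H → ℂ) (hχ : Cfsg.IsIrrCharacter H χ) (hχE : ∑ e : E, χ e ≠ 0)
    (lam : C → ℂ) (hlam : Cfsg.IsIrrCharacter C lam)
    (hcon : Cfsg.classInner (fun n : C => χ n) lam ≠ 0)
    (hinv : ∀ (g : H) (n : C), lam ⟨g * n * g⁻¹, hCn.conj_mem (n : H) n.2 g⟩ = lam n) :
    χ = fun _ => 1 := by
  classical
  have : Fintype P := Fintype.ofFinite P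
  have hCcomm : ∀ a b : C, a * b = b * a := fun a b => mul_comm' a b
  have hres := restrict_eq_smul_of_invariant C χ hχ lam hlam hcon hinv
  set e := Cfsg.classInner (fun n : C => χ n) lam with he
  have hval : ∀ c : C, χ c = e * lam c := by
    intro c
    have := congrFun hres c
    simpa using this
  obtain ⟨d, ρ, hρirr, hρ⟩ := id hχ
  have := hρirr
  have hlam1 : lam 1 = 1 := irr_apply_one_of_comm hCcomm hlam
  have hχ1 : χ 1 = e := by
    have := hval 1
    rw [hlam1, mul_one] at this
    exact this
  have hd : χ 1 = (finrank ℂ (Fin d → ℂ) : ℂ) := by rw [← hρ, Representation.char_one]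
  -- `C` acts by the scalars `lam c`
  have hscal : ∀ c : C, ρ c = lam c • 1 := by
    intro c
    have hnorm : ‖ρ.character c‖ = finrank ℂ (Fin d → ℂ) := by
      rw [hρ, hval c, norm_mul, norm_irr_eq_one_of_comm hCcomm hlam c, mul_one, ← hχ1, hd]
      simp
    obtain ⟨μ, hμ⟩ := (norm_char_eq_finrank_iff ρ c).mp hnorm
    have h1 : ρ.character c = μ * (finrank ℂ (Fin d → ℂ) : ℂ) := by
      unfold Representation.character
      rw [hμ, map_smul, Module.End.one_eq_id, LinearMap.trace_id]
      simp
    rw [hρ, hval c, ← hd, hχ1] at h1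
    have hμ' : μ = lam c := by
      have h2 : e * lam c = e * μ := h1.trans (mul_comm μ e)
      exact (mul_left_cancel₀ hcon h2).symm
    rw [hμ, hμ']
  -- a nonzero `E`-fixed vector
  let σ : Representation ℂ E (Fin d → ℂ) := MonoidHom.comp ρ E.subtype
  obtain ⟨v, hv0, hvE⟩ := exists_fixed_vector σ (by
      have : ∀ x : E, σ.character x = χ x := by
        intro x
        rw [← hρ]
        rfl
      rw [Finset.sum_congr rfl fun x _ => this x]
      exact hχE)
  have hvE' : ∀ x ∈ E, ρ x v = v := fun x hx => hvE ⟨x, hx⟩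
  -- `lam` is trivial on `C_C(P)`
  have hlamZ : ∀ c : C, (c : H) ∈ Subgroup.centralizer (P : Set H) → lam c = 1 := by
    intro c hc
    have h1 : ρ c v = v := hvE' c (hZE ⟨c.2, hc⟩)
    rw [hscal c] at h1
    have h2 : (lam c - 1) • v = 0 := by
      rw [sub_smul, one_smul]
      have : (lam c • (1 : Module.End ℂ (Fin d → ℂ))) v = lam c • v := rfl
      rw [this] at h1
      rw [h1, sub_self]
    rcases smul_eq_zero.mp h2 with h3 | h3
    · exact sub_eq_zero.mp h3
    · exact absurd h3 hv0
  -- coprime action: `lam` is trivial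
  let lamHom : C →* ℂˣ := linearCharHom (isCharacter_of_irr hlam) hlam1
  have hlamHom : ∀ c : C, (lamHom c : ℂ) = lam c :=
    fun c => linearCharHom_apply (isCharacter_of_irr hlam) hlam1 c
  let φ : P →* MulAut C := (MulAut.conjNormal (H := C)).comp P.subtype
  have hφ : ∀ (y : P) (c : C), φ y c = ⟨(y : H) * c * (y : H)⁻¹, hCn.conj_mem (c : H) c.2 y⟩ := by
    intro y c
    apply Subtype.ext
    exact MulAut.conjNormal_apply (y : H) c
  have hlam_triv : ∀ c : C, lamHom c = 1 := by
    apply hom_eq_one_of_invariant hCcomm φ lamHom hcop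
    · intro y c
      apply Units.ext
      rw [hlamHom, hlamHom, hφ, hinv]
    · intro c hc
      apply Units.ext
      rw [hlamHom, Units.val_one]
      apply hlamZ
      rw [Subgroup.mem_centralizer_iff]
      intro y hy
      have := congrArg Subtype.val (hc ⟨y, hy⟩)
      rw [hφ] at this
      have h2 : y * (c : H) * y⁻¹ = c := this
      calc y * (c : H) = (y * (c : H) * y⁻¹) * y := by group
        _ = c * y := by rw [h2]
  have hlam_one : ∀ c : C, lam c = 1 := by
    intro c
    rw [← hlamHom, hlam_triv c, Units.val_one]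
  -- `v` is fixed by `C ⊔ E = ⊤`
  let S : Subgroup H :=
    { carrier := {h | ρ h v = v}
      one_mem' := by simp
      mul_mem' := by
        intro a b ha hb
        simp only [Set.mem_ofPred_eq] at ha hb ⊢
        rw [map_mul, Module.End.mul_apply, hb, ha]
      inv_mem' := by
        intro a ha
        simp only [Set.mem_ofPred_eq] at ha ⊢
        have : ρ a⁻¹ (ρ a v) = v := by
          rw [← Module.End.mul_apply, ← map_mul, inv_mul_cancel, map_one, Module.End.one_apply]
        rwa [ha] at this }
  have hCS : C ≤ S := by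
    intro c hc
    show ρ c v = v
    have := hscal ⟨c, hc⟩
    rw [hlam_one, one_smul] at this
    rw [show ρ c = ρ ((⟨c, hc⟩ : C) : H) from rfl, this, Module.End.one_apply]
  have hES : E ≤ S := fun x hx => hvE' x hx
  have hS : S = ⊤ := by
    rw [eq_top_iff, ← hCE]
    exact sup_le hCS hES
  have hfix : ∀ h : H, ρ h v = v := by
    intro h
    have : h ∈ S := by rw [hS]; trivial
    exact this
  rw [← hρ]
  exact char_eq_one_of_fixed ρ v hv0 hfix

end Invariant

end Cfsg.Agent.Lib.H23
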