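import Cfsg.Agent.Lib.H23.BrauerThm
import Cfsg.Agent.Lib.H24.CharLinearMul
import Cfsg.Agent.Lib.H24.CharOrth

/-!
# Brauer's characterization for algebraic-integer combinations of characters (helper23)

`IntInner G θ`: all inner products of `θ` with irreducible characters are algebraic integers.
* `intInner_of_elementary`: a class function whose restrictions to all elementary subgroups
  satisfy `IntInner` satisfies `IntInner` (consequence of Brauer's induction theorem);
* `exists_algInt_comb`: then `θ = ∑ᶠ χ, c χ • χ` with algebraic-integer coefficients.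
-/

set_option autoImplicit false

universe u

namespace Cfsg.Agent.Lib.H23

open Cfsg.Agent.Lib.L0 Cfsg.Agent.Lib.H24
open scoped ComplexConjugate

section IntInner

variable {G : Type u} [Group G] [Fintype G]

/-- all inner products with irreducible characters are algebraic integers -/
def IntInner (G : Type u) [Group G] [Fintype G] (θ : G → ℂ) : Prop :=
  ∀ χ : Cfsg.IrrCharacter G, IsIntegral ℤ (Cfsg.classInner θ (χ : G → ℂ))

theorem intInner_zero : IntInner G (0 : G → ℂ) := fun χ => by
  rw [classInner_zero_left]; exact isIntegral_zero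

theorem intInner_add {θ₁ θ₂ : G → ℂ} (h₁ : IntInner G θ₁) (h₂ : IntInner G θ₂) :
    IntInner G (θ₁ + θ₂) := fun χ => by
  rw [classInner_add_left]; exact (h₁ χ).add (h₂ χ)

theorem intInner_intCast_smul {θ : G → ℂ} (h : IntInner G θ) (n : ℤ) :
    IntInner G ((n : ℂ) • θ) := fun χ => by
  rw [classInner_smul_left]
  exact (isIntegral_algebraMap (R := ℤ) (A := ℂ) (x := n)).mul (h χ)

/-- induction preserves `IntInner` -/
theorem intInner_indFun (E : Subgroup G) [Fintype E] {φ : E → ℂ} (h : IntInner E φ) :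
    IntInner G (Cfsg.indFun E φ) := fun χ => by
  rw [frobenius_reciprocity E φ (χ : G → ℂ) (isClassFunction_of_isCharacter
    (isCharacter_of_irr χ.2))]
  obtain ⟨l, hl, hsum⟩ := isCharacter_exists_irr_decomp
    (isCharacter_restrict E (isCharacter_of_irr χ.2))
  rw [hsum, classInner_list_sum_right]
  apply (integralClosure ℤ ℂ).list_sum_mem
  intro z hz
  obtain ⟨ψ, hψ, rfl⟩ := List.mem_map.mp hz
  exact h ⟨ψ, hl ψ hψ⟩

theorem conj_hom_apply {E : Type*} [Group E] [Finite E] (lam : E →* ℂˣ) (e : E) :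
    conj ((lam e : ℂˣ) : ℂ) = ((lam⁻¹ e : ℂˣ) : ℂ) := by
  have h1 : ((lam e : ℂˣ) : ℂ) ^ Nat.card E = 1 := by
    rw [← Units.val_pow_eq_pow_val, ← map_pow, pow_card_eq_one', map_one, Units.val_one]
  have h2 : ‖((lam e : ℂˣ) : ℂ)‖ = 1 :=
    Complex.norm_eq_one_of_pow_eq_one h1 (Nat.card_pos (α := E)).ne'
  rw [MonoidHom.inv_apply, Units.val_inv_eq_inv_val, Complex.inv_eq_conj h2]

/-- multiplying by a linear character preserves `IntInner` -/
theorem intInner_hom_mul {E : Type u} [Group E] [Fintype E] {φ : E → ℂ} (h : IntInner E φ)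
    (lam : E →* ℂˣ) : IntInner E ((fun e => (lam e : ℂ)) * φ) := fun ψ => by
  have hirr : Cfsg.IsIrrCharacter E (fun e => (ψ : E → ℂ) e * ((lam⁻¹ e : ℂˣ) : ℂ)) :=
    isIrrCharacter_mul_hom (ψ : E → ℂ) ψ.2 lam⁻¹
  have := h ⟨_, hirr⟩
  have heq : Cfsg.classInner ((fun e => (lam e : ℂ)) * φ) (ψ : E → ℂ) =
      Cfsg.classInner φ (fun e => (ψ : E → ℂ) e * ((lam⁻¹ e : ℂˣ) : ℂ)) := by
    unfold Cfsg.classInner
    congr 1
    refine Finset.sum_congr rfl fun e _ => ?_
    rw [Pi.mul_apply, map_mul, ← conj_hom_apply lam e, Complex.conj_conj]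
    ring
  rw [heq]
  exact this

/-- **Brauer's characterization, integral version.** -/
theorem intInner_of_elementary {θ : G → ℂ} (hθ : Cfsg.IsClassFunction G θ)
    (hE : ∀ (E : Subgroup G) [Fintype E] (p : ℕ), p.Prime → Cfsg.IsElementary p E →
      ∀ ψ : Cfsg.IrrCharacter E, IsIntegral ℤ (Cfsg.classInner (fun e : E => θ e) (ψ : E → ℂ))) :
    IntInner G θ := by
  classical
  obtain ⟨l, hl, h1⟩ := exists_list_of_mem_linSpan (one_mem_linSpan (G := G))
  have key : ∀ l : List ((E : Subgroup G) × ((E →* ℂˣ) × ℤ)),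
      (∀ t ∈ l, ∃ p : ℕ, p.Prime ∧ Cfsg.IsElementary p t.1) →
      IntInner G ((l.map fun t => (t.2.2 : ℂ) • Cfsg.indFun t.1 (fun e => (t.2.1 e : ℂ))).sum * θ) := by
    intro l
    induction l with
    | nil => intro _; simp only [List.map_nil, List.sum_nil, zero_mul]; exact intInner_zero
    | cons t l ih =>
      intro hl
      rw [List.map_cons, List.sum_cons, add_mul]
      apply intInner_add
      · obtain ⟨p, hp, hEl⟩ := hl t (List.mem_cons_self)
        rw [smul_mul_assoc, ← indFun_mul_restrict' t.1 _ θ hθ]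
        apply intInner_intCast_smul
        haveI : Fintype t.1 := Fintype.ofFinite _
        apply intInner_indFun
        apply intInner_hom_mul
        intro ψ
        exact hE t.1 p hp hEl ψ
      · exact ih fun t' ht' => hl t' (List.mem_cons_of_mem _ ht')
  have h2 := key l hl
  rw [← h1] at h2
  have h3 : (fun _ : G => (1 : ℂ)) * θ = θ := by funext g; simp
  rwa [h3] at h2

theorem exists_algInt_comb {θ : G → ℂ} (hθ : Cfsg.IsClassFunction G θ) (h : IntInner G θ) :
    ∃ c : Cfsg.IrrCharacter G → ℂ, (∀ χ, c χ ∈ Cfsg.AlgInt) ∧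
      θ = ∑ᶠ χ : Cfsg.IrrCharacter G, c χ • (χ : G → ℂ) :=
  ⟨fun χ => Cfsg.classInner θ (χ : G → ℂ), fun χ => h χ, classFunction_expansion_finsum θ hθ⟩

end IntInner

end Cfsg.Agent.Lib.H23
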