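import Mathlib
import Cfsg.Agent.Lib.H28.CSL2Defs
import Cfsg.Agent.Lib.H12.SL2Syl2
import Cfsg.Agent.Lib.H7.PSp4SC3

/-!
# S3211 piece B1 (helper23): a subgroup isomorphic to `SL₂(q)`, `q` odd, is `SLike`
-/

set_option autoImplicit false

namespace Cfsg.Agent.Lib.H23.CSL2

open Cfsg.Agent.Lib.H28.CSL2 Cfsg.Agent.Lib.H12

section SL2

variable {F : Type*} [Field F] [Fintype F]

variable {G : Type*} [Group G]

/-- the image of the involution `j` under an isomorphism `L ≃* SL₂(F)` is `-1`. -/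
theorem b1_map_j (hodd : Odd (Fintype.card F)) (L : Subgroup G)
    (e : ↥L ≃* Matrix.SpecialLinearGroup (Fin 2) F) (j : G) (hj : orderOf j = 2) (hjL : j ∈ L) :
    e ⟨j, hjL⟩ = -1 := by
  have h2 : (2 : F) ≠ 0 := Cfsg.Agent.Lib.H7.PSp4.two_ne_zero_of_odd_card hodd
  have hjj : j * j = 1 := by
    have := pow_orderOf_eq_one j
    rw [hj, pow_two] at this
    exact this
  have hne : j ≠ 1 := by
    intro h
    rw [h, orderOf_one] at hj
    omega
  have h1 : e ⟨j, hjL⟩ * e ⟨j, hjL⟩ = 1 := by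
    rw [← map_mul]
    have : (⟨j, hjL⟩ : ↥L) * ⟨j, hjL⟩ = 1 := Subtype.ext hjj
    rw [this, map_one]
  rcases (sl2_mul_self_eq_one_iff h2 _).mp h1 with h | h
  · exfalso
    apply hne
    have : (⟨j, hjL⟩ : ↥L) = 1 := by
      apply e.injective
      rw [h, map_one]
    exact congrArg Subtype.val this
  · exact h

/-- **B1**. Transport along `e`. -/
theorem sLike_of_equiv (hodd : Odd (Fintype.card F)) (L : Subgroup G)
    (e : ↥L ≃* Matrix.SpecialLinearGroup (Fin 2) F) (j : G) (hj : orderOf j = 2) (hjL : j ∈ L) :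
    SLike L j := by
  have h2 : (2 : F) ≠ 0 := Cfsg.Agent.Lib.H7.PSp4.two_ne_zero_of_odd_card hodd
  have hej := b1_map_j hodd L e j hj hjL
  have hjj : j * j = 1 := by
    have := pow_orderOf_eq_one j
    rw [hj, pow_two] at this
    exact this
  have hne : j ≠ 1 := by
    intro h
    rw [h, orderOf_one] at hj
    omega
  -- transport of an equation `a * a = j`
  have hsq : ∀ a (ha : a ∈ L), a * a = j → e ⟨a, ha⟩ * e ⟨a, ha⟩ = -1 := by
    intro a ha haa
    rw [← map_mul, ← hej]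
    congr 1
    exact Subtype.ext haa
  refine ⟨hjL, hne, hjj, ?_, ?_, ?_, ?_⟩
  · intro a ha
    have : (⟨a, ha⟩ : ↥L) * ⟨j, hjL⟩ = ⟨j, hjL⟩ * ⟨a, ha⟩ := by
      apply e.injective
      rw [map_mul, map_mul, hej, mul_neg, neg_mul, mul_one, one_mul]
    exact congrArg Subtype.val this
  · intro a ha haa
    have h1 : e ⟨a, ha⟩ * e ⟨a, ha⟩ = 1 := by
      rw [← map_mul]
      have : (⟨a, ha⟩ : ↥L) * ⟨a, ha⟩ = 1 := Subtype.ext haa
      rw [this, map_one]
    rcases (sl2_mul_self_eq_one_iff h2 _).mp h1 with h | h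
    · left
      have : (⟨a, ha⟩ : ↥L) = 1 := by
        apply e.injective
        rw [h, map_one]
      exact congrArg Subtype.val this
    · right
      have : (⟨a, ha⟩ : ↥L) = ⟨j, hjL⟩ := by
        apply e.injective
        rw [h, hej]
      exact congrArg Subtype.val this
  · intro a ha a' ha' haa haa'
    obtain ⟨k, hk⟩ := Cfsg.Agent.Lib.H7.PSp4.exists_conj_of_sq hodd (hsq a ha haa) (hsq a' ha' haa')
    refine ⟨(e.symm k : ↥L), (e.symm k).2, ?_⟩
    have : (e.symm k) * ⟨a, ha⟩ * (e.symm k)⁻¹ = (⟨a', ha'⟩ : ↥L) := by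
      apply e.injective
      rw [map_mul, map_mul, map_inv, e.apply_symm_apply, hk]
    exact congrArg Subtype.val this
  · intro a ha d hd haa hda
    have hns : NonScalar ((e ⟨a, ha⟩ : Matrix.SpecialLinearGroup (Fin 2) F) : Matrix (Fin 2) (Fin 2) F) :=
      nonScalar_of_trace_sq_ne _ (trace_sq_ne_of_mul_self h2 _ (hsq a ha haa))
    have hinv : e ⟨d, hd⟩ * e ⟨a, ha⟩ * (e ⟨d, hd⟩)⁻¹ = (e ⟨a, ha⟩)⁻¹ := by
      rw [← map_inv, ← map_inv, ← map_mul, ← map_mul]
      congr 1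
      exact Subtype.ext hda
    have h1 := mul_self_of_inverts hns hinv
    have : (⟨d, hd⟩ : ↥L) * ⟨d, hd⟩ = ⟨j, hjL⟩ := by
      apply e.injective
      rw [map_mul, h1, hej]
    exact congrArg Subtype.val this

end SL2

end Cfsg.Agent.Lib.H23.CSL2
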