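import Mathlib
import Cfsg.Prelude.Def_Local
import Cfsg.Agent.Lib.H22.PPrimeCore
import Cfsg.Agent.Lib.H6.PResidual

/-!
# L-balance (helper23), part 1: the odd core of a subgroup inside an ambient group, the
centralizer modulo the odd core, relative subnormality.

* `oc E`: `O(E)` as a subgroup of the ambient group.
* `cstar E`: the elements normalizing `E` and acting trivially on `E / O(E)`.
* `SubnIn J C`: `J` is subnormal in `C` (both subgroups of the ambient group).
-/

set_option autoImplicit false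
set_option linter.unusedSectionVars false
set_option linter.unusedVariables false
set_option linter.style.haveILetI false

open scoped commutatorElement

namespace Cfsg.Agent.Lib.H23.LB

universe u
variable {G : Type u} [Group G]

/-- conjugate of a subgroup -/
abbrev cj (g : G) (X : Subgroup G) : Subgroup G := X.map (MulAut.conj g).toMonoidHom

theorem mem_cj {g x : G} {X : Subgroup G} : x ∈ cj g X ↔ g⁻¹ * x * g ∈ X := by
  constructor
  · rintro ⟨y, hy, rfl⟩
    simpa [MulAut.conj_apply, mul_assoc] using hy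
  · intro h
    refine ⟨g⁻¹ * x * g, h, ?_⟩
    simp [MulAut.conj_apply, mul_assoc]

theorem conj_mem_cj {g x : G} {X : Subgroup G} (hx : x ∈ X) : g * x * g⁻¹ ∈ cj g X :=
  ⟨x, hx, by simp [MulAut.conj_apply]⟩

theorem cj_cj (g h : G) (X : Subgroup G) : cj g (cj h X) = cj (g * h) X := by
  unfold cj
  rw [Subgroup.map_map]
  congr 1
  ext x
  simp [MulAut.conj_apply, mul_assoc]

theorem cj_one (X : Subgroup G) : cj 1 X = X := by
  ext x; rw [mem_cj]; simp

theorem cj_eq_of_mem_normalizer {g : G} {X : Subgroup G}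
    (hg : g ∈ Subgroup.normalizer (X : Set G)) : cj g X = X := by
  ext x
  rw [mem_cj]
  have h1 : g⁻¹ ∈ Subgroup.normalizer (X : Set G) := Subgroup.inv_mem _ hg
  have := (Subgroup.mem_normalizer_iff.1 h1 x)
  rw [inv_inv] at this
  exact this.symm

theorem cj_mono (g : G) {X Y : Subgroup G} (h : X ≤ Y) : cj g X ≤ cj g Y := Subgroup.map_mono h

theorem cj_inf (g : G) (X Y : Subgroup G) : cj g (X ⊓ Y) = cj g X ⊓ cj g Y :=
  Subgroup.map_inf X Y _ (MulAut.conj g).injective

theorem card_cj (g : G) (X : Subgroup G) : Nat.card (cj g X) = Nat.card X :=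
  (Nat.card_congr (X.equivMapOfInjective (MulAut.conj g).toMonoidHom
    (MulAut.conj g).injective).toEquiv).symm

theorem cj_normalizer (g : G) (X : Subgroup G) :
    cj g (Subgroup.normalizer (X : Set G)) = Subgroup.normalizer ((cj g X : Subgroup G) : Set G) := by
  ext x
  rw [mem_cj, Subgroup.mem_normalizer_iff, Subgroup.mem_normalizer_iff]
  constructor
  · intro h y
    rw [mem_cj, mem_cj]
    have := h (g⁻¹ * y * g)
    rw [this]
    constructor <;> intro h1 <;> convert h1 using 1 <;> group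
  · intro h y
    have := h (g * y * g⁻¹)
    rw [mem_cj, mem_cj] at this
    have e1 : g⁻¹ * (g * y * g⁻¹) * g = y := by group
    rw [e1] at this
    rw [this]
    constructor <;> intro h1 <;> convert h1 using 1 <;> group

theorem cj_centralizer (g : G) (X : Subgroup G) :
    cj g (Subgroup.centralizer (X : Set G)) = Subgroup.centralizer ((cj g X : Subgroup G) : Set G) := by
  ext x
  rw [mem_cj, Subgroup.mem_centralizer_iff, Subgroup.mem_centralizer_iff]
  constructor
  · intro h y hy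
    rw [SetLike.mem_coe, mem_cj] at hy
    have := h _ hy
    have e1 : y * x = g * ((g⁻¹ * y * g) * (g⁻¹ * x * g)) * g⁻¹ := by group
    have e2 : x * y = g * ((g⁻¹ * x * g) * (g⁻¹ * y * g)) * g⁻¹ := by group
    rw [e1, e2, this]
  · intro h y hy
    have := h (g * y * g⁻¹) (conj_mem_cj hy)
    have e1 : y * (g⁻¹ * x * g) = g⁻¹ * ((g * y * g⁻¹) * x) * g := by group
    have e2 : (g⁻¹ * x * g) * y = g⁻¹ * (x * (g * y * g⁻¹)) * g := by group
    rw [e1, e2, this]

/-! ### the odd core of a subgroup -/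

/-- `O(E)`, as a subgroup of the ambient group. -/
def oc (E : Subgroup G) : Subgroup G := (Cfsg.pPrimeCore 2 ↥E).map E.subtype

theorem oc_le (E : Subgroup G) : oc E ≤ E := Subgroup.map_subtype_le _

theorem card_oc [Finite G] (E : Subgroup G) : (Nat.card (oc E)).Coprime 2 := by
  unfold oc
  rw [← Nat.card_congr ((Cfsg.pPrimeCore 2 ↥E).equivMapOfInjective E.subtype
    E.subtype_injective).toEquiv]
  exact Cfsg.Agent.Lib.H22.card_pPrimeCore_coprime 2

theorem le_oc {M E : Subgroup G} (hME : M ≤ E) (hn : E ≤ Subgroup.normalizer (M : Set G))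
    (hodd : (Nat.card M).Coprime 2) : M ≤ oc E := by
  have hN : (M.subgroupOf E).Normal := Subgroup.normal_subgroupOf_of_le_normalizer hn
  have hc : (Nat.card (M.subgroupOf E)).Coprime 2 := by
    rwa [Nat.card_congr (Subgroup.subgroupOfEquivOfLe hME).toEquiv]
  have h1 := Cfsg.Agent.Lib.H22.le_pPrimeCore 2 _ hN hc
  intro x hx
  exact ⟨⟨x, hME hx⟩, h1 (Subgroup.mem_subgroupOf.2 hx), rfl⟩

theorem le_normalizer_oc (E : Subgroup G) : E ≤ Subgroup.normalizer (oc E : Set G) := by
  have hn : (Cfsg.pPrimeCore 2 ↥E).Normal := Cfsg.Agent.Lib.H22.pPrimeCore_normal 2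
  intro e he
  rw [Subgroup.mem_normalizer_iff]
  have key : ∀ e ∈ E, ∀ x ∈ oc E, e * x * e⁻¹ ∈ oc E := by
    rintro e he _ ⟨y, hy, rfl⟩
    exact ⟨⟨e, he⟩ * y * ⟨e, he⟩⁻¹, hn.conj_mem y hy ⟨e, he⟩, rfl⟩
  intro x
  constructor
  · exact key e he x
  · intro h
    have := key e⁻¹ (E.inv_mem he) _ h
    simpa [mul_assoc] using this

theorem cj_oc_le [Finite G] (g : G) (E : Subgroup G) : cj g (oc E) ≤ oc (cj g E) := by
  apply le_oc (cj_mono g (oc_le E))
  · rw [← cj_normalizer]
    exact cj_mono g (le_normalizer_oc E)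
  · rw [card_cj]; exact card_oc E

theorem cj_oc [Finite G] (g : G) (E : Subgroup G) : cj g (oc E) = oc (cj g E) := by
  apply le_antisymm (cj_oc_le g E)
  have h := cj_oc_le g⁻¹ (cj g E)
  rw [cj_cj, inv_mul_cancel, cj_one] at h
  have h2 := cj_mono g h
  rwa [cj_cj, mul_inv_cancel, cj_one] at h2

theorem normalizer_le_normalizer_oc [Finite G] (E : Subgroup G) :
    Subgroup.normalizer (E : Set G) ≤ Subgroup.normalizer (oc E : Set G) := by
  intro g hg
  rw [Subgroup.mem_normalizer_iff_map_conj_eq]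
  have h1 : cj g (oc E) = oc (cj g E) := cj_oc g E
  rw [cj_eq_of_mem_normalizer hg] at h1
  exact h1

/-- `O(C) ≤ O(M)` when `C` is normal in `M`. -/
theorem oc_le_oc_of_normal [Finite G] {C M : Subgroup G} (hCM : C ≤ M)
    (hM : M ≤ Subgroup.normalizer (C : Set G)) : oc C ≤ oc M :=
  le_oc ((oc_le C).trans hCM) (hM.trans (normalizer_le_normalizer_oc C)) (card_oc C)

/-- an element of `2`-power order in the odd core is trivial -/
theorem eq_one_of_mem_oc [Finite G] {E : Subgroup G} {x : G} (hx : x ∈ oc E) {k : ℕ}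
    (hk : x ^ 2 ^ k = 1) : x = 1 := by
  have h1 : orderOf x ∣ 2 ^ k := orderOf_dvd_of_pow_eq_one hk
  have h2 : orderOf x ∣ Nat.card (oc E) := by
    have := orderOf_dvd_natCard (⟨x, hx⟩ : oc E)
    rwa [Subgroup.orderOf_mk] at this
  have h3 : (2 ^ k).Coprime (Nat.card (oc E)) := (Nat.Coprime.pow_right k (card_oc E)).symm
  have h4 : orderOf x = 1 := Nat.eq_one_of_dvd_coprimes h3 h1 h2
  exact orderOf_eq_one_iff.1 h4

/-- a `2`-subgroup meets the odd core trivially -/
theorem inf_oc_eq_bot [Finite G] {E V : Subgroup G} (hV : IsPGroup 2 V) : V ⊓ oc E = ⊥ := by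
  rw [eq_bot_iff]
  rintro x ⟨hxV, hxO⟩
  obtain ⟨k, hk⟩ := hV ⟨x, hxV⟩
  have hk' : x ^ 2 ^ k = 1 := by simpa using congrArg Subtype.val hk
  rw [Subgroup.mem_bot]
  exact eq_one_of_mem_oc hxO hk'

/-! ### the centralizer of `E / O(E)` -/

/-- The elements normalizing `E` and centralizing `E / O(E)`. -/
def cstar [Finite G] (E : Subgroup G) : Subgroup G where
  carrier := {h | h ∈ Subgroup.normalizer (E : Set G) ∧ ∀ e ∈ E, ⁅h, e⁆ ∈ oc E}
  one_mem' := ⟨Subgroup.one_mem _, fun e _ => by simp [commutatorElement_def]⟩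
  mul_mem' := by
    rintro a b ⟨ha, ha'⟩ ⟨hb, hb'⟩
    refine ⟨Subgroup.mul_mem _ ha hb, fun e he => ?_⟩
    have e1 : ⁅a * b, e⁆ = a * ⁅b, e⁆ * a⁻¹ * ⁅a, e⁆ := by
      simp only [commutatorElement_def]; group
    rw [e1]
    refine Subgroup.mul_mem _ ?_ (ha' e he)
    exact (Subgroup.mem_normalizer_iff.1 (normalizer_le_normalizer_oc E ha) _).1 (hb' e he)
  inv_mem' := by
    rintro a ⟨ha, ha'⟩
    refine ⟨Subgroup.inv_mem _ ha, fun e he => ?_⟩
    have e1 : ⁅a⁻¹, e⁆ = a⁻¹ * (⁅a, e⁆)⁻¹ * a⁻¹⁻¹ := by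
      simp only [commutatorElement_def]; group
    rw [e1]
    exact (Subgroup.mem_normalizer_iff.1
      (normalizer_le_normalizer_oc E (Subgroup.inv_mem _ ha)) _).1 (Subgroup.inv_mem _ (ha' e he))

theorem mem_cstar [Finite G] {E : Subgroup G} {h : G} :
    h ∈ cstar E ↔ h ∈ Subgroup.normalizer (E : Set G) ∧ ∀ e ∈ E, ⁅h, e⁆ ∈ oc E := Iff.rfl

theorem oc_le_cstar [Finite G] (E : Subgroup G) : oc E ≤ cstar E := by
  intro o ho
  refine ⟨Subgroup.le_normalizer (oc_le E ho), fun e he => ?_⟩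
  have : ⁅o, e⁆ = o * (e * o⁻¹ * e⁻¹) := by simp only [commutatorElement_def]; group
  rw [this]
  exact Subgroup.mul_mem _ ho
    ((Subgroup.mem_normalizer_iff.1 (le_normalizer_oc E he) _).1 (Subgroup.inv_mem _ ho))

theorem cj_cstar [Finite G] (g : G) (E : Subgroup G) : cj g (cstar E) = cstar (cj g E) := by
  have key : ∀ (g : G) (E : Subgroup G), cj g (cstar E) ≤ cstar (cj g E) := by
    intro g E x hx
    rw [mem_cj] at hx
    obtain ⟨h1, h2⟩ := hx
    refine ⟨?_, ?_⟩
    · rw [← cj_normalizer, mem_cj]; exact h1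
    · intro e he
      rw [mem_cj] at he
      have := h2 _ he
      rw [← cj_oc, mem_cj]
      convert this using 1
      simp only [commutatorElement_def]; group
  apply le_antisymm (key g E)
  have h := key g⁻¹ (cj g E)
  rw [cj_cj, inv_mul_cancel, cj_one] at h
  have h2 := cj_mono g h
  rwa [cj_cj, mul_inv_cancel, cj_one] at h2

/-! ### relative subnormality -/

/-- `SubnIn J C`: `J` is a subnormal subgroup of `C`. -/
inductive SubnIn : Subgroup G → Subgroup G → Prop
  | refl (C : Subgroup G) : SubnIn C C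
  | step {J M C : Subgroup G} : J ≤ M → M ≤ Subgroup.normalizer (J : Set G) → SubnIn M C →
      SubnIn J C

theorem SubnIn.le {J C : Subgroup G} (h : SubnIn J C) : J ≤ C := by
  induction h with
  | refl C => exact le_rfl
  | step h1 _ _ ih => exact h1.trans ih

theorem SubnIn.of_normal {J C : Subgroup G} (h1 : J ≤ C)
    (h2 : C ≤ Subgroup.normalizer (J : Set G)) : SubnIn J C :=
  SubnIn.step h1 h2 (SubnIn.refl C)

theorem SubnIn.inf {J C : Subgroup G} (h : SubnIn J C) (X : Subgroup G) :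
    SubnIn (J ⊓ X) (C ⊓ X) := by
  induction h with
  | refl C => exact SubnIn.refl _
  | step h1 h2 _ ih =>
    refine SubnIn.step (inf_le_inf_right X h1) ?_ ih
    intro m hm
    have hm1 := h2 hm.1
    rw [Subgroup.mem_normalizer_iff] at hm1 ⊢
    intro x
    rw [Subgroup.mem_inf, Subgroup.mem_inf, hm1 x]
    constructor
    · rintro ⟨ha, hb⟩
      exact ⟨ha, X.mul_mem (X.mul_mem hm.2 hb) (X.inv_mem hm.2)⟩
    · rintro ⟨ha, hb⟩
      refine ⟨ha, ?_⟩
      have := X.mul_mem (X.mul_mem (X.inv_mem hm.2) hb) hm.2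
      simpa [mul_assoc] using this

theorem SubnIn.of_le {J C Y : Subgroup G} (h : SubnIn J C) (hJY : J ≤ Y) (hYC : Y ≤ C) :
    SubnIn J Y := by
  have := h.inf Y
  rwa [inf_eq_left.2 hJY, inf_eq_right.2 hYC] at this

theorem SubnIn.cj {J C : Subgroup G} (h : SubnIn J C) (g : G) : SubnIn (cj g J) (cj g C) := by
  induction h with
  | refl C => exact SubnIn.refl _
  | step h1 h2 _ ih =>
    refine SubnIn.step (cj_mono g h1) ?_ ih
    rw [← cj_normalizer]
    exact cj_mono g h2

theorem map_mem_normalizer {G' : Type*} [Group G'] (f : G →* G') {J : Subgroup G} {m : G}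
    (hm : m ∈ Subgroup.normalizer (J : Set G)) :
    f m ∈ Subgroup.normalizer ((J.map f : Subgroup G') : Set G') := by
  have key : ∀ m : G, m ∈ Subgroup.normalizer (J : Set G) → ∀ y ∈ J.map f,
      f m * y * (f m)⁻¹ ∈ J.map f := by
    rintro m hm _ ⟨x, hx, rfl⟩
    exact ⟨m * x * m⁻¹, (Subgroup.mem_normalizer_iff.1 hm x).1 hx, by simp⟩
  rw [Subgroup.mem_normalizer_iff]
  intro y
  constructor
  · exact key m hm y
  · intro hy
    have := key m⁻¹ (Subgroup.inv_mem _ hm) _ hy
    simpa [mul_assoc] using this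

theorem SubnIn.map {G' : Type*} [Group G'] (f : G →* G') {J C : Subgroup G} (h : SubnIn J C) :
    SubnIn (J.map f) (C.map f) := by
  induction h with
  | refl C => exact SubnIn.refl _
  | step h1 h2 _ ih =>
    refine SubnIn.step (Subgroup.map_mono h1) ?_ ih
    rintro _ ⟨m, hm, rfl⟩
    exact map_mem_normalizer f (h2 hm)

theorem SubnIn.trans {J M C : Subgroup G} (h1 : SubnIn J M) (h2 : SubnIn M C) : SubnIn J C := by
  induction h1 with
  | refl _ => exact h2
  | step a b _ ih => exact SubnIn.step a b (ih h2)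

/-- a proper subnormal subgroup lies in a proper normal subgroup -/
theorem SubnIn.exists_normal {J C : Subgroup G} (h : SubnIn J C) :
    J = C ∨ ∃ X : Subgroup G, J ≤ X ∧ X ≤ C ∧ X ≠ C ∧ C ≤ Subgroup.normalizer (X : Set G) ∧
      SubnIn J X := by
  induction h with
  | refl C => exact Or.inl rfl
  | @step J M C h1 h2 h3 ih =>
    rcases ih with rfl | ⟨X, hMX, hXC, hne, hn, hs⟩
    · by_cases hJ : J = M
      · exact Or.inl hJ
      · exact Or.inr ⟨J, le_rfl, h1, hJ, h2, SubnIn.refl J⟩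
    · exact Or.inr ⟨X, h1.trans hMX, hXC, hne, hn, SubnIn.step h1 h2 hs⟩

/-- `O(J) ≤ O(C)` for `J` subnormal in `C`. -/
theorem SubnIn.oc_le [Finite G] {J C : Subgroup G} (h : SubnIn J C) : oc J ≤ oc C := by
  induction h with
  | refl C => exact le_rfl
  | step h1 h2 _ ih => exact (oc_le_oc_of_normal h1 h2).trans ih

/-- a subnormal subgroup of odd order lies in the odd core -/
theorem SubnIn.le_oc_of_odd [Finite G] {J C : Subgroup G} (h : SubnIn J C)
    (hodd : (Nat.card J).Coprime 2) : J ≤ oc C :=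
  (le_oc le_rfl Subgroup.le_normalizer hodd).trans h.oc_le

/-- `O(J) = J ∩ O(C)` for `J` subnormal in `C`. -/
theorem SubnIn.inf_oc [Finite G] {J C : Subgroup G} (h : SubnIn J C) : J ⊓ oc C = oc J := by
  apply le_antisymm
  · apply le_oc inf_le_left
    · intro j hj
      have hjC := h.le hj
      have h1 := le_normalizer_oc C hjC
      rw [Subgroup.mem_normalizer_iff] at h1 ⊢
      intro x
      rw [Subgroup.mem_inf, Subgroup.mem_inf, ← h1 x]
      constructor
      · rintro ⟨ha, hb⟩
        exact ⟨J.mul_mem (J.mul_mem hj ha) (J.inv_mem hj), hb⟩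
      · rintro ⟨ha, hb⟩
        refine ⟨?_, hb⟩
        have := J.mul_mem (J.mul_mem (J.inv_mem hj) ha) hj
        simpa [mul_assoc] using this
    · exact Nat.Coprime.coprime_dvd_left (Subgroup.card_dvd_of_le inf_le_right) (card_oc C)
  · exact le_inf (Cfsg.Agent.Lib.H23.LB.oc_le J) h.oc_le

end Cfsg.Agent.Lib.H23.LB
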