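import Mathlib
import Cfsg.Agent.Lib.H23.LB1
import Cfsg.Agent.Lib.H10.SylowIn

/-!
# L-balance (helper23), part 2: Sylow `2`-subgroups of a subgroup, transport of `oc` and `cstar`
along homomorphisms.
-/

set_option autoImplicit false
set_option linter.unusedSectionVars false
set_option linter.unusedVariables false
set_option linter.style.haveILetI false

open scoped commutatorElement

namespace Cfsg.Agent.Lib.H23.LB

universe u
variable {G : Type u} [Group G]

instance fact_two_prime : Fact (Nat.Prime 2) := ⟨Nat.prime_two⟩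

/-- `S` is a Sylow `2`-subgroup of the subgroup `E`. -/
def Syl2 (S E : Subgroup G) : Prop := S ≤ E ∧ IsPGroup 2 S ∧ ¬ 2 ∣ S.relIndex E

theorem Syl2.le {S E : Subgroup G} (h : Syl2 S E) : S ≤ E := h.1
theorem Syl2.isPGroup {S E : Subgroup G} (h : Syl2 S E) : IsPGroup 2 S := h.2.1

theorem Syl2.eq_of_le [Finite G] {S E Q : Subgroup G} (h : Syl2 S E) (hQ : IsPGroup 2 Q)
    (hSQ : S ≤ Q) (hQE : Q ≤ E) : S = Q :=
  Cfsg.Agent.Lib.H10.eq_of_le_of_not_dvd_relIndex hSQ hQE hQ h.2.2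

theorem Syl2.exists_ge [Finite G] {Q E : Subgroup G} (hQ : IsPGroup 2 Q) (hQE : Q ≤ E) :
    ∃ S : Subgroup G, Q ≤ S ∧ Syl2 S E := by
  obtain ⟨R, h1, h2, h3, h4⟩ := Cfsg.Agent.Lib.H10.exists_sylowIn hQ hQE
  exact ⟨R, h1, h2, h3, h4⟩

theorem Syl2.exists_conj_le [Finite G] {S E Q : Subgroup G} (h : Syl2 S E) (hQ : IsPGroup 2 Q)
    (hQE : Q ≤ E) : ∃ g ∈ E, cj g Q ≤ S :=
  Cfsg.Agent.Lib.H10.exists_mem_map_conj_le_of_sylowIn h.2.1 h.1 h.2.2 hQ hQE

theorem Syl2.cj {S E : Subgroup G} (h : Syl2 S E) (g : G) : Syl2 (cj g S) (cj g E) :=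
  ⟨cj_mono g h.1, h.2.1.map _, by
    rw [show (LB.cj g S).relIndex (LB.cj g E) = S.relIndex E from
      Cfsg.Agent.Lib.H10.relIndex_map_conj g S E]
    exact h.2.2⟩

theorem Syl2.inf_normal [Finite G] {S E C : Subgroup G} (h : Syl2 S E) (hCE : C ≤ E)
    (hn : E ≤ Subgroup.normalizer (C : Set G)) : Syl2 (S ⊓ C) C := by
  obtain ⟨T₁, -, hT₁⟩ := Syl2.exists_ge (Q := (⊥ : Subgroup G)) (E := C) IsPGroup.of_bot bot_le
  obtain ⟨g, hg, hle⟩ := h.exists_conj_le hT₁.isPGroup (hT₁.le.trans hCE)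
  have hCg : LB.cj g C = C := cj_eq_of_mem_normalizer (hn hg)
  have h1 : Syl2 (LB.cj g T₁) C := by
    have := hT₁.cj g
    rwa [hCg] at this
  have h2 : LB.cj g T₁ ≤ S ⊓ C := le_inf hle h1.le
  have h3 := h1.eq_of_le (h.isPGroup.to_le inf_le_left) h2 inf_le_right
  rw [← h3]
  exact h1

/-- a `2`-element of `E` normalizing the Sylow `2`-subgroup `S` of `E` lies in `S` -/
theorem Syl2.mem_of_mem_normalizer [Finite G] {S E : Subgroup G} (h : Syl2 S E) {z : G}
    (hzE : z ∈ E) {k : ℕ} (hz2 : z ^ 2 ^ k = 1) (hzS : z ∈ Subgroup.normalizer (S : Set G)) :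
    z ∈ S := by
  have hZ : IsPGroup 2 (Subgroup.zpowers z) := by
    rw [IsPGroup.iff_card, Nat.card_zpowers]
    exact (Nat.dvd_prime_pow Nat.prime_two).1 (orderOf_dvd_of_pow_eq_one hz2) |>.imp fun _ h => h.2
  have h1 : IsPGroup 2 (S ⊔ Subgroup.zpowers z : Subgroup G) :=
    IsPGroup.to_sup_of_normal_left' h.isPGroup hZ (by rw [Subgroup.zpowers_le]; exact hzS)
  have h2 := h.eq_of_le h1 le_sup_left (sup_le h.le (by rw [Subgroup.zpowers_le]; exact hzE))
  rw [h2]
  exact (le_sup_right : Subgroup.zpowers z ≤ S ⊔ Subgroup.zpowers z) (Subgroup.mem_zpowers z)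

theorem Syl2.map [Finite G] {G' : Type*} [Group G'] (f : G →* G') {S E : Subgroup G}
    (h : Syl2 S E) : Syl2 (S.map f) (E.map f) := by
  refine ⟨Subgroup.map_mono h.1, h.2.1.map f, ?_⟩
  intro hd
  apply h.2.2
  -- the index of the image divides the index
  have key : (S.map f).relIndex (E.map f) ∣ S.relIndex E := by
    have h1 := Subgroup.index_map_dvd (S.subgroupOf E) (f := f.subgroupMap E)
      (f.subgroupMap_surjective E)
    have h2 : (S.subgroupOf E).map (f.subgroupMap E) = (S.map f).subgroupOf (E.map f) := by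
      ext ⟨x, hx⟩
      simp only [Subgroup.mem_map, Subgroup.mem_subgroupOf, Subtype.exists]
      constructor
      · rintro ⟨a, ha, hb, hab⟩
        have : f a = x := congrArg Subtype.val hab
        exact ⟨a, hb, this⟩
      · rintro ⟨a, ha, hab⟩
        exact ⟨a, h.1 ha, ha, Subtype.ext hab⟩
    rw [h2] at h1
    exact h1
  exact hd.trans key

theorem Syl2.subgroupOf {S E K : Subgroup G} (h : Syl2 S E) (hEK : E ≤ K) :
    Syl2 (S.subgroupOf K) (E.subgroupOf K) :=
  ⟨fun x hx => h.1 (Subgroup.mem_subgroupOf.1 hx), h.2.1.comap_subtype, by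
    rw [Subgroup.relIndex_subgroupOf hEK]; exact h.2.2⟩


theorem Syl2.of_subgroupOf {S E K : Subgroup G} (hSE : S ≤ E) (hEK : E ≤ K)
    (h : Syl2 (S.subgroupOf K) (E.subgroupOf K)) : Syl2 S E := by
  refine ⟨hSE, ?_, ?_⟩
  · have := h.2.1.map K.subtype
    rwa [Subgroup.map_subgroupOf_eq_of_le (hSE.trans hEK)] at this
  · have := h.2.2
    rwa [Subgroup.relIndex_subgroupOf hEK] at this

theorem mem_normalizer_inf {A B : Subgroup G} {x : G}
    (hA : x ∈ Subgroup.normalizer (A : Set G)) (hB : x ∈ Subgroup.normalizer (B : Set G)) :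
    x ∈ Subgroup.normalizer ((A ⊓ B : Subgroup G) : Set G) := by
  rw [Subgroup.mem_normalizer_iff] at hA hB ⊢
  intro y
  rw [Subgroup.mem_inf, Subgroup.mem_inf, hA y, hB y]

theorem card_lt_of_lt [Finite G] {H K : Subgroup G} (h : H < K) : Nat.card H < Nat.card K := by
  by_contra hc
  exact h.ne (Subgroup.eq_of_le_of_card_ge h.le (not_lt.1 hc))

/-! ### transport of `oc` and `cstar` -/

section transport

variable [Finite G] {G' : Type*} [Group G'] [Finite G']

theorem map_oc_le (f : G →* G') (X : Subgroup G) : (oc X).map f ≤ oc (X.map f) := by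
  apply le_oc (Subgroup.map_mono (oc_le X))
  · rintro _ ⟨x, hx, rfl⟩
    exact map_mem_normalizer f (le_normalizer_oc X hx)
  · exact Nat.Coprime.coprime_dvd_left (Subgroup.card_map_dvd _ f) (card_oc X)

theorem inf_comap_oc_le (f : G →* G') (X : Subgroup G)
    (hodd : (Nat.card (X ⊓ f.ker : Subgroup G)).Coprime 2) :
    X ⊓ (oc (X.map f)).comap f ≤ oc X := by
  set M : Subgroup G := X ⊓ (oc (X.map f)).comap f with hM
  apply le_oc inf_le_left
  · intro x hx
    have key : ∀ x ∈ X, ∀ m ∈ M, x * m * x⁻¹ ∈ M := by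
      intro x hx m hm
      refine ⟨X.mul_mem (X.mul_mem hx hm.1) (X.inv_mem hx), ?_⟩
      show f (x * m * x⁻¹) ∈ oc (X.map f)
      rw [map_mul, map_mul, map_inv]
      have h1 : f x ∈ Subgroup.normalizer ((oc (X.map f) : Subgroup G') : Set G') :=
        le_normalizer_oc _ ⟨x, hx, rfl⟩
      exact (Subgroup.mem_normalizer_iff.1 h1 _).1 hm.2
    rw [Subgroup.mem_normalizer_iff]
    intro m
    constructor
    · exact key x hx m
    · intro h
      have := key x⁻¹ (X.inv_mem hx) _ h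
      have e : x⁻¹ * (x * m * x⁻¹) * x⁻¹⁻¹ = m := by group
      rwa [e] at this
  · -- cardinality
    set g : ↥M →* G' := f.comp M.subtype with hg
    have h1 : Nat.card g.ker * g.ker.index = Nat.card ↥M := Subgroup.card_mul_index g.ker
    have h2 : g.ker.index = Nat.card g.range := Subgroup.index_ker g
    have h3 : Nat.card g.range ∣ Nat.card (oc (X.map f)) := by
      apply Subgroup.card_dvd_of_le
      rintro _ ⟨m, rfl⟩
      exact m.2.2
    have h4 : Nat.card g.ker ∣ Nat.card (X ⊓ f.ker : Subgroup G) := by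
      rw [← Subgroup.card_map_of_injective (K := g.ker) (f := M.subtype) M.subtype_injective]
      apply Subgroup.card_dvd_of_le
      rintro _ ⟨m, hm, rfl⟩
      exact ⟨m.2.1, hm⟩
    rw [← h1, h2]
    exact Nat.Coprime.mul_left (Nat.Coprime.coprime_dvd_left h4 hodd)
      (Nat.Coprime.coprime_dvd_left h3 (card_oc _))

theorem oc_map_of_injective (f : G →* G') (hf : Function.Injective f) (X : Subgroup G) :
    oc (X.map f) = (oc X).map f := by
  apply le_antisymm _ (map_oc_le f X)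
  intro y hy
  obtain ⟨x, hx, rfl⟩ := oc_le _ hy
  have hk : X ⊓ f.ker = ⊥ := by
    rw [(MonoidHom.ker_eq_bot_iff f).2 hf, inf_bot_eq]
  have h1 := inf_comap_oc_le f X (by rw [hk]; simp)
  exact ⟨x, h1 ⟨hx, hy⟩, rfl⟩

theorem oc_subgroupOf {X K : Subgroup G} (hXK : X ≤ K) :
    oc (X.subgroupOf K) = (oc X).subgroupOf K := by
  have h1 := oc_map_of_injective K.subtype K.subtype_injective (X.subgroupOf K)
  rw [Subgroup.map_subgroupOf_eq_of_le hXK] at h1
  rw [h1]
  unfold Subgroup.subgroupOf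
  rw [Subgroup.comap_map_eq_self_of_injective K.subtype_injective]

theorem map_cstar_le (f : G →* G') (X : Subgroup G) : (cstar X).map f ≤ cstar (X.map f) := by
  rintro _ ⟨h, ⟨h1, h2⟩, rfl⟩
  refine ⟨map_mem_normalizer f h1, ?_⟩
  rintro _ ⟨e, he, rfl⟩
  rw [← map_commutatorElement]
  exact map_oc_le f X ⟨_, h2 e he, rfl⟩

theorem mem_cstar_of_map (f : G →* G') (X : Subgroup G)
    (hodd : (Nat.card (X ⊓ f.ker : Subgroup G)).Coprime 2) {h : G}
    (hn : h ∈ Subgroup.normalizer (X : Set G)) (hf : f h ∈ cstar (X.map f)) : h ∈ cstar X := by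
  refine ⟨hn, fun e he => ?_⟩
  apply inf_comap_oc_le f X hodd
  refine ⟨?_, ?_⟩
  · rw [commutatorElement_def]
    exact X.mul_mem ((Subgroup.mem_normalizer_iff.1 hn e).1 he) (X.inv_mem he)
  · show f ⁅h, e⁆ ∈ oc (X.map f)
    rw [map_commutatorElement]
    exact hf.2 _ ⟨e, he, rfl⟩

theorem mem_cstar_subgroupOf {X K : Subgroup G} (hXK : X ≤ K) (h : ↥K) :
    h ∈ cstar (X.subgroupOf K) ↔ (h : G) ∈ cstar X := by
  constructor
  · intro hh
    have := map_cstar_le K.subtype (X.subgroupOf K) ⟨h, hh, rfl⟩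
    rwa [Subgroup.map_subgroupOf_eq_of_le hXK] at this
  · intro hh
    apply mem_cstar_of_map K.subtype (X.subgroupOf K)
    · rw [K.ker_subtype, inf_bot_eq]; simp
    · rw [← Subgroup.subgroupOf_normalizer_eq hXK, Subgroup.mem_subgroupOf]
      exact hh.1
    · rw [Subgroup.map_subgroupOf_eq_of_le hXK]
      exact hh

end transport

end Cfsg.Agent.Lib.H23.LB
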