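import Mathlib
import Cfsg.Agent.Lib.H23.LB2
import Cfsg.Agent.Lib.H9.AlperinTame
import Cfsg.Agent.Lib.H1.ZStarGen

/-!
# L-balance (helper23), part 3: the `Z*`-step. In `G = E⟨q⟩` with `q` a `2`-element centralizing a
Sylow `2`-subgroup `S` of the normal subgroup `E`, local control (`q` acts trivially on
`N_E(W)/O(N_E(W))` for the non-normal `W ≤ S`) gives global control (`q` acts trivially on `E/O(E)`).
-/

set_option autoImplicit false
set_option linter.unusedSectionVars false
set_option linter.unusedVariables false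
set_option linter.style.haveILetI false

open scoped commutatorElement

namespace Cfsg.Agent.Lib.H23.LB

universe u
variable {G : Type u} [Group G]

/-- in `N(C)/C` an element which is the inverse of an odd-order element and is a `2`-element is
trivial -/
theorem mem_of_mul_mem_of_two_odd {C : Subgroup G} {q o : G}
    (hq : q ∈ Subgroup.normalizer (C : Set G)) (ho : o ∈ Subgroup.normalizer (C : Set G))
    (hqo : q * o ∈ C) {k n : ℕ} (hq2 : q ^ 2 ^ k = 1) (hon : o ^ n = 1) (hn : n.Coprime 2) :
    q ∈ C := by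
  set N := Subgroup.normalizer (C : Set G) with hN
  haveI : (C.subgroupOf N).Normal := Subgroup.normal_in_normalizer
  set π := QuotientGroup.mk' (C.subgroupOf N) with hπ
  have h1 : π ⟨q, hq⟩ * π ⟨o, ho⟩ = 1 := by
    rw [← map_mul, hπ, QuotientGroup.mk'_apply, QuotientGroup.eq_one_iff, Subgroup.mem_subgroupOf]
    exact hqo
  have h2 : (π ⟨q, hq⟩) ^ 2 ^ k = 1 := by
    rw [← map_pow]
    have : (⟨q, hq⟩ : ↥N) ^ 2 ^ k = 1 := Subtype.ext (by simpa using hq2)
    rw [this, map_one]
  have h3 : (π ⟨o, ho⟩) ^ n = 1 := by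
    rw [← map_pow]
    have : (⟨o, ho⟩ : ↥N) ^ n = 1 := Subtype.ext (by simpa using hon)
    rw [this, map_one]
  have h4 : π ⟨q, hq⟩ = (π ⟨o, ho⟩)⁻¹ := eq_inv_of_mul_eq_one_left h1
  have h5 : (π ⟨q, hq⟩) ^ n = 1 := by rw [h4, inv_pow, h3, inv_one]
  have h6 : orderOf (π ⟨q, hq⟩) = 1 :=
    Nat.eq_one_of_dvd_coprimes (Nat.Coprime.pow_right k hn) (orderOf_dvd_of_pow_eq_one h5)
      (orderOf_dvd_of_pow_eq_one h2)
  have h7 : π ⟨q, hq⟩ = 1 := orderOf_eq_one_iff.1 h6
  rw [hπ, QuotientGroup.mk'_apply, QuotientGroup.eq_one_iff, Subgroup.mem_subgroupOf] at h7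
  exact h7

/-- if `a` centralizes a Sylow `2`-subgroup, a commutator `[a, g]` lying in a central `2`-subgroup
is trivial -/
theorem comm_eq_one_of_central [Finite G] (P : Sylow 2 G) {W : Subgroup G}
    (hW : W ≤ Subgroup.center G) (hW2 : IsPGroup 2 W) {a : G}
    (ha : a ∈ Subgroup.centralizer ((P : Subgroup G) : Set G)) {g : G} (hg : ⁅a, g⁆ ∈ W) :
    ⁅a, g⁆ = 1 := by
  have hmul : ∀ x y : G, ⁅a, y⁆ ∈ W → ⁅a, x * y⁆ = ⁅a, x⁆ * ⁅a, y⁆ := by
    intro x y hy
    have hc : ∀ z : G, z * ⁅a, y⁆ = ⁅a, y⁆ * z := fun z => Subgroup.mem_center_iff.1 (hW hy) z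
    have e1 : ⁅a, x * y⁆ = ⁅a, x⁆ * (x * ⁅a, y⁆) * x⁻¹ := by
      simp only [commutatorElement_def]; group
    rw [e1, hc x]; group
  let D : Subgroup G :=
    { carrier := {x | ⁅a, x⁆ ∈ W}
      one_mem' := by simp [commutatorElement_def]
      mul_mem' := by
        intro x y hx hy
        show ⁅a, x * y⁆ ∈ W
        rw [hmul x y hy]; exact W.mul_mem hx hy
      inv_mem' := by
        intro x hx
        show ⁅a, x⁻¹⁆ ∈ W
        have hc : ∀ z : G, z * ⁅a, x⁆ = ⁅a, x⁆ * z := fun z => Subgroup.mem_center_iff.1 (hW hx) z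
        have e1 : ⁅a, x⁻¹⁆ = x⁻¹ * (⁅a, x⁆)⁻¹ * x := by
          simp only [commutatorElement_def]; group
        have e2 : x⁻¹ * (⁅a, x⁆)⁻¹ * x = (⁅a, x⁆)⁻¹ := by
          have := hc x
          calc x⁻¹ * (⁅a, x⁆)⁻¹ * x = (x⁻¹ * (⁅a, x⁆)⁻¹ * (x * ⁅a, x⁆)) * (⁅a, x⁆)⁻¹ := by group
            _ = (x⁻¹ * (⁅a, x⁆)⁻¹ * (⁅a, x⁆ * x)) * (⁅a, x⁆)⁻¹ := by rw [this]
            _ = (⁅a, x⁆)⁻¹ := by group
        rw [e1, e2]; exact W.inv_mem hx }
  have hmemD : ∀ x : G, x ∈ D ↔ ⁅a, x⁆ ∈ W := fun x => Iff.rfl
  let φ : ↥D →* ↥W :=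
    { toFun := fun x => ⟨⁅a, (x : G)⁆, x.2⟩
      map_one' := by apply Subtype.ext; simp [commutatorElement_def]
      map_mul' := by
        intro x y
        apply Subtype.ext
        simp only [Subgroup.coe_mul]
        exact hmul x y y.2 }
  have hPD : (P : Subgroup G) ≤ D := by
    intro x hx
    rw [hmemD]
    have : ⁅a, x⁆ = 1 := by
      rw [commutatorElement_eq_one_iff_mul_comm]
      exact (Subgroup.mem_centralizer_iff.1 ha x hx).symm
    rw [this]; exact W.one_mem
  have hker : (P : Subgroup G).subgroupOf D ≤ φ.ker := by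
    intro x hx
    rw [MonoidHom.mem_ker]
    apply Subtype.ext
    show ⁅a, (x : G)⁆ = 1
    rw [commutatorElement_eq_one_iff_mul_comm]
    exact (Subgroup.mem_centralizer_iff.1 ha x hx).symm
  have h1 : φ.ker.index ∣ ((P : Subgroup G).subgroupOf D).index := Subgroup.index_dvd_of_le hker
  have h2 : ((P : Subgroup G).subgroupOf D).index ∣ (P : Subgroup G).index :=
    Subgroup.relIndex_dvd_index_of_le hPD
  have h3 : ¬ 2 ∣ φ.ker.index := fun h => P.not_dvd_index (h.trans (h1.trans h2))
  have h4 : φ.ker.index = Nat.card φ.range := Subgroup.index_ker φ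
  have h5 : IsPGroup 2 φ.range := hW2.to_subgroup φ.range
  obtain ⟨k, hk⟩ := IsPGroup.iff_card.1 h5
  have hk0 : k = 0 := by
    by_contra hne
    apply h3
    rw [h4, hk]
    exact dvd_pow_self 2 hne
  rw [hk0, pow_zero] at hk
  have h6 : φ.range = ⊥ := Subgroup.card_eq_one.1 hk
  have h7 : φ ⟨g, hg⟩ ∈ φ.range := ⟨_, rfl⟩
  rw [h6, Subgroup.mem_bot] at h7
  exact congrArg Subtype.val h7


/-- the setup of the `Z*`-step -/
structure ZSet (E S : Subgroup G) (q : G) : Prop where
  normal : E.Normal
  syl : Syl2 S E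
  cent : q ∈ Subgroup.centralizer (S : Set G)
  two : ∃ k : ℕ, q ^ 2 ^ k = 1
  top : E ⊔ Subgroup.zpowers q = ⊤

namespace ZSet

variable [Finite G] {E S : Subgroup G} {q : G}

theorem exists_mul (h : ZSet E S q) (x : G) :
    ∃ e ∈ E, ∃ z ∈ Subgroup.zpowers q, x = e * z := by
  haveI := h.normal
  have hx : x ∈ E ⊔ Subgroup.zpowers q := by rw [h.top]; exact Subgroup.mem_top x
  obtain ⟨e, he, z, hz, hez⟩ := Subgroup.mem_sup_of_normal_left.1 hx
  exact ⟨e, he, z, hz, hez.symm⟩

theorem zpowers_le_centralizer (h : ZSet E S q) :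
    Subgroup.zpowers q ≤ Subgroup.centralizer (S : Set G) := by
  rw [Subgroup.zpowers_le]; exact h.cent

theorem isPGroup_zpowers (h : ZSet E S q) : IsPGroup 2 (Subgroup.zpowers q) := by
  obtain ⟨k, hk⟩ := h.two
  rw [IsPGroup.iff_card, Nat.card_zpowers]
  exact (Nat.dvd_prime_pow Nat.prime_two).1 (orderOf_dvd_of_pow_eq_one hk) |>.imp fun _ h => h.2

theorem exists_sylow (h : ZSet E S q) :
    ∃ P : Sylow 2 G, S ≤ (P : Subgroup G) ∧ Subgroup.zpowers q ≤ (P : Subgroup G) := by
  have h1 : IsPGroup 2 (S ⊔ Subgroup.zpowers q : Subgroup G) :=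
    IsPGroup.to_sup_of_normal_left' h.syl.isPGroup h.isPGroup_zpowers
      (h.zpowers_le_centralizer.trans (Subgroup.centralizer_le_normalizer _))
  obtain ⟨P, hP⟩ := h1.exists_le_sylow
  exact ⟨P, le_sup_left.trans hP, le_sup_right.trans hP⟩

theorem inf_eq (h : ZSet E S q) {P : Sylow 2 G} (hSP : S ≤ (P : Subgroup G)) :
    (P : Subgroup G) ⊓ E = S :=
  (h.syl.eq_of_le (P.2.to_le inf_le_left) (le_inf hSP h.syl.le) inf_le_right).symm

theorem exists_mul_of_mem (h : ZSet E S q) {P : Sylow 2 G} (hSP : S ≤ (P : Subgroup G))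
    (hqP : Subgroup.zpowers q ≤ (P : Subgroup G)) {x : G} (hx : x ∈ (P : Subgroup G)) :
    ∃ s ∈ S, ∃ z ∈ Subgroup.zpowers q, x = s * z := by
  obtain ⟨e, he, z, hz, rfl⟩ := h.exists_mul x
  refine ⟨e, ?_, z, hz, rfl⟩
  rw [← h.inf_eq hSP]
  refine ⟨?_, he⟩
  have := (P : Subgroup G).mul_mem hx ((P : Subgroup G).inv_mem (hqP hz))
  rwa [mul_inv_cancel_right] at this

theorem zpowers_le_centralizer_sylow (h : ZSet E S q) {P : Sylow 2 G}
    (hSP : S ≤ (P : Subgroup G)) (hqP : Subgroup.zpowers q ≤ (P : Subgroup G)) :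
    Subgroup.zpowers q ≤ Subgroup.centralizer ((P : Subgroup G) : Set G) := by
  intro y hy
  rw [Subgroup.mem_centralizer_iff]
  intro x hx
  obtain ⟨s, hs, z, hz, rfl⟩ := h.exists_mul_of_mem hSP hqP hx
  have h1 : s * y = y * s := Subgroup.mem_centralizer_iff.1 (h.zpowers_le_centralizer hy) s hs
  have h2 : z * y = y * z := by
    obtain ⟨i, rfl⟩ := Subgroup.mem_zpowers_iff.1 hy
    obtain ⟨j, rfl⟩ := Subgroup.mem_zpowers_iff.1 hz
    rw [← zpow_add, ← zpow_add, add_comm]
  rw [mul_assoc, h2, ← mul_assoc, h1, mul_assoc]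

theorem le_center_of_le_centralizer (h : ZSet E S q) {W : Subgroup G} (hWS : W ≤ S)
    (hWE : W ≤ Subgroup.centralizer (E : Set G)) : W ≤ Subgroup.center G := by
  intro w hw
  rw [Subgroup.mem_center_iff]
  intro x
  obtain ⟨e, he, z, hz, rfl⟩ := h.exists_mul x
  have h1 : e * w = w * e := Subgroup.mem_centralizer_iff.1 (hWE hw) e he
  have h2 : w * z = z * w :=
    Subgroup.mem_centralizer_iff.1 (h.zpowers_le_centralizer hz) w (hWS hw)
  rw [mul_assoc, ← h2, ← mul_assoc, h1, mul_assoc]


open Cfsg.Agent.Lib.H9 Cfsg.Agent.Lib.H10 in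
/-- **Lemma Z**: local control implies global control. -/
theorem lemmaZ (h : ZSet E S q)
    (hA : ∀ W : Subgroup G, W ≤ S → ¬ E ≤ Subgroup.normalizer (W : Set G) →
      q ∈ cstar (E ⊓ Subgroup.normalizer (W : Set G)))
    (hcen : ∀ W : Subgroup G, W ≤ S → E ≤ Subgroup.normalizer (W : Set G) →
      W ≤ Subgroup.centralizer (E : Set G)) :
    q ∈ cstar E := by
  haveI := h.normal
  obtain ⟨P, hSP, hqP⟩ := h.exists_sylow
  have hzc := h.zpowers_le_centralizer_sylow hSP hqP
  -- the step
  have step : ∀ (T : Subgroup G) (x a : G), T ≤ (P : Subgroup G) →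
      x ∈ Subgroup.normalizer (T : Set G) → a ∈ T → a ∈ Subgroup.zpowers q →
      x⁻¹ * a * x = a := by
    intro T x a hTP hx haT haq
    obtain ⟨e, he, z₀, hz₀, rfl⟩ := h.exists_mul x
    have hz₀T : z₀ ∈ Subgroup.normalizer (T : Set G) :=
      Subgroup.centralizer_le_normalizer _
        (Subgroup.centralizer_le (SetLike.coe_subset_coe.2 hTP) (hzc hz₀))
    have heT : e ∈ Subgroup.normalizer (T : Set G) := by
      have := Subgroup.mul_mem _ hx (Subgroup.inv_mem _ hz₀T)
      rwa [mul_inv_cancel_right] at this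
    set c := e⁻¹ * a * e * a⁻¹ with hc
    have hcT : c ∈ T := by
      refine T.mul_mem ?_ (T.inv_mem haT)
      have := (Subgroup.mem_normalizer_iff.1 (Subgroup.inv_mem _ heT) a).1 haT
      rwa [inv_inv] at this
    have hcE : c ∈ E := by
      have e1 : c = e⁻¹ * (a * e * a⁻¹) := by rw [hc]; group
      rw [e1]
      exact E.mul_mem (E.inv_mem he) (h.normal.conj_mem e he a)
    set W := T ⊓ E with hW
    have hWS : W ≤ S := by rw [← h.inf_eq hSP]; exact inf_le_inf_right E hTP
    have hcW : c⁻¹ ∈ W := W.inv_mem ⟨hcT, hcE⟩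
    have hcc : ⁅a, e⁻¹⁆ = c⁻¹ := by rw [hc, commutatorElement_def]; group
    have hc1 : c = 1 := by
      rw [← inv_eq_one, ← hcc]
      by_cases hn : E ≤ Subgroup.normalizer (W : Set G)
      · have hWc := h.le_center_of_le_centralizer hWS (hcen W hWS hn)
        exact comm_eq_one_of_central P hWc (h.syl.isPGroup.to_le hWS) (hzc haq) (hcc ▸ hcW)
      · have hq := hA W hWS hn
        have ha : a ∈ cstar (E ⊓ Subgroup.normalizer (W : Set G)) :=
          (Subgroup.zpowers_le.2 hq) haq
        have heW : e⁻¹ ∈ E ⊓ Subgroup.normalizer (W : Set G) := by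
          refine ⟨E.inv_mem he, Subgroup.inv_mem _ ?_⟩
          exact mem_normalizer_inf heT (by rw [Subgroup.normalizer_eq_top]; exact Subgroup.mem_top e)
        have h1 := (mem_cstar.1 ha).2 e⁻¹ heW
        obtain ⟨k, hk⟩ := h.syl.isPGroup ⟨c⁻¹, hWS hcW⟩
        have hk' : (⁅a, e⁻¹⁆) ^ 2 ^ k = 1 := by
          rw [hcc]; simpa using congrArg Subtype.val hk
        exact eq_one_of_mem_oc h1 hk'
    have h2 : e⁻¹ * a * e = a := by
      have : e⁻¹ * a * e = c * a := by rw [hc]; group
      rw [this, hc1, one_mul]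
    have h3 : z₀⁻¹ * a * z₀ = a := by
      obtain ⟨i, rfl⟩ := Subgroup.mem_zpowers_iff.1 haq
      obtain ⟨j, rfl⟩ := Subgroup.mem_zpowers_iff.1 hz₀
      rw [← zpow_neg, ← zpow_add, ← zpow_add]
      congr 1; ring
    calc (e * z₀)⁻¹ * a * (e * z₀) = z₀⁻¹ * (e⁻¹ * a * e) * z₀ := by group
      _ = a := by rw [h2, h3]
  -- induction along the chain
  have reach : ∀ (A : Set G) (t : G), TReach 2 P A t → ∀ a ∈ A, a ∈ Subgroup.zpowers q →
      t⁻¹ * a * t = a := by
    intro A t ht
    induction ht with
    | nil A => intro a _ _; simp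
    | cons A T x g hT hAT _ ih =>
      intro a haA haq
      obtain ⟨Q, hTQ, _, hx, _⟩ := hT
      have hTP : T ≤ (P : Subgroup G) := hTQ ▸ inf_le_left
      have h1 := step T x a hTP hx (hAT haA) haq
      have h2 := ih (x⁻¹ * a * x) ⟨a, haA, rfl⟩ (h1.symm ▸ haq)
      rw [h1] at h2
      calc (x * g)⁻¹ * a * (x * g) = g⁻¹ * (x⁻¹ * a * x) * g := by group
        _ = a := by rw [h1, h2]
  have hJ : Cfsg.Agent.Lib.H1.ZStarGen.JHyp P (Subgroup.zpowers q) := by
    refine ⟨hqP, fun y hy g hg => ?_⟩
    have hreach : TReach 2 P ({y} : Set G) g⁻¹ := by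
      apply treach_of_subset P
      · intro a ha
        rw [Set.mem_singleton_iff] at ha
        rw [ha]; exact hqP hy
      · rintro _ ⟨a, ha, rfl⟩
        rw [Set.mem_singleton_iff] at ha
        rw [ha, inv_inv]; exact hg
    have := reach _ _ hreach y rfl hy
    rwa [inv_inv] at this
  have hgz := Cfsg.Agent.Lib.H1.ZStarGen.gz P (Subgroup.zpowers q) hJ q (Subgroup.mem_zpowers q)
  refine ⟨by rw [Subgroup.normalizer_eq_top]; exact Subgroup.mem_top q, fun e he => ?_⟩
  have hO : Cfsg.pPrimeCore 2 G ⊓ E ≤ oc E := by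
    haveI hn : (Cfsg.pPrimeCore 2 G).Normal := Cfsg.Agent.Lib.H22.pPrimeCore_normal 2
    apply le_oc inf_le_right
    · intro x hx
      have : (Cfsg.pPrimeCore 2 G ⊓ E).Normal := inferInstance
      rw [Subgroup.normalizer_eq_top]; exact Subgroup.mem_top x
    · exact Nat.Coprime.coprime_dvd_left (Subgroup.card_dvd_of_le inf_le_left)
        (Cfsg.Agent.Lib.H22.card_pPrimeCore_coprime 2)
  apply hO
  refine ⟨?_, ?_⟩
  · have := hgz e
    rwa [commutatorElement_def]
  · rw [commutatorElement_def]
    have e1 : q * e * q⁻¹ * e⁻¹ = (q * e * q⁻¹) * e⁻¹ := by group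
    rw [e1]
    exact E.mul_mem (h.normal.conj_mem e he q) (E.inv_mem he)


end ZSet

theorem normalizer_le_normalizer_cstar [Finite G] (K : Subgroup G) :
    Subgroup.normalizer (K : Set G) ≤ Subgroup.normalizer (cstar K : Set G) := by
  intro g hg
  rw [Subgroup.mem_normalizer_iff_map_conj_eq]
  have h1 : cj g (cstar K) = cstar (cj g K) := cj_cstar g K
  rw [cj_eq_of_mem_normalizer hg] at h1
  exact h1

namespace ZSet

variable [Finite G] {E S : Subgroup G} {q : G}

open Cfsg.Agent.Lib.H9 Cfsg.Agent.Lib.H10 in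
/-- **Lemma C**: control for the fully normalized subgroups gives control for all. -/
theorem lemmaC (h : ZSet E S q)
    (hcen : ∀ W : Subgroup G, W ≤ S → E ≤ Subgroup.normalizer (W : Set G) →
      W ≤ Subgroup.centralizer (E : Set G))
    (hFN : ∀ W : Subgroup G, W ≤ S → ¬ E ≤ Subgroup.normalizer (W : Set G) →
      Syl2 (S ⊓ Subgroup.normalizer (W : Set G)) (E ⊓ Subgroup.normalizer (W : Set G)) →
      q ∈ cstar (E ⊓ Subgroup.normalizer (W : Set G))) :
    ∀ W : Subgroup G, W ≤ S → ¬ E ≤ Subgroup.normalizer (W : Set G) →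
      q ∈ cstar (E ⊓ Subgroup.normalizer (W : Set G)) := by
  haveI := h.normal
  obtain ⟨P, hSP, hqP⟩ := h.exists_sylow
  have hzc := h.zpowers_le_centralizer_sylow hSP hqP
  have hEn : ∀ x : G, x ∈ Subgroup.normalizer (E : Set G) := fun x => by
    rw [Subgroup.normalizer_eq_top]; exact Subgroup.mem_top x
  have hEcj : ∀ x : G, cj x E = E := fun x => cj_eq_of_mem_normalizer (hEn x)
  have hnotn : ∀ (x : G) (V : Subgroup G), ¬ E ≤ Subgroup.normalizer (V : Set G) →
      ¬ E ≤ Subgroup.normalizer ((cj x V : Subgroup G) : Set G) := by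
    intro x V hV hh
    apply hV
    have := cj_mono x⁻¹ hh
    rwa [cj_normalizer, cj_cj, inv_mul_cancel, cj_one, hEcj] at this
  obtain ⟨kq, hkq⟩ := h.two
  have main : ∀ n : ℕ, ∀ W : Subgroup G, W ≤ S → ¬ E ≤ Subgroup.normalizer (W : Set G) →
      Nat.card S - Nat.card W = n → q ∈ cstar (E ⊓ Subgroup.normalizer (W : Set G)) := by
    intro n
    induction n using Nat.strong_induction_on with
    | _ n ih =>
      intro W hWS hWn hcard
      have IH : ∀ U : Subgroup G, U ≤ S → ¬ E ≤ Subgroup.normalizer (U : Set G) →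
          Nat.card W < Nat.card U → q ∈ cstar (E ⊓ Subgroup.normalizer (U : Set G)) := by
        intro U hUS hUn hlt
        apply ih (Nat.card S - Nat.card U) _ U hUS hUn rfl
        have : Nat.card U ≤ Nat.card S := Subgroup.card_le_of_le hUS
        omega
      by_cases hfn : Syl2 (S ⊓ Subgroup.normalizer (W : Set G))
          (E ⊓ Subgroup.normalizer (W : Set G))
      · exact hFN W hWS hWn hfn
      · have hWlt : W < S := by
          refine lt_of_le_of_ne hWS ?_
          rintro rfl
          apply hfn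
          refine ⟨inf_le_inf_right _ h.syl.le, h.syl.isPGroup.to_le inf_le_left, ?_⟩
          have e1 : W ⊓ Subgroup.normalizer (W : Set G) = W := inf_eq_left.2 Subgroup.le_normalizer
          rw [e1]
          intro hd
          apply h.syl.2.2
          exact hd.trans (Dvd.intro _ (Subgroup.relIndex_mul_relIndex W _ E
            (le_inf h.syl.le Subgroup.le_normalizer) inf_le_left))
        set N := E ⊓ Subgroup.normalizer (W : Set G) with hN
        set W₁ := S ⊓ Subgroup.normalizer (W : Set G) with hW₁def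
        have hW₁ : W < W₁ := lt_inf_normalizer_of_lt h.syl.isPGroup hWlt
        obtain ⟨T₁, hWT, hT₁⟩ := Syl2.exists_ge (Q := W₁) (E := N)
          (h.syl.isPGroup.to_le inf_le_left) (inf_le_inf_right _ h.syl.le)
        obtain ⟨g, hgE, hgle⟩ := h.syl.exists_conj_le hT₁.isPGroup (hT₁.le.trans inf_le_left)
        set W' := cj g W with hW'
        have hN' : cj g N = E ⊓ Subgroup.normalizer (W' : Set G) := by
          rw [hN, cj_inf, hEcj, cj_normalizer]
        have hW'S : W' ≤ S := (cj_mono g (hW₁.le.trans hWT)).trans hgle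
        have hT' : Syl2 (cj g T₁) (E ⊓ Subgroup.normalizer (W' : Set G)) := hN' ▸ hT₁.cj g
        have hle : cj g T₁ ≤ S ⊓ Subgroup.normalizer (W' : Set G) :=
          le_inf hgle (hT'.le.trans inf_le_right)
        have heq : cj g T₁ = S ⊓ Subgroup.normalizer (W' : Set G) :=
          hT'.eq_of_le (h.syl.isPGroup.to_le inf_le_left) hle (inf_le_inf_right _ h.syl.le)
        have hfn' : Syl2 (S ⊓ Subgroup.normalizer (W' : Set G))
            (E ⊓ Subgroup.normalizer (W' : Set G)) := heq ▸ hT'
        have hW'n : ¬ E ≤ Subgroup.normalizer (W' : Set G) := hnotn g W hWn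
        have hq' := hFN W' hW'S hW'n hfn'
        have hreach : TReach 2 P (W₁ : Set G) g⁻¹ := by
          apply treach_of_subset P
          · exact SetLike.coe_subset_coe.2 (inf_le_left.trans hSP)
          · rw [rconj_coe, inv_inv]
            exact SetLike.coe_subset_coe.2 ((cj_mono g hWT).trans (hgle.trans hSP))
        have claim : ∀ (A : Set G) (t : G), TReach 2 P A t → ∀ V B : Subgroup G, V ≤ B →
            (B : Set G) = A → B ≤ E → Nat.card W < Nat.card B → Nat.card V = Nat.card W →
            ¬ E ≤ Subgroup.normalizer (V : Set G) →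
            q ∈ cstar (E ⊓ Subgroup.normalizer ((cj t⁻¹ V : Subgroup G) : Set G)) →
            q ∈ cstar (E ⊓ Subgroup.normalizer (V : Set G)) := by
          intro A t ht
          induction ht with
          | nil A =>
            intro V B _ _ _ _ _ _ hq
            rwa [inv_one, cj_one] at hq
          | cons A T x t' hT hAT _ ih =>
            intro V B hVB hBA hBE hcB hcV hVn hq
            obtain ⟨Q, hTQ, _, hx, _⟩ := hT
            have hTP : T ≤ (P : Subgroup G) := hTQ ▸ inf_le_left
            obtain ⟨e, he, z₀, hz₀, hxe⟩ := h.exists_mul x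
            have hz₀c : z₀ ∈ Subgroup.centralizer ((P : Subgroup G) : Set G) := hzc hz₀
            have hz₀T : z₀ ∈ Subgroup.normalizer (T : Set G) :=
              Subgroup.centralizer_le_normalizer _
                (Subgroup.centralizer_le (SetLike.coe_subset_coe.2 hTP) hz₀c)
            have heT : e ∈ Subgroup.normalizer (T : Set G) := by
              have := Subgroup.mul_mem _ hx (Subgroup.inv_mem _ hz₀T)
              rwa [hxe, mul_inv_cancel_right] at this
            set U := T ⊓ E with hU
            have hUS : U ≤ S := by rw [← h.inf_eq hSP]; exact inf_le_inf_right E hTP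
            have hBT : B ≤ T := by
              intro b hb
              have : b ∈ A := by rw [← hBA]; exact hb
              exact hAT this
            have hBU : B ≤ U := le_inf hBT hBE
            have heU : e ∈ Subgroup.normalizer (U : Set G) := mem_normalizer_inf heT (hEn e)
            have hVU : V ≤ U := hVB.trans hBU
            have hVS : V ≤ S := hVU.trans hUS
            have heVU : cj e⁻¹ V ≤ U := by
              have := cj_mono e⁻¹ hVU
              rwa [cj_eq_of_mem_normalizer (Subgroup.inv_mem _ heU)] at this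
            have hxV : cj x⁻¹ V = cj e⁻¹ V := by
              rw [hxe, mul_inv_rev, ← cj_cj]
              apply cj_eq_of_mem_normalizer
              apply Subgroup.centralizer_le_normalizer
              apply Subgroup.centralizer_le
                (SetLike.coe_subset_coe.2 (heVU.trans (hUS.trans hSP)))
              exact Subgroup.inv_mem _ hz₀c
            have hq1 : q ∈ cstar (E ⊓ Subgroup.normalizer ((cj x⁻¹ V : Subgroup G) : Set G)) := by
              apply ih (cj x⁻¹ V) (cj x⁻¹ B) (cj_mono _ hVB)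
              · rw [← hBA, rconj_coe]
              · have := cj_mono x⁻¹ hBE
                rwa [hEcj] at this
              · rw [card_cj]; exact hcB
              · rw [card_cj]; exact hcV
              · exact hnotn _ _ hVn
              · rw [cj_cj, ← mul_inv_rev]; exact hq
            rw [hxV] at hq1
            -- the step
            set K := E ⊓ Subgroup.normalizer (V : Set G) with hK
            have hKe : E ⊓ Subgroup.normalizer ((cj e⁻¹ V : Subgroup G) : Set G) = cj e⁻¹ K := by
              rw [hK, cj_inf, hEcj, cj_normalizer]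
            rw [hKe, ← cj_cstar, mem_cj, inv_inv] at hq1
            have hUn : ¬ E ≤ Subgroup.normalizer (U : Set G) := by
              intro hUn
              apply hVn
              have h1 : V ≤ Subgroup.centralizer (E : Set G) := hVU.trans (hcen U hUS hUn)
              exact (Subgroup.le_centralizer_iff.1 h1).trans (Subgroup.centralizer_le_normalizer _)
            have hcU : Nat.card W < Nat.card U := lt_of_lt_of_le hcB (Subgroup.card_le_of_le hBU)
            have hqU := IH U hUS hUn hcU
            set NU := E ⊓ Subgroup.normalizer (U : Set G) with hNU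
            set o := ⁅q⁻¹, e⁆ with ho
            have hoO : o ∈ oc NU := (mem_cstar.1 (Subgroup.inv_mem _ hqU)).2 e ⟨he, heU⟩
            have hqo : q * o = e * q * e⁻¹ := by rw [ho, commutatorElement_def]; group
            have hoNU : o ∈ NU := oc_le NU hoO
            have hUNU : U ≤ NU := le_inf inf_le_right Subgroup.le_normalizer
            have hoU : o ∈ Subgroup.centralizer (U : Set G) := by
              rw [Subgroup.mem_centralizer_iff]
              intro u hu
              have h1 : ⁅o, u⁆ ∈ U ⊓ oc NU := by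
                refine ⟨?_, ?_⟩
                · rw [commutatorElement_def]
                  exact U.mul_mem ((Subgroup.mem_normalizer_iff.1 hoNU.2 u).1 hu) (U.inv_mem hu)
                · have e1 : ⁅o, u⁆ = o * (u * o⁻¹ * u⁻¹) := by
                    rw [commutatorElement_def]; group
                  rw [e1]
                  exact Subgroup.mul_mem _ hoO
                    ((Subgroup.mem_normalizer_iff.1 (le_normalizer_oc NU (hUNU hu)) _).1
                      (Subgroup.inv_mem _ hoO))
              rw [inf_oc_eq_bot (h.syl.isPGroup.to_le hUS), Subgroup.mem_bot,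
                commutatorElement_eq_one_iff_mul_comm] at h1
              exact h1.symm
            have hoK : o ∈ K := by
              refine ⟨hoNU.1, ?_⟩
              apply Subgroup.centralizer_le_normalizer
              exact Subgroup.centralizer_le (SetLike.coe_subset_coe.2 hVU) hoU
            have hqK : q ∈ Subgroup.normalizer (K : Set G) := by
              apply mem_normalizer_inf (hEn q)
              apply Subgroup.le_normalizer
              apply Subgroup.centralizer_le_normalizer
              exact Subgroup.centralizer_le (SetLike.coe_subset_coe.2 hVS) h.cent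
            have hon : o ^ Nat.card (oc NU) = 1 := by
              have h1 := pow_card_eq_one' (G := ↥(oc NU)) (x := ⟨o, hoO⟩)
              have h2 := congrArg Subtype.val h1
              rwa [Subgroup.coe_pow] at h2
            apply mem_of_mul_mem_of_two_odd (normalizer_le_normalizer_cstar K hqK)
              (normalizer_le_normalizer_cstar K (Subgroup.le_normalizer hoK)) (hqo ▸ hq1) hkq hon
              (card_oc NU)
        have := claim _ _ hreach W W₁ hW₁.le rfl (inf_le_left.trans h.syl.le) (card_lt_of_lt hW₁)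
          rfl hWn
        rw [inv_inv] at this
        exact this hq'
  intro W hWS hWn
  exact main _ W hWS hWn rfl

end ZSet

end Cfsg.Agent.Lib.H23.LB
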