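import Mathlib
import Cfsg.Agent.Lib.H23.LB2

/-!
# L-balance (helper23), part 4: the averaging step. If the `2`-element `q` centralizes a Sylow
`2`-subgroup `S` of `E` and the centralizer in `E` of a normal `2`-subgroup `V ≤ S` of `E`, then `q`
acts on `E` as conjugation by an element of `Z(S)`.
-/

set_option autoImplicit false
set_option linter.unusedSectionVars false
set_option linter.unusedVariables false
set_option linter.style.haveILetI false

open scoped commutatorElement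

namespace Cfsg.Agent.Lib.H23.LB

universe u
variable {H : Type u} [Group H]

theorem comm_mem_centralizer_of_normal {q e : H} {Y : Subgroup H}
    (hq : q ∈ Subgroup.centralizer (Y : Set H)) (he : e ∈ Subgroup.normalizer (Y : Set H)) :
    ⁅q, e⁆ ∈ Subgroup.centralizer (Y : Set H) := by
  rw [Subgroup.mem_centralizer_iff]
  intro y hy
  have hy' : e⁻¹ * y * e⁻¹⁻¹ ∈ Y := (Subgroup.mem_normalizer_iff.1 (Subgroup.inv_mem _ he) y).1 hy
  rw [inv_inv] at hy'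
  have h1 : q⁻¹ * (e⁻¹ * y * e) * q = e⁻¹ * y * e := by
    have := Subgroup.mem_centralizer_iff.1 hq _ hy'
    rw [mul_assoc, this]; group
  have h2 : q * y * q⁻¹ = y := by
    have := Subgroup.mem_centralizer_iff.1 hq _ hy
    rw [← this]; group
  have h3 : ⁅q, e⁆ * y * (⁅q, e⁆)⁻¹ = y := by
    calc ⁅q, e⁆ * y * (⁅q, e⁆)⁻¹ = q * (e * (q⁻¹ * (e⁻¹ * y * e) * q) * e⁻¹) * q⁻¹ := by
          rw [commutatorElement_def]; group
      _ = q * y * q⁻¹ := by rw [h1]; group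
      _ = y := h2
  calc y * ⁅q, e⁆ = (⁅q, e⁆ * y * (⁅q, e⁆)⁻¹) * ⁅q, e⁆ := by rw [h3]
    _ = ⁅q, e⁆ * y := by group

theorem comm_pow_eq_one {q e : H} (hc : q * ⁅q, e⁆ = ⁅q, e⁆ * q) {n : ℕ} (hq : q ^ n = 1) :
    ⁅q, e⁆ ^ n = 1 := by
  have key : ∀ n : ℕ, q ^ n * e * (q ^ n)⁻¹ = ⁅q, e⁆ ^ n * e := by
    intro n
    induction n with
    | zero => simp
    | succ n ih =>
      have hc0 : Commute q ⁅q, e⁆ := hc
      have hc' : q * ⁅q, e⁆ ^ n = ⁅q, e⁆ ^ n * q := hc0.pow_right n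
      calc q ^ (n + 1) * e * (q ^ (n + 1))⁻¹ = q * (q ^ n * e * (q ^ n)⁻¹) * q⁻¹ := by
            rw [pow_succ']; group
        _ = q * (⁅q, e⁆ ^ n * e) * q⁻¹ := by rw [ih]
        _ = (q * ⁅q, e⁆ ^ n) * (e * q⁻¹) := by group
        _ = ⁅q, e⁆ ^ n * q * (e * q⁻¹) := by rw [hc']
        _ = ⁅q, e⁆ ^ n * (⁅q, e⁆ * e) := by rw [commutatorElement_def]; group
        _ = ⁅q, e⁆ ^ (n + 1) * e := by rw [pow_succ]; group
  have := key n
  rw [hq] at this
  simpa using this.symm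


theorem normalizer_le_normalizer_centralizer (Y : Subgroup H) :
    Subgroup.normalizer (Y : Set H) ≤
      Subgroup.normalizer ((Subgroup.centralizer (Y : Set H) : Subgroup H) : Set H) := by
  intro g hg
  rw [Subgroup.mem_normalizer_iff_map_conj_eq]
  have h1 := cj_centralizer g Y
  rw [cj_eq_of_mem_normalizer hg] at h1
  exact h1

theorem exists_inner_of_centralizes [Finite H] {E S V : Subgroup H} (hS : Syl2 S E) (hVS : V ≤ S)
    (hVn : E ≤ Subgroup.normalizer (V : Set H)) {q : H}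
    (hqE : q ∈ Subgroup.normalizer (E : Set H)) (hqS : q ∈ Subgroup.centralizer (S : Set H))
    {k : ℕ} (hq2 : q ^ 2 ^ k = 1)
    (hqC : q ∈ Subgroup.centralizer ((E ⊓ Subgroup.centralizer (V : Set H) : Subgroup H) : Set H)) :
    ∃ z ∈ S, z ∈ Subgroup.centralizer (S : Set H) ∧ ∀ e ∈ E, q * e * q⁻¹ = z * e * z⁻¹ := by
  classical
  set C := E ⊓ Subgroup.centralizer (V : Set H) with hC
  set Z := C ⊓ Subgroup.centralizer (C : Set H) with hZ
  have hEC : E ≤ Subgroup.normalizer (C : Set H) := fun e he =>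
    mem_normalizer_inf (Subgroup.le_normalizer he) (normalizer_le_normalizer_centralizer V (hVn he))
  have hEZ : E ≤ Subgroup.normalizer (Z : Set H) := fun e he =>
    mem_normalizer_inf (hEC he) (normalizer_le_normalizer_centralizer C (hEC he))
  have hqV : q ∈ Subgroup.centralizer (V : Set H) :=
    Subgroup.centralizer_le (SetLike.coe_subset_coe.2 hVS) hqS
  have hδ : ∀ e ∈ E, ⁅q, e⁆ ∈ Z := by
    intro e he
    refine ⟨⟨?_, ?_⟩, ?_⟩
    · rw [commutatorElement_def]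
      exact E.mul_mem ((Subgroup.mem_normalizer_iff.1 hqE e).1 he) (E.inv_mem he)
    · exact comm_mem_centralizer_of_normal hqV (hVn he)
    · exact comm_mem_centralizer_of_normal hqC (hEC he)
  have hδ2 : ∀ e ∈ E, ⁅q, e⁆ ^ 2 ^ k = 1 := by
    intro e he
    apply comm_pow_eq_one _ hq2
    exact (Subgroup.mem_centralizer_iff.1 hqC _ (hδ e he).1).symm
  have hδS : ∀ s ∈ S, ⁅q, s⁆ = 1 := by
    intro s hs
    rw [commutatorElement_eq_one_iff_mul_comm]
    exact (Subgroup.mem_centralizer_iff.1 hqS s hs).symm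
  have hδmul : ∀ a b : H, ⁅q, a * b⁆ = ⁅q, a⁆ * (a * ⁅q, b⁆ * a⁻¹) := by
    intro a b; simp only [commutatorElement_def]; group
  haveI hcomm : IsMulCommutative ↥Z := ⟨⟨fun a b => Subtype.ext (by
    show (a : H) * (b : H) = (b : H) * (a : H)
    exact Subgroup.mem_centralizer_iff.1 b.2.2 a a.2.1)⟩⟩
  letI : CommGroup ↥Z := IsMulCommutative.instCommGroup
  -- the conjugation action of `E` on `Z`
  let conjZ : ↥E → (↥Z →* ↥Z) := fun g =>
    { toFun := fun z => ⟨(g : H) * z * (g : H)⁻¹, (Subgroup.mem_normalizer_iff.1 (hEZ g.2) z).1 z.2⟩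
      map_one' := by apply Subtype.ext; simp
      map_mul' := by intro a b; apply Subtype.ext; simp only [Subgroup.coe_mul]; group }
  let d : ↥E → ↥Z := fun e => ⟨⁅q, (e : H)⁆, hδ e e.2⟩
  have hd_mul : ∀ a b : ↥E, d (a * b) = d a * conjZ a (d b) := by
    intro a b
    apply Subtype.ext
    show ⁅q, ((a * b : ↥E) : H)⁆ = ⁅q, (a : H)⁆ * ((a : H) * ⁅q, (b : H)⁆ * (a : H)⁻¹)
    rw [Subgroup.coe_mul, hδmul]
  set S' := S.subgroupOf E with hS'
  have hd_S : ∀ s : ↥E, s ∈ S' → d s = 1 := by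
    intro s hs
    apply Subtype.ext
    exact hδS _ (Subgroup.mem_subgroupOf.1 hs)
  have hd_coset : ∀ (a s : ↥E), s ∈ S' → d (a * s) = d a := by
    intro a s hs
    rw [hd_mul, hd_S s hs, map_one, mul_one]
  haveI : Fintype (↥E ⧸ S') := Fintype.ofFinite _
  let D : ↥E ⧸ S' → ↥Z := fun t => d (Quotient.out t)
  have hD : ∀ e : ↥E, D (e : ↥E ⧸ S') = d e := by
    intro e
    obtain ⟨s, hs⟩ := QuotientGroup.mk_out_eq_mul S' e
    show d (Quotient.out (e : ↥E ⧸ S')) = d e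
    rw [hs, hd_coset e s s.2]
  have hDsmul : ∀ (g : ↥E) (t : ↥E ⧸ S'), D (g • t) = d g * conjZ g (D t) := by
    intro g t
    have ht : t = ((Quotient.out t : ↥E) : ↥E ⧸ S') := (QuotientGroup.out_eq' t).symm
    conv_lhs => rw [ht]
    rw [MulAction.Quotient.smul_mk, hD, smul_eq_mul, hd_mul]
  set b : ↥Z := ∏ t : ↥E ⧸ S', D t with hb
  set n := Fintype.card (↥E ⧸ S') with hn
  have hkey : ∀ g : ↥E, b = (d g) ^ n * conjZ g b := by
    intro g
    calc b = ∏ t : ↥E ⧸ S', D (g • t) := (Equiv.prod_comp (MulAction.toPerm g) D).symm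
      _ = ∏ t : ↥E ⧸ S', (d g * conjZ g (D t)) := by
          apply Finset.prod_congr rfl
          intro t _
          exact hDsmul g t
      _ = (d g) ^ n * conjZ g b := by
          rw [Finset.prod_mul_distrib, Finset.prod_const, Finset.card_univ, ← map_prod]
  have hnodd : n.Coprime 2 := by
    have h1 : n = S.relIndex E := by
      rw [hn, ← Nat.card_eq_fintype_card, ← Subgroup.index_eq_card]
      rfl
    rw [h1, Nat.coprime_comm, Nat.Prime.coprime_iff_not_dvd Nat.prime_two]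
    exact hS.2.2
  have hd2 : ∀ g : ↥E, (d g) ^ 2 ^ k = 1 := by
    intro g
    apply Subtype.ext
    rw [Subgroup.coe_pow]
    exact hδ2 g g.2
  -- the exponent
  obtain ⟨m, hm⟩ : ∃ m : ℕ, ∀ g : ↥E, ((d g) ^ n) ^ m = d g := by
    by_cases hk : k = 0
    · refine ⟨0, fun g => ?_⟩
      have := hd2 g
      rw [hk, pow_zero, pow_one] at this
      rw [this]; simp
    · have h1 : 1 < 2 ^ k := Nat.one_lt_two_pow hk
      obtain ⟨m, -, hm⟩ := Nat.exists_mul_mod_eq_one_of_coprime (Nat.Coprime.pow_right k hnodd) h1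
      refine ⟨m, fun g => ?_⟩
      rw [← pow_mul, pow_eq_pow_mod (n * m) (hd2 g), hm, pow_one]
  set z : ↥Z := b ^ m with hz
  have hdz : ∀ g : ↥E, d g = z * (conjZ g z)⁻¹ := by
    intro g
    have h1 : (d g) ^ n = b * (conjZ g b)⁻¹ := by
      rw [eq_mul_inv_iff_mul_eq]; exact (hkey g).symm
    rw [← hm g, h1, mul_pow, inv_pow, ← map_pow]
  have hz2 : (z : H) ^ 2 ^ k = 1 := by
    have h1 : b ^ 2 ^ k = 1 := by
      rw [hb, ← Finset.prod_pow]
      apply Finset.prod_eq_one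
      intro t _
      exact hd2 _
    have h2 : z ^ 2 ^ k = 1 := by rw [hz, ← pow_mul, mul_comm, pow_mul, h1, one_pow]
    have := congrArg Subtype.val h2
    rwa [Subgroup.coe_pow] at this
  have hact : ∀ e ∈ E, q * e * q⁻¹ = (z : H) * e * (z : H)⁻¹ := by
    intro e he
    have h1 := congrArg Subtype.val (hdz ⟨e, he⟩)
    have h2 : ⁅q, e⁆ = (z : H) * (e * (z : H) * e⁻¹)⁻¹ := h1
    have h3 : q * e * q⁻¹ = ⁅q, e⁆ * e := by rw [commutatorElement_def]; group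
    rw [h3, h2]; group
  have hzE : (z : H) ∈ E := z.2.1.1
  have hzS : (z : H) ∈ Subgroup.centralizer (S : Set H) := by
    rw [Subgroup.mem_centralizer_iff]
    intro s hs
    have h1 := hact s (hS.le hs)
    have h2 : q * s * q⁻¹ = s := by
      have := Subgroup.mem_centralizer_iff.1 hqS s hs
      rw [← this]; group
    rw [h2] at h1
    calc s * (z : H) = ((z : H) * s * (z : H)⁻¹) * (z : H) := by rw [← h1]
      _ = (z : H) * s := by group
  exact ⟨z, hS.mem_of_mem_normalizer hzE hz2 (Subgroup.centralizer_le_normalizer _ hzS), hzS, hact⟩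


/-- `h` acts on `E` as conjugation by `z ∈ Z(S)` -/
def ActsAs (E S : Subgroup H) (h z : H) : Prop :=
  z ∈ S ∧ z ∈ Subgroup.centralizer (S : Set H) ∧ ∀ e ∈ E, h * e * h⁻¹ = z * e * z⁻¹

theorem ActsAs.one (E S : Subgroup H) : ActsAs E S 1 1 :=
  ⟨S.one_mem, Subgroup.one_mem _, fun e _ => rfl⟩

theorem ActsAs.mul {E S : Subgroup H} (hSE : S ≤ E) {h₁ h₂ z₁ z₂ : H} (a₁ : ActsAs E S h₁ z₁)
    (a₂ : ActsAs E S h₂ z₂) : ActsAs E S (h₁ * h₂) (z₁ * z₂) := by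
  refine ⟨S.mul_mem a₁.1 a₂.1, Subgroup.mul_mem _ a₁.2.1 a₂.2.1, fun e he => ?_⟩
  have h1 : z₂ * e * z₂⁻¹ ∈ E := E.mul_mem (E.mul_mem (hSE a₂.1) he) (E.inv_mem (hSE a₂.1))
  calc h₁ * h₂ * e * (h₁ * h₂)⁻¹ = h₁ * (h₂ * e * h₂⁻¹) * h₁⁻¹ := by group
    _ = h₁ * (z₂ * e * z₂⁻¹) * h₁⁻¹ := by rw [a₂.2.2 e he]
    _ = z₁ * (z₂ * e * z₂⁻¹) * z₁⁻¹ := a₁.2.2 _ h1
    _ = z₁ * z₂ * e * (z₁ * z₂)⁻¹ := by group

theorem ActsAs.inv {E S : Subgroup H} (hSE : S ≤ E) {h z : H} (a : ActsAs E S h z) :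
    ActsAs E S h⁻¹ z⁻¹ := by
  refine ⟨S.inv_mem a.1, Subgroup.inv_mem _ a.2.1, fun e he => ?_⟩
  have h1 : z⁻¹ * e * z ∈ E := E.mul_mem (E.mul_mem (E.inv_mem (hSE a.1)) he) (hSE a.1)
  have h2 := a.2.2 _ h1
  have h3 : z * (z⁻¹ * e * z) * z⁻¹ = e := by group
  rw [h3] at h2
  calc h⁻¹ * e * h⁻¹⁻¹ = h⁻¹ * (h * (z⁻¹ * e * z) * h⁻¹) * h := by rw [h2]; group
    _ = z⁻¹ * e * z⁻¹⁻¹ := by group

/-- a perfect group generated by `2`-elements each acting on `E` as an element of `Z(S)`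
centralizes `E` -/
theorem le_centralizer_of_forall_inner {E S Γ : Subgroup H} (hSE : S ≤ E)
    (hperf : ⁅Γ, Γ⁆ = Γ)
    (hgen : Γ ≤ Subgroup.closure {x : H | x ∈ Γ ∧ ∃ k : ℕ, x ^ 2 ^ k = 1})
    (hin : ∀ x ∈ Γ, (∃ k : ℕ, x ^ 2 ^ k = 1) → ∃ z, ActsAs E S x z) :
    Γ ≤ Subgroup.centralizer (E : Set H) := by
  let B : Subgroup H :=
    { carrier := {h | ∃ z, ActsAs E S h z}
      one_mem' := ⟨1, ActsAs.one E S⟩
      mul_mem' := by
        rintro a b ⟨z₁, h₁⟩ ⟨z₂, h₂⟩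
        exact ⟨z₁ * z₂, h₁.mul hSE h₂⟩
      inv_mem' := by
        rintro a ⟨z, h⟩
        exact ⟨z⁻¹, h.inv hSE⟩ }
  have hΓB : Γ ≤ B := by
    refine hgen.trans ((Subgroup.closure_le _).2 ?_)
    rintro x ⟨hx, hk⟩
    exact hin x hx hk
  rw [← hperf, Subgroup.commutator_le]
  intro g₁ hg₁ g₂ hg₂
  obtain ⟨z₁, a₁⟩ := hΓB hg₁
  obtain ⟨z₂, a₂⟩ := hΓB hg₂
  have a := ((a₁.mul hSE a₂).mul hSE (a₁.inv hSE)).mul hSE (a₂.inv hSE)
  have hz : z₁ * z₂ * z₁⁻¹ * z₂⁻¹ = 1 := by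
    have := Subgroup.mem_centralizer_iff.1 a₂.2.1 z₁ a₁.1
    rw [this]; group
  rw [hz] at a
  rw [Subgroup.mem_centralizer_iff]
  intro e he
  have h1 := a.2.2 e he
  rw [one_mul, inv_one, mul_one] at h1
  rw [commutatorElement_def]
  calc e * (g₁ * g₂ * g₁⁻¹ * g₂⁻¹)
      = (g₁ * g₂ * g₁⁻¹ * g₂⁻¹ * e * (g₁ * g₂ * g₁⁻¹ * g₂⁻¹)⁻¹) * (g₁ * g₂ * g₁⁻¹ * g₂⁻¹) := by
        rw [h1]
    _ = g₁ * g₂ * g₁⁻¹ * g₂⁻¹ * e := by group

end Cfsg.Agent.Lib.H23.LB
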