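import Mathlib
import Cfsg.Agent.Lib.H23.LB3
import Cfsg.Agent.Lib.H23.LB4

/-!
# L-balance (helper23), part 5: the Glauberman-type theorem. A perfect subgroup `Γ` generated by
`2`-elements, normalizing `E` and centralizing a Sylow `2`-subgroup of `E`, centralizes `E / O(E)`.
-/

set_option autoImplicit false
set_option linter.unusedSectionVars false
set_option linter.unusedVariables false
set_option linter.style.haveILetI false

open scoped commutatorElement

namespace Cfsg.Agent.Lib.H23.LB

universe u

/-- the data of the theorem -/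
structure GData {H : Type u} [Group H] (E S Γ : Subgroup H) : Prop where
  syl : Syl2 S E
  norm : Γ ≤ Subgroup.normalizer (E : Set H)
  cent : Γ ≤ Subgroup.centralizer (S : Set H)
  perf : ⁅Γ, Γ⁆ = Γ
  gen : Γ ≤ Subgroup.closure {x : H | x ∈ Γ ∧ ∃ k : ℕ, x ^ 2 ^ k = 1}

section transport

variable {H : Type u} [Group H]

theorem GData.map [Finite H] {H' : Type u} [Group H'] (f : H →* H') {E S Γ : Subgroup H}
    (h : GData E S Γ) : GData (E.map f) (S.map f) (Γ.map f) where
  syl := h.syl.map f
  norm := by
    rintro _ ⟨x, hx, rfl⟩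
    exact map_mem_normalizer f (h.norm hx)
  cent := by
    rintro _ ⟨x, hx, rfl⟩
    rw [Subgroup.mem_centralizer_iff]
    rintro _ ⟨s, hs, rfl⟩
    rw [← map_mul, ← map_mul, Subgroup.mem_centralizer_iff.1 (h.cent hx) s hs]
  perf := by rw [← Subgroup.map_commutator, h.perf]
  gen := by
    refine (Subgroup.map_mono h.gen).trans ?_
    rw [MonoidHom.map_closure]
    apply Subgroup.closure_mono
    rintro _ ⟨x, ⟨hx, k, hk⟩, rfl⟩
    exact ⟨⟨x, hx, rfl⟩, k, by rw [← map_pow, hk, map_one]⟩

theorem GData.subgroupOf {E S Γ : Subgroup H} (h : GData E S Γ) (K : Subgroup H) (hEK : E ≤ K)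
    (hΓK : Γ ≤ K) : GData (E.subgroupOf K) (S.subgroupOf K) (Γ.subgroupOf K) where
  syl := h.syl.subgroupOf hEK
  norm := by
    intro x hx
    rw [← Subgroup.subgroupOf_normalizer_eq hEK, Subgroup.mem_subgroupOf]
    exact h.norm (Subgroup.mem_subgroupOf.1 hx)
  cent := by
    intro x hx
    rw [Subgroup.mem_centralizer_iff]
    intro s hs
    apply Subtype.ext
    rw [Subgroup.coe_mul, Subgroup.coe_mul]
    exact Subgroup.mem_centralizer_iff.1 (h.cent (Subgroup.mem_subgroupOf.1 hx)) s
      (Subgroup.mem_subgroupOf.1 hs)
  perf := by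
    apply Subgroup.map_injective K.subtype_injective
    rw [Subgroup.map_commutator, Subgroup.map_subgroupOf_eq_of_le hΓK, h.perf]
  gen := by
    rw [← Subgroup.map_le_map_iff_of_injective K.subtype_injective,
      Subgroup.map_subgroupOf_eq_of_le hΓK, MonoidHom.map_closure]
    refine h.gen.trans (Subgroup.closure_mono ?_)
    rintro x ⟨hx, k, hk⟩
    refine ⟨⟨x, hΓK hx⟩, ⟨Subgroup.mem_subgroupOf.2 hx, k, ?_⟩, rfl⟩
    apply Subtype.ext
    rw [Subgroup.coe_pow]
    exact hk

theorem card_map_lt [Finite H] {H' : Type*} [Group H'] (f : H →* H') {E N : Subgroup H}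
    (hNE : N ≤ E) (hNk : N ≤ f.ker) (hN : N ≠ ⊥) : Nat.card (E.map f) < Nat.card E := by
  set g : ↥E →* H' := f.comp E.subtype with hg
  have h1 : Nat.card g.ker * g.ker.index = Nat.card ↥E := Subgroup.card_mul_index g.ker
  have h2 : g.ker.index = Nat.card g.range := Subgroup.index_ker g
  have h3 : g.range = E.map f := by
    rw [hg, MonoidHom.range_comp, E.range_subtype]
  have h4 : 1 < Nat.card g.ker := by
    rw [Subgroup.one_lt_card_iff_ne_bot]
    intro hb
    apply hN
    rw [eq_bot_iff]
    intro x hx
    have : (⟨x, hNE hx⟩ : ↥E) ∈ g.ker := by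
      rw [MonoidHom.mem_ker]
      exact hNk hx
    rw [hb, Subgroup.mem_bot] at this
    rw [Subgroup.mem_bot]
    exact congrArg Subtype.val this
  haveI : Finite ↥(E.map f) := by
    rw [← h3]; exact Finite.of_surjective g.rangeRestrict g.rangeRestrict_surjective
  have h5 : 0 < Nat.card (E.map f) := Nat.card_pos
  rw [h2, h3] at h1
  nlinarith


theorem centralizer_le_cstar [Finite H] (E : Subgroup H) :
    Subgroup.centralizer (E : Set H) ≤ cstar E := by
  intro x hx
  refine ⟨Subgroup.centralizer_le_normalizer _ hx, fun e he => ?_⟩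
  have : ⁅x, e⁆ = 1 := by
    rw [commutatorElement_eq_one_iff_mul_comm]
    exact (Subgroup.mem_centralizer_iff.1 hx e he).symm
  rw [this]; exact Subgroup.one_mem _

theorem zpowers_subgroupOf {K : Subgroup H} (q : H) (hq : q ∈ K) :
    (Subgroup.zpowers q).subgroupOf K = Subgroup.zpowers (⟨q, hq⟩ : ↥K) := by
  ext x
  rw [Subgroup.mem_subgroupOf, Subgroup.mem_zpowers_iff, Subgroup.mem_zpowers_iff]
  constructor
  · rintro ⟨i, hi⟩
    exact ⟨i, Subtype.ext (by rw [Subgroup.coe_zpow]; exact hi)⟩
  · rintro ⟨i, hi⟩
    refine ⟨i, ?_⟩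
    have := congrArg Subtype.val hi
    rwa [Subgroup.coe_zpow] at this

end transport

/-- the main induction -/
theorem gj_aux : ∀ n : ℕ, ∀ (H : Type u) [Group H] [Finite H] (E S Γ : Subgroup H),
    Nat.card E = n → GData E S Γ → Γ ≤ cstar E := by
  intro n
  induction n using Nat.strong_induction_on with
  | _ n ih =>
    intro H _ _ E S Γ hn hD
    have IH : ∀ (H' : Type u) [Group H'] [Finite H'] (E' S' Γ' : Subgroup H'),
        Nat.card E' < Nat.card E → GData E' S' Γ' → Γ' ≤ cstar E' := by
      intro H' _ _ E' S' Γ' hlt hD'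
      exact ih (Nat.card E') (hn ▸ hlt) H' E' S' Γ' rfl hD'
    by_cases hO : oc E = ⊥
    swap
    · -- reduction to `O(E) = 1`
      set K := Subgroup.normalizer (E : Set H) with hK
      have hEK : E ≤ K := Subgroup.le_normalizer
      have hΓK : Γ ≤ K := hD.norm
      set E' := E.subgroupOf K with hE'
      have hD' := hD.subgroupOf K hEK hΓK
      haveI hE'n : E'.Normal := Subgroup.normal_in_normalizer
      have hE'top : ∀ x : ↥K, x ∈ Subgroup.normalizer (E' : Set ↥K) := fun x => by
        rw [Subgroup.normalizer_eq_top]; exact Subgroup.mem_top x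
      set O := oc E' with hOdef
      haveI hOn : O.Normal := by
        constructor
        intro n hn g
        exact (Subgroup.mem_normalizer_iff.1 (normalizer_le_normalizer_oc E' (hE'top g)) n).1 hn
      set π := QuotientGroup.mk' O with hπ
      have hD'' := hD'.map π
      have hOne : O ≠ ⊥ := by
        intro hb
        apply hO
        rw [hOdef, oc_subgroupOf hEK, Subgroup.subgroupOf_eq_bot] at hb
        rw [eq_bot_iff]
        intro x hx
        have : x ∈ oc E ⊓ K := ⟨hx, hEK (oc_le E hx)⟩
        rw [hb.eq_bot] at this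
        exact this
      have hcard : Nat.card E' = Nat.card E :=
        Nat.card_congr (Subgroup.subgroupOfEquivOfLe hEK).toEquiv
      have hlt : Nat.card (E'.map π) < Nat.card E := by
        rw [← hcard]
        apply card_map_lt π (oc_le E') _ hOne
        rw [hπ, QuotientGroup.ker_mk']
      have h1 := IH _ _ _ _ hlt hD''
      have hodd : (Nat.card (E' ⊓ π.ker : Subgroup ↥K)).Coprime 2 := by
        rw [hπ, QuotientGroup.ker_mk', inf_eq_right.2 (oc_le E')]
        exact card_oc E'
      intro x hx
      have hx' : (⟨x, hΓK hx⟩ : ↥K) ∈ cstar E' :=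
        mem_cstar_of_map π E' hodd (hE'top _) (h1 ⟨_, Subgroup.mem_subgroupOf.2 hx, rfl⟩)
      exact (mem_cstar_subgroupOf hEK _).1 hx'
    · by_cases h2a : ∃ V : Subgroup H, V ≤ S ∧ E ≤ Subgroup.normalizer (V : Set H) ∧
          ¬ V ≤ Subgroup.centralizer (E : Set H)
      · -- a normal `2`-subgroup which is not central
        obtain ⟨V, hVS, hVn, hVc⟩ := h2a
        set C := E ⊓ Subgroup.centralizer (V : Set H) with hC
        have hCE : C ≤ E := inf_le_left
        have hEC : E ≤ Subgroup.normalizer (C : Set H) := fun e he =>
          mem_normalizer_inf (Subgroup.le_normalizer he)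
            (normalizer_le_normalizer_centralizer V (hVn he))
        have hCne : C ≠ E := by
          intro hh
          apply hVc
          rw [Subgroup.le_centralizer_iff]
          rw [← hh]
          exact inf_le_right
        have hlt : Nat.card C < Nat.card E := card_lt_of_lt (lt_of_le_of_ne hCE hCne)
        have hΓV : Γ ≤ Subgroup.centralizer (V : Set H) :=
          hD.cent.trans (Subgroup.centralizer_le (SetLike.coe_subset_coe.2 hVS))
        have hDC : GData C (S ⊓ C) Γ :=
          { syl := hD.syl.inf_normal hCE hEC
            norm := fun x hx => mem_normalizer_inf (hD.norm hx)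
              (normalizer_le_normalizer_centralizer V
                (Subgroup.centralizer_le_normalizer _ (hΓV hx)))
            cent := hD.cent.trans (Subgroup.centralizer_le (SetLike.coe_subset_coe.2 inf_le_left))
            perf := hD.perf
            gen := hD.gen }
        have h1 := IH H C (S ⊓ C) Γ hlt hDC
        have hOC : oc C = ⊥ := by
          rw [eq_bot_iff, ← hO]
          exact oc_le_oc_of_normal hCE hEC
        have hΓC : Γ ≤ Subgroup.centralizer (C : Set H) := by
          intro x hx
          rw [Subgroup.mem_centralizer_iff]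
          intro c hc
          have := (mem_cstar.1 (h1 hx)).2 c hc
          rw [hOC, Subgroup.mem_bot, commutatorElement_eq_one_iff_mul_comm] at this
          exact this.symm
        refine (le_centralizer_of_forall_inner hD.syl.le hD.perf hD.gen ?_).trans
          (centralizer_le_cstar E)
        rintro x hx ⟨k, hk⟩
        obtain ⟨z, hz1, hz2, hz3⟩ := exists_inner_of_centralizes hD.syl hVS hVn (hD.norm hx)
          (hD.cent hx) hk (hΓC hx)
        exact ⟨z, hz1, hz2, hz3⟩
      · -- all normal `2`-subgroups of `E` are central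
        have hcen : ∀ W : Subgroup H, W ≤ S → E ≤ Subgroup.normalizer (W : Set H) →
            W ≤ Subgroup.centralizer (E : Set H) := by
          intro W hWS hWn
          by_contra hc
          exact h2a ⟨W, hWS, hWn, hc⟩
        refine hD.gen.trans ((Subgroup.closure_le _).2 ?_)
        rintro q ⟨hqΓ, kq, hkq⟩
        show q ∈ cstar E
        set K := E ⊔ Subgroup.zpowers q with hK
        have hEK : E ≤ K := le_sup_left
        have hqK : q ∈ K := (le_sup_right : Subgroup.zpowers q ≤ K) (Subgroup.mem_zpowers q)
        have hKn : K ≤ Subgroup.normalizer (E : Set H) :=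
          sup_le Subgroup.le_normalizer (by rw [Subgroup.zpowers_le]; exact hD.norm hqΓ)
        set E' := E.subgroupOf K with hE'
        set S' := S.subgroupOf K with hS'
        set q' : ↥K := ⟨q, hqK⟩ with hq'
        have hSK : S ≤ K := hD.syl.le.trans hEK
        have hZ : ZSet E' S' q' :=
          { normal := Subgroup.normal_subgroupOf_of_le_normalizer hKn
            syl := hD.syl.subgroupOf hEK
            cent := by
              rw [Subgroup.mem_centralizer_iff]
              intro s hs
              apply Subtype.ext
              rw [Subgroup.coe_mul, Subgroup.coe_mul]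
              exact Subgroup.mem_centralizer_iff.1 (hD.cent hqΓ) s (Subgroup.mem_subgroupOf.1 hs)
            two := ⟨kq, Subtype.ext (by rw [Subgroup.coe_pow]; exact hkq)⟩
            top := by
              rw [← zpowers_subgroupOf q hqK, ← Subgroup.subgroupOf_sup hEK
                (by rw [Subgroup.zpowers_le]; exact hqK), Subgroup.subgroupOf_self] }
        -- translation of subgroups of `K`
        have hmapW : ∀ W' : Subgroup ↥K, (W'.map K.subtype).subgroupOf K = W' := fun W' =>
          Subgroup.comap_map_eq_self_of_injective K.subtype_injective W'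
        have hnormW : ∀ W' : Subgroup ↥K,
            (Subgroup.normalizer ((W'.map K.subtype : Subgroup H) : Set H)).subgroupOf K =
              Subgroup.normalizer (W' : Set ↥K) := by
          intro W'
          rw [Subgroup.subgroupOf_normalizer_eq (Subgroup.map_subtype_le W'), hmapW]
        have hEn_iff : ∀ W' : Subgroup ↥K, E' ≤ Subgroup.normalizer (W' : Set ↥K) ↔
            E ≤ Subgroup.normalizer ((W'.map K.subtype : Subgroup H) : Set H) := by
          intro W'
          rw [← hnormW]
          constructor
          · intro hh e he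
            exact Subgroup.mem_subgroupOf.1 (hh (show (⟨e, hEK he⟩ : ↥K) ∈ E' from
              Subgroup.mem_subgroupOf.2 he))
          · intro hh x hx
            exact Subgroup.mem_subgroupOf.2 (hh (Subgroup.mem_subgroupOf.1 hx))
        have hWS_iff : ∀ W' : Subgroup ↥K, W' ≤ S' → W'.map K.subtype ≤ S := by
          intro W' hW'
          rintro _ ⟨w, hw, rfl⟩
          exact Subgroup.mem_subgroupOf.1 (hW' hw)
        have hcen' : ∀ W' : Subgroup ↥K, W' ≤ S' → E' ≤ Subgroup.normalizer (W' : Set ↥K) →
            W' ≤ Subgroup.centralizer (E' : Set ↥K) := by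
          intro W' hW'S hW'n
          have h1 := hcen _ (hWS_iff W' hW'S) ((hEn_iff W').1 hW'n)
          intro w hw
          rw [Subgroup.mem_centralizer_iff]
          intro e he
          apply Subtype.ext
          rw [Subgroup.coe_mul, Subgroup.coe_mul]
          exact Subgroup.mem_centralizer_iff.1 (h1 ⟨w, hw, rfl⟩) e (Subgroup.mem_subgroupOf.1 he)
        have hFN' : ∀ W' : Subgroup ↥K, W' ≤ S' → ¬ E' ≤ Subgroup.normalizer (W' : Set ↥K) →
            Syl2 (S' ⊓ Subgroup.normalizer (W' : Set ↥K)) (E' ⊓ Subgroup.normalizer (W' : Set ↥K)) →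
            q' ∈ cstar (E' ⊓ Subgroup.normalizer (W' : Set ↥K)) := by
          intro W' hW'S hW'n hsyl
          set W := W'.map K.subtype with hW
          have hWS : W ≤ S := hWS_iff W' hW'S
          have hWn : ¬ E ≤ Subgroup.normalizer (W : Set H) := fun hh => hW'n ((hEn_iff W').2 hh)
          set E₁ := E ⊓ Subgroup.normalizer (W : Set H) with hE₁
          set S₁ := S ⊓ Subgroup.normalizer (W : Set H) with hS₁
          have hE₁K : E₁ ≤ K := inf_le_left.trans hEK
          have hE₁' : E₁.subgroupOf K = E' ⊓ Subgroup.normalizer (W' : Set ↥K) := by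
            rw [← hnormW]; rfl
          have hS₁' : S₁.subgroupOf K = S' ⊓ Subgroup.normalizer (W' : Set ↥K) := by
            rw [← hnormW]; rfl
          have hsyl₁ : Syl2 S₁ E₁ := by
            apply Syl2.of_subgroupOf (inf_le_inf_right _ hD.syl.le) hE₁K
            rw [hE₁', hS₁']; exact hsyl
          have hlt : Nat.card E₁ < Nat.card E := by
            apply card_lt_of_lt
            refine lt_of_le_of_ne inf_le_left ?_
            intro hh
            apply hWn
            rw [← hh]; exact inf_le_right
          have hΓW : Γ ≤ Subgroup.centralizer (W : Set H) :=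
            hD.cent.trans (Subgroup.centralizer_le (SetLike.coe_subset_coe.2 hWS))
          have hD₁ : GData E₁ S₁ Γ :=
            { syl := hsyl₁
              norm := fun x hx => mem_normalizer_inf (hD.norm hx)
                (Subgroup.le_normalizer (Subgroup.centralizer_le_normalizer _ (hΓW hx)))
              cent := hD.cent.trans
                (Subgroup.centralizer_le (SetLike.coe_subset_coe.2 inf_le_left))
              perf := hD.perf
              gen := hD.gen }
          have h1 := IH H E₁ S₁ Γ hlt hD₁ hqΓ
          rw [← hE₁']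
          exact (mem_cstar_subgroupOf hE₁K q').2 h1
        have hA' := hZ.lemmaC hcen' hFN'
        have h2 := hZ.lemmaZ hA' hcen'
        exact (mem_cstar_subgroupOf hEK q').1 h2

/-- **Theorem** (Glauberman-type): a perfect subgroup `Γ` generated by `2`-elements, normalizing
`E` and centralizing a Sylow `2`-subgroup of `E`, acts trivially on `E / O(E)`. -/
theorem gj {H : Type u} [Group H] [Finite H] {E S Γ : Subgroup H} (hD : GData E S Γ) :
    Γ ≤ cstar E :=
  gj_aux (Nat.card E) H E S Γ rfl hD

end Cfsg.Agent.Lib.H23.LB
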