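import Mathlib
import Cfsg.Agent.Lib.H23.LB2
import Cfsg.Agent.Lib.H19.HallComm

/-!
# L-balance (helper23), part 6: intrinsic `2`-components. `TwoComp J`: `J` is perfect, generated
by `2`-elements, `J / O(J)` is quasisimple. Two distinct subnormal `2`-components commute modulo the
odd core.
-/

set_option autoImplicit false
set_option linter.unusedSectionVars false
set_option linter.unusedVariables false
set_option linter.style.haveILetI false

open scoped commutatorElement

namespace Cfsg.Agent.Lib.H23.LB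

universe u
variable {G : Type u} [Group G]

/-- `J` is generated by its `2`-elements -/
def TwoGen (J : Subgroup G) : Prop :=
  J ≤ Subgroup.closure {x : G | x ∈ J ∧ ∃ k : ℕ, x ^ 2 ^ k = 1}

theorem TwoGen.map {G' : Type*} [Group G'] (f : G →* G') {J : Subgroup G} (h : TwoGen J) :
    TwoGen (J.map f) := by
  unfold TwoGen
  refine (Subgroup.map_mono h).trans ?_
  rw [MonoidHom.map_closure]
  apply Subgroup.closure_mono
  rintro _ ⟨x, ⟨hx, k, hk⟩, rfl⟩
  exact ⟨⟨x, hx, rfl⟩, k, by rw [← map_pow, hk, map_one]⟩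

theorem TwoGen.le_of_forall {J N : Subgroup G} (h : TwoGen J)
    (hN : ∀ x ∈ J, (∃ k : ℕ, x ^ 2 ^ k = 1) → x ∈ N) : J ≤ N := by
  refine h.trans ((Subgroup.closure_le _).2 ?_)
  rintro x ⟨hx, hk⟩
  exact hN x hx hk

/-- a `2`-element of `F M`, with `F` normal and `M` of odd order, lies in `F` -/
theorem mem_of_mem_sup_odd [Finite G] {F M : Subgroup G} [F.Normal]
    (hM : (Nat.card M).Coprime 2) {x : G} (hx : x ∈ F ⊔ M) {k : ℕ} (hk : x ^ 2 ^ k = 1) :
    x ∈ F := by
  set π := QuotientGroup.mk' F with hπ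
  have h1 : π x ∈ M.map π := by
    have : π x ∈ (F ⊔ M).map π := ⟨x, hx, rfl⟩
    rw [Subgroup.map_sup] at this
    have hF : F.map π = ⊥ := by
      rw [Subgroup.map_eq_bot_iff, hπ, QuotientGroup.ker_mk']
    rwa [hF, bot_sup_eq] at this
  have h2 : (π x) ^ Nat.card (M.map π) = 1 := by
    have := pow_card_eq_one' (G := ↥(M.map π)) (x := ⟨π x, h1⟩)
    have h3 := congrArg Subtype.val this
    rwa [Subgroup.coe_pow] at h3
  have h3 : (π x) ^ 2 ^ k = 1 := by rw [← map_pow, hk, map_one]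
  have h4 : (Nat.card (M.map π)).Coprime 2 :=
    Nat.Coprime.coprime_dvd_left (Subgroup.card_map_dvd M π) hM
  have h5 : orderOf (π x) = 1 :=
    Nat.eq_one_of_dvd_coprimes (Nat.Coprime.pow_right k h4) (orderOf_dvd_of_pow_eq_one h2)
      (orderOf_dvd_of_pow_eq_one h3)
  have h6 : π x = 1 := orderOf_eq_one_iff.1 h5
  rwa [hπ, QuotientGroup.mk'_apply, QuotientGroup.eq_one_iff] at h6

theorem TwoGen.le_of_le_sup_odd [Finite G] {J F M : Subgroup G} [F.Normal] (h : TwoGen J)
    (hM : (Nat.card M).Coprime 2) (hJ : J ≤ F ⊔ M) : J ≤ F :=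
  h.le_of_forall fun x hx ⟨k, hk⟩ => mem_of_mem_sup_odd hM (hJ hx) hk

/-- an intrinsic `2`-component -/
structure TwoComp [Finite G] (J : Subgroup G) : Prop where
  perf : ⁅J, J⁆ = J
  gen : TwoGen J
  normal : ∀ N : Subgroup G, N ≤ J → J ≤ Subgroup.normalizer (N : Set G) →
    N = J ∨ ⁅N, J⁆ ≤ oc J
  not_odd : ¬ J ≤ oc J

theorem TwoComp.map [Finite G] {G' : Type*} [Group G'] [Finite G'] (f : G →* G')
    {J : Subgroup G} (hJ : TwoComp J) (hodd : (Nat.card (J ⊓ f.ker : Subgroup G)).Coprime 2) :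
    TwoComp (J.map f) where
  perf := by rw [← Subgroup.map_commutator, hJ.perf]
  gen := hJ.gen.map f
  normal := by
    intro Nb hNb hn
    set N := J ⊓ Nb.comap f with hN
    have hNJ : N ≤ J := inf_le_left
    have hJN : J ≤ Subgroup.normalizer (N : Set G) := by
      intro j hj
      apply mem_normalizer_inf (Subgroup.le_normalizer hj)
      exact Subgroup.le_normalizer_comap f (Subgroup.mem_comap.2 (hn ⟨j, hj, rfl⟩))
    have hmap : N.map f = Nb := by
      apply le_antisymm
      · rintro _ ⟨x, hx, rfl⟩; exact hx.2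
      · intro y hy
        obtain ⟨x, hx, rfl⟩ := hNb hy
        exact ⟨x, ⟨hx, hy⟩, rfl⟩
    rcases hJ.normal N hNJ hJN with h | h
    · left; rw [← hmap, h]
    · right
      rw [← hmap, ← Subgroup.map_commutator]
      exact (Subgroup.map_mono h).trans (map_oc_le f J)
  not_odd := by
    intro h
    apply hJ.not_odd
    intro x hx
    exact inf_comap_oc_le f J hodd ⟨hx, h ⟨x, hx, rfl⟩⟩

theorem TwoComp.cj [Finite G] {J : Subgroup G} (hJ : TwoComp J) (g : G) : TwoComp (cj g J) := by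
  apply hJ.map
  have : (MulAut.conj g).toMonoidHom.ker = ⊥ :=
    (MonoidHom.ker_eq_bot_iff _).2 (MulAut.conj g).injective
  rw [this, inf_bot_eq]; simp


/-- a proper subnormal subgroup of a `2`-component is central modulo the odd core -/
theorem TwoComp.eq_or_comm_le [Finite G] {J M : Subgroup G} (hJ : TwoComp J) (hM : SubnIn M J) :
    M = J ∨ ⁅M, J⁆ ≤ oc J := by
  rcases hM.exists_normal with h | ⟨X, hMX, hXJ, hne, hn, -⟩
  · exact Or.inl h
  · rcases hJ.normal X hXJ hn with h | h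
    · exact absurd h hne
    · exact Or.inr ((Subgroup.commutator_mono hMX le_rfl).trans h)

/-- the three subgroups lemma modulo a subgroup normalized by the three subgroups -/
theorem three_subgroups_rel {N A B C : Subgroup G}
    (hA : A ≤ Subgroup.normalizer (N : Set G)) (hB : B ≤ Subgroup.normalizer (N : Set G))
    (hC : C ≤ Subgroup.normalizer (N : Set G))
    (h1 : ⁅⁅B, C⁆, A⁆ ≤ N) (h2 : ⁅⁅C, A⁆, B⁆ ≤ N) : ⁅⁅A, B⁆, C⁆ ≤ N := by
  set T := Subgroup.normalizer (N : Set G) with hT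
  haveI : (N.subgroupOf T).Normal := Subgroup.normal_in_normalizer
  have hNT : N ≤ T := Subgroup.le_normalizer
  have key : ∀ X Y Z : Subgroup G, X ≤ T → Y ≤ T → Z ≤ T →
      (⁅⁅X, Y⁆, Z⁆ ≤ N ↔
        ⁅⁅X.subgroupOf T, Y.subgroupOf T⁆, Z.subgroupOf T⁆ ≤ N.subgroupOf T) := by
    intro X Y Z hX hY hZ
    rw [← Subgroup.map_le_map_iff_of_injective T.subtype_injective, Subgroup.map_commutator,
      Subgroup.map_commutator, Subgroup.map_subgroupOf_eq_of_le hX,
      Subgroup.map_subgroupOf_eq_of_le hY, Subgroup.map_subgroupOf_eq_of_le hZ,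
      Subgroup.map_subgroupOf_eq_of_le hNT]
  rw [key _ _ _ hA hB hC]
  rw [key _ _ _ hB hC hA] at h1
  rw [key _ _ _ hC hA hB] at h2
  exact Cfsg.Agent.Lib.H19.three_subgroups_normal (N.subgroupOf T) h1 h2

/-- if `J` is perfect and `[J, M, J] ≤ N` then `[J, M] ≤ N` -/
theorem comm_le_of_perfect {J M N : Subgroup G} (hJ : ⁅J, J⁆ = J)
    (hJN : J ≤ Subgroup.normalizer (N : Set G)) (hMN : M ≤ Subgroup.normalizer (N : Set G))
    (h : ⁅⁅J, M⁆, J⁆ ≤ N) : ⁅J, M⁆ ≤ N := by
  have h1 : ⁅⁅J, M⁆, J⁆ ≤ N := h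
  have h2 : ⁅⁅M, J⁆, J⁆ ≤ N := by rwa [Subgroup.commutator_comm M J]
  have h3 := three_subgroups_rel hJN hJN hMN h1 h2
  rwa [hJ] at h3

theorem comm_le_inf_of_normal {X Y : Subgroup G} (hXY : X ≤ Subgroup.normalizer (Y : Set G))
    (hYX : Y ≤ Subgroup.normalizer (X : Set G)) : ⁅X, Y⁆ ≤ X ⊓ Y := by
  rw [Subgroup.commutator_le]
  intro x hx y hy
  refine ⟨?_, ?_⟩
  · have e : ⁅x, y⁆ = x * (y * x⁻¹ * y⁻¹) := by rw [commutatorElement_def]; group
    rw [e]
    exact X.mul_mem hx ((Subgroup.mem_normalizer_iff.1 (hYX hy) _).1 (X.inv_mem hx))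
  · rw [commutatorElement_def]
    exact Y.mul_mem ((Subgroup.mem_normalizer_iff.1 (hXY hx) _).1 hy) (Y.inv_mem hy)

/-- **Lemma W**: a subnormal `2`-component lies in, or commutes modulo the odd core with, any
subnormal subgroup. -/
theorem TwoComp.le_or_comm_le_aux [Finite G] : ∀ n : ℕ, ∀ J M C : Subgroup G, Nat.card C = n →
    TwoComp J → SubnIn J C → SubnIn M C → J ≤ M ∨ ⁅J, M⁆ ≤ oc C := by
  intro n
  induction n using Nat.strong_induction_on with
  | _ n ih =>
    intro J M C hn hJ hJC hMC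
    rcases hJC.exists_normal with rfl | ⟨X, hJX, hXC, hXne, hCX, hJX'⟩
    · rcases hJ.eq_or_comm_le hMC with h | h
      · exact Or.inl h.ge
      · exact Or.inr (by rwa [Subgroup.commutator_comm])
    · rcases hMC.exists_normal with rfl | ⟨Y, hMY, hYC, hYne, hCY, hMY'⟩
      · exact Or.inl hJC.le
      · have hXlt : Nat.card X < n := hn ▸ card_lt_of_lt (lt_of_le_of_ne hXC hXne)
        have hYlt : Nat.card Y < n := hn ▸ card_lt_of_lt (lt_of_le_of_ne hYC hYne)
        set D := X ⊓ Y with hD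
        have hDX : SubnIn D X :=
          SubnIn.of_normal inf_le_left (fun x hx => mem_normalizer_inf (hCX (hXC hx)) (hCY (hXC hx)))
        rcases ih _ hXlt J D X rfl hJ hJX' hDX with h | h
        · have hJY : J ≤ Y := h.trans inf_le_right
          rcases ih _ hYlt J M Y rfl hJ (hJC.of_le hJY hYC) hMY' with h' | h'
          · exact Or.inl h'
          · exact Or.inr (h'.trans (oc_le_oc_of_normal hYC hCY))
        · right
          have h1 : ⁅J, D⁆ ≤ oc C := h.trans (oc_le_oc_of_normal hXC hCX)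
          have h2 : ⁅J, M⁆ ≤ D :=
            (Subgroup.commutator_mono hJX hMY).trans
              (comm_le_inf_of_normal (hXC.trans hCY) (hYC.trans hCX))
          have h3 : ⁅⁅J, M⁆, J⁆ ≤ oc C := by
            refine (Subgroup.commutator_mono h2 le_rfl).trans ?_
            rwa [Subgroup.commutator_comm]
          exact comm_le_of_perfect hJ.perf (hJC.le.trans (le_normalizer_oc C))
            (hMC.le.trans (le_normalizer_oc C)) h3

theorem TwoComp.le_or_comm_le [Finite G] {J M C : Subgroup G} (hJ : TwoComp J)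
    (hJC : SubnIn J C) (hMC : SubnIn M C) : J ≤ M ∨ ⁅J, M⁆ ≤ oc C :=
  TwoComp.le_or_comm_le_aux _ J M C rfl hJ hJC hMC

/-- distinct subnormal `2`-components commute modulo the odd core -/
theorem TwoComp.comm_le_of_ne [Finite G] {J K C : Subgroup G} (hJ : TwoComp J) (hK : TwoComp K)
    (hJC : SubnIn J C) (hKC : SubnIn K C) (hne : J ≠ K) : ⁅J, K⁆ ≤ oc C := by
  rcases hJ.le_or_comm_le hJC hKC with h1 | h1
  · rcases hK.le_or_comm_le hKC hJC with h2 | h2
    · exact absurd (le_antisymm h1 h2) hne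
    · rwa [Subgroup.commutator_comm]
  · exact h1

end Cfsg.Agent.Lib.H23.LB
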