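import Mathlib
import Cfsg.Agent.Lib.H23.LB6

/-!
# L-balance (helper23), part 7: recognizing `2`-components through a homomorphism onto a
quasisimple-like group; the quotient `J / O(J)`; shrinking a `2`-component inside a subgroup
covering it modulo the odd core.
-/

set_option autoImplicit false
set_option linter.unusedSectionVars false
set_option linter.unusedVariables false
set_option linter.style.haveILetI false

open scoped commutatorElement

namespace Cfsg.Agent.Lib.H23.LB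

universe u
variable {G : Type u} [Group G] [Finite G]

/-- every element has an odd power of `2`-power order -/
theorem exists_odd_pow_two_pow {A : Type*} [Group A] [Finite A] (x : A) :
    ∃ m : ℕ, m.Coprime 2 ∧ ∃ k : ℕ, (x ^ m) ^ 2 ^ k = 1 := by
  obtain ⟨k, m, hm, hom⟩ := Nat.exists_eq_pow_mul_and_not_dvd (orderOf_pos x).ne' 2 (by norm_num)
  refine ⟨m, ((Nat.Prime.coprime_iff_not_dvd Nat.prime_two).2 hm).symm, k, ?_⟩
  rw [← pow_mul, mul_comm, ← hom]
  exact pow_orderOf_eq_one x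

theorem exists_minimal_subgroup (P : Subgroup G → Prop) {X : Subgroup G} (hX : P X) :
    ∃ M, M ≤ X ∧ P M ∧ ∀ M', P M' → M' ≤ M → M' = M := by
  have main : ∀ n : ℕ, ∀ X : Subgroup G, Nat.card X = n → P X →
      ∃ M, M ≤ X ∧ P M ∧ ∀ M', P M' → M' ≤ M → M' = M := by
    intro n
    induction n using Nat.strong_induction_on with
    | _ n ih =>
      intro X hn hX
      by_cases hmin : ∀ M', P M' → M' ≤ X → M' = X
      · exact ⟨X, le_rfl, hX, hmin⟩
      · push Not at hmin
        obtain ⟨M', hM', hle, hne⟩ := hmin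
        obtain ⟨M, hM1, hM2, hM3⟩ := ih _ (hn ▸ card_lt_of_lt (lt_of_le_of_ne hle hne)) M' rfl hM'
        exact ⟨M, hM1.trans hle, hM2, hM3⟩
  exact main _ X rfl hX

/-- recognition of a `2`-component through a surjection with odd kernel onto a perfect group
generated by `2`-elements whose proper normal subgroups are central -/
theorem twoComp_of_hom {J₁ : Subgroup G} {Q : Type*} [Group Q] (ψ : ↥J₁ →* Q)
    (hψ : Function.Surjective ψ) (hker : (Nat.card ψ.ker).Coprime 2)
    (hQ1 : ⁅(⊤ : Subgroup Q), (⊤ : Subgroup Q)⁆ = ⊤)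
    (hQ2 : (⊤ : Subgroup Q) ≤ Subgroup.closure {x : Q | ∃ k : ℕ, x ^ 2 ^ k = 1})
    (hQ3 : ∀ N : Subgroup Q, N.Normal → N = ⊤ ∨ N ≤ Subgroup.center Q)
    (hQ4 : ∃ q : Q, q ≠ 1)
    (hmin : ∀ N : Subgroup G, SubnIn N J₁ → (N.subgroupOf J₁).map ψ = ⊤ → N = J₁) :
    TwoComp J₁ := by
  haveI : Finite Q := Finite.of_surjective ψ hψ
  have htop : (⊤ : Subgroup ↥J₁).map J₁.subtype = J₁ := by
    rw [← MonoidHom.range_eq_map, J₁.range_subtype]
  -- perfect
  have hperf : ⁅J₁, J₁⁆ = J₁ := by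
    apply hmin
    · exact SubnIn.of_normal (Subgroup.commutator_le_self J₁)
        (Subgroup.normalizer_commutator_ge_left J₁ J₁)
    · have h1 : (⁅J₁, J₁⁆).subgroupOf J₁ = ⁅(⊤ : Subgroup ↥J₁), ⊤⁆ := by
        apply Subgroup.map_injective J₁.subtype_injective
        rw [Subgroup.map_subgroupOf_eq_of_le (Subgroup.commutator_le_self J₁),
          Subgroup.map_commutator, htop]
      rw [h1, Subgroup.map_commutator, Subgroup.map_top_of_surjective ψ hψ, hQ1]
  -- generated by `2`-elements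
  have hgen : TwoGen J₁ := by
    set N := Subgroup.closure {x : G | x ∈ J₁ ∧ ∃ k : ℕ, x ^ 2 ^ k = 1} with hN
    have hNJ : N ≤ J₁ := (Subgroup.closure_le _).2 (fun x hx => hx.1)
    have hJN : J₁ ≤ Subgroup.normalizer (N : Set G) := by
      have key : ∀ j ∈ J₁, ∀ x ∈ N, j * x * j⁻¹ ∈ N := by
        intro j hj
        have : N ≤ N.comap (MulAut.conj j).toMonoidHom := by
          rw [hN, Subgroup.closure_le]
          rintro x ⟨hx, k, hk⟩
          rw [SetLike.mem_coe, Subgroup.mem_comap]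
          apply Subgroup.subset_closure
          refine ⟨J₁.mul_mem (J₁.mul_mem hj hx) (J₁.inv_mem hj), k, ?_⟩
          show (j * x * j⁻¹) ^ 2 ^ k = 1
          rw [conj_pow, hk]; group
        intro x hx
        exact this hx
      intro j hj
      rw [Subgroup.mem_normalizer_iff]
      intro x
      constructor
      · exact key j hj x
      · intro h
        have := key j⁻¹ (J₁.inv_mem hj) _ h
        have e : j⁻¹ * (j * x * j⁻¹) * j⁻¹⁻¹ = x := by group
        rwa [e] at this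
    have h1 : N = J₁ := by
      apply hmin N (SubnIn.of_normal hNJ hJN)
      rw [eq_top_iff]
      refine hQ2.trans ((Subgroup.closure_le _).2 ?_)
      rintro q ⟨k, hk⟩
      obtain ⟨x, rfl⟩ := hψ q
      obtain ⟨m, hm, k', hk'⟩ := exists_odd_pow_two_pow x
      have h2 : ψ (x ^ m) ∈ (N.subgroupOf J₁).map ψ := by
        refine ⟨x ^ m, ?_, rfl⟩
        show ((x ^ m : ↥J₁) : G) ∈ N
        apply Subgroup.subset_closure
        refine ⟨(x ^ m).2, k', ?_⟩
        have := congrArg Subtype.val hk'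
        rwa [Subgroup.coe_pow] at this
      have h3 : m.Coprime (orderOf (ψ x)) :=
        Nat.Coprime.coprime_dvd_right (orderOf_dvd_of_pow_eq_one hk) (Nat.Coprime.pow_right k hm)
      obtain ⟨m', hm'⟩ := exists_pow_eq_self_of_coprime h3
      rw [SetLike.mem_coe, ← hm', ← map_pow]
      exact Subgroup.pow_mem _ h2 m'
    unfold TwoGen
    rw [← hN, h1]
  refine ⟨hperf, hgen, ?_, ?_⟩
  · -- normal subgroups
    intro N hNJ hJN
    haveI hN'n : (N.subgroupOf J₁).Normal := Subgroup.normal_subgroupOf_of_le_normalizer hJN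
    have hn : ((N.subgroupOf J₁).map ψ).Normal := Subgroup.Normal.map hN'n ψ hψ
    rcases hQ3 _ hn with h | h
    · exact Or.inl (hmin N (SubnIn.of_normal hNJ hJN) h)
    · right
      set Kr := ψ.ker.map J₁.subtype with hKr
      have hKrO : Kr ≤ oc J₁ := by
        apply le_oc (Subgroup.map_subtype_le _)
        · intro j hj
          have h1 : (⟨j, hj⟩ : ↥J₁) ∈ Subgroup.normalizer (ψ.ker : Set ↥J₁) := by
            rw [Subgroup.normalizer_eq_top]; exact Subgroup.mem_top _
          exact map_mem_normalizer J₁.subtype h1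
        · rw [Subgroup.card_map_of_injective J₁.subtype_injective]
          exact hker
      refine le_trans ?_ hKrO
      rw [Subgroup.commutator_le]
      intro n hn j hj
      refine ⟨⁅(⟨n, hNJ hn⟩ : ↥J₁), ⟨j, hj⟩⁆, ?_, rfl⟩
      rw [SetLike.mem_coe, MonoidHom.mem_ker, map_commutatorElement,
        commutatorElement_eq_one_iff_mul_comm]
      have h1 : ψ ⟨n, hNJ hn⟩ ∈ Subgroup.center Q :=
        h ⟨⟨n, hNJ hn⟩, Subgroup.mem_subgroupOf.2 hn, rfl⟩
      exact (Subgroup.mem_center_iff.1 h1 _).symm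
  · -- not of odd order
    intro hodd
    obtain ⟨q, hq⟩ := hQ4
    apply hq
    have hcJ : (Nat.card ↥J₁).Coprime 2 :=
      Nat.Coprime.coprime_dvd_left (Subgroup.card_dvd_of_le hodd) (card_oc J₁)
    have hcQ : (Nat.card Q).Coprime 2 := by
      have h1 : Nat.card ψ.range ∣ Nat.card ↥J₁ := Subgroup.card_range_dvd ψ
      have h2 : ψ.range = ⊤ := MonoidHom.range_eq_top.2 hψ
      rw [h2, Subgroup.card_top] at h1
      exact Nat.Coprime.coprime_dvd_left h1 hcJ
    have h3 : Subgroup.closure {x : Q | ∃ k : ℕ, x ^ 2 ^ k = 1} = ⊥ := by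
      rw [Subgroup.closure_eq_bot_iff]
      rintro x ⟨k, hk⟩
      have h4 : orderOf x = 1 :=
        Nat.eq_one_of_dvd_coprimes (Nat.Coprime.pow_right k hcQ) (orderOf_dvd_natCard x)
          (orderOf_dvd_of_pow_eq_one hk)
      exact orderOf_eq_one_iff.1 h4
    have h5 : q ∈ (⊤ : Subgroup Q) := Subgroup.mem_top q
    have h6 := hQ2 h5
    rwa [h3, Subgroup.mem_bot] at h6


/-! ### the quotient `J / O(J)` -/

/-- `O(J)` inside `J` -/
abbrev OJ (J : Subgroup G) : Subgroup ↥J := (oc J).subgroupOf J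

instance OJ_normal (J : Subgroup G) : (OJ J).Normal :=
  Subgroup.normal_subgroupOf_of_le_normalizer (le_normalizer_oc J)

/-- the projection `J → J / O(J)` -/
abbrev pr (J : Subgroup G) : ↥J →* ↥J ⧸ OJ J := QuotientGroup.mk' (OJ J)

theorem pr_surjective (J : Subgroup G) : Function.Surjective (pr J) :=
  QuotientGroup.mk'_surjective _

theorem pr_eq_one_iff {J : Subgroup G} (x : ↥J) : pr J x = 1 ↔ (x : G) ∈ oc J := by
  rw [QuotientGroup.mk'_apply, QuotientGroup.eq_one_iff, Subgroup.mem_subgroupOf]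

/-- the image in `J / O(J)` of a subgroup -/
def img (J X : Subgroup G) : Subgroup (↥J ⧸ OJ J) := (X.subgroupOf J).map (pr J)

theorem img_eq_top_iff {J X : Subgroup G} (hXJ : X ≤ J) : img J X = ⊤ ↔ J ≤ X ⊔ oc J := by
  unfold img
  rw [← Subgroup.subgroupOf_eq_top, Subgroup.subgroupOf_sup hXJ (oc_le J)]
  constructor
  · intro h
    have h1 := Subgroup.comap_map_eq (pr J) (X.subgroupOf J)
    rw [h, Subgroup.comap_top, QuotientGroup.ker_mk'] at h1
    exact h1.symm
  · intro h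
    have h1 := Subgroup.comap_map_eq (pr J) (X.subgroupOf J)
    rw [QuotientGroup.ker_mk', h] at h1
    have h2 := Subgroup.map_comap_eq_self_of_surjective (pr_surjective J)
      ((X.subgroupOf J).map (pr J))
    rw [h1, Subgroup.map_top_of_surjective _ (pr_surjective J)] at h2
    exact h2.symm

variable {J : Subgroup G}

theorem TwoComp.quot_perfect (hJ : TwoComp J) :
    ⁅(⊤ : Subgroup (↥J ⧸ OJ J)), (⊤ : Subgroup (↥J ⧸ OJ J))⁆ = ⊤ := by
  have htop : (⊤ : Subgroup ↥J).map J.subtype = J := by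
    rw [← MonoidHom.range_eq_map, J.range_subtype]
  have h1 : ⁅(⊤ : Subgroup ↥J), (⊤ : Subgroup ↥J)⁆ = ⊤ := by
    apply Subgroup.map_injective J.subtype_injective
    rw [Subgroup.map_commutator, htop, hJ.perf]
  rw [← Subgroup.map_top_of_surjective _ (pr_surjective J), ← Subgroup.map_commutator, h1]

theorem TwoComp.quot_gen (hJ : TwoComp J) :
    (⊤ : Subgroup (↥J ⧸ OJ J)) ≤ Subgroup.closure {x : ↥J ⧸ OJ J | ∃ k : ℕ, x ^ 2 ^ k = 1} := by
  set T := (Subgroup.closure {x : ↥J ⧸ OJ J | ∃ k : ℕ, x ^ 2 ^ k = 1}).comap (pr J) with hT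
  have h1 : J ≤ T.map J.subtype := by
    apply hJ.gen.le_of_forall
    rintro x hx ⟨k, hk⟩
    refine ⟨⟨x, hx⟩, ?_, rfl⟩
    rw [SetLike.mem_coe, hT, Subgroup.mem_comap]
    apply Subgroup.subset_closure
    refine ⟨k, ?_⟩
    rw [← map_pow]
    have : (⟨x, hx⟩ : ↥J) ^ 2 ^ k = 1 := Subtype.ext (by rw [Subgroup.coe_pow]; exact hk)
    rw [this, map_one]
  intro q _
  obtain ⟨j, rfl⟩ := pr_surjective J q
  obtain ⟨t, ht, htj⟩ := h1 j.2
  have : t = j := Subtype.ext htj
  rw [← this]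
  exact ht

theorem TwoComp.quot_normal (hJ : TwoComp J) (N : Subgroup (↥J ⧸ OJ J)) (hN : N.Normal) :
    N = ⊤ ∨ N ≤ Subgroup.center (↥J ⧸ OJ J) := by
  set N₀ := (N.comap (pr J)).map J.subtype with hN₀
  have hN₀J : N₀ ≤ J := Subgroup.map_subtype_le _
  have hJN₀ : J ≤ Subgroup.normalizer (N₀ : Set G) := by
    intro j hj
    haveI : (N.comap (pr J)).Normal := hN.comap _
    have h1 : (⟨j, hj⟩ : ↥J) ∈ Subgroup.normalizer ((N.comap (pr J) : Subgroup ↥J) : Set ↥J) := by
      rw [Subgroup.normalizer_eq_top]; exact Subgroup.mem_top _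
    exact map_mem_normalizer J.subtype h1
  rcases hJ.normal N₀ hN₀J hJN₀ with h | h
  · left
    rw [eq_top_iff]
    intro q _
    obtain ⟨j, rfl⟩ := pr_surjective J q
    have : (j : G) ∈ N₀ := by rw [h]; exact j.2
    obtain ⟨t, ht, htj⟩ := this
    have : t = j := Subtype.ext htj
    rw [← this]
    exact ht
  · right
    intro n hn
    rw [Subgroup.mem_center_iff]
    intro q
    obtain ⟨j, rfl⟩ := pr_surjective J q
    obtain ⟨m, rfl⟩ := pr_surjective J n
    have h1 : ⁅(m : G), (j : G)⁆ ∈ oc J :=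
      h (Subgroup.commutator_mem_commutator ⟨m, hn, rfl⟩ j.2)
    have h2 : pr J ⁅m, j⁆ = 1 := by
      rw [pr_eq_one_iff]
      exact h1
    rw [map_commutatorElement, commutatorElement_eq_one_iff_mul_comm] at h2
    exact h2.symm

theorem TwoComp.quot_ne (hJ : TwoComp J) : ∃ q : ↥J ⧸ OJ J, q ≠ 1 := by
  by_contra hc
  push Not at hc
  apply hJ.not_odd
  intro j hj
  have := hc (pr J ⟨j, hj⟩)
  rwa [pr_eq_one_iff] at this

/-- shrinking a `2`-component inside a subgroup covering it modulo the odd core -/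
theorem TwoComp.exists_sub {Y : Subgroup G} (hJ : TwoComp J) (hYJ : Y ≤ J)
    (hcov : J ≤ Y ⊔ oc J) : ∃ J₁, SubnIn J₁ Y ∧ TwoComp J₁ ∧ J ≤ J₁ ⊔ oc J := by
  obtain ⟨J₁, hJ₁Y, ⟨hsub, himg⟩, hmin⟩ :=
    exists_minimal_subgroup (fun X => SubnIn X Y ∧ img J X = ⊤) (X := Y)
      ⟨SubnIn.refl Y, (img_eq_top_iff hYJ).2 hcov⟩
  have hJ₁J : J₁ ≤ J := hJ₁Y.trans hYJ
  refine ⟨J₁, hsub, ?_, (img_eq_top_iff hJ₁J).1 himg⟩
  set ψ : ↥J₁ →* ↥J ⧸ OJ J := (pr J).comp (Subgroup.inclusion hJ₁J) with hψ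
  have himg' : ∀ N : Subgroup G, N ≤ J₁ → (N.subgroupOf J₁).map ψ = img J N := by
    intro N hN
    unfold img
    rw [hψ, ← Subgroup.map_map]
    congr 1
    ext x
    simp only [Subgroup.mem_map, Subgroup.mem_subgroupOf]
    constructor
    · rintro ⟨y, hy, rfl⟩
      exact hy
    · intro hx
      exact ⟨⟨(x : G), hN hx⟩, hx, rfl⟩
  have hsurj : Function.Surjective ψ := by
    intro q
    have h1 : q ∈ (J₁.subgroupOf J₁).map ψ := by
      rw [himg' J₁ le_rfl, himg]; exact Subgroup.mem_top q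
    obtain ⟨x, _, rfl⟩ := h1
    exact ⟨x, rfl⟩
  have hker : (Nat.card ψ.ker).Coprime 2 := by
    have h1 : ψ.ker.map J₁.subtype ≤ oc J := by
      rintro _ ⟨x, hx, rfl⟩
      rw [SetLike.mem_coe, MonoidHom.mem_ker, hψ, MonoidHom.comp_apply, pr_eq_one_iff] at hx
      exact hx
    rw [← Subgroup.card_map_of_injective (K := ψ.ker) J₁.subtype_injective]
    exact Nat.Coprime.coprime_dvd_left (Subgroup.card_dvd_of_le h1) (card_oc J)
  apply twoComp_of_hom ψ hsurj hker hJ.quot_perfect hJ.quot_gen hJ.quot_normal hJ.quot_ne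
  intro N hN hNimg
  have hNJ₁ : N ≤ J₁ := hN.le
  rw [himg' N hNJ₁] at hNimg
  exact hmin N ⟨hN.trans hsub, hNimg⟩ hNJ₁

end Cfsg.Agent.Lib.H23.LB
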