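import Mathlib
import Cfsg.Agent.Lib.H23.LB5
import Cfsg.Agent.Lib.H23.LB7
import Cfsg.Agent.Lib.H1.CoprimeAction

/-!
# L-balance (helper23), part 8: the main lemma. If `E` is normal in `G` with `O(E) = 1`, `R` is a
`2`-subgroup and `J` is a `2`-component of `C_G(R)`, then `J ≤ E C_G(E)`.
-/

set_option autoImplicit false
set_option linter.unusedSectionVars false
set_option linter.unusedVariables false
set_option linter.style.haveILetI false

open scoped commutatorElement

namespace Cfsg.Agent.Lib.H23.LB

universe u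
variable {G : Type u} [Group G]

theorem exists_mul_of_mem_sup {A B : Subgroup G} (hAB : A ≤ Subgroup.normalizer (B : Set G))
    {x : G} (hx : x ∈ A ⊔ B) : ∃ a ∈ A, ∃ b ∈ B, x = a * b := by
  let T : Subgroup G :=
    { carrier := {x | ∃ a ∈ A, ∃ b ∈ B, x = a * b}
      one_mem' := ⟨1, A.one_mem, 1, B.one_mem, by simp⟩
      mul_mem' := by
        rintro _ _ ⟨a, ha, b, hb, rfl⟩ ⟨a', ha', b', hb', rfl⟩
        refine ⟨a * a', A.mul_mem ha ha', a'⁻¹ * b * a' * b', B.mul_mem ?_ hb', by group⟩
        have := (Subgroup.mem_normalizer_iff.1 (hAB (A.inv_mem ha')) b).1 hb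
        rwa [inv_inv] at this
      inv_mem' := by
        rintro _ ⟨a, ha, b, hb, rfl⟩
        refine ⟨a⁻¹, A.inv_mem ha, a * b⁻¹ * a⁻¹, ?_, by group⟩
        exact (Subgroup.mem_normalizer_iff.1 (hAB ha) _).1 (B.inv_mem hb) }
  have hA : A ≤ T := fun a ha => ⟨a, ha, 1, B.one_mem, by simp⟩
  have hB : B ≤ T := fun b hb => ⟨1, A.one_mem, b, hb, by simp⟩
  exact sup_le hA hB hx

theorem centralizer_sup_eq (A B : Subgroup G) :
    Subgroup.centralizer ((A ⊔ B : Subgroup G) : Set G) =
      Subgroup.centralizer (A : Set G) ⊓ Subgroup.centralizer (B : Set G) := by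
  apply le_antisymm
  · exact le_inf (Subgroup.centralizer_le (SetLike.coe_subset_coe.2 le_sup_left))
      (Subgroup.centralizer_le (SetLike.coe_subset_coe.2 le_sup_right))
  · rintro c ⟨hA, hB⟩
    have h1 : A ≤ Subgroup.centralizer ((Subgroup.zpowers c : Subgroup G) : Set G) := by
      rw [Subgroup.le_centralizer_iff, Subgroup.zpowers_le]; exact hA
    have h2 : B ≤ Subgroup.centralizer ((Subgroup.zpowers c : Subgroup G) : Set G) := by
      rw [Subgroup.le_centralizer_iff, Subgroup.zpowers_le]; exact hB
    have h3 := sup_le h1 h2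
    rw [Subgroup.le_centralizer_iff, Subgroup.zpowers_le] at h3
    exact h3


theorem isPGroup_zpowers_of_pow {y : G} {k : ℕ} (hk : y ^ 2 ^ k = 1) :
    IsPGroup 2 (Subgroup.zpowers y) := by
  rintro ⟨g, hg⟩
  obtain ⟨i, rfl⟩ := Subgroup.mem_zpowers_iff.1 hg
  refine ⟨k, Subtype.ext ?_⟩
  rw [Subgroup.coe_pow, Subgroup.coe_one]
  show (y ^ i) ^ 2 ^ k = 1
  rw [← zpow_natCast, ← zpow_mul, mul_comm, zpow_mul, zpow_natCast, hk, one_zpow]

/-- **Main lemma.** -/
theorem ml_aux [Finite G] (E : Subgroup G) [hEn : E.Normal] (hOE : oc E = ⊥) :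
    ∀ n : ℕ, ∀ R J : Subgroup G, Nat.card E - Nat.card (R ⊓ E : Subgroup G) = n →
      IsPGroup 2 R → TwoComp J → SubnIn J (Subgroup.centralizer (R : Set G)) →
      J ≤ E ⊔ Subgroup.centralizer (E : Set G) := by
  intro n
  induction n using Nat.strong_induction_on with
  | _ n ih =>
    intro R J hn hR hJ hJC
    set F := E ⊔ Subgroup.centralizer (E : Set G) with hF
    set C := Subgroup.centralizer (R : Set G) with hC
    set S := R ⊓ E with hS
    have hEtop : ∀ x : G, x ∈ Subgroup.normalizer (E : Set G) := fun x => by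
      rw [Subgroup.normalizer_eq_top]; exact Subgroup.mem_top x
    by_cases hsyl : Syl2 S E
    · -- `R ∩ E` is a Sylow `2`-subgroup of `E`
      have hD : GData E S J :=
        { syl := hsyl
          norm := fun x _ => hEtop x
          cent := hJC.le.trans (Subgroup.centralizer_le (SetLike.coe_subset_coe.2 inf_le_left))
          perf := hJ.perf
          gen := hJ.gen }
      have h1 := gj hD
      refine le_trans ?_ (le_sup_right : Subgroup.centralizer (E : Set G) ≤ F)
      intro x hx
      rw [Subgroup.mem_centralizer_iff]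
      intro e he
      have := (mem_cstar.1 (h1 hx)).2 e he
      rw [hOE, Subgroup.mem_bot, commutatorElement_eq_one_iff_mul_comm] at this
      exact this.symm
    · -- enlarge `R`
      set K := R ⊔ E with hK
      obtain ⟨P₁, hRP, hP₁⟩ := Syl2.exists_ge (Q := R) (E := K) hR le_sup_left
      have hS₁ : Syl2 (P₁ ⊓ E) E := hP₁.inf_normal le_sup_right (fun x _ => hEtop x)
      have hSS₁ : S ≤ P₁ ⊓ E := inf_le_inf_right E hRP
      have hSne : S ≠ P₁ ⊓ E := fun h => hsyl (h ▸ hS₁)
      set R₂ := R ⊔ (P₁ ⊓ E) with hR₂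
      have hR₂P : R₂ ≤ P₁ := sup_le hRP inf_le_left
      have hR₂2 : IsPGroup 2 R₂ := hP₁.isPGroup.to_le hR₂P
      have hRlt : R < R₂ := by
        refine lt_of_le_of_ne le_sup_left ?_
        intro h
        apply hSne
        apply le_antisymm hSS₁
        have : P₁ ⊓ E ≤ R := by rw [h]; exact le_sup_right
        exact le_inf this inf_le_right
      have hgrow := Cfsg.Agent.Lib.H10.lt_inf_normalizer_of_lt hR₂2 hRlt
      obtain ⟨y', hy'mem, hy'R⟩ := SetLike.exists_of_lt hgrow
      have hRnorm : R ≤ Subgroup.normalizer ((P₁ ⊓ E : Subgroup G) : Set G) := fun r hr =>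
        mem_normalizer_inf (Subgroup.le_normalizer (hRP hr)) (hEtop r)
      obtain ⟨r, hr, y, hy, hy'eq⟩ := exists_mul_of_mem_sup hRnorm hy'mem.1
      have hyN : y ∈ Subgroup.normalizer (R : Set G) := by
        have : y = r⁻¹ * y' := by rw [hy'eq]; group
        rw [this]
        exact Subgroup.mul_mem _ (Subgroup.inv_mem _ (Subgroup.le_normalizer hr)) hy'mem.2
      have hyR : y ∉ R := by
        intro h
        apply hy'R
        rw [hy'eq]
        exact R.mul_mem hr h
      have hyE : y ∈ E := hy.2
      have hyP : y ∈ P₁ := hy.1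
      obtain ⟨ky, hky⟩ := hP₁.isPGroup ⟨y, hyP⟩
      have hky' : y ^ 2 ^ ky = 1 := by
        have := congrArg Subtype.val hky
        rwa [Subgroup.coe_pow] at this
      set A := Subgroup.zpowers y with hA
      have hAE : A ≤ E := by rw [hA, Subgroup.zpowers_le]; exact hyE
      have hAP : A ≤ P₁ := by rw [hA, Subgroup.zpowers_le]; exact hyP
      have hA2 : IsPGroup 2 A := isPGroup_zpowers_of_pow hky'
      set R₁ := R ⊔ A with hR₁
      have hR₁2 : IsPGroup 2 R₁ := hP₁.isPGroup.to_le (sup_le hRP hAP)
      have hlt : Nat.card E - Nat.card (R₁ ⊓ E : Subgroup G) < n := by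
        have h1 : S < R₁ ⊓ E := by
          refine lt_of_le_of_ne (inf_le_inf_right E le_sup_left) ?_
          intro h
          apply hyR
          have : y ∈ R₁ ⊓ E := ⟨(le_sup_right : A ≤ R ⊔ A) (Subgroup.mem_zpowers y), hyE⟩
          rw [← h] at this
          exact this.1
        have h2 := card_lt_of_lt h1
        have h3 : Nat.card (R₁ ⊓ E : Subgroup G) ≤ Nat.card E := Subgroup.card_le_of_le inf_le_right
        omega
      -- `y` normalizes `C`
      have hyC : y ∈ Subgroup.normalizer (C : Set G) := normalizer_le_normalizer_centralizer R hyN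
      have hCy : cj y C = C := cj_eq_of_mem_normalizer hyC
      have hJ' : TwoComp (cj y J) := hJ.cj y
      have hJ'C : SubnIn (cj y J) C := by
        have := hJC.cj y
        rwa [hCy] at this
      by_cases hJy : cj y J = J
      · -- `y` normalizes `J`
        have hyJ : y ∈ Subgroup.normalizer (J : Set G) :=
          Subgroup.mem_normalizer_iff_map_conj_eq.2 hJy
        have hAJ : A ≤ Subgroup.normalizer (J : Set G) := by
          rw [hA, Subgroup.zpowers_le]; exact hyJ
        set N := J ⊓ E with hN
        have hJN : J ≤ Subgroup.normalizer (N : Set G) := fun j hj =>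
          mem_normalizer_inf (Subgroup.le_normalizer hj) (hEtop j)
        rcases hJ.normal N inf_le_left hJN with h | h
        · have : J ≤ E := by rw [← h]; exact inf_le_right
          exact this.trans le_sup_left
        · have hJA : ⁅J, A⁆ ≤ oc J := by
            have h1 : ⁅J, A⁆ ≤ N := by
              rw [Subgroup.commutator_le]
              intro j hj a ha
              refine ⟨?_, ?_⟩
              · have e : ⁅j, a⁆ = j * (a * j⁻¹ * a⁻¹) := by rw [commutatorElement_def]; group
                rw [e]
                exact J.mul_mem hj ((Subgroup.mem_normalizer_iff.1 (hAJ ha) _).1 (J.inv_mem hj))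
              · rw [commutatorElement_def]
                exact E.mul_mem (hEn.conj_mem a (hAE ha) j) (E.inv_mem (hAE ha))
            have h2 : ⁅⁅J, A⁆, J⁆ ≤ oc J := (Subgroup.commutator_mono h1 le_rfl).trans h
            exact comm_le_of_perfect hJ.perf (le_normalizer_oc J)
              (hAJ.trans (normalizer_le_normalizer_oc J)) h2
          set Y := J ⊓ Subgroup.centralizer (A : Set G) with hY
          have hact : Cfsg.Agent.Lib.H1.CoprimeAction A (oc J) :=
            { normalizes := hAJ.trans (normalizer_le_normalizer_oc J)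
              coprime := by
                obtain ⟨k, hk⟩ := IsPGroup.iff_card.1 hA2
                rw [hk]
                exact (Nat.Coprime.pow_right k (card_oc J)).symm
              solvable := Or.inl (Group.isSolvable_of_comm (by
                rintro ⟨a, ha⟩ ⟨b, hb⟩
                apply Subtype.ext
                obtain ⟨i, rfl⟩ := Subgroup.mem_zpowers_iff.1 ha
                obtain ⟨j, rfl⟩ := Subgroup.mem_zpowers_iff.1 hb
                show y ^ i * y ^ j = y ^ j * y ^ i
                rw [← zpow_add, ← zpow_add, add_comm])) }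
          have hcov : J ≤ Y ⊔ oc J := by
            intro j hj
            obtain ⟨d, hd, hjd⟩ := Cfsg.Agent.Lib.H1.coprime_coset_fixed hact j (by
              intro a ha
              apply hJA
              have e : j⁻¹ * a * j * a⁻¹ = ⁅j⁻¹, a⁆ := by rw [commutatorElement_def]; group
              rw [e]
              exact Subgroup.commutator_mem_commutator (J.inv_mem hj) ha)
            have h1 : j * d ∈ Y := ⟨J.mul_mem hj (oc_le J hd), hjd⟩
            have h2 : j = (j * d) * d⁻¹ := by group
            rw [h2]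
            exact Subgroup.mul_mem _ (le_sup_left (a := Y) h1)
              (le_sup_right (a := Y) (Subgroup.inv_mem _ hd))
          obtain ⟨J₁, hJ₁Y, hJ₁, hJ₁cov⟩ := hJ.exists_sub inf_le_left hcov
          have hJ₁C : SubnIn J₁ (Subgroup.centralizer (R₁ : Set G)) := by
            rw [hR₁, centralizer_sup_eq]
            exact hJ₁Y.trans (hJC.inf _)
          have h3 := ih _ hlt R₁ J₁ rfl hR₁2 hJ₁ hJ₁C
          have h4 : J ≤ F ⊔ oc J := hJ₁cov.trans (sup_le_sup_right h3 _)
          exact hJ.gen.le_of_le_sup_odd (card_oc J) h4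
      · -- `J` and its conjugate commute modulo the odd core
        have hcomm : ⁅cj y J, J⁆ ≤ oc C := hJ'.comm_le_of_ne hJ hJ'C hJC hJy
        have hCO : C ≤ Subgroup.normalizer (oc C : Set G) := le_normalizer_oc C
        have h1 : J ≤ E ⊔ oc C := by
          rw [← hJ.perf, Subgroup.commutator_le]
          intro j₁ hj₁ j₂ hj₂
          set a := y * j₁⁻¹ * y⁻¹ with ha
          have haJ' : a ∈ cj y J := conj_mem_cj (J.inv_mem hj₁)
          have h2 : ⁅a, j₂⁆ ∈ oc C := hcomm (Subgroup.commutator_mem_commutator haJ' hj₂)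
          have h3 : j₁ * ⁅a, j₂⁆ * j₁⁻¹ ∈ oc C :=
            (Subgroup.mem_normalizer_iff.1 (hCO (hJC.le hj₁)) _).1 h2
          have h4 : j₁ * a ∈ E := by
            have e : j₁ * a = (j₁ * y * j₁⁻¹) * y⁻¹ := by rw [ha]; group
            rw [e]
            exact E.mul_mem (hEn.conj_mem y hyE j₁) (E.inv_mem hyE)
          have h5 : ⁅j₁ * a, j₂⁆ ∈ E := by
            rw [commutatorElement_def]
            have e : j₁ * a * j₂ * (j₁ * a)⁻¹ * j₂⁻¹ = (j₁ * a) * (j₂ * (j₁ * a)⁻¹ * j₂⁻¹) := by
              group
            rw [e]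
            exact E.mul_mem h4 (hEn.conj_mem _ (E.inv_mem h4) j₂)
          have h6 : ⁅j₁, j₂⁆ = (j₁ * ⁅a, j₂⁆ * j₁⁻¹)⁻¹ * ⁅j₁ * a, j₂⁆ := by
            simp only [commutatorElement_def]; group
          rw [h6]
          exact Subgroup.mul_mem _ (le_sup_right (a := E) (Subgroup.inv_mem _ h3))
            (le_sup_left (b := oc C) h5)
        exact (hJ.gen.le_of_le_sup_odd (card_oc C) h1).trans le_sup_left


/-- **Main lemma.** If `E` is normal in `G` with `O(E) = 1`, `R` is a `2`-subgroup of `G` and `J`
is a (subnormal) `2`-component of `C_G(R)`, then `J ≤ E C_G(E)`. -/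
theorem ml [Finite G] (E : Subgroup G) [E.Normal] (hOE : oc E = ⊥) {R J : Subgroup G}
    (hR : IsPGroup 2 R) (hJ : TwoComp J) (hJC : SubnIn J (Subgroup.centralizer (R : Set G))) :
    J ≤ E ⊔ Subgroup.centralizer (E : Set G) :=
  ml_aux E hOE _ R J rfl hR hJ hJC

end Cfsg.Agent.Lib.H23.LB
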