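import Mathlib
import Cfsg.Agent.Lib.H23.LB8
import Cfsg.Agent.Lib.H10.LBalance

/-!
# L-balance (helper23), part 9: from the `2`-components of the definitions to the intrinsic ones,
and the assembly: `L_{2'}(C_X(T)) ≤ L_{2'}(X)` for every `2`-subgroup `T`.
-/

set_option autoImplicit false
set_option linter.unusedSectionVars false
set_option linter.unusedVariables false
set_option linter.style.haveILetI false

open scoped commutatorElement

namespace Cfsg.Agent.Lib.H23.LB

open Cfsg Cfsg.Agent.Lib.H7

universe u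

/-- a perfect subgroup of `F*(G)` lies in `E(G)` -/
theorem le_layer_of_le_fstar {G : Type u} [Group G] [Finite G] {L : Subgroup G} (hL : ⁅L, L⁆ = L)
    (hF : L ≤ generalizedFittingSubgroup G) : L ≤ layer G := by
  set q := QuotientGroup.mk' (layer G) with hq
  set B : Subgroup (G ⧸ layer G) := (fittingSubgroup G).map q with hB
  have hBn : Group.IsNilpotent ↥B := by
    have := fittingSubgroup_isNilpotent (G := G)
    rw [hB]
    exact Group.nilpotent_of_surjective ((q.subgroupMap (fittingSubgroup G)))
      (q.subgroupMap_surjective (fittingSubgroup G))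
  have : Group.IsSolvable ↥B := inferInstance
  have hLB : ∀ x : ↥L, q (x : G) ∈ B := by
    intro x
    have hx := hF x.2
    unfold generalizedFittingSubgroup at hx
    obtain ⟨a, ha, b, hb, hab⟩ := Subgroup.mem_sup_of_normal_right.1
      ((sup_comm (layer G) (fittingSubgroup G)) ▸ hx)
    rw [← hab, map_mul]
    have : q b = 1 := by
      rw [hq, QuotientGroup.mk'_apply, QuotientGroup.eq_one_iff]; exact hb
    rw [this, mul_one]
    exact ⟨a, ha, rfl⟩
  set f : ↥L →* ↥B := (q.comp L.subtype).codRestrict B hLB with hf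
  intro g hg
  have h5 := Cfsg.Agent.Lib.H10.map_eq_one_of_perfect_of_solvable hL f ⟨g, hg⟩
  have h6 : q g = 1 := congrArg Subtype.val h5
  rw [hq, QuotientGroup.mk'_apply, QuotientGroup.eq_one_iff] at h6
  exact h6

/-- Mathlib subnormality of a subgroup of `↥C` gives relative subnormality in the ambient group -/
theorem subnIn_map_subtype {X : Type u} [Group X] {C : Subgroup X} {K : Subgroup ↥C}
    (h : K.IsSubnormal) : SubnIn (K.map C.subtype) C := by
  induction h with
  | top =>
    have : (⊤ : Subgroup ↥C).map C.subtype = C := by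
      rw [← MonoidHom.range_eq_map, C.range_subtype]
    rw [this]
    exact SubnIn.refl C
  | step H K' hle hsub hN ih =>
    refine SubnIn.step (Subgroup.map_mono hle) ?_ ih
    rintro _ ⟨k, hk, rfl⟩
    apply map_mem_normalizer
    have key : ∀ k ∈ K', ∀ h ∈ H, k * h * k⁻¹ ∈ H := by
      intro k hk h hh
      have := hN.conj_mem ⟨h, hle hh⟩ (Subgroup.mem_subgroupOf.2 hh) ⟨k, hk⟩
      exact Subgroup.mem_subgroupOf.1 this
    rw [Subgroup.mem_normalizer_iff]
    intro h
    constructor
    · exact key k hk h
    · intro hh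
      have := key k⁻¹ (K'.inv_mem hk) _ hh
      have e : k⁻¹ * (k * h * k⁻¹) * k⁻¹⁻¹ = h := by group
      rwa [e] at this

/-- a `2`-component in the sense of the definitions is an intrinsic `2`-component -/
theorem twoComp_of_isPComponent {Y : Type u} [Group Y] [Finite Y] {K : Subgroup Y}
    (hK : IsPComponent 2 K) : TwoComp K := by
  set O := pPrimeCore 2 Y with hO
  haveI hOn : O.Normal := Cfsg.Agent.Lib.H22.pPrimeCore_normal 2
  set π := QuotientGroup.mk' O with hπ
  refine ⟨isPComponent_commutator_self 2 hK, ?_, ?_, ?_⟩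
  · -- generated by `2`-elements
    have h1 := eq_pCompOver_of_isPComponent 2 hK
    intro y hy
    have hy' := hy
    rw [h1] at hy'
    unfold pCompOver pElementClosure at hy'
    refine Subgroup.closure_mono ?_ hy'
    rintro x ⟨hx, k, hk⟩
    refine ⟨?_, k, ?_⟩
    · rw [h1]
      exact mem_pElementClosure hx hk
    · rw [← hk]; exact pow_orderOf_eq_one x
  · -- normal subgroups
    intro N hNK hKN
    have hNsub : N.IsSubnormal :=
      Subgroup.IsSubnormal.step _ _ hNK hK.1 (Subgroup.normal_subgroupOf_of_le_normalizer hKN)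
    set Kb := K.map π with hKb
    have hKq : IsQuasisimple ↥Kb := hK.2.1.2
    set Nb : Subgroup ↥Kb := (N.map π).subgroupOf Kb with hNb
    haveI hNbn : Nb.Normal := by
      apply Subgroup.normal_subgroupOf_of_le_normalizer
      rintro _ ⟨k, hk, rfl⟩
      exact map_mem_normalizer π (hKN hk)
    rcases quasisimple_normal hKq Nb with h | h
    · left
      apply hK.2.2 N hNsub hNK
      apply le_antisymm (Subgroup.map_mono hNK)
      rw [hNb, Subgroup.subgroupOf_eq_top] at h
      exact h
    · right
      have h1 : ⁅N, K⁆ ≤ O := by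
        rw [Subgroup.commutator_le]
        intro n hn k hk
        have hnb : (⟨π n, ⟨n, hNK hn, rfl⟩⟩ : ↥Kb) ∈ Nb := by
          rw [hNb, Subgroup.mem_subgroupOf]
          exact ⟨n, hn, rfl⟩
        have h2 := Subgroup.mem_center_iff.1 (h hnb) ⟨π k, ⟨k, hk, rfl⟩⟩
        have h3 : π k * π n = π n * π k := congrArg Subtype.val h2
        have h4 : π ⁅n, k⁆ = 1 := by
          rw [map_commutatorElement, commutatorElement_eq_one_iff_mul_comm]
          exact h3.symm
        rwa [hπ, QuotientGroup.mk'_apply, QuotientGroup.eq_one_iff] at h4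
      have h2 : ⁅N, K⁆ ≤ K :=
        (Subgroup.commutator_mono hNK le_rfl).trans (Subgroup.commutator_le_self K)
      have h3 : K ⊓ O ≤ oc K := by
        apply le_oc inf_le_left
        · intro k hk
          apply mem_normalizer_inf (Subgroup.le_normalizer hk)
          rw [Subgroup.normalizer_eq_top]; exact Subgroup.mem_top k
        · exact Nat.Coprime.coprime_dvd_left (Subgroup.card_dvd_of_le inf_le_right)
            (Cfsg.Agent.Lib.H22.card_pPrimeCore_coprime 2)
      exact (le_inf h2 h1).trans h3
  · -- even order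
    intro hodd
    have h1 : 2 ∣ Nat.card K := dvd_card_of_isPComponent 2 hK
    have h2 : (Nat.card K).Coprime 2 :=
      Nat.Coprime.coprime_dvd_left (Subgroup.card_dvd_of_le hodd) (card_oc K)
    have h3 := Nat.Coprime.eq_one_of_dvd h2.symm h1
    norm_num at h3


/-- **`L_{2'}`-balance**: `L_{2'}(C_X(T)) ≤ L_{2'}(X)` for every `2`-subgroup `T` of `X`. -/
theorem pLayer_centralizer_le_pLayer {X : Type u} [Group X] [Finite X] (T : Subgroup X)
    (hT : IsPGroup 2 ↥T) :
    (pLayer 2 ↥(Subgroup.centralizer (T : Set X))).map (Subgroup.centralizer (T : Set X)).subtype ≤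
      pLayer 2 X := by
  set O := pPrimeCore 2 X with hOdef
  haveI hOn : O.Normal := Cfsg.Agent.Lib.H22.pPrimeCore_normal 2
  have hOc : (Nat.card O).Coprime 2 := Cfsg.Agent.Lib.H22.card_pPrimeCore_coprime 2
  set π := QuotientGroup.mk' O with hπ
  set Tb : Subgroup (X ⧸ O) := T.map π with hTb
  have hTbp : IsPGroup 2 ↥Tb := hT.map π
  set C := Subgroup.centralizer (T : Set X) with hC
  have hCmap : C.map π = Subgroup.centralizer (Tb : Set (X ⧸ O)) :=
    map_centralizer_of_coprime 2 hOc hT
  have hO' : pPrimeCore 2 (X ⧸ O) = ⊥ := Cfsg.Agent.Lib.H9.pPrimeCore_quotient_eq_bot 2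
  set L := pLayer 2 ↥C with hL
  set E := generalizedFittingSubgroup (X ⧸ O) with hE
  have hOE : oc E = ⊥ := by
    have hn : (oc E).Normal := by
      constructor
      intro n hn g
      have hg : g ∈ Subgroup.normalizer (E : Set (X ⧸ O)) := by
        rw [Subgroup.normalizer_eq_top]; exact Subgroup.mem_top g
      exact (Subgroup.mem_normalizer_iff.1 (normalizer_le_normalizer_oc E hg) n).1 hn
    have h1 := Cfsg.Agent.Lib.H22.le_pPrimeCore 2 (oc E) hn (card_oc E)
    rwa [hO', le_bot_iff] at h1
  have hcomp : ∀ K : Subgroup ↥C, IsPComponent 2 K → (K.map C.subtype).map π ≤ E := by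
    intro K hK
    have h1 : TwoComp K := twoComp_of_isPComponent hK
    have h2 : TwoComp (K.map C.subtype) :=
      h1.map C.subtype (by rw [C.ker_subtype, inf_bot_eq]; simp)
    have h3 : SubnIn (K.map C.subtype) C := subnIn_map_subtype hK.1
    have h4 : TwoComp ((K.map C.subtype).map π) := by
      apply h2.map π
      have : (K.map C.subtype ⊓ π.ker : Subgroup X) ≤ O := by
        rw [hπ, QuotientGroup.ker_mk']; exact inf_le_right
      exact Nat.Coprime.coprime_dvd_left (Subgroup.card_dvd_of_le this) hOc
    have h5 : SubnIn ((K.map C.subtype).map π) (Subgroup.centralizer (Tb : Set (X ⧸ O))) :=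
      hCmap ▸ h3.map π
    have h6 := ml E hOE hTbp h4 h5
    exact h6.trans (sup_le le_rfl centralizer_generalizedFittingSubgroup_le)
  set L' : Subgroup (X ⧸ O) := (L.map C.subtype).map π with hL'
  have hL'F : L' ≤ E := by
    rw [hL', Subgroup.map_le_iff_le_comap, Subgroup.map_le_iff_le_comap]
    apply sSup_le
    intro K hK
    rw [← Subgroup.map_le_iff_le_comap, ← Subgroup.map_le_iff_le_comap]
    exact hcomp K hK
  have hL'perf : ⁅L', L'⁆ = L' := by
    rw [hL', ← Subgroup.map_commutator, ← Subgroup.map_commutator,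
      Cfsg.Agent.Lib.H10.pLayer_commutator_self]
  have hlay : L' ≤ layer (X ⧸ O) := le_layer_of_le_fstar hL'perf hL'F
  have hpre : L.map C.subtype ≤ pPrimeLayerPre 2 X := by
    rw [← Subgroup.map_le_iff_le_comap]; exact hlay
  have hgen := Cfsg.Agent.Lib.H10.pLayer_le_closure (X := ↥C) 2
  calc L.map C.subtype
      ≤ (Subgroup.closure {x : ↥C | x ∈ pLayer 2 ↥C ∧ ∃ k : ℕ, orderOf x = 2 ^ k}).map C.subtype :=
        Subgroup.map_mono hgen
    _ ≤ pLayer 2 X := by
        rw [MonoidHom.map_closure, Subgroup.closure_le]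
        rintro _ ⟨x, ⟨hx, k, hk⟩, rfl⟩
        have h1 : orderOf (C.subtype x) = 2 ^ k := by
          rw [← hk]; exact orderOf_injective C.subtype C.subtype_injective x
        exact Cfsg.Agent.Lib.H10.mem_pLayer_of_orderOf h1 (hpre ⟨x, hx, rfl⟩)

end Cfsg.Agent.Lib.H23.LB
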