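import Mathlib
import Cfsg.Agent.Lib.H23.LB9

/-!
# Components of involution centralizers (helper23), part 1: intrinsic quasisimple subgroups.

`QComp J` says that the subgroup `J` of the ambient group is perfect, nontrivial, and that every
proper subgroup of `J` normalized by `J` is centralized by `J` (so `J` is quasisimple). We prove the
basic lemma on components in relative form: a quasisimple subnormal subgroup of `C` is contained in
or centralizes every subnormal subgroup of `C`.
-/

set_option autoImplicit false
set_option linter.unusedSectionVars false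
set_option linter.unusedVariables false
set_option linter.style.haveILetI false

open scoped commutatorElement

namespace Cfsg.Agent.Lib.H23.CT

open Cfsg Cfsg.Agent.Lib.H7 Cfsg.Agent.Lib.H23.LB

universe u
variable {G : Type u} [Group G]

/-- an intrinsic quasisimple subgroup -/
structure QComp (J : Subgroup G) : Prop where
  perf : ⁅J, J⁆ = J
  ne : J ≠ ⊥
  normal : ∀ N : Subgroup G, N ≤ J → J ≤ Subgroup.normalizer (N : Set G) → N = J ∨ ⁅N, J⁆ = ⊥

theorem QComp.not_comm {J : Subgroup G} (hJ : QComp J) : ⁅J, J⁆ ≠ ⊥ := by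
  rw [hJ.perf]; exact hJ.ne

theorem QComp.not_le_centralizer {J : Subgroup G} (hJ : QComp J) :
    ¬ J ≤ Subgroup.centralizer (J : Set G) := by
  intro h
  exact hJ.not_comm (Subgroup.commutator_eq_bot_iff_le_centralizer.2 h)

/-- a quasisimple subgroup in the sense of the definitions is intrinsically quasisimple -/
theorem QComp.of_isQuasisimple {J : Subgroup G} (h : IsQuasisimple ↥J) : QComp J := by
  have hperf : ⁅J, J⁆ = J := Subgroup.isPerfect_iff.1 h.1
  refine ⟨hperf, ?_, ?_⟩
  · have := quasisimple_nontrivial h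
    exact (Subgroup.nontrivial_iff_ne_bot J).1 this
  · intro N hNJ hJN
    haveI : (N.subgroupOf J).Normal := Subgroup.normal_subgroupOf_of_le_normalizer hJN
    rcases quasisimple_normal h (N.subgroupOf J) with h1 | h1
    · left
      exact le_antisymm hNJ (Subgroup.subgroupOf_eq_top.1 h1)
    · right
      rw [Subgroup.commutator_eq_bot_iff_le_centralizer]
      intro n hn
      rw [Subgroup.mem_centralizer_iff]
      intro j hj
      have h2 : (⟨n, hNJ hn⟩ : ↥J) ∈ Subgroup.center ↥J := h1 (Subgroup.mem_subgroupOf.2 hn)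
      have h3 := Subgroup.mem_center_iff.1 h2 ⟨j, hj⟩
      exact congrArg Subtype.val h3

/-- a proper subnormal subgroup of a quasisimple subgroup is central -/
theorem QComp.eq_or_comm {J M : Subgroup G} (hJ : QComp J) (hM : SubnIn M J) :
    M = J ∨ ⁅M, J⁆ = ⊥ := by
  rcases hM.exists_normal with h | ⟨X, hMX, hXJ, hne, hn, -⟩
  · exact Or.inl h
  · rcases hJ.normal X hXJ hn with h | h
    · exact absurd h hne
    · right
      rw [eq_bot_iff, ← h]
      exact Subgroup.commutator_mono hMX le_rfl

theorem comm_eq_bot_of_perfect {J M : Subgroup G} (hJ : ⁅J, J⁆ = J)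
    (h : ⁅⁅J, M⁆, J⁆ = ⊥) : ⁅J, M⁆ = ⊥ := by
  have h1 : ⁅⁅M, J⁆, J⁆ = ⊥ := by rwa [Subgroup.commutator_comm M J]
  have h2 : ⁅⁅J, J⁆, M⁆ = ⊥ := Subgroup.commutator_commutator_eq_bot_of_rotate h h1
  rwa [hJ] at h2

/-- **the basic lemma on components, relative form** -/
theorem QComp.le_or_comm_aux [Finite G] : ∀ n : ℕ, ∀ J M C : Subgroup G, Nat.card C = n →
    QComp J → SubnIn J C → SubnIn M C → J ≤ M ∨ ⁅J, M⁆ = ⊥ := by
  intro n
  induction n using Nat.strong_induction_on with
  | _ n ih =>
    intro J M C hn hJ hJC hMC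
    rcases hJC.exists_normal with rfl | ⟨X, hJX, hXC, hXne, hCX, hJX'⟩
    · rcases hJ.eq_or_comm hMC with h | h
      · exact Or.inl h.ge
      · exact Or.inr (by rwa [Subgroup.commutator_comm])
    · rcases hMC.exists_normal with rfl | ⟨Y, hMY, hYC, hYne, hCY, hMY'⟩
      · exact Or.inl hJC.le
      · have hXlt : Nat.card X < n := hn ▸ card_lt_of_lt (lt_of_le_of_ne hXC hXne)
        have hYlt : Nat.card Y < n := hn ▸ card_lt_of_lt (lt_of_le_of_ne hYC hYne)
        set D := X ⊓ Y with hD
        have hDX : SubnIn D X :=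
          SubnIn.of_normal inf_le_left (fun x hx => mem_normalizer_inf (hCX (hXC hx)) (hCY (hXC hx)))
        rcases ih _ hXlt J D X rfl hJ hJX' hDX with h | h
        · have hJY : J ≤ Y := h.trans inf_le_right
          rcases ih _ hYlt J M Y rfl hJ (hJC.of_le hJY hYC) hMY' with h' | h'
          · exact Or.inl h'
          · exact Or.inr h'
        · right
          have h2 : ⁅J, M⁆ ≤ D :=
            (Subgroup.commutator_mono hJX hMY).trans
              (comm_le_inf_of_normal (hXC.trans hCY) (hYC.trans hCX))
          have h3 : ⁅⁅J, M⁆, J⁆ = ⊥ := by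
            rw [eq_bot_iff, ← h, Subgroup.commutator_comm J D]
            exact Subgroup.commutator_mono h2 le_rfl
          exact comm_eq_bot_of_perfect hJ.perf h3

theorem QComp.le_or_comm [Finite G] {J M C : Subgroup G} (hJ : QComp J)
    (hJC : SubnIn J C) (hMC : SubnIn M C) : J ≤ M ∨ ⁅J, M⁆ = ⊥ :=
  QComp.le_or_comm_aux _ J M C rfl hJ hJC hMC

/-- the image of a quasisimple subgroup under a homomorphism is quasisimple, if nontrivial -/
theorem QComp.map {G' : Type*} [Group G'] (f : G →* G') {J : Subgroup G} (hJ : QComp J)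
    (hne : J.map f ≠ ⊥) : QComp (J.map f) where
  perf := by rw [← Subgroup.map_commutator, hJ.perf]
  ne := hne
  normal := by
    intro Nb hNb hn
    set N := J ⊓ Nb.comap f with hN
    have hNJ : N ≤ J := inf_le_left
    have hJN : J ≤ Subgroup.normalizer (N : Set G) := by
      intro j hj
      apply mem_normalizer_inf (Subgroup.le_normalizer hj)
      exact Subgroup.le_normalizer_comap f (Subgroup.mem_comap.2 (hn ⟨j, hj, rfl⟩))
    have hmap : N.map f = Nb := by
      apply le_antisymm
      · rintro _ ⟨x, hx, rfl⟩; exact hx.2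
      · intro y hy
        obtain ⟨x, hx, rfl⟩ := hNb hy
        exact ⟨x, ⟨hx, hy⟩, rfl⟩
    rcases hJ.normal N hNJ hJN with h | h
    · left; rw [← hmap, h]
    · right
      rw [← hmap, ← Subgroup.map_commutator, h, Subgroup.map_bot]

/-- `⊤` is intrinsically quasisimple in a quasisimple group -/
theorem QComp.top_of_isQuasisimple {Q : Type*} [Group Q] (h : IsQuasisimple Q) :
    QComp (⊤ : Subgroup Q) := by
  have hperf : ⁅(⊤ : Subgroup Q), (⊤ : Subgroup Q)⁆ = (⊤ : Subgroup Q) := by
    have := h.1.commutator_eq_top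
    rw [commutator_def] at this
    exact this
  refine ⟨hperf, ?_, ?_⟩
  · have := quasisimple_nontrivial h
    exact top_ne_bot
  · intro N _ hJN
    haveI : N.Normal := by
      rw [← Subgroup.normalizer_eq_top_iff]
      exact top_le_iff.1 hJN
    rcases quasisimple_normal h N with h1 | h1
    · exact Or.inl h1
    · right
      rw [Subgroup.commutator_eq_bot_iff_le_centralizer]
      intro n hn
      rw [Subgroup.mem_centralizer_iff]
      intro j _
      exact Subgroup.mem_center_iff.1 (h1 hn) j

/-- relative subnormality gives Mathlib subnormality in the subtype -/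
theorem isSubnormal_subgroupOf_of_subnIn {J C : Subgroup G} (h : SubnIn J C) :
    (J.subgroupOf C).IsSubnormal := by
  induction h with
  | refl C =>
    rw [Subgroup.subgroupOf_self]
    exact Subgroup.IsSubnormal.top
  | @step J M C h1 h2 h3 ih =>
    have hle : J.subgroupOf C ≤ M.subgroupOf C := fun x hx => h1 hx
    refine Subgroup.IsSubnormal.step _ _ hle ih ?_
    constructor
    intro n hn g
    rw [Subgroup.mem_subgroupOf] at hn ⊢
    rw [Subgroup.mem_subgroupOf] at hn ⊢
    have hg : ((g : ↥C) : G) ∈ M := Subgroup.mem_subgroupOf.1 g.2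
    have := (Subgroup.mem_normalizer_iff.1 (h2 hg) ((n : ↥C) : G)).1 hn
    simpa using this

end Cfsg.Agent.Lib.H23.CT
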