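import Mathlib
import Cfsg.Agent.Lib.H23.CT1
import Cfsg.Agent.Lib.H7.PComponent3

/-!
# Components of involution centralizers (helper23), part 2: from components to `2`-components and
back, and the consequence of `L`-balance: under the `B`-property a component of even order of the
centralizer of an involution lies in the layer.
-/

set_option autoImplicit false
set_option linter.unusedSectionVars false
set_option linter.unusedVariables false
set_option linter.style.haveILetI false

open scoped commutatorElement

namespace Cfsg.Agent.Lib.H23.CT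

open Cfsg Cfsg.Agent.Lib.H7 Cfsg.Agent.Lib.H23.LB

universe u

/-- relative subnormality restricts to a subgroup viewed as a group -/
theorem subnIn_subgroupOf {G : Type u} [Group G] {J C : Subgroup G} (h : SubnIn J C)
    (H : Subgroup G) : SubnIn (J.subgroupOf H) (C.subgroupOf H) := by
  induction h with
  | refl C => exact SubnIn.refl _
  | @step J M C h1 h2 h3 ih =>
    refine SubnIn.step (fun x hx => h1 hx) ?_ ih
    intro m hm
    rw [Subgroup.mem_subgroupOf] at hm
    have hm' := h2 hm
    rw [Subgroup.mem_normalizer_iff] at hm' ⊢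
    intro x
    rw [Subgroup.mem_subgroupOf, Subgroup.mem_subgroupOf, hm' (x : G)]
    simp

/-- a component of order divisible by `p` is a `p`-component -/
theorem isPComponent_of_isComponent {Y : Type u} [Group Y] [Finite Y] (p : ℕ) [hp : Fact p.Prime]
    {K : Subgroup Y} (hK : IsComponent K) (hdvd : p ∣ Nat.card K) : IsPComponent p K := by
  set O := pPrimeCore p Y with hO
  haveI hOn : O.Normal := Cfsg.Agent.Lib.H22.pPrimeCore_normal p
  set π := QuotientGroup.mk' O with hπ
  have hπs : Function.Surjective π := QuotientGroup.mk'_surjective O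
  have hne : K.map π ≠ ⊥ := by
    intro h0
    have h1 : K ≤ O := by
      intro k hk
      have : π k ∈ K.map π := ⟨k, hk, rfl⟩
      rw [h0, Subgroup.mem_bot, hπ, QuotientGroup.mk'_apply, QuotientGroup.eq_one_iff] at this
      exact this
    have h2 : (Nat.card K).Coprime p :=
      Nat.Coprime.coprime_dvd_left (Subgroup.card_dvd_of_le h1)
        (Cfsg.Agent.Lib.H22.card_pPrimeCore_coprime p)
    have h3 := Nat.Coprime.eq_one_of_dvd h2.symm hdvd
    exact hp.out.one_lt.ne' h3
  have hcomp : IsComponent (K.map π) := by
    refine ⟨hK.1.map hπs, ?_⟩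
    apply quasisimple_of_surjective hK.2 (π.subgroupMap K) (π.subgroupMap_surjective K)
    exact (Subgroup.nontrivial_iff_ne_bot _).2 hne
  refine ⟨hK.1, hcomp, ?_⟩
  intro H hH hHK hmap
  rcases quasisimple_subnormal hK.2 (H.subgroupOf K) hH.subgroupOf with h1 | h1
  · exact le_antisymm hHK (Subgroup.subgroupOf_eq_top.1 h1)
  · exfalso
    apply component_not_solvable hcomp
    have hc : ∀ x y : ↥(K.map π), x * y = y * x := by
      rintro ⟨x, hx⟩ ⟨y, hy⟩
      rw [← hmap] at hx hy
      obtain ⟨a, ha, rfl⟩ := hx
      obtain ⟨b, hb, rfl⟩ := hy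
      apply Subtype.ext
      change π a * π b = π b * π a
      have ha' : (⟨a, hHK ha⟩ : ↥K) ∈ Subgroup.center ↥K := h1 (Subgroup.mem_subgroupOf.2 ha)
      have := Subgroup.mem_center_iff.1 ha' ⟨b, hHK hb⟩
      have h2 : b * a = a * b := congrArg Subtype.val this
      rw [← map_mul, ← map_mul, h2]
    exact Group.isSolvable_of_comm hc

/-- if `O(X)` centralizes the `2`-layer then every `2`-component is a component -/
theorem pLayer_le_layer_of_comm {X : Type u} [Group X] [Finite X]
    (h : ⁅pLayer 2 X, oddCore X⁆ = ⊥) : pLayer 2 X ≤ layer X := by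
  haveI : Fact (Nat.Prime 2) := ⟨Nat.prime_two⟩
  apply sSup_le
  intro J hJ
  have hJ' : IsPComponent 2 J := hJ
  have hJL : J ≤ pLayer 2 X := isPComponent_le_pLayer 2 hJ'
  have hc : ⁅J, (pPrimeCore 2 ↥J).map J.subtype⁆ = ⊥ := by
    rw [eq_bot_iff, ← h, map_pPrimeCore_of_isSubnormal 2 hJ'.1]
    exact Subgroup.commutator_mono hJL inf_le_left
  have hq : IsQuasisimple ↥J := quasisimple_of_commutator_pPrimeCore_eq_bot 2 hJ' hc
  exact component_le_layer ⟨hJ'.1, hq⟩

theorem centralizer_zpowers_eq {X : Type u} [Group X] (a : X) :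
    Subgroup.centralizer ((Subgroup.zpowers a : Subgroup X) : Set X) =
      Subgroup.centralizer ({a} : Set X) := by
  apply le_antisymm
  · apply Subgroup.centralizer_le
    intro x hx
    rw [Set.mem_singleton_iff] at hx
    rw [hx]
    exact Subgroup.mem_zpowers a
  · intro x hx
    rw [Subgroup.mem_centralizer_iff] at hx ⊢
    rintro _ ⟨n, rfl⟩
    have h1 : Commute a x := hx a rfl
    exact (h1.zpow_left n).eq

/-- **consequence of `L`-balance**: under the `B`-property, a component of even order of the
centralizer of an involution lies in the layer. -/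
theorem le_layer_of_component_centralizer {X : Type u} [Group X] [Finite X]
    (hBX : ⁅pLayer 2 X, oddCore X⁆ = ⊥) {a : X} (ha : a * a = 1) {K : Subgroup X}
    (hKa : K ≤ Subgroup.centralizer ({a} : Set X))
    (hK : IsComponent (K.subgroupOf (Subgroup.centralizer ({a} : Set X))))
    (heven : 2 ∣ Nat.card K) : K ≤ layer X := by
  haveI : Fact (Nat.Prime 2) := ⟨Nat.prime_two⟩
  set T := Subgroup.zpowers a with hT
  have hTp : IsPGroup 2 ↥T := isPGroup_zpowers_of_pow (k := 1) (by rw [pow_one, pow_two, ha])
  have hCeq : Subgroup.centralizer ((T : Subgroup X) : Set X) = Subgroup.centralizer ({a} : Set X) :=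
    centralizer_zpowers_eq a
  rw [← hCeq] at hK hKa
  set C := Subgroup.centralizer ((T : Subgroup X) : Set X) with hC
  have hcard : Nat.card (K.subgroupOf C) = Nat.card K :=
    Nat.card_congr (Subgroup.subgroupOfEquivOfLe hKa).toEquiv
  have hP : IsPComponent 2 (K.subgroupOf C) :=
    isPComponent_of_isComponent 2 hK (by rw [hcard]; exact heven)
  have h1 : K.subgroupOf C ≤ pLayer 2 ↥C := isPComponent_le_pLayer 2 hP
  have h2 := pLayer_centralizer_le_pLayer T hTp
  have h3 : K ≤ pLayer 2 X := by
    have := (Subgroup.map_mono h1).trans h2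
    rwa [Subgroup.map_subgroupOf_eq_of_le hKa] at this
  exact h3.trans (pLayer_le_layer_of_comm hBX)

end Cfsg.Agent.Lib.H23.CT
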