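import Mathlib
import Cfsg.Agent.Lib.H23.CT2

/-!
# Components of involution centralizers (helper23), part 3: a quasisimple subnormal subgroup of
`C_X(a)` inside a central product `M * N` of two `a`-invariant factors lies in one of the factors.
-/

set_option autoImplicit false
set_option linter.unusedSectionVars false
set_option linter.unusedVariables false
set_option linter.style.haveILetI false

open scoped commutatorElement

namespace Cfsg.Agent.Lib.H23.CT

open Cfsg Cfsg.Agent.Lib.H7 Cfsg.Agent.Lib.H23.LB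

universe u
variable {G : Type u} [Group G]

theorem commutatorElement_mul_left_of_commute {x z u : G} (hzx : Commute z x) (hzu : Commute z u) :
    ⁅x * z, u⁆ = ⁅x, u⁆ := by
  rw [commutatorElement_def, commutatorElement_def]
  have h1 : z * u * z⁻¹ = u := by rw [hzu.eq, mul_inv_cancel_right]
  calc x * z * u * (x * z)⁻¹ * u⁻¹ = x * (z * u * z⁻¹) * x⁻¹ * u⁻¹ := by group
    _ = x * u * x⁻¹ * u⁻¹ := by rw [h1]

theorem commutatorElement_mul_right_of_commute {x y w : G} (hwx : Commute w x) (hwy : Commute w y) :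
    ⁅x, y * w⁆ = ⁅x, y⁆ := by
  rw [commutatorElement_def, commutatorElement_def]
  have h1 : w * x⁻¹ * w⁻¹ = x⁻¹ := by rw [(hwx.inv_right).eq, mul_inv_cancel_right]
  calc x * (y * w) * x⁻¹ * (y * w)⁻¹ = x * y * (w * x⁻¹ * w⁻¹) * y⁻¹ := by group
    _ = x * y * x⁻¹ * y⁻¹ := by rw [h1]

theorem commutatorElement_mul_mul_of_commute {x y z w : G} (hzx : Commute z x) (hzy : Commute z y)
    (hzw : Commute z w) (hwx : Commute w x) (hwy : Commute w y) : ⁅x * z, y * w⁆ = ⁅x, y⁆ := by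
  rw [commutatorElement_mul_left_of_commute hzx (hzy.mul_right hzw),
    commutatorElement_mul_right_of_commute hwx hwy]

/-- commutator of products of commuting pairs -/
theorem commutatorElement_mul_mul_of_commute' {m m' n n' : G} (h1 : Commute m n')
    (h2 : Commute n m') (h3 : Commute n m) (h4 : Commute n' m') :
    ⁅m * n, m' * n'⁆ = ⁅m, m'⁆ * ⁅n, n'⁆ := by
  rw [commutatorElement_def, commutatorElement_def, commutatorElement_def]
  have e1 : n * m' = m' * n := h2.eq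
  have e2 : n' * m⁻¹ = m⁻¹ * n' := (h1.symm.inv_right).eq
  have e3 : n⁻¹ * m⁻¹ = m⁻¹ * n⁻¹ := (h3.inv_left.inv_right).eq
  have e4 : n'⁻¹ * m'⁻¹ = m'⁻¹ * n'⁻¹ := (h4.inv_left.inv_right).eq
  have e5 : n * m⁻¹ = m⁻¹ * n := (h3.inv_right).eq
  have e6 : n' * m'⁻¹ = m'⁻¹ * n' := (h4.inv_right).eq
  have e7 : n⁻¹ * m'⁻¹ = m'⁻¹ * n⁻¹ := (h2.inv_left.inv_right).eq
  calc m * n * (m' * n') * (m * n)⁻¹ * (m' * n')⁻¹
      = m * (n * m') * n' * (n⁻¹ * m⁻¹) * (n'⁻¹ * m'⁻¹) := by group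
    _ = m * (m' * n) * n' * (m⁻¹ * n⁻¹) * (m'⁻¹ * n'⁻¹) := by rw [e1, e3, e4]
    _ = m * m' * n * (n' * m⁻¹) * n⁻¹ * m'⁻¹ * n'⁻¹ := by group
    _ = m * m' * n * (m⁻¹ * n') * n⁻¹ * m'⁻¹ * n'⁻¹ := by rw [e2]
    _ = m * m' * (n * m⁻¹) * n' * n⁻¹ * m'⁻¹ * n'⁻¹ := by group
    _ = m * m' * (m⁻¹ * n) * n' * n⁻¹ * m'⁻¹ * n'⁻¹ := by rw [e5]
    _ = m * m' * m⁻¹ * n * n' * (n⁻¹ * m'⁻¹) * n'⁻¹ := by group
    _ = m * m' * m⁻¹ * n * n' * (m'⁻¹ * n⁻¹) * n'⁻¹ := by rw [e7]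
    _ = m * m' * m⁻¹ * n * (n' * m'⁻¹) * n⁻¹ * n'⁻¹ := by group
    _ = m * m' * m⁻¹ * n * (m'⁻¹ * n') * n⁻¹ * n'⁻¹ := by rw [e6]
    _ = m * m' * m⁻¹ * (n * m'⁻¹) * n' * n⁻¹ * n'⁻¹ := by group
    _ = m * m' * m⁻¹ * (m'⁻¹ * n) * n' * n⁻¹ * n'⁻¹ := by rw [(h2.inv_right).eq]
    _ = m * m' * m⁻¹ * m'⁻¹ * (n * n' * n⁻¹ * n'⁻¹) := by group

theorem conj_mem_of_cj_le {a : G} {M : Subgroup G} (h : cj a M ≤ M) {m : G} (hm : m ∈ M) :
    a * m * a⁻¹ ∈ M := h (conj_mem_cj hm)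

section central

variable {a : G} {M N : Subgroup G}

/-- In a central product `M * N` of `a`-invariant factors, the derived group of the centralizer of
`a` is generated by its intersections with the two factors. -/
theorem commutator_centralizer_le (hMN : M ≤ Subgroup.centralizer (N : Set G))
    (haM : cj a M ≤ M) (haN : cj a N ≤ N) :
    ⁅(M ⊔ N) ⊓ Subgroup.centralizer ({a} : Set G), (M ⊔ N) ⊓ Subgroup.centralizer ({a} : Set G)⁆ ≤
      ((M ⊔ N) ⊓ Subgroup.centralizer ({a} : Set G) ⊓ M) ⊔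
        ((M ⊔ N) ⊓ Subgroup.centralizer ({a} : Set G) ⊓ N) := by
  set C := Subgroup.centralizer ({a} : Set G) with hC
  have hcomm : ∀ m ∈ M, ∀ n ∈ N, Commute n m := by
    intro m hm n hn
    exact Subgroup.mem_centralizer_iff.1 (hMN hm) n hn
  have hMnorm : M ≤ Subgroup.normalizer (N : Set G) :=
    hMN.trans (Subgroup.centralizer_le_normalizer _)
  -- the key computation
  have key : ∀ y ∈ (M ⊔ N) ⊓ C, ∃ m ∈ M, ∃ n ∈ N, y = m * n ∧
      (∃ z ∈ M ⊓ N, a * m * a⁻¹ = m * z) ∧ (∃ z ∈ M ⊓ N, a * n * a⁻¹ = n * z) := by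
    intro y hy
    obtain ⟨m, hm, n, hn, rfl⟩ := exists_mul_of_mem_sup hMnorm hy.1
    refine ⟨m, hm, n, hn, rfl, ?_, ?_⟩
    · have hfix : a * (m * n) * a⁻¹ = m * n := by
        have := Subgroup.mem_centralizer_iff.1 hy.2 a rfl
        rw [this, mul_inv_cancel_right]
      have hma : a * m * a⁻¹ ∈ M := conj_mem_of_cj_le haM hm
      have hna : a * n * a⁻¹ ∈ N := conj_mem_of_cj_le haN hn
      have e : m⁻¹ * (a * m * a⁻¹) = n * (a * n * a⁻¹)⁻¹ := by
        have h1 : (a * m * a⁻¹) * (a * n * a⁻¹) = m * n := by rw [← hfix]; group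
        calc m⁻¹ * (a * m * a⁻¹) = m⁻¹ * ((a * m * a⁻¹) * (a * n * a⁻¹)) * (a * n * a⁻¹)⁻¹ := by
              group
          _ = m⁻¹ * (m * n) * (a * n * a⁻¹)⁻¹ := by rw [h1]
          _ = n * (a * n * a⁻¹)⁻¹ := by group
      refine ⟨m⁻¹ * (a * m * a⁻¹), ⟨M.mul_mem (M.inv_mem hm) hma, ?_⟩, by group⟩
      rw [e]
      exact N.mul_mem hn (N.inv_mem hna)
    · have hfix : a * (m * n) * a⁻¹ = m * n := by
        have := Subgroup.mem_centralizer_iff.1 hy.2 a rfl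
        rw [this, mul_inv_cancel_right]
      have hma : a * m * a⁻¹ ∈ M := conj_mem_of_cj_le haM hm
      have hna : a * n * a⁻¹ ∈ N := conj_mem_of_cj_le haN hn
      have e : n⁻¹ * (a * n * a⁻¹) = (a * m * a⁻¹)⁻¹ * m := by
        have h1 : (a * m * a⁻¹) * (a * n * a⁻¹) = m * n := by rw [← hfix]; group
        have h2 : m * n = n * m := ((hcomm m hm n hn).eq).symm
        calc n⁻¹ * (a * n * a⁻¹) = n⁻¹ * (a * m * a⁻¹)⁻¹ * ((a * m * a⁻¹) * (a * n * a⁻¹)) := by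
              group
          _ = n⁻¹ * (a * m * a⁻¹)⁻¹ * (n * m) := by rw [h1, h2]
          _ = (n⁻¹ * (a * m * a⁻¹)⁻¹ * n) * m := by group
          _ = (a * m * a⁻¹)⁻¹ * m := by
              have := (hcomm _ (M.inv_mem hma) n hn).eq
              rw [mul_assoc n⁻¹, ← this, inv_mul_cancel_left]
      refine ⟨n⁻¹ * (a * n * a⁻¹), ⟨?_, N.mul_mem (N.inv_mem hn) hna⟩, by group⟩
      rw [e]
      exact M.mul_mem (M.inv_mem hma) hm
  rw [Subgroup.commutator_le]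
  intro y hy y' hy'
  obtain ⟨m, hm, n, hn, rfl, ⟨z, hz, hzm⟩, ⟨w, hw, hwn⟩⟩ := key y hy
  obtain ⟨m', hm', n', hn', rfl, ⟨z', hz', hzm'⟩, ⟨w', hw', hwn'⟩⟩ := key y' hy'
  have e : ⁅m * n, m' * n'⁆ = ⁅m, m'⁆ * ⁅n, n'⁆ :=
    commutatorElement_mul_mul_of_commute' (hcomm m hm n' hn').symm (hcomm m' hm' n hn)
      (hcomm m hm n hn) (hcomm m' hm' n' hn')
  rw [e]
  -- `⁅m, m'⁆` is fixed by `a`
  have hfixM : a * ⁅m, m'⁆ * a⁻¹ = ⁅m, m'⁆ := by
    have h1 : a * ⁅m, m'⁆ * a⁻¹ = ⁅a * m * a⁻¹, a * m' * a⁻¹⁆ := by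
      rw [commutatorElement_def, commutatorElement_def]; group
    rw [h1, hzm, hzm']
    apply commutatorElement_mul_mul_of_commute
    · exact hcomm m hm z hz.2
    · exact hcomm m' hm' z hz.2
    · exact hcomm z' hz'.1 z hz.2
    · exact hcomm m hm z' hz'.2
    · exact hcomm m' hm' z' hz'.2
  have hfixN : a * ⁅n, n'⁆ * a⁻¹ = ⁅n, n'⁆ := by
    have h1 : a * ⁅n, n'⁆ * a⁻¹ = ⁅a * n * a⁻¹, a * n' * a⁻¹⁆ := by
      rw [commutatorElement_def, commutatorElement_def]; group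
    rw [h1, hwn, hwn']
    apply commutatorElement_mul_mul_of_commute
    · exact (hcomm w hw.1 n hn).symm
    · exact (hcomm w hw.1 n' hn').symm
    · exact (hcomm w hw.1 w' hw'.2).symm
    · exact (hcomm w' hw'.1 n hn).symm
    · exact (hcomm w' hw'.1 n' hn').symm
  have hM1 : ⁅m, m'⁆ ∈ M := by
    rw [commutatorElement_def]
    exact M.mul_mem (M.mul_mem (M.mul_mem hm hm') (M.inv_mem hm)) (M.inv_mem hm')
  have hN1 : ⁅n, n'⁆ ∈ N := by
    rw [commutatorElement_def]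
    exact N.mul_mem (N.mul_mem (N.mul_mem hn hn') (N.inv_mem hn)) (N.inv_mem hn')
  have hcent : ∀ g : G, a * g * a⁻¹ = g → g ∈ C := by
    intro g hg
    rw [hC, Subgroup.mem_centralizer_iff]
    intro x hx
    rw [Set.mem_singleton_iff] at hx
    rw [hx]
    calc a * g = (a * g * a⁻¹) * a := by group
      _ = g * a := by rw [hg]
  apply Subgroup.mul_mem
  · apply Subgroup.mem_sup_left
    exact ⟨⟨Subgroup.mem_sup_left hM1, hcent _ hfixM⟩, hM1⟩
  · apply Subgroup.mem_sup_right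
    exact ⟨⟨Subgroup.mem_sup_right hN1, hcent _ hfixN⟩, hN1⟩

/-- **pair or rest**: a quasisimple subnormal subgroup of `C_G(a)` inside the central product
`M * N` of two `a`-invariant subgroups lies in `M` or in `N`. -/
theorem le_or_le_of_central_product [Finite G] (hMN : M ≤ Subgroup.centralizer (N : Set G))
    (haM : cj a M ≤ M) (haN : cj a N ≤ N) {K : Subgroup G} (hKq : QComp K)
    (hKsub : SubnIn K (Subgroup.centralizer ({a} : Set G))) (hK : K ≤ M ⊔ N) :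
    K ≤ M ∨ K ≤ N := by
  set C := Subgroup.centralizer ({a} : Set G) with hC
  set Y := (M ⊔ N) ⊓ C with hY
  have hKY : K ≤ Y := le_inf hK hKsub.le
  have hKsY : SubnIn K Y := hKsub.of_le hKY inf_le_right
  have hNM : N ≤ Subgroup.centralizer (M : Set G) := Subgroup.le_centralizer_iff.1 hMN
  have hnM : M ⊔ N ≤ Subgroup.normalizer (M : Set G) :=
    sup_le Subgroup.le_normalizer (hNM.trans (Subgroup.centralizer_le_normalizer _))
  have hnN : M ⊔ N ≤ Subgroup.normalizer (N : Set G) :=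
    sup_le (hMN.trans (Subgroup.centralizer_le_normalizer _)) Subgroup.le_normalizer
  have hYM : SubnIn (Y ⊓ M) Y :=
    SubnIn.of_normal inf_le_left
      (fun y hy => mem_normalizer_inf (Subgroup.le_normalizer hy) (hnM hy.1))
  have hYN : SubnIn (Y ⊓ N) Y :=
    SubnIn.of_normal inf_le_left
      (fun y hy => mem_normalizer_inf (Subgroup.le_normalizer hy) (hnN hy.1))
  rcases hKq.le_or_comm hKsY hYM with h1 | h1
  · exact Or.inl (h1.trans inf_le_right)
  · rcases hKq.le_or_comm hKsY hYN with h2 | h2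
    · exact Or.inr (h2.trans inf_le_right)
    · exfalso
      apply hKq.not_le_centralizer
      have h3 : ⁅Y, Y⁆ ≤ (Y ⊓ M) ⊔ (Y ⊓ N) := commutator_centralizer_le hMN haM haN
      have h4 : K ≤ (Y ⊓ M) ⊔ (Y ⊓ N) := by
        rw [← hKq.perf]
        exact (Subgroup.commutator_mono hKY hKY).trans h3
      have h5 : (Y ⊓ M) ⊔ (Y ⊓ N) ≤ Subgroup.centralizer (K : Set G) := by
        apply sup_le
        · rw [Subgroup.le_centralizer_iff]
          exact Subgroup.commutator_eq_bot_iff_le_centralizer.1 h1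
        · rw [Subgroup.le_centralizer_iff]
          exact Subgroup.commutator_eq_bot_iff_le_centralizer.1 h2
      exact h4.trans h5

end central

end Cfsg.Agent.Lib.H23.CT
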