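import Mathlib
import Cfsg.Agent.Lib.H23.CT3

/-!
# Components of involution centralizers (helper23), part 4: the trichotomy.

Let `a` be an involution (`a * a = 1`) of the finite group `X` and `K ≤ E(X)` a quasisimple
subnormal subgroup of `C_X(a)`. Then there is a component `D` of `X` such that either `D` is
`a`-invariant and `K ≤ D`, or `D ≠ D^a` and `K = {d d^a : d ∈ D}`.
-/

set_option autoImplicit false
set_option linter.unusedSectionVars false
set_option linter.unusedVariables false
set_option linter.style.haveILetI false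

open scoped commutatorElement

namespace Cfsg.Agent.Lib.H23.CT

open Cfsg Cfsg.Agent.Lib.H7 Cfsg.Agent.Lib.H23.LB

universe u
variable {X : Type u} [Group X]

/-- the join of the components other than `D` and `D^a` -/
def rest (a : X) (D : Subgroup X) : Subgroup X :=
  sSup {D' : Subgroup X | IsComponent D' ∧ D' ≠ D ∧ D' ≠ cj a D}

theorem cj_cj_self {a : X} (ha : a * a = 1) (D : Subgroup X) : cj a (cj a D) = D := by
  rw [cj_cj, ha, cj_one]

theorem inv_eq_self_of_mul_self {a : X} (ha : a * a = 1) : a⁻¹ = a :=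
  inv_eq_of_mul_eq_one_left ha

theorem mem_normalizer_of_cj_eq {x : X} {D : Subgroup X} (h : cj x D = D) :
    x ∈ Subgroup.normalizer (D : Set X) := by
  rw [Subgroup.mem_normalizer_iff]
  intro d
  constructor
  · intro hd
    have := conj_mem_cj (g := x) hd
    rwa [h] at this
  · intro hd
    rw [← h, mem_cj] at hd
    have e : x⁻¹ * (x * d * x⁻¹) * x = d := by group
    rwa [e] at hd

theorem layer_le_pair_sup_rest (a : X) (D : Subgroup X) :
    layer X ≤ (D ⊔ cj a D) ⊔ rest a D := by
  apply sSup_le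
  intro D' hD'
  by_cases h1 : D' = D
  · rw [h1]; exact le_sup_left.trans le_sup_left
  by_cases h2 : D' = cj a D
  · rw [h2]; exact le_sup_right.trans le_sup_left
  exact (le_sSup (s := {D' : Subgroup X | IsComponent D' ∧ D' ≠ D ∧ D' ≠ cj a D})
    ⟨hD', h1, h2⟩).trans le_sup_right

theorem cj_pair_le {a : X} (ha : a * a = 1) (D : Subgroup X) :
    cj a (D ⊔ cj a D) ≤ D ⊔ cj a D := by
  have h1 : cj a (D ⊔ cj a D) = cj a D ⊔ cj a (cj a D) := Subgroup.map_sup _ _ _
  rw [h1, cj_cj_self ha D, sup_comm]

variable [Finite X]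

theorem pair_le_centralizer_rest {a : X} {D : Subgroup X} (hD : IsComponent D) :
    D ⊔ cj a D ≤ Subgroup.centralizer (rest a D : Set X) := by
  rw [Subgroup.le_centralizer_iff]
  apply sSup_le
  rintro D' ⟨hD', h1, h2⟩
  rw [centralizer_sup_eq]
  apply le_inf
  · exact Subgroup.commutator_eq_bot_iff_le_centralizer.1 (components_commute hD' hD h1)
  · exact Subgroup.commutator_eq_bot_iff_le_centralizer.1
      (components_commute hD' (isComponent_map_conj a hD) h2)

theorem cj_rest_le {a : X} (ha : a * a = 1) (D : Subgroup X) : cj a (rest a D) ≤ rest a D := by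
  rw [Subgroup.map_le_iff_le_comap]
  apply sSup_le
  rintro D' ⟨hD', h1, h2⟩
  rw [← Subgroup.map_le_iff_le_comap]
  apply le_sSup
  refine ⟨isComponent_map_conj a hD', ?_, ?_⟩
  · intro h
    apply h2
    have h' : cj a D' = D := h
    rw [← cj_cj_self ha D', h']
  · intro h
    apply h1
    have h' : cj a D' = cj a D := h
    rw [← cj_cj_self ha D', h', cj_cj_self ha D]

/-- the diagonal data of the third case -/
structure Diag (a : X) (D K : Subgroup X) : Prop where
  comp : IsComponent D
  ne : cj a D ≠ D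
  mem : ∀ k, k ∈ K ↔ ∃ d ∈ D, k = d * (a * d * a⁻¹)

theorem commute_of_components_ne {a : X} {D : Subgroup X} (hD : IsComponent D)
    (hne : cj a D ≠ D) {d e : X} (hd : d ∈ D) (he : e ∈ D) : Commute e (a * d * a⁻¹) := by
  have h1 : ⁅D, cj a D⁆ = ⊥ := components_commute hD (isComponent_map_conj a hD) (Ne.symm hne)
  have h2 := Subgroup.commutator_eq_bot_iff_le_centralizer.1 h1
  exact (Subgroup.mem_centralizer_iff.1 (h2 he) _ (conj_mem_cj hd)).symm

/-- the diagonal homomorphism `d ↦ d d^a` -/
def diagHom (a : X) (D : Subgroup X) (hc : ∀ d ∈ D, ∀ e ∈ D, Commute e (a * d * a⁻¹)) :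
    ↥D →* X where
  toFun d := (d : X) * (a * d * a⁻¹)
  map_one' := by simp
  map_mul' := by
    intro d e
    have h := (hc d d.2 e e.2).eq
    show ((d * e : ↥D) : X) * (a * ((d * e : ↥D) : X) * a⁻¹) =
      (d : X) * (a * d * a⁻¹) * ((e : X) * (a * e * a⁻¹))
    rw [Subgroup.coe_mul]
    calc (d : X) * e * (a * ((d : X) * e) * a⁻¹)
        = d * ((e : X) * (a * d * a⁻¹)) * (a * e * a⁻¹) := by group
      _ = d * ((a * d * a⁻¹) * e) * (a * e * a⁻¹) := by rw [h]
      _ = (d : X) * (a * d * a⁻¹) * ((e : X) * (a * e * a⁻¹)) := by group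

/-- **the trichotomy** -/
theorem trichotomy {a : X} (ha : a * a = 1) {K : Subgroup X} (hKE : K ≤ layer X) (hKq : QComp K)
    (hKsub : SubnIn K (Subgroup.centralizer ({a} : Set X))) :
    ∃ D : Subgroup X, IsComponent D ∧ ((cj a D = D ∧ K ≤ D) ∨ Diag a D K) := by
  have hinv : a⁻¹ = a := inv_eq_self_of_mul_self ha
  -- some orbit of components contains `K`
  have hex : ∃ D : Subgroup X, IsComponent D ∧ K ≤ D ⊔ cj a D := by
    by_contra hcon
    push Not at hcon
    apply hKq.not_le_centralizer
    have h1 : ∀ D : Subgroup X, IsComponent D → D ≤ Subgroup.centralizer (K : Set X) := by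
      intro D hD
      have h2 := le_or_le_of_central_product (pair_le_centralizer_rest (a := a) hD)
        (cj_pair_le ha D) (cj_rest_le ha D) hKq hKsub (hKE.trans (layer_le_pair_sup_rest a D))
      rcases h2 with h2 | h2
      · exact absurd h2 (hcon D hD)
      · have h3 : D ≤ Subgroup.centralizer (rest a D : Set X) :=
          le_sup_left.trans (pair_le_centralizer_rest (a := a) hD)
        exact h3.trans (Subgroup.centralizer_le (SetLike.coe_subset_coe.2 h2))
    have h4 : layer X ≤ Subgroup.centralizer (K : Set X) := sSup_le (fun D hD => h1 D hD)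
    exact hKE.trans h4
  obtain ⟨D, hD, hKD⟩ := hex
  refine ⟨D, hD, ?_⟩
  by_cases hne : cj a D = D
  · left
    refine ⟨hne, ?_⟩
    rwa [hne, sup_idem] at hKD
  · right
    have hc : ∀ d ∈ D, ∀ e ∈ D, Commute e (a * d * a⁻¹) :=
      fun d hd e he => commute_of_components_ne hD hne hd he
    set δ := diagHom a D hc with hδ
    set Δ := δ.range with hΔ
    have hδapp : ∀ d : ↥D, δ d = (d : X) * (a * d * a⁻¹) := fun d => rfl
    set D' := cj a D with hD'
    have hDD' : D ≤ Subgroup.centralizer (D' : Set X) := by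
      intro e he
      rw [Subgroup.mem_centralizer_iff]
      rintro _ ⟨d, hd, rfl⟩
      have := (hc d hd e he).eq
      simpa [MulAut.conj_apply] using this.symm
    have hD'D : D' ≤ Subgroup.centralizer (D : Set X) := Subgroup.le_centralizer_iff.1 hDD'
    -- the intersection is central
    have hZ : ∀ u ∈ D ⊓ D', ∀ g ∈ D ⊔ D', Commute u g := by
      intro u hu g hg
      have h1 : D ⊔ D' ≤ Subgroup.centralizer ({u} : Set X) := by
        apply sup_le
        · intro d hd
          rw [Subgroup.mem_centralizer_iff]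
          intro x hx
          rw [Set.mem_singleton_iff] at hx
          rw [hx]
          exact (Subgroup.mem_centralizer_iff.1 (hD'D hu.2) d hd).symm
        · intro d hd
          rw [Subgroup.mem_centralizer_iff]
          intro x hx
          rw [Set.mem_singleton_iff] at hx
          rw [hx]
          exact (Subgroup.mem_centralizer_iff.1 (hDD' hu.1) d hd).symm
      exact Subgroup.mem_centralizer_iff.1 (h1 hg) u rfl
    have hΔle : Δ ≤ D ⊔ D' := by
      rintro _ ⟨d, rfl⟩
      rw [hδapp]
      exact Subgroup.mul_mem _ (Subgroup.mem_sup_left d.2) (Subgroup.mem_sup_right (conj_mem_cj d.2))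
    -- elements of `K` are diagonal modulo the intersection
    have hdec : ∀ k ∈ K, ∃ x ∈ Δ, ∃ u ∈ D ⊓ D', k = x * u := by
      intro k hk
      have hDn : D ≤ Subgroup.normalizer (D' : Set X) :=
        hDD'.trans (Subgroup.centralizer_le_normalizer _)
      obtain ⟨d, hd, e', he', rfl⟩ := exists_mul_of_mem_sup hDn (hKD hk)
      have hfix : a * (d * e') * a⁻¹ = d * e' := by
        have := Subgroup.mem_centralizer_iff.1 (hKsub.le hk) a rfl
        rw [this, mul_inv_cancel_right]
      set e := a * e' * a⁻¹ with he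
      have heD : e ∈ D := by
        have := conj_mem_cj (g := a) he'
        rwa [hD', cj_cj_self ha] at this
      have he'e : e' = a * e * a⁻¹ := by
        rw [he]
        have : a * (a * e' * a⁻¹) * a⁻¹ = (a * a) * e' * (a * a)⁻¹ := by group
        rw [this, ha]; simp
      have hd' : a * d * a⁻¹ ∈ D' := conj_mem_cj hd
      -- `d' * e = d * e'`
      have h1 : (a * d * a⁻¹) * e = d * e' := by
        rw [← hfix, he]; group
      have h2 : e * (a * d * a⁻¹) = d * e' := by
        rw [← h1]
        exact (hc d hd e heD).eq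
      set u := e⁻¹ * d with hu
      have huD : u ∈ D := D.mul_mem (D.inv_mem heD) hd
      have huD' : u ∈ D' := by
        have e3 : u = (a * d * a⁻¹) * e'⁻¹ := by
          rw [hu]
          calc e⁻¹ * d = e⁻¹ * (d * e') * e'⁻¹ := by group
            _ = e⁻¹ * (e * (a * d * a⁻¹)) * e'⁻¹ := by rw [h2]
            _ = (a * d * a⁻¹) * e'⁻¹ := by group
        rw [e3]
        exact D'.mul_mem hd' (D'.inv_mem he')
      refine ⟨δ ⟨e, heD⟩, ⟨⟨e, heD⟩, rfl⟩, u, ⟨huD, huD'⟩, ?_⟩
      rw [hδapp]
      show d * e' = e * (a * e * a⁻¹) * u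
      rw [← he'e]
      have h3 : Commute u e' := (Subgroup.mem_centralizer_iff.1 (hDD' huD) e' he').symm
      calc d * e' = e * (e⁻¹ * d) * e' := by group
        _ = e * (u * e') := by rw [← hu, mul_assoc]
        _ = e * (e' * u) := by rw [h3.eq]
        _ = e * e' * u := by group
    -- hence `K ≤ Δ`
    have hKΔ : K ≤ Δ := by
      rw [← hKq.perf, Subgroup.commutator_le]
      intro k hk k' hk'
      obtain ⟨x, hx, u, hu, rfl⟩ := hdec k hk
      obtain ⟨x', hx', u', hu', rfl⟩ := hdec k' hk'
      have e : ⁅x * u, x' * u'⁆ = ⁅x, x'⁆ := by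
        apply commutatorElement_mul_mul_of_commute
        · exact hZ u hu x (hΔle hx)
        · exact hZ u hu x' (hΔle hx')
        · exact hZ u hu u' (Subgroup.mem_sup_left hu'.1)
        · exact hZ u' hu' x (hΔle hx)
        · exact hZ u' hu' x' (hΔle hx')
      rw [e, commutatorElement_def]
      exact Δ.mul_mem (Δ.mul_mem (Δ.mul_mem hx hx') (Δ.inv_mem hx)) (Δ.inv_mem hx')
    -- `Δ ≤ C_X(a)`
    have hΔC : Δ ≤ Subgroup.centralizer ({a} : Set X) := by
      rintro _ ⟨d, rfl⟩
      rw [hδapp, Subgroup.mem_centralizer_iff]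
      intro x hx
      rw [Set.mem_singleton_iff] at hx
      rw [hx]
      have h1 := (hc d d.2 d d.2).eq
      have h2 : a * (a * (d : X) * a⁻¹) * a⁻¹ = d := by
        have : a * (a * (d : X) * a⁻¹) * a⁻¹ = (a * a) * d * (a * a)⁻¹ := by group
        rw [this, ha]; simp
      calc a * ((d : X) * (a * d * a⁻¹)) = (a * d * a⁻¹) * (a * (a * d * a⁻¹) * a⁻¹) * a := by group
        _ = (a * d * a⁻¹) * d * a := by rw [h2]
        _ = (d : X) * (a * d * a⁻¹) * a := by rw [h1]
    have hΔne : Δ ≠ ⊥ := by
      intro h0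
      apply hKq.ne
      rw [eq_bot_iff, ← h0]
      exact hKΔ
    have hΔq : QComp Δ := by
      have h1 : QComp ((⊤ : Subgroup ↥D).map δ) := by
        apply (QComp.top_of_isQuasisimple hD.2).map δ
        rw [← MonoidHom.range_eq_map]
        exact hΔne
      rwa [← MonoidHom.range_eq_map] at h1
    have hKsΔ : SubnIn K Δ := hKsub.of_le hKΔ hΔC
    have hKeq : K = Δ := by
      rcases hΔq.eq_or_comm hKsΔ with h | h
      · exact h
      · exfalso
        apply hKq.not_comm
        rw [eq_bot_iff, ← h]
        exact Subgroup.commutator_mono le_rfl hKΔ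
    refine ⟨hD, hne, ?_⟩
    intro k
    rw [hKeq]
    constructor
    · rintro ⟨d, rfl⟩
      exact ⟨d, d.2, rfl⟩
    · rintro ⟨d, hd, rfl⟩
      exact ⟨⟨d, hd⟩, rfl⟩

end Cfsg.Agent.Lib.H23.CT
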