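import Mathlib
import Cfsg.Agent.Lib.H23.CT4

/-!
# Components of involution centralizers (helper23), part 5: the diagonal case yields a large
elementary abelian `2`-subgroup in the centralizer of a component.
-/

set_option autoImplicit false
set_option linter.unusedSectionVars false
set_option linter.unusedVariables false
set_option linter.style.haveILetI false

open scoped commutatorElement

namespace Cfsg.Agent.Lib.H23.CT

open Cfsg Cfsg.Agent.Lib.H7 Cfsg.Agent.Lib.H23.LB

universe u
variable {X : Type u} [Group X] [Finite X]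

/-- an element commuting with `a` and centralizing the diagonal `K` permutes `{D, D^a}` -/
theorem Diag.conj_cases {a : X} {D K : Subgroup X} (h : Diag a D K) {x : X} (hxa : Commute x a)
    (hxK : x ∈ Subgroup.centralizer (K : Set X)) : cj x D = D ∨ cj x D = cj a D := by
  by_contra hcon
  push Not at hcon
  obtain ⟨h1, h2⟩ := hcon
  have hDx : IsComponent (cj x D) := isComponent_map_conj x h.comp
  have c1 : cj x D ≤ Subgroup.centralizer (D : Set X) :=
    Subgroup.commutator_eq_bot_iff_le_centralizer.1 (components_commute hDx h.comp h1)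
  have c2 : cj x D ≤ Subgroup.centralizer (cj a D : Set X) :=
    Subgroup.commutator_eq_bot_iff_le_centralizer.1
      (components_commute hDx (isComponent_map_conj a h.comp) h2)
  apply component_not_solvable h.comp
  apply Group.isSolvable_of_comm
  rintro ⟨e, he⟩ ⟨d, hd⟩
  apply Subtype.ext
  show e * d = d * e
  set k := d * (a * d * a⁻¹) with hk
  have hkK : k ∈ K := (h.mem k).2 ⟨d, hd, rfl⟩
  set y := x * e * x⁻¹ with hy
  have hyDx : y ∈ cj x D := conj_mem_cj he
  have hyd : Commute d y := Subgroup.mem_centralizer_iff.1 (c1 hyDx) d hd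
  have hyd' : Commute (a * d * a⁻¹) y :=
    Subgroup.mem_centralizer_iff.1 (c2 hyDx) _ (conj_mem_cj hd)
  have hyk : Commute k y := hyd.mul_left hyd'
  have hxk : Commute k x := Subgroup.mem_centralizer_iff.1 hxK k hkK
  have hek : Commute k e := by
    have e1 : e = x⁻¹ * y * x := by rw [hy]; group
    rw [e1]
    exact (hxk.inv_right.mul_right hyk).mul_right hxk
  have hed' : Commute e (a * d * a⁻¹) := commute_of_components_ne h.comp h.ne hd he
  have e2 : e * d * (a * d * a⁻¹) = d * e * (a * d * a⁻¹) := by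
    calc e * d * (a * d * a⁻¹) = e * k := by rw [hk, mul_assoc]
      _ = k * e := hek.eq.symm
      _ = d * ((a * d * a⁻¹) * e) := by rw [hk, mul_assoc]
      _ = d * (e * (a * d * a⁻¹)) := by rw [hed'.eq]
      _ = d * e * (a * d * a⁻¹) := (mul_assoc d e _).symm
  exact mul_right_cancel e2

/-- an element commuting with `a`, centralizing `K` and normalizing `D` centralizes `D` and `D^a` -/
theorem Diag.centralizes {a : X} {D K : Subgroup X} (h : Diag a D K)
    (hinj : ∀ d ∈ D, ∀ e ∈ D, d * (a * d * a⁻¹) = e * (a * e * a⁻¹) → d = e)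
    {x : X} (hxa : Commute x a) (hxK : x ∈ Subgroup.centralizer (K : Set X))
    (hxD : x ∈ Subgroup.normalizer (D : Set X)) :
    x ∈ Subgroup.centralizer (D : Set X) ∧ x ∈ Subgroup.centralizer (cj a D : Set X) := by
  have key : ∀ d ∈ D, x * d * x⁻¹ = d := by
    intro d hd
    have hd1 : x * d * x⁻¹ ∈ D := (Subgroup.mem_normalizer_iff.1 hxD d).1 hd
    apply hinj _ hd1 _ hd
    have hkK : d * (a * d * a⁻¹) ∈ K := (h.mem _).2 ⟨d, hd, rfl⟩
    have hxk : Commute (d * (a * d * a⁻¹)) x := Subgroup.mem_centralizer_iff.1 hxK _ hkK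
    have e1 : a * (x * d * x⁻¹) * a⁻¹ = x * (a * d * a⁻¹) * x⁻¹ := by
      have h1 : a * x = x * a := hxa.eq.symm
      have h2 : x⁻¹ * a⁻¹ = a⁻¹ * x⁻¹ := (hxa.inv_left.inv_right).eq
      calc a * (x * d * x⁻¹) * a⁻¹ = (a * x) * d * (x⁻¹ * a⁻¹) := by group
        _ = (x * a) * d * (a⁻¹ * x⁻¹) := by rw [h1, h2]
        _ = x * (a * d * a⁻¹) * x⁻¹ := by group
    rw [e1]
    calc x * d * x⁻¹ * (x * (a * d * a⁻¹) * x⁻¹) = x * (d * (a * d * a⁻¹)) * x⁻¹ := by group
      _ = d * (a * d * a⁻¹) * x * x⁻¹ := by rw [hxk.eq.symm]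
      _ = d * (a * d * a⁻¹) := by group
  constructor
  · rw [Subgroup.mem_centralizer_iff]
    intro d hd
    have := key d hd
    calc d * x = (x * d * x⁻¹) * x := by rw [this]
      _ = x * d := by group
  · rw [Subgroup.mem_centralizer_iff]
    rintro _ ⟨d, hd, rfl⟩
    have := key d hd
    simp only [MulEquiv.coe_toMonoidHom, MulAut.conj_apply]
    have h1 : a * x = x * a := hxa.eq.symm
    have h2 : a⁻¹ * x = x * a⁻¹ := (hxa.inv_right).eq.symm
    calc a * d * a⁻¹ * x = a * d * (a⁻¹ * x) := by group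
      _ = a * d * (x * a⁻¹) := by rw [h2]
      _ = a * (x * d * x⁻¹)⁻¹⁻¹ * x * a⁻¹ := by rw [this]; group
      _ = a * (x * d * x⁻¹) * x * a⁻¹ := by rw [inv_inv]
      _ = (a * x) * d * a⁻¹ := by group
      _ = x * a * d * a⁻¹ := by rw [h1]
      _ = x * (a * d * a⁻¹) := by group

/-- `N_B(D)` has index at most `2` in `B` -/
theorem Diag.card_le {a : X} {D K : Subgroup X} (h : Diag a D K) {B : Subgroup X}
    (hBa : B ≤ Subgroup.centralizer ({a} : Set X)) (hBK : B ≤ Subgroup.centralizer (K : Set X)) :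
    Nat.card B ≤ 2 * Nat.card (B ⊓ Subgroup.normalizer (D : Set X) : Subgroup X) := by
  set B₀ := B ⊓ Subgroup.normalizer (D : Set X) with hB₀
  have hcases : ∀ x ∈ B, cj x D = D ∨ cj x D = cj a D := by
    intro x hx
    apply h.conj_cases _ (hBK hx)
    exact (Subgroup.mem_centralizer_iff.1 (hBa hx) a rfl).symm
  by_cases hall : B ≤ Subgroup.normalizer (D : Set X)
  · have : B₀ = B := inf_eq_left.2 hall
    rw [this]; omega
  · obtain ⟨x₀, hx₀B, hx₀⟩ := SetLike.not_le_iff_exists.1 hall
    have hx₀D : cj x₀ D = cj a D := by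
      rcases hcases x₀ hx₀B with h1 | h1
      · exact absurd (mem_normalizer_of_cj_eq h1) hx₀
      · exact h1
    have hsub : (B : Set X) ⊆ (B₀ : Set X) ∪ (fun y => x₀ * y) '' (B₀ : Set X) := by
      intro x hx
      rcases hcases x hx with h1 | h1
      · left
        exact ⟨hx, mem_normalizer_of_cj_eq h1⟩
      · right
        refine ⟨x₀⁻¹ * x, ⟨B.mul_mem (B.inv_mem hx₀B) hx, ?_⟩, by group⟩
        apply mem_normalizer_of_cj_eq
        rw [← cj_cj, h1, ← hx₀D, cj_cj, inv_mul_cancel, cj_one]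
    have hfin : ((B₀ : Set X) ∪ (fun y => x₀ * y) '' (B₀ : Set X)).Finite := Set.toFinite _
    calc Nat.card B = (B : Set X).ncard := (Nat.card_coe_set_eq _)
      _ ≤ ((B₀ : Set X) ∪ (fun y => x₀ * y) '' (B₀ : Set X)).ncard := Set.ncard_le_ncard hsub hfin
      _ ≤ (B₀ : Set X).ncard + ((fun y => x₀ * y) '' (B₀ : Set X)).ncard := Set.ncard_union_le _ _
      _ ≤ (B₀ : Set X).ncard + (B₀ : Set X).ncard :=
          Nat.add_le_add_left (Set.ncard_image_le (Set.toFinite _)) _
      _ = 2 * Nat.card B₀ := by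
          have : Nat.card B₀ = (B₀ : Set X).ncard := Nat.card_coe_set_eq _
          rw [this]; ring

end Cfsg.Agent.Lib.H23.CT
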