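import Mathlib
import Cfsg.Agent.Lib.H23.CT5

/-!
# Components of involution centralizers (helper23), part 6: the rank witness of the diagonal case.
-/

set_option autoImplicit false
set_option linter.unusedSectionVars false
set_option linter.unusedVariables false
set_option linter.style.haveILetI false

open scoped commutatorElement

namespace Cfsg.Agent.Lib.H23.CT

open Cfsg Cfsg.Agent.Lib.H7 Cfsg.Agent.Lib.H23.LB

universe u
variable {X : Type u} [Group X] [Finite X]

theorem comm_of_isElementaryAbelian {p : ℕ} {A : Subgroup X} (hA : IsElementaryAbelian p A)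
    {x y : X} (hx : x ∈ A) (hy : y ∈ A) : x * y = y * x := by
  have := hA.1.is_comm.comm (⟨x, hx⟩ : ↥A) ⟨y, hy⟩
  exact congrArg Subtype.val this

theorem isElementaryAbelian_of_forall {p : ℕ} {A : Subgroup X}
    (hc : ∀ x ∈ A, ∀ y ∈ A, x * y = y * x) (he : ∀ x ∈ A, x ^ p = 1) :
    IsElementaryAbelian p A :=
  ⟨⟨⟨fun x y => Subtype.ext (hc x x.2 y y.2)⟩⟩, he⟩

/-- **rank witness** -/
theorem Diag.rank_witness {a : X} (ha : a * a = 1) {D K : Subgroup X} (h : Diag a D K)
    (hinj : ∀ d ∈ D, ∀ e ∈ D, d * (a * d * a⁻¹) = e * (a * e * a⁻¹) → d = e)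
    {B : Subgroup X} (hBa : B ≤ Subgroup.centralizer ({a} : Set X))
    (hBK : B ≤ Subgroup.centralizer (K : Set X)) (hBel : IsElementaryAbelian 2 B)
    {A : Subgroup X} (hAK : A ≤ K) (hAel : IsElementaryAbelian 2 A) :
    ∃ W : Subgroup X, W ≤ Subgroup.centralizer (cj a D : Set X) ∧ IsElementaryAbelian 2 W ∧
      Nat.card B * Nat.card A ≤ 2 * Nat.card W := by
  have hc : ∀ d ∈ D, ∀ e ∈ D, Commute e (a * d * a⁻¹) :=
    fun d hd e he => commute_of_components_ne h.comp h.ne hd he
  set δ := diagHom a D hc with hδ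
  have hδapp : ∀ d : ↥D, δ d = (d : X) * (a * d * a⁻¹) := fun d => rfl
  have hδinj : Function.Injective δ := by
    intro d e hde
    exact Subtype.ext (hinj d d.2 e e.2 hde)
  set AD' : Subgroup ↥D := A.comap δ with hAD'
  set AD : Subgroup X := AD'.map D.subtype with hAD
  have hArange : A ≤ δ.range := by
    intro x hx
    obtain ⟨d, hd, rfl⟩ := (h.mem x).1 (hAK hx)
    exact ⟨⟨d, hd⟩, rfl⟩
  have hcardAD : Nat.card AD = Nat.card A := by
    have h1 : Nat.card AD = Nat.card AD' :=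
      Subgroup.card_map_of_injective (Subgroup.subtype_injective D)
    have h2 : AD'.map δ = A := Subgroup.map_comap_eq_self hArange
    have h3 : Nat.card (AD'.map δ) = Nat.card AD' := Subgroup.card_map_of_injective hδinj
    rw [h1, ← h3, h2]
  have hADD : AD ≤ D := Subgroup.map_subtype_le _
  have hADmem : ∀ x ∈ AD, ∃ hx : x ∈ D, δ ⟨x, hx⟩ ∈ A := by
    rintro _ ⟨d, hd, rfl⟩
    exact ⟨d.2, hd⟩
  have hADel : IsElementaryAbelian 2 AD := by
    apply isElementaryAbelian_of_forall
    · intro x hx y hy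
      obtain ⟨hxD, hxA⟩ := hADmem x hx
      obtain ⟨hyD, hyA⟩ := hADmem y hy
      have h1 : δ (⟨x, hxD⟩ * ⟨y, hyD⟩) = δ (⟨y, hyD⟩ * ⟨x, hxD⟩) := by
        rw [map_mul, map_mul]
        exact comm_of_isElementaryAbelian hAel hxA hyA
      exact congrArg Subtype.val (hδinj h1)
    · intro x hx
      obtain ⟨hxD, hxA⟩ := hADmem x hx
      have h1 : δ (⟨x, hxD⟩ ^ 2) = δ 1 := by
        rw [map_pow, map_one]
        exact hAel.2 _ hxA
      exact congrArg Subtype.val (hδinj h1)
  set B₀ := B ⊓ Subgroup.normalizer (D : Set X) with hB₀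
  have hB₀c : ∀ x ∈ B₀, x ∈ Subgroup.centralizer (D : Set X) ∧
      x ∈ Subgroup.centralizer (cj a D : Set X) := by
    intro x hx
    apply h.centralizes hinj _ (hBK hx.1) hx.2
    exact (Subgroup.mem_centralizer_iff.1 (hBa hx.1) a rfl).symm
  have hB₀AD : ∀ x ∈ B₀, ∀ d ∈ AD, d * x = x * d := by
    intro x hx d hd
    exact Subgroup.mem_centralizer_iff.1 (hB₀c x hx).1 d (hADD hd)
  have hB₀n : B₀ ≤ Subgroup.normalizer (AD : Set X) := by
    intro x hx
    have : x ∈ Subgroup.centralizer (AD : Set X) := by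
      rw [Subgroup.mem_centralizer_iff]
      exact fun d hd => hB₀AD x hx d hd
    exact Subgroup.centralizer_le_normalizer _ this
  set W := B₀ ⊔ AD with hW
  have hWdec : ∀ w ∈ W, ∃ x ∈ B₀, ∃ d ∈ AD, w = x * d := fun w hw => exists_mul_of_mem_sup hB₀n hw
  have hB₀el : ∀ x ∈ B₀, ∀ y ∈ B₀, x * y = y * x :=
    fun x hx y hy => comm_of_isElementaryAbelian hBel hx.1 hy.1
  have hADcomm : ∀ x ∈ AD, ∀ y ∈ AD, x * y = y * x :=
    fun x hx y hy => comm_of_isElementaryAbelian hADel hx hy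
  have hWel : IsElementaryAbelian 2 W := by
    apply isElementaryAbelian_of_forall
    · intro w hw w' hw'
      obtain ⟨x, hx, d, hd, rfl⟩ := hWdec w hw
      obtain ⟨x', hx', d', hd', rfl⟩ := hWdec w' hw'
      have e1 := hB₀AD x' hx' d hd
      have e2 := hB₀AD x hx d' hd'
      have e3 := hB₀el x hx x' hx'
      have e4 := hADcomm d hd d' hd'
      calc x * d * (x' * d') = x * (d * x') * d' := by group
        _ = x * (x' * d) * d' := by rw [e1]
        _ = (x * x') * (d * d') := by group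
        _ = (x' * x) * (d' * d) := by rw [e3, e4]
        _ = x' * (x * d') * d := by group
        _ = x' * (d' * x) * d := by rw [e2]
        _ = x' * d' * (x * d) := by group
    · intro w hw
      obtain ⟨x, hx, d, hd, rfl⟩ := hWdec w hw
      have e1 := hB₀AD x hx d hd
      have e2 : x ^ 2 = 1 := hBel.2 x hx.1
      have e3 : d ^ 2 = 1 := hADel.2 d hd
      calc (x * d) ^ 2 = x * (d * x) * d := by rw [pow_two]; group
        _ = x * (x * d) * d := by rw [e1]
        _ = x ^ 2 * d ^ 2 := by rw [pow_two, pow_two]; group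
        _ = 1 := by rw [e2, e3, one_mul]
  have hDc : D ≤ Subgroup.centralizer (cj a D : Set X) := by
    intro e he
    rw [Subgroup.mem_centralizer_iff]
    rintro _ ⟨d, hd, rfl⟩
    have := (hc d hd e he).eq
    simpa [MulAut.conj_apply] using this.symm
  have hWc : W ≤ Subgroup.centralizer (cj a D : Set X) :=
    sup_le (fun x hx => (hB₀c x hx).2) (hADD.trans hDc)
  have hinf : ∀ x ∈ B₀, x ∈ AD → x = 1 := by
    intro x hx hxAD
    have hxD : x ∈ D := hADD hxAD
    have hfix : a * x * a⁻¹ = x := by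
      have := Subgroup.mem_centralizer_iff.1 (hBa hx.1) a rfl
      rw [this, mul_inv_cancel_right]
    have hx2 : x ^ 2 = 1 := hBel.2 x hx.1
    apply hinj x hxD 1 D.one_mem
    rw [hfix, ← pow_two, hx2]; simp
  have hcardW : Nat.card B₀ * Nat.card AD ≤ Nat.card W := by
    rw [← Nat.card_prod]
    let f : ↥B₀ × ↥AD → ↥W := fun p =>
      ⟨(p.1 : X) * (p.2 : X), Subgroup.mul_mem _ (Subgroup.mem_sup_left p.1.2)
        (Subgroup.mem_sup_right p.2.2)⟩
    apply Nat.card_le_card_of_injective f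
    rintro ⟨⟨x, hx⟩, ⟨d, hd⟩⟩ ⟨⟨x', hx'⟩, ⟨d', hd'⟩⟩ hf
    have hf' : x * d = x' * d' := congrArg Subtype.val hf
    have h1 : x'⁻¹ * x = d' * d⁻¹ := by
      calc x'⁻¹ * x = x'⁻¹ * (x * d) * d⁻¹ := by group
        _ = x'⁻¹ * (x' * d') * d⁻¹ := by rw [hf']
        _ = d' * d⁻¹ := by group
    have h2 : x'⁻¹ * x = 1 := by
      apply hinf _ (B₀.mul_mem (B₀.inv_mem hx') hx)
      rw [h1]
      exact AD.mul_mem hd' (AD.inv_mem hd)
    have h3 : x = x' := by
      have := inv_mul_eq_one.1 h2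
      exact this.symm
    have h4 : d = d' := by
      rw [h3] at hf'
      exact mul_left_cancel hf'
    subst h3; subst h4; rfl
  refine ⟨W, hWc, hWel, ?_⟩
  have h1 : Nat.card B ≤ 2 * Nat.card B₀ := h.card_le hBa hBK
  calc Nat.card B * Nat.card A ≤ (2 * Nat.card B₀) * Nat.card A := Nat.mul_le_mul_right _ h1
    _ = 2 * (Nat.card B₀ * Nat.card AD) := by rw [hcardAD]; ring
    _ ≤ 2 * Nat.card W := Nat.mul_le_mul_left _ hcardW

end Cfsg.Agent.Lib.H23.CT
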