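import Mathlib
import Cfsg.Agent.Lib.H23.CT6

/-!
# Components of involution centralizers (helper23), part 7: a maximal component of the centralizer
of an involution is a component of the centralizer of every involution of a maximal elementary
abelian `2`-subgroup centralizing it.
-/

set_option autoImplicit false
set_option linter.unusedSectionVars false
set_option linter.unusedVariables false
set_option linter.style.haveILetI false

open scoped commutatorElement

namespace Cfsg.Agent.Lib.H23.CT

open Cfsg Cfsg.Agent.Lib.H7 Cfsg.Agent.Lib.H23.LB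

universe u
variable {G : Type u} [Group G] [Finite G]

theorem isElementaryAbelian_map_subtype {p : ℕ} {H : Subgroup G} {A : Subgroup ↥H}
    (hc : IsMulCommutative A) (he : ∀ x ∈ A, x ^ p = 1) :
    IsElementaryAbelian p (A.map H.subtype) := by
  apply isElementaryAbelian_of_forall
  · rintro _ ⟨x, hx, rfl⟩ _ ⟨y, hy, rfl⟩
    have := hc.is_comm.comm (⟨x, hx⟩ : ↥A) ⟨y, hy⟩
    have h2 : x * y = y * x := congrArg Subtype.val this
    exact congrArg Subtype.val h2
  · rintro _ ⟨x, hx, rfl⟩
    have := he x hx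
    exact congrArg Subtype.val this

theorem isElementaryAbelian_subgroupOf {p : ℕ} {A : Subgroup G} (hA : IsElementaryAbelian p A)
    (H : Subgroup G) : IsElementaryAbelian p (A.subgroupOf H) := by
  apply isElementaryAbelian_of_forall
  · intro x hx y hy
    apply Subtype.ext
    exact comm_of_isElementaryAbelian hA (Subgroup.mem_subgroupOf.1 hx) (Subgroup.mem_subgroupOf.1 hy)
  · intro x hx
    apply Subtype.ext
    have := hA.2 _ (Subgroup.mem_subgroupOf.1 hx)
    simpa using this

theorem card_subgroupOf_of_le {A H : Subgroup G} (h : A ≤ H) :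
    Nat.card (A.subgroupOf H) = Nat.card A :=
  Nat.card_congr (Subgroup.subgroupOfEquivOfLe h).toEquiv

/-- **S1305** -/
theorem maximal_component_of_cocentralizer (hO : oddCore G = ⊥) (hB : HasBProperty G)
    (a : G) (ha : orderOf a = 2) (K : Subgroup G)
    (hKa : K ≤ Subgroup.centralizer ({a} : Set G))
    (hK : IsComponent (K.subgroupOf (Subgroup.centralizer ({a} : Set G))))
    (hmax : ∀ y : G, orderOf y = 2 → ∀ K' : Subgroup G, K' ≤ Subgroup.centralizer ({y} : Set G) →
      IsComponent (K'.subgroupOf (Subgroup.centralizer ({y} : Set G))) →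
      Nat.card ↥K' ≤ Nat.card ↥K ∧ (Nat.card ↥K' = Nat.card ↥K → ∀ k : ℕ,
        PRankLE 2 k ↥(Subgroup.centralizer ({a} : Set G) ⊓ Subgroup.centralizer (K : Set G)) →
        PRankLE 2 k ↥(Subgroup.centralizer ({y} : Set G) ⊓ Subgroup.centralizer (K' : Set G))))
    (hrk : ¬ PRankLE 2 1 ↥K) (B : Subgroup G)
    (hBle : B ≤ Subgroup.centralizer ({a} : Set G) ⊓ Subgroup.centralizer (K : Set G))
    (hBel : IsElementaryAbelian 2 B)
    (hBmax : ∀ B' : Subgroup G,
      B' ≤ Subgroup.centralizer ({a} : Set G) ⊓ Subgroup.centralizer (K : Set G) →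
      IsElementaryAbelian 2 B' → Nat.card ↥B' ≤ Nat.card ↥B)
    (b : G) (hb : b ∈ B) (hb1 : b ≠ 1) :
    K ≤ Subgroup.centralizer ({b} : Set G) ∧
      IsComponent (K.subgroupOf (Subgroup.centralizer ({b} : Set G))) := by
  haveI : Fact (Nat.Prime 2) := ⟨Nat.prime_two⟩
  set Ca := Subgroup.centralizer ({a} : Set G) with hCa
  set Cb := Subgroup.centralizer ({b} : Set G) with hCb
  have hb2 : b ^ 2 = 1 := hBel.2 b hb
  have hbord : orderOf b = 2 := orderOf_eq_prime hb2 hb1
  have haa : a * a = 1 := by
    have := pow_orderOf_eq_one a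
    rwa [ha, pow_two] at this
  have hab : a * b = b * a := Subgroup.mem_centralizer_iff.1 (hBle hb).1 a rfl
  have hmemCb : ∀ {x : G}, b * x = x * b → x ∈ Cb := by
    intro x hx
    rw [hCb, Subgroup.mem_centralizer_iff]
    intro y hy
    rw [Set.mem_singleton_iff] at hy
    rw [hy]; exact hx
  have hKb : K ≤ Cb := by
    intro k hk
    apply hmemCb
    exact (Subgroup.mem_centralizer_iff.1 (hBle hb).2 k hk).symm
  refine ⟨hKb, ?_⟩
  -- internal facts in `G`
  have hKq : IsQuasisimple ↥K := quasisimple_of_mulEquiv (Subgroup.subgroupOfEquivOfLe hKa) hK.2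
  have hKsubG : SubnIn K Ca := by
    have := subnIn_map_subtype hK.1
    rwa [Subgroup.map_subgroupOf_eq_of_le hKa] at this
  -- `K` has even order and an elementary abelian subgroup of order at least `4`
  obtain ⟨A₀, hA₀c, hA₀e, hA₀card⟩ : ∃ A₀ : Subgroup ↥K, IsMulCommutative A₀ ∧
      (∀ x ∈ A₀, x ^ 2 = 1) ∧ 4 ≤ Nat.card A₀ := by
    unfold PRankLE at hrk
    push Not at hrk
    obtain ⟨A₀, h1, h2, h3⟩ := hrk
    refine ⟨A₀, h1, h2, ?_⟩
    have hp : IsPGroup 2 ↥A₀ := by
      intro x
      refine ⟨1, ?_⟩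
      apply Subtype.ext
      have := h2 x.1 x.2
      simpa using this
    obtain ⟨n, hn⟩ := hp.exists_card_eq
    rw [hn] at h3 ⊢
    have : 2 ≤ n := by
      by_contra hlt
      have : n ≤ 1 := by omega
      have := Nat.pow_le_pow_right (show 0 < 2 by norm_num) this
      omega
    calc 4 = 2 ^ 2 := by norm_num
      _ ≤ 2 ^ n := Nat.pow_le_pow_right (by norm_num) this
  set AG : Subgroup G := A₀.map K.subtype with hAG
  have hAGK : AG ≤ K := Subgroup.map_subtype_le _
  have hAGel : IsElementaryAbelian 2 AG := isElementaryAbelian_map_subtype hA₀c hA₀e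
  have hAGcard : Nat.card AG = Nat.card A₀ :=
    Subgroup.card_map_of_injective (Subgroup.subtype_injective K)
  have heven : 2 ∣ Nat.card K := by
    have h1 : Nat.card AG ∣ Nat.card K := Subgroup.card_dvd_of_le hAGK
    have hp : IsPGroup 2 ↥AG := by
      intro x
      refine ⟨1, ?_⟩
      apply Subtype.ext
      have := hAGel.2 x.1 x.2
      simpa using this
    obtain ⟨n, hn⟩ := hp.exists_card_eq
    have hn0 : n ≠ 0 := by
      rintro rfl
      rw [hAGcard] at hn
      omega
    exact (dvd_trans (dvd_pow_self 2 hn0) (hn ▸ dvd_rfl)).trans h1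
  -- pass to `X = C_G(b)`
  have haCb : a ∈ Cb := hmemCb hab.symm
  set a' : ↥Cb := ⟨a, haCb⟩ with ha'
  have haa' : a' * a' = 1 := Subtype.ext haa
  set KX : Subgroup ↥Cb := K.subgroupOf Cb with hKX
  have hCaX : Subgroup.centralizer ({a'} : Set ↥Cb) = Ca.subgroupOf Cb := by
    ext x
    rw [Subgroup.mem_subgroupOf, hCa, Subgroup.mem_centralizer_iff, Subgroup.mem_centralizer_iff]
    constructor
    · intro h y hy
      rw [Set.mem_singleton_iff] at hy
      rw [hy]
      have := h a' rfl
      exact congrArg Subtype.val this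
    · intro h y hy
      rw [Set.mem_singleton_iff] at hy
      rw [hy]
      apply Subtype.ext
      exact h a rfl
  have hKXsub : SubnIn KX (Subgroup.centralizer ({a'} : Set ↥Cb)) := by
    rw [hCaX]
    exact subnIn_subgroupOf hKsubG Cb
  have hKXa : KX ≤ Subgroup.centralizer ({a'} : Set ↥Cb) := hKXsub.le
  have hKXq : IsQuasisimple ↥KX :=
    quasisimple_of_mulEquiv (Subgroup.subgroupOfEquivOfLe hKb).symm hKq
  have hKXcomp : IsComponent (KX.subgroupOf (Subgroup.centralizer ({a'} : Set ↥Cb))) :=
    ⟨isSubnormal_subgroupOf_of_subnIn hKXsub,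
      quasisimple_of_mulEquiv (Subgroup.subgroupOfEquivOfLe hKXa).symm hKXq⟩
  have hBX : ⁅pLayer 2 ↥Cb, oddCore ↥Cb⁆ = ⊥ := by
    have := hB b hbord
    rw [hO, le_bot_iff] at this
    exact (Subgroup.map_eq_bot_iff_of_injective _ (Subgroup.subtype_injective _)).1 this
  have hKXcard : Nat.card KX = Nat.card K := card_subgroupOf_of_le hKb
  have hKXlayer : KX ≤ layer ↥Cb :=
    le_layer_of_component_centralizer hBX haa' hKXa hKXcomp (by rw [hKXcard]; exact heven)
  obtain ⟨D, hD, hcases⟩ := trichotomy haa' hKXlayer (QComp.of_isQuasisimple hKXq) hKXsub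
  -- components of `C_G(b)` viewed in `G`
  have hcompG : ∀ D : Subgroup ↥Cb, IsComponent D →
      D.map Cb.subtype ≤ Cb ∧ IsComponent ((D.map Cb.subtype).subgroupOf Cb) ∧
        Nat.card (D.map Cb.subtype) = Nat.card D := by
    intro D hD
    refine ⟨Subgroup.map_subtype_le _, ?_, Subgroup.card_map_of_injective (Subgroup.subtype_injective _)⟩
    have : (D.map Cb.subtype).subgroupOf Cb = D :=
      Subgroup.comap_map_eq_self_of_injective (Subgroup.subtype_injective _) D
    rw [this]; exact hD
  rcases hcases with ⟨-, hKD⟩ | hdiag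
  · -- the invariant case
    obtain ⟨h1, h2, h3⟩ := hcompG D hD
    have h4 := (hmax b hbord _ h1 h2).1
    rw [h3] at h4
    have : KX = D := Subgroup.eq_of_le_of_card_ge hKD (by rw [hKXcard]; exact h4)
    rw [this]
    exact hD
  · -- the diagonal case is impossible
    exfalso
    have hsurj : Function.Surjective (fun d : ↥D =>
        (⟨(d : ↥Cb) * (a' * d * a'⁻¹), (hdiag.mem _).2 ⟨d, d.2, rfl⟩⟩ : ↥KX)) := by
      rintro ⟨k, hk⟩
      obtain ⟨d, hd, rfl⟩ := (hdiag.mem k).1 hk
      exact ⟨⟨d, hd⟩, rfl⟩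
    obtain ⟨h1, h2, h3⟩ := hcompG D hD
    have h4 := (hmax b hbord _ h1 h2).1
    rw [h3, ← hKXcard] at h4
    have hbij := hsurj.bijective_of_nat_card_le h4
    have hinj : ∀ d ∈ D, ∀ e ∈ D, d * (a' * d * a'⁻¹) = e * (a' * e * a'⁻¹) → d = e := by
      intro d hd e he hde
      have := hbij.1 (a₁ := ⟨d, hd⟩) (a₂ := ⟨e, he⟩) (Subtype.ext hde)
      exact congrArg Subtype.val this
    have hcardD : Nat.card D = Nat.card K := by
      have h5 : Nat.card KX ≤ Nat.card D := Nat.card_le_card_of_surjective _ hsurj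
      rw [hKXcard] at h5 h4
      exact le_antisymm h4 h5
    -- the other component
    set D₂ : Subgroup ↥Cb := cj a' D with hD₂
    have hD₂ : IsComponent D₂ := isComponent_map_conj a' hD
    obtain ⟨g1, g2, g3⟩ := hcompG D₂ hD₂
    have hcardD₂ : Nat.card (D₂.map Cb.subtype) = Nat.card K := by
      rw [g3, card_cj, hcardD]
    have hm2 := (hmax b hbord _ g1 g2).2 hcardD₂
    -- the rank of `C(a) ∩ C(K)`
    have hBp : IsPGroup 2 ↥B := by
      intro x
      refine ⟨1, ?_⟩
      apply Subtype.ext
      have := hBel.2 x.1 x.2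
      simpa using this
    obtain ⟨r, hr⟩ := hBp.exists_card_eq
    have hrkB : PRankLE 2 r ↥(Ca ⊓ Subgroup.centralizer (K : Set G)) := by
      intro A' hc he
      have h5 := hBmax (A'.map (Ca ⊓ Subgroup.centralizer (K : Set G)).subtype)
        (Subgroup.map_subtype_le _) (isElementaryAbelian_map_subtype hc he)
      rw [Subgroup.card_map_of_injective (Subgroup.subtype_injective _), hr] at h5
      exact h5
    have hrkD := hm2 r hrkB
    -- transport `B` and `A` to `X`
    have hBCb : B ≤ Cb := by
      intro x hx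
      apply hmemCb
      exact comm_of_isElementaryAbelian hBel hb hx
    set BX : Subgroup ↥Cb := B.subgroupOf Cb with hBX'
    have hBXcard : Nat.card BX = Nat.card B := card_subgroupOf_of_le hBCb
    have hBXa : BX ≤ Subgroup.centralizer ({a'} : Set ↥Cb) := by
      rw [hCaX]
      intro x hx
      exact (hBle (Subgroup.mem_subgroupOf.1 hx)).1
    have hBXK : BX ≤ Subgroup.centralizer (KX : Set ↥Cb) := by
      intro x hx
      rw [Subgroup.mem_centralizer_iff]
      intro k hk
      apply Subtype.ext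
      exact Subgroup.mem_centralizer_iff.1 (hBle (Subgroup.mem_subgroupOf.1 hx)).2 k
        (Subgroup.mem_subgroupOf.1 hk)
    have hBXel : IsElementaryAbelian 2 BX := isElementaryAbelian_subgroupOf hBel Cb
    set AX : Subgroup ↥Cb := AG.subgroupOf Cb with hAX
    have hAXcard : Nat.card AX = Nat.card A₀ := by
      rw [card_subgroupOf_of_le (hAGK.trans hKb), hAGcard]
    have hAXK : AX ≤ KX := fun x hx => hAGK hx
    have hAXel : IsElementaryAbelian 2 AX := isElementaryAbelian_subgroupOf hAGel Cb
    obtain ⟨W, hWc, hWel, hWcard⟩ := hdiag.rank_witness haa' hinj hBXa hBXK hBXel hAXK hAXel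
    -- back to `G`
    set WG : Subgroup G := W.map Cb.subtype with hWG
    have hWGle : WG ≤ Cb ⊓ Subgroup.centralizer ((D₂.map Cb.subtype : Subgroup G) : Set G) := by
      apply le_inf (Subgroup.map_subtype_le _)
      rintro _ ⟨w, hw, rfl⟩
      rw [Subgroup.mem_centralizer_iff]
      rintro _ ⟨e, he, rfl⟩
      have := Subgroup.mem_centralizer_iff.1 (hWc hw) e he
      exact congrArg Subtype.val this
    have hWGel : IsElementaryAbelian 2 WG := isElementaryAbelian_map_subtype hWel.1 hWel.2
    have hWGcard : Nat.card WG = Nat.card W :=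
      Subgroup.card_map_of_injective (Subgroup.subtype_injective _)
    set W' := WG.subgroupOf (Cb ⊓ Subgroup.centralizer ((D₂.map Cb.subtype : Subgroup G) : Set G))
      with hW'
    have hW'el := isElementaryAbelian_subgroupOf hWGel
      (Cb ⊓ Subgroup.centralizer ((D₂.map Cb.subtype : Subgroup G) : Set G))
    have hW'card : Nat.card W' = Nat.card W := by
      rw [card_subgroupOf_of_le hWGle, hWGcard]
    have hfinal := hrkD W' hW'el.1 hW'el.2
    rw [hW'card] at hfinal
    rw [hBXcard, hAXcard, hr] at hWcard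
    have hpos : 0 < 2 ^ r := by positivity
    have h6 : 2 ^ r * 4 ≤ 2 ^ r * Nat.card A₀ := Nat.mul_le_mul_left _ hA₀card
    have h7 : 2 * Nat.card W ≤ 2 * 2 ^ r := Nat.mul_le_mul_left _ hfinal
    omega

end Cfsg.Agent.Lib.H23.CT
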