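import Mathlib
import Cfsg.Agent.Lib.H23.CT7

/-!
# Components of involution centralizers (helper23), part 8: from intrinsic `2`-components back to
the definitions: a subnormal intrinsic `2`-component lies in the `2`-layer, and it is quasisimple as
soon as it centralizes its own core.
-/

set_option autoImplicit false
set_option linter.unusedSectionVars false
set_option linter.unusedVariables false
set_option linter.style.haveILetI false

open scoped commutatorElement

namespace Cfsg.Agent.Lib.H23.CT

open Cfsg Cfsg.Agent.Lib.H7 Cfsg.Agent.Lib.H23.LB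

universe u

/-- an intrinsic `2`-component can be recognised in an injective image -/
theorem TwoComp.of_map {Y : Type u} {Y' : Type*} [Group Y] [Group Y'] [Finite Y] [Finite Y']
    (f : Y →* Y') (hf : Function.Injective f) {K : Subgroup Y} (h : TwoComp (K.map f)) :
    TwoComp K where
  perf := by
    have := h.perf
    rw [← Subgroup.map_commutator] at this
    exact Subgroup.map_injective hf this
  gen := by
    have hg := h.gen
    unfold TwoGen at hg ⊢
    have hset : {y : Y' | y ∈ K.map f ∧ ∃ k : ℕ, y ^ 2 ^ k = 1} =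
        f '' {x : Y | x ∈ K ∧ ∃ k : ℕ, x ^ 2 ^ k = 1} := by
      ext y
      constructor
      · rintro ⟨⟨x, hx, rfl⟩, k, hk⟩
        refine ⟨x, ⟨hx, k, ?_⟩, rfl⟩
        apply hf
        rw [map_pow, hk, map_one]
      · rintro ⟨x, ⟨hx, k, hk⟩, rfl⟩
        exact ⟨⟨x, hx, rfl⟩, k, by rw [← map_pow, hk, map_one]⟩
    rw [hset, ← MonoidHom.map_closure] at hg
    exact (Subgroup.map_le_map_iff_of_injective hf).1 hg
  normal := by
    intro N hNK hKN
    have h1 : N.map f ≤ K.map f := Subgroup.map_mono hNK
    have h2 : K.map f ≤ Subgroup.normalizer ((N.map f : Subgroup Y') : Set Y') := by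
      rintro _ ⟨k, hk, rfl⟩
      exact map_mem_normalizer f (hKN hk)
    rcases h.normal _ h1 h2 with h3 | h3
    · left
      exact Subgroup.map_injective hf h3
    · right
      rw [← Subgroup.map_commutator, oc_map_of_injective f hf] at h3
      exact (Subgroup.map_le_map_iff_of_injective hf).1 h3
  not_odd := by
    intro hodd
    apply h.not_odd
    rw [oc_map_of_injective f hf]
    exact Subgroup.map_mono hodd

/-- the image of an intrinsic `2`-component under a homomorphism killing `[O(J), J]` but not `J`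
is quasisimple -/
theorem TwoComp.isQuasisimple_map {Y : Type u} {Y' : Type*} [Group Y] [Group Y'] [Finite Y]
    (f : Y →* Y') {J : Subgroup Y} (hJ : TwoComp J) (hk : ⁅oc J, J⁆ ≤ f.ker)
    (hne : ¬ J ≤ f.ker) : IsQuasisimple ↥(J.map f) := by
  set Jb := J.map f with hJb
  have hperf : ⁅Jb, Jb⁆ = Jb := by rw [hJb, ← Subgroup.map_commutator, hJ.perf]
  apply isQuasisimple_of_forall_normal (Subgroup.isPerfect_iff.2 hperf)
  · rw [Subgroup.nontrivial_iff_ne_bot]
    intro h0
    apply hne
    intro j hj
    have : f j ∈ Jb := ⟨j, hj, rfl⟩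
    rw [h0, Subgroup.mem_bot] at this
    exact this
  · intro N' hN'
    set Nb : Subgroup Y' := N'.map Jb.subtype with hNb
    have hNbJb : Nb ≤ Jb := Subgroup.map_subtype_le _
    set N := J ⊓ Nb.comap f with hN
    have hNJ : N ≤ J := inf_le_left
    have hJbn : Jb ≤ Subgroup.normalizer (Nb : Set Y') := by
      intro k hk
      rw [Subgroup.mem_normalizer_iff]
      intro x
      constructor
      · rintro ⟨n, hn, rfl⟩
        exact ⟨⟨k, hk⟩ * n * ⟨k, hk⟩⁻¹, hN'.conj_mem n hn _, rfl⟩
      · rintro ⟨n, hn, hnx⟩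
        refine ⟨⟨k, hk⟩⁻¹ * n * ⟨k, hk⟩, ?_, ?_⟩
        · have := hN'.conj_mem n hn ⟨k, hk⟩⁻¹
          simpa using this
        · simp only [Subgroup.coe_subtype, Subgroup.coe_mul, InvMemClass.coe_inv] at hnx ⊢
          rw [hnx]; group
    have hJN : J ≤ Subgroup.normalizer (N : Set Y) := by
      intro j hj
      apply mem_normalizer_inf (Subgroup.le_normalizer hj)
      exact Subgroup.le_normalizer_comap f (Subgroup.mem_comap.2 (hJbn ⟨j, hj, rfl⟩))
    have hmap : N.map f = Nb := by
      apply le_antisymm
      · rintro _ ⟨x, hx, rfl⟩; exact hx.2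
      · intro y hy
        obtain ⟨x, hx, rfl⟩ := hNbJb hy
        exact ⟨x, ⟨hx, hy⟩, rfl⟩
    rcases hJ.normal N hNJ hJN with h | h
    · left
      rw [eq_top_iff]
      intro z _
      have hz : (z : Y') ∈ Nb := by
        rw [← hmap, h]; exact z.2
      obtain ⟨n, hn, hnz⟩ := hz
      have : n = z := Subtype.ext hnz
      rwa [← this]
    · right
      -- `[[Nb, Jb], Jb] = 1`
      have h1 : ⁅⁅Nb, Jb⁆, Jb⁆ = ⊥ := by
        rw [← hmap, hJb, ← Subgroup.map_commutator, ← Subgroup.map_commutator, eq_bot_iff,
          Subgroup.map_le_iff_le_comap, MonoidHom.comap_bot]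
        exact (Subgroup.commutator_mono h le_rfl).trans hk
      have h2 : ⁅⁅Jb, Nb⁆, Jb⁆ = ⊥ := by rwa [Subgroup.commutator_comm Jb Nb]
      have h3 : ⁅Jb, Nb⁆ = ⊥ := comm_eq_bot_of_perfect hperf h2
      intro n hn
      rw [Subgroup.mem_center_iff]
      intro g
      have h4 := Subgroup.commutator_eq_bot_iff_le_centralizer.1 h3 g.2
      have h5 := Subgroup.mem_centralizer_iff.1 h4 (n : Y') ⟨n, hn, rfl⟩
      exact Subtype.ext h5.symm

/-- an intrinsic `2`-component centralizing its core is quasisimple -/
theorem TwoComp.isQuasisimple_of_comm {Y : Type u} [Group Y] [Finite Y] {J : Subgroup Y}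
    (hJ : TwoComp J) (hc : ⁅oc J, J⁆ = ⊥) : IsQuasisimple ↥J := by
  have h1 : IsQuasisimple ↥(J.map (MonoidHom.id Y)) := by
    apply TwoComp.isQuasisimple_map (MonoidHom.id Y) hJ
    · rw [hc]; exact bot_le
    · intro h
      apply hJ.not_odd
      intro j hj
      have : j = 1 := by simpa using h hj
      rw [this]; exact Subgroup.one_mem _
  have h2 : J.map (MonoidHom.id Y) = J := Subgroup.map_id J
  rw [h2] at h1
  exact h1

/-- a subnormal intrinsic `2`-component lies in the `2`-layer -/
theorem TwoComp.le_pLayer {Z : Type u} [Group Z] [Finite Z] {J : Subgroup Z} (hJ : TwoComp J)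
    (hsub : J.IsSubnormal) : J ≤ pLayer 2 Z := by
  haveI : Fact (Nat.Prime 2) := ⟨Nat.prime_two⟩
  set O := pPrimeCore 2 Z with hO
  haveI hOn : O.Normal := Cfsg.Agent.Lib.H22.pPrimeCore_normal 2
  set π := QuotientGroup.mk' O with hπ
  have hoc : oc J = O ⊓ J := map_pPrimeCore_of_isSubnormal 2 hsub
  have hker : π.ker = O := QuotientGroup.ker_mk' O
  have hq : IsQuasisimple ↥(J.map π) := by
    apply TwoComp.isQuasisimple_map π hJ
    · rw [hker, hoc]
      exact (Subgroup.commutator_mono inf_le_left le_top).trans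
        (Subgroup.commutator_le_left O ⊤)
    · rw [hker]
      intro h
      apply hJ.not_odd
      rw [hoc]
      exact le_inf h le_rfl
  have hcomp : IsComponent (J.map π) := ⟨hsub.map (QuotientGroup.mk'_surjective O), hq⟩
  have hpre : J ≤ pPrimeLayerPre 2 Z := by
    rw [← Subgroup.map_le_iff_le_comap]
    exact component_le_layer hcomp
  refine hJ.gen.trans ?_
  rw [Subgroup.closure_le]
  rintro x ⟨hx, k, hk⟩
  obtain ⟨k', -, hk'⟩ := (Nat.dvd_prime_pow Nat.prime_two).1 (orderOf_dvd_of_pow_eq_one hk)
  exact Cfsg.Agent.Lib.H10.mem_pLayer_of_orderOf hk' (hpre hx)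

/-- if `F*(G)` is non-abelian simple then the centre of `G` is trivial -/
theorem center_eq_bot_of_fstar_simple {G : Type u} [Group G] [Finite G]
    (hF : IsSimpleGroup ↥(generalizedFittingSubgroup G))
    (hF' : ¬ IsMulCommutative ↥(generalizedFittingSubgroup G)) : Subgroup.center G = ⊥ := by
  set F := generalizedFittingSubgroup G with hFdef
  have hZF : Subgroup.center G ≤ F := by
    refine le_trans ?_ fittingSubgroup_le_generalizedFittingSubgroup
    apply le_sSup
    refine ⟨inferInstance, ?_⟩
    haveI : IsMulCommutative ↥(Subgroup.center G) := inferInstance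
    letI : CommGroup ↥(Subgroup.center G) := IsMulCommutative.instCommGroup
    exact CommGroup.isNilpotent
  haveI : ((Subgroup.center G).subgroupOf F).Normal := inferInstance
  rcases hF.eq_bot_or_eq_top_of_normal ((Subgroup.center G).subgroupOf F) inferInstance with h | h
  · rw [Subgroup.subgroupOf_eq_bot, disjoint_iff, inf_eq_left.2 hZF] at h
    exact h
  · exfalso
    apply hF'
    rw [Subgroup.subgroupOf_eq_top] at h
    refine ⟨⟨fun a b => ?_⟩⟩
    apply Subtype.ext
    have := Subgroup.mem_center_iff.1 (h a.2) (b : G)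
    exact this.symm

end Cfsg.Agent.Lib.H23.CT
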