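import Mathlib
import Cfsg.Agent.Lib.H23.CT8
import Cfsg.Agent.Lib.H7.ExtLayer2

/-!
# Components of involution centralizers (helper23), part 9: `2`-components of
`L_{2'}(C_G(x)) ∩ C_G(y)` map to components of `C_Q(x̄)`, `Q = C_G(y)/O(C_G(y))`, when the proper
sections of `G` have the `B`-property (statement S1775).
-/

set_option autoImplicit false
set_option linter.unusedSectionVars false
set_option linter.unusedVariables false
set_option linter.style.haveILetI false

open scoped commutatorElement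

namespace Cfsg.Agent.Lib.H23.CT

open Cfsg Cfsg.Agent.Lib.H7 Cfsg.Agent.Lib.H23.LB

universe u

theorem centralizer_singleton_subtype_eq {G : Type u} [Group G] (Cx Cy : Subgroup G) {x : G}
    (hCx : Cx = Subgroup.centralizer ({x} : Set G)) (hx : x ∈ Cy) :
    Subgroup.centralizer ({(⟨x, hx⟩ : ↥Cy)} : Set ↥Cy) = (Cx ⊓ Cy).subgroupOf Cy := by
  ext z
  rw [Subgroup.mem_subgroupOf, Subgroup.mem_inf, hCx, Subgroup.mem_centralizer_iff,
    Subgroup.mem_centralizer_iff]
  constructor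
  · intro h
    refine ⟨?_, z.2⟩
    intro w hw
    rw [Set.mem_singleton_iff] at hw
    rw [hw]
    exact congrArg Subtype.val (h ⟨x, hx⟩ rfl)
  · rintro ⟨h, -⟩ w hw
    rw [Set.mem_singleton_iff] at hw
    rw [hw]
    exact Subtype.ext (h x rfl)

theorem s1775_aux {G : Type u} [Group G] [Finite G]
    (hF : IsSimpleGroup ↥(Cfsg.generalizedFittingSubgroup G)) (hF' : ¬ IsMulCommutative ↥(Cfsg.generalizedFittingSubgroup G))
    (hsec : ∀ (H : Subgroup G) (N : Subgroup ↥H) [N.Normal], (H ≠ ⊤ ∨ N ≠ ⊥) → Cfsg.HasBProperty (↥H ⧸ N))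
    (x y : G) (hx : orderOf x = 2) (hy : orderOf y = 2) (hxy : x * y = y * x)
    (D₀ : Subgroup G)
    (hD₀ : D₀ = (Cfsg.pLayer 2 ↥(Subgroup.centralizer ({x} : Set G))).map (Subgroup.centralizer ({x} : Set G)).subtype ⊓ Subgroup.centralizer ({y} : Set G))
    (J : Subgroup ↥D₀)
    (hJ : Cfsg.IsPComponent 2 J) :
    Cfsg.IsComponent
        ((((J.map D₀.subtype).subgroupOf (Subgroup.centralizer ({y} : Set G))).map (QuotientGroup.mk' (Cfsg.oddCore ↥(Subgroup.centralizer ({y} : Set G))))).subgroupOf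
          (Subgroup.centralizer ({(QuotientGroup.mk' (Cfsg.oddCore ↥(Subgroup.centralizer ({y} : Set G))) ⟨x, Subgroup.mem_centralizer_singleton_iff.mpr hxy⟩ : ↥(Subgroup.centralizer ({y} : Set G)) ⧸ Cfsg.oddCore ↥(Subgroup.centralizer ({y} : Set G)))} : Set _))) ∧
      ∀ E : Subgroup G, E ≤ Subgroup.centralizer ({x} : Set G) ⊓ Subgroup.centralizer ({y} : Set G) → Odd (Nat.card ↥E) →
        (∀ j ∈ J.map D₀.subtype, ∀ e ∈ E, j * e * j⁻¹ ∈ E) →
          ⁅J.map D₀.subtype, E⁆ ≤ (Cfsg.oddCore ↥(Subgroup.centralizer ({y} : Set G))).map (Subgroup.centralizer ({y} : Set G)).subtype := by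
  haveI : Fact (Nat.Prime 2) := ⟨Nat.prime_two⟩
  set Cx := Subgroup.centralizer ({x} : Set G) with hCx
  set Cy := Subgroup.centralizer ({y} : Set G) with hCy
  set LG := (pLayer 2 ↥Cx).map Cx.subtype with hLG
  set O := oddCore ↥Cy with hO
  haveI hOn : O.Normal := Cfsg.Agent.Lib.H22.pPrimeCore_normal 2
  set π := QuotientGroup.mk' O with hπ
  have hxCy : x ∈ Cy := Subgroup.mem_centralizer_singleton_iff.mpr hxy
  set x' : ↥Cy := ⟨x, hxCy⟩ with hx'
  set xb := π x' with hxb
  set Mb := Subgroup.centralizer ({xb} : Set (↥Cy ⧸ O)) with hMb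
  set JG := J.map D₀.subtype with hJG
  set JY := JG.subgroupOf Cy with hJY
  set Jb := JY.map π with hJb
  -- `C_G(y)` is a proper subgroup
  have hCyne : Cy ≠ ⊤ := by
    intro h
    have hyc : y ∈ Subgroup.center G := by
      rw [Subgroup.mem_center_iff]
      intro g
      have hg : g ∈ Cy := by rw [h]; exact Subgroup.mem_top g
      exact Subgroup.mem_centralizer_singleton_iff.1 hg
    rw [center_eq_bot_of_fstar_simple hF hF', Subgroup.mem_bot] at hyc
    rw [hyc, orderOf_one] at hy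
    omega
  have hBQ : HasBProperty (↥Cy ⧸ O) := hsec Cy O (Or.inl hCyne)
  have hOodd : (Nat.card O).Coprime 2 := Cfsg.Agent.Lib.H22.card_pPrimeCore_coprime 2
  have hker : π.ker = O := QuotientGroup.ker_mk' O
  have hxx : x * x = 1 := by
    have := pow_orderOf_eq_one x
    rwa [hx, pow_two] at this
  have hx'2 : x' ^ 2 = 1 := by
    apply Subtype.ext
    rw [Subgroup.coe_pow, Subgroup.coe_one, pow_two]
    exact hxx
  have hxb2 : xb ^ 2 = 1 := by rw [hxb, ← map_pow, hx'2, map_one]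
  have hxb1 : xb ≠ 1 := by
    intro h
    have hmem : x' ∈ O := by
      rw [← hker]; exact (MonoidHom.mem_ker).2 h
    have hord : orderOf x' = 2 := by
      have : orderOf (x' : G) = orderOf x' := Subgroup.orderOf_coe x'
      rw [← this]; exact hx
    have h2 : orderOf (⟨x', hmem⟩ : ↥O) = 2 := by
      have : orderOf ((⟨x', hmem⟩ : ↥O) : ↥Cy) = orderOf (⟨x', hmem⟩ : ↥O) := Subgroup.orderOf_coe _
      rw [← this]; exact hord
    have h3 : 2 ∣ Nat.card O := h2 ▸ orderOf_dvd_natCard _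
    have := Nat.Coprime.eq_one_of_dvd hOodd.symm h3
    omega
  have hxbord : orderOf xb = 2 := orderOf_eq_prime hxb2 hxb1
  have hBM : ⁅pLayer 2 ↥Mb, oddCore ↥Mb⁆ = ⊥ := by
    have h1 := hBQ xb hxbord
    have h2 : oddCore (↥Cy ⧸ O) = ⊥ := Cfsg.Agent.Lib.H9.pPrimeCore_quotient_eq_bot 2
    rw [h2, le_bot_iff] at h1
    exact (Subgroup.map_eq_bot_iff_of_injective _ (Subgroup.subtype_injective _)).1 h1
  -- intrinsic `2`-components
  have hJ2 : TwoComp J := twoComp_of_isPComponent hJ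
  have hJG2 : TwoComp JG := hJ2.map D₀.subtype (by rw [D₀.ker_subtype, inf_bot_eq]; simp)
  have hJGD : JG ≤ D₀ := Subgroup.map_subtype_le _
  have hD₀Cy : D₀ ≤ Cy := by rw [hD₀]; exact inf_le_right
  have hJGCy : JG ≤ Cy := hJGD.trans hD₀Cy
  have hJY2 : TwoComp JY := by
    apply TwoComp.of_map Cy.subtype (Subgroup.subtype_injective _)
    rw [Subgroup.map_subgroupOf_eq_of_le hJGCy]
    exact hJG2
  have hJb2 : TwoComp Jb := by
    apply hJY2.map π
    have : (JY ⊓ π.ker : Subgroup ↥Cy) ≤ O := by rw [hker]; exact inf_le_right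
    exact Nat.Coprime.coprime_dvd_left (Subgroup.card_dvd_of_le this) hOodd
  -- subnormality
  have s1 : SubnIn JG D₀ := subnIn_map_subtype hJ.1
  have hLGCx : LG ≤ Cx := Subgroup.map_subtype_le _
  have hLGn : Cx ≤ Subgroup.normalizer (LG : Set G) := by
    rw [← Subgroup.normal_subgroupOf_iff_le_normalizer hLGCx]
    have : LG.subgroupOf Cx = pLayer 2 ↥Cx :=
      Subgroup.comap_map_eq_self_of_injective (Subgroup.subtype_injective _) _
    rw [this]
    exact pLayer_normal 2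
  have s2 : SubnIn D₀ (Cx ⊓ Cy) := by
    rw [hD₀]
    exact SubnIn.of_normal (inf_le_inf_right _ hLGCx)
      (fun g hg => mem_normalizer_inf (hLGn hg.1) (Subgroup.le_normalizer hg.2))
  have s3 : SubnIn JG (Cx ⊓ Cy) := s1.trans s2
  have s4 : SubnIn JY ((Cx ⊓ Cy).subgroupOf Cy) := subnIn_subgroupOf s3 Cy
  have s5 : SubnIn Jb (((Cx ⊓ Cy).subgroupOf Cy).map π) := s4.map π
  have hMbeq : ((Cx ⊓ Cy).subgroupOf Cy).map π = Mb := by
    rw [← centralizer_singleton_subtype_eq Cx Cy hCx hxCy, ← centralizer_zpowers_eq x']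
    have hP : IsPGroup 2 ↥(Subgroup.zpowers x') :=
      isPGroup_zpowers_of_pow (k := 1) (by rw [pow_one]; exact hx'2)
    have h1 := map_centralizer_of_coprime 2 hOodd hP
    rw [h1, MonoidHom.map_zpowers, centralizer_zpowers_eq]
  have s6 : SubnIn Jb Mb := hMbeq ▸ s5
  have hJbMb : Jb ≤ Mb := s6.le
  set JM := Jb.subgroupOf Mb with hJM
  have hJMsub : JM.IsSubnormal := isSubnormal_subgroupOf_of_subnIn s6
  have hJM2 : TwoComp JM := by
    apply TwoComp.of_map Mb.subtype (Subgroup.subtype_injective _)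
    rw [Subgroup.map_subgroupOf_eq_of_le hJbMb]
    exact hJb2
  have hJML : JM ≤ pLayer 2 ↥Mb := TwoComp.le_pLayer hJM2 hJMsub
  have hocJM : oc JM ≤ oddCore ↥Mb := by
    have : oc JM = pPrimeCore 2 ↥Mb ⊓ JM := map_pPrimeCore_of_isSubnormal 2 hJMsub
    rw [this]; exact inf_le_left
  have hcomm : ⁅oc JM, JM⁆ = ⊥ := by
    rw [eq_bot_iff, ← hBM, Subgroup.commutator_comm (pLayer 2 ↥Mb)]
    exact Subgroup.commutator_mono hocJM hJML
  have hJMq : IsQuasisimple ↥JM := TwoComp.isQuasisimple_of_comm hJM2 hcomm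
  refine ⟨⟨hJMsub, hJMq⟩, ?_⟩
  -- part (ii)
  intro E hE hEodd hnorm
  have hECy : E ≤ Cy := hE.trans inf_le_right
  set EY := E.subgroupOf Cy with hEY
  set Eb := EY.map π with hEb
  have hEbMb : Eb ≤ Mb := by
    rw [← hMbeq]
    exact Subgroup.map_mono (fun z hz => hE hz)
  have hEYcard : Nat.card EY = Nat.card E := card_subgroupOf_of_le hECy
  have hEbodd : (Nat.card Eb).Coprime 2 := by
    have h1 : Nat.card Eb ∣ Nat.card EY := Subgroup.card_map_dvd EY π
    rw [hEYcard] at h1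
    exact Nat.Coprime.coprime_dvd_left h1 (Nat.Coprime.symm (Nat.coprime_two_left.2 hEodd))
  have hJbq : IsQuasisimple ↥Jb := quasisimple_of_mulEquiv (Subgroup.subgroupOfEquivOfLe hJbMb) hJMq
  have hJbQ : QComp Jb := QComp.of_isQuasisimple hJbq
  have hJYn : JY ≤ Subgroup.normalizer (EY : Set ↥Cy) := by
    intro j hj
    have hjG : (j : G) ∈ JG := Subgroup.mem_subgroupOf.1 hj
    rw [Subgroup.mem_normalizer_iff]
    intro e
    rw [Subgroup.mem_subgroupOf, Subgroup.mem_subgroupOf]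
    constructor
    · intro he
      have := hnorm _ hjG _ he
      simpa using this
    · intro he
      have := hnorm _ (JG.inv_mem hjG) _ he
      simp only [Subgroup.coe_mul, InvMemClass.coe_inv, inv_inv] at this
      have e1 : (j : G)⁻¹ * ((j : G) * (e : G) * (j : G)⁻¹) * (j : G) = e := by group
      rwa [e1] at this
  have hJbn : Jb ≤ Subgroup.normalizer (Eb : Set (↥Cy ⧸ O)) := by
    rintro _ ⟨j, hj, rfl⟩
    exact map_mem_normalizer π (hJYn hj)
  set R := Jb ⊔ Eb with hR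
  have t1 : SubnIn Jb R := s6.of_le le_sup_left (sup_le hJbMb hEbMb)
  have t2 : SubnIn Eb R := SubnIn.of_normal le_sup_right (sup_le hJbn Subgroup.le_normalizer)
  rcases hJbQ.le_or_comm t1 t2 with h | h
  · exfalso
    apply hJb2.not_odd
    apply le_oc le_rfl Subgroup.le_normalizer
    exact Nat.Coprime.coprime_dvd_left (Subgroup.card_dvd_of_le h) hEbodd
  · have h1 : ⁅JY, EY⁆ ≤ O := by
      rw [← hker, ← MonoidHom.comap_bot, ← Subgroup.map_le_iff_le_comap, Subgroup.map_commutator,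
        le_bot_iff]
      exact h
    have h2 : ⁅JG, E⁆ = (⁅JY, EY⁆).map Cy.subtype := by
      rw [Subgroup.map_commutator, Subgroup.map_subgroupOf_eq_of_le hJGCy,
        Subgroup.map_subgroupOf_eq_of_le hECy]
    rw [h2]
    exact Subgroup.map_mono h1

theorem s1775 {G : Type u} [Group G] [Finite G]
    (hF : IsSimpleGroup ↥(Cfsg.generalizedFittingSubgroup G)) (hF' : ¬ IsMulCommutative ↥(Cfsg.generalizedFittingSubgroup G))
    (hsec : ∀ (H : Subgroup G) (N : Subgroup ↥H) [N.Normal], (H ≠ ⊤ ∨ N ≠ ⊥) → Cfsg.HasBProperty (↥H ⧸ N))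
    (x y : G) (hx : orderOf x = 2) (hy : orderOf y = 2) (hxy : x * y = y * x)
    (J : Subgroup ↥((Cfsg.pLayer 2 ↥(Subgroup.centralizer ({x} : Set G))).map (Subgroup.centralizer ({x} : Set G)).subtype ⊓ Subgroup.centralizer ({y} : Set G)))
    (hJ : Cfsg.IsPComponent 2 J) :
    Cfsg.IsComponent
        ((((J.map (Subgroup.subtype _)).subgroupOf (Subgroup.centralizer ({y} : Set G))).map (QuotientGroup.mk' (Cfsg.oddCore ↥(Subgroup.centralizer ({y} : Set G))))).subgroupOf
          (Subgroup.centralizer ({(QuotientGroup.mk' (Cfsg.oddCore ↥(Subgroup.centralizer ({y} : Set G))) ⟨x, Subgroup.mem_centralizer_singleton_iff.mpr hxy⟩ : ↥(Subgroup.centralizer ({y} : Set G)) ⧸ Cfsg.oddCore ↥(Subgroup.centralizer ({y} : Set G)))} : Set _))) ∧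
      ∀ E : Subgroup G, E ≤ Subgroup.centralizer ({x} : Set G) ⊓ Subgroup.centralizer ({y} : Set G) → Odd (Nat.card ↥E) →
        (∀ j ∈ J.map (Subgroup.subtype _), ∀ e ∈ E, j * e * j⁻¹ ∈ E) →
          ⁅J.map (Subgroup.subtype _), E⁆ ≤ (Cfsg.oddCore ↥(Subgroup.centralizer ({y} : Set G))).map (Subgroup.centralizer ({y} : Set G)).subtype :=
  s1775_aux hF hF' hsec x y hx hy hxy _ rfl J hJ

end Cfsg.Agent.Lib.H23.CT
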