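import Cfsg.Agent.Lib.H23.AbSylI

/-!
# S1950, piece END3: the case `e = p - 1`, `|P| ≥ p²` (helper23)

`P` an abelian Sylow `p`-subgroup with `C_N(y) = C_G(P)` for `y ∈ P#`, `|N_G(P) : C_G(P)| = p - 1`,
`p ≥ 3`, `|P| ≥ p²`, `z ∈ P#`.  On the landed structure theorem `AbSyl.main` (principal block
`= X ⊔ Y`): `d = 0`, `∑_X a² = p - 1`, `|η(z)| ≤ p - 1` on `Y`, `∑_{B₀} |χ(z)|² = |P|`.
If moreover every `χ ∈ B₀` has `χ(1) = χ(z) + p n` (`n : ℕ`), only the trivial character has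
`χ(z) = χ(1)`, and the cube identity `∑_{B₀} χ(z)³/χ(1) = |P| (p-2)/(p-1)` holds, we get a contradiction:
the left side is at most `1 + (p-2)/2 + (|P| - p + 1)(p-1)/(2p-1)`.
-/

set_option autoImplicit false

namespace Cfsg.Agent.Lib.H23.CY

open Cfsg Cfsg.Agent.Lib.H23 Cfsg.Agent.Lib.H24 Cfsg.Agent.Lib.L0
  Cfsg.Agent.Lib.L0.PrincipalCrit Cfsg.Agent.Lib.L0.PrincipalBrauerPair Cfsg.Agent.Lib.H23.AbSyl
open scoped ComplexConjugate

/-- The termwise bound. -/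
theorem term_bound (r D p κ : ℝ) (hD : 0 < D) (hκ : 0 ≤ κ)
    (h : r ≤ 0 ∨ (r + p ≤ D ∧ r ≤ κ * (r + p))) : r ^ 3 / D ≤ κ * r ^ 2 := by
  have hneg : r ≤ 0 → r ^ 3 / D ≤ κ * r ^ 2 := by
    intro hr
    have h3 : r ^ 3 ≤ 0 := by
      have : r ^ 3 = r * r ^ 2 := by ring
      rw [this]
      exact mul_nonpos_of_nonpos_of_nonneg hr (sq_nonneg r)
    calc r ^ 3 / D ≤ 0 := div_nonpos_of_nonpos_of_nonneg h3 hD.le
      _ ≤ κ * r ^ 2 := mul_nonneg hκ (sq_nonneg r)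
  rcases h with h | ⟨h1, h2⟩
  · exact hneg h
  · by_cases hr : r ≤ 0
    · exact hneg hr
    · rw [div_le_iff₀ hD]
      have hA := mul_le_mul_of_nonneg_left h1 (mul_nonneg hκ (sq_nonneg r))
      have hB := mul_le_mul_of_nonneg_left h2 (sq_nonneg r)
      nlinarith [hA, hB]

/-- The final numerical contradiction. -/
theorem numeric_contra (p q : ℝ) (hp : 3 ≤ p) (hq : p ^ 2 ≤ q)
    (h : q * (p - 2) / (p - 1) ≤ 1 + (1 / 2) * (p - 2) + (p - 1) / (2 * p - 1) * (q - (p - 1))) :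
    False := by
  have h1 : (0 : ℝ) < p - 1 := by linarith
  have h2 : (0 : ℝ) < 2 * p - 1 := by linarith
  rw [div_le_iff₀ h1] at h
  have h3 : (p - 1) / (2 * p - 1) * (q - (p - 1)) = (p - 1) * (q - (p - 1)) / (2 * p - 1) := by
    ring
  rw [h3] at h
  have h4 : (1 + 1 / 2 * (p - 2) + (p - 1) * (q - (p - 1)) / (2 * p - 1)) * (p - 1) =
      ((1 + 1 / 2 * (p - 2)) * (2 * p - 1) * (p - 1) + (p - 1) * (q - (p - 1)) * (p - 1)) /
        (2 * p - 1) := by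
    field_simp
  rw [h4, le_div_iff₀ h2] at h
  -- 2 q (p² - 3p + 1) ≤ (p - 1)(3p - 2)
  obtain ⟨s, rfl⟩ : ∃ s, p = s + 3 := ⟨p - 3, by ring⟩
  obtain ⟨w, rfl⟩ : ∃ w, q = (s + 3) ^ 2 + w := ⟨q - (s + 3) ^ 2, by ring⟩
  have hs : 0 ≤ s := by linarith
  have hw : 0 ≤ w := by linarith
  nlinarith [mul_nonneg hs hw, mul_nonneg (mul_nonneg hs hs) hw, mul_nonneg hs hs,
    mul_nonneg (mul_nonneg hs hs) hs, mul_nonneg (mul_nonneg hs hs) (mul_nonneg hs hs)]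

variable {G : Type*} [Group G] [Finite G] {p : ℕ} [Fact p.Prime] {M : Ideal AlgInt}

/-- The `N_G(P)`-classes of nontrivial characters have `p - 1` elements when `|N : C| = p - 1`. -/
theorem class_card_eq (P : Subgroup G)
    (hcomm : ∀ a ∈ P, ∀ b ∈ P, a * b = b * a)
    (hfrob : ∀ y : G, y ∈ P → y ≠ 1 →
      Subgroup.centralizer ({y} : Set G) ⊓ Subgroup.normalizer (P : Set G) =
        Subgroup.centralizer (P : Set G))
    (m : ℕ)
    (hCN : (Subgroup.centralizer (P : Set G)).relIndex (Subgroup.normalizer (P : Set G)) = m)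
    (ψ : ↥P →* ℂˣ) (hψ : ψ ≠ 1) :
    Nat.card {ψ' : ↥P →* ℂˣ // Rel P ψ ψ'} = m := by
  have h1 := class_card P hcomm hfrob ψ hψ
  have h2 := AbSyl.relIndex_mul_card_of_le (Subgroup.centralizer_le_normalizer (P : Set G))
  rw [hCN] at h2
  have hpos : 0 < Nat.card ↥(Subgroup.centralizer (P : Set G)) := Nat.card_pos
  exact Nat.eq_of_mul_eq_mul_right hpos (h1.trans h2.symm)

/-- The norm of a class sum of linear characters is at most the class size. -/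
theorem norm_class_sum_le (P : Subgroup G) (ψ : ↥P →* ℂˣ) (y : ↥P) :
    ‖∑ᶠ ψ' ∈ {ψ' : ↥P →* ℂˣ | Rel P ψ ψ'}, ((ψ' y : ℂˣ) : ℂ)‖ ≤
      (Nat.card {ψ' : ↥P →* ℂˣ // Rel P ψ ψ'} : ℝ) := by
  classical
  have hfin : ({ψ' : ↥P →* ℂˣ | Rel P ψ ψ'} : Set (↥P →* ℂˣ)).Finite := Set.toFinite _
  rw [finsum_mem_eq_finite_toFinset_sum _ hfin]
  have hcard : Nat.card {ψ' : ↥P →* ℂˣ // Rel P ψ ψ'} = hfin.toFinset.card := by
    have := Set.ncard_eq_toFinset_card _ hfin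
    rw [← this]
    exact _root_.Nat.card_coe_set_eq _
  rw [hcard]
  calc ‖∑ ψ' ∈ hfin.toFinset, ((ψ' y : ℂˣ) : ℂ)‖
      ≤ ∑ ψ' ∈ hfin.toFinset, ‖((ψ' y : ℂˣ) : ℂ)‖ := norm_sum_le _ _
    _ = ∑ _ψ' ∈ hfin.toFinset, (1 : ℝ) := by
        refine Finset.sum_congr rfl (fun ψ' _ => ?_)
        have hpow : ((ψ' y : ℂˣ) : ℂ) ^ Nat.card ↥P = 1 := by
          rw [← Units.val_pow_eq_pow_val, ← map_pow, pow_card_eq_one', map_one, Units.val_one]
        exact Complex.norm_eq_one_of_pow_eq_one hpow Nat.card_pos.ne'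
    _ = (hfin.toFinset.card : ℝ) := by simp

open scoped Classical in
/-- **END3 core.** -/
theorem end3_core (hp3 : 3 ≤ p) (hM : IsPModular p M) (P : Sylow p G)
    (hcomm : ∀ a ∈ P, ∀ b ∈ P, a * b = b * a)
    (hfrob : ∀ y : G, y ∈ (P : Subgroup G) → y ≠ 1 →
      Subgroup.centralizer ({y} : Set G) ⊓ Subgroup.normalizer ((P : Subgroup G) : Set G) =
        Subgroup.centralizer ((P : Subgroup G) : Set G))
    (hq : p ^ 2 ≤ Nat.card ↥(P : Subgroup G))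
    (hCN : (Subgroup.centralizer ((P : Subgroup G) : Set G)).relIndex
      (Subgroup.normalizer ((P : Subgroup G) : Set G)) = p - 1)
    (z : G) (hzP : z ∈ (P : Subgroup G)) (hz1 : z ≠ 1)
    (hint : ∀ χ ∈ principalBlock M G, ∃ n : ℕ,
      (χ : G → ℂ) 1 = (χ : G → ℂ) z + (p : ℂ) * (n : ℂ))
    (hker : ∀ χ ∈ principalBlock M G, (χ : G → ℂ) z = (χ : G → ℂ) 1 → χ = trivIrr G)
    (hcube : ∑ᶠ χ ∈ principalBlock M G, ((χ : G → ℂ) z) ^ 3 / (χ : G → ℂ) 1 =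
      (Nat.card ↥(P : Subgroup G) : ℂ) * ((p : ℂ) - 2) / ((p : ℂ) - 1)) : False := by
  have := Fintype.ofFinite G
  have := Fintype.ofFinite (IrrCharacter G)
  have hp : p.Prime := Fact.out
  have hp1 : 1 ≤ p := hp.one_le
  have hpp : p * p ≤ Nat.card ↥(P : Subgroup G) := by rw [← sq]; exact hq
  have hpq : (p - 1) + 1 < Nat.card ↥(P : Subgroup G) := by
    have : 2 * p ≤ p * p := Nat.mul_le_mul_right p hp.two_le
    omega
  obtain ⟨XF, YF, a, d, δ, ζ, hB, hdisj, hYcard, -, htriv, hδ, hX, -, hYζ, -, hval, hnorm, -, -⟩ :=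
    AbSyl.main hM P hcomm hfrob (p - 1) hpq hCN
  set q := Nat.card ↥(P : Subgroup G) with hqdef
  have hz' : (⟨z, hzP⟩ : ↥(P : Subgroup G)) ≠ 1 := fun h => hz1 (congrArg Subtype.val h)
  have hδ2 : δ ^ 2 = 1 := by rcases hδ with h | h <;> rw [h] <;> norm_num
  -- the trivial character
  have ha1 : a (trivIrr G) = 1 := by
    have := (hX _ htriv).2 z hzP hz1
    rw [trivIrr_apply] at this
    exact_mod_cast this.symm
  have hsumX1 : (1 : ℤ) ≤ ∑ χ ∈ XF, a χ ^ 2 := by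
    have := Finset.single_le_sum (f := fun χ => a χ ^ 2) (fun χ _ => sq_nonneg (a χ)) htriv
    simp only [ha1] at this
    linarith
  -- `|Y| ≥ p + 1`
  have hYc : p + 1 ≤ YF.card := by
    have h1 : (p + 1) * (p - 1) + 1 = p * p := by
      obtain ⟨s, hs⟩ : ∃ s, p = s + 1 := ⟨p - 1, by omega⟩
      rw [hs]
      simp only [Nat.add_sub_cancel]
      ring
    have h2 : (p + 1) * (p - 1) ≤ YF.card * (p - 1) := by
      rw [hYcard]; omega
    exact Nat.le_of_mul_le_mul_right h2 (by omega)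
  have hcast : ((p - 1 : ℕ) : ℤ) = (p : ℤ) - 1 := by
    rw [Nat.cast_sub hp1]; simp
  rw [hcast] at hnorm
  -- `d = 0`
  have hd : d = 0 := by
    by_contra hd
    have hd2 : 1 ≤ d ^ 2 := by
      have : 0 < d ^ 2 := by positivity
      linarith
    have hYc' : (p : ℤ) ≤ (YF.card : ℤ) - 1 := by
      have : ((p + 1 : ℕ) : ℤ) ≤ (YF.card : ℤ) := by exact_mod_cast hYc
      push_cast at this
      linarith
    have hp0 : (0 : ℤ) ≤ (p : ℤ) := by positivity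
    have h3 : (p : ℤ) * 1 ≤ ((YF.card : ℤ) - 1) * d ^ 2 :=
      mul_le_mul hYc' hd2 (by norm_num) (by linarith)
    nlinarith [sq_nonneg (d - δ)]
  subst hd
  have hsumX : ∑ χ ∈ XF, a χ ^ 2 = (p : ℤ) - 1 := by
    have : ((0 : ℤ) - δ) ^ 2 = 1 := by rw [zero_sub, neg_sq]; exact hδ2
    rw [this] at hnorm
    simp only [ne_eq, OfNat.ofNat_ne_zero, not_false_eq_true, zero_pow, mul_zero, add_zero] at hnorm
    linarith
  -- real parts
  have key : ∀ χ ∈ principalBlock M G,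
      (χ : G → ℂ) z = ((((χ : G → ℂ) z).re : ℝ) : ℂ) ∧
      (χ : G → ℂ) 1 = ((((χ : G → ℂ) 1).re : ℝ) : ℂ) ∧ 0 < ((χ : G → ℂ) 1).re ∧
      ∃ n : ℕ, ((χ : G → ℂ) 1).re = ((χ : G → ℂ) z).re + (p : ℝ) * (n : ℝ) := by
    intro χ hχ
    obtain ⟨N, hN0, hN⟩ := irr_one_eq χ
    obtain ⟨n, hn⟩ := hint χ hχ
    have hz : (χ : G → ℂ) z = (((N : ℝ) - (p : ℝ) * (n : ℝ) : ℝ) : ℂ) := by
      push_cast
      rw [← hN, hn]; ring
    have hzre : ((χ : G → ℂ) z).re = (N : ℝ) - (p : ℝ) * (n : ℝ) := by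
      rw [hz, Complex.ofReal_re]
    have h1re : ((χ : G → ℂ) 1).re = (N : ℝ) := by
      rw [hN]; simp
    refine ⟨?_, ?_, ?_, n, ?_⟩
    · rw [hzre]; exact hz
    · rw [h1re, hN]; simp
    · rw [h1re]; exact_mod_cast hN0
    · rw [h1re, hzre]; ring
  -- the principal block as a finset
  have hBset : principalBlock M G = ((XF ∪ YF : Finset (IrrCharacter G)) : Set (IrrCharacter G)) := by
    ext χ
    rw [Finset.coe_union, Set.mem_union, Finset.mem_coe, Finset.mem_coe]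
    exact hB χ
  have hmemB : ∀ χ ∈ XF ∪ YF, χ ∈ principalBlock M G := by
    intro χ hχ
    rw [hBset]; exact_mod_cast hχ
  have hpR : (3 : ℝ) ≤ (p : ℝ) := by exact_mod_cast hp3
  have hqR : (p : ℝ) ^ 2 ≤ (q : ℝ) := by exact_mod_cast hq
  -- the cube identity over the reals
  have hgen : ∀ (u v : ℂ) (r D : ℝ), u = (r : ℂ) → v = (D : ℂ) →
      u ^ 3 / v = ((r ^ 3 / D : ℝ) : ℂ) := by
    intro u v r D hu hv
    subst hu hv
    push_cast
    rfl
  have hcubeR : ∑ χ ∈ XF ∪ YF, ((χ : G → ℂ) z).re ^ 3 / ((χ : G → ℂ) 1).re =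
      (q : ℝ) * ((p : ℝ) - 2) / ((p : ℝ) - 1) := by
    rw [hBset, finsum_mem_coe_finset] at hcube
    apply Complex.ofReal_injective
    push_cast
    rw [← hcube]
    refine Finset.sum_congr rfl (fun χ hχ => ?_)
    obtain ⟨h1, h2, -, -⟩ := key χ (hmemB χ hχ)
    have := hgen _ _ _ _ h1 h2
    rw [this]
    push_cast
    rfl
  -- the orthogonality relation
  have hone : ¬ p ∣ orderOf (1 : G) := by
    rw [orderOf_one]
    exact hp.one_lt.ne' ∘ Nat.dvd_one.mp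
  have hO : ∑ χ ∈ XF ∪ YF, ((χ : G → ℂ) z).re ^ 2 = (q : ℝ) := by
    have h := sum_section hM P hcomm hfrob z hzP hz1 1 1 (Subgroup.one_mem _) (Subgroup.one_mem _)
      hone hone
    simp only [mul_one] at h
    rw [hBset, finsum_mem_coe_finset] at h
    apply Complex.ofReal_injective
    push_cast
    rw [← h]
    refine Finset.sum_congr rfl (fun χ hχ => ?_)
    obtain ⟨h1, -, -, -⟩ := key χ (hmemB χ hχ)
    conv_rhs => rw [h1]
    rw [Complex.conj_ofReal]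
    ring
  -- values on `X`
  have hXre : ∀ χ ∈ XF, ((χ : G → ℂ) z).re = (a χ : ℝ) := by
    intro χ hχ
    rw [(hX χ hχ).2 z hzP hz1]
    simp
  have hXsum : ∑ χ ∈ XF, ((χ : G → ℂ) z).re ^ 2 = (p : ℝ) - 1 := by
    rw [Finset.sum_congr rfl (fun χ hχ => by rw [hXre χ hχ])]
    have : ((∑ χ ∈ XF, a χ ^ 2 : ℤ) : ℝ) = (p : ℝ) - 1 := by rw [hsumX]; push_cast; ring
    rw [← this]
    push_cast
    rfl
  have hYsum : ∑ χ ∈ YF, ((χ : G → ℂ) z).re ^ 2 = (q : ℝ) - ((p : ℝ) - 1) := by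
    rw [Finset.sum_union hdisj, hXsum] at hO
    linarith
  -- lower bound for the degree
  have hdeg : ∀ χ ∈ XF ∪ YF, χ ≠ trivIrr G → 0 < ((χ : G → ℂ) z).re →
      ((χ : G → ℂ) z).re + (p : ℝ) ≤ ((χ : G → ℂ) 1).re := by
    intro χ hχ hne hpos
    obtain ⟨h1, h2, -, n, hn⟩ := key χ (hmemB χ hχ)
    have hn1 : 1 ≤ n := by
      by_contra h0
      have h0' : n = 0 := by omega
      apply hne
      apply hker χ (hmemB χ hχ)
      rw [h1, h2, hn, h0']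
      simp
    have : (1 : ℝ) ≤ (n : ℝ) := by exact_mod_cast hn1
    have hp0 : (0 : ℝ) ≤ (p : ℝ) := by positivity
    nlinarith
  have hDpos : ∀ χ ∈ XF ∪ YF, 0 < ((χ : G → ℂ) 1).re := fun χ hχ => (key χ (hmemB χ hχ)).2.2.1
  -- the `X`-part
  have hXbound : ∑ χ ∈ XF, ((χ : G → ℂ) z).re ^ 3 / ((χ : G → ℂ) 1).re ≤
      1 + (1 / 2) * ((p : ℝ) - 2) := by
    rw [← Finset.add_sum_erase XF _ htriv]
    have ht : ((trivIrr G : G → ℂ) z).re ^ 3 / ((trivIrr G : G → ℂ) 1).re = 1 := by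
      rw [trivIrr_apply, trivIrr_apply]; simp
    rw [ht]
    have hE : ∑ χ ∈ XF.erase (trivIrr G), ((χ : G → ℂ) z).re ^ 2 = (p : ℝ) - 2 := by
      have := Finset.add_sum_erase XF (fun χ => ((χ : G → ℂ) z).re ^ 2) htriv
      rw [hXsum] at this
      have ht2 : ((trivIrr G : G → ℂ) z).re ^ 2 = 1 := by rw [trivIrr_apply]; simp
      rw [ht2] at this
      linarith
    have hle : ∑ χ ∈ XF.erase (trivIrr G), ((χ : G → ℂ) z).re ^ 3 / ((χ : G → ℂ) 1).re ≤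
        ∑ χ ∈ XF.erase (trivIrr G), (1 / 2) * ((χ : G → ℂ) z).re ^ 2 := by
      refine Finset.sum_le_sum (fun χ hχ => ?_)
      have hχX : χ ∈ XF := Finset.mem_of_mem_erase hχ
      have hχU : χ ∈ XF ∪ YF := Finset.mem_union_left _ hχX
      have hne : χ ≠ trivIrr G := Finset.ne_of_mem_erase hχ
      apply term_bound _ _ (p : ℝ) _ (hDpos χ hχU) (by norm_num)
      by_cases hr : ((χ : G → ℂ) z).re ≤ 0
      · exact Or.inl hr
      · right
        rw [not_le] at hr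
        refine ⟨hdeg χ hχU hne hr, ?_⟩
        -- `r ≤ p`
        have hsq : ((χ : G → ℂ) z).re ^ 2 ≤ (p : ℝ) - 1 := by
          rw [← hXsum]
          exact Finset.single_le_sum (s := XF) (f := fun χ : IrrCharacter G => ((χ : G → ℂ) z).re ^ 2)
            (fun χ _ => sq_nonneg (((χ : G → ℂ) z).re)) hχX
        nlinarith
    rw [← Finset.mul_sum, hE] at hle
    linarith
  -- the `Y`-part
  have h2p : (0 : ℝ) < 2 * (p : ℝ) - 1 := by linarith
  have hYval : ∀ η ∈ YF, ((η : G → ℂ) z).re ≤ (p : ℝ) - 1 := by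
    intro η hη
    obtain ⟨ψ, hψ, rfl⟩ := hYζ η hη
    have hv := hval ψ hψ ⟨z, hzP⟩ hz'
    have hcc := class_card_eq (P : Subgroup G) hcomm hfrob (p - 1) hCN ψ hψ
    have hn := norm_class_sum_le (P : Subgroup G) ψ ⟨z, hzP⟩
    rw [hcc] at hn
    have hδn : ‖(δ : ℂ)‖ = 1 := by
      rcases hδ with h | h <;> rw [h] <;> simp
    have hnorm' : ‖(ζ ψ : G → ℂ) z‖ ≤ (p : ℝ) - 1 := by
      have hzz : ((⟨z, hzP⟩ : ↥(P : Subgroup G)) : G) = z := rfl
      rw [hzz] at hv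
      rw [hv]
      simp only [Int.cast_zero, zero_add]
      rw [norm_mul, hδn, one_mul]
      have : (((p - 1 : ℕ) : ℝ)) = (p : ℝ) - 1 := by
        rw [Nat.cast_sub hp1]; simp
      rw [← this]
      exact hn
    exact le_trans (Complex.re_le_norm _) hnorm'
  have hYbound : ∑ χ ∈ YF, ((χ : G → ℂ) z).re ^ 3 / ((χ : G → ℂ) 1).re ≤
      ((p : ℝ) - 1) / (2 * (p : ℝ) - 1) * ((q : ℝ) - ((p : ℝ) - 1)) := by
    rw [← hYsum, Finset.mul_sum]
    refine Finset.sum_le_sum (fun χ hχ => ?_)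
    have hχU : χ ∈ XF ∪ YF := Finset.mem_union_right _ hχ
    have hne : χ ≠ trivIrr G := by
      rintro rfl
      exact (Finset.disjoint_left.mp hdisj htriv) hχ
    have hκ : (0 : ℝ) ≤ ((p : ℝ) - 1) / (2 * (p : ℝ) - 1) :=
      div_nonneg (by linarith) h2p.le
    apply term_bound _ _ (p : ℝ) _ (hDpos χ hχU) hκ
    by_cases hr : ((χ : G → ℂ) z).re ≤ 0
    · exact Or.inl hr
    · right
      rw [not_le] at hr
      refine ⟨hdeg χ hχU hne hr, ?_⟩
      have hrp := hYval χ hχ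
      rw [div_mul_eq_mul_div, le_div_iff₀ h2p]
      have hp0 : (0 : ℝ) ≤ (p : ℝ) := by positivity
      nlinarith [mul_le_mul_of_nonneg_left hrp hp0]
  -- conclusion
  rw [Finset.sum_union hdisj] at hcubeR
  exact numeric_contra (p : ℝ) (q : ℝ) hpR hqR (by rw [← hcubeR]; linarith)

end Cfsg.Agent.Lib.H23.CY
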