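import Cfsg.Agent.Lib.H23.CYEND3x
import Cfsg.Agent.Lib.H8.CYSTAR
import Cfsg.Agent.Lib.H10.PSolvable

/-!
# S1950, piece END3 in the EXACT signature of the architect's file (helper23)

`end3` : the case `e = p - 1`, `|P| ≥ p²` is impossible.  It is `end3_of_star` of `CYEND3x` fed with helper8's landed
`H8.CYE.star'` at `a = b = c = 1`.
-/

set_option autoImplicit false
set_option linter.unusedSectionVars false

namespace Cfsg.Agent.Lib.H23.CY

open Cfsg Cfsg.Agent.Lib.H12.CY
open scoped ComplexConjugate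

variable {G : Type*} [Group G] [Finite G] {p : ℕ} [Fact p.Prime]

/-- END3.  Case `e = p - 1`, `|P| ≥ p²`. -/
theorem end3 [IsSimpleGroup G] (P : Sylow p G) (hP : IsCyclic ↥(P : Subgroup G))
    (hc : ∀ x y : G, orderOf x = p → orderOf y = p → Cfsg.IsPSolvable p ↥(Subgroup.closure ({x, y} : Set G)))
    {z : G} (hzP : z ∈ (P : Subgroup G)) (hz : orderOf z = p) (he2 : 2 ≤ (fusE p z).card)
    (hE : (fusE p z).card = p - 1) (hq : p ^ 2 ≤ Nat.card ↥(P : Subgroup G)) : False :=
  end3_of_star P hP hzP hz he2 hE hq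
    (fun M hM => Cfsg.Agent.Lib.H8.CYE.star' P hP hc M hM hzP hz 1 1 1 one_ne_zero one_ne_zero one_ne_zero)

end Cfsg.Agent.Lib.H23.CY
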