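import Cfsg.Agent.Lib.H23.CYEND3
import Cfsg.Agent.Lib.H28.CYSIGA
import Cfsg.Agent.Lib.H4.CYFUS
import Cfsg.Agent.Lib.H12.CYDefs
import Cfsg.Agent.Lib.H9.CYNCE

/-!
# S1950, piece END3 in the shape of the architect's signature, modulo NCE and STAR' (helper23)

`end3_of` is the statement `end3` of `tools/blueprints/S1950_sigs_h12.lean` with two extra explicit
hypotheses, stated exactly as the final forms `relIndex_eq_card_fusE` (NCE) and `star'` (at `a = b = c = 1`)
of `tools/blueprints/S1950_final_forms_h12.lean` deliver them.  Everything else (`p ≥ 3`, the `p`-modular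
ideal, commutativity of `P`, the Frobenius condition via AUT, integrality `χ 1 = χ z + p n` via CHARZ, the
kernel statement via KER, the cube identity) is derived here and fed to `end3_core`.
-/

set_option autoImplicit false
set_option linter.unusedSectionVars false

namespace Cfsg.Agent.Lib.H23.CY

open Cfsg Cfsg.Agent.Lib.H12.CY Cfsg.Agent.Lib.H24 Cfsg.Agent.Lib.L0
  Cfsg.Agent.Lib.L0.PrincipalCrit
open scoped ComplexConjugate

variable {G : Type*} [Group G] [Finite G] {p : ℕ} [Fact p.Prime]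

/-- When `|E| = p - 1`, the fusion set is the set of all nonzero residues. -/
theorem fusE_eq_erase_of_card {z : G} (hE : (fusE p z).card = p - 1) :
    fusE p z = (Finset.univ : Finset (ZMod p)).erase 0 := by
  classical
  apply Finset.eq_of_subset_of_card_le
  · intro t ht
    exact Finset.mem_erase.2 ⟨(mem_fusE.1 ht).1, Finset.mem_univ _⟩
  · rw [hE, Finset.card_erase_of_mem (Finset.mem_univ _), Finset.card_univ, ZMod.card]

/-- When `|E| = p - 1`, every nonzero residue lies in `E`. -/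
theorem fusE_mem_of_card_pred {z : G} (hE : (fusE p z).card = p - 1) {t : ZMod p} (ht : t ≠ 0) :
    t ∈ fusE p z := by
  classical
  rw [fusE_eq_erase_of_card hE]
  exact Finset.mem_erase.2 ⟨ht, Finset.mem_univ _⟩

/-- When `|E| = p - 1`, all nontrivial powers of `z` are conjugate to `z`. -/
theorem isConj_pow_of_card {z : G} (hE : (fusE p z).card = p - 1) {t : ZMod p} (ht : t ≠ 0) :
    IsConj (z ^ t.val) z :=
  (mem_fusE.1 (fusE_mem_of_card_pred hE ht)).2

/-- The count `#{j ≠ 0 | j + 1 ≠ 0} = p - 2`. -/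
theorem card_filter_erase_zero
    [DecidablePred (fun j : ZMod p =>
      ∃ t ∈ (Finset.univ : Finset (ZMod p)).erase 0, j * 1 + 1 = 1 * t)] :
    (((Finset.univ : Finset (ZMod p)).erase 0).filter
      (fun j : ZMod p => ∃ t ∈ (Finset.univ : Finset (ZMod p)).erase 0, j * 1 + 1 = 1 * t)).card =
      p - 2 := by
  classical
  have hp : p.Prime := Fact.out
  have hne : (-1 : ZMod p) ≠ 0 := neg_ne_zero.2 one_ne_zero
  have hset : ((Finset.univ : Finset (ZMod p)).erase 0).filter
      (fun j : ZMod p => ∃ t ∈ (Finset.univ : Finset (ZMod p)).erase 0, j * 1 + 1 = 1 * t) =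
      ((Finset.univ : Finset (ZMod p)).erase 0).erase (-1) := by
    ext j
    simp only [Finset.mem_filter, Finset.mem_erase, Finset.mem_univ, and_true, mul_one, one_mul]
    constructor
    · rintro ⟨hj0, t, ht0, hjt⟩
      refine ⟨fun hj => ht0 ?_, hj0⟩
      rw [← hjt, hj]; ring
    · rintro ⟨hj1, hj0⟩
      refine ⟨hj0, j + 1, fun h => hj1 ?_, rfl⟩
      exact eq_neg_of_add_eq_zero_left h
  rw [hset, Finset.card_erase_of_mem, Finset.card_erase_of_mem (Finset.mem_univ _), Finset.card_univ,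
    ZMod.card]
  · rfl
  · exact Finset.mem_erase.2 ⟨hne, Finset.mem_univ _⟩

open scoped Classical in
/-- **END3 modulo NCE and STAR'.**  The statement `end3` of the architect's signature file with the two
final forms `relIndex_eq_card_fusE` and `star'` (instantiated at `a = b = c = 1`) as explicit hypotheses. -/
theorem end3_of [IsSimpleGroup G] (P : Sylow p G) (hP : IsCyclic ↥(P : Subgroup G))
    {z : G} (hzP : z ∈ (P : Subgroup G)) (hz : orderOf z = p) (he2 : 2 ≤ (fusE p z).card)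
    (hE : (fusE p z).card = p - 1) (hq : p ^ 2 ≤ Nat.card ↥(P : Subgroup G))
    (hNCE : (Subgroup.centralizer ((P : Subgroup G) : Set G)).relIndex
      (Subgroup.normalizer ((P : Subgroup G) : Set G)) = (fusE p z).card)
    (hstar : ∀ (M : Ideal Cfsg.AlgInt), Cfsg.IsPModular p M →
      ∑ᶠ χ ∈ Cfsg.principalBlock M G,
        (χ : G → ℂ) (z ^ (1 : ZMod p).val) * (χ : G → ℂ) (z ^ (1 : ZMod p).val) *
          conj ((χ : G → ℂ) (z ^ (1 : ZMod p).val)) / (χ : G → ℂ) 1 =
      ((Nat.card ↥(P : Subgroup G) : ℂ) / ((fusE p z).card : ℂ)) *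
        (((fusE p z).filter (fun j : ZMod p => ∃ t ∈ fusE p z, j * 1 + 1 = 1 * t)).card : ℂ)) :
    False := by
  have hp : p.Prime := Fact.out
  have hp3 : 3 ≤ p := by omega
  obtain ⟨M, hM⟩ := Cfsg.Agent.Lib.L0.PRegP.exists_isPModular hp
  have hz1 : z ≠ 1 := by
    rintro rfl
    rw [orderOf_one] at hz
    omega
  have hcomm : ∀ a ∈ P, ∀ b ∈ P, a * b = b * a := by
    intro a ha b hb
    have hc := IsCyclic.isMulCommutative (α := ↥(P : Subgroup G))
    have h := hc.is_comm.comm ⟨a, ha⟩ ⟨b, hb⟩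
    exact congrArg Subtype.val h
  have hfrob : ∀ y : G, y ∈ (P : Subgroup G) → y ≠ 1 →
      Subgroup.centralizer ({y} : Set G) ⊓ Subgroup.normalizer ((P : Subgroup G) : Set G) =
        Subgroup.centralizer ((P : Subgroup G) : Set G) := by
    intro y hyP hy1
    apply le_antisymm
    · intro g hg
      obtain ⟨hg1, hg2⟩ := Subgroup.mem_inf.1 hg
      have hgy : g * y = y * g := Subgroup.mem_centralizer_singleton_iff.1 hg1
      exact Cfsg.Agent.Lib.H28.CY.mem_centralizer_of_normalizer P hP hyP hy1 hg2 hgy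
    · refine le_inf ?_ (Subgroup.centralizer_le_normalizer ((P : Subgroup G) : Set G))
      exact Subgroup.centralizer_le (Set.singleton_subset_iff.2 hyP)
  have hCN : (Subgroup.centralizer ((P : Subgroup G) : Set G)).relIndex
      (Subgroup.normalizer ((P : Subgroup G) : Set G)) = p - 1 := hNCE.trans hE
  have hpow1 : z ^ (1 : ZMod p).val = z := Cfsg.Agent.Lib.H4.CY.pow_val_one
  -- all nontrivial powers are conjugate to `z`
  have hval : ∀ (χ : IrrCharacter G) (b : ZMod p), b ≠ 0 → (χ : G → ℂ) (z ^ b.val) = (χ : G → ℂ) z :=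
    fun χ b hb => irr_eq_of_isConj χ (isConj_pow_of_card hE hb)
  -- `z⁻¹ = z ^ (-1).val`
  have hzinv : z⁻¹ = z ^ (-1 : ZMod p).val := by
    have h1 : z ^ (-1 : ZMod p).val * z = 1 := by
      have h2 := Cfsg.Agent.Lib.H4.CY.pow_natCast_val hz (p - 1)
      have h3 : ((p - 1 : ℕ) : ZMod p) = -1 := by
        rw [Nat.cast_sub hp.one_le, Nat.cast_one, ZMod.natCast_self, zero_sub]
      rw [h3] at h2
      rw [h2, ← pow_succ, Nat.sub_add_cancel hp.one_le, ← hz, pow_orderOf_eq_one]
    exact (eq_inv_of_mul_eq_one_left h1).symm ▸ rfl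
  have hreal : ∀ χ : IrrCharacter G, conj ((χ : G → ℂ) z) = (χ : G → ℂ) z := by
    intro χ
    rw [← irr_inv χ z, hzinv]
    exact hval χ (-1) (neg_ne_zero.2 one_ne_zero)
  -- integrality
  have hint : ∀ χ ∈ principalBlock M G, ∃ n : ℕ,
      (χ : G → ℂ) 1 = (χ : G → ℂ) z + (p : ℂ) * (n : ℂ) := by
    intro χ _
    have hψ : (ZMod.stdAddChar (N := p)).IsPrimitive := ZMod.isPrimitive_stdAddChar p
    obtain ⟨n, hn⟩ := Cfsg.Agent.Lib.H28.CY.charz hz (ZMod.stdAddChar (N := p)) (χ : G → ℂ)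
      (isCharacter_of_irr χ.2) 1
    refine ⟨n, ?_⟩
    rw [← hn]
    have hsum0 : ∑ b : ZMod p, (ZMod.stdAddChar (N := p)) (-(1 * b)) = 0 := by
      have hne : (ZMod.stdAddChar (N := p)) ≠ 1 := by
        intro h1
        have := hψ (one_ne_zero (α := ZMod p))
        apply this
        rw [h1]
        ext a
        simp
      have h0 := AddChar.sum_eq_zero_of_ne_one hne
      rw [← h0]
      exact Fintype.sum_equiv (Equiv.neg (ZMod p)) _ _ (fun b => by simp)
    have hsplit : ∀ f : ZMod p → ℂ, ∑ b : ZMod p, f b = f 0 + ∑ b ∈ Finset.univ.erase 0, f b := by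
      intro f
      rw [Finset.add_sum_erase _ _ (Finset.mem_univ _)]
    rw [hsplit] at hsum0 ⊢
    simp only [ZMod.val_zero, pow_zero, mul_zero, neg_zero, AddChar.map_zero_eq_one, mul_one] at hsum0 ⊢
    have hrest : ∑ b ∈ (Finset.univ : Finset (ZMod p)).erase 0,
        (χ : G → ℂ) (z ^ b.val) * (ZMod.stdAddChar (N := p)) (-(1 * b)) =
        (χ : G → ℂ) z * ∑ b ∈ (Finset.univ : Finset (ZMod p)).erase 0,
          (ZMod.stdAddChar (N := p)) (-(1 * b)) := by
      rw [Finset.mul_sum]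
      refine Finset.sum_congr rfl (fun b hb => ?_)
      rw [hval χ b (Finset.mem_erase.1 hb).1]
    rw [hrest]
    have : ∑ b ∈ (Finset.univ : Finset (ZMod p)).erase 0,
        (ZMod.stdAddChar (N := p)) (-(1 * b)) = -1 := by
      linear_combination hsum0
    rw [this]
    ring
  -- kernel
  have hker : ∀ χ ∈ principalBlock M G, (χ : G → ℂ) z = (χ : G → ℂ) 1 → χ = trivIrr G := by
    intro χ _ h
    have h1 := Cfsg.Agent.Lib.H28.CY.eq_one_of_apply_eq χ hz1 h
    apply Subtype.ext
    rw [h1]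
    funext g
    rfl
  -- the cube identity
  have hcube : ∑ᶠ χ ∈ principalBlock M G, ((χ : G → ℂ) z) ^ 3 / (χ : G → ℂ) 1 =
      (Nat.card ↥(P : Subgroup G) : ℂ) * ((p : ℂ) - 2) / ((p : ℂ) - 1) := by
    have h := hstar M hM
    have hL : ∀ χ : IrrCharacter G,
        (χ : G → ℂ) (z ^ (1 : ZMod p).val) * (χ : G → ℂ) (z ^ (1 : ZMod p).val) *
          conj ((χ : G → ℂ) (z ^ (1 : ZMod p).val)) / (χ : G → ℂ) 1 =
        ((χ : G → ℂ) z) ^ 3 / (χ : G → ℂ) 1 := by
      intro χ
      rw [hpow1, hreal χ]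
      ring
    simp only [hL] at h
    rw [h, hE]
    have hcount : (((fusE p z).filter
        (fun j : ZMod p => ∃ t ∈ fusE p z, j * 1 + 1 = 1 * t)).card) = p - 2 := by
      have hEq := fusE_eq_erase_of_card hE
      rw [hEq]
      convert card_filter_erase_zero (p := p) using 2
    rw [hcount, Nat.cast_sub hp.one_le, Nat.cast_sub hp.two_le]
    push_cast
    ring
  exact end3_core hp3 hM P hcomm hfrob hq hCN z hzP hz1 hint hker hcube

open scoped Classical in
/-- **END3 modulo STAR'** (NCE from helper9's landed `H9.CY.relIndex_eq_card_fusE`). -/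
theorem end3_of_star [IsSimpleGroup G] (P : Sylow p G) (hP : IsCyclic ↥(P : Subgroup G))
    {z : G} (hzP : z ∈ (P : Subgroup G)) (hz : orderOf z = p) (he2 : 2 ≤ (fusE p z).card)
    (hE : (fusE p z).card = p - 1) (hq : p ^ 2 ≤ Nat.card ↥(P : Subgroup G))
    (hstar : ∀ (M : Ideal Cfsg.AlgInt), Cfsg.IsPModular p M →
      ∑ᶠ χ ∈ Cfsg.principalBlock M G,
        (χ : G → ℂ) (z ^ (1 : ZMod p).val) * (χ : G → ℂ) (z ^ (1 : ZMod p).val) *
          conj ((χ : G → ℂ) (z ^ (1 : ZMod p).val)) / (χ : G → ℂ) 1 =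
      ((Nat.card ↥(P : Subgroup G) : ℂ) / ((fusE p z).card : ℂ)) *
        (((fusE p z).filter (fun j : ZMod p => ∃ t ∈ fusE p z, j * 1 + 1 = 1 * t)).card : ℂ)) :
    False :=
  end3_of P hP hzP hz he2 hE hq (Cfsg.Agent.Lib.H9.CY.relIndex_eq_card_fusE P hP hzP hz) hstar

end Cfsg.Agent.Lib.H23.CY
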