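import Cfsg.Agent.Lib.L0.PrincipalCrit
import Cfsg.Agent.Lib.H23.FullyRamified

/-!
# Principal block of a central product over a `p`-group (helper23)

`G = U₁ U₂` with `[U₁, U₂] = 1` and `U₁ ∩ U₂` a `p`-group.
* `exists_reg_decomp`, `reg_decomp_unique`: a `p`-regular element is uniquely a product of
  `p`-regular elements of `U₁` and `U₂`;
* `regPart_mul`: the `p`-regular sums multiply;
* `central_prod_principal`: `χ ∈ B₀(G) ↔ ψ₁ ∈ B₀(U₁) ∧ ψ₂ ∈ B₀(U₂)`.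
-/

set_option autoImplicit false
open Cfsg

namespace Cfsg.Agent.Lib.H23.CentralProd

open Cfsg.Agent.Lib.H23 Cfsg.Agent.Lib.H24 Cfsg.Agent.Lib.L0 Cfsg.Agent.Lib.L0.PrincipalCrit
open scoped ComplexConjugate

variable {G : Type*} [Group G]

theorem normal_left (U₁ U₂ : Subgroup G) (hcomm : ∀ u ∈ U₁, ∀ v ∈ U₂, u * v = v * u)
    (hgen : U₁ ⊔ U₂ = ⊤) : U₁.Normal := by
  rw [← Subgroup.normalizer_eq_top_iff, eq_top_iff, ← hgen, sup_le_iff]
  refine ⟨Subgroup.le_normalizer, fun v hv => ?_⟩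
  rw [Subgroup.mem_normalizer_iff]
  intro h
  constructor
  · intro hh
    have : v * h * v⁻¹ = h := by rw [← hcomm h hh v hv, mul_inv_cancel_right]
    rwa [this]
  · intro hh
    have h1 : v * h * v⁻¹ * v = v * (v * h * v⁻¹) := (hcomm _ hh v hv)
    have h2 : h = v * h * v⁻¹ := by
      have : v * h = v * (v * h * v⁻¹) := by rw [← h1]; group
      exact mul_left_cancel this
    rwa [h2]

theorem exists_decomp (U₁ U₂ : Subgroup G) (hcomm : ∀ u ∈ U₁, ∀ v ∈ U₂, u * v = v * u)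
    (hgen : U₁ ⊔ U₂ = ⊤) (g : G) : ∃ u ∈ U₁, ∃ v ∈ U₂, u * v = g := by
  haveI := normal_left U₁ U₂ hcomm hgen
  have hg : g ∈ ((U₁ ⊔ U₂ : Subgroup G) : Set G) := by rw [hgen]; trivial
  rw [Subgroup.normal_mul] at hg
  obtain ⟨u, hu, v, hv, h⟩ := Set.mem_mul.mp hg
  exact ⟨u, hu, v, hv, h⟩

variable (p : ℕ) [hp : Fact p.Prime]

/-- A power map that kills `p`-parts and fixes `p`-regular elements. -/
theorem exists_reg_power [Finite G] :
    ∃ k : ℕ, (∀ g : G, ¬ p ∣ orderOf (g ^ k)) ∧ ∀ g : G, ¬ p ∣ orderOf g → g ^ k = g := by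
  obtain ⟨a, m, hm, hcard⟩ := Nat.exists_eq_pow_mul_and_not_dvd (Nat.card_pos (α := G)).ne' p
    hp.out.ne_one
  have hco : Nat.Coprime (p ^ a) m := Nat.Coprime.pow_left a ((Nat.Prime.coprime_iff_not_dvd hp.out).mpr hm)
  obtain ⟨k, hk0, hk1⟩ := Nat.chineseRemainder hco 0 1
  have hpk : p ^ a ∣ k := (Nat.modEq_zero_iff_dvd).mp hk0
  refine ⟨k, fun g => ?_, fun g hg => ?_⟩
  · intro hdvd
    have h1 : (g ^ k) ^ m = 1 := by
      rw [← pow_mul]
      obtain ⟨c, rfl⟩ := hpk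
      have : p ^ a * c * m = Nat.card G * c := by rw [hcard]; ring
      rw [this, pow_mul, pow_card_eq_one', one_pow]
    exact hm (hdvd.trans (orderOf_dvd_of_pow_eq_one h1))
  · have h1 : orderOf g ∣ m := by
      have h2 : orderOf g ∣ p ^ a * m := hcard ▸ orderOf_dvd_natCard g
      have h3 : Nat.Coprime (orderOf g) (p ^ a) :=
        Nat.Coprime.pow_right a ((Nat.Prime.coprime_iff_not_dvd hp.out).mpr hg).symm
      exact h3.dvd_of_dvd_mul_left h2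
    have h4 : k ≡ 1 [MOD orderOf g] := hk1.of_dvd h1
    have := (pow_eq_pow_iff_modEq (x := g)).mpr h4
    rwa [pow_one] at this

theorem exists_reg_decomp [Finite G] (U₁ U₂ : Subgroup G)
    (hcomm : ∀ u ∈ U₁, ∀ v ∈ U₂, u * v = v * u) (hgen : U₁ ⊔ U₂ = ⊤) (g : G)
    (hg : ¬ p ∣ orderOf g) :
    ∃ u ∈ U₁, ∃ v ∈ U₂, ¬ p ∣ orderOf u ∧ ¬ p ∣ orderOf v ∧ u * v = g := by
  obtain ⟨k, hk1, hk2⟩ := exists_reg_power (G := G) p
  obtain ⟨u, hu, v, hv, rfl⟩ := exists_decomp U₁ U₂ hcomm hgen g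
  refine ⟨u ^ k, U₁.pow_mem hu k, v ^ k, U₂.pow_mem hv k, hk1 u, hk1 v, ?_⟩
  have hc : Commute u v := hcomm u hu v hv
  rw [← hc.mul_pow, hk2 _ hg]

theorem reg_decomp_unique (U₁ U₂ : Subgroup G)
    (hcomm : ∀ u ∈ U₁, ∀ v ∈ U₂, u * v = v * u) (hZ : IsPGroup p ↥(U₁ ⊓ U₂))
    {u u' v v' : G} (hu : u ∈ U₁) (hu' : u' ∈ U₁) (hv : v ∈ U₂) (hv' : v' ∈ U₂)
    (hru : ¬ p ∣ orderOf u) (hru' : ¬ p ∣ orderOf u') (h : u * v = u' * v') : u = u' := by
  set z : G := u'⁻¹ * u with hz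
  have hz1 : z ∈ U₁ := U₁.mul_mem (U₁.inv_mem hu') hu
  have hz2 : z ∈ U₂ := by
    have : z = v' * v⁻¹ := by
      rw [hz, inv_mul_eq_iff_eq_mul, ← mul_assoc, ← h, mul_inv_cancel_right]
    rw [this]
    exact U₂.mul_mem hv' (U₂.inv_mem hv)
  have hc : Commute u' z := hcomm u' hu' z hz2
  have hu_eq : u = u' * z := by rw [hz, mul_inv_cancel_left]
  obtain ⟨k, hk⟩ := hZ ⟨z, Subgroup.mem_inf.mpr ⟨hz1, hz2⟩⟩
  have hk' : z ^ p ^ k = 1 := by
    have := congrArg (Subtype.val) hk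
    simpa using this
  set m := orderOf u * orderOf u' with hm
  have h1 : z ^ m = 1 := by
    have h2 : (u' * z) ^ m = 1 := by
      rw [← hu_eq, hm, pow_mul, pow_orderOf_eq_one, one_pow]
    rw [hc.mul_pow, hm, mul_comm (orderOf u), pow_mul u', pow_orderOf_eq_one, one_pow, one_mul] at h2
    rw [hm, mul_comm]
    exact h2
  have hcop : Nat.Coprime m (p ^ k) := by
    apply Nat.Coprime.pow_right
    rw [hm]
    exact Nat.Coprime.mul_left ((Nat.Prime.coprime_iff_not_dvd hp.out).mpr hru).symm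
      ((Nat.Prime.coprime_iff_not_dvd hp.out).mpr hru').symm
  have h3 : orderOf z ∣ Nat.gcd m (p ^ k) :=
    Nat.dvd_gcd (orderOf_dvd_of_pow_eq_one h1) (orderOf_dvd_of_pow_eq_one hk')
  rw [hcop.gcd_eq_one, Nat.dvd_one, orderOf_eq_one_iff] at h3
  rw [hu_eq, h3, mul_one]

section alg

variable [Fintype G]

open Classical in
/-- The sum of the `p`-regular elements of a subgroup, in the group algebra of `G`. -/
noncomputable def regPart (U : Subgroup G) : MonoidAlgebra ℂ G :=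
  ofFun (fun g => if g ∈ U ∧ ¬ p ∣ orderOf g then 1 else 0)

omit hp in
theorem regPart_mem_center (U : Subgroup G) [hU : U.Normal] :
    regPart p U ∈ Subalgebra.center ℂ (MonoidAlgebra ℂ G) := by
  classical
  refine mem_center_of_classFunction fun g h => ?_
  have h1 : orderOf (h * g * h⁻¹) = orderOf g := (MulAut.conj h).orderOf_eq g
  have h2 : h * g * h⁻¹ ∈ U ↔ g ∈ U := hU.mem_comm_iff.trans (by rw [← mul_assoc, inv_mul_cancel, one_mul])
  simp only [regPart, coeff_ofFun, h1, h2]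

theorem regPart_mul (U₁ U₂ : Subgroup G)
    (hcomm : ∀ u ∈ U₁, ∀ v ∈ U₂, u * v = v * u) (hgen : U₁ ⊔ U₂ = ⊤)
    (hZ : IsPGroup p ↥(U₁ ⊓ U₂)) : regPart p U₁ * regPart p U₂ = regSum p G := by
  classical
  apply MonoidAlgebra.ext
  ext g
  rw [coeff_mul_eq_sum, coeff_regSum]
  simp only [regPart, coeff_ofFun]
  by_cases hg : p ∣ orderOf g
  · rw [if_pos hg]
    refine Finset.sum_eq_zero fun h _ => ?_
    by_cases h1 : h ∈ U₁ ∧ ¬ p ∣ orderOf h
    · by_cases h2 : h⁻¹ * g ∈ U₂ ∧ ¬ p ∣ orderOf (h⁻¹ * g)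
      · exfalso
        have hc : Commute h (h⁻¹ * g) := hcomm h h1.1 _ h2.1
        have h3 : orderOf g ∣ orderOf h * orderOf (h⁻¹ * g) := by
          have := hc.orderOf_mul_dvd_mul_orderOf
          rwa [mul_inv_cancel_left] at this
        rcases (Nat.Prime.dvd_mul hp.out).mp (hg.trans h3) with h4 | h4
        · exact h1.2 h4
        · exact h2.2 h4
      · rw [if_neg h2, mul_zero]
    · rw [if_neg h1, zero_mul]
  · rw [if_neg hg]
    obtain ⟨u, hu, v, hv, hru, hrv, huv⟩ := exists_reg_decomp p U₁ U₂ hcomm hgen g hg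
    rw [Finset.sum_eq_single u]
    · have h2 : u⁻¹ * g = v := by rw [← huv, inv_mul_cancel_left]
      rw [if_pos ⟨hu, hru⟩, h2, if_pos ⟨hv, hrv⟩, mul_one]
    · intro h _ hne
      by_cases h1 : h ∈ U₁ ∧ ¬ p ∣ orderOf h
      · by_cases h2 : h⁻¹ * g ∈ U₂ ∧ ¬ p ∣ orderOf (h⁻¹ * g)
        · exfalso
          apply hne
          refine reg_decomp_unique p U₁ U₂ hcomm hZ h1.1 hu h2.1 hv h1.2 hru ?_
          rw [mul_inv_cancel_left, huv]
        · rw [if_neg h2, mul_zero]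
      · rw [if_neg h1, zero_mul]
    · intro h; exact absurd (Finset.mem_univ _) h

omit hp in
theorem charEval_regPart (U : Subgroup G) [Fintype U] (χ : G → ℂ) :
    charEval χ (regPart p U) = charEval (fun u : U => χ u) (regSum p U) := by
  classical
  rw [charEval_regSum]
  unfold charEval
  simp only [regPart, coeff_ofFun]
  have h1 : ∀ g : G, (if g ∈ U ∧ ¬ p ∣ orderOf g then (1 : ℂ) else 0) * χ g =
      if g ∈ U then (if p ∣ orderOf g then 0 else χ g) else 0 := by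
    intro g
    by_cases h : g ∈ U <;> by_cases h' : p ∣ orderOf g <;> simp [h, h']
  simp only [h1]
  rw [← Finset.sum_filter, Finset.sum_subtype (Finset.univ.filter (fun g : G => g ∈ U))
      (p := fun g => g ∈ U) (by simp) (fun g => if p ∣ orderOf g then 0 else χ g)]
  refine Finset.sum_congr rfl fun u _ => ?_
  rw [Subgroup.orderOf_coe]

theorem restrict_eq_smul (U₁ U₂ : Subgroup G) [Fintype U₁]
    (hcomm : ∀ u ∈ U₁, ∀ v ∈ U₂, u * v = v * u) (hgen : U₁ ⊔ U₂ = ⊤)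
    (χ : IrrCharacter G) (ψ₁ : IrrCharacter U₁)
    (h₁ : classInner (fun u : U₁ => (χ : G → ℂ) u) (ψ₁ : U₁ → ℂ) ≠ 0) :
    (fun u : U₁ => (χ : G → ℂ) u) =
      classInner (fun u : U₁ => (χ : G → ℂ) u) (ψ₁ : U₁ → ℂ) • (ψ₁ : U₁ → ℂ) := by
  haveI hN := normal_left U₁ U₂ hcomm hgen
  refine restrict_eq_smul_of_invariant U₁ (χ : G → ℂ) χ.2 (ψ₁ : U₁ → ℂ) ψ₁.2 h₁ ?_
  intro g n
  obtain ⟨u, hu, v, hv, rfl⟩ := exists_decomp U₁ U₂ hcomm hgen g
  have h2 : (⟨u * v * n * (u * v)⁻¹, hN.conj_mem (n : G) n.2 (u * v)⟩ : U₁) =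
      (⟨u, hu⟩ : U₁) * n * (⟨u, hu⟩ : U₁)⁻¹ := by
    apply Subtype.ext
    simp only [Subgroup.coe_mul, Subgroup.coe_inv]
    have h3 : v * (n : G) = n * v := (hcomm n n.2 v hv).symm
    rw [mul_inv_rev, mul_assoc u v, h3]
    group
  rw [h2]
  exact irr_isClassFunction ψ₁ n ⟨u, hu⟩

theorem central_prod_principal {M : Ideal AlgInt} (hM : IsPModular p M)
    (U₁ U₂ : Subgroup G) [Fintype U₁] [Fintype U₂]
    (hcomm : ∀ u ∈ U₁, ∀ v ∈ U₂, u * v = v * u) (hgen : U₁ ⊔ U₂ = ⊤)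
    (hZ : IsPGroup p ↥(U₁ ⊓ U₂)) (χ : IrrCharacter G) (ψ₁ : IrrCharacter U₁)
    (ψ₂ : IrrCharacter U₂)
    (h₁ : classInner (fun u : U₁ => (χ : G → ℂ) u) (ψ₁ : U₁ → ℂ) ≠ 0)
    (h₂ : classInner (fun u : U₂ => (χ : G → ℂ) u) (ψ₂ : U₂ → ℂ) ≠ 0) :
    χ ∈ principalBlock M G ↔ (ψ₁ ∈ principalBlock M U₁ ∧ ψ₂ ∈ principalBlock M U₂) := by
  have hcomm' : ∀ u ∈ U₂, ∀ v ∈ U₁, u * v = v * u := fun u hu v hv => (hcomm v hv u hu).symm
  have hgen' : U₂ ⊔ U₁ = ⊤ := by rw [sup_comm]; exact hgen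
  haveI hN₁ := normal_left U₁ U₂ hcomm hgen
  haveI hN₂ := normal_left U₂ U₁ hcomm' hgen'
  rw [mem_principalBlock_iff hM, mem_principalBlock_iff hM, mem_principalBlock_iff hM,
    ← regPart_mul p U₁ U₂ hcomm hgen hZ,
    charEval_mul_of_mem_center χ.2 (regPart_mem_center p U₁), charEval_regPart, charEval_regPart,
    restrict_eq_smul U₁ U₂ hcomm hgen χ ψ₁ h₁, restrict_eq_smul U₂ U₁ hcomm' hgen' χ ψ₂ h₂]
  have hs : ∀ (H : Type _) [Group H] [Fintype H] (c : ℂ) (f : H → ℂ) (z : MonoidAlgebra ℂ H),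
      charEval (c • f) z = c * charEval f z := by
    intro H _ _ c f z
    unfold charEval
    rw [Finset.mul_sum]
    refine Finset.sum_congr rfl fun x _ => ?_
    simp only [Pi.smul_apply, smul_eq_mul]
    ring
  rw [hs, hs]
  have hχ1 : (χ : G → ℂ) 1 ≠ 0 := irr_one_ne_zero χ
  constructor
  · intro h
    constructor
    · intro h0; apply h; rw [h0]; simp
    · intro h0; apply h; rw [h0]; simp
  · rintro ⟨ha, hb⟩
    exact mul_ne_zero (div_ne_zero (mul_ne_zero h₁ ha) hχ1) (mul_ne_zero h₂ hb)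

end alg

end Cfsg.Agent.Lib.H23.CentralProd
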