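import Cfsg.Agent.Lib.L0.CharBasic

/-!
# Congruence `χ(xy) ≡ χ(y)  mod (1 - ε)` for `x` of prime order commuting with `y` (helper23)

* `trace_mul_sub_trace`: for commuting endomorphisms `f`, `g` of finite order with `f ^ p = 1`,
  `trace (f * g) - trace g = (1 - ε) * ω` with `ω` an algebraic integer, `ε = exp(2πi/p)`;
* `char_mul_sub_char`: the character version.
-/

set_option autoImplicit false

namespace Cfsg.Agent.Lib.H23

open Module Cfsg.Agent.Lib.L0

section

variable {V : Type*} [AddCommGroup V] [Module ℂ V] [FiniteDimensional ℂ V]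

theorem trace_mul_sub_trace (p : ℕ) (hp : p ≠ 0) (f g : End ℂ V) (hfg : Commute f g)
    (hf : f ^ p = 1) (m : ℕ) (hm : 0 < m) (hg : g ^ m = 1) :
    ∃ ω : ℂ, IsIntegral ℤ ω ∧
      LinearMap.trace ℂ V (f * g) - LinearMap.trace ℂ V g =
        (1 - Complex.exp (2 * Real.pi * Complex.I / p)) * ω := by
  classical
  have : NeZero p := ⟨hp⟩
  set ε : ℂ := Complex.exp (2 * Real.pi * Complex.I / p) with hε
  have hprim : IsPrimitiveRoot ε p := Complex.isPrimitiveRoot_exp p hp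
  have hεint : IsIntegral ℤ ε := hprim.isIntegral (Nat.pos_of_ne_zero hp)
  have hss := isSemisimple_of_pow_eq_one (Nat.pos_of_ne_zero hp) hf
  have hint := isInternal_eigenspaces hss
  -- `g` and `f * g` preserve the eigenspaces of `f`
  have hmapg : ∀ μ : f.Eigenvalues, ∀ v ∈ f.eigenspace (μ : ℂ), g v ∈ f.eigenspace (μ : ℂ) := by
    intro μ v hv
    have hv' : f v = (μ : ℂ) • v := Module.End.mem_eigenspace_iff.mp hv
    show g v ∈ f.eigenspace (μ : ℂ)
    rw [Module.End.mem_eigenspace_iff]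
    have : f (g v) = g (f v) := by
      have := congrArg (fun T : End ℂ V => T v) hfg.eq
      simpa using this
    rw [this, hv', map_smul]
  have hmapfg : ∀ μ : f.Eigenvalues,
      ∀ v ∈ f.eigenspace (μ : ℂ), (f * g) v ∈ f.eigenspace (μ : ℂ) := by
    intro μ v hv
    have h1 := hmapg μ v hv
    show f (g v) ∈ f.eigenspace (μ : ℂ)
    have : f (g v) = (μ : ℂ) • g v := Module.End.mem_eigenspace_iff.mp h1
    rw [this]
    exact Submodule.smul_mem _ _ h1
  have htr1 : LinearMap.trace ℂ V g = ∑ μ : f.Eigenvalues,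
      LinearMap.trace ℂ (f.eigenspace (μ : ℂ)) (g.restrict (hmapg μ)) :=
    LinearMap.trace_eq_sum_trace_restrict hint (fun μ => hmapg μ)
  have htr2 : LinearMap.trace ℂ V (f * g) = ∑ μ : f.Eigenvalues,
      LinearMap.trace ℂ (f.eigenspace (μ : ℂ)) ((f * g).restrict (hmapfg μ)) :=
    LinearMap.trace_eq_sum_trace_restrict hint (fun μ => hmapfg μ)
  have hrestr : ∀ μ : f.Eigenvalues, (f * g).restrict (hmapfg μ) =
      (μ : ℂ) • g.restrict (hmapg μ) := by
    intro μ
    ext ⟨v, hv⟩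
    have h1 := hmapg μ v hv
    have : f (g v) = (μ : ℂ) • g v := Module.End.mem_eigenspace_iff.mp h1
    simp only [LinearMap.smul_apply, Submodule.coe_smul]
    exact this
  -- each restricted trace is an algebraic integer
  have htint : ∀ μ : f.Eigenvalues,
      IsIntegral ℤ (LinearMap.trace ℂ (f.eigenspace (μ : ℂ)) (g.restrict (hmapg μ))) := by
    intro μ
    apply isIntegral_trace hm
    rw [Module.End.pow_restrict]
    ext ⟨v, hv⟩
    simp [hg]
  -- exponents
  have hex : ∀ μ : f.Eigenvalues, ∃ k : ℕ, ε ^ k = (μ : ℂ) := by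
    intro μ
    obtain ⟨k, _, hk⟩ := hprim.eq_pow_of_pow_eq_one (eigenvalue_pow_eq_one hf μ)
    exact ⟨k, hk⟩
  choose e he using hex
  refine ⟨∑ μ : f.Eigenvalues, (-(∑ i ∈ Finset.range (e μ), ε ^ i)) *
    LinearMap.trace ℂ (f.eigenspace (μ : ℂ)) (g.restrict (hmapg μ)), ?_, ?_⟩
  · refine IsIntegral.sum _ (fun μ _ => ?_)
    refine IsIntegral.mul (IsIntegral.neg (IsIntegral.sum _ (fun i _ => hεint.pow i))) (htint μ)
  · rw [htr1, htr2, ← Finset.sum_sub_distrib, Finset.mul_sum]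
    refine Finset.sum_congr rfl (fun μ _ => ?_)
    rw [hrestr μ, map_smul, smul_eq_mul]
    have hgeom := geom_sum_mul ε (e μ)
    rw [he μ] at hgeom
    linear_combination
      (-(LinearMap.trace ℂ (f.eigenspace (μ : ℂ)) (g.restrict (hmapg μ)))) * hgeom

end

section

variable {G : Type*} [Group G] [Finite G]

theorem char_mul_sub_char {V : Type*} [AddCommGroup V] [Module ℂ V] [FiniteDimensional ℂ V]
    (ρ : Representation ℂ G V) (p : ℕ) (hp : p ≠ 0) (x y : G) (hx : x ^ p = 1)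
    (hxy : x * y = y * x) :
    ∃ ω : ℂ, IsIntegral ℤ ω ∧ ρ.character (x * y) - ρ.character y =
      (1 - Complex.exp (2 * Real.pi * Complex.I / p)) * ω := by
  have h := trace_mul_sub_trace p hp (ρ x) (ρ y)
    (by rw [Commute, SemiconjBy, ← map_mul, ← map_mul, hxy])
    (by rw [← map_pow, hx, map_one]) (orderOf y) (orderOf_pos y) (rep_pow_orderOf ρ y)
  obtain ⟨ω, hω, h1⟩ := h
  refine ⟨ω, hω, ?_⟩
  rw [← h1]
  unfold Representation.character
  rw [map_mul]

theorem isCharacter_mul_sub (χ : G → ℂ) (hχ : Cfsg.IsCharacter G χ) (p : ℕ) (hp : p ≠ 0) (x y : G)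
    (hx : x ^ p = 1) (hxy : x * y = y * x) :
    ∃ ω : ℂ, IsIntegral ℤ ω ∧ χ (x * y) - χ y =
      (1 - Complex.exp (2 * Real.pi * Complex.I / p)) * ω := by
  obtain ⟨n, ρ, rfl⟩ := hχ
  exact char_mul_sub_char ρ p hp x y hx hxy

theorem isGeneralizedCharacter_mul_sub (χ : G → ℂ) (hχ : Cfsg.IsGeneralizedCharacter G χ) (p : ℕ)
    (hp : p ≠ 0) (x y : G) (hx : x ^ p = 1) (hxy : x * y = y * x) :
    ∃ ω : ℂ, IsIntegral ℤ ω ∧ χ (x * y) - χ y =
      (1 - Complex.exp (2 * Real.pi * Complex.I / p)) * ω := by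
  obtain ⟨χ1, χ2, h1, h2, rfl⟩ := hχ
  obtain ⟨ω1, hω1, e1⟩ := isCharacter_mul_sub χ1 h1 p hp x y hx hxy
  obtain ⟨ω2, hω2, e2⟩ := isCharacter_mul_sub χ2 h2 p hp x y hx hxy
  refine ⟨ω1 - ω2, hω1.sub hω2, ?_⟩
  simp only [Pi.sub_apply]
  rw [mul_sub, ← e1, ← e2]
  ring

end

end Cfsg.Agent.Lib.H23
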