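import Cfsg.Agent.Lib.H23.BlockSection

/-!
# Block orthogonality on `p`-sections for a general block (helper23)

`section_sum_general`: for a subgroup `H` of `G` with a central `p`-element `z` whose centralizer in
`G` is contained in `H`, a block `b` of `H` and `p`-regular `y y' ∈ H`:
`∑_ζ (∑_k blockCoeff b k ζ(k z y)) conj ζ(z y') = ∑_{ψ ∈ b} ψ(y) conj ψ(y')`.
-/

set_option autoImplicit false

namespace Cfsg.Agent.Lib.H23.Contrib

open Cfsg MonoidAlgebra Cfsg.Agent.Lib.H23
open scoped ComplexConjugate

variable {G : Type*} [Group G] [Fintype G] {p : ℕ} {M : Ideal AlgInt}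

theorem section_sum_general [Fintype (IrrCharacter G)] (hM : IsPModular p M)
    (H : Subgroup G) [Fintype H] [Fintype (IrrCharacter H)]
    (z : H) (hzc : z ∈ Subgroup.center H) (hz : ∃ k : ℕ, orderOf z = p ^ k)
    (hC : ∀ g : G, g * (z : G) * g⁻¹ = (z : G) → g ∈ H)
    (ξ₀ : IrrCharacter H) (b : Set (IrrCharacter H)) (hb : b = blockOf M (ξ₀ : H → ℂ))
    [DecidablePred (· ∈ b)]
    (y y' : H) (hy : ¬ p ∣ orderOf y) (hy' : ¬ p ∣ orderOf y') :
    ∑ ζ : IrrCharacter G, (∑ k : H, blockCoeff b k * (ζ : G → ℂ) ((k : G) * ((z * y : H) : G))) *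
        conj ((ζ : G → ℂ) ((z * y' : H) : G)) =
    ∑ ψ : IrrCharacter H, (if ψ ∈ b then (ψ : H → ℂ) y * conj ((ψ : H → ℂ) y') else 0) := by
  classical
  haveI hPr := isPrime_of_isPModular hM
  have hp := prime_of_isPModular hM
  set u : H := z * y with hu
  set u' : H := z * y' with hu'
  have hzG : ∃ k : ℕ, orderOf (z : G) = p ^ k := by
    obtain ⟨k, hk⟩ := hz
    exact ⟨k, by rw [Subgroup.orderOf_coe, hk]⟩
  have hcomm' : Commute (z : G) (y' : G) := by
    have := (Subgroup.mem_center_iff.1 hzc y')
    have h2 := congrArg (Subtype.val) this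
    simp only [Subgroup.coe_mul] at h2
    exact h2.symm
  have hy'G : ¬ p ∣ orderOf (y' : G) := by rwa [Subgroup.orderOf_coe]
  have hpart : IsPPart p (u' : G) (z : G) := by
    have : (u' : G) = (z : G) * (y' : G) := rfl
    rw [this]
    exact isPPart_mul hcomm' hzG hy'G
  rw [sum_irr_mul_sum_blockCoeff]
  obtain ⟨I, hI⟩ : ∃ I : H → ℂ, ∀ h : H, I h = ∑ ψ : IrrCharacter H,
      (if ψ ∈ b then (ψ : H → ℂ) u * conj ((ψ : H → ℂ) h) else 0) :=
    ⟨_, fun _ => rfl⟩
  simp only [← hI]
  have hstep : ∀ h : H, (if IsConj (h : G) (u' : G) then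
      (Nat.card (Subgroup.centralizer ({(h : G)} : Set G)) : ℂ) * I h else 0) =
      (if IsConj u' h then
      (Nat.card (Subgroup.centralizer ({(u' : G)} : Set G)) : ℂ) * I u' else 0) := by
    intro h
    by_cases hc : IsConj u' h
    · have hcG : IsConj (h : G) (u' : G) := by
        obtain ⟨c, hc'⟩ := isConj_iff.1 hc
        rw [isConj_comm, isConj_iff]
        exact ⟨(c : G), by rw [← hc']; simp⟩
      rw [if_pos hc, if_pos hcG]
      have h1 : I h = I u' := by
        rw [hI, hI]
        refine Finset.sum_congr rfl (fun ψ _ => ?_)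
        split_ifs
        · rw [Cfsg.Agent.Lib.H24.irr_eq_of_isConj ψ hc]
        · rfl
      have h2 : Nat.card (Subgroup.centralizer ({(h : G)} : Set G)) =
          Nat.card (Subgroup.centralizer ({(u' : G)} : Set G)) :=
        Cfsg.Agent.Lib.H24.card_centralizer_eq_of_isConj hcG
      rw [h1, h2]
    · rw [if_neg hc]
      by_cases hcG : IsConj (h : G) (u' : G)
      · rw [if_pos hcG]
        obtain ⟨g, hg⟩ := isConj_iff.1 (isConj_comm.1 hcG)
        have hpart' : IsPPart p (h : G) (g * (z : G) * g⁻¹) := by
          rw [← hg]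
          exact IsPPart.conj hpart g
        obtain ⟨z'', hz''G, hz''⟩ := IsPPart.of_subgroup hp H h hpart'
        have hne : z'' ≠ z := by
          intro heq
          apply hc
          have hgz : g * (z : G) * g⁻¹ = (z : G) := by
            rw [← hz''G, heq]
          have hgH : g ∈ H := hC g hgz
          rw [isConj_iff]
          exact ⟨⟨g, hgH⟩, Subtype.ext (by simpa using hg)⟩
        have h0 : I h = 0 := by
          rw [hI]
          exact central_block_orthogonality hM ξ₀ b hb hzc hz hy hz'' hne
        rw [h0, mul_zero]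
      · rw [if_neg hcG]
  simp only [hstep]
  rw [← Finset.sum_filter, Finset.sum_const, nsmul_eq_mul]
  have hcount : ((Finset.univ.filter (fun h : H => IsConj u' h)).card : ℂ) *
      (Nat.card (Subgroup.centralizer ({(u' : G)} : Set G)) : ℂ) = (Nat.card H : ℂ) := by
    have h1 : (Finset.univ.filter (fun h : H => IsConj u' h)).card =
        (Subgroup.centralizer ({u'} : Set H)).index := by
      rw [Cfsg.Agent.Lib.H24.index_centralizer_eq_card_conj, Nat.card_eq_fintype_card,
        Fintype.card_subtype]
    have h2 : Nat.card (Subgroup.centralizer ({(u' : G)} : Set G)) =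
        Nat.card (Subgroup.centralizer ({u'} : Set H)) := by
      have hle : Subgroup.centralizer ({(u' : G)} : Set G) ≤ H := by
        intro x hx
        rw [Subgroup.mem_centralizer_singleton_iff] at hx
        obtain ⟨n, hn⟩ := IsPPart.exists_pow hp hpart
        apply hC
        have hxz : x * (z : G) = (z : G) * x := by
          rw [hn]
          exact ((Commute.pow_right (show Commute x (u' : G) from hx) n)).eq
        rw [hxz, mul_inv_cancel_right]
      have heq : Subgroup.centralizer ({u'} : Set H) =
          (Subgroup.centralizer ({(u' : G)} : Set G)).subgroupOf H := by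
        ext x
        rw [Subgroup.mem_subgroupOf, Subgroup.mem_centralizer_singleton_iff,
          Subgroup.mem_centralizer_singleton_iff]
        constructor
        · intro hx
          have := congrArg (Subtype.val) hx
          simpa using this
        · intro hx
          exact Subtype.ext (by simpa using hx)
      rw [heq]
      exact (Nat.card_congr (Subgroup.subgroupOfEquivOfLe hle).toEquiv).symm
    rw [h1, h2, ← Nat.cast_mul, Subgroup.index_mul_card]
  have hH0 : (Nat.card H : ℂ) ≠ 0 := Nat.cast_ne_zero.2 Nat.card_pos.ne'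
  rw [← mul_assoc, ← mul_assoc, mul_assoc (Nat.card H : ℂ)⁻¹, hcount, inv_mul_cancel₀ hH0, one_mul]
  rw [hI]
  refine Finset.sum_congr rfl (fun ψ _ => ?_)
  split_ifs
  · rw [hu, hu', irr_central_mul_conj ψ hzc]
  · rfl

end Cfsg.Agent.Lib.H23.Contrib
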