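import Cfsg.Agent.Lib.H23.BlockOrth
import Cfsg.Prelude.Def_BlockRank
import Mathlib.LinearAlgebra.Trace
import Mathlib.LinearAlgebra.Projection

/-!
# The `p`-regular inner product on a block and the block rank (helper23)

* `pin p f g = |K|⁻¹ ∑_{x p-regular} f x conj (g x)`;
* `sum_pin_mul_irr`: for `ξ ∈ b` and `x` `p`-regular, `∑_{ξ' ∈ b} pin ξ ξ' · ξ'(x) = ξ(x)`;
* `sum_pin_self_eq_blockRank`: `∑_{ξ ∈ b} pin ξ ξ = blockRank p b`;
* `sum_pin_mul_pin`: `∑_{ξ, ξ' ∈ b} pin ξ ξ' · pin ξ' ξ = blockRank p b`.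
-/

set_option autoImplicit false

namespace Cfsg.Agent.Lib.H23.Contrib

open Cfsg MonoidAlgebra Cfsg.Agent.Lib.H23
open scoped ComplexConjugate

variable {K : Type*} [Group K] [Fintype K] {p : ℕ} {M : Ideal AlgInt}

/-- The inner product over the `p`-regular elements. -/
noncomputable def pin (p : ℕ) (f g : K → ℂ) : ℂ :=
  (Nat.card K : ℂ)⁻¹ * ∑ x : K, (if p ∣ orderOf x then 0 else f x * conj (g x))

theorem pin_eq (p : ℕ) (f g : K → ℂ) : pin p f g =
    (Nat.card K : ℂ)⁻¹ * ∑ x : K, (if p ∣ orderOf x then 0 else f x * conj (g x)) := rfl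

theorem pRegularPart_apply (p : ℕ) (f : K → ℂ) (x : K) :
    pRegularPart p f x = if p ∣ orderOf x then 0 else f x := by
  unfold pRegularPart IsPRegular
  by_cases h : p ∣ orderOf x
  · simp [h]
  · simp [h]

theorem classInner_pRegularPart_left (p : ℕ) (f g : K → ℂ) :
    classInner (pRegularPart p f) g = pin p f g := by
  unfold classInner pin
  congr 1
  refine Finset.sum_congr rfl fun x _ => ?_
  rw [pRegularPart_apply]
  split_ifs
  · rw [zero_mul]
  · rfl

theorem classInner_pRegularPart_right (p : ℕ) (f g : K → ℂ) :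
    classInner f (pRegularPart p g) = pin p f g := by
  unfold classInner pin
  congr 1
  refine Finset.sum_congr rfl fun x _ => ?_
  rw [pRegularPart_apply]
  split_ifs
  · rw [map_zero, mul_zero]
  · rfl

theorem classInner_pRegularPart_both (p : ℕ) (f g : K → ℂ) :
    classInner (pRegularPart p f) (pRegularPart p g) = pin p f g := by
  unfold classInner pin
  congr 1
  refine Finset.sum_congr rfl fun x _ => ?_
  rw [pRegularPart_apply, pRegularPart_apply]
  split_ifs
  · rw [zero_mul]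
  · rfl

theorem pin_conj (p : ℕ) (f g : K → ℂ) : conj (pin p f g) = pin p g f := by
  unfold pin
  rw [map_mul, map_inv₀, Complex.conj_natCast, map_sum]
  congr 1
  refine Finset.sum_congr rfl fun x _ => ?_
  split_ifs
  · rw [map_zero]
  · rw [map_mul, Complex.conj_conj, mul_comm]

theorem pRegularPart_isClassFunction (p : ℕ) {f : K → ℂ} (hf : IsClassFunction K f) :
    IsClassFunction K (pRegularPart p f) := by
  intro g h
  have h1 : orderOf (h * g * h⁻¹) = orderOf g := (MulAut.conj h).orderOf_eq g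
  rw [pRegularPart_apply, pRegularPart_apply, h1, hf g h]

theorem pin_eq_zero_of_not_mem (hM : IsPModular p M) (ξ₀ : IrrCharacter K)
    (b : Set (IrrCharacter K)) (hb : b = blockOf M (ξ₀ : K → ℂ)) {ξ ξ' : IrrCharacter K}
    (hξ : ξ ∈ b) (hξ' : ξ' ∉ b) : pin p (ξ : K → ℂ) (ξ' : K → ℂ) = 0 := by
  haveI := isPrime_of_isPModular hM
  unfold pin
  rw [sum_pRegular_mul_conj_eq_zero hM ξ ξ', mul_zero]
  intro h
  apply hξ'
  subst hb
  exact sameBlock_trans hξ h

/-- Expansion of the `p`-regular part of a member of a block in terms of the block. -/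
theorem pRegularPart_eq_sum [Fintype (IrrCharacter K)] (hM : IsPModular p M) (ξ₀ : IrrCharacter K)
    (b : Set (IrrCharacter K)) (hb : b = blockOf M (ξ₀ : K → ℂ)) [DecidablePred (· ∈ b)]
    {ξ : IrrCharacter K} (hξ : ξ ∈ b) :
    pRegularPart p (ξ : K → ℂ) =
      ∑ ξ' : IrrCharacter K, (if ξ' ∈ b then
        pin p (ξ : K → ℂ) (ξ' : K → ℂ) • (ξ' : K → ℂ) else 0) := by
  have h := Cfsg.Agent.Lib.H24.classFunction_expansion (pRegularPart p (ξ : K → ℂ))
    (pRegularPart_isClassFunction p (Cfsg.Agent.Lib.H24.isClassFunction_irr ξ))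
  conv_lhs => rw [h]
  refine Finset.sum_congr rfl fun ξ' _ => ?_
  rw [classInner_pRegularPart_left]
  split_ifs with h'
  · rfl
  · rw [pin_eq_zero_of_not_mem hM ξ₀ b hb hξ h', zero_smul]

theorem sum_pin_mul_irr [Fintype (IrrCharacter K)] (hM : IsPModular p M) (ξ₀ : IrrCharacter K)
    (b : Set (IrrCharacter K)) (hb : b = blockOf M (ξ₀ : K → ℂ)) [DecidablePred (· ∈ b)]
    {ξ : IrrCharacter K} (hξ : ξ ∈ b) {x : K} (hx : ¬ p ∣ orderOf x) :
    ∑ ξ' : IrrCharacter K, (if ξ' ∈ b then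
        pin p (ξ : K → ℂ) (ξ' : K → ℂ) * (ξ' : K → ℂ) x else 0) = (ξ : K → ℂ) x := by
  have h := congrFun (pRegularPart_eq_sum hM ξ₀ b hb hξ) x
  rw [pRegularPart_apply, if_neg hx, Finset.sum_apply] at h
  rw [h]
  refine Finset.sum_congr rfl fun ξ' _ => ?_
  split_ifs
  · rfl
  · rfl

/-- `∑_{ξ' ∈ b} pin ξ ξ' · pin ξ' ψ = pin ξ ψ` for `ξ ∈ b`. -/
theorem sum_pin_mul_pin_eq [Fintype (IrrCharacter K)] (hM : IsPModular p M) (ξ₀ : IrrCharacter K)
    (b : Set (IrrCharacter K)) (hb : b = blockOf M (ξ₀ : K → ℂ)) [DecidablePred (· ∈ b)]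
    {ξ : IrrCharacter K} (hξ : ξ ∈ b) (g : K → ℂ) :
    ∑ ξ' : IrrCharacter K, (if ξ' ∈ b then
        pin p (ξ : K → ℂ) (ξ' : K → ℂ) * pin p (ξ' : K → ℂ) g else 0) =
      pin p (ξ : K → ℂ) g := by
  have h1 : ∀ ξ' : IrrCharacter K, (if ξ' ∈ b then
        pin p (ξ : K → ℂ) (ξ' : K → ℂ) * pin p (ξ' : K → ℂ) g else 0) =
      (Nat.card K : ℂ)⁻¹ * ∑ x : K, (if p ∣ orderOf x then 0 else
        (if ξ' ∈ b then pin p (ξ : K → ℂ) (ξ' : K → ℂ) * (ξ' : K → ℂ) x else 0) * conj (g x)) := by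
    intro ξ'
    split_ifs with h'
    · rw [pin_eq p (ξ' : K → ℂ) g, mul_left_comm, Finset.mul_sum]
      congr 1
      refine Finset.sum_congr rfl fun x _ => ?_
      split_ifs
      · rw [mul_zero]
      · rw [mul_assoc]
    · simp
  simp only [h1]
  rw [← Finset.mul_sum, Finset.sum_comm, pin_eq p (ξ : K → ℂ) g]
  congr 1
  refine Finset.sum_congr rfl fun x _ => ?_
  split_ifs with hx
  · simp
  · rw [← Finset.sum_mul, sum_pin_mul_irr hM ξ₀ b hb hξ hx]

section Trace

open Module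

/-- The functional `f ↦ ⟨f, g⟩`. -/
noncomputable def innerFunctional (g : K → ℂ) : (K → ℂ) →ₗ[ℂ] ℂ where
  toFun := fun f => classInner f g
  map_add' := fun f f' => by
    unfold classInner
    rw [← mul_add, ← Finset.sum_add_distrib]
    congr 1
    refine Finset.sum_congr rfl fun x _ => ?_
    rw [Pi.add_apply, add_mul]
  map_smul' := fun c f => by
    simp only [classInner, Pi.smul_apply, smul_eq_mul, RingHom.id_apply]
    rw [Finset.mul_sum, Finset.mul_sum, Finset.mul_sum]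
    exact Finset.sum_congr rfl fun x _ => by ring

theorem innerFunctional_apply (g f : K → ℂ) : innerFunctional g f = classInner f g := rfl

/-- The operator `f ↦ ∑_{ξ ∈ b} ⟨f, ξ°⟩ ξ°`. -/
noncomputable def projOp [Fintype (IrrCharacter K)] (p : ℕ) (b : Set (IrrCharacter K))
    [DecidablePred (· ∈ b)] : (K → ℂ) →ₗ[ℂ] (K → ℂ) :=
  ∑ ξ : IrrCharacter K, (if ξ ∈ b then
    LinearMap.smulRight (innerFunctional (pRegularPart p (ξ : K → ℂ)))
      (pRegularPart p (ξ : K → ℂ)) else 0)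

theorem projOp_apply [Fintype (IrrCharacter K)] (p : ℕ) (b : Set (IrrCharacter K))
    [DecidablePred (· ∈ b)] (f : K → ℂ) :
    projOp p b f = ∑ ξ : IrrCharacter K, (if ξ ∈ b then
      classInner f (pRegularPart p (ξ : K → ℂ)) • pRegularPart p (ξ : K → ℂ) else 0) := by
  unfold projOp
  rw [LinearMap.sum_apply]
  refine Finset.sum_congr rfl fun ξ _ => ?_
  split_ifs
  · rfl
  · rfl

theorem trace_projOp [Fintype (IrrCharacter K)] (p : ℕ) (b : Set (IrrCharacter K))
    [DecidablePred (· ∈ b)] :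
    LinearMap.trace ℂ (K → ℂ) (projOp p b) =
      ∑ ξ : IrrCharacter K, (if ξ ∈ b then pin p (ξ : K → ℂ) (ξ : K → ℂ) else 0) := by
  unfold projOp
  rw [map_sum]
  refine Finset.sum_congr rfl fun ξ _ => ?_
  split_ifs
  · rw [LinearMap.trace_smulRight]
    exact classInner_pRegularPart_both p _ _
  · rw [map_zero]

theorem projOp_isProj [Fintype (IrrCharacter K)] (hM : IsPModular p M) (ξ₀ : IrrCharacter K)
    (b : Set (IrrCharacter K)) (hb : b = blockOf M (ξ₀ : K → ℂ)) [DecidablePred (· ∈ b)] :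
    LinearMap.IsProj
      (Submodule.span ℂ ((fun χ : IrrCharacter K => pRegularPart p (χ : K → ℂ)) '' b))
      (projOp p b) := by
  constructor
  · intro f
    rw [projOp_apply]
    refine Submodule.sum_mem _ fun ξ _ => ?_
    split_ifs with h
    · exact Submodule.smul_mem _ _ (Submodule.subset_span ⟨ξ, h, rfl⟩)
    · exact Submodule.zero_mem _
  · intro f hf
    induction hf using Submodule.span_induction with
    | mem f hf =>
      obtain ⟨ξ, hξ, rfl⟩ := hf
      rw [projOp_apply]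
      funext x
      rw [Finset.sum_apply]
      simp only []
      by_cases hx : p ∣ orderOf x
      · rw [pRegularPart_apply, if_pos hx]
        refine Finset.sum_eq_zero fun ξ' _ => ?_
        split_ifs
        · rw [Pi.smul_apply, pRegularPart_apply, if_pos hx, smul_zero]
        · rfl
      · rw [pRegularPart_apply, if_neg hx, ← sum_pin_mul_irr hM ξ₀ b hb hξ hx]
        refine Finset.sum_congr rfl fun ξ' _ => ?_
        split_ifs
        · rw [Pi.smul_apply, pRegularPart_apply, if_neg hx, classInner_pRegularPart_both,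
            smul_eq_mul]
        · rfl
    | zero => exact map_zero _
    | add f g _ _ hf hg => rw [map_add, hf, hg]
    | smul c f _ hf => rw [map_smul, hf]

theorem sum_pin_self_eq_blockRank [Fintype (IrrCharacter K)] (hM : IsPModular p M)
    (ξ₀ : IrrCharacter K) (b : Set (IrrCharacter K)) (hb : b = blockOf M (ξ₀ : K → ℂ))
    [DecidablePred (· ∈ b)] :
    ∑ ξ : IrrCharacter K, (if ξ ∈ b then pin p (ξ : K → ℂ) (ξ : K → ℂ) else 0) =
      (blockRank p b : ℂ) := by
  rw [← trace_projOp, (projOp_isProj hM ξ₀ b hb).trace]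
  rfl

/-- `∑_{ξ, ξ' ∈ b} pin ξ ξ' · pin ξ' ξ = blockRank p b`. -/
theorem sum_pin_mul_pin [Fintype (IrrCharacter K)] (hM : IsPModular p M)
    (ξ₀ : IrrCharacter K) (b : Set (IrrCharacter K)) (hb : b = blockOf M (ξ₀ : K → ℂ))
    [DecidablePred (· ∈ b)] :
    ∑ ξ : IrrCharacter K, ∑ ξ' : IrrCharacter K, (if ξ ∈ b ∧ ξ' ∈ b then
      pin p (ξ : K → ℂ) (ξ' : K → ℂ) * pin p (ξ' : K → ℂ) (ξ : K → ℂ) else 0) =
      (blockRank p b : ℂ) := by
  rw [← sum_pin_self_eq_blockRank hM ξ₀ b hb]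
  refine Finset.sum_congr rfl fun ξ _ => ?_
  by_cases hξ : ξ ∈ b
  · rw [if_pos hξ, ← sum_pin_mul_pin_eq hM ξ₀ b hb hξ (ξ : K → ℂ)]
    refine Finset.sum_congr rfl fun ξ' _ => ?_
    by_cases hξ' : ξ' ∈ b
    · rw [if_pos ⟨hξ, hξ'⟩, if_pos hξ']
    · rw [if_neg (fun h => hξ' h.2), if_neg hξ']
  · rw [if_neg hξ]
    refine Finset.sum_eq_zero fun ξ' _ => ?_
    rw [if_neg (fun h => hξ h.1)]

end Trace

end Cfsg.Agent.Lib.H23.Contrib
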