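import Cfsg.Agent.Lib.H23.ContribA
import Cfsg.Agent.Lib.H23.ContribB
import Mathlib.LinearAlgebra.Matrix.Trace

/-!
# Contributions of a subsection (helper23)

For a subgroup `H` of `G`, a central `p`-element `z` of `H` with `C_G(z) ≤ H` and a block `b` of
`H`:
* `bpart b ζ u = ∑_k blockCoeff b k ζ(k u)` (the `b`-part of `ζ|_H`);
* `contrib p b z χ ψ = |H|⁻¹ ∑_{s p-regular} bpart b χ (z s) conj ψ(z s)`;
* `sum_contrib_mul_contrib`: `∑_{χ ψ} contrib χ ψ · contrib ψ χ = blockRank p b`.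
-/

set_option autoImplicit false

namespace Cfsg.Agent.Lib.H23.Contrib

open Cfsg MonoidAlgebra Cfsg.Agent.Lib.H23 Matrix
open scoped ComplexConjugate

variable {G : Type*} [Group G] [Fintype G] {p : ℕ} {M : Ideal AlgInt}

/-- The `b`-part of the restriction of `ζ` to `H`, at `u`. -/
noncomputable def bpart (H : Subgroup G) [Fintype H] (b : Set (IrrCharacter H)) (ζ : G → ℂ)
    (u : H) : ℂ :=
  ∑ k : H, blockCoeff b k * ζ ((k : G) * (u : G))

/-- The contribution of the subsection `(z, b)` to the pair `(χ, ψ)`. -/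
noncomputable def contrib (p : ℕ) (H : Subgroup G) [Fintype H] (b : Set (IrrCharacter H)) (z : H)
    (χ ψ : G → ℂ) : ℂ :=
  (Nat.card H : ℂ)⁻¹ * ∑ s : H, (if p ∣ orderOf s then 0 else
    bpart H b χ (z * s) * conj (ψ ((z * s : H) : G)))

section Sum

variable [Fintype (IrrCharacter G)] (H : Subgroup G) [Fintype H] [Fintype (IrrCharacter H)]
  (b : Set (IrrCharacter H)) [DecidablePred (· ∈ b)] (z : H)

/-- The matrix `V`. -/
noncomputable def matV (p : ℕ) : Matrix (IrrCharacter G) H ℂ :=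
  fun χ s => if p ∣ orderOf s then 0 else bpart H b (χ : G → ℂ) (z * s)

/-- The matrix `conj W`. -/
noncomputable def matW (p : ℕ) : Matrix (IrrCharacter G) H ℂ :=
  fun χ s => if p ∣ orderOf s then 0 else conj ((χ : G → ℂ) ((z * s : H) : G))

/-- The matrix `E`. -/
noncomputable def matE (p : ℕ) : Matrix (IrrCharacter H) H ℂ :=
  fun ξ s => if ξ ∈ b ∧ ¬ p ∣ orderOf s then (ξ : H → ℂ) s else 0

theorem matV_mul_matW_transpose (χ ψ : IrrCharacter G) :
    (matV H b z p * (matW H z p)ᵀ) χ ψ =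
      (Nat.card H : ℂ) * contrib p H b z (χ : G → ℂ) (ψ : G → ℂ) := by
  have hH0 : (Nat.card H : ℂ) ≠ 0 := Nat.cast_ne_zero.2 Nat.card_pos.ne'
  unfold contrib
  rw [← mul_assoc, mul_inv_cancel₀ hH0, one_mul, Matrix.mul_apply]
  refine Finset.sum_congr rfl fun s _ => ?_
  rw [Matrix.transpose_apply]
  unfold matV matW
  split_ifs
  · rw [zero_mul]
  · rfl

theorem matW_transpose_mul_matV (hM : IsPModular p M)
    (hzc : z ∈ Subgroup.center H) (hz : ∃ k : ℕ, orderOf z = p ^ k)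
    (hC : ∀ g : G, g * (z : G) * g⁻¹ = (z : G) → g ∈ H)
    (ξ₀ : IrrCharacter H) (hb : b = blockOf M (ξ₀ : H → ℂ)) :
    (matW H z p)ᵀ * matV H b z p = (matE H b p)ᴴ * matE H b p := by
  ext s' s
  rw [Matrix.mul_apply, Matrix.mul_apply]
  by_cases hs : p ∣ orderOf s
  · rw [Finset.sum_eq_zero, Finset.sum_eq_zero]
    · intro ξ _
      unfold matE
      rw [if_neg (fun h => h.2 hs), mul_zero]
    · intro χ _
      unfold matV
      rw [if_pos hs, mul_zero]
  by_cases hs' : p ∣ orderOf s'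
  · rw [Finset.sum_eq_zero, Finset.sum_eq_zero]
    · intro ξ _
      rw [Matrix.conjTranspose_apply]
      unfold matE
      rw [if_neg (fun h => h.2 hs'), star_zero, zero_mul]
    · intro χ _
      rw [Matrix.transpose_apply]
      unfold matW
      rw [if_pos hs', zero_mul]
  have h := section_sum_general hM H z hzc hz hC ξ₀ b hb s s' hs hs'
  have e1 : ∑ χ : IrrCharacter G, (matW H z p)ᵀ s' χ * matV H b z p χ s =
      ∑ ζ : IrrCharacter G, (∑ k : H, blockCoeff b k * (ζ : G → ℂ) ((k : G) * ((z * s : H) : G))) *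
        conj ((ζ : G → ℂ) ((z * s' : H) : G)) := by
    refine Finset.sum_congr rfl fun χ _ => ?_
    rw [Matrix.transpose_apply]
    unfold matV matW bpart
    rw [if_neg hs, if_neg hs', mul_comm]
  have e2 : ∑ ξ : IrrCharacter H, (matE H b p)ᴴ s' ξ * matE H b p ξ s =
      ∑ ψ : IrrCharacter H, (if ψ ∈ b then (ψ : H → ℂ) s * conj ((ψ : H → ℂ) s') else 0) := by
    refine Finset.sum_congr rfl fun ξ _ => ?_
    rw [Matrix.conjTranspose_apply]
    unfold matE
    by_cases hξ : ξ ∈ b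
    · rw [if_pos ⟨hξ, hs'⟩, if_pos ⟨hξ, hs⟩, if_pos hξ, mul_comm]
      rfl
    · rw [if_neg (fun h => hξ h.1), if_neg hξ, star_zero, zero_mul]
  rw [e1, e2, h]

theorem matE_mul_conjTranspose (ξ ξ' : IrrCharacter H) :
    (matE H b p * (matE H b p)ᴴ) ξ ξ' =
      if ξ ∈ b ∧ ξ' ∈ b then (Nat.card H : ℂ) * pin p (ξ : H → ℂ) (ξ' : H → ℂ) else 0 := by
  have hH0 : (Nat.card H : ℂ) ≠ 0 := Nat.cast_ne_zero.2 Nat.card_pos.ne'
  rw [Matrix.mul_apply]
  by_cases h : ξ ∈ b ∧ ξ' ∈ b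
  · rw [if_pos h, pin_eq, ← mul_assoc, mul_inv_cancel₀ hH0, one_mul]
    refine Finset.sum_congr rfl fun s _ => ?_
    rw [Matrix.conjTranspose_apply]
    unfold matE
    by_cases hs : p ∣ orderOf s
    · rw [if_pos hs, if_neg (fun h' => h'.2 hs), zero_mul]
    · rw [if_neg hs, if_pos ⟨h.1, hs⟩, if_pos ⟨h.2, hs⟩]
      rfl
  · rw [if_neg h]
    refine Finset.sum_eq_zero fun s _ => ?_
    rw [Matrix.conjTranspose_apply]
    unfold matE
    by_cases h1 : ξ ∈ b
    · have h2 : ξ' ∉ b := fun h2 => h ⟨h1, h2⟩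
      simp only [h2, false_and, if_false, star_zero, mul_zero]
    · simp only [h1, false_and, if_false, zero_mul]

/-- **The sum of squares of the contributions** of a subsection is the rank of the block. -/
theorem sum_contrib_mul_contrib (hM : IsPModular p M)
    (hzc : z ∈ Subgroup.center H) (hz : ∃ k : ℕ, orderOf z = p ^ k)
    (hC : ∀ g : G, g * (z : G) * g⁻¹ = (z : G) → g ∈ H)
    (ξ₀ : IrrCharacter H) (hb : b = blockOf M (ξ₀ : H → ℂ)) :
    ∑ χ : IrrCharacter G, ∑ ψ : IrrCharacter G,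
      contrib p H b z (χ : G → ℂ) (ψ : G → ℂ) * contrib p H b z (ψ : G → ℂ) (χ : G → ℂ) =
      (blockRank p b : ℂ) := by
  classical
  have hH0 : (Nat.card H : ℂ) ≠ 0 := Nat.cast_ne_zero.2 Nat.card_pos.ne'
  set V := matV H b z p with hV
  set W := matW H z p with hW
  set E := matE H b p with hE
  have h1 : Matrix.trace ((V * Wᵀ) * (V * Wᵀ)) = Matrix.trace ((E * Eᴴ) * (E * Eᴴ)) := by
    have e1 : Matrix.trace ((V * Wᵀ) * (V * Wᵀ)) = Matrix.trace ((Wᵀ * V) * (Wᵀ * V)) := by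
      rw [Matrix.mul_assoc V, Matrix.trace_mul_comm]
      simp only [Matrix.mul_assoc]
    have e2 : Matrix.trace ((E * Eᴴ) * (E * Eᴴ)) = Matrix.trace ((Eᴴ * E) * (Eᴴ * E)) := by
      rw [Matrix.mul_assoc E, Matrix.trace_mul_comm]
      simp only [Matrix.mul_assoc]
    rw [e1, e2, matW_transpose_mul_matV H b z hM hzc hz hC ξ₀ hb]
  have h2 : Matrix.trace ((V * Wᵀ) * (V * Wᵀ)) = (Nat.card H : ℂ) ^ 2 *
      ∑ χ : IrrCharacter G, ∑ ψ : IrrCharacter G,
      contrib p H b z (χ : G → ℂ) (ψ : G → ℂ) * contrib p H b z (ψ : G → ℂ) (χ : G → ℂ) := by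
    unfold Matrix.trace
    rw [Finset.mul_sum]
    refine Finset.sum_congr rfl fun χ _ => ?_
    rw [Matrix.diag_apply, Matrix.mul_apply, Finset.mul_sum]
    refine Finset.sum_congr rfl fun ψ _ => ?_
    rw [matV_mul_matW_transpose, matV_mul_matW_transpose]
    ring
  have h3 : Matrix.trace ((E * Eᴴ) * (E * Eᴴ)) = (Nat.card H : ℂ) ^ 2 * (blockRank p b : ℂ) := by
    rw [← sum_pin_mul_pin hM ξ₀ b hb]
    unfold Matrix.trace
    rw [Finset.mul_sum]
    refine Finset.sum_congr rfl fun ξ _ => ?_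
    rw [Matrix.diag_apply, Matrix.mul_apply, Finset.mul_sum]
    refine Finset.sum_congr rfl fun ξ' _ => ?_
    rw [matE_mul_conjTranspose, matE_mul_conjTranspose]
    by_cases h : ξ ∈ b ∧ ξ' ∈ b
    · rw [if_pos h, if_pos h.symm, if_pos h]
      ring
    · rw [if_neg h, if_neg h, zero_mul, mul_zero]
  rw [h2, h3] at h1
  exact mul_left_cancel₀ (pow_ne_zero 2 hH0) h1

end Sum

end Cfsg.Agent.Lib.H23.Contrib
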