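import Cfsg.Agent.Lib.H23.ContribC

/-!
# Contributions in terms of the `p`-regular inner products (helper23)

`contrib_eq_sum`: `contrib χ ψ = ∑_{ξ ξ' ∈ b} a_χ(ξ) conj a_ψ(ξ') λ_ξ(z) conj λ_ξ'(z) pin ξ ξ'`,
where `a_χ(ξ) = [χ|_H, ξ]` and `λ_ξ(z) = ξ(z)/ξ(1)`; `contrib_conj`.
-/

set_option autoImplicit false

namespace Cfsg.Agent.Lib.H23.Contrib

open Cfsg MonoidAlgebra Cfsg.Agent.Lib.H23
open scoped ComplexConjugate

variable {G : Type*} [Group G] [Fintype G] {p : ℕ} {M : Ideal AlgInt}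

/-- The multiplicity `[χ|_H, ξ]`. -/
noncomputable def resMult (H : Subgroup G) [Fintype H] (χ : G → ℂ) (ξ : H → ℂ) : ℂ :=
  classInner (fun h : H => χ h) ξ

theorem resMult_nat (H : Subgroup G) [Fintype H] (χ : IrrCharacter G) (ξ : IrrCharacter H) :
    ∃ n : ℕ, resMult H (χ : G → ℂ) (ξ : H → ℂ) = n :=
  Cfsg.Agent.Lib.L0.classInner_char_irr_nat
    (Cfsg.Agent.Lib.L0.isCharacter_restrict H (Cfsg.Agent.Lib.L0.isCharacter_of_irr χ.2)) ξ.2

theorem resMult_conj (H : Subgroup G) [Fintype H] (χ : IrrCharacter G) (ξ : IrrCharacter H) :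
    conj (resMult H (χ : G → ℂ) (ξ : H → ℂ)) = resMult H (χ : G → ℂ) (ξ : H → ℂ) := by
  obtain ⟨n, hn⟩ := resMult_nat H χ ξ
  rw [hn, Complex.conj_natCast]

section

variable [Fintype (IrrCharacter G)] (H : Subgroup G) [Fintype H] [Fintype (IrrCharacter H)]
  (b : Set (IrrCharacter H)) [DecidablePred (· ∈ b)] (z : H)

theorem bpart_eq_sum (χ : IrrCharacter G) (u : H) :
    bpart H b (χ : G → ℂ) u = ∑ ξ : IrrCharacter H,
      (if ξ ∈ b then (ξ : H → ℂ) u * resMult H (χ : G → ℂ) (ξ : H → ℂ) else 0) := by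
  have h := sum_blockCoeff_mul_classFunction b (isClassFunction_restrict_irr H χ) u
  unfold bpart
  simp only [Subgroup.coe_mul] at h
  rw [h]
  refine Finset.sum_congr rfl fun ξ _ => ?_
  split_ifs
  · rfl
  · rw [zero_mul]

theorem restrict_eq_sum (ψ : IrrCharacter G) (u : H) :
    (ψ : G → ℂ) (u : G) = ∑ ξ : IrrCharacter H,
      resMult H (ψ : G → ℂ) (ξ : H → ℂ) * (ξ : H → ℂ) u := by
  have h := Cfsg.Agent.Lib.H24.classFunction_expansion (fun h : H => (ψ : G → ℂ) h)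
    (isClassFunction_restrict_irr H ψ)
  have h2 := congrFun h u
  simp only [Finset.sum_apply, Pi.smul_apply, smul_eq_mul] at h2
  exact h2

/-- The weight `λ_ξ(z) conj λ_ξ'(z)`. -/
noncomputable def lamW (ξ ξ' : IrrCharacter H) : ℂ :=
  ((ξ : H → ℂ) z / (ξ : H → ℂ) 1) * conj ((ξ' : H → ℂ) z / (ξ' : H → ℂ) 1)

theorem contrib_eq_sum (hM : IsPModular p M) (hzc : z ∈ Subgroup.center H)
    (ξ₀ : IrrCharacter H) (hb : b = blockOf M (ξ₀ : H → ℂ)) (χ ψ : IrrCharacter G) :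
    contrib p H b z (χ : G → ℂ) (ψ : G → ℂ) =
      ∑ ξ : IrrCharacter H, ∑ ξ' : IrrCharacter H, (if ξ ∈ b ∧ ξ' ∈ b then
        resMult H (χ : G → ℂ) (ξ : H → ℂ) * resMult H (ψ : G → ℂ) (ξ' : H → ℂ) *
          lamW H z ξ ξ' * pin p (ξ : H → ℂ) (ξ' : H → ℂ) else 0) := by
  classical
  -- the general term
  have hterm : ∀ s : H, (if p ∣ orderOf s then 0 else
      bpart H b (χ : G → ℂ) (z * s) * conj ((ψ : G → ℂ) ((z * s : H) : G))) =
      ∑ ξ : IrrCharacter H, ∑ ξ' : IrrCharacter H, (if ξ ∈ b then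
        resMult H (χ : G → ℂ) (ξ : H → ℂ) * resMult H (ψ : G → ℂ) (ξ' : H → ℂ) *
          lamW H z ξ ξ' * (if p ∣ orderOf s then 0 else
            (ξ : H → ℂ) s * conj ((ξ' : H → ℂ) s)) else 0) := by
    intro s
    by_cases hs : p ∣ orderOf s
    · rw [if_pos hs]
      symm
      refine Finset.sum_eq_zero fun ξ _ => Finset.sum_eq_zero fun ξ' _ => ?_
      rw [if_pos hs, mul_zero, ite_self]
    · rw [if_neg hs, bpart_eq_sum, restrict_eq_sum H ψ (z * s), map_sum, Finset.sum_mul]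
      refine Finset.sum_congr rfl fun ξ _ => ?_
      rw [Finset.mul_sum]
      refine Finset.sum_congr rfl fun ξ' _ => ?_
      rw [if_neg hs]
      split_ifs with hξ
      · rw [map_mul, resMult_conj, irr_central_mul ξ hzc s, irr_central_mul ξ' hzc s, map_mul]
        unfold lamW
        ring
      · rw [zero_mul]
  unfold contrib
  simp only [hterm]
  rw [Finset.sum_comm, Finset.mul_sum]
  refine Finset.sum_congr rfl fun ξ _ => ?_
  rw [Finset.sum_comm, Finset.mul_sum]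
  refine Finset.sum_congr rfl fun ξ' _ => ?_
  by_cases hξ : ξ ∈ b
  · simp only [if_pos hξ]
    rw [← Finset.mul_sum, mul_left_comm, ← pin_eq]
    by_cases hξ' : ξ' ∈ b
    · rw [if_pos ⟨hξ, hξ'⟩]
    · rw [if_neg (fun h => hξ' h.2), pin_eq_zero_of_not_mem hM ξ₀ b hb hξ hξ', mul_zero]
  · simp only [if_neg hξ]
    rw [Finset.sum_const_zero, mul_zero, if_neg (fun h => hξ h.1)]

theorem lamW_conj (ξ ξ' : IrrCharacter H) : conj (lamW H z ξ ξ') = lamW H z ξ' ξ := by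
  unfold lamW
  rw [map_mul, Complex.conj_conj, mul_comm]

/-- The matrix of contributions is Hermitian. -/
theorem contrib_conj (hM : IsPModular p M) (hzc : z ∈ Subgroup.center H)
    (ξ₀ : IrrCharacter H) (hb : b = blockOf M (ξ₀ : H → ℂ)) (χ ψ : IrrCharacter G) :
    conj (contrib p H b z (χ : G → ℂ) (ψ : G → ℂ)) =
      contrib p H b z (ψ : G → ℂ) (χ : G → ℂ) := by
  rw [contrib_eq_sum H b z hM hzc ξ₀ hb χ ψ, contrib_eq_sum H b z hM hzc ξ₀ hb ψ χ, map_sum,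
    Finset.sum_comm]
  refine Finset.sum_congr rfl fun ξ' _ => ?_
  rw [map_sum]
  refine Finset.sum_congr rfl fun ξ _ => ?_
  by_cases h : ξ ∈ b ∧ ξ' ∈ b
  · rw [if_pos h, if_pos h.symm, map_mul, map_mul, map_mul, resMult_conj, resMult_conj, lamW_conj,
      pin_conj]
    ring
  · rw [if_neg h, if_neg (fun h' => h h'.symm), map_zero]

/-- The sum of the squared absolute values of the contributions is the rank of the block. -/
theorem sum_normSq_contrib (hM : IsPModular p M)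
    (hzc : z ∈ Subgroup.center H) (hz : ∃ k : ℕ, orderOf z = p ^ k)
    (hC : ∀ g : G, g * (z : G) * g⁻¹ = (z : G) → g ∈ H)
    (ξ₀ : IrrCharacter H) (hb : b = blockOf M (ξ₀ : H → ℂ)) :
    ∑ χ : IrrCharacter G, ∑ ψ : IrrCharacter G,
      ‖contrib p H b z (χ : G → ℂ) (ψ : G → ℂ)‖ ^ 2 = (blockRank p b : ℝ) := by
  have h := sum_contrib_mul_contrib H b z hM hzc hz hC ξ₀ hb
  have h2 : ∀ χ ψ : IrrCharacter G,
      contrib p H b z (χ : G → ℂ) (ψ : G → ℂ) * contrib p H b z (ψ : G → ℂ) (χ : G → ℂ) =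
        ((‖contrib p H b z (χ : G → ℂ) (ψ : G → ℂ)‖ ^ 2 : ℝ) : ℂ) := by
    intro χ ψ
    rw [← contrib_conj H b z hM hzc ξ₀ hb χ ψ, Complex.mul_conj, Complex.normSq_eq_norm_sq]
  simp only [h2] at h
  have h3 : ((∑ χ : IrrCharacter G, ∑ ψ : IrrCharacter G,
      ‖contrib p H b z (χ : G → ℂ) (ψ : G → ℂ)‖ ^ 2 : ℝ) : ℂ) = ((blockRank p b : ℝ) : ℂ) := by
    push_cast
    push_cast at h
    exact h
  exact_mod_cast h3

end

end Cfsg.Agent.Lib.H23.Contrib
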