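import Cfsg.Agent.Lib.H23.ContribB
import Cfsg.Agent.Lib.H23.BlockHeightZero
import Cfsg.Agent.Lib.L0.BlockMinMax

/-!
# Arithmetic of the `p`-regular inner products on a block (helper23)

* `AA_eq_pow_mul_pin`, `card_mul_pin` (`|K| pin ξ f = ξ(1) ω_ξ(regElt p f)`), `pin_symm_irr`;
* `exists_int_pow_mul_pin`: `p^d pin ξ ξ' ∈ ℤ` for `ξ ξ' ∈ b`, `d` the defect of `b`;
* `pin_sum_right`.
-/

set_option autoImplicit false

namespace Cfsg.Agent.Lib.H23.Contrib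

open Cfsg MonoidAlgebra Cfsg.Agent.Lib.H23 Cfsg.Agent.Lib.H24 Cfsg.Agent.Lib.L0
  Cfsg.Agent.Lib.L0.Tilde Cfsg.Agent.Lib.L0.BlockMinMax
open scoped ComplexConjugate

variable {K : Type*} [Group K] [Fintype K] {p : ℕ} {M : Ideal AlgInt}

theorem AA_eq_pow_mul_pin (p : ℕ) (f g : K → ℂ) :
    AA p f g = ((p ^ (Nat.card K).factorization p : ℕ) : ℂ) * pin p f g := by
  rw [AA_eq, pin_eq, mul_assoc]

theorem card_mul_pin (hp : p.Prime) (ξ : IrrCharacter K) (f : K → ℂ) :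
    (Nat.card K : ℂ) * pin p (ξ : K → ℂ) f =
      (ξ : K → ℂ) 1 * omega (ξ : K → ℂ) (regElt p f) := by
  rw [← AA_mul_ordCompl hp ξ f, AA_eq_pow_mul_pin]
  have hsplit := Nat.ordProj_mul_ordCompl_eq_self (Nat.card K) p
  have h2 : (Nat.card K : ℂ) = ((p ^ (Nat.card K).factorization p : ℕ) : ℂ) *
      ((Nat.card K / p ^ (Nat.card K).factorization p : ℕ) : ℂ) := by
    exact_mod_cast hsplit.symm
  rw [h2]
  ring

theorem pin_symm_irr (hp : p.Prime) (ξ ξ' : IrrCharacter K) :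
    pin p (ξ : K → ℂ) (ξ' : K → ℂ) = pin p (ξ' : K → ℂ) (ξ : K → ℂ) := by
  have h := AA_symm hp ξ ξ'
  rw [AA_eq_pow_mul_pin, AA_eq_pow_mul_pin] at h
  have hpa : ((p ^ (Nat.card K).factorization p : ℕ) : ℂ) ≠ 0 := by
    exact_mod_cast (pow_pos hp.pos _).ne'
  exact mul_left_cancel₀ hpa h

theorem pin_sum_right (p : ℕ) (f : K → ℂ) {ι : Type*} (s : Finset ι) (c : ι → ℂ)
    (g : ι → K → ℂ) :
    pin p f (∑ i ∈ s, c i • g i) = ∑ i ∈ s, conj (c i) * pin p f (g i) := by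
  simp only [pin_eq]
  rw [Finset.mul_sum]
  have : ∀ i ∈ s, conj (c i) * ((Nat.card K : ℂ)⁻¹ *
      ∑ x : K, (if p ∣ orderOf x then 0 else f x * conj (g i x))) =
      ∑ x : K, (Nat.card K : ℂ)⁻¹ * (if p ∣ orderOf x then 0 else
        f x * (conj (c i) * conj (g i x))) := by
    intro i _
    rw [mul_left_comm, Finset.mul_sum, Finset.mul_sum]
    refine Finset.sum_congr rfl fun x _ => ?_
    split_ifs
    · simp
    · ring
  rw [Finset.sum_congr rfl this, Finset.sum_comm]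
  refine Finset.sum_congr rfl fun x _ => ?_
  rw [← Finset.mul_sum]
  congr 1
  split_ifs
  · simp
  · rw [Finset.sum_apply, map_sum, Finset.mul_sum]
    refine Finset.sum_congr rfl fun i _ => ?_
    rw [Pi.smul_apply, smul_eq_mul, map_mul]

variable [Fact p.Prime]

/-- `p^d · pin ξ ξ'` is an integer for `ξ, ξ'` in a block of defect `d`. -/
theorem exists_int_pow_mul_pin (hM : IsPModular p M) (ξ₀ : IrrCharacter K)
    {ξ ξ' : IrrCharacter K} (hξ : ξ ∈ blockOf M (ξ₀ : K → ℂ)) :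
    ∃ n : ℤ, (p : ℂ) ^ blockDefect p (blockOf M (ξ₀ : K → ℂ)) *
      pin p (ξ : K → ℂ) (ξ' : K → ℂ) = n := by
  haveI hP := isPrime_of_isPModular hM
  have hp : p.Prime := Fact.out
  obtain ⟨N, hN⟩ := AA_int hp (isCharacter_of_irr ξ.2) ξ'
  have hdvd := pow_dvd_AA hp ξ ξ' N hN
  have hle := minDeg_le (p := p) ξ₀ hξ
  have h1 := minDeg_eq_sub_blockDefect (p := p) (M := M) ξ₀
  have h2 := minDeg_le_card (p := p) (M := M) ξ₀
  set e := minDeg p (blockOf M (ξ₀ : K → ℂ)) with he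
  set d := blockDefect p (blockOf M (ξ₀ : K → ℂ)) with hd
  set a := (Nat.card K).factorization p with ha
  have hd_le : d ≤ a := by
    rw [hd, blockDefect]; omega
  have hae : a = e + d := by omega
  obtain ⟨n, hn⟩ := (pow_dvd_pow (p : ℤ) hle).trans hdvd
  refine ⟨n, ?_⟩
  rw [AA_eq_pow_mul_pin, hn] at hN
  have hp0 : (p : ℂ) ≠ 0 := Nat.cast_ne_zero.2 hp.ne_zero
  have hpe : (p : ℂ) ^ e ≠ 0 := pow_ne_zero _ hp0
  apply mul_left_cancel₀ hpe
  rw [← mul_assoc, ← pow_add, ← hae]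
  push_cast at hN
  rw [← ha] at hN
  exact hN

end Cfsg.Agent.Lib.H23.Contrib
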