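import Cfsg.Agent.Lib.H23.ContribD
import Cfsg.Agent.Lib.H23.ContribE

/-!
# Non-vanishing of the integral part of a major contribution (helper23)

For `b` a block of `H ≤ G` inducing `B`, with the same defect `d`, and `χ, ψ ∈ B` of height zero:
`contribInt χ ψ = ∑_{ξ ξ' ∈ b} a_χ(ξ) a_ψ(ξ') p^d pin ξ ξ'` is an integer prime to `p`
(`contribInt_int`, `contribInt_not_memLocalIdeal`).
-/

set_option autoImplicit false

namespace Cfsg.Agent.Lib.H23.Contrib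

open Cfsg MonoidAlgebra Cfsg.Agent.Lib.H23 Cfsg.Agent.Lib.H24 Cfsg.Agent.Lib.L0
  Cfsg.Agent.Lib.L0.Tilde Cfsg.Agent.Lib.L0.BlockMinMax
open scoped ComplexConjugate

variable {G : Type*} [Group G] [Fintype G] {p : ℕ} [Fact p.Prime] {M : Ideal AlgInt}
  (H : Subgroup G) [Fintype H] [Fintype (IrrCharacter H)]

/-- The reduced degree `ξ(1) / p^e`, `e` the minimal exponent of `p` in the degrees of `b`. -/
noncomputable def rdeg (p : ℕ) (b : Set (IrrCharacter H)) (ξ : IrrCharacter H) : ℕ :=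
  charDegree (ξ : H → ℂ) / p ^ minDeg p b

omit [Fintype (IrrCharacter H)] in
theorem apply_one_eq_rdeg (hM : IsPModular p M) (ξ₁ : IrrCharacter H) {ξ : IrrCharacter H}
    (hξ : ξ ∈ blockOf M (ξ₁ : H → ℂ)) :
    (ξ : H → ℂ) 1 = (p : ℂ) ^ minDeg p (blockOf M (ξ₁ : H → ℂ)) *
      (rdeg H p (blockOf M (ξ₁ : H → ℂ)) ξ : ℂ) := by
  haveI hP := isPrime_of_isPModular hM
  have hp : p.Prime := Fact.out
  have hle := minDeg_le (p := p) ξ₁ hξ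
  have hdvd : p ^ minDeg p (blockOf M (ξ₁ : H → ℂ)) ∣ charDegree (ξ : H → ℂ) :=
    (pow_dvd_pow p hle).trans (Nat.ordProj_dvd _ p)
  rw [apply_one_eq_charDegree _ ξ.2, rdeg]
  have := Nat.mul_div_cancel' hdvd
  exact_mod_cast this.symm

/-- `θ_χ(1) / p^e`. -/
noncomputable def tC (p : ℕ) (b : Set (IrrCharacter H)) [DecidablePred (· ∈ b)] (χ : G → ℂ) : ℂ :=
  ∑ ξ : IrrCharacter H, (if ξ ∈ b then resMult H χ (ξ : H → ℂ) * (rdeg H p b ξ : ℂ) else 0)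

/-- The integral part of the contribution. -/
noncomputable def contribInt (p : ℕ) (b : Set (IrrCharacter H)) [DecidablePred (· ∈ b)]
    (χ ψ : G → ℂ) : ℂ :=
  ∑ ξ : IrrCharacter H, ∑ ξ' : IrrCharacter H, (if ξ ∈ b ∧ ξ' ∈ b then
    resMult H χ (ξ : H → ℂ) * resMult H ψ (ξ' : H → ℂ) *
      ((p : ℂ) ^ blockDefect p b * pin p (ξ : H → ℂ) (ξ' : H → ℂ)) else 0)

section

variable (ξ₁ : IrrCharacter H) [DecidablePred (· ∈ blockOf M (ξ₁ : H → ℂ))]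

theorem contribInt_int (hM : IsPModular p M) (χ ψ : IrrCharacter G) :
    ∃ N : ℤ, contribInt H p (blockOf M (ξ₁ : H → ℂ)) (χ : G → ℂ) (ψ : G → ℂ) = N := by
  classical
  unfold contribInt
  have h : ∀ ξ ξ' : IrrCharacter H, ∃ n : ℤ,
      (if ξ ∈ blockOf M (ξ₁ : H → ℂ) ∧ ξ' ∈ blockOf M (ξ₁ : H → ℂ) then
        resMult H (χ : G → ℂ) (ξ : H → ℂ) * resMult H (ψ : G → ℂ) (ξ' : H → ℂ) *
        ((p : ℂ) ^ blockDefect p (blockOf M (ξ₁ : H → ℂ)) *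
          pin p (ξ : H → ℂ) (ξ' : H → ℂ)) else 0) = n := by
    intro ξ ξ'
    split_ifs with h
    · obtain ⟨n1, h1⟩ := resMult_nat H χ ξ
      obtain ⟨n2, h2⟩ := resMult_nat H ψ ξ'
      obtain ⟨n3, h3⟩ := exists_int_pow_mul_pin hM ξ₁ (ξ' := ξ') h.1
      exact ⟨n1 * n2 * n3, by rw [h1, h2, h3]; push_cast; ring⟩
    · exact ⟨0, by simp⟩
  choose n hn using h
  refine ⟨∑ ξ : IrrCharacter H, ∑ ξ' : IrrCharacter H, n ξ ξ', ?_⟩
  push_cast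
  exact Finset.sum_congr rfl fun ξ _ => Finset.sum_congr rfl fun ξ' _ => hn ξ ξ'

/-- For `ξ ∈ b`: `pin ξ (χ|_H) = ∑_{ξ' ∈ b} a_χ(ξ') pin ξ ξ'`. -/
theorem pin_restrict (hM : IsPModular p M) {ξ : IrrCharacter H}
    (hξ : ξ ∈ blockOf M (ξ₁ : H → ℂ)) (χ : IrrCharacter G) :
    pin p (ξ : H → ℂ) (fun h : H => (χ : G → ℂ) h) =
      ∑ ξ' : IrrCharacter H, (if ξ' ∈ blockOf M (ξ₁ : H → ℂ) then
        resMult H (χ : G → ℂ) (ξ' : H → ℂ) * pin p (ξ : H → ℂ) (ξ' : H → ℂ) else 0) := by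
  have h := Cfsg.Agent.Lib.H24.classFunction_expansion (fun h : H => (χ : G → ℂ) h)
    (isClassFunction_restrict_irr H χ)
  conv_lhs => rw [h]
  rw [pin_sum_right]
  refine Finset.sum_congr rfl fun ξ' _ => ?_
  have : classInner (fun h : H => (χ : G → ℂ) h) (ξ' : H → ℂ) =
      resMult H (χ : G → ℂ) (ξ' : H → ℂ) := rfl
  rw [this, resMult_conj]
  split_ifs with h'
  · rfl
  · rw [pin_eq_zero_of_not_mem hM ξ₁ _ rfl hξ h', mul_zero]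

/-- `r_{ξ₀} ω_{ξ₀}(regElt (χ|_H)) = ∑_{ξ ∈ b} a_χ(ξ) r_ξ ω_ξ(regElt ξ₀)`. -/
theorem rdeg_mul_omega (hM : IsPModular p M) {ξ₀ : IrrCharacter H}
    (hξ₀ : ξ₀ ∈ blockOf M (ξ₁ : H → ℂ)) (χ : IrrCharacter G) :
    (rdeg H p (blockOf M (ξ₁ : H → ℂ)) ξ₀ : ℂ) *
        omega (ξ₀ : H → ℂ) (regElt p (fun h : H => (χ : G → ℂ) h)) =
      ∑ ξ : IrrCharacter H, (if ξ ∈ blockOf M (ξ₁ : H → ℂ) then
        resMult H (χ : G → ℂ) (ξ : H → ℂ) * (rdeg H p (blockOf M (ξ₁ : H → ℂ)) ξ : ℂ) *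
          omega (ξ : H → ℂ) (regElt p (ξ₀ : H → ℂ)) else 0) := by
  have hp : p.Prime := Fact.out
  have hp0 : (p : ℂ) ≠ 0 := Nat.cast_ne_zero.2 hp.ne_zero
  have hpe : (p : ℂ) ^ minDeg p (blockOf M (ξ₁ : H → ℂ)) ≠ 0 := pow_ne_zero _ hp0
  apply mul_left_cancel₀ hpe
  rw [← mul_assoc, ← apply_one_eq_rdeg H hM ξ₁ hξ₀, ← card_mul_pin hp, pin_restrict H ξ₁ hM hξ₀,
    Finset.mul_sum, Finset.mul_sum]
  refine Finset.sum_congr rfl fun ξ _ => ?_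
  split_ifs with hξ
  · rw [pin_symm_irr hp ξ₀ ξ]
    have h1 := card_mul_pin hp ξ (ξ₀ : H → ℂ)
    rw [apply_one_eq_rdeg H hM ξ₁ hξ] at h1
    linear_combination (resMult H (χ : G → ℂ) (ξ : H → ℂ)) * h1
  · rw [mul_zero, mul_zero]

/-- `m' p^d pin ξ (ψ|_H) = r_ξ ω_ξ(regElt (ψ|_H))` for `ξ ∈ b`. -/
theorem ordCompl_mul_pow_mul_pin (hM : IsPModular p M) {ξ : IrrCharacter H}
    (hξ : ξ ∈ blockOf M (ξ₁ : H → ℂ)) (f : H → ℂ) :
    ((Nat.card H / p ^ (Nat.card H).factorization p : ℕ) : ℂ) *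
        ((p : ℂ) ^ blockDefect p (blockOf M (ξ₁ : H → ℂ)) * pin p (ξ : H → ℂ) f) =
      (rdeg H p (blockOf M (ξ₁ : H → ℂ)) ξ : ℂ) * omega (ξ : H → ℂ) (regElt p f) := by
  haveI hP := isPrime_of_isPModular hM
  have hp : p.Prime := Fact.out
  have hp0 : (p : ℂ) ≠ 0 := Nat.cast_ne_zero.2 hp.ne_zero
  have hpe : (p : ℂ) ^ minDeg p (blockOf M (ξ₁ : H → ℂ)) ≠ 0 := pow_ne_zero _ hp0
  have h1 := minDeg_eq_sub_blockDefect (p := p) (M := M) ξ₁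
  have h2 := minDeg_le_card (p := p) (M := M) ξ₁
  have hd_le : blockDefect p (blockOf M (ξ₁ : H → ℂ)) ≤ (Nat.card H).factorization p := by
    rw [blockDefect]; omega
  have hae : (Nat.card H).factorization p =
      minDeg p (blockOf M (ξ₁ : H → ℂ)) + blockDefect p (blockOf M (ξ₁ : H → ℂ)) := by omega
  have hsplit := Nat.ordProj_mul_ordCompl_eq_self (Nat.card H) p
  have h3 : (Nat.card H : ℂ) = (p : ℂ) ^ minDeg p (blockOf M (ξ₁ : H → ℂ)) *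
      (p : ℂ) ^ blockDefect p (blockOf M (ξ₁ : H → ℂ)) *
      ((Nat.card H / p ^ (Nat.card H).factorization p : ℕ) : ℂ) := by
    rw [← pow_add, ← hae]
    exact_mod_cast hsplit.symm
  have h4 := card_mul_pin hp ξ f
  rw [apply_one_eq_rdeg H hM ξ₁ hξ, h3] at h4
  apply mul_left_cancel₀ hpe
  linear_combination h4

end

end Cfsg.Agent.Lib.H23.Contrib
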