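import Cfsg.Agent.Lib.H23.ContribF

/-!
# Non-vanishing modulo the local ideal (helper23)

`tC_not_memLocalIdeal`, `contribInt_not_memLocalIdeal`.
-/

set_option autoImplicit false

namespace Cfsg.Agent.Lib.H23.Contrib

open Cfsg MonoidAlgebra Cfsg.Agent.Lib.H23 Cfsg.Agent.Lib.H24 Cfsg.Agent.Lib.L0
  Cfsg.Agent.Lib.L0.Tilde Cfsg.Agent.Lib.L0.BlockMinMax
open scoped ComplexConjugate

variable {G : Type*} [Group G] [Fintype G] {p : ℕ} [Fact p.Prime] {M : Ideal AlgInt}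
  (H : Subgroup G) [Fintype H] [Fintype (IrrCharacter H)]
  (ξ₁ : IrrCharacter H) [DecidablePred (· ∈ blockOf M (ξ₁ : H → ℂ))]

omit [Fact p.Prime] in
theorem tC_memLocalRing [M.IsPrime] (χ : IrrCharacter G) :
    MemLocalRing M (tC H p (blockOf M (ξ₁ : H → ℂ)) (χ : G → ℂ)) := by
  unfold tC
  refine memLocalRing_sum _ _ fun ξ _ => ?_
  split_ifs
  · obtain ⟨n, hn⟩ := resMult_nat H χ ξ
    rw [hn]
    exact memLocalRing_mul (natCast_mem_localRing _) (natCast_mem_localRing _)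
  · exact memLocalRing_zero (Ideal.IsPrime.ne_top ‹_›)

/-- `ω_ξ(regElt (χ|_H)) ≡ ω_χ(regElt χ)` for `ξ ∈ b`, `χ ∈ B`. -/
theorem omega_regElt_restrict_sub (hM : IsPModular p M) {B : Set (IrrCharacter G)}
    (hind : IsInducedBlock M H (blockOf M (ξ₁ : H → ℂ)) B) {ξ : IrrCharacter H}
    (hξ : ξ ∈ blockOf M (ξ₁ : H → ℂ)) {χ : IrrCharacter G} (hχ : χ ∈ B) :
    MemLocalIdeal M (omega (ξ : H → ℂ) (regElt p (fun h : H => (χ : G → ℂ) h)) -
      omega (χ : G → ℂ) (regElt p (χ : G → ℂ))) := by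
  haveI hP := isPrime_of_isPModular hM
  have hzc : regElt p (χ : G → ℂ) ∈ Subalgebra.center ℂ (MonoidAlgebra ℂ G) :=
    regElt_mem_center p (irr_isClassFunction χ)
  have hzi : regElt p (χ : G → ℂ) ∈ intCoeff (G := G) M := regElt_mem_intCoeff p χ
  have h := omega_resAlg_sub_memLocalIdeal H hind hξ hχ hzc hzi
  rwa [resAlg_regElt] at h

theorem omega_regElt_self_not_mem (hM : IsPModular p M) {B : Set (IrrCharacter G)}
    (hB : IsPBlock M B) {χ : IrrCharacter G} (hχ : χ ∈ B)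
    (h0 : blockHeight p B (χ : G → ℂ) = 0) :
    ¬ MemLocalIdeal M (omega (χ : G → ℂ) (regElt p (χ : G → ℂ))) := by
  haveI hP := isPrime_of_isPModular hM
  obtain ⟨χ₁, hχ₁⟩ := hB
  have hBχ : B = blockOf M (χ : G → ℂ) := by
    rw [hχ₁]; rw [hχ₁] at hχ
    exact (blockOf_eq_of_mem hχ).symm
  apply omega_regElt_not_memLocalIdeal hM χ
  rw [← hBχ]; exact h0

/-- `θ_χ(1)/p^e` is prime to `p` for `χ ∈ B` of height zero. -/
theorem tC_not_memLocalIdeal (hM : IsPModular p M) {B : Set (IrrCharacter G)}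
    (hind : IsInducedBlock M H (blockOf M (ξ₁ : H → ℂ)) B) {χ : IrrCharacter G} (hχ : χ ∈ B)
    (h0 : blockHeight p B (χ : G → ℂ) = 0) :
    ¬ MemLocalIdeal M (tC H p (blockOf M (ξ₁ : H → ℂ)) (χ : G → ℂ)) := by
  classical
  haveI hP := isPrime_of_isPModular hM
  have hp : p.Prime := Fact.out
  intro htC
  obtain ⟨ξ₀, hξ₀b, hξ₀0⟩ := Cfsg.Agent.Lib.L0.BlockHeight.exists_height_zero (p := p) (M := M) ξ₁
  -- `r_{ξ₀}` is prime to `p`
  have hr0 : ¬ MemLocalIdeal M ((rdeg H p (blockOf M (ξ₁ : H → ℂ)) ξ₀ : ℕ) : ℂ) := by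
    rw [natCast_memLocalIdeal_iff hM]
    have hle := minDeg_le (p := p) ξ₁ hξ₀b
    have h1 : (charDegree (ξ₀ : H → ℂ)).factorization p -
        minDeg p (blockOf M (ξ₁ : H → ℂ)) = 0 := hξ₀0
    have h2 : minDeg p (blockOf M (ξ₁ : H → ℂ)) = (charDegree (ξ₀ : H → ℂ)).factorization p := by
      omega
    unfold rdeg
    rw [h2]
    exact Nat.not_dvd_ordCompl hp (charDegree_pos _ ξ₀.2).ne'
  -- `C_χ` is a unit
  have hC : ¬ MemLocalIdeal M (omega (ξ₀ : H → ℂ) (regElt p (fun h : H => (χ : G → ℂ) h))) := by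
    intro h
    apply omega_regElt_self_not_mem hM hind.2.1 hχ h0
    have := memLocalIdeal_sub h (omega_regElt_restrict_sub H ξ₁ hM hind hξ₀b hχ)
    rwa [sub_sub_cancel] at this
  have hzc₀ : regElt p (ξ₀ : H → ℂ) ∈ Subalgebra.center ℂ (MonoidAlgebra ℂ H) :=
    regElt_mem_center p (irr_isClassFunction ξ₀)
  have hzi₀ : regElt p (ξ₀ : H → ℂ) ∈ intCoeff (G := H) M := regElt_mem_intCoeff p ξ₀
  set c₀ := omega (ξ₀ : H → ℂ) (regElt p (ξ₀ : H → ℂ)) with hc₀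
  have hc₀R : MemLocalRing M c₀ := omega_memLocalRing ξ₀ hzc₀ hzi₀
  have hkey := rdeg_mul_omega H ξ₁ hM hξ₀b χ
  have hdiff : MemLocalIdeal M ((rdeg H p (blockOf M (ξ₁ : H → ℂ)) ξ₀ : ℂ) *
      omega (ξ₀ : H → ℂ) (regElt p (fun h : H => (χ : G → ℂ) h)) -
      c₀ * tC H p (blockOf M (ξ₁ : H → ℂ)) (χ : G → ℂ)) := by
    rw [hkey]
    unfold tC
    rw [Finset.mul_sum, ← Finset.sum_sub_distrib]
    refine memLocalIdeal_sum _ _ fun ξ _ => ?_
    split_ifs with hξ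
    · have h1 : resMult H (χ : G → ℂ) (ξ : H → ℂ) *
          (rdeg H p (blockOf M (ξ₁ : H → ℂ)) ξ : ℂ) * omega (ξ : H → ℂ) (regElt p (ξ₀ : H → ℂ)) -
          c₀ * (resMult H (χ : G → ℂ) (ξ : H → ℂ) * (rdeg H p (blockOf M (ξ₁ : H → ℂ)) ξ : ℂ)) =
          (resMult H (χ : G → ℂ) (ξ : H → ℂ) * (rdeg H p (blockOf M (ξ₁ : H → ℂ)) ξ : ℂ)) *
          (omega (ξ : H → ℂ) (regElt p (ξ₀ : H → ℂ)) - c₀) := by ring
      rw [h1]
      refine memLocalIdeal_mul_left ?_ ?_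
      · obtain ⟨n, hn⟩ := resMult_nat H χ ξ
        rw [hn]
        exact memLocalRing_mul (natCast_mem_localRing _) (natCast_mem_localRing _)
      · have hsame : SameBlock M (ξ : H → ℂ) (ξ₀ : H → ℂ) :=
          sameBlock_trans (sameBlock_symm hξ) hξ₀b
        exact omega_sub_memLocalIdeal hsame hzc₀ hzi₀
    · rw [mul_zero, sub_zero]
      exact memLocalIdeal_zero hP.ne_top
  have h2 : MemLocalIdeal M ((rdeg H p (blockOf M (ξ₁ : H → ℂ)) ξ₀ : ℂ) *
      omega (ξ₀ : H → ℂ) (regElt p (fun h : H => (χ : G → ℂ) h))) := by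
    have := memLocalIdeal_add hdiff (memLocalIdeal_mul_left hc₀R htC)
    rwa [sub_add_cancel] at this
  exact not_memLocalIdeal_mul (natCast_mem_localRing _) hr0 hC h2

/-- The integral part of a major contribution between height zero characters is prime to `p`. -/
theorem contribInt_not_memLocalIdeal (hM : IsPModular p M) {B : Set (IrrCharacter G)}
    (hind : IsInducedBlock M H (blockOf M (ξ₁ : H → ℂ)) B) {χ ψ : IrrCharacter G}
    (hχ : χ ∈ B) (hψ : ψ ∈ B)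
    (h0χ : blockHeight p B (χ : G → ℂ) = 0) (h0ψ : blockHeight p B (ψ : G → ℂ) = 0) :
    ¬ MemLocalIdeal M (contribInt H p (blockOf M (ξ₁ : H → ℂ)) (χ : G → ℂ) (ψ : G → ℂ)) := by
  classical
  haveI hP := isPrime_of_isPModular hM
  have hp : p.Prime := Fact.out
  intro hN
  set m' : ℕ := Nat.card H / p ^ (Nat.card H).factorization p with hm'
  set cψ := omega (ψ : G → ℂ) (regElt p (ψ : G → ℂ)) with hcψ
  have hcψR : MemLocalRing M cψ :=
    omega_memLocalRing ψ (regElt_mem_center p (irr_isClassFunction ψ)) (regElt_mem_intCoeff p ψ)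
  have hcψ' : ¬ MemLocalIdeal M cψ := omega_regElt_self_not_mem hM hind.2.1 hψ h0ψ
  -- `m' N = ∑ a r ω`
  have hkey : (m' : ℂ) * contribInt H p (blockOf M (ξ₁ : H → ℂ)) (χ : G → ℂ) (ψ : G → ℂ) =
      ∑ ξ : IrrCharacter H, (if ξ ∈ blockOf M (ξ₁ : H → ℂ) then
        resMult H (χ : G → ℂ) (ξ : H → ℂ) * (rdeg H p (blockOf M (ξ₁ : H → ℂ)) ξ : ℂ) *
          omega (ξ : H → ℂ) (regElt p (fun h : H => (ψ : G → ℂ) h)) else 0) := by
    unfold contribInt
    rw [Finset.mul_sum]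
    refine Finset.sum_congr rfl fun ξ _ => ?_
    by_cases hξ : ξ ∈ blockOf M (ξ₁ : H → ℂ)
    · rw [if_pos hξ, mul_assoc, ← ordCompl_mul_pow_mul_pin H ξ₁ hM hξ,
        pin_restrict H ξ₁ hM hξ ψ, Finset.mul_sum, Finset.mul_sum, Finset.mul_sum, Finset.mul_sum]
      refine Finset.sum_congr rfl fun ξ' _ => ?_
      by_cases hξ' : ξ' ∈ blockOf M (ξ₁ : H → ℂ)
      · rw [if_pos ⟨hξ, hξ'⟩, if_pos hξ']
        ring
      · rw [if_neg (fun h => hξ' h.2), if_neg hξ']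
        ring
    · rw [if_neg hξ, Finset.sum_eq_zero, mul_zero]
      intro ξ' _
      rw [if_neg (fun h => hξ h.1)]
  have hdiff : MemLocalIdeal M ((m' : ℂ) *
      contribInt H p (blockOf M (ξ₁ : H → ℂ)) (χ : G → ℂ) (ψ : G → ℂ) -
      cψ * tC H p (blockOf M (ξ₁ : H → ℂ)) (χ : G → ℂ)) := by
    rw [hkey]
    unfold tC
    rw [Finset.mul_sum, ← Finset.sum_sub_distrib]
    refine memLocalIdeal_sum _ _ fun ξ _ => ?_
    split_ifs with hξ
    · have h1 : resMult H (χ : G → ℂ) (ξ : H → ℂ) *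
          (rdeg H p (blockOf M (ξ₁ : H → ℂ)) ξ : ℂ) *
          omega (ξ : H → ℂ) (regElt p (fun h : H => (ψ : G → ℂ) h)) -
          cψ * (resMult H (χ : G → ℂ) (ξ : H → ℂ) * (rdeg H p (blockOf M (ξ₁ : H → ℂ)) ξ : ℂ)) =
          (resMult H (χ : G → ℂ) (ξ : H → ℂ) * (rdeg H p (blockOf M (ξ₁ : H → ℂ)) ξ : ℂ)) *
          (omega (ξ : H → ℂ) (regElt p (fun h : H => (ψ : G → ℂ) h)) - cψ) := by ring
      rw [h1]
      refine memLocalIdeal_mul_left ?_ ?_
      · obtain ⟨n, hn⟩ := resMult_nat H χ ξ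
        rw [hn]
        exact memLocalRing_mul (natCast_mem_localRing _) (natCast_mem_localRing _)
      · exact omega_regElt_restrict_sub H ξ₁ hM hind hξ hψ
    · rw [mul_zero, sub_zero]
      exact memLocalIdeal_zero hP.ne_top
  have h2 : MemLocalIdeal M (cψ * tC H p (blockOf M (ξ₁ : H → ℂ)) (χ : G → ℂ)) := by
    have h3 := memLocalIdeal_mul_left (natCast_mem_localRing (M := M) m') hN
    have := memLocalIdeal_sub h3 hdiff
    rwa [sub_sub_cancel] at this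
  exact not_memLocalIdeal_mul hcψR hcψ' (tC_not_memLocalIdeal H ξ₁ hM hind hχ h0χ) h2

end Cfsg.Agent.Lib.H23.Contrib
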