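import Cfsg.Agent.Lib.H23.ContribG
import Cfsg.Agent.Lib.H23.CentralChar
import Cfsg.Agent.Lib.L0.PRegCong

/-!
# Integrality and non-vanishing of `p^d ·` a major contribution (helper23)

* `lam_pow_eq_one`, `lam_isIntegral`: `λ_ξ(z) = ξ(z)/ξ(1)` is a root of unity of `p`-power order for a
  central `p`-element `z`;
* `lamW_sub_one_memLocalIdeal`;
* `isIntegral_pow_mul_contrib`, `pow_mul_contrib_ne_zero`.
-/

set_option autoImplicit false

namespace Cfsg.Agent.Lib.H23.Contrib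

open Cfsg MonoidAlgebra Cfsg.Agent.Lib.H23 Cfsg.Agent.Lib.H24 Cfsg.Agent.Lib.L0
  Cfsg.Agent.Lib.L0.Tilde Cfsg.Agent.Lib.L0.BlockMinMax
open scoped ComplexConjugate

section Lam

variable {K : Type*} [Group K] [Fintype K] {p : ℕ} {M : Ideal AlgInt}

theorem irr_central_pow (ξ : IrrCharacter K) {z : K} (hz : z ∈ Subgroup.center K) (n : ℕ) :
    (ξ : K → ℂ) (z ^ n) = ((ξ : K → ℂ) z / (ξ : K → ℂ) 1) ^ n * (ξ : K → ℂ) 1 := by
  induction n with
  | zero => rw [pow_zero, pow_zero, one_mul]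
  | succ n ih => rw [pow_succ', irr_central_mul ξ hz, ih, pow_succ']; ring

theorem lam_pow_eq_one (ξ : IrrCharacter K) {z : K} (hz : z ∈ Subgroup.center K) :
    ((ξ : K → ℂ) z / (ξ : K → ℂ) 1) ^ orderOf z = 1 := by
  have h := irr_central_pow ξ hz (orderOf z)
  rw [pow_orderOf_eq_one] at h
  have h0 : (ξ : K → ℂ) 1 ≠ 0 := irr_one_ne_zero ξ
  have h1 : (((ξ : K → ℂ) z / (ξ : K → ℂ) 1) ^ orderOf z - 1) * (ξ : K → ℂ) 1 = 0 := by
    rw [sub_mul, one_mul, ← h, sub_self]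
  rcases mul_eq_zero.1 h1 with h2 | h2
  · exact sub_eq_zero.1 h2
  · exact absurd h2 h0

theorem lam_isIntegral (ξ : IrrCharacter K) {z : K} (hz : z ∈ Subgroup.center K) :
    IsIntegral ℤ ((ξ : K → ℂ) z / (ξ : K → ℂ) 1) := by
  refine ⟨Polynomial.X ^ orderOf z - 1, Polynomial.monic_X_pow_sub_C 1 (orderOf_pos z).ne', ?_⟩
  simp [lam_pow_eq_one ξ hz]

end Lam

section Main

variable {G : Type*} [Group G] [Fintype G] {p : ℕ} [Fact p.Prime] {M : Ideal AlgInt}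
  (H : Subgroup G) [Fintype H] [Fintype (IrrCharacter H)]

omit [Fintype G] [Fact p.Prime] [Fintype (IrrCharacter H)] in
theorem lamW_isIntegral {z : H} (hzc : z ∈ Subgroup.center H) (ξ ξ' : IrrCharacter H) :
    IsIntegral ℤ (lamW H z ξ ξ') := by
  unfold lamW
  exact (lam_isIntegral ξ hzc).mul (isIntegral_conj (lam_isIntegral ξ' hzc))

omit [Fintype G] [Fact p.Prime] [Fintype (IrrCharacter H)] in
theorem lamW_sub_one_memLocalIdeal (hM : IsPModular p M) {z : H}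
    (hzc : z ∈ Subgroup.center H) (hz : ∃ k : ℕ, orderOf z = p ^ k) (ξ ξ' : IrrCharacter H) :
    MemLocalIdeal M (lamW H z ξ ξ' - 1) := by
  haveI hP := isPrime_of_isPModular hM
  obtain ⟨k, hk⟩ := hz
  set A : AlgInt := ⟨lamW H z ξ ξ', lamW_isIntegral H hzc ξ ξ'⟩ with hA
  have hpow : A ^ p ^ k = 1 := by
    apply Subtype.ext
    push_cast
    show (lamW H z ξ ξ') ^ p ^ k = 1
    unfold lamW
    rw [mul_pow, ← map_pow, ← hk, lam_pow_eq_one ξ hzc, lam_pow_eq_one ξ' hzc, map_one, one_mul]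
  have hmem : A - 1 ∈ M := by
    apply Cfsg.Agent.Lib.L0.PReg.mem_of_pow_sub_pow_mem hM k
    rw [hpow, one_pow, sub_self]
    exact M.zero_mem
  have := (memLocalIdeal_coe_iff (M := M) (A - 1)).2 hmem
  simpa [hA] using this

variable (ξ₁ : IrrCharacter H) [DecidablePred (· ∈ blockOf M (ξ₁ : H → ℂ))]
  [Fintype (IrrCharacter G)]

/-- `p^d · contrib χ ψ` as a sum of algebraic integers. -/
theorem pow_mul_contrib_eq (hM : IsPModular p M) {z : H} (hzc : z ∈ Subgroup.center H)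
    (χ ψ : IrrCharacter G) :
    (p : ℂ) ^ blockDefect p (blockOf M (ξ₁ : H → ℂ)) *
        contrib p H (blockOf M (ξ₁ : H → ℂ)) z (χ : G → ℂ) (ψ : G → ℂ) =
      ∑ ξ : IrrCharacter H, ∑ ξ' : IrrCharacter H,
        (if ξ ∈ blockOf M (ξ₁ : H → ℂ) ∧ ξ' ∈ blockOf M (ξ₁ : H → ℂ) then
          resMult H (χ : G → ℂ) (ξ : H → ℂ) * resMult H (ψ : G → ℂ) (ξ' : H → ℂ) *
            lamW H z ξ ξ' * ((p : ℂ) ^ blockDefect p (blockOf M (ξ₁ : H → ℂ)) *
              pin p (ξ : H → ℂ) (ξ' : H → ℂ)) else 0) := by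
  rw [contrib_eq_sum H _ z hM hzc ξ₁ rfl χ ψ, Finset.mul_sum]
  refine Finset.sum_congr rfl fun ξ _ => ?_
  rw [Finset.mul_sum]
  refine Finset.sum_congr rfl fun ξ' _ => ?_
  split_ifs
  · ring
  · rw [mul_zero]

theorem isIntegral_pow_mul_contrib (hM : IsPModular p M) {z : H} (hzc : z ∈ Subgroup.center H)
    (χ ψ : IrrCharacter G) :
    IsIntegral ℤ ((p : ℂ) ^ blockDefect p (blockOf M (ξ₁ : H → ℂ)) *
        contrib p H (blockOf M (ξ₁ : H → ℂ)) z (χ : G → ℂ) (ψ : G → ℂ)) := by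
  rw [pow_mul_contrib_eq H ξ₁ hM hzc χ ψ]
  refine IsIntegral.sum _ fun ξ _ => IsIntegral.sum _ fun ξ' _ => ?_
  split_ifs with h
  · obtain ⟨n1, h1⟩ := resMult_nat H χ ξ
    obtain ⟨n2, h2⟩ := resMult_nat H ψ ξ'
    obtain ⟨n3, h3⟩ := exists_int_pow_mul_pin hM ξ₁ (ξ' := ξ') h.1
    rw [h1, h2, h3]
    exact (((isIntegral_algebraMap (R := ℤ) (A := ℂ) (x := (n1 : ℤ))).mul
      (isIntegral_algebraMap (R := ℤ) (A := ℂ) (x := (n2 : ℤ)))).mul
      (lamW_isIntegral H hzc ξ ξ')).mul (isIntegral_algebraMap (R := ℤ) (A := ℂ) (x := n3))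
  · exact isIntegral_zero

theorem pow_mul_contrib_sub_contribInt (hM : IsPModular p M) {z : H}
    (hzc : z ∈ Subgroup.center H) (hz : ∃ k : ℕ, orderOf z = p ^ k) (χ ψ : IrrCharacter G) :
    MemLocalIdeal M ((p : ℂ) ^ blockDefect p (blockOf M (ξ₁ : H → ℂ)) *
        contrib p H (blockOf M (ξ₁ : H → ℂ)) z (χ : G → ℂ) (ψ : G → ℂ) -
      contribInt H p (blockOf M (ξ₁ : H → ℂ)) (χ : G → ℂ) (ψ : G → ℂ)) := by
  haveI hP := isPrime_of_isPModular hM
  rw [pow_mul_contrib_eq H ξ₁ hM hzc χ ψ]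
  unfold contribInt
  rw [← Finset.sum_sub_distrib]
  refine memLocalIdeal_sum _ _ fun ξ _ => ?_
  rw [← Finset.sum_sub_distrib]
  refine memLocalIdeal_sum _ _ fun ξ' _ => ?_
  split_ifs with h
  · obtain ⟨n1, h1⟩ := resMult_nat H χ ξ
    obtain ⟨n2, h2⟩ := resMult_nat H ψ ξ'
    obtain ⟨n3, h3⟩ := exists_int_pow_mul_pin hM ξ₁ (ξ' := ξ') h.1
    rw [h1, h2, h3]
    have e : (n1 : ℂ) * (n2 : ℂ) * lamW H z ξ ξ' * (n3 : ℂ) - (n1 : ℂ) * (n2 : ℂ) * (n3 : ℂ) =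
        ((n1 : ℂ) * (n2 : ℂ) * (n3 : ℂ)) * (lamW H z ξ ξ' - 1) := by ring
    rw [e]
    exact memLocalIdeal_mul_left (memLocalRing_mul (memLocalRing_mul (natCast_mem_localRing _)
      (natCast_mem_localRing _)) (intCast_mem_localRing _))
      (lamW_sub_one_memLocalIdeal H hM hzc hz ξ ξ')
  · rw [sub_zero]
    exact memLocalIdeal_zero hP.ne_top

/-- **Non-vanishing of major contributions** between height zero characters. -/
theorem pow_mul_contrib_ne_zero (hM : IsPModular p M) {B : Set (IrrCharacter G)}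
    (hind : IsInducedBlock M H (blockOf M (ξ₁ : H → ℂ)) B) {z : H}
    (hzc : z ∈ Subgroup.center H) (hz : ∃ k : ℕ, orderOf z = p ^ k) {χ ψ : IrrCharacter G}
    (hχ : χ ∈ B) (hψ : ψ ∈ B)
    (h0χ : blockHeight p B (χ : G → ℂ) = 0) (h0ψ : blockHeight p B (ψ : G → ℂ) = 0) :
    (p : ℂ) ^ blockDefect p (blockOf M (ξ₁ : H → ℂ)) *
        contrib p H (blockOf M (ξ₁ : H → ℂ)) z (χ : G → ℂ) (ψ : G → ℂ) ≠ 0 := by
  haveI hP := isPrime_of_isPModular hM
  intro h0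
  apply contribInt_not_memLocalIdeal H ξ₁ hM hind hχ hψ h0χ h0ψ
  have h := pow_mul_contrib_sub_contribInt H ξ₁ hM hzc hz χ ψ
  rw [h0, zero_sub] at h
  have := memLocalIdeal_neg h
  rwa [neg_neg] at this

end Main

end Cfsg.Agent.Lib.H23.Contrib
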