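import Cfsg.Agent.Lib.H23.ContribH
import Cfsg.Agent.Lib.H23.ContribI
import Cfsg.Agent.Lib.H23.BlockGalois

/-!
# Brauer's inequality `k(B)² ≤ p^{2d} l(b)` for a major subsection (helper23)
-/

set_option autoImplicit false

namespace Cfsg.Agent.Lib.H23.Contrib

open Cfsg MonoidAlgebra Cfsg.Agent.Lib.H23 Cfsg.Agent.Lib.H24 Cfsg.Agent.Lib.L0
open scoped ComplexConjugate

variable {G : Type*} [Group G] [Fintype G] {p : ℕ} [Fact p.Prime] {M : Ideal AlgInt}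

/-- For a fixed pair of height zero characters: the sum over the Galois conjugates. -/
theorem card_units_le_sum_contrib [Fintype (IrrCharacter G)] (hM : IsPModular p M)
    (H : Subgroup G) [Fintype H] [Fintype (IrrCharacter H)] (ξ₁ : IrrCharacter H)
    [DecidablePred (· ∈ blockOf M (ξ₁ : H → ℂ))] {B : Set (IrrCharacter G)}
    (hind : IsInducedBlock M H (blockOf M (ξ₁ : H → ℂ)) B) (y : H)
    (hyc : y ∈ Subgroup.center H) (hy : ∃ k : ℕ, orderOf y = p ^ k) {χ ψ : IrrCharacter G}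
    (hχ : χ ∈ B) (hψ : ψ ∈ B)
    (h0χ : blockHeight p B (χ : G → ℂ) = 0) (h0ψ : blockHeight p B (ψ : G → ℂ) = 0)
    (m : ℕ) [NeZero m] (hm : m = Nat.card G) :
    (Fintype.card (ZMod m)ˣ : ℝ) ≤ ∑ k : (ZMod m)ˣ,
      ‖(p : ℂ) ^ blockDefect p (blockOf M (ξ₁ : H → ℂ)) *
        contrib p H (blockOf M (ξ₁ : H → ℂ)) (y ^ (k : ZMod m).val) (χ : G → ℂ) (ψ : G → ℂ)‖ ^ 2 := by
  classical
  set d := blockDefect p (blockOf M (ξ₁ : H → ℂ)) with hd
  obtain ⟨x, hx⟩ := exists_cyc_contrib (p := p) H (blockOf M (ξ₁ : H → ℂ)) y hyc χ ψ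
    ((p ^ d : ℕ) : ℚ) m hm
  have hcast : (((p ^ d : ℕ) : ℚ) : ℂ) = (p : ℂ) ^ d := by push_cast; rfl
  simp only [hcast] at hx
  have hym : y ^ m = 1 := by
    rw [hm]
    obtain ⟨q, hq⟩ := Subgroup.card_subgroup_dvd_card H
    rw [hq, pow_mul, pow_card_eq_one', one_pow]
  -- the identity automorphism
  have h1 : cycEmb m x = (p : ℂ) ^ d *
      contrib p H (blockOf M (ξ₁ : H → ℂ)) y (χ : G → ℂ) (ψ : G → ℂ) := by
    have := hx 1
    rw [AlgEquiv.one_apply] at this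
    rw [this]
    have hk : (cycPow m (1 : Gal(CyclotomicField m ℚ/ℚ))) = 1 := by
      simp [cycPow]
    rw [hk, pow_val_one_eq m y hym]
  have hint : IsIntegral ℤ (cycEmb m x) := by
    rw [h1]
    exact isIntegral_pow_mul_contrib H ξ₁ hM hyc χ ψ
  have hne : cycEmb m x ≠ 0 := by
    rw [h1]
    exact pow_mul_contrib_ne_zero H ξ₁ hM hind hyc hy hχ hψ h0χ h0ψ
  obtain ⟨N, hN0, hN⟩ := exists_int_prod_galois m x hint hne
  have hsum : ∑ k : (ZMod m)ˣ,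
      ‖(p : ℂ) ^ d * contrib p H (blockOf M (ξ₁ : H → ℂ)) (y ^ (k : ZMod m).val)
        (χ : G → ℂ) (ψ : G → ℂ)‖ ^ 2 =
      ∑ σ : Gal(CyclotomicField m ℚ/ℚ), ‖cycEmb m (σ x)‖ ^ 2 := by
    symm
    refine Fintype.sum_equiv (cycGalEquiv m).toEquiv _ _ fun σ => ?_
    rw [hx σ]
    rfl
  rw [hsum]
  have hcard : Fintype.card (ZMod m)ˣ = Fintype.card Gal(CyclotomicField m ℚ/ℚ) :=
    (Fintype.card_congr (cycGalEquiv m).toEquiv).symm
  rw [hcard]
  apply card_le_sum_of_one_le_prod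
  · intro σ; positivity
  · rw [Finset.prod_pow, ← norm_prod, hN]
    have h2 : (1 : ℝ) ≤ ‖(N : ℂ)‖ := by
      rw [Complex.norm_intCast]
      exact_mod_cast Int.one_le_abs hN0
    nlinarith

end Cfsg.Agent.Lib.H23.Contrib
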