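import Cfsg.Agent.Lib.H23.ContribH

/-!
# The central element of a subsection (helper23)

For `H ≤ G`, `z ∈ H`, a block `b` of `H` and `χ ∈ Irr(G)`: the element
`secElt = ∑_g c(g) g` of the centre of the group algebra of `G`, with integral coefficients,
such that `charEval ψ secElt = |G| contrib χ ψ` for every `ψ ∈ Irr(G)`.
-/

set_option autoImplicit false

namespace Cfsg.Agent.Lib.H23.Contrib

open Cfsg MonoidAlgebra Cfsg.Agent.Lib.H23 Cfsg.Agent.Lib.H24 Cfsg.Agent.Lib.L0
open scoped ComplexConjugate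

variable {G : Type*} [Group G]

/-- The bijection `(G ⧸ H) × H ≃ G`, `(q, h) ↦ q.out * h`. -/
noncomputable def cosetEquiv (H : Subgroup G) : (G ⧸ H) × H ≃ G where
  toFun qh := qh.1.out * (qh.2 : G)
  invFun g := ((g : G ⧸ H), ⟨((g : G ⧸ H)).out⁻¹ * g, by
    rw [← QuotientGroup.eq, QuotientGroup.out_eq']⟩)
  left_inv := by
    rintro ⟨q, h⟩
    have h1 : ((q.out * (h : G) : G) : G ⧸ H) = q := by
      rw [← QuotientGroup.out_eq' q]
      conv_lhs => rw [QuotientGroup.out_eq' q]
      rw [QuotientGroup.eq]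
      simp
    ext
    · exact h1
    · simp only
      rw [h1]
      simp
  right_inv := by
    intro g
    simp

theorem cosetEquiv_apply (H : Subgroup G) (q : G ⧸ H) (h : H) :
    cosetEquiv H (q, h) = q.out * (h : G) := rfl

variable [Fintype G] {p : ℕ} {M : Ideal AlgInt}
  (H : Subgroup G) [Fintype H] [Fintype (IrrCharacter H)]
  (b : Set (IrrCharacter H)) (z : H)

/-- `bpart` is a class function on `H`. -/
theorem bpart_conj (χ : IrrCharacter G) (h u : H) :
    bpart H b (χ : G → ℂ) (h * u * h⁻¹) = bpart H b (χ : G → ℂ) u := by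
  classical
  haveI := Fintype.ofFinite (IrrCharacter G)
  rw [bpart_eq_sum, bpart_eq_sum]
  refine Finset.sum_congr rfl fun ξ _ => ?_
  split_ifs
  · rw [irr_conj ξ u h]
  · rfl

theorem bpart_isIntegral (χ : IrrCharacter G) (u : H) :
    IsIntegral ℤ (bpart H b (χ : G → ℂ) u) := by
  classical
  haveI := Fintype.ofFinite (IrrCharacter G)
  rw [bpart_eq_sum]
  refine IsIntegral.sum _ fun ξ _ => ?_
  split_ifs
  · obtain ⟨n, hn⟩ := resMult_nat H χ ξ
    rw [hn]
    exact (irr_isIntegral ξ u).mul (isIntegral_natCast n)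
  · exact isIntegral_zero

open Classical in
/-- The inner summand. -/
noncomputable def secF (p : ℕ) (χ : G → ℂ) (g x : G) : ℂ :=
  ∑ s : H, if ¬ p ∣ orderOf s ∧ x⁻¹ * g⁻¹ * x = ((z * s : H) : G) then bpart H b χ (z * s) else 0

/-- The coefficient function of the central element. -/
noncomputable def secCoeff (p : ℕ) (χ : G → ℂ) (g : G) : ℂ :=
  (Nat.card H : ℂ)⁻¹ * ∑ x : G, secF H b z p χ g x

/-- The central element of the subsection `(z, b)` attached to `χ`. -/
noncomputable def secElt (p : ℕ) (χ : G → ℂ) : MonoidAlgebra ℂ G :=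
  ofFun (secCoeff H b z p χ)

theorem secF_mul_right (hzc : z ∈ Subgroup.center H) (χ : IrrCharacter G) (g x : G) (h : H) :
    secF H b z p (χ : G → ℂ) g (x * (h : G)) = secF H b z p (χ : G → ℂ) g x := by
  classical
  unfold secF
  refine Fintype.sum_equiv (MulAut.conj h).toEquiv _ _ fun s => ?_
  have hord : orderOf ((MulAut.conj h) s) = orderOf s := (MulAut.conj h).orderOf_eq s
  have hzs : z * (MulAut.conj h) s = h * (z * s) * h⁻¹ := by
    rw [MulAut.conj_apply]
    have := Subgroup.mem_center_iff.1 hzc h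
    calc z * (h * s * h⁻¹) = (z * h) * s * h⁻¹ := by group
      _ = (h * z) * s * h⁻¹ := by rw [← this]
      _ = h * (z * s) * h⁻¹ := by group
  have hiff : ((x * (h : G))⁻¹ * g⁻¹ * (x * (h : G)) = ((z * s : H) : G)) ↔
      (x⁻¹ * g⁻¹ * x = ((z * (MulAut.conj h) s : H) : G)) := by
    rw [hzs]
    simp only [Subgroup.coe_mul, Subgroup.coe_inv, mul_inv_rev]
    constructor
    · intro hh
      calc x⁻¹ * g⁻¹ * x = (h : G) * (((h : G)⁻¹ * x⁻¹) * g⁻¹ * (x * (h : G))) * (h : G)⁻¹ := by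
            group
        _ = _ := by rw [hh]
    · intro hh
      calc (h : G)⁻¹ * x⁻¹ * g⁻¹ * (x * (h : G)) = (h : G)⁻¹ * (x⁻¹ * g⁻¹ * x) * (h : G) := by
            group
        _ = _ := by rw [hh]; group
  simp only [MulEquiv.toEquiv_eq_coe, MulEquiv.coe_toEquiv]
  rw [hord]
  by_cases hc : ¬ p ∣ orderOf s ∧ (x * (h : G))⁻¹ * g⁻¹ * (x * (h : G)) = ((z * s : H) : G)
  · rw [if_pos hc, if_pos ⟨hc.1, hiff.1 hc.2⟩, hzs, bpart_conj]
  · rw [if_neg hc, if_neg (fun hh => hc ⟨hh.1, hiff.2 hh.2⟩)]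

theorem secCoeff_eq_sum_quot [Fintype (G ⧸ H)] (hzc : z ∈ Subgroup.center H) (χ : IrrCharacter G)
    (g : G) :
    secCoeff H b z p (χ : G → ℂ) g = ∑ q : G ⧸ H, secF H b z p (χ : G → ℂ) g q.out := by
  classical
  have hH0 : (Nat.card H : ℂ) ≠ 0 := Nat.cast_ne_zero.2 Nat.card_pos.ne'
  unfold secCoeff
  rw [← (cosetEquiv H).sum_comp, Fintype.sum_prod_type]
  simp only [cosetEquiv_apply, secF_mul_right H b z hzc]
  rw [Finset.mul_sum]
  refine Finset.sum_congr rfl fun q _ => ?_
  rw [Finset.sum_const, Finset.card_univ, nsmul_eq_mul, ← Nat.card_eq_fintype_card, ← mul_assoc,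
    inv_mul_cancel₀ hH0, one_mul]

theorem secF_isIntegral (χ : IrrCharacter G) (g x : G) :
    IsIntegral ℤ (secF H b z p (χ : G → ℂ) g x) := by
  classical
  unfold secF
  refine IsIntegral.sum _ fun s _ => ?_
  split_ifs
  · exact bpart_isIntegral H b χ _
  · exact isIntegral_zero

theorem secCoeff_isIntegral (hzc : z ∈ Subgroup.center H) (χ : IrrCharacter G) (g : G) :
    IsIntegral ℤ (secCoeff H b z p (χ : G → ℂ) g) := by
  classical
  haveI := Fintype.ofFinite (G ⧸ H)
  rw [secCoeff_eq_sum_quot H b z hzc]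
  exact IsIntegral.sum _ fun q _ => secF_isIntegral H b z χ g _

theorem secElt_mem_intCoeff [M.IsPrime] (hzc : z ∈ Subgroup.center H) (χ : IrrCharacter G) :
    secElt H b z p (χ : G → ℂ) ∈ intCoeff (G := G) M := by
  intro g
  simp only [secElt, coeff_ofFun]
  exact isIntegral_mem_localRing (secCoeff_isIntegral H b z hzc χ g)

omit [Fintype (IrrCharacter ↥H)] in
theorem secElt_mem_center (χ : G → ℂ) :
    secElt H b z p χ ∈ Subalgebra.center ℂ (MonoidAlgebra ℂ G) := by
  classical
  refine mem_center_of_classFunction fun g y => ?_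
  simp only [secElt, coeff_ofFun, secCoeff]
  congr 1
  refine Fintype.sum_equiv (Equiv.mulLeft y⁻¹) _ _ fun x => ?_
  unfold secF
  refine Finset.sum_congr rfl fun s _ => ?_
  have : x⁻¹ * (y * g * y⁻¹)⁻¹ * x = ((Equiv.mulLeft y⁻¹) x)⁻¹ * g⁻¹ * ((Equiv.mulLeft y⁻¹) x) := by
    simp only [Equiv.coe_mulLeft]
    group
  rw [this]

omit [Fintype (IrrCharacter ↥H)] in
/-- The character values of the central element are the contributions. -/
theorem charEval_secElt (χ : G → ℂ) (ψ : IrrCharacter G) :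
    charEval (ψ : G → ℂ) (secElt H b z p χ) =
      (Nat.card G : ℂ) * contrib p H b z χ (ψ : G → ℂ) := by
  classical
  rw [secElt, charEval_ofFun]
  unfold secCoeff secF contrib
  simp only [Finset.mul_sum, Finset.sum_mul]
  rw [Finset.sum_comm]
  -- now: ∑ x, ∑ g, ...
  have hx : ∀ x : G, ∑ g : G, ∑ s : H, (Nat.card H : ℂ)⁻¹ *
      (if ¬ p ∣ orderOf s ∧ x⁻¹ * g⁻¹ * x = ((z * s : H) : G) then bpart H b χ (z * s) else 0) *
        (ψ : G → ℂ) g =
      ∑ s : H, (Nat.card H : ℂ)⁻¹ * (if p ∣ orderOf s then 0 else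
        bpart H b χ (z * s) * conj ((ψ : G → ℂ) ((z * s : H) : G))) := by
    intro x
    rw [Finset.sum_comm]
    refine Finset.sum_congr rfl fun s _ => ?_
    by_cases hs : p ∣ orderOf s
    · rw [if_pos hs, mul_zero]
      refine Finset.sum_eq_zero fun g _ => ?_
      rw [if_neg (fun h => h.1 hs), mul_zero, zero_mul]
    · rw [if_neg hs]
      rw [Finset.sum_eq_single (x * ((z * s : H) : G)⁻¹ * x⁻¹)]
      · rw [if_pos ⟨hs, by group⟩]
        have h1 : (ψ : G → ℂ) (x * ((z * s : H) : G)⁻¹ * x⁻¹) =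
            conj ((ψ : G → ℂ) ((z * s : H) : G)) := by
          rw [irr_conj, irr_inv]
        rw [h1]
        ring
      · intro g _ hg
        rw [if_neg, mul_zero, zero_mul]
        rintro ⟨-, h2⟩
        apply hg
        have : g⁻¹ = x * ((z * s : H) : G) * x⁻¹ := by rw [← h2]; group
        rw [← inv_inv g, this]
        group
      · intro h; exact absurd (Finset.mem_univ _) h
  rw [Finset.sum_congr rfl fun x _ => hx x]
  rw [Finset.sum_const, Finset.card_univ, nsmul_eq_mul, ← Nat.card_eq_fintype_card, Finset.mul_sum]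

end Cfsg.Agent.Lib.H23.Contrib
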