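import Cfsg.Agent.Lib.H23.ContribP
import Cfsg.Agent.Lib.H23.BlockEquiv

/-!
# Conjugation invariance of the contributions (helper23)

For `ε : K ≃* K'` induced by conjugation with `g ∈ G`:
`contrib p K' (ε β) (ε z) χ ψ = contrib p K β z χ ψ`.
-/

set_option autoImplicit false

namespace Cfsg.Agent.Lib.H23.Contrib

open Cfsg MonoidAlgebra Cfsg.Agent.Lib.H23 Cfsg.Agent.Lib.H24 Cfsg.Agent.Lib.L0
open scoped ComplexConjugate

variable {G : Type*} [Group G] {p : ℕ} {M : Ideal AlgInt}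
  (K K' : Subgroup G) [Fintype K] [Fintype K'] (ε : K ≃* K')

theorem blockCoeff_transport (ξ₀ : IrrCharacter K) (k : K) :
    blockCoeff (blockOf M ((irrEquiv ε).symm ξ₀ : K' → ℂ)) (ε k) =
      blockCoeff (blockOf M (ξ₀ : K → ℂ)) k := by
  classical
  haveI := Fintype.ofFinite (IrrCharacter K)
  haveI := Fintype.ofFinite (IrrCharacter K')
  rw [blockCoeff_eq_sum, blockCoeff_eq_sum]
  have hcard : Nat.card K' = Nat.card K := (Nat.card_congr ε.toEquiv).symm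
  rw [hcard]
  congr 1
  refine Fintype.sum_equiv (irrEquiv ε) _ _ fun ξ' => ?_
  have hiff : ξ' ∈ blockOf M ((irrEquiv ε).symm ξ₀ : K' → ℂ) ↔
      irrEquiv ε ξ' ∈ blockOf M (ξ₀ : K → ℂ) := by
    have := irrEquiv_mem_blockOf_iff (M := M) ε ((irrEquiv ε).symm ξ₀) ξ'
    rw [Equiv.apply_symm_apply] at this
    exact this.symm
  by_cases h : ξ' ∈ blockOf M ((irrEquiv ε).symm ξ₀ : K' → ℂ)
  · rw [if_pos h, if_pos (hiff.1 h), irrEquiv_apply, irrEquiv_apply, map_one]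
  · rw [if_neg h, if_neg (fun hh => h (hiff.2 hh))]

theorem bpart_transport (g : G) (hε : ∀ x : K, ((ε x : K') : G) = g * (x : G) * g⁻¹)
    (ξ₀ : IrrCharacter K) (χ : IrrCharacter G) (u : K) :
    bpart K' (blockOf M ((irrEquiv ε).symm ξ₀ : K' → ℂ)) (χ : G → ℂ) (ε u) =
      bpart K (blockOf M (ξ₀ : K → ℂ)) (χ : G → ℂ) u := by
  unfold bpart
  symm
  refine Fintype.sum_equiv ε.toEquiv _ _ fun k => ?_
  simp only [MulEquiv.toEquiv_eq_coe, MulEquiv.coe_toEquiv]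
  rw [blockCoeff_transport K K' ε ξ₀ k, hε, hε]
  congr 1
  have : g * (k : G) * g⁻¹ * (g * (u : G) * g⁻¹) = g * ((k : G) * (u : G)) * g⁻¹ := by group
  rw [this, irr_conj]

theorem contrib_transport (g : G) (hε : ∀ x : K, ((ε x : K') : G) = g * (x : G) * g⁻¹)
    (ξ₀ : IrrCharacter K) (z : K) (χ ψ : IrrCharacter G) :
    contrib p K' (blockOf M ((irrEquiv ε).symm ξ₀ : K' → ℂ)) (ε z) (χ : G → ℂ) (ψ : G → ℂ) =
      contrib p K (blockOf M (ξ₀ : K → ℂ)) z (χ : G → ℂ) (ψ : G → ℂ) := by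
  unfold contrib
  have hcard : Nat.card K' = Nat.card K := (Nat.card_congr ε.toEquiv).symm
  rw [hcard]
  congr 1
  symm
  refine Fintype.sum_equiv ε.toEquiv _ _ fun s => ?_
  simp only [MulEquiv.toEquiv_eq_coe, MulEquiv.coe_toEquiv]
  have hord : orderOf (ε s) = orderOf s := ε.orderOf_eq s
  rw [hord]
  split_ifs
  · rfl
  · rw [← map_mul, bpart_transport K K' ε g hε ξ₀ χ, hε, irr_conj]

end Cfsg.Agent.Lib.H23.Contrib
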