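import Cfsg.Agent.Lib.H23.ContribR
import Cfsg.Agent.Lib.H23.BlockBrauerHom
import Cfsg.Agent.Lib.H23.BlockVanishP

/-!
# The block of an overgroup of `D C_G(D)` induced by a root (helper23)

`D` a `p`-subgroup of `G`, `H = D C_G(D)`, `θ₀ ∈ Irr(H)`, `K` a subgroup of `G` containing `H`:
* `exists_indIrr`: the block of `θ₀` induces a block of `K`;
* `indIrr`: a character in that block.
-/

set_option autoImplicit false

namespace Cfsg.Agent.Lib.H23.Contrib

open Cfsg MonoidAlgebra Cfsg.Agent.Lib.H23 Cfsg.Agent.Lib.H24 Cfsg.Agent.Lib.L0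
open scoped ComplexConjugate

variable {G : Type*} [Group G] {p : ℕ} {M : Ideal AlgInt} (D H K : Subgroup G)

section Basic

theorem le_of_eq_sup (hH : H = D ⊔ Subgroup.centralizer (D : Set G)) : D ≤ H :=
  hH ▸ le_sup_left

theorem centralizer_le_of_eq_sup (hH : H = D ⊔ Subgroup.centralizer (D : Set G)) :
    Subgroup.centralizer (D : Set G) ≤ H :=
  hH ▸ le_sup_right

theorem le_normalizer_of_eq_sup (hH : H = D ⊔ Subgroup.centralizer (D : Set G)) :
    H ≤ Subgroup.normalizer (D : Set G) :=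
  hH ▸ sup_le Subgroup.le_normalizer (Subgroup.centralizer_le_normalizer _)

/-- The normalizer of `D` normalizes `D C_G(D)`. -/
theorem conj_mem_of_mem_normalizer (hH : H = D ⊔ Subgroup.centralizer (D : Set G)) {n : G}
    (hn : n ∈ Subgroup.normalizer (D : Set G)) {x : G} (hx : x ∈ H) : n * x * n⁻¹ ∈ H := by
  subst hH
  have h1 : (D ⊔ Subgroup.centralizer (D : Set G)).map (MulAut.conj n).toMonoidHom ≤
      D ⊔ Subgroup.centralizer (D : Set G) := by
    rw [Subgroup.map_sup]
    apply sup_le_sup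
    · rintro _ ⟨y, hy, rfl⟩
      exact (Subgroup.mem_normalizer_iff.1 hn y).1 hy
    · rintro _ ⟨c, hc, rfl⟩
      rw [Subgroup.mem_centralizer_iff]
      intro y hy
      have hy' : n⁻¹ * y * n ∈ D := by
        have := (Subgroup.mem_normalizer_iff.1 (Subgroup.inv_mem _ hn) y).1 hy
        simpa using this
      have h2 := Subgroup.mem_centralizer_iff.1 hc _ hy'
      simp only [MulEquiv.coe_toMonoidHom, MulAut.conj_apply]
      calc y * (n * c * n⁻¹) = n * ((n⁻¹ * y * n) * c) * n⁻¹ := by group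
        _ = n * (c * (n⁻¹ * y * n)) * n⁻¹ := by rw [h2]
        _ = n * c * n⁻¹ * y := by group
  exact h1 ⟨x, hx, by simp⟩

/-- In `K ≥ H`: the centralizer of `D` lies in `H`. -/
theorem centralizer_subgroupOf_le (hH : H = D ⊔ Subgroup.centralizer (D : Set G)) (hDK : D ≤ K) :
    Subgroup.centralizer ((D.subgroupOf K : Subgroup K) : Set K) ≤ H.subgroupOf K := by
  intro x hx
  rw [Subgroup.mem_subgroupOf]
  apply centralizer_le_of_eq_sup D H hH
  rw [Subgroup.mem_centralizer_iff]
  intro y hy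
  have h1 := Subgroup.mem_centralizer_iff.1 hx ⟨y, hDK hy⟩ (Subgroup.mem_subgroupOf.2 hy)
  exact congrArg Subtype.val h1

theorem subgroupOf_le_normalizer (hH : H = D ⊔ Subgroup.centralizer (D : Set G)) :
    H.subgroupOf K ≤ Subgroup.normalizer ((D.subgroupOf K : Subgroup K) : Set K) := by
  intro x hx
  rw [Subgroup.mem_subgroupOf] at hx
  have hn := le_normalizer_of_eq_sup D H hH hx
  rw [Subgroup.mem_normalizer_iff]
  intro y
  rw [Subgroup.mem_subgroupOf, Subgroup.mem_subgroupOf]
  have := Subgroup.mem_normalizer_iff.1 hn (y : G)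
  simpa using this

end Basic

section Ind

variable [Fintype G] [Fact p.Prime]

/-- Every block of `H = D C_G(D)` induces a block of any `K ≥ H`. -/
theorem exists_indIrr (hM : IsPModular p M) (hD : IsPGroup p D)
    (hH : H = D ⊔ Subgroup.centralizer (D : Set G)) (hHK : H ≤ K) (θ₀ : IrrCharacter H) :
    ∃ ζ : IrrCharacter K, IsInducedBlock M (H.subgroupOf K)
      (blockOf M (irrEquiv (Subgroup.subgroupOfEquivOfLe hHK) θ₀ : ↥(H.subgroupOf K) → ℂ))
      (blockOf M (ζ : K → ℂ)) := by
  classical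
  haveI hPr := isPrime_of_isPModular hM
  haveI : Fintype K := Fintype.ofFinite K
  haveI : Fintype ↥(H.subgroupOf K) := Fintype.ofFinite _
  have hDK : D ≤ K := (le_of_eq_sup D H hH).trans hHK
  exact exists_isInducedBlock (D.subgroupOf K) (H.subgroupOf K) hM hD.comap_subtype
    (Subgroup.subgroupOf_mono K (le_of_eq_sup D H hH))
    (centralizer_subgroupOf_le D H K hH hDK) (subgroupOf_le_normalizer D H K hH) _

end Ind

/-- A character of the block of `K` induced by the block of `θ₀`. -/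
noncomputable def indIrr (M : Ideal AlgInt) (H K : Subgroup G) (θ₀ : IrrCharacter H) :
    IrrCharacter K :=
  open Classical in
  if h : ∃ (hHK : H ≤ K) (ζ : IrrCharacter K), IsInducedBlock M (H.subgroupOf K)
      (blockOf M (irrEquiv (Subgroup.subgroupOfEquivOfLe hHK) θ₀ : ↥(H.subgroupOf K) → ℂ))
      (blockOf M (ζ : K → ℂ)) then h.choose_spec.choose else trivialIrr K

theorem indIrr_spec (hHK : H ≤ K) (θ₀ : IrrCharacter H)
    (hex : ∃ ζ : IrrCharacter K, IsInducedBlock M (H.subgroupOf K)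
      (blockOf M (irrEquiv (Subgroup.subgroupOfEquivOfLe hHK) θ₀ : ↥(H.subgroupOf K) → ℂ))
      (blockOf M (ζ : K → ℂ))) :
    IsInducedBlock M (H.subgroupOf K)
      (blockOf M (irrEquiv (Subgroup.subgroupOfEquivOfLe hHK) θ₀ : ↥(H.subgroupOf K) → ℂ))
      (blockOf M (indIrr M H K θ₀ : K → ℂ)) := by
  have h : ∃ (hHK : H ≤ K) (ζ : IrrCharacter K), IsInducedBlock M (H.subgroupOf K)
      (blockOf M (irrEquiv (Subgroup.subgroupOfEquivOfLe hHK) θ₀ : ↥(H.subgroupOf K) → ℂ))
      (blockOf M (ζ : K → ℂ)) := ⟨hHK, hex⟩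
  unfold indIrr
  rw [dif_pos h]
  exact h.choose_spec.choose_spec

end Cfsg.Agent.Lib.H23.Contrib
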