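import Cfsg.Agent.Lib.H23.ContribS
import Cfsg.Agent.Lib.H23.BlockNormalizer

/-!
# Major subsections attached to the centre of a defect group (helper23)

`D` a defect group of `B = blockOf χ₁`, `H = D C_G(D)`, `θ₀ ∈ Irr(H)` with `blockOf θ₀` inducing `B`,
`z ∈ Z(D)`, `K = C_G(z)`, `ζ = indIrr M H K θ₀`:
* `RootHyp.induced_sub`, `RootHyp.induced`: `blockOf θ₀` induces `blockOf ζ`, which induces `B`;
* `RootHyp.blockDefect_eq`: `blockOf ζ` has the defect of `B`;
* `RootHyp.isDefectGroup_sub`: `D` is a defect group of `blockOf ζ`.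
-/

set_option autoImplicit false

namespace Cfsg.Agent.Lib.H23.Contrib

open Cfsg MonoidAlgebra Cfsg.Agent.Lib.H23 Cfsg.Agent.Lib.H24 Cfsg.Agent.Lib.L0
open scoped ComplexConjugate

variable {G : Type*} [Group G] [Fintype G] {p : ℕ} [Fact p.Prime] {M : Ideal AlgInt}
  {D H : Subgroup G} {θ₀ : IrrCharacter H} {χ₁ : IrrCharacter G}

/-- The standing hypotheses. -/
structure RootHyp (p : ℕ) (M : Ideal AlgInt) (D H : Subgroup G) (θ₀ : IrrCharacter H)
    (χ₁ : IrrCharacter G) : Prop where
  hM : IsPModular p M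
  hH : H = D ⊔ Subgroup.centralizer (D : Set G)
  hD : IsDefectGroup p M (blockOf M (χ₁ : G → ℂ)) D
  hind : IsInducedBlock M H (blockOf M (θ₀ : H → ℂ)) (blockOf M (χ₁ : G → ℂ))

/-- `z` lies in the centre of `D`. -/
def InCenter (D : Subgroup G) (z : G) : Prop := z ∈ D ∧ ∀ x ∈ D, x * z = z * x

omit [Fintype G] [Fact p.Prime] in
theorem InCenter.le_centralizer {z : G} (hz : InCenter D z)
    (hH : H = D ⊔ Subgroup.centralizer (D : Set G)) :
    H ≤ Subgroup.centralizer ({z} : Set G) := by
  subst hH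
  apply sup_le
  · intro x hx
    rw [Subgroup.mem_centralizer_singleton_iff]
    exact hz.2 x hx
  · intro x hx
    rw [Subgroup.mem_centralizer_singleton_iff]
    exact (Subgroup.mem_centralizer_iff.1 hx z hz.1).symm

namespace RootHyp

variable (R : RootHyp p M D H θ₀ χ₁)
include R

theorem isPGroup : IsPGroup p D := isPGroup_of_isDefectGroup R.hD

theorem card_eq : Nat.card D = p ^ blockDefect p (blockOf M (χ₁ : G → ℂ)) :=
  card_defectGroup R.hM χ₁ D R.hD

theorem orderOf_eq {z : G} (hz : InCenter D z) : ∃ k : ℕ, orderOf z = p ^ k := by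
  obtain ⟨k, hk⟩ := R.isPGroup ⟨z, hz.1⟩
  have h1 : z ^ p ^ k = 1 := by
    have := congrArg Subtype.val hk
    simpa using this
  have hp : p.Prime := Fact.out
  obtain ⟨k', -, hk'⟩ := (Nat.dvd_prime_pow hp).1 (orderOf_dvd_of_pow_eq_one h1)
  exact ⟨k', hk'⟩

/-- `blockOf θ₀` induces `blockOf ζ` in `K = C_G(z)`. -/
theorem induced_sub {z : G} (hz : InCenter D z) :
    IsInducedBlock M (H.subgroupOf (Subgroup.centralizer ({z} : Set G)))
      (blockOf M (irrEquiv (Subgroup.subgroupOfEquivOfLe (hz.le_centralizer R.hH)) θ₀ :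
        ↥(H.subgroupOf (Subgroup.centralizer ({z} : Set G))) → ℂ))
      (blockOf M (indIrr M H (Subgroup.centralizer ({z} : Set G)) θ₀ :
        ↥(Subgroup.centralizer ({z} : Set G)) → ℂ)) :=
  indIrr_spec H _ (hz.le_centralizer R.hH) θ₀
    (exists_indIrr D H _ R.hM R.isPGroup R.hH (hz.le_centralizer R.hH) θ₀)

/-- `blockOf ζ` induces `B`. -/
theorem induced {z : G} (hz : InCenter D z) :
    IsInducedBlock M (Subgroup.centralizer ({z} : Set G))
      (blockOf M (indIrr M H (Subgroup.centralizer ({z} : Set G)) θ₀ :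
        ↥(Subgroup.centralizer ({z} : Set G)) → ℂ)) (blockOf M (χ₁ : G → ℂ)) := by
  classical
  haveI hPr := isPrime_of_isPModular R.hM
  haveI : Fintype ↥(Subgroup.centralizer ({z} : Set G)) := Fintype.ofFinite _
  haveI : Fintype H := Fintype.ofFinite _
  haveI : Fintype ↥(H.subgroupOf (Subgroup.centralizer ({z} : Set G))) := Fintype.ofFinite _
  obtain ⟨χ₂, hχ₂⟩ := exists_isInducedBlock_centralizer R.hM (R.orderOf_eq hz)
    (indIrr M H (Subgroup.centralizer ({z} : Set G)) θ₀)
  have h1 := isInducedBlock_trans H _ (hz.le_centralizer R.hH) θ₀ _ χ₂ (R.induced_sub hz) hχ₂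
  have h2 : blockOf M (χ₁ : G → ℂ) = blockOf M (χ₂ : G → ℂ) := isInducedBlock_unique H R.hind h1
  rw [h2]
  exact hχ₂

/-- `blockOf ζ` has the defect of `B`. -/
theorem blockDefect_eq {z : G} (hz : InCenter D z) :
    blockDefect p (blockOf M (indIrr M H (Subgroup.centralizer ({z} : Set G)) θ₀ :
      ↥(Subgroup.centralizer ({z} : Set G)) → ℂ)) = blockDefect p (blockOf M (χ₁ : G → ℂ)) := by
  classical
  haveI hPr := isPrime_of_isPModular R.hM
  haveI : Fintype ↥(Subgroup.centralizer ({z} : Set G)) := Fintype.ofFinite _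
  haveI : Fintype ↥(H.subgroupOf (Subgroup.centralizer ({z} : Set G))) := Fintype.ofFinite _
  set K := Subgroup.centralizer ({z} : Set G) with hK
  have hHK : H ≤ K := hz.le_centralizer R.hH
  have hDH : D ≤ H := le_of_eq_sup D H R.hH
  apply le_antisymm
  · exact blockDefect_le_of_induced K R.hM (R.induced hz)
  · refine le_trans ?_ (blockDefect_le_of_induced (H.subgroupOf K) R.hM (R.induced_sub hz))
    haveI hn : ((D.subgroupOf K).subgroupOf (H.subgroupOf K)).Normal :=
      Subgroup.normal_subgroupOf_of_le_normalizer (subgroupOf_le_normalizer D H K R.hH)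
    refine le_blockDefect_of_normal (H.subgroupOf K) R.hM _ ((D.subgroupOf K).subgroupOf (H.subgroupOf K))
      (R.isPGroup.comap_subtype.comap_subtype) ?_
    have h1 : Nat.card ↥((D.subgroupOf K).subgroupOf (H.subgroupOf K)) =
        Nat.card ↥(D.subgroupOf K) :=
      Nat.card_congr (Subgroup.subgroupOfEquivOfLe (Subgroup.subgroupOf_mono K hDH)).toEquiv
    have h2 : Nat.card ↥(D.subgroupOf K) = Nat.card D :=
      Nat.card_congr (Subgroup.subgroupOfEquivOfLe (hDH.trans hHK)).toEquiv
    rw [h1, h2, R.card_eq]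

/-- `D` is a defect group of `blockOf ζ`. -/
theorem isDefectGroup_sub {z : G} (hz : InCenter D z) :
    IsDefectGroup p M (blockOf M (indIrr M H (Subgroup.centralizer ({z} : Set G)) θ₀ :
      ↥(Subgroup.centralizer ({z} : Set G)) → ℂ))
      (D.subgroupOf (Subgroup.centralizer ({z} : Set G))) := by
  classical
  haveI : Fintype ↥(Subgroup.centralizer ({z} : Set G)) := Fintype.ofFinite _
  haveI : Fintype ↥(H.subgroupOf (Subgroup.centralizer ({z} : Set G))) := Fintype.ofFinite _
  set K := Subgroup.centralizer ({z} : Set G) with hK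
  have hHK : H ≤ K := hz.le_centralizer R.hH
  have hDH : D ≤ H := le_of_eq_sup D H R.hH
  refine isDefectGroup_of_root (H.subgroupOf K) R.hM (D.subgroupOf K)
    (Subgroup.subgroupOf_mono K hDH) (subgroupOf_le_normalizer D H K R.hH)
    R.isPGroup.comap_subtype (R.induced_sub hz) ?_
  have h2 : Nat.card ↥(D.subgroupOf K) = Nat.card D :=
    Nat.card_congr (Subgroup.subgroupOfEquivOfLe (hDH.trans hHK)).toEquiv
  rw [h2, R.card_eq, R.blockDefect_eq hz]

end RootHyp

end Cfsg.Agent.Lib.H23.Contrib
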