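import Cfsg.Agent.Lib.H23.ContribT

/-!
# Conjugation between centralizers (helper23)

`centConj g z z' h : C_G(z) ≃* C_G(z')` for `g z g⁻¹ = z'`.
-/

set_option autoImplicit false

namespace Cfsg.Agent.Lib.H23.Contrib

open Cfsg MonoidAlgebra Cfsg.Agent.Lib.H23 Cfsg.Agent.Lib.H24 Cfsg.Agent.Lib.L0
open scoped ComplexConjugate

variable {G : Type*} [Group G]

theorem conj_mem_centralizer {g z z' : G} (h : g * z * g⁻¹ = z') {x : G}
    (hx : x ∈ Subgroup.centralizer ({z} : Set G)) :
    g * x * g⁻¹ ∈ Subgroup.centralizer ({z'} : Set G) := by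
  rw [Subgroup.mem_centralizer_singleton_iff] at hx ⊢
  rw [← h]
  calc g * x * g⁻¹ * (g * z * g⁻¹) = g * (x * z) * g⁻¹ := by group
    _ = g * (z * x) * g⁻¹ := by rw [hx]
    _ = g * z * g⁻¹ * (g * x * g⁻¹) := by group

theorem conj_inv_eq {g z z' : G} (h : g * z * g⁻¹ = z') : g⁻¹ * z' * g⁻¹⁻¹ = z := by
  rw [← h]; group

/-- Conjugation by `g` as an isomorphism `C_G(z) ≃* C_G(g z g⁻¹)`. -/
noncomputable def centConj (g z z' : G) (h : g * z * g⁻¹ = z') :
    ↥(Subgroup.centralizer ({z} : Set G)) ≃* ↥(Subgroup.centralizer ({z'} : Set G)) where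
  toFun x := ⟨g * (x : G) * g⁻¹, conj_mem_centralizer h x.2⟩
  invFun y := ⟨g⁻¹ * (y : G) * g⁻¹⁻¹, conj_mem_centralizer (conj_inv_eq h) y.2⟩
  left_inv x := by
    apply Subtype.ext
    simp only
    group
  right_inv y := by
    apply Subtype.ext
    simp only
    group
  map_mul' x y := by
    apply Subtype.ext
    simp only [Subgroup.coe_mul]
    group

@[simp] theorem coe_centConj_apply (g z z' : G) (h : g * z * g⁻¹ = z')
    (x : ↥(Subgroup.centralizer ({z} : Set G))) :
    ((centConj g z z' h x : ↥(Subgroup.centralizer ({z'} : Set G))) : G) = g * (x : G) * g⁻¹ := rfl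

@[simp] theorem coe_centConj_symm_apply (g z z' : G) (h : g * z * g⁻¹ = z')
    (y : ↥(Subgroup.centralizer ({z'} : Set G))) :
    (((centConj g z z' h).symm y : ↥(Subgroup.centralizer ({z} : Set G))) : G) =
      g⁻¹ * (y : G) * g := by
  show g⁻¹ * (y : G) * g⁻¹⁻¹ = g⁻¹ * (y : G) * g
  rw [inv_inv]

theorem self_mem_centralizer (z : G) : z ∈ Subgroup.centralizer ({z} : Set G) :=
  Subgroup.mem_centralizer_singleton_iff.2 rfl

theorem centConj_self (g z z' : G) (h : g * z * g⁻¹ = z') :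
    centConj g z z' h ⟨z, self_mem_centralizer z⟩ = ⟨z', self_mem_centralizer z'⟩ :=
  Subtype.ext h

/-- Two conjugating elements differing by an element of `C_G(z')` give the same transport of
characters. -/
theorem irrEquiv_centConj_mul {g z z' : G} (h : g * z * g⁻¹ = z') {c : G}
    (hc : c ∈ Subgroup.centralizer ({z'} : Set G)) (h' : (c * g) * z * (c * g)⁻¹ = z')
    (ζ : IrrCharacter ↥(Subgroup.centralizer ({z} : Set G))) :
    (irrEquiv (centConj (c * g) z z' h')).symm ζ = (irrEquiv (centConj g z z' h)).symm ζ := by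
  apply Subtype.ext
  funext y
  rw [irrEquiv_symm_apply, irrEquiv_symm_apply]
  have h1 := irr_conj ((irrEquiv (centConj g z z' h)).symm ζ) y ⟨c, hc⟩⁻¹
  rw [irrEquiv_symm_apply, irrEquiv_symm_apply] at h1
  rw [← h1]
  refine congrArg (ζ : ↥(Subgroup.centralizer ({z} : Set G)) → ℂ) (Subtype.ext ?_)
  simp only [coe_centConj_symm_apply, Subgroup.coe_mul, Subgroup.coe_inv, inv_inv]
  group

end Cfsg.Agent.Lib.H23.Contrib
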