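import Cfsg.Agent.Lib.H23.ContribU

/-!
# Conjugate major subsections are conjugate under the inertial group (helper23)

`RootHyp.exists_stabilizing`: if `z, z' ∈ Z(D)`, `g z g⁻¹ = z'` and conjugation by `g` carries the
block of `C_G(z)` induced by `b` to the block of `C_G(z')` induced by `b`, then some `t ∈ N_G(D)`
stabilizing `b` carries `z'` to `z`.
-/

set_option autoImplicit false

namespace Cfsg.Agent.Lib.H23.Contrib

open Cfsg MonoidAlgebra Cfsg.Agent.Lib.H23 Cfsg.Agent.Lib.H24 Cfsg.Agent.Lib.L0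
open scoped ComplexConjugate

variable {G : Type*} [Group G] [Fintype G] {p : ℕ} [Fact p.Prime] {M : Ideal AlgInt}
  {D H : Subgroup G} {θ₀ : IrrCharacter H} {χ₁ : IrrCharacter G}

omit [Fintype G] [Fact p.Prime] in
/-- An element of `G` mapping `D` into `D` normalizes `D`. -/
theorem mem_normalizer_of_conj_mem [Finite G] {g₁ : G} (h : ∀ x ∈ D, g₁ * x * g₁⁻¹ ∈ D) :
    g₁ ∈ Subgroup.normalizer (D : Set G) := by
  have hle : D.map (MulAut.conj g₁).toMonoidHom ≤ D := by
    rintro _ ⟨x, hx, rfl⟩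
    exact h x hx
  have heq : D.map (MulAut.conj g₁).toMonoidHom = D := by
    apply Subgroup.eq_of_le_of_card_ge hle
    rw [Subgroup.card_map_of_injective (MulAut.conj g₁).injective]
  rw [Subgroup.mem_normalizer_iff]
  intro x
  constructor
  · exact h x
  · intro hx
    rw [← heq] at hx
    obtain ⟨y, hy, hyx⟩ := hx
    have : y = x := by
      have h1 : g₁ * y * g₁⁻¹ = g₁ * x * g₁⁻¹ := hyx
      have h2 := mul_left_cancel (mul_right_cancel h1)
      exact h2
    rwa [← this]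

omit [Fintype G] [Fact p.Prime] in
/-- In `K' ≥ D`: an element normalizing `D ∩ K' = D` (as a subgroup of `K'`) normalizes `D`. -/
theorem coe_mem_normalizer_of_mem {K' : Subgroup G} (hDK' : D ≤ K') {n : K'}
    (hn : n ∈ Subgroup.normalizer ((D.subgroupOf K' : Subgroup K') : Set K')) :
    (n : G) ∈ Subgroup.normalizer (D : Set G) := by
  rw [Subgroup.mem_normalizer_iff] at hn ⊢
  intro x
  constructor
  · intro hx
    have := (hn ⟨x, hDK' hx⟩).1 (Subgroup.mem_subgroupOf.2 hx)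
    exact Subgroup.mem_subgroupOf.1 this
  · intro hx
    have hxK : x ∈ K' := by
      have h1 : (n : G)⁻¹ * ((n : G) * x * (n : G)⁻¹) * (n : G) ∈ K' :=
        K'.mul_mem (K'.mul_mem (K'.inv_mem n.2) (hDK' hx)) n.2
      have h2 : (n : G)⁻¹ * ((n : G) * x * (n : G)⁻¹) * (n : G) = x := by group
      rwa [h2] at h1
    have := (hn ⟨x, hxK⟩).2 (Subgroup.mem_subgroupOf.2 hx)
    exact Subgroup.mem_subgroupOf.1 this

namespace RootHyp

variable (R : RootHyp p M D H θ₀ χ₁)
include R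

theorem exists_stabilizing {z z' : G} (hz : InCenter D z) (hz' : InCenter D z') (g : G)
    (hg : g * z * g⁻¹ = z')
    (hb : blockOf M ((irrEquiv (centConj g z z' hg)).symm
        (indIrr M H (Subgroup.centralizer ({z} : Set G)) θ₀) :
          ↥(Subgroup.centralizer ({z'} : Set G)) → ℂ) =
      blockOf M (indIrr M H (Subgroup.centralizer ({z'} : Set G)) θ₀ :
          ↥(Subgroup.centralizer ({z'} : Set G)) → ℂ)) :
    ∃ t : G, t ∈ Subgroup.normalizer (D : Set G) ∧
      (∀ θ ∈ blockOf M (θ₀ : H → ℂ), ∀ θ' : IrrCharacter H,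
        (∀ h h' : H, (h' : G) = t * h * t⁻¹ → (θ' : H → ℂ) h' = (θ : H → ℂ) h) →
          θ' ∈ blockOf M (θ₀ : H → ℂ)) ∧ t * z' * t⁻¹ = z := by
  classical
  haveI hPr := isPrime_of_isPModular R.hM
  have hp : p.Prime := Fact.out
  set K := Subgroup.centralizer ({z} : Set G) with hK
  set K' := Subgroup.centralizer ({z'} : Set G) with hK'
  haveI : Fintype K := Fintype.ofFinite K
  haveI : Fintype K' := Fintype.ofFinite K'
  have hHK : H ≤ K := hz.le_centralizer R.hH
  have hHK' : H ≤ K' := hz'.le_centralizer R.hH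
  have hDH : D ≤ H := le_of_eq_sup D H R.hH
  set ε := centConj g z z' hg with hε
  set ζ := indIrr M H K θ₀ with hζ
  set ζ' := indIrr M H K' θ₀ with hζ'
  set L := H.subgroupOf K with hL
  set L' := H.subgroupOf K' with hL'
  set P := D.subgroupOf K with hP
  set P' := D.subgroupOf K' with hP'
  set e := Subgroup.subgroupOfEquivOfLe hHK with he
  set e' := Subgroup.subgroupOfEquivOfLe hHK' with he'
  haveI : Fintype L := Fintype.ofFinite L
  haveI : Fintype L' := Fintype.ofFinite L'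
  have hcardP : Nat.card P = Nat.card D :=
    Nat.card_congr (Subgroup.subgroupOfEquivOfLe (hDH.trans hHK)).toEquiv
  -- Step 1: the transported root in `K'`
  set εL := ε.subgroupMap L with hεL
  haveI : Fintype ↥(L.map (ε : K →* K')) := Fintype.ofFinite _
  have hind2 := isInducedBlock_transport (M := M) ε L (L.map (ε : K →* K')) εL (fun l => rfl)
    (R.induced_sub hz)
  rw [hb] at hind2
  have hP₂ : IsDefectGroup p M (blockOf M (ζ' : K' → ℂ)) (P.map (ε : K →* K')) := by
    refine isDefectGroup_of_root (L.map (ε : K →* K')) R.hM (P.map (ε : K →* K'))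
      (Subgroup.map_mono (Subgroup.subgroupOf_mono K hDH))
      ((Subgroup.map_mono (subgroupOf_le_normalizer D H K R.hH)).trans
        (Subgroup.le_normalizer_map _))
      (R.isPGroup.comap_subtype.map _) hind2 ?_
    rw [Subgroup.card_map_of_injective ε.injective, hcardP, R.card_eq, R.blockDefect_eq hz']
  -- Step 2, 3
  have hPd' := R.isDefectGroup_sub hz'
  obtain ⟨c, hc⟩ := isDefectGroup_conj R.hM ζ' hP₂ hPd'
  -- Step 4
  set g₁ : G := (c : G) * g with hg₁
  have hg₁D : ∀ x ∈ D, g₁ * x * g₁⁻¹ ∈ D := by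
    intro x hx
    have hxK : x ∈ K := hHK (hDH hx)
    have h1 : ε ⟨x, hxK⟩ ∈ P.map (ε : K →* K') :=
      Subgroup.mem_map_of_mem _ (Subgroup.mem_subgroupOf.2 hx)
    have h2 : c * ε ⟨x, hxK⟩ * c⁻¹ ∈ D.subgroupOf K' := by
      rw [hc]
      exact ⟨_, h1, rfl⟩
    have h3 := Subgroup.mem_subgroupOf.1 h2
    have h4 : ((c * ε ⟨x, hxK⟩ * c⁻¹ : K') : G) = g₁ * x * g₁⁻¹ := by
      simp only [Subgroup.coe_mul, Subgroup.coe_inv, hε, coe_centConj_apply, hg₁]
      group
    rwa [h4] at h3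
  have hg₁N : g₁ ∈ Subgroup.normalizer (D : Set G) := mem_normalizer_of_conj_mem hg₁D
  -- Step 5
  have hcz : (c : G) * z' = z' * (c : G) := Subgroup.mem_centralizer_singleton_iff.1 c.2
  have hg₁z : g₁ * z * g₁⁻¹ = z' := by
    have h1 : g₁ * z * g₁⁻¹ = (c : G) * (g * z * g⁻¹) * (c : G)⁻¹ := by rw [hg₁]; group
    rw [h1, hg, hcz, mul_inv_cancel_right]
  set ε₁ := centConj g₁ z z' hg₁z with hε₁
  have hζeq : (irrEquiv ε₁).symm ζ = (irrEquiv ε).symm ζ :=
    irrEquiv_centConj_mul hg c.2 hg₁z ζ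
  -- Step 6
  have hmap : L.map (ε₁ : K →* K') = L' := by
    ext y
    constructor
    · rintro ⟨x, hx, rfl⟩
      rw [hL', Subgroup.mem_subgroupOf]
      have hx' : (x : G) ∈ H := Subgroup.mem_subgroupOf.1 hx
      exact conj_mem_of_mem_normalizer D H R.hH hg₁N hx'
    · intro hy
      have hy' : (y : G) ∈ H := Subgroup.mem_subgroupOf.1 hy
      refine ⟨ε₁.symm y, ?_, by simp⟩
      rw [SetLike.mem_coe, hL, Subgroup.mem_subgroupOf, hε₁, coe_centConj_symm_apply]
      have := conj_mem_of_mem_normalizer D H R.hH (Subgroup.inv_mem _ hg₁N) hy'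
      rwa [inv_inv] at this
  set εL₁ : L ≃* L' := (ε₁.subgroupMap L).trans (MulEquiv.subgroupCongr hmap) with hεL₁
  have hind3 := isInducedBlock_transport (M := M) ε₁ L L' εL₁ (fun l => rfl) (R.induced_sub hz)
  rw [hζeq, hb] at hind3
  -- Step 7
  have hDK' : D ≤ K' := hDH.trans hHK'
  have hCL : Subgroup.centralizer ((P' : Subgroup K') : Set K') ≤ L' :=
    centralizer_subgroupOf_le D H K' R.hH hDK'
  have hLN : L' ≤ Subgroup.normalizer ((P' : Subgroup K') : Set K') :=
    subgroupOf_le_normalizer D H K' R.hH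
  have hnormL : ∀ n : K', n ∈ Subgroup.normalizer ((P' : Subgroup K') : Set K') →
      ∀ y : K', y ∈ L' → n * y * n⁻¹ ∈ L' := by
    intro n hn y hy
    rw [hL', Subgroup.mem_subgroupOf] at hy ⊢
    have := conj_mem_of_mem_normalizer D H R.hH (coe_mem_normalizer_of_mem hDK' hn) hy
    simpa using this
  have hNL : Subgroup.normalizer ((P' : Subgroup K') : Set K') ≤
      Subgroup.normalizer ((L' : Subgroup K') : Set K') := by
    intro n hn
    rw [Subgroup.mem_normalizer_iff]
    intro y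
    constructor
    · exact hnormL n hn y
    · intro hh
      have := hnormL n⁻¹ (Subgroup.inv_mem _ hn) _ hh
      simpa [mul_assoc] using this
  haveI hnorm : (L'.subgroupOf (Subgroup.normalizer ((P' : Subgroup K') : Set K'))).Normal :=
    Subgroup.normal_subgroupOf_of_le_normalizer hNL
  haveI : Fintype ↥(Subgroup.normalizer ((P' : Subgroup K') : Set K')) := Fintype.ofFinite _
  haveI : Fintype ↥(L'.subgroupOf (Subgroup.normalizer ((P' : Subgroup K') : Set K'))) :=
    Fintype.ofFinite _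
  obtain ⟨n, hn, hθ⟩ := roots_conj P' L' (Subgroup.normalizer ((P' : Subgroup K') : Set K')) R.hM rfl
    hCL hLN ζ' hPd' (irrEquiv e' θ₀) ((irrEquiv εL₁).symm (irrEquiv e θ₀)) (R.induced_sub hz') hind3
  -- Step 8
  have hnD : (n : G) ∈ Subgroup.normalizer (D : Set G) := coe_mem_normalizer_of_mem hDK' hn
  have hnz : (n : G) * z' = z' * (n : G) := Subgroup.mem_centralizer_singleton_iff.1 n.2
  set s : G := (n : G) * g₁ with hs
  have hsN : s ∈ Subgroup.normalizer (D : Set G) := Subgroup.mul_mem _ hnD hg₁N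
  have hsz : s * z * s⁻¹ = z' := by
    have h1 : s * z * s⁻¹ = (n : G) * (g₁ * z * g₁⁻¹) * (n : G)⁻¹ := by rw [hs]; group
    rw [h1, hg₁z, hnz, mul_inv_cancel_right]
  refine ⟨s⁻¹, Subgroup.inv_mem _ hsN, ?_, ?_⟩
  · intro θ hθb θ'' hθ''
    have hθa : irrEquiv e' θ ∈ blockOf M (irrEquiv e' θ₀ : L' → ℂ) :=
      (irrEquiv_mem_blockOf_iff e' θ₀ θ).2 hθb
    obtain ⟨θb, hθb3, hrel⟩ := hθ _ hθa
    have h1 : irrEquiv εL₁ θb ∈ blockOf M (irrEquiv e θ₀ : L → ℂ) := by
      have := (irrEquiv_mem_blockOf_iff (M := M) εL₁ ((irrEquiv εL₁).symm (irrEquiv e θ₀)) θb).2 hθb3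
      rwa [Equiv.apply_symm_apply] at this
    set φ' : IrrCharacter H := (irrEquiv e).symm (irrEquiv εL₁ θb) with hφ'
    have hφ'b : φ' ∈ blockOf M (θ₀ : H → ℂ) := by
      have h2 : irrEquiv e φ' = irrEquiv εL₁ θb := Equiv.apply_symm_apply _ _
      rw [← h2] at h1
      exact (irrEquiv_mem_blockOf_iff e θ₀ φ').1 h1
    have heq : θ'' = φ' := by
      apply Subtype.ext
      funext y
      -- the element `x = g₁ y g₁⁻¹` of `L'`
      set x : L' := εL₁ (e.symm y) with hx
      have hxG : ((x : K') : G) = g₁ * (y : G) * g₁⁻¹ := rfl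
      have hnx : n * (x : K') * n⁻¹ ∈ L' := hnormL n hn _ x.2
      have h3 := hrel x hnx
      have h4 : (φ' : H → ℂ) y = (θb : L' → ℂ) x := rfl
      have h5 : (irrEquiv e' θ : L' → ℂ) ⟨n * (x : K') * n⁻¹, hnx⟩ =
          (θ : H → ℂ) (e' ⟨n * (x : K') * n⁻¹, hnx⟩) := rfl
      rw [h4, h3, h5]
      apply hθ''
      show (y : G) = s⁻¹ * ((n : G) * (g₁ * (y : G) * g₁⁻¹) * (n : G)⁻¹) * s⁻¹⁻¹
      rw [hs]
      group
    rw [heq]
    exact hφ'b
  · rw [← hsz]
    group

end RootHyp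

end Cfsg.Agent.Lib.H23.Contrib
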