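import Cfsg.Agent.Lib.H23.ContribV
import Cfsg.Agent.Lib.H23.ContribQ

/-!
# Abstract inequalities for the height bound (helper23)

* `sq_sum_le_of_inner`: vectors `v z` with `v z χ = ‖v z‖²` whose inner products are `0` or
  `‖v z‖²`, the latter for at most `e` indices `z'` for each `z`, have `(∑ ‖v z‖²)² ≤ e ∑ ‖v z‖²`;
* `card_filter_conj_le_relIndex`: orbits of `T` on a subgroup centralized by `H` have at most
  `|T : H ∩ T|` elements.
-/

set_option autoImplicit false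

namespace Cfsg.Agent.Lib.H23.Contrib

open Cfsg MonoidAlgebra Cfsg.Agent.Lib.H23 Cfsg.Agent.Lib.H24 Cfsg.Agent.Lib.L0
open scoped ComplexConjugate

theorem sq_sum_le_of_inner {ι κ : Type*} [Fintype ι] [Fintype κ]
    (v : ι → κ → ℂ) (χ : κ) (mm : ι → ℝ) (hmm : ∀ z, mm z = ∑ ψ, ‖v z ψ‖ ^ 2)
    (hself : ∀ z, v z χ = (mm z : ℂ)) (A : ι → Finset ι) (e : ℕ) (hA : ∀ z, (A z).card ≤ e)
    (hip : ∀ z z', ∑ ψ, v z ψ * conj (v z' ψ) = 0 ∨
      (∑ ψ, v z ψ * conj (v z' ψ) = v z χ ∧ z' ∈ A z)) :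
    (∑ z, mm z) ^ 2 ≤ (e : ℝ) * ∑ z, mm z := by
  classical
  have hmm0 : ∀ z, 0 ≤ mm z := by
    intro z
    rw [hmm]
    exact Finset.sum_nonneg fun _ _ => sq_nonneg _
  set S : ℝ := ∑ z, mm z with hS
  set w : κ → ℂ := fun ψ => ∑ z, v z ψ with hw
  have hwχ : w χ = (S : ℂ) := by
    rw [hw, hS]
    push_cast
    exact Finset.sum_congr rfl fun z _ => hself z
  -- first inequality
  have h1 : S ^ 2 ≤ ∑ ψ, ‖w ψ‖ ^ 2 := by
    have : S ^ 2 = ‖w χ‖ ^ 2 := by
      rw [hwχ, Complex.norm_real, Real.norm_eq_abs, sq_abs]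
    rw [this]
    exact Finset.single_le_sum (f := fun ψ => ‖w ψ‖ ^ 2) (fun _ _ => sq_nonneg _)
      (Finset.mem_univ χ)
  -- the real inner products
  set r : ι → ι → ℝ := fun z z' => if ∑ ψ, v z ψ * conj (v z' ψ) = 0 then 0 else mm z with hr
  have hrip : ∀ z z', ∑ ψ, v z ψ * conj (v z' ψ) = (r z z' : ℂ) := by
    intro z z'
    rw [hr]
    simp only
    split_ifs with h0
    · rw [h0]; simp
    · rcases hip z z' with h | ⟨h, -⟩
      · exact absurd h h0
      · rw [h, hself]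
  have h2 : ∑ ψ, ‖w ψ‖ ^ 2 = ∑ z, ∑ z', r z z' := by
    apply Complex.ofReal_injective
    push_cast
    have : ∀ ψ, ((‖w ψ‖ : ℂ)) ^ 2 = ∑ z, ∑ z', v z ψ * conj (v z' ψ) := by
      intro ψ
      rw [← Complex.ofReal_pow, ← Complex.normSq_eq_norm_sq, ← Complex.mul_conj, hw]
      simp only
      rw [map_sum, Finset.sum_mul_sum]
    simp only [this]
    rw [Finset.sum_comm]
    refine Finset.sum_congr rfl fun z _ => ?_
    rw [Finset.sum_comm]
    refine Finset.sum_congr rfl fun z' _ => ?_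
    exact hrip z z'
  have h3 : ∀ z, ∑ z', r z z' ≤ (e : ℝ) * mm z := by
    intro z
    have h4 : ∑ z', r z z' ≤ ∑ z' ∈ A z, mm z := by
      have h5 : ∀ z', r z z' ≤ if z' ∈ A z then mm z else 0 := by
        intro z'
        rw [hr]
        simp only
        by_cases h0 : ∑ ψ, v z ψ * conj (v z' ψ) = 0
        · rw [if_pos h0]
          split_ifs
          · exact hmm0 z
          · exact le_refl _
        · rw [if_neg h0]
          rcases hip z z' with h | ⟨-, h⟩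
          · exact absurd h h0
          · rw [if_pos h]
      refine (Finset.sum_le_sum fun z' _ => h5 z').trans ?_
      rw [Finset.sum_ite_mem, Finset.univ_inter]
    refine h4.trans ?_
    rw [Finset.sum_const, nsmul_eq_mul]
    exact mul_le_mul_of_nonneg_right (by exact_mod_cast hA z) (hmm0 z)
  calc S ^ 2 ≤ ∑ ψ, ‖w ψ‖ ^ 2 := h1
    _ = ∑ z, ∑ z', r z z' := h2
    _ ≤ ∑ z, (e : ℝ) * mm z := Finset.sum_le_sum fun z _ => h3 z
    _ = (e : ℝ) * S := by rw [← Finset.mul_sum]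

theorem card_filter_conj_le_relIndex {G : Type*} [Group G] [Finite G] (T H Z : Subgroup G)
    [Fintype Z] (hHZ : ∀ z ∈ Z, H ≤ Subgroup.centralizer ({z} : Set G)) (z : G)
    [DecidablePred fun z' : Z => ∃ t ∈ T, t * (z' : G) * t⁻¹ = z] :
    (Finset.univ.filter (fun z' : Z => ∃ t ∈ T, t * (z' : G) * t⁻¹ = z)).card ≤
      H.relIndex T := by
  classical
  haveI : Fintype (↥T ⧸ H.subgroupOf T) := Fintype.ofFinite _
  have hex : ∀ z' : Z, ∃ t : T, (∃ t ∈ T, t * (z' : G) * t⁻¹ = z) →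
      (t : G) * (z' : G) * (t : G)⁻¹ = z := by
    intro z'
    by_cases h : ∃ t ∈ T, t * (z' : G) * t⁻¹ = z
    · obtain ⟨t, ht, hz⟩ := h
      exact ⟨⟨t, ht⟩, fun _ => hz⟩
    · exact ⟨1, fun h' => absurd h' h⟩
  choose f hf using hex
  have hinj : Set.InjOn (fun z' : Z => (QuotientGroup.mk (f z') : ↥T ⧸ H.subgroupOf T))
      (Finset.univ.filter (fun z' : Z => ∃ t ∈ T, t * (z' : G) * t⁻¹ = z) : Finset Z) := by
    intro z₁ h₁ z₂ h₂ heq
    rw [Finset.mem_coe, Finset.mem_filter] at h₁ h₂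
    have e₁ := hf z₁ h₁.2
    have e₂ := hf z₂ h₂.2
    simp only at heq
    rw [QuotientGroup.eq, Subgroup.mem_subgroupOf] at heq
    have hl : ((f z₁)⁻¹ * f z₂ : T) = ((f z₁ : G))⁻¹ * (f z₂ : G) := by
      simp
    rw [hl] at heq
    have hc := hHZ _ z₂.2 heq
    rw [Subgroup.mem_centralizer_singleton_iff] at hc
    apply Subtype.ext
    have h5 : (f z₁ : G) * (z₁ : G) * (f z₁ : G)⁻¹ = (f z₁ : G) * (z₂ : G) * (f z₁ : G)⁻¹ := by
      rw [e₁, ← e₂]
      have : (f z₂ : G) = (f z₁ : G) * ((f z₁ : G)⁻¹ * (f z₂ : G)) := by group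
      rw [this, mul_assoc (f z₁ : G), hc]
      group
    exact mul_left_cancel (mul_right_cancel h5)
  have := Finset.card_le_card_of_injOn _ (fun _ _ => Finset.mem_univ _) hinj
  refine this.trans (le_of_eq ?_)
  rw [Finset.card_univ, ← Nat.card_eq_fintype_card, ← Subgroup.index_eq_card]
  rfl

end Cfsg.Agent.Lib.H23.Contrib
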