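import Cfsg.Agent.Lib.H23.ContribW

/-!
# The vectors of the major subsections (helper23)

For `z ∈ Z(D)`: `secVec p M H θ₀ z χ ψ` is the contribution of the subsection `(z, b^{C_G(z)})` to
`(χ, ψ)`, where `b = blockOf θ₀`.
* `RootHyp.secVec_self`: `secVec z χ χ = ∑_ψ ‖secVec z χ ψ‖²`;
* `RootHyp.secVec_inner`: the inner product of two of these vectors is `0`, or `secVec z χ χ` with
  `z, z'` conjugate under the inertial group;
* `RootHyp.card_units_mul_pow_le`: the lower bound for the Galois sum of the norms.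
-/

set_option autoImplicit false

namespace Cfsg.Agent.Lib.H23.Contrib

open Cfsg MonoidAlgebra Cfsg.Agent.Lib.H23 Cfsg.Agent.Lib.H24 Cfsg.Agent.Lib.L0
open scoped ComplexConjugate

section Defs

variable {G : Type*} [Group G] [Finite G]

/-- The contribution of the subsection `(z, b^K)`, for a subgroup `K` containing `z`. -/
noncomputable def secVecK (p : ℕ) (M : Ideal AlgInt) (H : Subgroup G) (θ₀ : IrrCharacter H)
    (K : Subgroup G) (z : G) (χ ψ : G → ℂ) : ℂ :=
  haveI : Fintype K := Fintype.ofFinite K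
  open Classical in
  if hz : z ∈ K then contrib p K (blockOf M (indIrr M H K θ₀ : K → ℂ)) ⟨z, hz⟩ χ ψ else 0

/-- The contribution of the subsection `(z, b^{C_G(z)})`. -/
noncomputable def secVec (p : ℕ) (M : Ideal AlgInt) (H : Subgroup G) (θ₀ : IrrCharacter H)
    (z : G) (χ ψ : G → ℂ) : ℂ :=
  secVecK p M H θ₀ (Subgroup.centralizer ({z} : Set G)) z χ ψ

theorem secVecK_eq (p : ℕ) (M : Ideal AlgInt) (H : Subgroup G) (θ₀ : IrrCharacter H)
    (K : Subgroup G) [inst : Fintype K] {z : G} (hz : z ∈ K) (χ ψ : G → ℂ) :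
    secVecK p M H θ₀ K z χ ψ =
      contrib p K (blockOf M (indIrr M H K θ₀ : K → ℂ)) ⟨z, hz⟩ χ ψ := by
  have : inst = Fintype.ofFinite K := Subsingleton.elim _ _
  subst this
  unfold secVecK
  rw [dif_pos hz]

theorem secVec_eq (p : ℕ) (M : Ideal AlgInt) (H : Subgroup G) (θ₀ : IrrCharacter H)
    (z : G) [Fintype ↥(Subgroup.centralizer ({z} : Set G))] (χ ψ : G → ℂ) :
    secVec p M H θ₀ z χ ψ =
      contrib p (Subgroup.centralizer ({z} : Set G))
        (blockOf M (indIrr M H (Subgroup.centralizer ({z} : Set G)) θ₀ :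
          ↥(Subgroup.centralizer ({z} : Set G)) → ℂ)) ⟨z, self_mem_centralizer z⟩ χ ψ :=
  secVecK_eq p M H θ₀ _ (self_mem_centralizer z) χ ψ

theorem secVec_pow (p : ℕ) (M : Ideal AlgInt) (H : Subgroup G) (θ₀ : IrrCharacter H)
    (z : G) [Fintype ↥(Subgroup.centralizer ({z} : Set G))] {j : ℕ} (hj : j.Coprime (orderOf z))
    (χ ψ : G → ℂ) :
    secVec p M H θ₀ (z ^ j) χ ψ =
      contrib p (Subgroup.centralizer ({z} : Set G))
        (blockOf M (indIrr M H (Subgroup.centralizer ({z} : Set G)) θ₀ :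
          ↥(Subgroup.centralizer ({z} : Set G)) → ℂ))
        ((⟨z, self_mem_centralizer z⟩ : ↥(Subgroup.centralizer ({z} : Set G))) ^ j) χ ψ := by
  unfold secVec
  rw [centralizer_pow_of_coprime z hj,
    secVecK_eq p M H θ₀ _ (Subgroup.pow_mem _ (self_mem_centralizer z) j)]
  rfl

omit [Finite G] in
theorem self_mem_center_centralizer (z : G) :
    (⟨z, self_mem_centralizer z⟩ : ↥(Subgroup.centralizer ({z} : Set G))) ∈
      Subgroup.center ↥(Subgroup.centralizer ({z} : Set G)) := by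
  rw [Subgroup.mem_center_iff]
  intro x
  apply Subtype.ext
  exact Subgroup.mem_centralizer_singleton_iff.1 x.2

omit [Finite G] in
theorem mem_centralizer_of_conj_eq (z g : G) (h : g * z * g⁻¹ = z) :
    g ∈ Subgroup.centralizer ({z} : Set G) := by
  rw [Subgroup.mem_centralizer_singleton_iff]
  calc g * z = g * z * g⁻¹ * g := by group
    _ = z * g := by rw [h]

end Defs

variable {G : Type*} [Group G] [Fintype G] {p : ℕ} [Fact p.Prime] {M : Ideal AlgInt}
  {D H : Subgroup G} {θ₀ : IrrCharacter H} {χ₁ : IrrCharacter G} [Fintype (IrrCharacter G)]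

namespace RootHyp

variable (R : RootHyp p M D H θ₀ χ₁)
include R

omit [Fintype (IrrCharacter G)] in
theorem orderOf_mk_eq {z : G} (hz : InCenter D z) :
    ∃ k : ℕ, orderOf (⟨z, self_mem_centralizer z⟩ : ↥(Subgroup.centralizer ({z} : Set G))) =
      p ^ k := by
  obtain ⟨k, hk⟩ := R.orderOf_eq hz
  exact ⟨k, by rw [Subgroup.orderOf_mk, hk]⟩

theorem secVec_self {z : G} (hz : InCenter D z) (χ : IrrCharacter G) :
    secVec p M H θ₀ z (χ : G → ℂ) (χ : G → ℂ) =
      ((∑ ψ : IrrCharacter G, ‖secVec p M H θ₀ z (χ : G → ℂ) (ψ : G → ℂ)‖ ^ 2 : ℝ) : ℂ) := by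
  classical
  haveI : Fintype ↥(Subgroup.centralizer ({z} : Set G)) := Fintype.ofFinite _
  haveI : Fintype (IrrCharacter ↥(Subgroup.centralizer ({z} : Set G))) := Fintype.ofFinite _
  simp only [secVec_eq]
  exact contrib_self_eq_sum _ R.hM (self_mem_center_centralizer z) (R.orderOf_mk_eq hz)
    (mem_centralizer_of_conj_eq z) _ χ

theorem secVec_inner (T : Subgroup G)
    (hT : ∀ g : G, g ∈ T ↔ (g ∈ Subgroup.normalizer (D : Set G) ∧
      ∀ θ ∈ blockOf M (θ₀ : H → ℂ), ∀ θ' : IrrCharacter H,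
        (∀ h h' : H, (h' : G) = g * h * g⁻¹ → (θ' : H → ℂ) h' = (θ : H → ℂ) h) →
          θ' ∈ blockOf M (θ₀ : H → ℂ)))
    {z z' : G} (hz : InCenter D z) (hz' : InCenter D z') (χ : IrrCharacter G) :
    ∑ ψ : IrrCharacter G, secVec p M H θ₀ z (χ : G → ℂ) (ψ : G → ℂ) *
        conj (secVec p M H θ₀ z' (χ : G → ℂ) (ψ : G → ℂ)) = 0 ∨
      (∑ ψ : IrrCharacter G, secVec p M H θ₀ z (χ : G → ℂ) (ψ : G → ℂ) *
        conj (secVec p M H θ₀ z' (χ : G → ℂ) (ψ : G → ℂ)) =
          secVec p M H θ₀ z (χ : G → ℂ) (χ : G → ℂ) ∧ ∃ t ∈ T, t * z' * t⁻¹ = z) := by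
  classical
  have hp : p.Prime := Fact.out
  haveI : Fintype ↥(Subgroup.centralizer ({z} : Set G)) := Fintype.ofFinite _
  haveI : Fintype (IrrCharacter ↥(Subgroup.centralizer ({z} : Set G))) := Fintype.ofFinite _
  haveI : Fintype ↥(Subgroup.centralizer ({z'} : Set G)) := Fintype.ofFinite _
  haveI : Fintype (IrrCharacter ↥(Subgroup.centralizer ({z'} : Set G))) := Fintype.ofFinite _
  by_cases hconj : IsConj z z'
  · obtain ⟨g, hg⟩ := isConj_iff.1 hconj
    set ε := centConj g z z' hg with hε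
    set ζ := indIrr M H (Subgroup.centralizer ({z} : Set G)) θ₀ with hζ
    set ζ' := indIrr M H (Subgroup.centralizer ({z'} : Set G)) θ₀ with hζ'
    have htr : ∀ ψ : IrrCharacter G, secVec p M H θ₀ z (χ : G → ℂ) (ψ : G → ℂ) =
        contrib p (Subgroup.centralizer ({z'} : Set G))
          (blockOf M ((irrEquiv ε).symm ζ : ↥(Subgroup.centralizer ({z'} : Set G)) → ℂ))
          ⟨z', self_mem_centralizer z'⟩ (χ : G → ℂ) (ψ : G → ℂ) := by
      intro ψ
      rw [secVec_eq, ← contrib_transport (M := M) _ _ ε g (fun x => rfl) ζ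
        ⟨z, self_mem_centralizer z⟩ χ ψ, hε, centConj_self]
    have hcj : ∀ ψ : IrrCharacter G, conj (secVec p M H θ₀ z' (χ : G → ℂ) (ψ : G → ℂ)) =
        contrib p (Subgroup.centralizer ({z'} : Set G))
          (blockOf M (ζ' : ↥(Subgroup.centralizer ({z'} : Set G)) → ℂ))
          ⟨z', self_mem_centralizer z'⟩ (ψ : G → ℂ) (χ : G → ℂ) := by
      intro ψ
      rw [secVec_eq]
      exact contrib_conj _ _ _ R.hM (self_mem_center_centralizer z') ζ' rfl χ ψ
    by_cases hb : blockOf M ((irrEquiv ε).symm ζ : ↥(Subgroup.centralizer ({z'} : Set G)) → ℂ) =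
        blockOf M (ζ' : ↥(Subgroup.centralizer ({z'} : Set G)) → ℂ)
    · right
      constructor
      · simp only [htr, hcj]
        rw [hb]
        exact sum_contrib_mul_contrib_same _ R.hM (self_mem_center_centralizer z')
          (R.orderOf_mk_eq hz') (mem_centralizer_of_conj_eq z') ζ' χ χ
      · obtain ⟨t, htN, htb, htz⟩ := R.exists_stabilizing hz hz' g hg hb
        exact ⟨t, (hT t).2 ⟨htN, htb⟩, htz⟩
    · left
      simp only [htr, hcj]
      exact sum_contrib_mul_contrib_ne _ R.hM (self_mem_center_centralizer z')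
        (R.orderOf_mk_eq hz') (mem_centralizer_of_conj_eq z') _ ζ' hb χ χ
  · left
    simp only [secVec_eq]
    exact sum_contrib_mul_conj_contrib_of_not_isConj _ _ hp (self_mem_center_centralizer z)
      (R.orderOf_mk_eq hz) (self_mem_center_centralizer z') (R.orderOf_mk_eq hz') hconj _ _ _ _

theorem card_units_mul_pow_le {z : G} (hz : InCenter D z) {χ : IrrCharacter G}
    (hχ : χ ∈ blockOf M (χ₁ : G → ℂ)) (m : ℕ) [NeZero m] (hm : m = Nat.card G) :
    (Fintype.card (ZMod m)ˣ : ℝ) * (p : ℝ) ^ blockHeight p (blockOf M (χ₁ : G → ℂ)) (χ : G → ℂ) ≤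
      ∑ k : (ZMod m)ˣ, (p : ℝ) ^ blockDefect p (blockOf M (χ₁ : G → ℂ)) *
        ∑ ψ : IrrCharacter G,
          ‖secVec p M H θ₀ (z ^ (k : ZMod m).val) (χ : G → ℂ) (ψ : G → ℂ)‖ ^ 2 := by
  classical
  haveI : Fintype ↥(Subgroup.centralizer ({z} : Set G)) := Fintype.ofFinite _
  haveI : Fintype (IrrCharacter ↥(Subgroup.centralizer ({z} : Set G))) := Fintype.ofFinite _
  have h1 := card_units_mul_pow_le_sum_contrib_self R.hM (Subgroup.centralizer ({z} : Set G))
    (indIrr M H (Subgroup.centralizer ({z} : Set G)) θ₀) (R.induced hz) (R.blockDefect_eq hz)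
    ⟨z, self_mem_centralizer z⟩ (self_mem_center_centralizer z) (R.orderOf_mk_eq hz)
    (mem_centralizer_of_conj_eq z) hχ m hm
  refine h1.trans (le_of_eq ?_)
  refine Finset.sum_congr rfl fun k _ => ?_
  congr 1
  refine Finset.sum_congr rfl fun ψ _ => ?_
  have hcop : ((k : ZMod m).val).Coprime (orderOf z) := by
    have h2 : ((k : ZMod m).val).Coprime m := ZMod.val_coe_unit_coprime k
    have h3 : orderOf z ∣ m := by
      rw [hm]
      exact orderOf_dvd_natCard z
    exact Nat.Coprime.coprime_dvd_right h3 h2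
  rw [secVec_pow p M H θ₀ z hcop]

end RootHyp

end Cfsg.Agent.Lib.H23.Contrib
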