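import Mathlib
import Cfsg.Prelude.Def_Blocks
import Cfsg.Prelude.Def_BlockLocal
import Cfsg.Agent.Lib.H23.BlockFongIndex
import Cfsg.Agent.Lib.H23.FRBlock
import Cfsg.Agent.Lib.H23.BlockVanishP
import Cfsg.Agent.Lib.L0.Knorr
import Cfsg.Agent.Lib.L0.BrauerAutomizer
import Cfsg.Agent.Lib.L0.BlockOrbitCover

/-!
# Stabilizers of covered blocks and defect groups inside the normal subgroup (helper23)

* `sup_defectGroup_eq_top`: `N ⊴ G` of `p`-power index, `c` a `G`-stable block of `N`, `B` a block of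
  `G` covering `c` with defect group `P`: then `N P = G`.
* `le_of_defectGroup_le`: `N ≤ S` normal in `G`, `S/N` a `p`-group, `c` a `G`-stable block of `N`,
  `B` a block of `G` covering `c` with a defect group inside `N`: then `S = N`.
* transport of covering / stability to `N.subgroupOf H`.
-/

set_option autoImplicit false

namespace Cfsg.Agent.Lib.H23.CoverStab

open Cfsg MonoidAlgebra Cfsg.Agent.Lib.H23 Cfsg.Agent.Lib.H23.FR Cfsg.Agent.Lib.H24
  Cfsg.Agent.Lib.L0 Cfsg.Agent.Lib.L0.BlockOrbitCover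
open scoped ComplexConjugate

section One

variable {G : Type*} [Group G] [Fintype G] (N : Subgroup G) [hN : N.Normal] [Fintype N]
  {p : ℕ} {M : Ideal AlgInt}

theorem sup_defectGroup_eq_top [Fact p.Prime] (hM : IsPModular p M)
    (hidx : ∃ k : ℕ, N.index = p ^ k) (c : Set (IrrCharacter N)) (hc : IsPBlock M c)
    (hst : ∀ x : G, StabilizesBlock N c x) (B : Set (IrrCharacter G)) (hB : IsPBlock M B)
    (hcov : ∃ χ ∈ B, ∃ θ ∈ c, classInner (fun n : N => (χ : G → ℂ) n) (θ : N → ℂ) ≠ 0)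
    (P : Subgroup G) (hP : IsDefectGroup p M B P) : N ⊔ P = ⊤ := by
  haveI hPr := isPrime_of_isPModular hM
  have h2 := (invariant_block_index_pow N hM hidx c hc hst).2
  obtain ⟨θ₀, rfl⟩ := hc
  have hinv := conjIrr_mem_of_stabilizesBlock N _ hst
  obtain ⟨χ, hχ, θ, hθ, hne⟩ := hcov
  have hover : χ ∈ overSet N (blockOf M (θ₀ : N → ℂ)) := ⟨θ, hθ, hne⟩
  have hOB := overSet_eq_blockOf_of_index_pow N hM hidx θ₀ hinv χ hover
  have hBeq := isPBlock_eq_blockOf hB hχ
  have hcoeff : ∀ g : G, blockCoeff B g = subgroupBlockCoeff N (blockOf M (θ₀ : N → ℂ)) g := by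
    intro g
    rw [hBeq, ← hOB]
    exact blockCoeff_overSet_eq N _ hinv g
  exact (h2 B hB hcoeff P hP).1

end One

section Transport

variable {G : Type*} [Group G] (N H : Subgroup G) (hNH : N ≤ H)

/-- Stability of a set of characters of `N` passes to `N.subgroupOf H`. -/
theorem stabilizesBlock_subgroupOf (c : Set (IrrCharacter N)) (x : H)
    (hx : StabilizesBlock N c (x : G)) :
    StabilizesBlock (N.subgroupOf H) (irrEquiv (Subgroup.subgroupOfEquivOfLe hNH) '' c) x := by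
  have hnorm : x ∈ Subgroup.normalizer ((N.subgroupOf H : Subgroup H) : Set H) := by
    rw [Subgroup.mem_normalizer_iff]
    intro h
    rw [Subgroup.mem_subgroupOf, Subgroup.mem_subgroupOf]
    have := (Subgroup.mem_normalizer_iff.1 hx.1) (h : G)
    simpa using this
  refine ⟨hnorm, ?_⟩
  rintro _ ⟨θ, hθ, rfl⟩
  obtain ⟨θ', hθ', hconj⟩ := hx.2 θ hθ
  refine ⟨irrEquiv (Subgroup.subgroupOfEquivOfLe hNH) θ', ⟨θ', hθ', rfl⟩, ?_⟩
  intro k k' hk
  rw [irrEquiv_apply, irrEquiv_apply]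
  apply hconj
  have := congrArg (Subtype.val : H → G) hk
  simpa using this

variable [Fintype N] [Fintype (N.subgroupOf H)]

/-- Covering in the `resTo` form passes to `N.subgroupOf H`. -/
theorem classInner_subgroupOf (η : H → ℂ) (θ : IrrCharacter N) :
    classInner (fun n : N.subgroupOf H => η (n : H))
      (irrEquiv (Subgroup.subgroupOfEquivOfLe hNH) θ : N.subgroupOf H → ℂ) =
    classInner (fun n : N => η ⟨(n : G), hNH n.2⟩) (θ : N → ℂ) := by
  classical
  have := classInner_comp_equiv (Subgroup.subgroupOfEquivOfLe hNH)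
    (fun n : N => η ⟨(n : G), hNH n.2⟩) (θ : N → ℂ)
  rw [← this]
  rfl

end Transport

section X

variable {G : Type*} [Group G] [Fintype G] {p : ℕ} {M : Ideal AlgInt}

theorem le_of_defectGroup_le [Fact p.Prime] (hM : IsPModular p M) (N S : Subgroup G)
    [hN : N.Normal] [hS : S.Normal] [Fintype N] [Fintype S] (hNS : N ≤ S)
    (hidx : ∃ k : ℕ, N.relIndex S = p ^ k) (c : Set (IrrCharacter N)) (hc : IsPBlock M c)
    (hst : ∀ x : G, StabilizesBlock N c x) (B : Set (IrrCharacter G)) (hB : IsPBlock M B)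
    (hcov : ∃ χ ∈ B, ∃ θ ∈ c, classInner (fun n : N => (χ : G → ℂ) n) (θ : N → ℂ) ≠ 0)
    (P : Subgroup G) (hP : IsDefectGroup p M B P) (hPN : P ≤ N) : S ≤ N := by
  classical
  haveI hPr := isPrime_of_isPModular hM
  haveI : Fintype (N.subgroupOf S) := Fintype.ofFinite _
  haveI : Fintype (IrrCharacter S) := Fintype.ofFinite _
  obtain ⟨χ, hχ, θ, hθ, hne⟩ := hcov
  -- an intermediate constituent
  have h1 := rr_eq_sum N S hNS χ θ
  have hrr : rr N χ θ ≠ 0 := by
    intro h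
    apply hne
    rw [rr_spec, h]
    simp
  obtain ⟨η, haa, hcc⟩ : ∃ η : IrrCharacter S, aa S χ η ≠ 0 ∧ cc N S hNS η θ ≠ 0 := by
    by_contra hcon
    push Not at hcon
    apply hrr
    rw [h1]
    apply Finset.sum_eq_zero
    intro η _
    by_cases h : aa S χ η = 0
    · simp [h]
    · simp [hcon η h]
  have hbS : IsPBlock M (blockOf M (η : S → ℂ)) := ⟨η, rfl⟩
  have hcovS : ∃ χ ∈ B, ∃ η' ∈ blockOf M (η : S → ℂ),
      classInner (fun s : S => (χ : G → ℂ) s) (η' : S → ℂ) ≠ 0 := by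
    refine ⟨χ, hχ, η, mem_blockOf_self η, ?_⟩
    rw [aa_spec]
    exact_mod_cast haa
  have hc' : IsPBlock M (irrEquiv (Subgroup.subgroupOfEquivOfLe hNS) '' c) :=
    isPBlock_irrEquiv_image _ hc
  have hcov' : ∃ η' ∈ blockOf M (η : S → ℂ), ∃ θ' ∈ irrEquiv (Subgroup.subgroupOfEquivOfLe hNS) '' c,
      classInner (fun n : N.subgroupOf S => (η' : S → ℂ) n) (θ' : N.subgroupOf S → ℂ) ≠ 0 := by
    refine ⟨η, mem_blockOf_self η, _, ⟨θ, hθ, rfl⟩, ?_⟩
    rw [classInner_subgroupOf N S hNS]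
    have := cc_spec N S hNS η θ
    unfold resTo at this
    rw [this]
    exact_mod_cast hcc
  have hst' : ∀ x : S, StabilizesBlock (N.subgroupOf S)
      (irrEquiv (Subgroup.subgroupOfEquivOfLe hNS) '' c) x :=
    fun x => stabilizesBlock_subgroupOf N S hNS c x (hst x)
  obtain ⟨Q', hQ'⟩ := exists_isDefectGroup (p := p) hM η
  have htop := sup_defectGroup_eq_top (N.subgroupOf S) hM hidx _ hc' hst' _ hbS hcov' Q' hQ'
  -- Knörr
  have hQS : Q'.map S.subtype ≤ S := Subgroup.map_subtype_le Q'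
  have hQeq : (Q'.map S.subtype).subgroupOf S = Q' :=
    Subgroup.comap_map_eq_self_of_injective S.subtype_injective Q'
  obtain ⟨P', hP', hQP'⟩ := Knorr.exists_defectGroup_ge S hM hB hbS hcovS (Q'.map S.subtype) hQS
    (by rw [hQeq]; exact hQ')
  have hBeq := isPBlock_eq_blockOf hB hχ
  rw [hBeq] at hP hP'
  obtain ⟨g, hg⟩ := isDefectGroup_conj hM χ hP hP'
  have hP'N : P' ≤ N := by
    rw [hg]
    rintro _ ⟨u, hu, rfl⟩
    exact hN.conj_mem u (hPN hu) g
  have hQ'N : Q' ≤ N.subgroupOf S := by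
    intro q hq
    rw [Subgroup.mem_subgroupOf]
    exact hP'N (hQP' ⟨q, hq, rfl⟩)
  rw [sup_eq_left.2 hQ'N] at htop
  exact Subgroup.subgroupOf_eq_top.1 htop

end X

end Cfsg.Agent.Lib.H23.CoverStab
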