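import Mathlib
import Cfsg.Agent.Lib.L0.BrauerNormal

/-!
# `p'`-groups of automorphisms of a cyclic `p`-group

If `P` is a nontrivial cyclic `p`-subgroup of `G` and `C_G(P) ≤ T ≤ N_G(P)` with
`p ∤ |T : C_G(P)|`, then `T / C_G(P)` is cyclic of order dividing `p - 1` and acts freely on
`P \ {1}`.
-/

set_option autoImplicit false

namespace Cfsg.Agent.Lib.H23.CycAut

variable {G : Type*} [Group G] {p : ℕ} [Fact p.Prime]

/-- A coprime automorphism of an abelian `p`-group fixing all elements of order dividing `p` is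
trivial (stated for conjugation by an element of the normalizer). -/
theorem mem_centralizer_of_fix_omega (P : Subgroup G) (hP : IsPGroup p P)
    (hab : ∀ a ∈ P, ∀ b ∈ P, a * b = b * a) (t : G)
    (ht : t ∈ Subgroup.normalizer (P : Set G)) (m : ℕ) (hm : Nat.Coprime m p)
    (htm : t ^ m ∈ Subgroup.centralizer (P : Set G))
    (hfix : ∀ z ∈ P, z ^ p = 1 → t * z * t⁻¹ = z) :
    t ∈ Subgroup.centralizer (P : Set G) := by
  have hp : p.Prime := Fact.out
  have hconj : ∀ y ∈ P, t * y * t⁻¹ ∈ P := fun y hy => (Subgroup.mem_normalizer_iff.1 ht y).1 hy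
  have key : ∀ k : ℕ, ∀ y ∈ P, y ^ (p ^ k) = 1 → t * y * t⁻¹ = y := by
    intro k
    induction k with
    | zero =>
      intro y _ hy1
      rw [pow_zero, pow_one] at hy1
      rw [hy1]
      group
    | succ k ih =>
      intro y hy hy1
      have hyp : y ^ p ∈ P := P.pow_mem hy p
      have h1 : t * y ^ p * t⁻¹ = y ^ p := ih (y ^ p) hyp (by rw [← pow_mul, ← pow_succ']; exact hy1)
      set y' := t * y * t⁻¹ with hy'
      have hy'P : y' ∈ P := hconj y hy
      have h2 : y' ^ p = y ^ p := by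
        rw [hy', conj_pow]
        exact h1
      set z := y⁻¹ * y' with hz
      have hzP : z ∈ P := P.mul_mem (P.inv_mem hy) hy'P
      have hcomm : Commute y⁻¹ y' := hab _ (P.inv_mem hy) _ hy'P
      have hzp : z ^ p = 1 := by
        rw [hz, hcomm.mul_pow, h2, inv_pow, inv_mul_cancel]
      have hzfix : t * z * t⁻¹ = z := hfix z hzP hzp
      have hy'eq : y' = y * z := by rw [hz]; group
      have hpow : ∀ j : ℕ, t ^ j * y * (t ^ j)⁻¹ = y * z ^ j := by
        intro j
        induction j with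
        | zero => simp
        | succ j ihj =>
          have : t ^ (j + 1) * y * (t ^ (j + 1))⁻¹ = t * (t ^ j * y * (t ^ j)⁻¹) * t⁻¹ := by
            rw [pow_succ']
            group
          rw [this, ihj]
          have h3 : t * (y * z ^ j) * t⁻¹ = (t * y * t⁻¹) * (t * z * t⁻¹) ^ j := by
            rw [conj_pow]
            group
          rw [h3, hzfix, ← hy', hy'eq, mul_assoc, ← pow_succ']
      have h4 := hpow m
      have h5 : t ^ m * y * (t ^ m)⁻¹ = y := by
        have := Subgroup.mem_centralizer_iff.1 htm y hy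
        rw [← this]
        group
      rw [h5] at h4
      have hzm : z ^ m = 1 := by
        have := mul_left_cancel (a := y) (b := 1) (c := z ^ m) (by rw [mul_one]; exact h4)
        exact this.symm
      have hz1 : z = 1 := by
        have h6 : orderOf z ∣ m := orderOf_dvd_of_pow_eq_one hzm
        have h7 : orderOf z ∣ p := orderOf_dvd_of_pow_eq_one hzp
        have h8 : orderOf z ∣ Nat.gcd m p := Nat.dvd_gcd h6 h7
        rw [hm] at h8
        exact orderOf_eq_one_iff.1 (Nat.dvd_one.1 h8)
      rw [hy'eq, hz1, mul_one]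
  rw [Subgroup.mem_centralizer_iff]
  intro y hy
  obtain ⟨k, hk⟩ := hP ⟨y, hy⟩
  have hk' : y ^ (p ^ k) = 1 := by
    have := congrArg Subtype.val hk
    simpa using this
  have h := key k y hy hk'
  calc y * t = (t * y * t⁻¹) * t := by rw [h]
    _ = t * y := by group

/-- In a cyclic group, the elements with `z ^ p = 1` are the powers of any element of order `p`. -/
theorem mem_zpowers_of_pow_eq_one [Finite G] (P : Subgroup G) (hcyc : IsCyclic P) (w : G)
    (hw : w ∈ P) (hwo : orderOf w = p) (z : G) (hz : z ∈ P) (hzp : z ^ p = 1) :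
    z ∈ Subgroup.zpowers w := by
  classical
  have hp : p.Prime := Fact.out
  haveI : Fintype P := Fintype.ofFinite _
  have hle := IsCyclic.card_pow_eq_one_le (α := P) hp.pos
  set S : Finset P := Finset.univ.filter (fun a : P => a ^ p = 1) with hS
  set W : Finset P := Finset.univ.filter (fun a : P => (a : G) ∈ Subgroup.zpowers w) with hW
  have hWS : W ⊆ S := by
    intro a ha
    rw [hW, Finset.mem_filter] at ha
    rw [hS, Finset.mem_filter]
    refine ⟨Finset.mem_univ _, ?_⟩
    obtain ⟨i, hi⟩ := ha.2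
    apply Subtype.ext
    show (a : G) ^ p = 1
    rw [← hi, ← zpow_natCast, ← zpow_mul, mul_comm, zpow_mul, zpow_natCast, ← hwo,
      pow_orderOf_eq_one, one_zpow]
  have hWcard : W.card = p := by
    have e : {a : P // (a : G) ∈ Subgroup.zpowers w} ≃ Subgroup.zpowers w :=
      { toFun := fun a => ⟨(a.1 : G), a.2⟩
        invFun := fun b => ⟨⟨(b : G), Subgroup.zpowers_le.2 hw b.2⟩, b.2⟩
        left_inv := fun a => rfl
        right_inv := fun b => rfl }
    have h1 : W.card = Nat.card (Subgroup.zpowers w) := by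
      rw [← Nat.card_congr e, Nat.card_eq_fintype_card, Fintype.card_subtype]
    rw [h1, Nat.card_zpowers, hwo]
  have hSW : S = W := by
    symm
    apply Finset.eq_of_subset_of_card_le hWS
    rw [hWcard]
    exact hle
  have hzS : (⟨z, hz⟩ : P) ∈ S := by
    rw [hS, Finset.mem_filter]
    exact ⟨Finset.mem_univ _, Subtype.ext hzp⟩
  rw [hSW, hW, Finset.mem_filter] at hzS
  exact hzS.2

/-- A nontrivial element of a `p`-group has a power of order `p`. -/
theorem exists_pow_orderOf_eq (P : Subgroup G) (hP : IsPGroup p P) (x : G) (hx : x ∈ P)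
    (hx1 : x ≠ 1) : ∃ j : ℕ, orderOf (x ^ j) = p := by
  have hp : p.Prime := Fact.out
  obtain ⟨k, hk⟩ := (IsPGroup.iff_orderOf.1 hP) ⟨x, hx⟩
  have hk' : orderOf x = p ^ k := by rw [← hk, Subgroup.orderOf_mk]
  have hk0 : k ≠ 0 := by
    rintro rfl
    rw [pow_zero, orderOf_eq_one_iff] at hk'
    exact hx1 hk'
  refine ⟨p ^ (k - 1), ?_⟩
  rw [orderOf_pow_of_dvd (pow_ne_zero _ hp.ne_zero) (by rw [hk']; exact pow_dvd_pow p (by omega)),
    hk']
  have : p ^ k = p ^ (k - 1) * p := by rw [← pow_succ]; congr 1; omega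
  rw [this, Nat.mul_div_cancel_left _ (pow_pos hp.pos _)]

open Cfsg.Agent.Lib.L0.BrauerNormal Cfsg.Agent.Lib.L0.PrincipalBrauerPair in
/-- **Main theorem.** -/
theorem cyclic_quotient [Finite G] (P : Subgroup G) (hP : IsPGroup p P) (hP1 : P ≠ ⊥)
    (hcyc : IsCyclic P) (T : Subgroup G) (hCT : Subgroup.centralizer (P : Set G) ≤ T)
    (hTN : T ≤ Subgroup.normalizer (P : Set G))
    [hn : ((Subgroup.centralizer (P : Set G)).subgroupOf T).Normal]
    (hnd : ¬ p ∣ (Subgroup.centralizer (P : Set G)).relIndex T) :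
    IsCyclic (T ⧸ (Subgroup.centralizer (P : Set G)).subgroupOf T) ∧
      (Subgroup.centralizer (P : Set G)).relIndex T ∣ p - 1 ∧
      ∀ g ∈ T, ∀ x ∈ P, x ≠ 1 → g * x * g⁻¹ = x → g ∈ Subgroup.centralizer (P : Set G) := by
  classical
  have hp : p.Prime := Fact.out
  have hab : ∀ a ∈ P, ∀ b ∈ P, a * b = b * a := by
    intro a ha b hb
    have := isMulCommutative_iff.1 (IsCyclic.isMulCommutative (α := P)) ⟨a, ha⟩ ⟨b, hb⟩
    exact congrArg Subtype.val this
  set C := Subgroup.centralizer (P : Set G) with hC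
  set m := C.relIndex T with hm
  have hcop : Nat.Coprime m p := ((Nat.Prime.coprime_iff_not_dvd hp).2 hnd).symm
  have hpowm : ∀ t ∈ T, t ^ m ∈ C := by
    intro t ht
    have h1 : ((⟨t, ht⟩ : T) : T ⧸ C.subgroupOf T) ^ Nat.card (T ⧸ C.subgroupOf T) = 1 :=
      pow_card_eq_one'
    rw [← Subgroup.index_eq_card, ← QuotientGroup.mk_pow, QuotientGroup.eq_one_iff] at h1
    exact h1
  -- key lemma
  have hD : ∀ t ∈ T, ∀ w ∈ P, orderOf w = p → t * w * t⁻¹ = w → t ∈ C := by
    intro t ht w hw hwo htw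
    refine mem_centralizer_of_fix_omega P hP hab t (hTN ht) m hcop (hpowm t ht) ?_
    intro z hz hzp
    obtain ⟨i, rfl⟩ := mem_zpowers_of_pow_eq_one P hcyc w hw hwo z hz hzp
    show t * w ^ i * t⁻¹ = w ^ i
    rw [← conj_zpow, htw]
  have hfree : ∀ g ∈ T, ∀ x ∈ P, x ≠ 1 → g * x * g⁻¹ = x → g ∈ C := by
    intro g hg x hx hx1 hgx
    obtain ⟨j, hj⟩ := exists_pow_orderOf_eq P hP x hx hx1
    exact hD g hg (x ^ j) (P.pow_mem hx j) hj (by rw [← conj_pow, hgx])
  refine ⟨?_, ?_, hfree⟩
  all_goals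
    obtain ⟨x, hx1⟩ := (Subgroup.ne_bot_iff_exists_ne_one.1 hP1)
    have hx1' : (x : G) ≠ 1 := fun h => hx1 (Subtype.ext h)
    obtain ⟨j, hj⟩ := exists_pow_orderOf_eq P hP (x : G) x.2 hx1'
    set w := (x : G) ^ j with hw
    have hwP : w ∈ P := P.pow_mem x.2 j
    -- `T` normalizes `Ω = ⟨w⟩`
    have hmap : ∀ t ∈ T, ∀ h ∈ Subgroup.zpowers w, t * h * t⁻¹ ∈ Subgroup.zpowers w := by
      intro t ht h hh
      obtain ⟨i, rfl⟩ := hh
      show t * w ^ i * t⁻¹ ∈ Subgroup.zpowers w
      rw [← conj_zpow]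
      apply Subgroup.zpow_mem
      have h1 : t * w * t⁻¹ ∈ P := (Subgroup.mem_normalizer_iff.1 (hTN ht) w).1 hwP
      apply mem_zpowers_of_pow_eq_one P hcyc w hwP hj _ h1
      rw [conj_pow, ← hj, pow_orderOf_eq_one]
      group
    have hTΩ : T ≤ Subgroup.normalizer ((Subgroup.zpowers w : Subgroup G) : Set G) := by
      intro t ht
      rw [Subgroup.mem_normalizer_iff]
      intro h
      refine ⟨hmap t ht h, fun hh => ?_⟩
      have := hmap t⁻¹ (T.inv_mem ht) _ hh
      simpa [mul_assoc] using this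
    set r := conjHom T (Subgroup.zpowers w) hTΩ with hr
    have hker : r.ker = C.subgroupOf T := by
      ext t
      rw [MonoidHom.mem_ker, Subgroup.mem_subgroupOf]
      constructor
      · intro h
        apply hD (t : G) t.2 w hwP hj
        have h1 := congrArg (fun σ : MulAut (Subgroup.zpowers w) =>
          ((σ ⟨w, Subgroup.mem_zpowers w⟩ : Subgroup.zpowers w) : G)) h
        simp only [hr, conjHom_apply, conjAut_apply, MulAut.one_apply] at h1
        exact h1
      · intro h
        apply MulEquiv.ext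
        intro ω
        apply Subtype.ext
        rw [hr, conjHom_apply, conjAut_apply, MulAut.one_apply]
        have h2 := Subgroup.mem_centralizer_iff.1 h (ω : G) (Subgroup.zpowers_le.2 hwP ω.2)
        rw [← h2]
        group
    have hcardΩ : Nat.card (Subgroup.zpowers w) = p := by rw [Nat.card_zpowers, hj]
    haveI : Fact (Nat.card (Subgroup.zpowers w)).Prime := ⟨by rw [hcardΩ]; exact hp⟩
    haveI hcycAut : IsCyclic (MulAut (Subgroup.zpowers w)) :=
      isCyclic_of_injective (IsCyclic.mulAutMulEquiv (Subgroup.zpowers w)).toMonoidHom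
        (IsCyclic.mulAutMulEquiv (Subgroup.zpowers w)).injective
    have hcardAut : Nat.card (MulAut (Subgroup.zpowers w)) = p - 1 := by
      rw [IsCyclic.card_mulAut, hcardΩ, Nat.totient_prime hp]
    have hinj := QuotientGroup.kerLift_injective r
    let ε : T ⧸ C.subgroupOf T ≃* T ⧸ r.ker := QuotientGroup.quotientMulEquivOfEq hker.symm
    have hinj' : Function.Injective ((QuotientGroup.kerLift r).comp ε.toMonoidHom) :=
      hinj.comp ε.injective
  · exact isCyclic_of_injective _ hinj'
  · have h1 := Subgroup.card_dvd_of_injective _ hinj'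
    rw [hcardAut, ← Subgroup.index_eq_card] at h1
    exact h1

end Cfsg.Agent.Lib.H23.CycAut
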