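import Mathlib
import Cfsg.Agent.Lib.H3.DF0

/-!
# S4316, piece D12 (`card_le_commutator_mul_pow`), exact signature of
`tools/blueprints/S4316_sigs.lean` (helper23)

A group `T` generated by `|s|` subgroups of order `≤ m` has order `≤ |T'| m^|s|`: the abelianization of
`T` is a commutative group generated by the images of the `K a`.
-/

set_option autoImplicit false

universe u

namespace Cfsg.Agent.Lib.H23.DF

open Subgroup Cfsg.Agent.Lib.H3.DF
open scoped commutatorElement

/-- In a commutative group `|H ⊔ K| ≤ |H| |K|`. -/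
theorem card_sup_le_mul_of_comm {A : Type*} [CommGroup A] [Finite A] (H K : Subgroup A) :
    Nat.card ↥(H ⊔ K) ≤ Nat.card H * Nat.card K := by
  rw [← Nat.card_prod]
  refine Nat.card_le_card_of_surjective
    (fun x : H × K => (⟨(x.1 : A) * (x.2 : A),
      mul_mem (mem_sup_left x.1.2) (mem_sup_right x.2.2)⟩ : ↥(H ⊔ K))) ?_
  rintro ⟨y, hy⟩
  obtain ⟨h, hh, k, hk, rfl⟩ := mem_sup.1 hy
  exact ⟨(⟨h, hh⟩, ⟨k, hk⟩), rfl⟩

/-- In a commutative group a supremum of subgroups has order at most the product of the orders. -/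
theorem card_biSup_le_prod_of_comm {A : Type*} [CommGroup A] [Finite A] {ι : Type*}
    [DecidableEq ι] (s : Finset ι) (H : ι → Subgroup A) :
    Nat.card ↥(⨆ a ∈ s, H a) ≤ ∏ a ∈ s, Nat.card (H a) := by
  induction s using Finset.induction_on with
  | empty => simp
  | insert a s ha ih =>
    rw [Finset.iSup_insert, Finset.prod_insert ha]
    exact (card_sup_le_mul_of_comm _ _).trans (Nat.mul_le_mul_left _ ih)

variable {Γ : Type u} [Group Γ] [Finite Γ]

/-- D12. A group generated by `|s|` subgroups of order `≤ m` has order `≤ |T'| m^|s|`. -/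
theorem card_le_commutator_mul_pow (T : Subgroup Γ) (s : Finset Γ) (K : Γ → Subgroup Γ) (m : ℕ)
    (hT : T = ⨆ a ∈ s, K a) (hK : ∀ a ∈ s, Nat.card (K a) ≤ m) :
    Nat.card T ≤ Nat.card ↥⁅T, T⁆ * m ^ s.card := by
  classical
  have hKT : ∀ a ∈ s, K a ≤ T := fun a ha => by
    rw [hT]; exact le_biSup K ha
  -- the abelianization
  let f : ↥T →* Abelianization ↥T := Abelianization.of
  have hf : Function.Surjective f := QuotientGroup.mk_surjective
  let H : Γ → Subgroup (Abelianization ↥T) := fun a => ((K a).subgroupOf T).map f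
  -- `|T| = |T'| |T/T'|`
  have h1 : Nat.card ↥T = Nat.card (Abelianization ↥T) * Nat.card (_root_.commutator ↥T) :=
    Subgroup.card_eq_card_quotient_mul_card_subgroup (_root_.commutator ↥T)
  have h2 : Nat.card (_root_.commutator ↥T) = Nat.card ↥⁅T, T⁆ := by
    rw [← Subgroup.map_subtype_commutator T]
    exact (Subgroup.card_map_of_injective T.subtype_injective).symm
  -- the images of the `K a` generate the abelianization
  have h3 : (⊤ : Subgroup (Abelianization ↥T)) = ⨆ a ∈ s, H a := by
    refine le_antisymm ?_ le_top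
    intro y _
    obtain ⟨x, rfl⟩ := hf y
    have hW : T ≤ ((⨆ a ∈ s, H a).comap f).map T.subtype := by
      conv_lhs => rw [hT]
      refine iSup₂_le fun a ha k hk => ?_
      refine ⟨⟨k, hKT a ha hk⟩, ?_, rfl⟩
      rw [SetLike.mem_coe, Subgroup.mem_comap]
      refine (le_biSup H ha) ?_
      exact ⟨⟨k, hKT a ha hk⟩, by rwa [SetLike.mem_coe, Subgroup.mem_subgroupOf], rfl⟩
    obtain ⟨z, hz, hzx⟩ := hW x.2
    have : z = x := Subtype.ext hzx
    rw [← this]
    exact hz
  have h4 : Nat.card (Abelianization ↥T) ≤ m ^ s.card := by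
    rw [← Subgroup.card_top (G := Abelianization ↥T), h3]
    refine (card_biSup_le_prod_of_comm s H).trans ?_
    rw [← Finset.prod_const]
    refine Finset.prod_le_prod' fun a ha => ?_
    refine le_trans ?_ (hK a ha)
    have h5 : Nat.card ↥(H a) ≤ Nat.card ↥((K a).subgroupOf T) :=
      Nat.card_le_card_of_surjective _ (f.subgroupMap_surjective ((K a).subgroupOf T))
    refine h5.trans ?_
    exact le_of_eq (Nat.card_congr (Subgroup.subgroupOfEquivOfLe (hKT a ha)).toEquiv)
  rw [h1, h2, mul_comm]
  exact Nat.mul_le_mul_left _ h4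

end Cfsg.Agent.Lib.H23.DF
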