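import Mathlib
import Cfsg.Prelude.Def_DegreeGraph
import Cfsg.Agent.Lib.H23.CliffordCorr
import Cfsg.Agent.Lib.L0.CharLinear
import Cfsg.Agent.Lib.L0.CharDegree

/-!
# S3670 piece INDIRR (architect helper3): inducing a linear character with trivial stabilizer from an abelian
normal subgroup gives an irreducible character of degree the index
-/

set_option autoImplicit false
set_option linter.style.haveILetI false
set_option linter.unusedSectionVars false

open Cfsg
open scoped ComplexConjugate

namespace Cfsg.Agent.Lib.H23.DG

open Cfsg.Agent.Lib.L0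

/-- INDIRR. -/
theorem isIrr_indFun_of_trivial_stab {H : Type*} [Group H] [Fintype H] (A : Subgroup H) [A.Normal]
    (hA : ∀ a ∈ A, ∀ b ∈ A, a * b = b * a) (L : H → ℂ)
    (hL : IsCharacter A (fun a : A => L a)) (h1 : L 1 = 1)
    (hstab : ∀ h : H, h ∉ A → ∃ a ∈ A, L (h * a * h⁻¹) ≠ L a) :
    IsIrrCharacter H (indFun A (fun a : A => L a)) ∧
      charDegree (indFun A (fun a : A => L a)) = A.index := by
  classical
  haveI : Fintype ↥A := Fintype.ofFinite _
  set lam : ↥A → ℂ := fun a : A => L a with hlam
  have hlam1 : lam 1 = 1 := h1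
  -- `lam` is irreducible
  have hirr : IsIrrCharacter ↥A lam := by
    have := isIrrCharacter_of_hom (linearCharHom hL hlam1)
    exact this
  -- inertia group is `A`
  have hT : ∀ g : H, g ∈ A ↔
      ∀ n : ↥A, lam ⟨g * n * g⁻¹, (inferInstance : A.Normal).conj_mem (n : H) n.2 g⟩ = lam n := by
    intro g
    constructor
    · intro hg n
      have : g * (n : H) * g⁻¹ = (n : H) := by
        rw [hA g hg n n.2, mul_assoc, mul_inv_cancel, mul_one]
      simp only [hlam, this]
    · intro hg
      by_contra hgA
      obtain ⟨a, ha, hne⟩ := hstab g hgA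
      exact hne (hg ⟨a, ha⟩)
  have hf : classInner (resTo A A le_rfl lam) lam ≠ 0 := by
    have : resTo A A le_rfl lam = lam := by
      funext n
      rfl
    rw [this, irr_classInner_self hirr]
    exact one_ne_zero
  have key := isIrrCharacter_indFun_inertia A A le_rfl lam hirr hT lam hirr hf
  refine ⟨key.1, ?_⟩
  unfold charDegree
  rw [indFun_apply_one, hlam1, mul_one]
  simp

end Cfsg.Agent.Lib.H23.DG
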