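import Mathlib
import Cfsg.Prelude.Def_DegreeGraph
import Cfsg.Agent.Lib.H23.PElementZero
import Cfsg.Agent.Lib.H23.CharGalois
import Cfsg.Agent.Lib.H24.CharOrth

/-!
# S3670 piece NZ (architect helper3): few characters of `p'`-degree when a `p`-element has a small centralizer
-/

set_option autoImplicit false
set_option linter.style.haveILetI false
set_option linter.unusedSectionVars false

open Cfsg
open scoped ComplexConjugate

namespace Cfsg.Agent.Lib.H23.DG

/-- `C(g^k) = C(g)` when `k` is a unit modulo `n` and `g ^ n = 1`. -/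
theorem centralizer_pow_unit {G : Type*} [Group G] (n : ℕ) [NeZero n] (g : G) (hg : g ^ n = 1)
    (k : (ZMod n)ˣ) :
    Subgroup.centralizer ({g ^ (k : ZMod n).val} : Set G) = Subgroup.centralizer ({g} : Set G) := by
  have hback : (g ^ (k : ZMod n).val) ^ ((k⁻¹ : (ZMod n)ˣ) : ZMod n).val = g := by
    rw [← pow_mul]
    have h1 : (((k : ZMod n).val * ((k⁻¹ : (ZMod n)ˣ) : ZMod n).val : ℕ) : ZMod n) = 1 := by
      rw [Nat.cast_mul, ZMod.natCast_zmod_val, ZMod.natCast_zmod_val]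
      exact_mod_cast k.mul_inv
    have h2 : (k : ZMod n).val * ((k⁻¹ : (ZMod n)ˣ) : ZMod n).val ≡ 1 [MOD n] := by
      rw [← ZMod.natCast_eq_natCast_iff]
      rw [h1]; simp
    have h3 : (k : ZMod n).val * ((k⁻¹ : (ZMod n)ˣ) : ZMod n).val ≡ 1 [MOD orderOf g] :=
      h2.of_dvd (orderOf_dvd_of_pow_eq_one hg)
    have := (pow_eq_pow_iff_modEq (x := g)).mpr h3
    rw [this, pow_one]
  ext x
  simp only [Subgroup.mem_centralizer_iff, Set.mem_singleton_iff, forall_eq]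
  constructor
  · intro h
    have h' : Commute (g ^ (k : ZMod n).val) x := h
    have := h'.pow_left (((k⁻¹ : (ZMod n)ˣ) : ZMod n).val)
    rw [hback] at this
    exact this
  · intro h
    have h' : Commute g x := h
    exact h'.pow_left _

/-- `∑_χ ‖χ(x)‖² = |C(x)|`. -/
theorem sum_normSq_irr {G : Type*} [Group G] [Finite G] [Fintype (IrrCharacter G)] (x : G) :
    ∑ χ : IrrCharacter G, ‖(χ : G → ℂ) x‖ ^ 2 =
      (Nat.card (Subgroup.centralizer ({x} : Set G)) : ℝ) := by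
  classical
  haveI : Fintype G := Fintype.ofFinite G
  have h := Cfsg.Agent.Lib.H24.second_orthogonality (G := G) x x
  rw [if_pos (IsConj.refl x)] at h
  apply Complex.ofReal_injective
  rw [Complex.ofReal_sum, Complex.ofReal_natCast, ← h]
  refine Finset.sum_congr rfl (fun χ _ => ?_)
  rw [Complex.mul_conj, Complex.normSq_eq_norm_sq]

/-- NZ. -/
theorem card_not_dvd_le {G : Type*} [Group G] [Finite G] (p : ℕ) [Fact p.Prime] (g : G)
    (hg : ∃ j : ℕ, orderOf g = p ^ j) :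
    Nat.card {χ : IrrCharacter G // ¬ p ∣ charDegree (χ : G → ℂ)} ≤
      Nat.card (Subgroup.centralizer ({g} : Set G)) := by
  classical
  haveI : Fintype (IrrCharacter G) := Fintype.ofFinite _
  set n := orderOf g with hn
  have hnpos : 0 < n := orderOf_pos g
  haveI : NeZero n := ⟨hnpos.ne'⟩
  have hgn : g ^ n = 1 := pow_orderOf_eq_one g
  set S : Finset (IrrCharacter G) :=
    Finset.univ.filter (fun χ => ¬ p ∣ charDegree (χ : G → ℂ)) with hS
  have hcardS : Nat.card {χ : IrrCharacter G // ¬ p ∣ charDegree (χ : G → ℂ)} = S.card := by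
    rw [Nat.card_eq_fintype_card, Fintype.card_subtype]
  -- each χ ∈ S
  have hone : ∀ χ ∈ S, (Fintype.card (ZMod n)ˣ : ℝ) ≤
      ∑ k : (ZMod n)ˣ, ‖(χ : G → ℂ) (g ^ (k : ZMod n).val)‖ ^ 2 := by
    intro χ hχ
    have hnd : ¬ p ∣ charDegree (χ : G → ℂ) := (Finset.mem_filter.mp hχ).2
    obtain ⟨d, ρ, _, hρ⟩ := χ.2
    have hne : (χ : G → ℂ) g ≠ 0 := by
      intro h0
      exact hnd (Cfsg.Agent.Lib.H23.prime_dvd_charDegree_of_eq_zero p (χ : G → ℂ) ⟨d, ρ, hρ⟩ g hg h0)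
    have := Cfsg.Agent.Lib.H23.card_units_le_sum_normSq_char_pow n ρ g hgn (by rw [hρ]; exact hne)
    rw [hρ] at this
    exact this
  have hφpos : (0 : ℝ) < Fintype.card (ZMod n)ˣ := by
    exact_mod_cast Fintype.card_pos
  -- sum over S
  have h1 : (S.card : ℝ) * (Fintype.card (ZMod n)ˣ : ℝ) ≤
      ∑ χ ∈ S, ∑ k : (ZMod n)ˣ, ‖(χ : G → ℂ) (g ^ (k : ZMod n).val)‖ ^ 2 := by
    rw [← nsmul_eq_mul, ← Finset.sum_const]
    exact Finset.sum_le_sum hone
  have h2 : ∑ χ ∈ S, ∑ k : (ZMod n)ˣ, ‖(χ : G → ℂ) (g ^ (k : ZMod n).val)‖ ^ 2 ≤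
      ∑ χ : IrrCharacter G, ∑ k : (ZMod n)ˣ, ‖(χ : G → ℂ) (g ^ (k : ZMod n).val)‖ ^ 2 := by
    apply Finset.sum_le_sum_of_subset_of_nonneg (Finset.subset_univ S)
    intro χ _ _
    positivity
  have h3 : ∑ χ : IrrCharacter G, ∑ k : (ZMod n)ˣ, ‖(χ : G → ℂ) (g ^ (k : ZMod n).val)‖ ^ 2 =
      (Fintype.card (ZMod n)ˣ : ℝ) * (Nat.card (Subgroup.centralizer ({g} : Set G)) : ℝ) := by
    rw [Finset.sum_comm]
    rw [Finset.sum_congr rfl (fun k _ => by
      rw [sum_normSq_irr (g ^ (k : ZMod n).val), centralizer_pow_unit n g hgn k])]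
    rw [Finset.sum_const, Finset.card_univ, nsmul_eq_mul]
  have h4 : (S.card : ℝ) * (Fintype.card (ZMod n)ˣ : ℝ) ≤
      (Fintype.card (ZMod n)ˣ : ℝ) * (Nat.card (Subgroup.centralizer ({g} : Set G)) : ℝ) :=
    (h1.trans h2).trans_eq h3
  have h5 : (S.card : ℝ) ≤ (Nat.card (Subgroup.centralizer ({g} : Set G)) : ℝ) := by
    rw [mul_comm] at h4
    exact le_of_mul_le_mul_left h4 hφpos
  rw [hcardS]
  exact_mod_cast h5

end Cfsg.Agent.Lib.H23.DG
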