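import Mathlib
import Cfsg.Prelude.Def_Characters
import Cfsg.Agent.Lib.H23.DadeLemma
import Cfsg.Agent.Lib.H23.DefectZero
import Cfsg.Agent.Lib.H23.BrauerThm
import Cfsg.Agent.Lib.H23.LinearExt
import Cfsg.Agent.Lib.H23.FullyRamified
import Cfsg.Agent.Lib.H24.CentralExt
import Cfsg.Agent.Lib.H24.CharAbelian
import Cfsg.Agent.Lib.L0.CharIndChar
import Cfsg.Agent.Lib.L0.CharLinear

/-!
# Isaacs 8.26 (Dade): extension of invariant characters under a central Sylow intersection
-/

set_option autoImplicit false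

namespace Cfsg.Agent.Lib.H23

open Cfsg Cfsg.Agent.Lib.L0 Cfsg.Agent.Lib.H24
open scoped ComplexConjugate

section group

variable {E : Type*} [Group E] [Finite E]

omit [Finite E] in
/-- Elements of order prime to `p` lie in every normal subgroup of `p`-power index. -/
theorem mem_of_coprime_orderOf_of_index_pow (D : Subgroup E) [D.Normal] {p : ℕ}
    (hidx : ∃ j : ℕ, D.index = p ^ j) (e : E) (he : (orderOf e).Coprime p) : e ∈ D := by
  obtain ⟨j, hj⟩ := hidx
  rw [← QuotientGroup.eq_one_iff]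
  have h1 : orderOf (e : E ⧸ D) ∣ orderOf e := orderOf_map_dvd (QuotientGroup.mk' D) e
  have h2 : orderOf (e : E ⧸ D) ∣ p ^ j := by
    rw [← hj, Subgroup.index_eq_card]
    exact orderOf_dvd_natCard _
  have h3 : orderOf (e : E ⧸ D) = 1 := by
    apply Nat.eq_one_of_dvd_coprimes (Nat.Coprime.pow_right j he) h1 h2
  exact orderOf_eq_one_iff.mp h3

/-- Extension of a homomorphism from a normal subgroup of `p`-power index of a nilpotent group,
given an extension on the Sylow `p`-subgroup. -/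
theorem exists_hom_extension_of_nilpotent [Group.IsNilpotent E] (D : Subgroup E) [D.Normal]
    {p : ℕ} (hidx : ∃ j : ℕ, D.index = p ^ j) (φ : D →* ℂˣ)
    (P K : Subgroup E) (hPK : Nat.card P * Nat.card K = Nat.card E)
    (hP : ∃ a, Nat.card P = p ^ a) (hK : (Nat.card K).Coprime p)
    (hcomm : ∀ u ∈ P, ∀ k ∈ K, u * k = k * u)
    (μ : P →* ℂˣ) (hμ : ∀ (u : P) (hu : (u : E) ∈ D), μ u = φ ⟨u, hu⟩) :
    ∃ Φ : E →* ℂˣ, ∀ d : D, Φ d = φ d := by
  have hKD : K ≤ D := by
    intro k hk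
    apply mem_of_coprime_orderOf_of_index_pow D hidx
    have h2 : orderOf k ∣ Nat.card K := by
      have := orderOf_dvd_natCard (⟨k, hk⟩ : K)
      rwa [Subgroup.orderOf_mk] at this
    exact Nat.Coprime.coprime_dvd_left h2 hK
  obtain ⟨a, ha⟩ := hP
  have hcop : (Nat.card K).Coprime (Nat.card P) := by
    rw [ha]
    exact Nat.Coprime.pow_right a hK
  have hcompl : K.IsComplement' P :=
    Subgroup.isComplement'_of_coprime (by rw [mul_comm]; exact hPK) hcop
  let ι : K × P →* E := MonoidHom.noncommCoprod K.subtype P.subtype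
    (fun k u => (hcomm u u.2 k k.2).symm)
  have hι : ∀ x : K × P, ι x = (x.1 : E) * (x.2 : E) := fun x => rfl
  have hbij : Function.Bijective ι := hcompl
  let e : K × P ≃* E := MulEquiv.ofBijective ι hbij
  let Ψ : K × P →* ℂˣ := MonoidHom.coprod (φ.comp (Subgroup.inclusion hKD)) μ
  refine ⟨Ψ.comp e.symm.toMonoidHom, fun d => ?_⟩
  obtain ⟨⟨k, u⟩, hku⟩ := hbij.2 (d : E)
  have hku' : (k : E) * (u : E) = d := hku
  have hsymm : e.symm (d : E) = (k, u) := by
    rw [MulEquiv.symm_apply_eq]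
    exact hku.symm
  have huD : (u : E) ∈ D := by
    have : (u : E) = (k : E)⁻¹ * d := by rw [← hku']; group
    rw [this]
    exact D.mul_mem (D.inv_mem (hKD k.2)) d.2
  show Ψ (e.symm (d : E)) = φ d
  rw [hsymm]
  show (φ.comp (Subgroup.inclusion hKD)) k * μ u = φ d
  rw [hμ u huD, MonoidHom.comp_apply, ← map_mul]
  congr 1
  apply Subtype.ext
  exact hku'

end group

section keyIdentity'

variable {G : Type*} [Group G] [Fintype G] (N : Subgroup G) [hN : N.Normal]

omit [Fintype G] in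
theorem isClassFunction_extendByZero_of_invariant (θ : N → ℂ)
    (hinv : ∀ (g : G) (n : N), θ ⟨g * n * g⁻¹, hN.conj_mem (n : G) n.2 g⟩ = θ n) :
    IsClassFunction G (extendByZero N θ) := by
  intro g h
  by_cases hg : g ∈ N
  · rw [extendByZero_apply_of_mem N _ (hN.conj_mem g hg h), extendByZero_apply_of_mem N _ hg]
    exact hinv h ⟨g, hg⟩
  · have hg' : h * g * h⁻¹ ∉ N := by
      intro hmem
      apply hg
      have := hN.conj_mem _ hmem h⁻¹
      have h2 : h⁻¹ * (h * g * h⁻¹) * h⁻¹⁻¹ = g := by group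
      rwa [h2] at this
    rw [extendByZero_apply_not_mem N _ hg, extendByZero_apply_not_mem N _ hg']

omit [Fintype G] hN in
theorem conj_extendByZero (θ : N → ℂ) (g : G) :
    conj (extendByZero N θ g) = extendByZero N (fun n => conj (θ n)) g := by
  by_cases hg : g ∈ N
  · rw [extendByZero_apply_of_mem N _ hg, extendByZero_apply_of_mem N _ hg]
  · rw [extendByZero_apply_not_mem N _ hg, extendByZero_apply_not_mem N _ hg, map_zero]

/-- Restriction to `N` of an induced function, paired with an invariant function of `N`. -/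
theorem classInner_restrict_indFun_invariant [Fintype N] (θ : N → ℂ)
    (hinv : ∀ (g : G) (n : N), θ ⟨g * n * g⁻¹, hN.conj_mem (n : G) n.2 g⟩ = θ n)
    (E : Subgroup G) [Fintype E] [Fintype (N.subgroupOf E)] (ψ : E → ℂ) :
    classInner (fun n : N => indFun E ψ n) θ =
      ((E ⊔ N).index : ℂ) *
        classInner (fun x : N.subgroupOf E => ψ x)
          (fun x : N.subgroupOf E => θ ⟨((x : E) : G), x.2⟩) := by
  set f : G → ℂ := extendByZero N θ with hf
  have hfc : IsClassFunction G f := isClassFunction_extendByZero_of_invariant N θ hinv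
  have hL : ∑ n : N, indFun E ψ n * conj (θ n) =
      (Nat.card G : ℂ) * classInner (indFun E ψ) f := by
    have h1 : ∑ n : N, indFun E ψ n * conj (θ n) =
        ∑ n : N, (fun n => conj (θ n)) n * indFun E ψ n :=
      Finset.sum_congr rfl fun n _ => by ring
    rw [h1, ← sum_extendByZero_mul N (fun n => conj (θ n)) (indFun E ψ)]
    unfold classInner
    rw [← mul_assoc, mul_inv_cancel₀, one_mul]
    · refine Finset.sum_congr rfl fun g _ => ?_
      rw [conj_extendByZero, mul_comm]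
    · exact_mod_cast (Nat.card_pos (α := G)).ne'
  have hR : classInner ψ (fun e : E => f e) =
      (Nat.card E : ℂ)⁻¹ * ∑ x : N.subgroupOf E,
        ψ x * conj (θ ⟨((x : E) : G), x.2⟩) := by
    unfold classInner
    congr 1
    have h2 : ∑ e : E, ψ e * conj (f e) =
        ∑ e : E, extendByZero (N.subgroupOf E)
          (fun x => (fun n : N => conj (θ n)) ⟨((x : E) : G), x.2⟩) e * ψ e := by
      refine Finset.sum_congr rfl fun e _ => ?_
      rw [conj_extendByZero, extendByZero_subgroupOf N E (fun n : N => conj (θ n)) e, mul_comm]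
    rw [h2, sum_extendByZero_mul]
    refine Finset.sum_congr rfl fun x _ => ?_
    ring
  have hcard := card_identity N E
  have hcardC : (Nat.card G : ℂ) * (Nat.card (N.subgroupOf E) : ℂ) =
      ((E ⊔ N).index : ℂ) * ((Nat.card N : ℂ) * (Nat.card E : ℂ)) := by exact_mod_cast hcard
  have hN0 : (Nat.card N : ℂ) ≠ 0 := by exact_mod_cast (Nat.card_pos (α := N)).ne'
  have hE0 : (Nat.card E : ℂ) ≠ 0 := by exact_mod_cast (Nat.card_pos (α := E)).ne'
  have hD0 : (Nat.card (N.subgroupOf E) : ℂ) ≠ 0 := by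
    exact_mod_cast (Nat.card_pos (α := N.subgroupOf E)).ne'
  have hLHS : classInner (fun n : N => indFun E ψ n) θ =
      (Nat.card N : ℂ)⁻¹ * ((Nat.card G : ℂ) * classInner (indFun E ψ) f) := by
    rw [← hL]
    rfl
  rw [hLHS, frobenius_reciprocity E ψ f hfc, hR]
  unfold classInner
  set T := ∑ x : N.subgroupOf E, ψ x * conj (θ ⟨((x : E) : G), x.2⟩) with hT
  field_simp
  linear_combination T * hcardC

end keyIdentity'

open scoped Pointwise in
theorem exists_conj_le_sylow {G : Type*} [Group G] [Finite G] {p : ℕ} [Fact p.Prime]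
  (P : Sylow p G) (U : Subgroup G) (hU : IsPGroup p U) :
    ∃ g : G, ∀ u ∈ U, g⁻¹ * u * g ∈ (P : Subgroup G) := by
  obtain ⟨Q, hQ⟩ := hU.exists_le_sylow
  obtain ⟨g, hg⟩ := MulAction.exists_smul_eq G P Q
  refine ⟨g, fun u hu => ?_⟩
  have h1 : u ∈ ((g • P : Sylow p G) : Subgroup G) := by rw [hg]; exact hQ hu
  rw [Sylow.coe_subgroup_smul, Subgroup.mem_pointwise_smul_iff_inv_smul_mem] at h1
  simpa [MulAut.smul_def] using h1

section sylowTransport

variable {G : Type*} [Group G] [Finite G] (N : Subgroup G) [hN : N.Normal] {p : ℕ} [Fact p.Prime]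
  (P : Sylow p G)

theorem central_inf_of_pgroup
    (hcent : ∀ x ∈ (P : Subgroup G) ⊓ N, ∀ y ∈ (P : Subgroup G), x * y = y * x)
    (U : Subgroup G) (hU : IsPGroup p U) : ∀ x ∈ U ⊓ N, ∀ y ∈ U, x * y = y * x := by
  obtain ⟨g, hg⟩ := exists_conj_le_sylow P U hU
  intro x hx y hy
  have hxN : g⁻¹ * x * g ∈ N := by
    have := hN.conj_mem x hx.2 g⁻¹
    rwa [inv_inv] at this
  have h1 := hcent (g⁻¹ * x * g) ⟨hg x hx.1, hxN⟩ (g⁻¹ * y * g) (hg y hy)
  have h2 : g⁻¹ * (x * y) * g = g⁻¹ * (y * x) * g := by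
    calc g⁻¹ * (x * y) * g = (g⁻¹ * x * g) * (g⁻¹ * y * g) := by group
      _ = (g⁻¹ * y * g) * (g⁻¹ * x * g) := h1
      _ = g⁻¹ * (y * x) * g := by group
  exact mul_left_cancel (mul_right_cancel h2)

theorem exists_hom_extension_of_pgroup
    (hcent : ∀ x ∈ (P : Subgroup G) ⊓ N, ∀ y ∈ (P : Subgroup G), x * y = y * x)
    (hlin : ∀ lam : ↥((P : Subgroup G) ⊓ N) →* ℂˣ, ∃ μ : ↥(P : Subgroup G) →* ℂˣ,
      ∀ x : ↥((P : Subgroup G) ⊓ N), μ ⟨(x : G), x.2.1⟩ = lam x)
    (U : Subgroup G) (hU : IsPGroup p U) (lam : ↥(U ⊓ N) →* ℂˣ) :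
    ∃ μ : ↥U →* ℂˣ, ∀ x : ↥(U ⊓ N), μ ⟨(x : G), x.2.1⟩ = lam x := by
  obtain ⟨g, hg⟩ := exists_conj_le_sylow P U hU
  have hconjN : ∀ x ∈ N, g⁻¹ * x * g ∈ N := by
    intro x hx
    have := hN.conj_mem x hx g⁻¹
    rwa [inv_inv] at this
  let A := ↥((P : Subgroup G) ⊓ N)
  let instA : CommGroup A :=
    { (inferInstance : Group A) with
      mul_comm := fun a b => Subtype.ext (hcent a a.2 b b.2.1) }
  let ι : ↥(U ⊓ N) →* A := MonoidHom.mk'
    (fun x => ⟨g⁻¹ * x * g, ⟨hg x x.2.1, hconjN x x.2.2⟩⟩)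
    (fun a b => by
      apply Subtype.ext
      show g⁻¹ * (a * b : G) * g = (g⁻¹ * a * g) * (g⁻¹ * b * g)
      group)
  have hι : Function.Injective ι := by
    intro a b hab
    have h1 : g⁻¹ * (a : G) * g = g⁻¹ * (b : G) * g := congrArg Subtype.val hab
    exact Subtype.ext (mul_left_cancel (mul_right_cancel h1))
  let H : Subgroup A := ι.range
  let eH : ↥(U ⊓ N) ≃* H := MonoidHom.ofInjective hι
  let lamH : H →* ℂˣ := lam.comp eH.symm.toMonoidHom
  have : NeZero ((Monoid.exponent A : ℕ) : ℂ) :=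
    ⟨by exact_mod_cast Monoid.exponent_ne_zero_of_finite⟩
  obtain ⟨lamA, hlamA⟩ := MonoidHom.domRestrict_surjective (M := ℂ) H lamH
  obtain ⟨μP, hμP⟩ := hlin lamA
  let κ : ↥U →* ↥(P : Subgroup G) := MonoidHom.mk'
    (fun u => ⟨g⁻¹ * u * g, hg u u.2⟩)
    (fun a b => by
      apply Subtype.ext
      show g⁻¹ * (a * b : G) * g = (g⁻¹ * a * g) * (g⁻¹ * b * g)
      group)
  refine ⟨μP.comp κ, fun x => ?_⟩
  have h1 : (μP.comp κ) ⟨(x : G), x.2.1⟩ = lamA (ι x) := hμP (ι x)
  rw [h1]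
  have h2 : lamA (ι x) = lamH ⟨ι x, ⟨x, rfl⟩⟩ := by
    rw [← hlamA]
    rfl
  rw [h2]
  show lam (eH.symm ⟨ι x, ⟨x, rfl⟩⟩) = lam x
  congr 1
  rw [MulEquiv.symm_apply_eq]
  rfl

end sylowTransport

section dade

variable {G : Type*} [Group G] [Fintype G] (N : Subgroup G) [hN : N.Normal]

omit [Fintype G] hN in
/-- Some member of a list of characters contains `ϑ` with multiplicity prime to `p`. -/
theorem exists_mem_classInner_restrict_not_dvd [Fintype N] (p : ℕ) (ϑ : N → ℂ)
    (hϑ : IsIrrCharacter N ϑ) :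
    ∀ (l : List (G → ℂ)), (∀ χ ∈ l, IsIrrCharacter G χ) → ∀ a : ℕ,
      classInner (fun n : N => l.sum (n : G)) ϑ = a → ¬ p ∣ a →
      ∃ χ ∈ l, ∃ e : ℕ, classInner (fun n : N => χ (n : G)) ϑ = e ∧ ¬ p ∣ e := by
  intro l
  induction l with
  | nil =>
    intro _ a ha hpa
    exfalso
    apply hpa
    have : (fun n : N => ([] : List (G → ℂ)).sum (n : G)) = 0 := rfl
    rw [this, classInner_zero_left] at ha
    have : a = 0 := by exact_mod_cast ha.symm
    rw [this]
    exact dvd_zero p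
  | cons χ l ih =>
    intro hl a ha hpa
    have hχ : IsIrrCharacter G χ := hl χ List.mem_cons_self
    have hl' : ∀ χ' ∈ l, IsIrrCharacter G χ' := fun χ' h => hl χ' (List.mem_cons_of_mem _ h)
    obtain ⟨e, he⟩ := classInner_char_irr_nat
      (isCharacter_restrict N (isCharacter_of_irr hχ)) hϑ
    have hlchar : IsCharacter G l.sum :=
      isCharacter_list_sum (fun χ' h => isCharacter_of_irr (hl' χ' h))
    obtain ⟨a', ha'⟩ := classInner_char_irr_nat (isCharacter_restrict N hlchar) hϑ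
    have hsplit : (fun n : N => (χ :: l).sum (n : G)) =
        (fun n : N => χ (n : G)) + (fun n : N => l.sum (n : G)) := by
      funext n
      simp [List.sum_cons]
    rw [hsplit, classInner_add_left] at ha
    have he' : classInner (fun n : N => χ (n : G)) ϑ = e := he
    have ha'' : classInner (fun n : N => l.sum (n : G)) ϑ = a' := ha'
    rw [he', ha''] at ha
    have hsum : a = e + a' := by exact_mod_cast ha.symm
    by_cases hpe : p ∣ e
    · have hpa' : ¬ p ∣ a' := by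
        intro h
        apply hpa
        rw [hsum]
        exact dvd_add hpe h
      obtain ⟨χ', hχ', e', he', hpe'⟩ := ih hl' a' ha'' hpa'
      exact ⟨χ', List.mem_cons_of_mem _ hχ', e', he', hpe'⟩
    · exact ⟨χ, List.mem_cons_self, e, he', hpe⟩

/-- **Isaacs 8.26 (Dade)**, with the hypothesis on linear characters in homomorphism form. -/
theorem dade_extension (p : ℕ) [Fact p.Prime] (hind : ∃ k : ℕ, N.index = p ^ k)
    (P : Sylow p G)
    (hcent : ∀ x ∈ (P : Subgroup G) ⊓ N, ∀ y ∈ (P : Subgroup G), x * y = y * x)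
    (hlin : ∀ lam : ↥((P : Subgroup G) ⊓ N) →* ℂˣ, ∃ μ : ↥(P : Subgroup G) →* ℂˣ,
      ∀ x : ↥((P : Subgroup G) ⊓ N), μ ⟨(x : G), x.2.1⟩ = lam x)
    (ϑ : N → ℂ) (hϑ : IsIrrCharacter N ϑ)
    (hinv : ∀ (g : G) (n : N), ϑ ⟨g * n * g⁻¹, hN.conj_mem (n : G) n.2 g⟩ = ϑ n) :
    ∃ χ : G → ℂ, IsIrrCharacter G χ ∧ ∀ n : N, χ n = ϑ n := by
  classical
  have hp : p.Prime := Fact.out
  have instN : Fintype N := Fintype.ofFinite _
  obtain ⟨E, instD, φ, hel, htop, hφ, hφinv, a, hpa, ha⟩ :=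
    exists_elementary_invariant_constituent N p hp hind ϑ hϑ hinv
  have instE : Fintype E := Fintype.ofFinite _
  have hnil : Group.IsNilpotent E := isNilpotent_of_isElementary hp hel
  obtain ⟨PE, K, hPE, hKcop, hcard, hcomm, hKmem⟩ := exists_hall_decomp E p hp
  have hidx : ∃ j : ℕ, (N.subgroupOf E).index = p ^ j := by
    obtain ⟨k, hk⟩ := hind
    refine ⟨k, ?_⟩
    have h2 : N.relIndex (E ⊔ N) = N.relIndex E := Subgroup.relIndex_sup_right E N
    rw [htop, Subgroup.relIndex_top_right] at h2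
    rw [← hk, h2]
    rfl
  -- `K` is central
  obtain ⟨x, hxc, hxcop, k, hk⟩ := hel
  have hZle : Subgroup.zpowers x ≤ Subgroup.center E := by
    rw [Subgroup.zpowers_le]
    exact hxc
  have hZnorm : (Subgroup.zpowers x).Normal := by
    constructor
    intro n hn g
    have h1 := Subgroup.mem_center_iff.mp (hZle hn) g
    have h2 : g * n * g⁻¹ = n := by rw [h1, mul_inv_cancel_right]
    rw [h2]
    exact hn
  have hKZ : ∀ k' ∈ K, k' ∈ Subgroup.center E := by
    intro k' hk'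
    apply hZle
    apply mem_of_coprime_orderOf_of_index_pow (Subgroup.zpowers x) ⟨k, hk⟩ k'
    have := (hKmem k').mp hk'
    exact ((Nat.Prime.coprime_iff_not_dvd hp).mpr this).symm
  -- the Sylow subgroup of `E` as a `p`-subgroup of `G`
  let U : Subgroup G := PE.map E.subtype
  have hUE : U ≤ E := Subgroup.map_subtype_le PE
  have hmemU : ∀ u : PE, ((u : E) : G) ∈ U := fun u => Subgroup.mem_map_of_mem _ u.2
  have hU : IsPGroup p U := by
    obtain ⟨a', ha'⟩ := hPE
    apply IsPGroup.of_card (n := a')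
    rw [← ha']
    exact Subgroup.card_map_of_injective (Subgroup.subtype_injective E)
  have hUcent := central_inf_of_pgroup N P hcent U hU
  -- decomposition of elements of `E`
  have hcop : (Nat.card K).Coprime (Nat.card PE) := by
    obtain ⟨a', ha'⟩ := hPE
    rw [ha']
    exact Nat.Coprime.pow_right a' hKcop
  have hcompl : K.IsComplement' PE :=
    Subgroup.isComplement'_of_coprime (by rw [mul_comm]; exact hcard) hcop
  have hdecomp : ∀ e : E, ∃ k' ∈ K, ∃ u ∈ PE, e = k' * u := by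
    intro e
    obtain ⟨⟨k', u⟩, hku⟩ := hcompl.2 e
    exact ⟨k', k'.2, u, u.2, hku.symm⟩
  have hKD : K ≤ N.subgroupOf E := by
    intro k' hk'
    apply mem_of_coprime_orderOf_of_index_pow (N.subgroupOf E) hidx
    have := (hKmem k').mp hk'
    exact ((Nat.Prime.coprime_iff_not_dvd hp).mpr this).symm
  -- `D` is abelian
  have hDcomm : ∀ d d' : N.subgroupOf E, d * d' = d' * d := by
    intro d d'
    apply Subtype.ext
    show (d : E) * (d' : E) = (d' : E) * (d : E)
    obtain ⟨k₁, hk₁, u₁, hu₁, h₁⟩ := hdecomp d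
    obtain ⟨k₂, hk₂, u₂, hu₂, h₂⟩ := hdecomp d'
    have hu₁D : u₁ ∈ N.subgroupOf E := by
      have : u₁ = k₁⁻¹ * d := by rw [h₁]; group
      rw [this]
      exact (N.subgroupOf E).mul_mem ((N.subgroupOf E).inv_mem (hKD hk₁)) d.2
    have hcu : Commute u₁ u₂ := by
      have h := hUcent ((u₁ : E) : G) ⟨hmemU ⟨u₁, hu₁⟩, hu₁D⟩ ((u₂ : E) : G) (hmemU ⟨u₂, hu₂⟩)
      apply Subtype.ext
      exact h
    have hck₁ : ∀ z : E, Commute k₁ z := fun z =>
      (Subgroup.mem_center_iff.mp (hKZ k₁ hk₁) z).symm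
    have hck₂ : ∀ z : E, Commute k₂ z := fun z =>
      (Subgroup.mem_center_iff.mp (hKZ k₂ hk₂) z).symm
    rw [h₁, h₂]
    have : Commute (k₁ * u₁) (k₂ * u₂) :=
      Commute.mul_left (hck₁ _) (Commute.mul_right (hck₂ u₁).symm hcu)
    exact this
  have hφ1 : φ 1 = 1 := irr_apply_one_of_comm hDcomm ⟨φ, hφ⟩
  let φh : N.subgroupOf E →* ℂˣ := linearCharHom (isCharacter_of_irr hφ) hφ1
  have hφh : ∀ d, (φh d : ℂ) = φ d := fun d => rfl
  -- the extension on `PE`
  let j : ↥(U ⊓ N) →* N.subgroupOf E := MonoidHom.mk'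
    (fun y => ⟨⟨(y : G), hUE y.2.1⟩, y.2.2⟩) (fun a b => rfl)
  obtain ⟨μU, hμU⟩ := exists_hom_extension_of_pgroup N P hcent hlin U hU (φh.comp j)
  let jP : PE →* U := MonoidHom.mk' (fun u => ⟨((u : E) : G), hmemU u⟩) (fun a b => rfl)
  have hμ : ∀ (u : PE) (hu : (u : E) ∈ N.subgroupOf E), (μU.comp jP) u = φh ⟨u, hu⟩ := by
    intro u hu
    exact hμU ⟨((u : E) : G), ⟨hmemU u, hu⟩⟩
  obtain ⟨Φ, hΦ⟩ := exists_hom_extension_of_nilpotent (N.subgroupOf E) hidx φh PE K hcard hPE
    hKcop hcomm (μU.comp jP) hμ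
  -- the linear character of `E`
  set ψ : E → ℂ := homToFun E Φ with hψ
  have hψirr : IsIrrCharacter E ψ := isIrrCharacter_of_hom Φ
  have hψD : (fun x : N.subgroupOf E => ψ x) = φ := by
    funext d
    show ((Φ d : ℂˣ) : ℂ) = φ d
    rw [hΦ d, hφh]
  have hkey := classInner_restrict_indFun_invariant N ϑ hinv E ψ
  have h2 : classInner φ (fun x : N.subgroupOf E => ϑ ⟨((x : E) : G), x.2⟩) = (a : ℂ) := by
    rw [← classInner_conj_symm, ha, Complex.conj_natCast]
  rw [hψD, htop, Subgroup.index_top, Nat.cast_one, one_mul, h2] at hkey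
  -- decompose the induced character
  have hindchar : IsCharacter G (indFun E ψ) := isCharacter_indFun E (isCharacter_of_irr hψirr)
  obtain ⟨l, hl, hsum⟩ := isCharacter_exists_irr_decomp hindchar
  rw [hsum] at hkey
  obtain ⟨χ, hχl, e, he, hpe⟩ := exists_mem_classInner_restrict_not_dvd N p ϑ hϑ l hl a hkey hpa
  have hχ := hl χ hχl
  have he0 : e ≠ 0 := by
    rintro rfl
    exact hpe (dvd_zero p)
  have hdvd := ramification_dvd_index N χ hχ ϑ hϑ hinv e he he0
  obtain ⟨k', hk'⟩ := hind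
  rw [hk'] at hdvd
  obtain ⟨i, -, hi⟩ := (Nat.dvd_prime_pow hp).mp hdvd
  have hi0 : i = 0 := by
    by_contra hne
    apply hpe
    rw [hi]
    exact dvd_pow_self p hne
  rw [hi0, pow_zero] at hi
  refine ⟨χ, hχ, fun n => ?_⟩
  have hcon : classInner (fun n : N => χ n) ϑ ≠ 0 := by
    rw [he, hi]
    simp
  have hres := restrict_eq_smul_of_invariant N χ hχ ϑ hϑ hcon hinv
  rw [he, hi, Nat.cast_one, one_smul] at hres
  exact congrFun hres n

end dade

end Cfsg.Agent.Lib.H23
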