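import Mathlib

/-!
# Elements of order three normalizing no nontrivial 2-subgroup (helper23)

* `eq_one_of_no_normalized`: if `x ^ 3 = 1`, `w ^ 2 = 1`, `(x * w) ^ 3 = 1` and `x` normalizes no
  nontrivial `2`-subgroup, then `w = 1` (otherwise `{1, w, x w x⁻¹, x⁻¹ w x}` is a four-group
  normalized by `x`).
* `not_two_dvd_card_centralizer`: such an `x` has a centralizer of odd order.
-/

set_option autoImplicit false

namespace Cfsg.Agent.Lib.H23.DefZero3

variable {G : Type*} [Group G]

theorem eq_one_of_no_normalized (x w : G) (hx : x ^ 3 = 1) (hw : w ^ 2 = 1)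
    (hxw : (x * w) ^ 3 = 1)
    (hP : ∀ Q : Subgroup G, IsPGroup 2 ↥Q → x ∈ Subgroup.normalizer (Q : Set G) → Q = ⊥) :
    w = 1 := by
  -- basic relations
  have hxx : x * x = x⁻¹ := by
    apply eq_inv_of_mul_eq_one_left
    rw [← hx, pow_succ, pow_two]
  have hyy : x⁻¹ * x⁻¹ = x := by
    calc x⁻¹ * x⁻¹ = x⁻¹ * x⁻¹ * x ^ 3 := by rw [hx, mul_one]
      _ = x := by group
  have hww : w * w = 1 := by rw [← pow_two]; exact hw
  set a : G := w with ha
  set b : G := x * w * x⁻¹ with hb
  set c : G := x⁻¹ * w * x with hc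
  have haa : a * a = 1 := hww
  have hbb : b * b = 1 := by
    rw [hb]
    calc x * w * x⁻¹ * (x * w * x⁻¹) = x * (w * w) * x⁻¹ := by group
      _ = 1 := by rw [hww]; group
  have hcc : c * c = 1 := by
    rw [hc]
    calc x⁻¹ * w * x * (x⁻¹ * w * x) = x⁻¹ * (w * w) * x := by group
      _ = 1 := by rw [hww]; group
  have hbca : b * c * a = 1 := by
    rw [hb, hc]
    calc x * w * x⁻¹ * (x⁻¹ * w * x) * w = x * w * (x⁻¹ * x⁻¹) * w * x * w := by group
      _ = (x * w) ^ 3 := by rw [hyy, pow_succ, pow_two]; group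
      _ = 1 := hxw
  have hainv : a⁻¹ = a := inv_eq_of_mul_eq_one_right haa
  have hbinv : b⁻¹ = b := inv_eq_of_mul_eq_one_right hbb
  have hcinv : c⁻¹ = c := inv_eq_of_mul_eq_one_right hcc
  have hbc : b * c = a := by
    have := eq_inv_of_mul_eq_one_left hbca
    rw [this, hainv]
  have hca : c * a = b := by
    have h1 : b * (c * a) = 1 := by rw [← mul_assoc]; exact hbca
    have := eq_inv_of_mul_eq_one_right h1
    rw [this, hbinv]
  have hab : a * b = c := by
    have h1 : c * (a * b) = 1 := by rw [← mul_assoc, hca, hbb]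
    have := eq_inv_of_mul_eq_one_right h1
    rw [this, hcinv]
  have hcb : c * b = a := by
    have h1 : (b * c)⁻¹ = a⁻¹ := by rw [hbc]
    rw [mul_inv_rev, hbinv, hcinv, hainv] at h1
    exact h1
  have hac : a * c = b := by
    have h1 : (c * a)⁻¹ = b⁻¹ := by rw [hca]
    rw [mul_inv_rev, hbinv, hcinv, hainv] at h1
    exact h1
  have hba : b * a = c := by
    have h1 : (a * b)⁻¹ = c⁻¹ := by rw [hab]
    rw [mul_inv_rev, hbinv, hcinv, hainv] at h1
    exact h1
  -- conjugation by `x`
  have hxa : x * a * x⁻¹ = b := rfl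
  have hxb : x * b * x⁻¹ = c := by
    rw [hb, hc]
    calc x * (x * w * x⁻¹) * x⁻¹ = (x * x) * w * (x⁻¹ * x⁻¹) := by group
      _ = x⁻¹ * w * x := by rw [hxx, hyy]
  have hxc : x * c * x⁻¹ = a := by
    show x * (x⁻¹ * w * x) * x⁻¹ = w
    group
  -- the four-group
  let V : Subgroup G :=
    { carrier := {g | g = 1 ∨ g = a ∨ g = b ∨ g = c}
      one_mem' := Or.inl rfl
      mul_mem' := by
        rintro g h (rfl | rfl | rfl | rfl) (rfl | rfl | rfl | rfl)
        · left; rw [one_mul]
        · right; left; rw [one_mul]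
        · right; right; left; rw [one_mul]
        · right; right; right; rw [one_mul]
        · right; left; rw [mul_one]
        · left; exact haa
        · right; right; right; exact hab
        · right; right; left; exact hac
        · right; right; left; rw [mul_one]
        · right; right; right; exact hba
        · left; exact hbb
        · right; left; exact hbc
        · right; right; right; rw [mul_one]
        · right; right; left; exact hca
        · right; left; exact hcb
        · left; exact hcc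
      inv_mem' := by
        rintro g (rfl | rfl | rfl | rfl)
        · left; exact inv_one
        · right; left; exact hainv
        · right; right; left; exact hbinv
        · right; right; right; exact hcinv }
  have hVmem : ∀ g : G, g ∈ V ↔ (g = 1 ∨ g = a ∨ g = b ∨ g = c) := fun g => Iff.rfl
  have hV2 : IsPGroup 2 ↥V := by
    intro g
    refine ⟨1, ?_⟩
    apply Subtype.ext
    rw [pow_one, Subgroup.coe_pow, Subgroup.coe_one, pow_two]
    rcases (hVmem g).1 g.2 with h | h | h | h
    · rw [h, one_mul]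
    · rw [h]; exact haa
    · rw [h]; exact hbb
    · rw [h]; exact hcc
  have hconj : ∀ g : G, g ∈ V → x * g * x⁻¹ ∈ V := by
    intro g hg
    rcases (hVmem g).1 hg with h | h | h | h
    · rw [h]; left; group
    · rw [h, hxa]; right; right; left; rfl
    · rw [h, hxb]; right; right; right; rfl
    · rw [h, hxc]; right; left; rfl
  have hconj' : ∀ g : G, g ∈ V → x⁻¹ * g * x ∈ V := by
    intro g hg
    have h1 := hconj _ (hconj g hg)
    have h2 : x * (x * g * x⁻¹) * x⁻¹ = x⁻¹ * g * x := by
      calc x * (x * g * x⁻¹) * x⁻¹ = (x * x) * g * (x⁻¹ * x⁻¹) := by group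
        _ = x⁻¹ * g * x := by rw [hxx, hyy]
    rwa [h2] at h1
  have hnorm : x ∈ Subgroup.normalizer (V : Set G) := by
    rw [Subgroup.mem_normalizer_iff]
    intro g
    constructor
    · exact hconj g
    · intro hg
      have h1 := hconj' _ hg
      have h2 : x⁻¹ * (x * g * x⁻¹) * x = g := by group
      rwa [h2] at h1
  have hbot := hP V hV2 hnorm
  have haV : a ∈ V := Or.inr (Or.inl rfl)
  rw [hbot, Subgroup.mem_bot] at haV
  exact haV

theorem not_two_dvd_card_centralizer [Finite G] (x : G)
    (hP : ∀ Q : Subgroup G, IsPGroup 2 ↥Q → x ∈ Subgroup.normalizer (Q : Set G) → Q = ⊥) :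
    ¬ 2 ∣ Nat.card (Subgroup.centralizer ({x} : Set G)) := by
  intro h2
  have : Fact (Nat.Prime 2) := ⟨Nat.prime_two⟩
  obtain ⟨t, ht⟩ := exists_prime_orderOf_dvd_card' (G := Subgroup.centralizer ({x} : Set G)) 2 h2
  have ht' : orderOf (t : G) = 2 := by rw [Subgroup.orderOf_coe]; exact ht
  have hcomm : (t : G) * x = x * (t : G) :=
    (Subgroup.mem_centralizer_iff.mp t.2 x (Set.mem_singleton x)).symm
  have hQ : IsPGroup 2 ↥(Subgroup.zpowers (t : G)) := by
    apply IsPGroup.of_card (n := 1)
    rw [Nat.card_zpowers, ht', pow_one]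
  have hnorm : x ∈ Subgroup.normalizer ((Subgroup.zpowers (t : G) : Subgroup G) : Set G) := by
    rw [Subgroup.mem_normalizer_iff]
    intro g
    have key : ∀ g : G, g ∈ Subgroup.zpowers (t : G) → x * g * x⁻¹ = g := by
      intro g hg
      obtain ⟨k, rfl⟩ := Subgroup.mem_zpowers_iff.mp hg
      have hc : Commute x ((t : G) ^ k) := (Commute.zpow_right hcomm.symm k)
      rw [hc.eq, mul_assoc, mul_inv_cancel, mul_one]
    constructor
    · intro hg
      rw [key g hg]; exact hg
    · intro hg
      have h1 := key _ hg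
      -- x * (x g x⁻¹) * x⁻¹ = x g x⁻¹, so x g x⁻¹ = g
      have h2 : x * g * x⁻¹ = g := by
        have h3 : x * (x * g * x⁻¹) * x⁻¹ = x * g * x⁻¹ := h1
        have h4 : x⁻¹ * (x * (x * g * x⁻¹) * x⁻¹) * x = x⁻¹ * (x * g * x⁻¹) * x := by rw [h3]
        have h5 : x⁻¹ * (x * (x * g * x⁻¹) * x⁻¹) * x = x * g * x⁻¹ := by group
        have h6 : x⁻¹ * (x * g * x⁻¹) * x = g := by group
        rw [h5, h6] at h4
        exact h4
      rwa [h2] at hg
  have hbot := hP _ hQ hnorm
  have : (t : G) ∈ Subgroup.zpowers (t : G) := Subgroup.mem_zpowers _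
  rw [hbot, Subgroup.mem_bot] at this
  rw [this, orderOf_one] at ht'
  exact absurd ht' (by norm_num)

end Cfsg.Agent.Lib.H23.DefZero3
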