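import Mathlib
import Cfsg.Prelude.Def_Blocks
import Cfsg.Agent.Lib.H23.BlockCentralP
import Cfsg.Agent.Lib.H23.DefectZero
import Cfsg.Agent.Lib.H23.DefZero3A

/-!
# The sum of the solutions of `w ^ p = 1` and characters of defect zero (helper23)

`thetaP p χ = ∑_{w ^ p = 1} χ(w) / χ(1)`.

* `thetaP_memLocalIdeal`: for `χ` of positive `p`-defect, `thetaP p χ` lies in the local ideal
  (`ω_χ(K_w) ≡ |K_w ∩ D|` and `p ∣ #{h ∈ D | h ^ p = 1}`).
* `thetaP_eq_one`: for `χ` of `p`-defect zero, `thetaP p χ = 1`.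
* `sum_mul_eq_thetaP`: `∑_{w ^ p = 1} χ(w h) = χ(h) thetaP p χ`.
-/

set_option autoImplicit false

namespace Cfsg.Agent.Lib.H23.DefZero3

open Cfsg MonoidAlgebra Cfsg.Agent.Lib.H23 Cfsg.Agent.Lib.H24 Cfsg.Agent.Lib.L0
open Cfsg.Agent.Lib.H23.CentralP
open scoped ComplexConjugate

variable {G : Type*} [Group G] [Fintype G] {p : ℕ} [Fact p.Prime] {M : Ideal AlgInt}

/-- The set of solutions of `w ^ p = 1`. -/
noncomputable def omegaP (G : Type*) [Group G] [Fintype G] (p : ℕ) : Finset G :=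
  haveI := Classical.decEq G
  Finset.univ.filter (fun w : G => w ^ p = 1)

theorem mem_omegaP {w : G} : w ∈ omegaP G p ↔ w ^ p = 1 := by
  classical
  unfold omegaP
  simp

theorem conj_mem_omegaP {w : G} (s : G) (hw : w ∈ omegaP G p) : s * w * s⁻¹ ∈ omegaP G p := by
  rw [mem_omegaP] at hw ⊢
  rw [conj_pow, hw, mul_one, mul_inv_cancel]

/-- `∑_{w ^ p = 1} χ(w) / χ(1)`. -/
noncomputable def thetaP (p : ℕ) (χ : IrrCharacter G) : ℂ :=
  ∑ w ∈ omegaP G p, (χ : G → ℂ) w / (χ : G → ℂ) 1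

theorem sum_mul_eq_thetaP (χ : IrrCharacter G) (h : G) :
    ∑ w ∈ omegaP G p, (χ : G → ℂ) (w * h) = (χ : G → ℂ) h * thetaP p χ := by
  classical
  have hG : (Nat.card G : ℂ) ≠ 0 := by exact_mod_cast (Nat.card_pos (α := G)).ne'
  have h0 := irr_one_ne_zero χ
  have h1 : ∀ s : G, ∑ w ∈ omegaP G p, (χ : G → ℂ) (s * w * s⁻¹ * h) =
      ∑ w ∈ omegaP G p, (χ : G → ℂ) (w * h) := by
    intro s
    refine Finset.sum_nbij' (fun w => s * w * s⁻¹) (fun w => s⁻¹ * w * s) ?_ ?_ ?_ ?_ ?_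
    · intro w hw; exact conj_mem_omegaP s hw
    · intro w hw
      have := conj_mem_omegaP (p := p) s⁻¹ hw
      rwa [inv_inv] at this
    · intro w _; group
    · intro w _; group
    · intro w _; rfl
  have h2 : ∑ s : G, ∑ w ∈ omegaP G p, (χ : G → ℂ) (s * w * s⁻¹ * h) =
      (Nat.card G : ℂ) * ∑ w ∈ omegaP G p, (χ : G → ℂ) (w * h) := by
    rw [Finset.sum_congr rfl (fun s _ => h1 s), Finset.sum_const, Finset.card_univ,
      nsmul_eq_mul, Nat.card_eq_fintype_card]
  have h3 : ∑ s : G, ∑ w ∈ omegaP G p, (χ : G → ℂ) (s * w * s⁻¹ * h) =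
      (Nat.card G : ℂ) * ((χ : G → ℂ) h * thetaP p χ) := by
    rw [Finset.sum_comm]
    rw [Finset.sum_congr rfl (fun w _ => irr_sum_conj_mul χ w h)]
    unfold thetaP
    rw [Finset.mul_sum, Finset.mul_sum]
    refine Finset.sum_congr rfl (fun w _ => ?_)
    field_simp
  rw [h2] at h3
  exact mul_left_cancel₀ hG h3

/-- A character of `p`-defect zero has `thetaP = 1`. -/
theorem thetaP_eq_one (χ : IrrCharacter G)
    (hdef : (charDegree (χ : G → ℂ)).factorization p = (Nat.card G).factorization p) :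
    thetaP p χ = 1 := by
  classical
  have hp : p.Prime := Fact.out
  have h0 := irr_one_ne_zero χ
  unfold thetaP
  rw [Finset.sum_eq_single (1 : G)]
  · exact div_self h0
  · intro w hw hw1
    rw [mem_omegaP] at hw
    have hord : orderOf w = p := by
      have h2 : orderOf w ∣ p := orderOf_dvd_of_pow_eq_one hw
      rcases (Nat.dvd_prime hp).1 h2 with h3 | h3
      · exact absurd (orderOf_eq_one_iff.1 h3) hw1
      · exact h3
    obtain ⟨n, ρ, hρ, hχ⟩ := irr_exists_rep χ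
    have : ρ.IsIrreducible := hρ
    have hz : (χ : G → ℂ) w = 0 := by
      rw [← hχ]
      refine char_eq_zero_of_defect_zero ρ p ((Nat.card G).factorization p) hp ?_ ?_ w ?_
      · exact Nat.pow_succ_factorization_not_dvd (Nat.card_pos.ne') hp
      · have h1 : (χ : G → ℂ) 1 = (Module.finrank ℂ (Fin n → ℂ) : ℂ) := by
          rw [← hχ]; exact Representation.char_one ρ
        rw [← charDegree_eq_of_apply_one h1, ← hdef]
        exact Nat.ordProj_dvd _ _
      · rw [hord]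
    rw [hz, zero_div]
  · intro h
    exact absurd (mem_omegaP.2 (one_pow p)) h

end Cfsg.Agent.Lib.H23.DefZero3
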