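import Mathlib
import Cfsg.Prelude.Def_Blocks
import Cfsg.Agent.Lib.H23.BlockCentralP
import Cfsg.Agent.Lib.H23.DefZero3B

/-!
# `thetaP` lies in the local ideal for characters of positive defect (helper23)
-/

set_option autoImplicit false

namespace Cfsg.Agent.Lib.H23.DefZero3

open Cfsg MonoidAlgebra Cfsg.Agent.Lib.H23 Cfsg.Agent.Lib.H24 Cfsg.Agent.Lib.L0
open Cfsg.Agent.Lib.H23.CentralP
open scoped ComplexConjugate

variable {G : Type*} [Group G] [Fintype G] {p : ℕ} [Fact p.Prime] {M : Ideal AlgInt}

theorem thetaP_memLocalIdeal (hM : IsPModular p M) (χ : IrrCharacter G)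
    (hdef : (charDegree (χ : G → ℂ)).factorization p ≠ (Nat.card G).factorization p) :
    MemLocalIdeal M (thetaP p χ) := by
  classical
  have hp : p.Prime := Fact.out
  haveI hPr := isPrime_of_isPModular hM
  haveI := Fintype.ofFinite (ConjClasses G)
  obtain ⟨D, hD⟩ := exists_isDefectGroup hM χ
  have hcard := card_defectGroup hM χ D hD
  have hDp : IsPGroup p D := isPGroup_of_isDefectGroup hD
  have hχB : χ ∈ blockOf M (χ : G → ℂ) := mem_blockOf_self χ
  have hd : blockDefect p (blockOf M (χ : G → ℂ)) ≠ 0 := by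
    intro hd
    apply hdef
    have h1 := Cfsg.Agent.Lib.L0.BlockMinMax.minDeg_le (p := p) (M := M) χ hχB
    rw [Cfsg.Agent.Lib.L0.BlockMinMax.minDeg_eq_sub_blockDefect, hd, Nat.sub_zero] at h1
    apply le_antisymm _ h1
    have h2 : charDegree (χ : G → ℂ) ∣ Nat.card G := charDegree_dvd_card _ χ.2
    have h3 : Nat.card G ≠ 0 := (Nat.card_pos (α := G)).ne'
    exact (Nat.factorization_le_iff_dvd (fun h => h3 (by rw [h] at h2; exact Nat.eq_zero_of_zero_dvd h2))
      h3).2 h2 p
  haveI : Fintype D := Fintype.ofFinite D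
  have hnt : Nontrivial D := by
    rw [← Finite.one_lt_card_iff_nontrivial, hcard]
    exact Nat.one_lt_pow hd hp.one_lt
  have hsol := dvd_card_pow_eq_one (p := p) hDp hnt
  -- the solutions in `D`
  set T : Finset D := Finset.univ.filter (fun h : D => h ^ p = 1) with hT
  have hTcard : Nat.card {h : D // h ^ p = 1} = T.card := by
    rw [Nat.card_eq_fintype_card, Fintype.card_subtype]
  have hTmem : MemLocalIdeal M (T.card : ℂ) := by
    rw [natCast_memLocalIdeal_iff hM, ← hTcard]
    exact hsol
  -- class by class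
  have hfib : ∀ c : ConjClasses G, MemLocalIdeal M
      ((∑ w ∈ (omegaP G p).filter (fun w => ConjClasses.mk w = c),
          (χ : G → ℂ) w / (χ : G → ℂ) 1) -
        ((T.filter (fun h : D => ConjClasses.mk (h : G) = c)).card : ℂ)) := by
    intro c
    by_cases hne : ((omegaP G p).filter (fun w => ConjClasses.mk w = c)).Nonempty
    · obtain ⟨x₀, hx₀⟩ := hne
      obtain ⟨hx₀Ω, hx₀c⟩ := Finset.mem_filter.1 hx₀
      have hx₀p : x₀ ^ p = 1 := mem_omegaP.1 hx₀Ω
      have hx₀ord : ∃ k : ℕ, orderOf x₀ = p ^ k := by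
        have h2 : orderOf x₀ ∣ p := orderOf_dvd_of_pow_eq_one hx₀p
        rcases (Nat.dvd_prime hp).1 h2 with h3 | h3
        · exact ⟨0, by rw [h3, pow_zero]⟩
        · exact ⟨1, by rw [h3, pow_one]⟩
      have h1 := centralChar_pElement hM χ D hD x₀ hx₀ord
      have hset : (omegaP G p).filter (fun w => ConjClasses.mk w = c) = conjFinset x₀ := by
        ext w
        rw [Finset.mem_filter, mem_conjFinset, mem_omegaP]
        constructor
        · rintro ⟨-, hc⟩
          rw [← hx₀c] at hc
          exact ConjClasses.mk_eq_mk_iff_isConj.1 hc.symm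
        · intro hc
          refine ⟨?_, ?_⟩
          · obtain ⟨s, hs⟩ := isConj_iff.1 hc
            rw [← hs, conj_pow, hx₀p, mul_one, mul_inv_cancel]
          · rw [← hx₀c]; exact (ConjClasses.mk_eq_mk_iff_isConj.2 hc).symm
      have hsum : ∑ w ∈ conjFinset x₀, (χ : G → ℂ) w / (χ : G → ℂ) 1 =
          centralChar (χ : G → ℂ) x₀ := by
        have h2 : ∀ w ∈ conjFinset x₀, (χ : G → ℂ) w / (χ : G → ℂ) 1 =
            (χ : G → ℂ) x₀ / (χ : G → ℂ) 1 := by
          intro w hw
          rw [mem_conjFinset] at hw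
          rw [isClassFunction_eq_of_isConj (isClassFunction_irr χ) hw]
        rw [Finset.sum_congr rfl h2, Finset.sum_const, card_conjFinset, nsmul_eq_mul]
        unfold centralChar
        ring
      have hT2 : (T.filter (fun h : D => ConjClasses.mk (h : G) = c)).card =
          Nat.card {h : D // IsConj x₀ (h : G)} := by
        rw [Nat.card_eq_fintype_card, Fintype.card_subtype]
        congr 1
        ext h
        simp only [Finset.mem_filter, Finset.mem_univ, true_and, hT]
        constructor
        · rintro ⟨-, hc⟩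
          rw [← hx₀c] at hc
          exact ConjClasses.mk_eq_mk_iff_isConj.1 hc.symm
        · intro hc
          refine ⟨?_, ?_⟩
          · obtain ⟨s, hs⟩ := isConj_iff.1 hc
            apply Subtype.ext
            rw [Subgroup.coe_pow, Subgroup.coe_one, ← hs, conj_pow, hx₀p, mul_one,
              mul_inv_cancel]
          · rw [← hx₀c]; exact (ConjClasses.mk_eq_mk_iff_isConj.2 hc).symm
      rw [hset, hsum, hT2]
      exact h1
    · have hempty := Finset.not_nonempty_iff_eq_empty.1 hne
      have hT0 : T.filter (fun h : D => ConjClasses.mk (h : G) = c) = ∅ := by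
        rw [Finset.eq_empty_iff_forall_notMem]
        intro h hh
        obtain ⟨hhT, hhc⟩ := Finset.mem_filter.1 hh
        have hhp : h ^ p = 1 := (Finset.mem_filter.1 hhT).2
        have : (h : G) ∈ (omegaP G p).filter (fun w => ConjClasses.mk w = c) := by
          rw [Finset.mem_filter, mem_omegaP]
          refine ⟨?_, hhc⟩
          rw [← Subgroup.coe_pow, hhp, Subgroup.coe_one]
        rw [hempty] at this
        exact absurd this (Finset.notMem_empty _)
      rw [hempty, hT0, Finset.sum_empty, Finset.card_empty, Nat.cast_zero, sub_zero]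
      exact memLocalIdeal_zero hPr.ne_top
  have hsumfib := memLocalIdeal_sum (M := M) (Finset.univ : Finset (ConjClasses G)) _
    (fun c _ => hfib c)
  rw [Finset.sum_sub_distrib] at hsumfib
  rw [Finset.sum_fiberwise (omegaP G p) (fun w => ConjClasses.mk w)
    (fun w => (χ : G → ℂ) w / (χ : G → ℂ) 1)] at hsumfib
  have hTsum : ∑ c : ConjClasses G, ((T.filter (fun h : D => ConjClasses.mk (h : G) = c)).card : ℂ)
      = (T.card : ℂ) := by
    rw [← Nat.cast_sum]
    congr 1
    exact (Finset.card_eq_sum_card_fiberwise (f := fun h : D => ConjClasses.mk (h : G))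
      (t := Finset.univ) (fun _ _ => Finset.mem_univ _)).symm
  rw [hTsum] at hsumfib
  have := memLocalIdeal_add hsumfib hTmem
  rw [sub_add_cancel] at this
  exact this

end Cfsg.Agent.Lib.H23.DefZero3
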