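import Mathlib
import Cfsg.Prelude.Def_Blocks
import Cfsg.Agent.Lib.H23.BlockCentralP
import Cfsg.Agent.Lib.H23.DefZero3C

/-!
# The Gram congruence for characters of 2-defect zero at elements of order three (helper23)

`gram_congr`: if `x`, `y` have order three and `x` normalizes no nontrivial `2`-subgroup, then
`∑_{χ of 2-defect zero} χ(x) conj χ(y) ≡ [x ∼ y] |C_G(x)|` modulo the local ideal.
-/

set_option autoImplicit false

namespace Cfsg.Agent.Lib.H23.DefZero3

open Cfsg MonoidAlgebra Cfsg.Agent.Lib.H23 Cfsg.Agent.Lib.H24 Cfsg.Agent.Lib.L0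
open Cfsg.Agent.Lib.H23.CentralP
open scoped ComplexConjugate

variable {G : Type*} [Group G] [Fintype G] {p : ℕ} [Fact p.Prime] {M : Ideal AlgInt}

/-- The weighted second orthogonality relation. -/
theorem sum_thetaP_mul [Fintype (IrrCharacter G)] [DecidableRel (IsConj (α := G))] (x y : G) :
    ∑ χ : IrrCharacter G, thetaP p χ * ((χ : G → ℂ) x * conj ((χ : G → ℂ) y)) =
      ∑ w ∈ omegaP G p, if IsConj (w * x) y then
        (Nat.card (Subgroup.centralizer ({w * x} : Set G)) : ℂ) else 0 := by
  have h1 : ∀ χ : IrrCharacter G, thetaP p χ * ((χ : G → ℂ) x * conj ((χ : G → ℂ) y)) =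
      ∑ w ∈ omegaP G p, (χ : G → ℂ) (w * x) * conj ((χ : G → ℂ) y) := by
    intro χ
    rw [← Finset.sum_mul, sum_mul_eq_thetaP]
    ring
  rw [Finset.sum_congr rfl (fun χ _ => h1 χ), Finset.sum_comm]
  refine Finset.sum_congr rfl (fun w _ => ?_)
  exact second_orthogonality (w * x) y

theorem gram_congr [Fintype (IrrCharacter G)] [DecidableRel (IsConj (α := G))]
    (hM : IsPModular 2 M) (x y : G) (hx : orderOf x = 3)
    (hy : orderOf y = 3)
    (hP : ∀ Q : Subgroup G, IsPGroup 2 ↥Q → x ∈ Subgroup.normalizer (Q : Set G) → Q = ⊥) :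
    MemLocalIdeal M
      ((∑ χ ∈ (Finset.univ : Finset (IrrCharacter G)).filter (fun χ : IrrCharacter G =>
          (charDegree (χ : G → ℂ)).factorization 2 = (Nat.card G).factorization 2),
          (χ : G → ℂ) x * conj ((χ : G → ℂ) y)) -
        (if IsConj x y then (Nat.card (Subgroup.centralizer ({x} : Set G)) : ℂ) else 0)) := by
  classical
  haveI : Fact (Nat.Prime 2) := ⟨Nat.prime_two⟩
  have hPr := isPrime_of_isPModular hM
  have hx3 : x ^ 3 = 1 := by rw [← hx]; exact pow_orderOf_eq_one x
  -- the right hand side of the weighted relation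
  have hrhs : (∑ w ∈ omegaP G 2, if IsConj (w * x) y then
        (Nat.card (Subgroup.centralizer ({w * x} : Set G)) : ℂ) else 0) =
      (if IsConj x y then (Nat.card (Subgroup.centralizer ({x} : Set G)) : ℂ) else 0) := by
    rw [Finset.sum_eq_single (1 : G)]
    · rw [one_mul]
    · intro w hw hw1
      rw [if_neg]
      intro hc
      apply hw1
      have hw2 : w ^ 2 = 1 := mem_omegaP.1 hw
      have hwx3 : (w * x) ^ 3 = 1 := by
        have : orderOf (w * x) = 3 := by rw [orderOf_eq_of_isConj hc, hy]
        rw [← this]; exact pow_orderOf_eq_one _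
      have hxw3 : (x * w) ^ 3 = 1 := by
        have h1 : x * w = x * (w * x) * x⁻¹ := by group
        rw [h1, conj_pow, hwx3, mul_one, mul_inv_cancel]
      exact eq_one_of_no_normalized x w hx3 hw2 hxw3 hP
    · intro h
      exact absurd (mem_omegaP.2 (one_pow 2)) h
  have hmain := sum_thetaP_mul (p := 2) x y
  rw [hrhs] at hmain
  rw [← hmain]
  -- split the sum
  rw [← Finset.sum_filter_add_sum_filter_not (Finset.univ : Finset (IrrCharacter G))
    (fun χ : IrrCharacter G => (charDegree (χ : G → ℂ)).factorization 2 = (Nat.card G).factorization 2)]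
  have h1 : ∑ χ ∈ (Finset.univ : Finset (IrrCharacter G)).filter (fun χ : IrrCharacter G =>
          (charDegree (χ : G → ℂ)).factorization 2 = (Nat.card G).factorization 2),
        thetaP 2 χ * ((χ : G → ℂ) x * conj ((χ : G → ℂ) y)) =
      ∑ χ ∈ (Finset.univ : Finset (IrrCharacter G)).filter (fun χ : IrrCharacter G =>
          (charDegree (χ : G → ℂ)).factorization 2 = (Nat.card G).factorization 2),
        (χ : G → ℂ) x * conj ((χ : G → ℂ) y) := by
    refine Finset.sum_congr rfl (fun χ hχ => ?_)
    rw [thetaP_eq_one χ (Finset.mem_filter.1 hχ).2, one_mul]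
  rw [h1, sub_add_cancel_left]
  apply memLocalIdeal_neg
  apply memLocalIdeal_sum
  intro χ hχ
  have hdef := (Finset.mem_filter.1 hχ).2
  apply memLocalIdeal_mul_right (thetaP_memLocalIdeal hM χ hdef)
  apply memLocalRing_mul
  · exact isIntegral_mem_localRing (irr_isIntegral χ x)
  · rw [← irr_inv]
    exact isIntegral_mem_localRing (irr_isIntegral χ y⁻¹)

end Cfsg.Agent.Lib.H23.DefZero3
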