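import Mathlib

/-!
# S4025 piece EXC81B (architect helper19): `X ⧸ C_X(Q)` is solvable of order divisible by `130`
-/

set_option autoImplicit false
set_option linter.style.haveILetI false
set_option linter.unusedSectionVars false

namespace Cfsg.Agent.Lib.H23.EOC

section

variable {X : Type*} [Group X] (Q : Subgroup X) [Q.Normal]

/-- the subgroups of order `n` of `Q` -/
abbrev Sub9 (n : ℕ) : Type _ := {A : Subgroup X // A ≤ Q ∧ Nat.card A = n}

theorem exc81b_map_le (g : X) (A : Subgroup X) (hA : A ≤ Q) :
    A.map (MulAut.conj g).toMonoidHom ≤ Q := by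
  rintro _ ⟨a, ha, rfl⟩
  show g * a * g⁻¹ ∈ Q
  exact (inferInstance : Q.Normal).conj_mem a (hA ha) g

omit [Q.Normal] in
theorem exc81b_map_card (g : X) (A : Subgroup X) :
    Nat.card (A.map (MulAut.conj g).toMonoidHom) = Nat.card A :=
  Nat.card_congr (A.equivMapOfInjective _ (MulAut.conj g).injective).symm.toEquiv

/-- conjugation action on the subgroups of order `n` of `Q` -/
@[reducible] def exc81bAct (n : ℕ) : MulAction X (Sub9 Q n) where
  smul g A := ⟨A.1.map (MulAut.conj g).toMonoidHom, exc81b_map_le Q g A.1 A.2.1,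
    by rw [exc81b_map_card]; exact A.2.2⟩
  one_smul A := by
    apply Subtype.ext
    show A.1.map (MulAut.conj (1 : X)).toMonoidHom = A.1
    rw [map_one]
    exact Subgroup.map_id A.1
  mul_smul g h A := by
    apply Subtype.ext
    show A.1.map (MulAut.conj (g * h)).toMonoidHom =
      (A.1.map (MulAut.conj h).toMonoidHom).map (MulAut.conj g).toMonoidHom
    rw [Subgroup.map_map, map_mul]
    rfl

attribute [local instance] exc81bAct

theorem exc81b_smul_val (n : ℕ) (g : X) (A : Sub9 Q n) :
    (g • A).1 = A.1.map (MulAut.conj g).toMonoidHom := rfl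

end

attribute [local instance] exc81bAct

/-- **EXC81B**. -/
theorem exc81b {X : Type*} [Group X] [Finite X]
    (Q : Subgroup X) [Q.Normal]
    (K : Subgroup X) [K.Normal] (hKQ : ∀ k ∈ K, ∀ a ∈ Q, k * a = a * k)
    (hsolv : Group.IsSolvable (X ⧸ K))
    (hlc : Nat.card {A : Subgroup X // A ≤ Q ∧ Nat.card A = 9} = 130)
    (htr : ∀ A B : Subgroup X, A ≤ Q → B ≤ Q → Nat.card A = 9 → Nat.card B = 9 →
      ∃ g : X, B = A.map (MulAut.conj g).toMonoidHom) :
    Group.IsSolvable (X ⧸ (MulAut.conjNormal : X →* MulAut ↥Q).ker) ∧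
    130 ∣ Nat.card (X ⧸ (MulAut.conjNormal : X →* MulAut ↥Q).ker) := by
  set C : Subgroup X := (MulAut.conjNormal : X →* MulAut ↥Q).ker with hC
  have hmemC : ∀ g : X, g ∈ C ↔ ∀ a ∈ Q, g * a * g⁻¹ = a := by
    intro g
    rw [hC, MonoidHom.mem_ker]
    constructor
    · intro h a ha
      have := congrArg (fun f : MulAut ↥Q => ((f ⟨a, ha⟩ : ↥Q) : X)) h
      simpa [MulAut.conjNormal_apply] using this
    · intro h
      ext a
      rw [MulAut.conjNormal_apply, MulAut.one_apply]
      exact h a.1 a.2
  have hKC : K ≤ C := by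
    intro k hk
    rw [hmemC]
    intro a ha
    rw [hKQ k hk a ha, mul_inv_cancel_right]
  constructor
  · -- solvable
    have hsurj : Function.Surjective (QuotientGroup.map K C (MonoidHom.id X) hKC) := by
      intro y
      obtain ⟨x, rfl⟩ := QuotientGroup.mk_surjective y
      exact ⟨(x : X ⧸ K), rfl⟩
    exact Group.isSolvable_of_surjective hsurj
  · -- divisibility
    have hne : Nonempty (Sub9 Q 9) := by
      by_contra h
      rw [not_nonempty_iff] at h
      have : Nat.card (Sub9 Q 9) = 0 := Nat.card_of_isEmpty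
      rw [this] at hlc
      omega
    obtain ⟨A₀⟩ := hne
    haveI : MulAction.IsPretransitive X (Sub9 Q 9) := by
      constructor
      intro A B
      obtain ⟨g, hg⟩ := htr A.1 B.1 A.2.1 B.2.1 A.2.2 B.2.2
      refine ⟨g, ?_⟩
      apply Subtype.ext
      rw [exc81b_smul_val]
      exact hg.symm
    have hidx : (MulAction.stabilizer X A₀).index = 130 := by
      rw [MulAction.index_stabilizer_of_transitive]
      exact hlc
    have hCS : C ≤ MulAction.stabilizer X A₀ := by
      intro g hg
      rw [MulAction.mem_stabilizer_iff]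
      apply Subtype.ext
      rw [exc81b_smul_val]
      rw [hmemC] at hg
      ext y
      constructor
      · rintro ⟨a, ha, rfl⟩
        show g * a * g⁻¹ ∈ A₀.1
        rw [hg a (A₀.2.1 ha)]
        exact ha
      · intro hy
        refine ⟨y, hy, ?_⟩
        show g * y * g⁻¹ = y
        exact hg y (A₀.2.1 hy)
    have h1 := Subgroup.relIndex_mul_index hCS
    rw [hidx] at h1
    rw [← Subgroup.index_eq_card, ← h1]
    exact Dvd.intro_left _ rfl

end Cfsg.Agent.Lib.H23.EOC
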