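import Cfsg.Agent.Lib.H23.Solomon
import Cfsg.Agent.Lib.H23.MGroup
import Cfsg.Agent.Lib.L0.CharIndChar

/-!
# Characters induced from `p`-elementary subgroups (helper23)

* `indFun_mul_restrict'`: `(φ · χ_H)^G = φ^G · χ` for any subgroup `H`;
* `isElementary_of_mulEquiv`;
* `elemSpan p G`: the additive group generated by the characters induced from characters of
  `p`-elementary subgroups; `elemSpan_mul_char` (it is an ideal), `indFun_mem_elemSpan`
  (transitivity).
-/

set_option autoImplicit false

universe u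

namespace Cfsg.Agent.Lib.H23

open Cfsg.Agent.Lib.L0

section IndLemmas

variable {G : Type*} [Group G] [Fintype G]

theorem indFun_mul_restrict' (H : Subgroup G) (φ : H → ℂ) (χ : G → ℂ)
    (hχ : Cfsg.IsClassFunction G χ) :
    Cfsg.indFun H (φ * fun n : H => χ n) = Cfsg.indFun H φ * χ := by
  funext g
  rw [Pi.mul_apply, indFun_apply, indFun_apply, mul_assoc, Finset.sum_mul]
  congr 1
  refine Finset.sum_congr rfl fun x _ => ?_
  by_cases hx : x⁻¹ * g * x ∈ H
  · rw [extendByZero_apply_of_mem H _ hx, extendByZero_apply_of_mem H _ hx]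
    simp only [Pi.mul_apply]
    congr 1
    have := hχ g x⁻¹
    rw [inv_inv] at this
    exact this
  · rw [extendByZero_apply_not_mem H _ hx, extendByZero_apply_not_mem H _ hx, zero_mul]

theorem indFun_neg (H : Subgroup G) (θ : H → ℂ) :
    Cfsg.indFun H (-θ) = -Cfsg.indFun H θ := by
  have := indFun_smul H (-1) θ
  simpa using this

end IndLemmas

section Elementary

theorem isElementary_of_mulEquiv {p : ℕ} {E E' : Type*} [Group E] [Group E'] (e : E ≃* E')
    (h : Cfsg.IsElementary p E) : Cfsg.IsElementary p E' := by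
  obtain ⟨x, hx, hord, k, hk⟩ := h
  refine ⟨e x, ?_, ?_, k, ?_⟩
  · rw [Subgroup.mem_center_iff] at hx ⊢
    intro g
    obtain ⟨g', rfl⟩ := e.surjective g
    rw [← map_mul, ← map_mul, hx g']
  · rw [MulEquiv.orderOf_eq]
    exact hord
  · have h1 : Subgroup.zpowers (e x) = (Subgroup.zpowers x).map (e : E →* E') := by
      rw [MonoidHom.map_zpowers]
      rfl
    rw [h1, Subgroup.index_map_equiv, hk]

end Elementary

section Span

variable {G : Type u} [Group G] [Fintype G]

/-- The additive group generated by the characters induced from `p`-elementary subgroups. -/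
def elemSpan (p : ℕ) (G : Type u) [Group G] [Fintype G] : AddSubgroup (G → ℂ) :=
  AddSubgroup.closure {f | ∃ (E : Subgroup G) (ψ : E → ℂ), Cfsg.IsElementary p E ∧
    Cfsg.IsCharacter E ψ ∧ f = Cfsg.indFun E ψ}

theorem indFun_mem_elemSpan_of_isElementary {p : ℕ} (E : Subgroup G) (ψ : E → ℂ)
    (hE : Cfsg.IsElementary p E) (hψ : Cfsg.IsCharacter E ψ) :
    Cfsg.indFun E ψ ∈ elemSpan p G :=
  AddSubgroup.subset_closure ⟨E, ψ, hE, hψ, rfl⟩

/-- `elemSpan` is an ideal of the character ring. -/
theorem elemSpan_mul_char {p : ℕ} {f χ : G → ℂ} (hf : f ∈ elemSpan p G)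
    (hχ : Cfsg.IsCharacter G χ) : f * χ ∈ elemSpan p G := by
  induction hf using AddSubgroup.closure_induction with
  | mem f hf =>
    obtain ⟨E, ψ, hE, hψ, rfl⟩ := hf
    rw [← indFun_mul_restrict' E ψ χ (isClassFunction_of_isCharacter hχ)]
    exact indFun_mem_elemSpan_of_isElementary E _ hE
      (isCharacter_mul hψ (isCharacter_restrict E hχ))
  | zero => rw [zero_mul]; exact AddSubgroup.zero_mem _
  | add f₁ f₂ _ _ h₁ h₂ => rw [add_mul]; exact AddSubgroup.add_mem _ h₁ h₂
  | neg f _ h => rw [neg_mul]; exact AddSubgroup.neg_mem _ h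

/-- Transitivity: inducing an element of `elemSpan p T` gives an element of `elemSpan p G`. -/
theorem indFun_mem_elemSpan {p : ℕ} (T : Subgroup G) [Fintype T] {f : T → ℂ}
    (hf : f ∈ elemSpan p T) : Cfsg.indFun T f ∈ elemSpan p G := by
  induction hf using AddSubgroup.closure_induction with
  | mem f hf =>
    obtain ⟨F, ψ, hF, hψ, rfl⟩ := hf
    rw [indFun_trans_map]
    apply indFun_mem_elemSpan_of_isElementary
    · exact isElementary_of_mulEquiv (F.equivMapOfInjective T.subtype T.subtype_injective) hF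
    · exact isCharacter_comp
        (F.equivMapOfInjective T.subtype T.subtype_injective).symm.toMonoidHom hψ
  | zero => rw [indFun_zero]; exact AddSubgroup.zero_mem _
  | add f₁ f₂ _ _ h₁ h₂ => rw [indFun_add]; exact AddSubgroup.add_mem _ h₁ h₂
  | neg f _ h => rw [indFun_neg]; exact AddSubgroup.neg_mem _ h

end Span

end Cfsg.Agent.Lib.H23
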