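import Cfsg.Agent.Lib.H23.ExtDet
import Cfsg.Agent.Lib.H23.ExtendCyclic

/-!
# Extension of invariant characters over solvable quotients (helper23)

* `exists_normal_cyclic_quotient`: `G/N` solvable nontrivial ⇒ a proper normal `M ⊇ N`, `G/M` cyclic;
* `exists_extension_step`, `isSolvable_quotient_subgroupOf`;
* `exists_extension_of_solvable_aux`, `extension_iff_det_of_solvable` (Isaacs 6.25, S0863).
-/

set_option autoImplicit false

universe u

namespace Cfsg.Agent.Lib.H23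

open Cfsg.Agent.Lib.L0 Cfsg.Agent.Lib.H24 Module

section CyclicQuotient

open scoped commutatorElement

variable {G : Type*} [Group G] [Finite G]

/-- If `G/N` is solvable and nontrivial, there is a proper normal subgroup `M ⊇ N` with `G/M`
cyclic. -/
theorem exists_normal_cyclic_quotient (N : Subgroup G) [N.Normal]
    (hsolv : Group.IsSolvable (G ⧸ N)) (hN : N ≠ ⊤) :
    ∃ (M : Subgroup G) (_ : M.Normal), N ≤ M ∧ M ≠ ⊤ ∧ IsCyclic (G ⧸ M) := by
  classical
  have hnt : Nontrivial (G ⧸ N) := by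
    obtain ⟨g, hg⟩ : ∃ g : G, g ∉ N := by
      by_contra hcon
      push Not at hcon
      exact hN (eq_top_iff.mpr fun x _ => hcon x)
    refine ⟨(g : G ⧸ N), 1, ?_⟩
    intro h
    exact hg ((QuotientGroup.eq_one_iff g).mp h)
  have hC : commutator (G ⧸ N) < ⊤ := Group.IsSolvable.commutator_lt_top_of_nontrivial (G ⧸ N)
  obtain ⟨H, hHco, hCH⟩ := (eq_top_or_exists_le_coatom (commutator (G ⧸ N))).resolve_left hC.ne
  have hHn : H.Normal := by
    constructor
    intro h hh g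
    have h1 : g * h * g⁻¹ = ⁅g, h⁆ * h := by rw [commutatorElement_def]; group
    rw [h1]
    apply H.mul_mem _ hh
    apply hCH
    rw [commutator_def]
    exact Subgroup.commutator_mem_commutator (Subgroup.mem_top g) (Subgroup.mem_top h)
  obtain ⟨q, hq⟩ : ∃ q : G ⧸ N, q ∉ H := by
    by_contra hcon
    push Not at hcon
    exact hHco.1 (eq_top_iff.mpr fun x _ => hcon x)
  have hsup : H ⊔ Subgroup.zpowers q = ⊤ := by
    apply hHco.2
    apply lt_of_le_of_ne le_sup_left
    intro heq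
    apply hq
    rw [heq]
    exact (le_sup_right : Subgroup.zpowers q ≤ H ⊔ Subgroup.zpowers q) (Subgroup.mem_zpowers q)
  obtain ⟨g₀, rfl⟩ := QuotientGroup.mk_surjective q
  set M : Subgroup G := H.comap (QuotientGroup.mk' N) with hM
  have hMn : M.Normal := Subgroup.Normal.comap hHn _
  refine ⟨M, hMn, ?_, ?_, ?_⟩
  · intro n hn
    rw [hM, Subgroup.mem_comap]
    have : QuotientGroup.mk' N n = 1 := (QuotientGroup.eq_one_iff n).mpr hn
    rw [this]
    exact H.one_mem
  · intro htop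
    apply hq
    have : g₀ ∈ M := by rw [htop]; exact Subgroup.mem_top _
    exact this
  · refine ⟨(g₀ : G ⧸ M), fun y => ?_⟩
    obtain ⟨x, rfl⟩ := QuotientGroup.mk_surjective y
    have hx : ((x : G) : G ⧸ N) ∈ H ⊔ Subgroup.zpowers ((g₀ : G) : G ⧸ N) := by
      rw [hsup]
      exact Subgroup.mem_top _
    rw [Subgroup.mem_sup_of_normal_left] at hx
    obtain ⟨h, hh, z, hz, hhz⟩ := hx
    obtain ⟨k, rfl⟩ := Subgroup.mem_zpowers_iff.mp hz
    refine Subgroup.mem_zpowers_iff.mpr ⟨k, ?_⟩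
    rw [← QuotientGroup.mk_zpow, QuotientGroup.eq]
    rw [hM, Subgroup.mem_comap]
    have h2 : QuotientGroup.mk' N ((g₀ ^ k)⁻¹ * x) = ((g₀ : G) : G ⧸ N) ^ (-k) * h *
        ((g₀ : G) : G ⧸ N) ^ k := by
      rw [map_mul, map_inv, map_zpow]
      change _ * ((x : G) : G ⧸ N) = _
      rw [← hhz, zpow_neg]
      change (((g₀ : G) : G ⧸ N) ^ k)⁻¹ * (h * ((g₀ : G) : G ⧸ N) ^ k) = _
      group
    rw [h2, zpow_neg]
    have := hHn.conj_mem h hh ((((g₀ : G) : G ⧸ N) ^ k)⁻¹)
    rwa [inv_inv] at this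

end CyclicQuotient

section Solvable

variable {G : Type u} [Group G] [Fintype G]

/-- The inductive step of Isaacs 6.25. -/
theorem exists_extension_step (N M : Subgroup G) [hN : N.Normal] [hM : M.Normal] (hNM : N ≤ M)
    (hcyc : IsCyclic (G ⧸ M)) (ϑ : N → ℂ) (hϑ : Cfsg.IsIrrCharacter N ϑ)
    (hinv : ∀ (g : G) (n : N), ϑ ⟨g * n * g⁻¹, hN.conj_mem (n : G) n.2 g⟩ = ϑ n)
    (d : ℕ) (hd : ϑ 1 = d) (hcop : Nat.Coprime (N.relIndex M) d)
    (μ : G → ℂ) (hμ : Cfsg.IsCharacter G μ ∧ μ 1 = 1) (hμN : ∀ n : N, μ n = Cfsg.detChar ϑ n)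
    (hextM : ∃ ψ₀ : M → ℂ, Cfsg.IsIrrCharacter M ψ₀ ∧ ∀ n : N, ψ₀ ⟨n, hNM n.2⟩ = ϑ n) :
    ∃ χ : G → ℂ, Cfsg.IsIrrCharacter G χ ∧ ∀ n : N, χ n = ϑ n := by
  classical
  have : Fintype M := Fintype.ofFinite M
  set N' : Subgroup M := N.subgroupOf M with hN'
  set e : N' ≃* N := Subgroup.subgroupOfEquivOfLe hNM with he
  have hecoe : ∀ n' : N', ((e n' : N) : G) = ((n' : M) : G) := fun _ => rfl
  set ϑ' : N' → ℂ := ϑ ∘ e with hϑ'def
  have hϑ' : Cfsg.IsIrrCharacter N' ϑ' :=
    isIrrCharacter_comp_of_surjective e.toMonoidHom e.surjective hϑ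
  set μ' : M → ℂ := fun m => μ m with hμ'def
  have hμ' : Cfsg.IsCharacter M μ' ∧ μ' 1 = 1 := ⟨isCharacter_restrict M hμ.1, hμ.2⟩
  have hμ'N : ∀ n' : N', μ' n' = Cfsg.detChar ϑ' n' := by
    intro n'
    have h1 : Cfsg.detChar ϑ' = Cfsg.detChar ϑ ∘ e :=
      detChar_comp e.toMonoidHom (isCharacter_of_irr hϑ)
    rw [h1]
    exact hμN (e n')
  have hext' : ∃ η : M → ℂ, Cfsg.IsIrrCharacter M η ∧ ∀ n' : N', η n' = ϑ' n' := by
    obtain ⟨ψ₀, hψ₀, hψ₀N⟩ := hextM
    exact ⟨ψ₀, hψ₀, fun n' => hψ₀N (e n')⟩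
  have hd' : ϑ' 1 = d := by
    rw [hϑ'def, Function.comp_apply, map_one, hd]
  obtain ⟨ψ, ⟨hψirr, hψN, hψdet⟩, huniq⟩ :=
    exists_unique_extension_with_det N' ϑ' d hd' hcop hext' hϑ' μ' hμ' hμ'N
  have hψinv : ∀ (g : G) (m : M), ψ ⟨g * m * g⁻¹, hM.conj_mem (m : G) m.2 g⟩ = ψ m := by
    intro g m
    set c : M ≃* M := MulAut.conjNormal g with hc
    have hcm : ∀ m : M, c m = ⟨g * m * g⁻¹, hM.conj_mem (m : G) m.2 g⟩ := by
      intro m
      apply Subtype.ext
      exact MulAut.conjNormal_apply g m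
    have h1 : ψ ∘ c = ψ := by
      apply huniq
      refine ⟨isIrrCharacter_comp_of_surjective c.toMonoidHom c.surjective hψirr, ?_, ?_⟩
      · intro n'
        have hmem : ((c (n' : M) : M) : G) ∈ N := by
          rw [hcm]
          exact hN.conj_mem _ (e n').2 g
        set x' : N' := ⟨c (n' : M), Subgroup.mem_subgroupOf.mpr hmem⟩ with hx'
        have h2 : (ψ ∘ c) (n' : M) = ψ (x' : M) := rfl
        rw [h2, hψN x', hϑ'def, Function.comp_apply, Function.comp_apply]
        have h3 : e x' = ⟨g * (e n' : N) * g⁻¹, hN.conj_mem _ (e n').2 g⟩ := by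
          apply Subtype.ext
          rw [hecoe, hx']
          simp only [hcm]
          rfl
        rw [h3, hinv]
      · have h7 : Cfsg.detChar (ψ ∘ c) = Cfsg.detChar ψ ∘ c :=
          detChar_comp c.toMonoidHom (isCharacter_of_irr hψirr)
        rw [h7, hψdet]
        funext m
        simp only [Function.comp_apply, hμ'def]
        have h4 : ((c m : M) : G) = g * m * g⁻¹ := MulAut.conjNormal_apply g m
        rw [h4]
        exact isClassFunction_of_isCharacter hμ.1 m g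
    have := congrFun h1 m
    rw [Function.comp_apply, hcm] at this
    exact this
  obtain ⟨χ, hχ, hχM⟩ := exists_extension_of_cyclic M hcyc ψ hψirr hψinv
  refine ⟨χ, hχ, fun n => ?_⟩
  have h5 := hχM ⟨n, hNM n.2⟩
  have h6 := hψN (e.symm n)
  rw [hϑ'def, Function.comp_apply, MulEquiv.apply_symm_apply] at h6
  rw [← h6]
  exact h5

theorem isSolvable_quotient_subgroupOf (N M : Subgroup G) [N.Normal]
    (hsolv : Group.IsSolvable (G ⧸ N)) : Group.IsSolvable (M ⧸ N.subgroupOf M) := by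
  let φ : M ⧸ N.subgroupOf M →* G ⧸ N :=
    QuotientGroup.map (N.subgroupOf M) N M.subtype (fun x hx => hx)
  have hφ : Function.Injective φ := by
    rw [injective_iff_map_eq_one]
    intro q hq
    obtain ⟨m, rfl⟩ := QuotientGroup.mk_surjective q
    have h1 : φ (m : M ⧸ N.subgroupOf M) = ((m : G) : G ⧸ N) := rfl
    rw [h1, QuotientGroup.eq_one_iff] at hq
    exact (QuotientGroup.eq_one_iff m).mpr (Subgroup.mem_subgroupOf.mpr hq)
  exact solvable_of_solvable_injective hφ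

end Solvable

section Induction

/-- Isaacs 6.25 (the nontrivial direction). -/
theorem exists_extension_of_solvable_aux : ∀ (n : ℕ) (G : Type u) [Group G] [Fintype G]
    (N : Subgroup G) [hN : N.Normal],
    N.index = n → Group.IsSolvable (G ⧸ N) → ∀ (ϑ : N → ℂ), Cfsg.IsIrrCharacter N ϑ →
    (∀ (g : G) (n : N), ϑ ⟨g * n * g⁻¹, hN.conj_mem (n : G) n.2 g⟩ = ϑ n) →
    ∀ d : ℕ, ϑ 1 = d → Nat.Coprime N.index d →
    ∀ μ : G → ℂ, (Cfsg.IsCharacter G μ ∧ μ 1 = 1) → (∀ n : N, μ n = Cfsg.detChar ϑ n) →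
    ∃ χ : G → ℂ, Cfsg.IsIrrCharacter G χ ∧ ∀ n : N, χ n = ϑ n := by
  intro n
  induction n using Nat.strong_induction_on with
  | _ n ih =>
    intro G _ _ N hN hidx hsolv ϑ hϑ hinv d hd hcop μ hμ hμN
    classical
    by_cases htop : N = ⊤
    · have hmem : ∀ g : G, g ∈ N := fun g => by rw [htop]; exact Subgroup.mem_top g
      let f : G →* N := MonoidHom.codRestrict (MonoidHom.id G) N hmem
      have hf : Function.Surjective f := fun x => ⟨x, Subtype.ext rfl⟩
      refine ⟨ϑ ∘ f, isIrrCharacter_comp_of_surjective f hf hϑ, fun x => ?_⟩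
      rw [Function.comp_apply]
      congr 1
    · obtain ⟨M, hMn, hNM, hMtop, hcyc⟩ := exists_normal_cyclic_quotient N hsolv htop
      have : Fintype M := Fintype.ofFinite M
      have hrel : N.relIndex M * M.index = N.index := Subgroup.relIndex_mul_index hNM
      have hMidx : 1 < M.index := by
        have h1 : M.index ≠ 1 := fun h => hMtop (Subgroup.index_eq_one.mp h)
        have h0 : M.index ≠ 0 := Subgroup.index_ne_zero_of_finite
        omega
      have hrel0 : 0 < N.relIndex M := by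
        rcases Nat.eq_zero_or_pos (N.relIndex M) with h | h
        · rw [h, zero_mul] at hrel
          exact absurd hrel.symm Subgroup.index_ne_zero_of_finite
        · exact h
      have hlt : N.relIndex M < n := by
        rw [← hidx, ← hrel]
        nlinarith
      have hcop' : Nat.Coprime (N.relIndex M) d :=
        Nat.Coprime.coprime_dvd_left ⟨M.index, hrel.symm⟩ hcop
      set N' : Subgroup M := N.subgroupOf M with hN'
      set e : N' ≃* N := Subgroup.subgroupOfEquivOfLe hNM with he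
      have hinv' : ∀ (m : M) (n' : N'),
          (ϑ ∘ e) ⟨m * n' * m⁻¹, (inferInstance : N'.Normal).conj_mem (n' : M) n'.2 m⟩ =
            (ϑ ∘ e) n' := by
        intro m n'
        have := hinv (m : G) (e n')
        rw [Function.comp_apply, Function.comp_apply, ← this]
        congr 1
      have hd' : (ϑ ∘ e) 1 = d := by rw [Function.comp_apply, map_one, hd]
      have hμ'N : ∀ n' : N', (fun m : M => μ m) n' = Cfsg.detChar (ϑ ∘ e) n' := by
        intro n'
        have h1 : Cfsg.detChar (ϑ ∘ e) = Cfsg.detChar ϑ ∘ e :=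
          detChar_comp e.toMonoidHom (isCharacter_of_irr hϑ)
        rw [h1]
        exact hμN (e n')
      obtain ⟨ψ₀, hψ₀, hψ₀N⟩ := ih (N.relIndex M) hlt M N' rfl
        (isSolvable_quotient_subgroupOf N M hsolv) (ϑ ∘ e)
        (isIrrCharacter_comp_of_surjective e.toMonoidHom e.surjective hϑ) hinv' d hd' hcop'
        (fun m : M => μ m) ⟨isCharacter_restrict M hμ.1, hμ.2⟩ hμ'N
      refine exists_extension_step N M hNM hcyc ϑ hϑ hinv d hd hcop' μ hμ hμN ⟨ψ₀, hψ₀, ?_⟩
      intro n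
      have h2 := hψ₀N (e.symm n)
      rw [Function.comp_apply, MulEquiv.apply_symm_apply] at h2
      rw [← h2]
      rfl


/-- Isaacs 6.25. -/
theorem extension_iff_det_of_solvable {G : Type u} [Group G] [Fintype G] (N : Subgroup G)
    [hN : N.Normal] (hsolv : Group.IsSolvable (G ⧸ N)) (ϑ : N → ℂ)
    (hϑ : Cfsg.IsIrrCharacter N ϑ)
    (hinv : ∀ (g : G) (n : N), ϑ ⟨g * n * g⁻¹, hN.conj_mem (n : G) n.2 g⟩ = ϑ n)
    (d : ℕ) (hd : ϑ 1 = d) (hcop : Nat.Coprime N.index d) :
    (∃ χ : G → ℂ, Cfsg.IsIrrCharacter G χ ∧ (∀ n : N, χ n = ϑ n)) ↔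
      ∃ μ : G → ℂ, Cfsg.IsCharacter G μ ∧ μ 1 = 1 ∧ ∀ n : N, μ n = Cfsg.detChar ϑ n := by
  constructor
  · rintro ⟨χ, hχ, hχN⟩
    have hχc := isCharacter_of_irr hχ
    obtain ⟨h1, h2⟩ := isCharacter_detChar hχc
    refine ⟨Cfsg.detChar χ, h1, h2, fun n => ?_⟩
    have h3 := detChar_restrict N hχc
    have h4 : (fun n : N => χ n) = ϑ := funext hχN
    rw [h4] at h3
    rw [h3]
  · rintro ⟨μ, hμ1, hμ2, hμN⟩
    exact exists_extension_of_solvable_aux _ G N rfl hsolv ϑ hϑ hinv d hd hcop μ ⟨hμ1, hμ2⟩ hμN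

end Induction

end Cfsg.Agent.Lib.H23
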