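import Cfsg.Agent.Lib.H24.CharDefl
import Cfsg.Agent.Lib.H24.CharSchur

/-!
# Irreducible characters of `C ⧸ F` separate the cosets of `F` (helper23; END step of S3816)

`mem_of_forall_irr`: if `z ∈ C` satisfies `β z = β 1` for every irreducible character `β` of `C`
that is constant `= β 1` on the normal subgroup `F`, then `z ∈ F`.
-/

set_option autoImplicit false

namespace Cfsg.Agent.Lib.H23.FlavEnd

open Cfsg Cfsg.Agent.Lib.L0 Cfsg.Agent.Lib.H24

variable {C : Type*} [Group C] [Finite C]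

/-- Characters of `C ⧸ F` separate points: column orthogonality against the identity. -/
theorem eq_one_of_forall_irr (z : C) (h : ∀ ψ : IrrCharacter C, (ψ : C → ℂ) z = (ψ : C → ℂ) 1) :
    z = 1 := by
  classical
  have := Fintype.ofFinite C
  have := Fintype.ofFinite (IrrCharacter C)
  by_contra hz
  have h1 := sum_irr_one_mul (G := C) z
  have h2 := sum_irr_one_mul (G := C) 1
  rw [if_neg hz] at h1
  rw [if_pos rfl] at h2
  have h3 : ∑ χ : IrrCharacter C, (χ : C → ℂ) 1 * (χ : C → ℂ) z =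
      ∑ χ : IrrCharacter C, (χ : C → ℂ) 1 * (χ : C → ℂ) 1 :=
    Finset.sum_congr rfl (fun χ _ => by rw [h χ])
  rw [h1, h2] at h3
  have h4 : (Nat.card C : ℂ) ≠ 0 := by
    exact_mod_cast (Nat.card_pos (α := C)).ne'
  exact h4 h3.symm

/-- If `β z = β 1` for all irreducible `β` of `C` with `F` in the kernel, then `z ∈ F`. -/
theorem mem_of_forall_irr (F : Subgroup C) [F.Normal] (z : C)
    (h : ∀ β : IrrCharacter C, (∀ f ∈ F, (β : C → ℂ) f = (β : C → ℂ) 1) →
      (β : C → ℂ) z = (β : C → ℂ) 1) : z ∈ F := by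
  have h1 : ((z : C) : C ⧸ F) = 1 := by
    apply eq_one_of_forall_irr
    intro ψ
    have h2 := h (inflIrr F ψ) (fun f hf => by
      rw [inflIrr_apply, inflIrr_apply, (QuotientGroup.eq_one_iff f).mpr hf, QuotientGroup.mk_one])
    rw [inflIrr_apply, inflIrr_apply, QuotientGroup.mk_one] at h2
    exact h2
  exact (QuotientGroup.eq_one_iff z).mp h1

/-- Subgroup version: `F ≤ C ≤ Γ`, `F` normalized by `C`; characters of `C` trivial on `F`
separate the cosets of `F` in `C`. -/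
theorem sep {Γ : Type*} [Group Γ] [Finite Γ] (C F : Subgroup Γ) (hFC : F ≤ C)
    (hnorm : ∀ c ∈ C, ∀ w ∈ F, c * w * c⁻¹ ∈ F) (z : Γ) (hz : z ∈ C)
    (h : ∀ β : IrrCharacter C,
      (∀ w (hw : w ∈ F), (β : C → ℂ) ⟨w, hFC hw⟩ = (β : C → ℂ) 1) →
        (β : C → ℂ) ⟨z, hz⟩ = (β : C → ℂ) 1) : z ∈ F := by
  have hN : (F.subgroupOf C).Normal := by
    constructor
    intro w hw c
    rw [Subgroup.mem_subgroupOf] at hw ⊢
    exact hnorm c.1 c.2 w.1 hw
  have h1 : (⟨z, hz⟩ : C) ∈ F.subgroupOf C := by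
    apply mem_of_forall_irr (F.subgroupOf C) ⟨z, hz⟩
    intro β hβ
    apply h β
    intro w hw
    exact hβ ⟨w, hFC hw⟩ (by rw [Subgroup.mem_subgroupOf]; exact hw)
  rw [Subgroup.mem_subgroupOf] at h1
  exact h1

end Cfsg.Agent.Lib.H23.FlavEnd
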