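import Mathlib
import Cfsg.Prelude.Def_Blocks
import Cfsg.Agent.Lib.H23.BlockFirstMain
import Cfsg.Agent.Lib.H23.BlockIdemNil
import Cfsg.Agent.Lib.H23.BlockEquiv
import Cfsg.Agent.Lib.H23.FRDefect
import Cfsg.Agent.Lib.L0.BlockOrbitCover
import Cfsg.Agent.S4653

/-!
# First main theorem: idempotent coefficients

`NN = N_G(D)`, `b` a block of `NN` with defect group `D`, `B = b^G`.  Then the Brauer image of `e_B`
is `e_b` modulo the local ideal, coefficientwise.
-/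

set_option autoImplicit false

namespace Cfsg.Agent.Lib.H23

open Cfsg MonoidAlgebra Cfsg.Agent.Lib.H24 Cfsg.Agent.Lib.L0
open scoped ComplexConjugate

section General

variable {K : Type*} [Group K] [Fintype K] {p : ℕ} {M : Ideal AlgInt}

/-- A central element with coefficients in the local ideal has central character values in the
local ideal. -/
theorem omega_memLocalIdeal_of_coeff' [hPr : M.IsPrime] (ψ : IrrCharacter K)
    {z : MonoidAlgebra ℂ K} (hz : z ∈ Subalgebra.center ℂ (MonoidAlgebra ℂ K))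
    (hcoeff : ∀ k, MemLocalIdeal M (z.coeff k)) : MemLocalIdeal M (omega (ψ : K → ℂ) z) := by
  classical
  haveI := Fintype.ofFinite (ConjClasses K)
  rw [omega_eq_sum_centralChar (irr_isClassFunction ψ) hz]
  refine memLocalIdeal_sum _ _ fun c _ => ?_
  exact memLocalIdeal_mul_right (hcoeff _) (coe_mem_localRing (omegaInt ψ _))

/-- Two blocks with congruent idempotents are equal. -/
theorem blockOf_eq_of_coeff_congr [hPr : M.IsPrime] (ξ₁ ξ₂ : IrrCharacter K)
    (h : ∀ k : K, MemLocalIdeal M (blockCoeff (blockOf M (ξ₁ : K → ℂ)) k -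
      blockCoeff (blockOf M (ξ₂ : K → ℂ)) k)) :
    blockOf M (ξ₁ : K → ℂ) = blockOf M (ξ₂ : K → ℂ) := by
  classical
  have hc : blockIdem (blockOf M (ξ₁ : K → ℂ)) - blockIdem (blockOf M (ξ₂ : K → ℂ)) ∈
      Subalgebra.center ℂ (MonoidAlgebra ℂ K) :=
    Subalgebra.sub_mem _ (blockIdem_mem_center _) (blockIdem_mem_center _)
  have h1 := omega_memLocalIdeal_of_coeff' (M := M) ξ₁ hc (fun k => by
    rw [MonoidAlgebra.coeff_sub, Finsupp.coe_sub, Pi.sub_apply, coeff_blockIdem, coeff_blockIdem]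
    exact h k)
  rw [omega_sub, omega_blockIdem, omega_blockIdem, if_pos (mem_blockOf_self ξ₁)] at h1
  have h2 : ξ₁ ∈ blockOf M (ξ₂ : K → ℂ) := by
    by_contra hne
    rw [if_neg hne, sub_zero] at h1
    exact not_memLocalIdeal_one h1
  exact blockOf_eq_of_mem h2

/-- A normal `p`-subgroup is a defect group iff it has the right order. -/
theorem isDefectGroup_normal_iff [Fact p.Prime] (hM : IsPModular p M) (ξ : IrrCharacter K)
    (Q : Subgroup K) [Q.Normal] (hQ : IsPGroup p Q) :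
    IsDefectGroup p M (blockOf M (ξ : K → ℂ)) Q ↔
      Nat.card Q = p ^ blockDefect p (blockOf M (ξ : K → ℂ)) := by
  constructor
  · intro h
    exact card_defectGroup hM ξ Q h
  · intro h
    obtain ⟨D, hD⟩ := exists_isDefectGroup (p := p) hM ξ
    have hle := normal_le_defectGroup hM ξ Q hQ D hD
    have hc := card_defectGroup hM ξ D hD
    have : Q = D := Subgroup.eq_of_le_of_card_ge hle (by rw [hc, h])
    rw [this]
    exact hD

end General

section FM

variable {G : Type*} [Group G] [Fintype G] {p : ℕ} [Fact p.Prime] {M : Ideal AlgInt}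
  (D NN : Subgroup G) [Fintype NN]

/-- **Brauer image of the block idempotent.** -/
theorem coeff_congr_of_induced (hNN : NN = Subgroup.normalizer (D : Set G))
    (hM : IsPModular p M) (hD : IsPGroup p D) (ξ₀ : IrrCharacter NN) (χ₀ : IrrCharacter G)
    (hDb : IsDefectGroup p M (blockOf M (ξ₀ : NN → ℂ)) (D.subgroupOf NN))
    (hind : IsInducedBlock M NN (blockOf M (ξ₀ : NN → ℂ)) (blockOf M (χ₀ : G → ℂ))) (n : NN) :
    MemLocalIdeal M ((brAlg D NN (blockIdem (blockOf M (χ₀ : G → ℂ)))).coeff n -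
      blockCoeff (blockOf M (ξ₀ : NN → ℂ)) n) := by
  classical
  haveI hPr := isPrime_of_isPModular hM
  have hp0 : (p : ℂ) ≠ 0 := Nat.cast_ne_zero.2 (prime_of_isPModular hM).ne_zero
  have hDN : D ≤ NN := hNN ▸ Subgroup.le_normalizer
  have hCN : Subgroup.centralizer (D : Set G) ≤ NN :=
    hNN ▸ Subgroup.centralizer_le_normalizer _
  set B := blockOf M (χ₀ : G → ℂ) with hB
  set b := blockOf M (ξ₀ : NN → ℂ) with hb
  set e := blockIdem B with he
  have hec : e ∈ Subalgebra.center ℂ (MonoidAlgebra ℂ G) := blockIdem_mem_center B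
  have hei : e ∈ intCoeff (G := G) M := fun g => blockIdem_memLocalRing hM χ₀ g
  have hee : e * e = e := blockIdem_mul_self B
  set E := brAlg D NN e with hE
  have hEc : E ∈ Subalgebra.center ℂ (MonoidAlgebra ℂ NN) :=
    brAlg_mem_center D NN (le_of_eq hNN) hec
  have hEi : E ∈ intCoeff (G := NN) M := brAlg_mem_intCoeff D NN hei
  obtain ⟨t, ht, hte⟩ := brAlg_mul D NN hM hD hCN e e hei hei
    (fun q _ => invUnder_of_mem_center hec q) (fun q _ => invUnder_of_mem_center hec q)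
  rw [hee] at hte
  have hEE : E * E = E - (p : ℂ) • t := by
    rw [eq_sub_iff_add_eq]; exact hte.symm
  set f := blockIdem b with hf
  have hfc : f ∈ Subalgebra.center ℂ (MonoidAlgebra ℂ NN) := blockIdem_mem_center b
  have hfi : f ∈ intCoeff (G := NN) M := fun g => blockIdem_memLocalRing hM ξ₀ g
  have hff : f * f = f := blockIdem_mul_self b
  -- `B` has defect group `D`
  obtain ⟨χ₁, hχ₁D, hχ₁ind⟩ := exists_block_up D NN hNN hM hD ξ₀ hDb
  have hBeq : blockOf M (χ₁ : G → ℂ) = B := isInducedBlock_unique NN hχ₁ind hind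
  have hBD : IsDefectGroup p M B D := hBeq ▸ hχ₁D
  haveI hnD : (D.subgroupOf NN).Normal :=
    Subgroup.normal_subgroupOf_of_le_normalizer (le_of_eq hNN)
  have hpg : IsPGroup p (D.subgroupOf NN) := hD.comap_subtype
  -- values of `ω_ψ(E)`
  have hωE : ∀ ψ : IrrCharacter NN,
      MemLocalIdeal M (omega (ψ : NN → ℂ) E - (if ψ ∈ b then 1 else 0)) := by
    intro ψ
    obtain ⟨χ₂, hχ₂⟩ := exists_isInducedBlock D NN hM hD hDN hCN (le_of_eq hNN) ψ
    have h1 := omega_resAlg_sub_memLocalIdeal NN hχ₂ (mem_blockOf_self ψ)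
      (mem_blockOf_self χ₂) hec hei
    have h2 := omega_resAlg_sub_brAlg D NN hM hD hDN (le_of_eq hNN) ψ hec hei
    have h3 : MemLocalIdeal M (omega (ψ : NN → ℂ) E - omega (χ₂ : G → ℂ) e) := by
      have := memLocalIdeal_sub h1 h2
      convert this using 1
      ring
    rw [he, omega_blockIdem] at h3
    by_cases hψ : ψ ∈ b
    · rw [if_pos hψ]
      have h4 : blockOf M (ψ : NN → ℂ) = b := blockOf_eq_of_mem hψ
      rw [h4] at hχ₂
      have h5 : blockOf M (χ₂ : G → ℂ) = B := isInducedBlock_unique NN hχ₂ hind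
      have hχ₂B : χ₂ ∈ B := h5 ▸ mem_blockOf_self χ₂
      rwa [if_pos hχ₂B] at h3
    · rw [if_neg hψ]
      have hχ₂B : χ₂ ∉ B := by
        intro hmem
        apply hψ
        have hB2 : blockOf M (χ₂ : G → ℂ) = B := blockOf_eq_of_mem hmem
        rw [hB2] at hχ₂
        -- the block of `ψ` has defect group `D`
        obtain ⟨Dψ, hDψ⟩ := exists_isDefectGroup (p := p) hM ψ
        have hle := normal_le_defectGroup hM ψ (D.subgroupOf NN) hpg Dψ hDψ
        obtain ⟨E', hE', hDE'⟩ := defectGroup_le_of_induced NN hM hχ₂ Dψ hDψ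
        have hcE' := card_defectGroup hM χ₀ E' hE'
        have hcD := card_defectGroup hM χ₀ D hBD
        have hcard : Nat.card Dψ ≤ Nat.card (D.subgroupOf NN) := by
          have h6 : Nat.card (Dψ.map NN.subtype) = Nat.card Dψ :=
            Subgroup.card_map_of_injective (Subgroup.subtype_injective _)
          have h7 : Nat.card (Dψ.map NN.subtype) ≤ Nat.card E' := Subgroup.card_le_of_le hDE'
          have h8 : Nat.card (D.subgroupOf NN) = Nat.card D :=
            Nat.card_congr (Subgroup.subgroupOfEquivOfLe hDN).toEquiv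
          rw [h8, hcD, ← hcE', ← h6]
          exact h7
        have hDeq : D.subgroupOf NN = Dψ := Subgroup.eq_of_le_of_card_ge hle hcard
        rw [← hDeq] at hDψ
        have h9 := block_down_unique D NN hNN hM hD χ₀ ψ ξ₀ hDb hχ₂ hind
        have : ψ ∈ blockOf M (ψ : NN → ℂ) := mem_blockOf_self ψ
        rw [h9] at this
        exact this
      rwa [if_neg hχ₂B] at h3
  -- the two products
  have hcommE : ∀ w : MonoidAlgebra ℂ NN, w * E = E * w := fun w =>
    (Subalgebra.mem_center_iff.mp hEc w)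
  have hcommf : ∀ w : MonoidAlgebra ℂ NN, w * f = f * w := fun w =>
    (Subalgebra.mem_center_iff.mp hfc w)
  have h1f : (1 - f) * (1 - f) = 1 - f := by
    rw [mul_sub, mul_one, sub_mul, one_mul, hff]; abel
  have h1E : (1 - E) * (1 - E) = (1 - E) - (p : ℂ) • t := by
    rw [mul_sub, mul_one, sub_mul, one_mul, hEE]; abel
  set w₁ := E * (1 - f) with hw₁
  set w₂ := f * (1 - E) with hw₂
  have hw₁c : w₁ ∈ Subalgebra.center ℂ (MonoidAlgebra ℂ NN) :=
    Subalgebra.mul_mem _ hEc (Subalgebra.sub_mem _ (Subalgebra.one_mem _) hfc)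
  have hw₂c : w₂ ∈ Subalgebra.center ℂ (MonoidAlgebra ℂ NN) :=
    Subalgebra.mul_mem _ hfc (Subalgebra.sub_mem _ (Subalgebra.one_mem _) hEc)
  have hw₁i : w₁ ∈ intCoeff (G := NN) M :=
    Subring.mul_mem _ hEi (Subring.sub_mem _ (Subring.one_mem _) hfi)
  have hw₂i : w₂ ∈ intCoeff (G := NN) M :=
    Subring.mul_mem _ hfi (Subring.sub_mem _ (Subring.one_mem _) hEi)
  have ht₁ : -(t * (1 - f)) ∈ intCoeff (G := NN) M :=
    Subring.neg_mem _ (Subring.mul_mem _ ht (Subring.sub_mem _ (Subring.one_mem _) hfi))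
  have ht₂ : -(f * t) ∈ intCoeff (G := NN) M :=
    Subring.neg_mem _ (Subring.mul_mem _ hfi ht)
  have hw₁t : w₁ * w₁ = w₁ + (p : ℂ) • (-(t * (1 - f))) := by
    have : w₁ * w₁ = (E * E) * ((1 - f) * (1 - f)) := by
      rw [hw₁, mul_assoc, ← mul_assoc (1 - f) E, hcommE (1 - f), mul_assoc, ← mul_assoc]
    rw [this, hEE, h1f, sub_mul, smul_mul_assoc, smul_neg, sub_eq_add_neg]
  have hw₂t : w₂ * w₂ = w₂ + (p : ℂ) • (-(f * t)) := by
    have : w₂ * w₂ = (f * f) * ((1 - E) * (1 - E)) := by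
      rw [hw₂, mul_assoc, ← mul_assoc (1 - E) f, hcommf (1 - E), mul_assoc, ← mul_assoc]
    rw [this, hff, h1E, mul_sub, mul_smul_comm, smul_neg, sub_eq_add_neg]
  have hωf : ∀ ψ : IrrCharacter NN, omega (ψ : NN → ℂ) f = if ψ ∈ b then 1 else 0 :=
    fun ψ => omega_blockIdem b ψ
  have hω1 : ∀ ψ : IrrCharacter NN, omega (ψ : NN → ℂ) (1 : MonoidAlgebra ℂ NN) = 1 :=
    fun ψ => omega_one (irr_one_ne_zero ψ)
  have hω₁ : ∀ ψ : IrrCharacter NN, MemLocalIdeal M (omega (ψ : NN → ℂ) w₁) := by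
    intro ψ
    rw [hw₁, omega_mul ψ.2 hEc, omega_sub, hω1, hωf]
    have h := hωE ψ
    by_cases hψ : ψ ∈ b
    · rw [if_pos hψ, sub_self, mul_zero]
      exact memLocalIdeal_zero hPr.ne_top
    · rw [if_neg hψ, sub_zero, mul_one]
      rwa [if_neg hψ, sub_zero] at h
  have hω₂ : ∀ ψ : IrrCharacter NN, MemLocalIdeal M (omega (ψ : NN → ℂ) w₂) := by
    intro ψ
    rw [hw₂, omega_mul ψ.2 hfc, omega_sub, hω1, hωf]
    have h := hωE ψ
    by_cases hψ : ψ ∈ b
    · rw [if_pos hψ, one_mul]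
      rw [if_pos hψ] at h
      have := memLocalIdeal_neg h
      rwa [neg_sub] at this
    · rw [if_neg hψ, zero_mul]
      exact memLocalIdeal_zero hPr.ne_top
  have hd₁ := coeff_div_of_idem_nil hM hw₁c hw₁i ht₁ hw₁t hω₁ n
  have hd₂ := coeff_div_of_idem_nil hM hw₂c hw₂i ht₂ hw₂t hω₂ n
  have hm₁ : MemLocalIdeal M (w₁.coeff n) := by
    have : w₁.coeff n = (p : ℂ) * (w₁.coeff n / p) := by rw [mul_div_cancel₀ _ hp0]
    rw [this]
    exact memLocalIdeal_mul_right (memLocalIdeal_p hM) hd₁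
  have hm₂ : MemLocalIdeal M (w₂.coeff n) := by
    have : w₂.coeff n = (p : ℂ) * (w₂.coeff n / p) := by rw [mul_div_cancel₀ _ hp0]
    rw [this]
    exact memLocalIdeal_mul_right (memLocalIdeal_p hM) hd₂
  have hdiff : E - f = w₁ - w₂ := by
    rw [hw₁, hw₂, mul_sub, mul_sub, mul_one, mul_one, hcommf E]
    abel
  have hfin : E.coeff n - blockCoeff b n = w₁.coeff n - w₂.coeff n := by
    have := congrArg (fun z : MonoidAlgebra ℂ NN => z.coeff n) hdiff
    simp only [MonoidAlgebra.coeff_sub, Finsupp.coe_sub, Pi.sub_apply] at this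
    rw [← this, hf, coeff_blockIdem]
  rw [hfin]
  exact memLocalIdeal_sub hm₁ hm₂

/-- Congruence of idempotent coefficients on `C_G(D)`. -/
def FMRel (M : Ideal AlgInt) (D NN : Subgroup G) (B : Set (IrrCharacter G))
    (b : Set (IrrCharacter NN)) : Prop :=
  ∀ n : NN, (n : G) ∈ Subgroup.centralizer (D : Set G) →
    MemLocalIdeal M (blockCoeff B (n : G) - blockCoeff b n)

theorem fmRel_of_induced (hNN : NN = Subgroup.normalizer (D : Set G))
    (hM : IsPModular p M) (hD : IsPGroup p D) (ξ₀ : IrrCharacter NN) (χ₀ : IrrCharacter G)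
    (hDb : IsDefectGroup p M (blockOf M (ξ₀ : NN → ℂ)) (D.subgroupOf NN))
    (hind : IsInducedBlock M NN (blockOf M (ξ₀ : NN → ℂ)) (blockOf M (χ₀ : G → ℂ))) :
    FMRel M D NN (blockOf M (χ₀ : G → ℂ)) (blockOf M (ξ₀ : NN → ℂ)) := by
  classical
  intro n hn
  have h := coeff_congr_of_induced D NN hNN hM hD ξ₀ χ₀ hDb hind n
  rwa [coeff_brAlg, if_pos hn, coeff_blockIdem] at h

/-- Blocks of `N_G(D)` with defect group `D` are determined by their coefficients on `C_G(D)`. -/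
theorem down_unique_rel (hNN : NN = Subgroup.normalizer (D : Set G))
    (hM : IsPModular p M) (hD : IsPGroup p D) (ξ₁ ξ₂ : IrrCharacter NN)
    (h : ∀ n : NN, (n : G) ∈ Subgroup.centralizer (D : Set G) →
      MemLocalIdeal M (blockCoeff (blockOf M (ξ₁ : NN → ℂ)) n -
        blockCoeff (blockOf M (ξ₂ : NN → ℂ)) n)) :
    blockOf M (ξ₁ : NN → ℂ) = blockOf M (ξ₂ : NN → ℂ) := by
  haveI hPr := isPrime_of_isPModular hM
  have hDN : D ≤ NN := hNN ▸ Subgroup.le_normalizer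
  haveI hnD : (D.subgroupOf NN).Normal :=
    Subgroup.normal_subgroupOf_of_le_normalizer (le_of_eq hNN)
  have hpg : IsPGroup p (D.subgroupOf NN) := hD.comap_subtype
  apply blockOf_eq_of_coeff_congr
  intro n
  by_cases hn : (n : G) ∈ Subgroup.centralizer (D : Set G)
  · exact h n hn
  · have hn' : n ∉ Subgroup.centralizer ((D.subgroupOf NN : Subgroup NN) : Set NN) := by
      intro hc
      apply hn
      rw [Subgroup.mem_centralizer_iff]
      intro y hy
      have h1 := Subgroup.mem_centralizer_iff.1 hc ⟨y, hDN hy⟩ (Subgroup.mem_subgroupOf.2 hy)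
      exact congrArg Subtype.val h1
    rw [Cfsg.Agent.S4653.result p M hM (D.subgroupOf NN) hpg _ ⟨ξ₁, rfl⟩ n hn',
      Cfsg.Agent.S4653.result p M hM (D.subgroupOf NN) hpg _ ⟨ξ₂, rfl⟩ n hn', sub_self]
    exact memLocalIdeal_zero hPr.ne_top

end FM

section Corr

variable {G₁ : Type*} [Group G₁] [Fintype G₁] {G₂ : Type*} [Group G₂] [Fintype G₂]
  {p : ℕ} [Fact p.Prime] {M : Ideal AlgInt}
  (D₁ NN₁ : Subgroup G₁) [Fintype NN₁] (D₂ NN₂ : Subgroup G₂) [Fintype NN₂]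

omit [Fintype G₁] [Fintype G₂] [Fintype NN₁] [Fintype NN₂] [Fact p.Prime] in
theorem image_blockOf_irrEquiv (e : NN₂ ≃* NN₁) (ξ : IrrCharacter NN₁) :
    irrEquiv e '' blockOf M (ξ : NN₁ → ℂ) = blockOf M (irrEquiv e ξ : NN₂ → ℂ) := by
  ext φ
  constructor
  · rintro ⟨ψ, hψ, rfl⟩
    exact (irrEquiv_mem_blockOf_iff e ξ ψ).2 hψ
  · intro hφ
    refine ⟨(irrEquiv e).symm φ, ?_, Equiv.apply_symm_apply _ _⟩
    have : irrEquiv e ((irrEquiv e).symm φ) ∈ blockOf M (irrEquiv e ξ : NN₂ → ℂ) := by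
      rw [Equiv.apply_symm_apply]; exact hφ
    exact (irrEquiv_mem_blockOf_iff e ξ _).1 this

omit [Fintype G₁] [Fintype G₂] [Fintype NN₁] [Fintype NN₂] [Fact p.Prime] in
theorem blockCoeff_blockOf_irrEquiv (e : NN₂ ≃* NN₁) (ξ : IrrCharacter NN₁) (n₂ : NN₂) :
    blockCoeff (blockOf M (irrEquiv e ξ : NN₂ → ℂ)) n₂ =
      blockCoeff (blockOf M (ξ : NN₁ → ℂ)) (e n₂) := by
  rw [← image_blockOf_irrEquiv, Cfsg.Agent.Lib.L0.BlockOrbitCover.blockCoeff_irrEquiv_image]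

/-- Transport of the first-main correspondence between two groups whose normalizers of `D₁`, `D₂`
are identified. -/
theorem exists_unique_corr (hNN₁ : NN₁ = Subgroup.normalizer (D₁ : Set G₁))
    (hNN₂ : NN₂ = Subgroup.normalizer (D₂ : Set G₂)) (hM : IsPModular p M)
    (hD₁ : IsPGroup p D₁) (hD₂ : IsPGroup p D₂) (e : NN₂ ≃* NN₁)
    (hC : ∀ n₂ : NN₂, (n₂ : G₂) ∈ Subgroup.centralizer (D₂ : Set G₂) ↔
      ((e n₂ : NN₁) : G₁) ∈ Subgroup.centralizer (D₁ : Set G₁))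
    (hcard : Nat.card D₁ = Nat.card D₂)
    (B : Set (IrrCharacter G₁)) (hB : IsPBlock M B) (hBD : IsDefectGroup p M B D₁) :
    ∃! c : Set (IrrCharacter G₂), IsPBlock M c ∧ IsDefectGroup p M c D₂ ∧
      ∀ n₂ : NN₂, (n₂ : G₂) ∈ Subgroup.centralizer (D₂ : Set G₂) →
        MemLocalIdeal M (blockCoeff B ((e n₂ : NN₁) : G₁) - blockCoeff c (n₂ : G₂)) := by
  classical
  haveI hPr := isPrime_of_isPModular hM
  obtain ⟨χ₀, rfl⟩ := hB
  have hDN₁ : D₁ ≤ NN₁ := hNN₁ ▸ Subgroup.le_normalizer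
  have hDN₂ : D₂ ≤ NN₂ := hNN₂ ▸ Subgroup.le_normalizer
  haveI hn₁ : (D₁.subgroupOf NN₁).Normal :=
    Subgroup.normal_subgroupOf_of_le_normalizer (le_of_eq hNN₁)
  haveI hn₂ : (D₂.subgroupOf NN₂).Normal :=
    Subgroup.normal_subgroupOf_of_le_normalizer (le_of_eq hNN₂)
  have hpg₁ : IsPGroup p (D₁.subgroupOf NN₁) := hD₁.comap_subtype
  have hpg₂ : IsPGroup p (D₂.subgroupOf NN₂) := hD₂.comap_subtype
  have hc₁ : Nat.card (D₁.subgroupOf NN₁) = Nat.card D₁ :=
    Nat.card_congr (Subgroup.subgroupOfEquivOfLe hDN₁).toEquiv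
  have hc₂ : Nat.card (D₂.subgroupOf NN₂) = Nat.card D₂ :=
    Nat.card_congr (Subgroup.subgroupOfEquivOfLe hDN₂).toEquiv
  -- transport of the defect condition
  have htr : ∀ ξ : IrrCharacter NN₁,
      IsDefectGroup p M (blockOf M (ξ : NN₁ → ℂ)) (D₁.subgroupOf NN₁) ↔
        IsDefectGroup p M (blockOf M (irrEquiv e ξ : NN₂ → ℂ)) (D₂.subgroupOf NN₂) := by
    intro ξ
    rw [isDefectGroup_normal_iff hM ξ _ hpg₁, isDefectGroup_normal_iff hM (irrEquiv e ξ) _ hpg₂,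
      FR.blockDefect_blockOf_irrEquiv, hc₁, hc₂, hcard]
  -- existence
  obtain ⟨ξ₀, hξ₀D, hξ₀ind⟩ := exists_block_down D₁ NN₁ hNN₁ hM χ₀ hBD
  have hrel₁ := fmRel_of_induced D₁ NN₁ hNN₁ hM hD₁ ξ₀ χ₀ hξ₀D hξ₀ind
  have hξ₀D' := (htr ξ₀).1 hξ₀D
  obtain ⟨ζ₁, hζ₁D, hζ₁ind⟩ := exists_block_up D₂ NN₂ hNN₂ hM hD₂ (irrEquiv e ξ₀) hξ₀D'
  have hrel₂ := fmRel_of_induced D₂ NN₂ hNN₂ hM hD₂ (irrEquiv e ξ₀) ζ₁ hξ₀D' hζ₁ind
  refine ⟨blockOf M (ζ₁ : G₂ → ℂ), ⟨⟨ζ₁, rfl⟩, hζ₁D, ?_⟩, ?_⟩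
  · intro n₂ hn₂
    have h1 := hrel₁ (e n₂) ((hC n₂).1 hn₂)
    have h2 := hrel₂ n₂ hn₂
    rw [blockCoeff_blockOf_irrEquiv] at h2
    have := memLocalIdeal_sub h1 h2
    rwa [sub_sub_sub_cancel_right] at this
  · rintro c ⟨⟨ζ₂, rfl⟩, hζ₂D, hcong⟩
    obtain ⟨ξ₂', hξ₂D, hξ₂ind⟩ := exists_block_down D₂ NN₂ hNN₂ hM ζ₂ hζ₂D
    have hrel₃ := fmRel_of_induced D₂ NN₂ hNN₂ hM hD₂ ξ₂' ζ₂ hξ₂D hξ₂ind
    have heq : blockOf M (ξ₂' : NN₂ → ℂ) = blockOf M (irrEquiv e ξ₀ : NN₂ → ℂ) := by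
      apply down_unique_rel D₂ NN₂ hNN₂ hM hD₂
      intro n₂ hn₂
      have h1 := hrel₁ (e n₂) ((hC n₂).1 hn₂)
      have h2 := hcong n₂ hn₂
      have h3 := hrel₃ n₂ hn₂
      rw [blockCoeff_blockOf_irrEquiv]
      -- a_{ξ₂'} ≡ a_{ζ₂} ≡ a_B ≡ a_{ξ₀}
      have h4 := memLocalIdeal_sub (memLocalIdeal_sub h1 h2) h3
      convert h4 using 1
      ring
    rw [heq] at hξ₂ind
    exact isInducedBlock_unique NN₂ hξ₂ind hζ₁ind

end Corr

end Cfsg.Agent.Lib.H23
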