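import Mathlib
import Cfsg.Prelude.Def_Blocks
import Cfsg.Prelude.Def_Characters
import Cfsg.Agent.Lib.H24.FullyRamCyclic
import Cfsg.Agent.Lib.H24.CharOrth

/-!
# S4563 / S4564 piece FR1 (DeMeyer–Janusz): a fully ramified character restricted to `S Z` (helper23)
-/

set_option autoImplicit false
set_option linter.style.haveILetI false

namespace Cfsg.Agent.Lib.H23.FRS

open scoped ComplexConjugate
open Cfsg Cfsg.Agent.Lib.L0 Cfsg.Agent.Lib.H24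

/-- A sum over a subgroup `W` of a function vanishing off `Z ≤ W` is a sum over `Z`. -/
theorem sum_subgroup_of_vanish_sub {H : Type*} [Group H] (Z W : Subgroup H) [Fintype ↥Z] [Fintype ↥W]
    (hZW : Z ≤ W) (F : ↥W → ℂ) (hF : ∀ w : ↥W, (w : H) ∉ Z → F w = 0) :
    ∑ w : ↥W, F w = ∑ z : ↥Z, F ⟨z, hZW z.2⟩ := by
  classical
  symm
  apply Finset.sum_of_injOn (fun z : ↥Z => (⟨z, hZW z.2⟩ : ↥W))
  · intro a _ b _ hab
    apply Subtype.ext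
    exact congrArg (fun w : ↥W => (w : H)) hab
  · intro a _
    exact Finset.mem_coe.mpr (Finset.mem_univ _)
  · intro w _ hw
    apply hF
    intro hwZ
    apply hw
    exact ⟨⟨w, hwZ⟩, Finset.mem_coe.mpr (Finset.mem_univ _), Subtype.ext rfl⟩
  · intro z _
    rfl

/-- Arithmetic: `n j = e²`, `n = p^k`, `p ∤ j` ⇒ `n = c²`, `e = a c`, `p ∤ a`, `c` a power of `p`. -/
theorem exists_sq_split (p : ℕ) (hp : p.Prime) (e n j k : ℕ) (he : e ≠ 0) (h : n * j = e ^ 2)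
    (hn : n = p ^ k) (hj : ¬ p ∣ j) :
    ∃ (c a v : ℕ), c = p ^ v ∧ c ^ 2 = n ∧ e = a * c ∧ ¬ p ∣ a := by
  obtain ⟨v, a, ha, hea⟩ := Nat.exists_eq_pow_mul_and_not_dvd he p hp.ne_one
  refine ⟨p ^ v, a, v, rfl, ?_, by rw [hea]; ring, ha⟩
  have ha2 : ¬ p ∣ a ^ 2 := fun h => ha (hp.dvd_of_dvd_pow h)
  have h1 : p ^ k * j = p ^ (2 * v) * a ^ 2 := by
    rw [← hn, h, hea]; ring
  have hk : k = 2 * v := by
    rcases lt_trichotomy k (2 * v) with hlt | heq | hgt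
    · exfalso
      apply hj
      obtain ⟨d, hd⟩ := Nat.exists_eq_add_of_lt hlt
      have h2 : p ^ k * j = p ^ k * (p ^ (d + 1) * a ^ 2) := by
        rw [h1, hd]; ring
      have h3 := Nat.eq_of_mul_eq_mul_left (pow_pos hp.pos k) h2
      rw [h3, pow_succ]
      exact ⟨p ^ d * a ^ 2, by ring⟩
    · exact heq
    · exfalso
      apply ha2
      obtain ⟨d, hd⟩ := Nat.exists_eq_add_of_lt hgt
      have h2 : p ^ (2 * v) * a ^ 2 = p ^ (2 * v) * (p ^ (d + 1) * j) := by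
        rw [← h1, hd]; ring
      have h3 := Nat.eq_of_mul_eq_mul_left (pow_pos hp.pos (2 * v)) h2
      rw [h3, pow_succ]
      exact ⟨p ^ d * j, by ring⟩
  rw [hn, hk]
  ring

/-- FR1 (DeMeyer–Janusz). -/
theorem fr_sylow {H : Type*} [Group H] [Finite H] (Z : Subgroup H) [Z.Normal] (χ : IrrCharacter H)
    (θ : IrrCharacter ↥Z) (e : ℕ) (he : e ^ 2 = Z.index)
    (hχ : ∀ z : ↥Z, (χ : H → ℂ) z = (e : ℂ) * (θ : ↥Z → ℂ) z)
    (p : ℕ) [Fact p.Prime] (S : Sylow p H) (W₁ : Subgroup H) (hW₁ : W₁ = (S : Subgroup H) ⊔ Z) :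
    ∃ (ζ₁ : IrrCharacter ↥W₁) (c a : ℕ),
      c ^ 2 = Z.relIndex W₁ ∧ ¬ p ∣ a ∧
      (∀ (z : H) (hz : z ∈ Z) (hz' : z ∈ W₁),
        (ζ₁ : ↥W₁ → ℂ) ⟨z, hz'⟩ = (c : ℂ) * (θ : ↥Z → ℂ) ⟨z, hz⟩) ∧
      (∀ w : ↥W₁, (χ : H → ℂ) w = (a : ℂ) * (ζ₁ : ↥W₁ → ℂ) w) := by
  classical
  have hp : p.Prime := Fact.out
  haveI : Fintype H := Fintype.ofFinite H
  haveI : Fintype ↥Z := Fintype.ofFinite _
  haveI : Fintype ↥W₁ := Fintype.ofFinite _
  haveI : Fintype (IrrCharacter ↥W₁) := Fintype.ofFinite _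
  have hZW : Z ≤ W₁ := by rw [hW₁]; exact le_sup_right
  have hSW : (S : Subgroup H) ≤ W₁ := by rw [hW₁]; exact le_sup_left
  have he0 : e ≠ 0 := by
    intro h
    have := fr_e_ne_zero (Z := Z) he
    exact this (by rw [h]; simp)
  -- arithmetic
  have h1 : Z.relIndex W₁ * W₁.index = e ^ 2 := by
    rw [he]; exact Subgroup.relIndex_mul_index hZW
  have h2 : ¬ p ∣ W₁.index := by
    intro h
    exact S.not_dvd_index (h.trans (Subgroup.index_dvd_of_le hSW))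
  obtain ⟨k, hk⟩ : ∃ k : ℕ, Z.relIndex W₁ = p ^ k := by
    have h3 : Z.relIndex W₁ = Z.relIndex (S : Subgroup H) := by
      rw [hW₁]; exact Subgroup.relIndex_sup_right _ _
    have h4 : Z.relIndex (S : Subgroup H) ∣ Nat.card ↥(S : Subgroup H) := Subgroup.relIndex_dvd_card _ _
    obtain ⟨m, hm⟩ := (IsPGroup.iff_card.mp S.isPGroup')
    rw [hm] at h4
    obtain ⟨k, -, hk⟩ := (Nat.dvd_prime_pow hp).mp h4
    exact ⟨k, by rw [h3, hk]⟩
  obtain ⟨c, a, v, hcv, hc, hea, hpa⟩ := exists_sq_split p hp e _ _ k he0 h1 hk h2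
  have hc0 : c ≠ 0 := by rw [hcv]; exact (pow_pos hp.pos v).ne'
  have ha0 : a ≠ 0 := by rintro rfl; exact he0 (by rw [hea]; simp)
  have hcop : Nat.Coprime a c := by
    rw [hcv]
    apply Nat.Coprime.pow_right
    rw [Nat.coprime_comm]
    exact (Nat.Prime.coprime_iff_not_dvd hp).mpr hpa
  -- cardinalities
  have hcard : Nat.card ↥Z * Z.relIndex W₁ = Nat.card ↥W₁ := by
    have := Subgroup.relIndex_mul_relIndex (⊥ : Subgroup H) Z W₁ bot_le hZW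
    rwa [Subgroup.relIndex_bot_left, Subgroup.relIndex_bot_left] at this
  have hZ0 : (Nat.card ↥Z : ℂ) ≠ 0 := by exact_mod_cast (Nat.card_pos (α := ↥Z)).ne'
  have hW0 : (Nat.card ↥W₁ : ℂ) ≠ 0 := by exact_mod_cast (Nat.card_pos (α := ↥W₁)).ne'
  have hcardC : (Nat.card ↥W₁ : ℂ) = (Nat.card ↥Z : ℂ) * ((c : ℂ) ^ 2) := by
    rw [← hcard, ← hc]; push_cast; ring
  -- the restriction
  set f : ↥W₁ → ℂ := fun w => (χ : H → ℂ) w with hf
  have hfchar : IsCharacter ↥W₁ f := isCharacter_restrict W₁ (isCharacter_of_irr χ.2)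
  have hvan : ∀ w : ↥W₁, (w : H) ∉ Z → f w = 0 := fun w hw => fr_vanish he hχ (w : H) hw
  have hnat : ∀ ζ : IrrCharacter ↥W₁, ∃ m : ℕ, classInner f (ζ : ↥W₁ → ℂ) = m := fun ζ =>
    classInner_char_irr_nat hfchar ζ.2
  choose m hm using hnat
  have hexp : f = ∑ ζ : IrrCharacter ↥W₁, (m ζ : ℂ) • (ζ : ↥W₁ → ℂ) := by
    have := classFunction_expansion f (isClassFunction_of_isCharacter hfchar)
    simp only [hm] at this
    exact this
  -- multiplicities of `θ` in the restrictions to `Z`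
  have hnat2 : ∀ ζ : IrrCharacter ↥W₁, ∃ t : ℕ,
      classInner (fun z : ↥Z => (ζ : ↥W₁ → ℂ) ⟨z, hZW z.2⟩) (θ : ↥Z → ℂ) = t := fun ζ =>
    classInner_char_irr_nat (isCharacter_comp (Subgroup.inclusion hZW) (isCharacter_of_irr ζ.2)) θ.2
  choose t ht using hnat2
  -- `c m_ζ = a t_ζ`
  have hrel : ∀ ζ : IrrCharacter ↥W₁, c * m ζ = a * t ζ := by
    intro ζ
    have h5 : classInner f (ζ : ↥W₁ → ℂ) = (Nat.card ↥W₁ : ℂ)⁻¹ *
        ∑ z : ↥Z, f ⟨z, hZW z.2⟩ * conj ((ζ : ↥W₁ → ℂ) ⟨z, hZW z.2⟩) := by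
      unfold classInner
      rw [sum_subgroup_of_vanish_sub Z W₁ hZW (fun w => f w * conj ((ζ : ↥W₁ → ℂ) w))]
      intro w hw
      rw [hvan w hw, zero_mul]
    have h6 : ∑ z : ↥Z, f ⟨z, hZW z.2⟩ * conj ((ζ : ↥W₁ → ℂ) ⟨z, hZW z.2⟩) =
        (e : ℂ) * ((Nat.card ↥Z : ℂ) * (t ζ : ℂ)) := by
      have h7 := classInner_conj_symm (fun z : ↥Z => (ζ : ↥W₁ → ℂ) ⟨z, hZW z.2⟩) (θ : ↥Z → ℂ)
      rw [ht ζ, Complex.conj_natCast] at h7
      unfold classInner at h7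
      have h8 : ∑ g : ↥Z, (θ : ↥Z → ℂ) g * conj ((ζ : ↥W₁ → ℂ) ⟨g, hZW g.2⟩) =
          (Nat.card ↥Z : ℂ) * (t ζ : ℂ) := by
        rw [h7]; field_simp
      rw [← h8, Finset.mul_sum]
      refine Finset.sum_congr rfl (fun z _ => ?_)
      show (χ : H → ℂ) z * _ = _
      rw [hχ z]; ring
    rw [hm ζ, h6, hcardC] at h5
    have hcC : (c : ℂ) ≠ 0 := by exact_mod_cast hc0
    have h9 : (c : ℂ) * (m ζ : ℂ) = (a : ℂ) * (t ζ : ℂ) := by
      rw [h5, hea]; push_cast; field_simp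
    exact_mod_cast h9
  have hdvd : ∀ ζ : IrrCharacter ↥W₁, a ∣ m ζ := by
    intro ζ
    have : a ∣ c * m ζ := ⟨t ζ, hrel ζ⟩
    exact hcop.dvd_of_dvd_mul_left this
  -- Parseval
  have hpars : ∑ ζ : IrrCharacter ↥W₁, (m ζ) ^ 2 = a ^ 2 := by
    have h5 : classInner f f = ∑ ζ : IrrCharacter ↥W₁, ((m ζ : ℂ)) ^ 2 := by
      conv_lhs => rw [hexp]
      rw [classInner_sum_left]
      refine Finset.sum_congr rfl (fun ζ _ => ?_)
      rw [classInner_smul_left]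
      have h6 := classInner_conj_symm f (ζ : ↥W₁ → ℂ)
      rw [hm ζ, Complex.conj_natCast] at h6
      rw [← hexp, ← h6]; ring
    have h6 : classInner f f = (a : ℂ) ^ 2 := by
      unfold classInner
      rw [sum_subgroup_of_vanish_sub Z W₁ hZW (fun w => f w * conj (f w))
        (fun w hw => by rw [hvan w hw, zero_mul])]
      have h7 := irr_classInner_self θ.2
      unfold classInner at h7
      have h8 : ∑ g : ↥Z, (θ : ↥Z → ℂ) g * conj ((θ : ↥Z → ℂ) g) = (Nat.card ↥Z : ℂ) := by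
        field_simp at h7; rw [h7]
      have h9 : ∑ z : ↥Z, f ⟨z, hZW z.2⟩ * conj (f ⟨z, hZW z.2⟩) =
          (e : ℂ) ^ 2 * ∑ g : ↥Z, (θ : ↥Z → ℂ) g * conj ((θ : ↥Z → ℂ) g) := by
        rw [Finset.mul_sum]
        refine Finset.sum_congr rfl (fun z _ => ?_)
        show (χ : H → ℂ) z * conj ((χ : H → ℂ) z) = _
        rw [hχ z, map_mul, Complex.conj_natCast]; ring
      rw [h9, h8, hcardC, hea]
      have hcC : (c : ℂ) ≠ 0 := by exact_mod_cast hc0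
      push_cast; field_simp
    rw [h5] at h6
    exact_mod_cast h6
  -- a constituent
  obtain ⟨ζ₁, hζ₁⟩ : ∃ ζ₁ : IrrCharacter ↥W₁, m ζ₁ ≠ 0 := by
    by_contra hcon
    push Not at hcon
    have : ∑ ζ : IrrCharacter ↥W₁, (m ζ) ^ 2 = 0 :=
      Finset.sum_eq_zero (fun ζ _ => by rw [hcon ζ]; simp)
    rw [this] at hpars
    exact ha0 (by
      have := hpars.symm
      exact pow_eq_zero_iff (two_ne_zero) |>.mp this)
  have hge : a ^ 2 ≤ (m ζ₁) ^ 2 := by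
    have : a ≤ m ζ₁ := Nat.le_of_dvd (Nat.pos_of_ne_zero hζ₁) (hdvd ζ₁)
    exact Nat.pow_le_pow_left this 2
  have hsplit := Finset.add_sum_erase Finset.univ (fun ζ : IrrCharacter ↥W₁ => (m ζ) ^ 2)
    (Finset.mem_univ ζ₁)
  rw [hpars] at hsplit
  have hrest : ∑ ζ ∈ Finset.univ.erase ζ₁, (m ζ) ^ 2 = 0 := by
    have : (m ζ₁) ^ 2 + ∑ ζ ∈ Finset.univ.erase ζ₁, (m ζ) ^ 2 = a ^ 2 := hsplit
    omega
  have hm1 : m ζ₁ = a := by
    have h5 : (m ζ₁) ^ 2 = a ^ 2 := by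
      have : (m ζ₁) ^ 2 + ∑ ζ ∈ Finset.univ.erase ζ₁, (m ζ) ^ 2 = a ^ 2 := hsplit
      omega
    exact Nat.pow_left_injective (two_ne_zero) h5
  have hm0 : ∀ ζ : IrrCharacter ↥W₁, ζ ≠ ζ₁ → m ζ = 0 := by
    intro ζ hζ
    have h5 := (Finset.sum_eq_zero_iff.mp hrest) ζ (Finset.mem_erase.mpr ⟨hζ, Finset.mem_univ _⟩)
    exact pow_eq_zero_iff (two_ne_zero) |>.mp h5
  have hfin : ∀ w : ↥W₁, (χ : H → ℂ) w = (a : ℂ) * (ζ₁ : ↥W₁ → ℂ) w := by
    intro w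
    have h5 : f w = (∑ ζ : IrrCharacter ↥W₁, (m ζ : ℂ) • (ζ : ↥W₁ → ℂ)) w := by rw [← hexp]
    rw [Finset.sum_apply, Finset.sum_eq_single ζ₁] at h5
    · rw [hm1] at h5
      exact h5
    · intro ζ _ hζ
      rw [hm0 ζ hζ]; simp
    · intro h; exact absurd (Finset.mem_univ _) h
  refine ⟨ζ₁, c, a, hc, hpa, ?_, hfin⟩
  intro z hz hz'
  have h5 := hfin ⟨z, hz'⟩
  have h6 := hχ ⟨z, hz⟩
  have h7 : (a : ℂ) * (ζ₁ : ↥W₁ → ℂ) ⟨z, hz'⟩ = (a : ℂ) * ((c : ℂ) * (θ : ↥Z → ℂ) ⟨z, hz⟩) := by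
    rw [← h5]
    show (χ : H → ℂ) z = _
    have : (χ : H → ℂ) z = (e : ℂ) * (θ : ↥Z → ℂ) ⟨z, hz⟩ := h6
    rw [this, hea]; push_cast; ring
  have haC : (a : ℂ) ≠ 0 := by exact_mod_cast ha0
  exact mul_left_cancel₀ haC h7

end Cfsg.Agent.Lib.H23.FRS
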