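import Cfsg.Agent.Lib.H19.FRSEND1
import Cfsg.Agent.Lib.H25.FRSEND2
import Cfsg.Agent.Lib.H24.FullyRamCyclic

/-!
# S4563 / S4564: the common tail (helper23)
-/

set_option autoImplicit false
set_option linter.style.haveILetI false

namespace Cfsg.Agent.Lib.H23.FRS

open Cfsg

/-- The data produced for one prime: a constituent `ζ₀` of `(ζ₁)_{W₀}` with multiplicity `g`, stabilizer `T'`. -/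
theorem tail {H : Type*} [Group H] [Finite H] (Z K : Subgroup H) [hZ : Z.Normal] [K.Normal]
    (hZK : Z ≤ K) (p : ℕ) [Fact p.Prime] (S : Sylow p H) (W₀ W₁ : Subgroup H)
    [Fintype ↥Z] [Fintype ↥W₀]
    (hW₀ : W₀ = ((S : Subgroup H) ⊓ K) ⊔ Z) (hW₁ : W₁ = (S : Subgroup H) ⊔ Z)
    (hZW₀ : Z ≤ W₀) (hW : W₀ ≤ W₁) (hnorm : W₁ ≤ Subgroup.normalizer (W₀ : Set H))
    (θ : IrrCharacter ↥Z)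
    (hθ : ∀ (h : H) (z : ↥Z), (θ : ↥Z → ℂ) ⟨h * z * h⁻¹, hZ.conj_mem z z.2 h⟩ = (θ : ↥Z → ℂ) z)
    (ζ₀ : IrrCharacter ↥W₀) (g : ℕ) (hg1 : g = 1) (T' : Subgroup H)
    (hover : classInner (fun z : ↥Z => (ζ₀ : ↥W₀ → ℂ) ⟨z, hZW₀ z.2⟩) (θ : ↥Z → ℂ) ≠ 0)
    (hT1 : W₀ ≤ T')
    (hTmem : ∀ t : H, t ∈ T' ↔ t ∈ W₁ ∧ ∀ (w : H) (hw : w ∈ W₀) (hw' : t * w * t⁻¹ ∈ W₀),
        (ζ₀ : ↥W₀ → ℂ) ⟨t * w * t⁻¹, hw'⟩ = (ζ₀ : ↥W₀ → ℂ) ⟨w, hw⟩)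
    (hcard : g ^ 2 * Nat.card ↥W₀ = Nat.card ↥T')
    (htrans : ∀ ζ : IrrCharacter ↥W₀,
        classInner (fun z : ↥Z => (ζ : ↥W₀ → ℂ) ⟨z, hZW₀ z.2⟩) (θ : ↥Z → ℂ) ≠ 0 →
        ∃ x ∈ W₁, ∀ (w : H) (hw : w ∈ W₀) (hw' : x * w * x⁻¹ ∈ W₀),
          (ζ : ↥W₀ → ℂ) ⟨w, hw⟩ = (ζ₀ : ↥W₀ → ℂ) ⟨x * w * x⁻¹, hw'⟩) :
    ∃ M : Subgroup (H ⧸ K), M.index = p ^ (Nat.card (H ⧸ K)).factorization p := by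
  subst hg1
  rw [one_pow, one_mul] at hcard
  have hTW : W₀ = T' := Subgroup.eq_of_le_of_card_ge hT1 hcard.ge
  have hstab : ∀ t ∈ W₁, (∀ (w : H) (hw : w ∈ W₀) (hw' : t * w * t⁻¹ ∈ W₀),
      (ζ₀ : ↥W₀ → ℂ) ⟨t * w * t⁻¹, hw'⟩ = (ζ₀ : ↥W₀ → ℂ) ⟨w, hw⟩) → t ∈ W₀ := by
    intro t ht h
    rw [hTW]
    exact (hTmem t).mpr ⟨ht, h⟩
  obtain ⟨Y₀, h1, h2, h3⟩ := Cfsg.Agent.Lib.H19.FRS.exists_stab Z W₀ W₁ hZW₀ hW hnorm θ hθ ζ₀ hover hstab htrans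
  exact Cfsg.Agent.Lib.H25.FRS.exists_index_pow Z K hZK p S W₀ W₁ Y₀ hW₀ hW₁ h1 h2 h3

end Cfsg.Agent.Lib.H23.FRS
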