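import Mathlib
import Cfsg.Prelude.Def_Local
import Cfsg.Agent.S0631
import Cfsg.Agent.Lib.L0.FongTheta
import Cfsg.Agent.Lib.H7.PConstrained4

/-!
# Fong's theorem for `p`-constrained groups, group-theoretic part (helper23)

* `isPConstrained_of_sylow`: `p`-constraint from a single Sylow `p`-subgroup of `O_{p',p}(G)`;
* `pPrimeCore_centralizer_eq`: in a `p`-constrained group, `O_{p'}(C_G(P)) = O_{p'}(G) ∩ C_G(P)`
  for every `p`-subgroup `P`;
* `fong_block_pConstrained`: Fong's theorem for `p`-constrained groups.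
-/

set_option autoImplicit false

namespace Cfsg.Agent.Lib.H23.FongPrincipal

open Cfsg Cfsg.Agent.Lib.H23 Cfsg.Agent.Lib.H24 Cfsg.Agent.Lib.L0

section Group

variable {G : Type*} [Group G] [Finite G] (p : ℕ) [hp : Fact p.Prime]

/-- `p`-constraint from a single Sylow `p`-subgroup of `O_{p',p}(G)`. -/
theorem isPConstrained_of_sylow (Q : Subgroup G) (hQL : Q ≤ pPrimePCore p G) (hQp : IsPGroup p Q)
    (hQS : ¬ p ∣ Q.relIndex (pPrimePCore p G))
    (hCQ : Subgroup.centralizer (Q : Set G) ≤ pPrimePCore p G) : IsPConstrained p G := by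
  set L := pPrimePCore p G with hL
  intro P
  have hQ'p : IsPGroup p (Q.subgroupOf L) := hQp.comap_subtype
  set Qs : Sylow p L := hQ'p.toSylow hQS with hQs
  obtain ⟨l, hl⟩ := MulAction.exists_smul_eq L Qs P
  intro x hx
  have h1 : (l : G)⁻¹ * x * (l : G) ∈ Subgroup.centralizer (Q : Set G) := by
    rw [Subgroup.mem_centralizer_iff]
    intro q hq
    have hq' : (⟨q, hQL hq⟩ : L) ∈ (Qs : Subgroup L) := by
      show (⟨q, hQL hq⟩ : L) ∈ Q.subgroupOf L
      rw [Subgroup.mem_subgroupOf]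
      exact hq
    have h2 : l * ⟨q, hQL hq⟩ * l⁻¹ ∈ (P : Subgroup L) := by
      rw [← hl, Sylow.coe_subgroup_smul, Subgroup.mem_smul_pointwise_iff_exists]
      exact ⟨_, hq', rfl⟩
    have h3 : (l : G) * q * (l : G)⁻¹ ∈ (P : Subgroup L).map L.subtype := ⟨_, h2, by simp⟩
    have h4 := Subgroup.mem_centralizer_iff.1 hx _ h3
    calc q * ((l : G)⁻¹ * x * (l : G)) = (l : G)⁻¹ * ((l : G) * q * (l : G)⁻¹ * x) * (l : G) := by
          group
      _ = (l : G)⁻¹ * (x * ((l : G) * q * (l : G)⁻¹)) * (l : G) := by rw [h4]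
      _ = (l : G)⁻¹ * x * (l : G) * q := by group
  have h5 := hCQ h1
  have h6 : x = (l : G) * ((l : G)⁻¹ * x * (l : G)) * (l : G)⁻¹ := by group
  rw [h6]
  exact L.mul_mem (L.mul_mem l.2 h5) (L.inv_mem l.2)

/-- In a `p`-constrained group, `C_{G/O}(O_p(G/O)) ≤ O_p(G/O)` with `O = O_{p'}(G)`. -/
theorem centralizer_pCore_quotient_le (hG : IsPConstrained p G) :
    Subgroup.centralizer (pCore p (G ⧸ pPrimeCore p G) : Set (G ⧸ pPrimeCore p G)) ≤
      pCore p (G ⧸ pPrimeCore p G) :=
  Cfsg.Agent.Lib.H7.centralizer_pCore_le_of_layer_eq_bot p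
    (Cfsg.Agent.Lib.H9.pPrimeCore_quotient_eq_bot p)
    ((Cfsg.Agent.Lib.H7.isPConstrained_iff_layer_quotient_eq_bot p).1 hG)

/-- In a `p`-constrained group, `O_{p'}(C_G(P)) = O_{p'}(G) ∩ C_G(P)` for every `p`-subgroup
`P`. -/
theorem pPrimeCore_centralizer_eq (hG : IsPConstrained p G) (P : Subgroup G) (hP : IsPGroup p P) :
    pPrimeCore p ↥(Subgroup.centralizer (P : Set G)) =
      (pPrimeCore p G).subgroupOf (Subgroup.centralizer (P : Set G)) := by
  set N : Subgroup G := Subgroup.centralizer (P : Set G) with hN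
  set O := pPrimeCore p G with hO
  have hOc : (Nat.card O).Coprime p := Cfsg.Agent.Lib.H22.card_pPrimeCore_coprime p
  have hF := centralizer_pCore_quotient_le p hG
  set W : Subgroup G := (pPrimeCore p ↥N).map N.subtype with hW
  have hWN : W ≤ N := Subgroup.map_subtype_le _
  have hWc : (Nat.card W).Coprime p :=
    Nat.Coprime.coprime_dvd_left (Subgroup.card_map_dvd _ _)
      (Cfsg.Agent.Lib.H22.card_pPrimeCore_coprime p)
  have hNW : N ≤ Subgroup.normalizer (W : Set G) := by
    intro g hg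
    have hn : (pPrimeCore p ↥N).Normal := inferInstance
    rw [Subgroup.mem_normalizer_iff]
    intro x
    constructor
    · rintro ⟨y, hy, rfl⟩
      exact ⟨⟨g, hg⟩ * y * ⟨g, hg⟩⁻¹, hn.conj_mem y hy _, rfl⟩
    · rintro ⟨y, hy, hyx⟩
      refine ⟨⟨g, hg⟩⁻¹ * y * ⟨g, hg⟩, ?_, ?_⟩
      · have := hn.conj_mem y hy ⟨g, hg⟩⁻¹
        simpa using this
      · simp only [Subgroup.coe_subtype, Subgroup.coe_mul, InvMemClass.coe_inv] at hyx ⊢
        rw [hyx]; group
  have hb : W ≤ O :=
    Cfsg.Agent.Lib.H7.le_pPrimeCore_of_le_centralizer p hF hP hWc hWN hNW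
  apply le_antisymm
  · intro x hx
    rw [Subgroup.mem_subgroupOf]
    exact hb ⟨x, hx, rfl⟩
  · apply Cfsg.Agent.Lib.H22.le_pPrimeCore p _ inferInstance
    have h1 : Nat.card (O.subgroupOf N) = Nat.card ((O.subgroupOf N).map N.subtype) :=
      Nat.card_congr ((O.subgroupOf N).equivMapOfInjective N.subtype
        (Subgroup.subtype_injective N)).toEquiv
    rw [h1, Subgroup.subgroupOf_map_subtype]
    exact Nat.Coprime.coprime_dvd_left (Subgroup.card_dvd_of_le inf_le_left) hOc

end Group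

section Fong

variable {G : Type*} [Group G] [Fintype G] {p : ℕ} [hp : Fact p.Prime] {M : Ideal AlgInt}

/-- **Fong's theorem** for `p`-constrained groups: for `θ` a `G`-invariant irreducible character
of `O_{p'}(G)`, the irreducible characters of `G` over `θ` form a block whose defect groups are the
Sylow `p`-subgroups. -/
theorem fong_block_pConstrained (hM : IsPModular p M) (hcon : IsPConstrained p G)
    (N : Subgroup G) [hN : N.Normal] [Fintype N] (hNdef : N = pPrimeCore p G)
    (θ : IrrCharacter N)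
    (hinv : ∀ (g : G) (n : N), (θ : N → ℂ) ⟨g * n * g⁻¹, hN.conj_mem n n.2 g⟩ = (θ : N → ℂ) n) :
    ∃ B : Set (IrrCharacter G), IsPBlock M B ∧
      (∀ χ : IrrCharacter G, χ ∈ B ↔
        classInner (fun n : N => (χ : G → ℂ) n) (θ : N → ℂ) ≠ 0) ∧
      (∀ P : Sylow p G, IsDefectGroup p M B (P : Subgroup G)) ∧
      ∀ D : Subgroup G, IsDefectGroup p M B D → ∃ P : Sylow p G, D = (P : Subgroup G) := by
  classical
  subst hNdef
  set f := QuotientGroup.mk' (pPrimeCore p G) with hf
  have hfs : Function.Surjective f := QuotientGroup.mk'_surjective (pPrimeCore p G)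
  set L := (pCore p (G ⧸ (pPrimeCore p G))).comap f with hLdef
  haveI hLn : L.Normal := (Cfsg.Agent.Lib.H1.pCore_normal p (G ⧸ (pPrimeCore p G))).comap f
  haveI : Fintype L := Fintype.ofFinite _
  have hker : f.ker = (pPrimeCore p G) := QuotientGroup.ker_mk' (pPrimeCore p G)
  have hKL : (pPrimeCore p G) ≤ L := by
    intro x hx
    rw [hLdef, Subgroup.mem_comap]
    have h1 : f x = 1 := by
      rw [← MonoidHom.mem_ker, hker]
      exact hx
    rw [h1]
    exact Subgroup.one_mem _
  have hKp : ¬ p ∣ Nat.card (pPrimeCore p G) := Cfsg.Agent.Lib.H22.not_dvd_card_pPrimeCore hp.out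
  have hmapL : L.map f = pCore p (G ⧸ (pPrimeCore p G)) :=
    Subgroup.map_comap_eq_self_of_surjective hfs _
  have hidx : ∃ k : ℕ, (pPrimeCore p G).relIndex L = p ^ k := by
    have h1 : (pPrimeCore p G).relIndex L = Nat.card (pCore p (G ⧸ (pPrimeCore p G))) := by
      have h2 := Subgroup.relIndex_comap (⊥ : Subgroup (G ⧸ (pPrimeCore p G))) f L
      rw [MonoidHom.comap_bot, hker, Subgroup.relIndex_bot_left, hmapL] at h2
      exact h2
    rw [h1]
    exact IsPGroup.iff_card.1 (Cfsg.Agent.Lib.H1.pCore_isPGroup p (G ⧸ (pPrimeCore p G)))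
  have hC : ∀ D : Subgroup G, D ≤ L → IsPGroup p D → L ≤ (pPrimeCore p G) ⊔ D →
      Subgroup.centralizer (D : Set G) ≤ L := by
    intro D hDL _ hLKD x hx
    rw [hLdef, Subgroup.mem_comap]
    have hDmap : D.map f = pCore p (G ⧸ (pPrimeCore p G)) := by
      apply le_antisymm
      · rw [← hmapL]
        exact Subgroup.map_mono hDL
      · rw [← hmapL]
        have h1 := Subgroup.map_mono (f := f) hLKD
        rw [Subgroup.map_sup] at h1
        have hK0 : (pPrimeCore p G).map f = ⊥ := (Subgroup.map_eq_bot_iff _).2 (le_of_eq hker.symm)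
        rw [hK0, bot_sup_eq] at h1
        exact h1
    apply centralizer_pCore_quotient_le p hcon
    rw [Subgroup.mem_centralizer_iff]
    intro y hy
    rw [← hDmap] at hy
    obtain ⟨d, hd, rfl⟩ := hy
    have h1 := Subgroup.mem_centralizer_iff.1 hx d hd
    rw [← map_mul, ← map_mul, h1]
  exact Cfsg.Agent.Lib.L0.FongTheta.fong_block (pPrimeCore p G) L hM hKL hKp hidx hC θ hinv

end Fong

end Cfsg.Agent.Lib.H23.FongPrincipal
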