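import Mathlib
import Cfsg.Prelude.Def_Blocks
import Cfsg.Prelude.Def_BrauerPairs
import Cfsg.Agent.Lib.H23.FullyRamified
import Cfsg.Agent.Lib.H23.FRCliff2
import Cfsg.Agent.Lib.H23.BlockOsima
import Cfsg.Agent.Lib.H23.BlockIdem
import Cfsg.Agent.Lib.H8.Clifford
import Cfsg.Agent.Lib.L0.BlockNormal
import Cfsg.Agent.Lib.L0.BrauerPairHom
import Cfsg.Agent.Lib.H23.CliffordCorr
import Cfsg.Agent.Lib.H23.BlockEquiv
import Cfsg.Agent.Lib.H23.BlockCovering
import Cfsg.Agent.S4444
import Cfsg.Agent.Lib.H23.DegreeDvd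
import Cfsg.Agent.Lib.L0.BrauerDefect
import Cfsg.Agent.Lib.L0.BrauerSubpair

/-!
# Fong's theorem for `p`-constrained groups, character-theoretic part (helper23)

* `blockCoeff_over_invariant`: for a `G`-invariant `θ ∈ Irr(K)`, `K ⊴ G`, the idempotent of
  `Irr(G | θ)` is the idempotent of `θ`.
-/

set_option autoImplicit false

namespace Cfsg.Agent.Lib.H23.FongPrincipal

open Cfsg Cfsg.Agent.Lib.H23 Cfsg.Agent.Lib.H24 Cfsg.Agent.Lib.L0
open scoped ComplexConjugate

section Coeff

variable {G : Type*} [Group G] [Fintype G] (K : Subgroup G) [hK : K.Normal] [Fintype K]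

/-- For a `G`-invariant `θ ∈ Irr(K)`, the idempotent of `Irr(G | θ)` is the idempotent of `θ`. -/
theorem blockCoeff_over_invariant (θ : IrrCharacter K)
    (hinv : ∀ (g : G) (n : K), (θ : K → ℂ) ⟨g * n * g⁻¹, hK.conj_mem n n.2 g⟩ = (θ : K → ℂ) n)
    (B : Set (IrrCharacter G))
    (hB : ∀ χ : IrrCharacter G, χ ∈ B ↔
      classInner (fun k : K => (χ : G → ℂ) k) (θ : K → ℂ) ≠ 0) (g : G) :
    blockCoeff B g = (θ : K → ℂ) 1 * conj (extendByZero K (θ : K → ℂ) g) / (Nat.card K : ℂ) := by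
  classical
  haveI : Fintype (IrrCharacter G) := Fintype.ofFinite _
  rw [blockCoeff_eq_sum]
  have h1 : ∀ χ : IrrCharacter G,
      (if χ ∈ B then (χ : G → ℂ) 1 * conj ((χ : G → ℂ) g) else 0) =
        (θ : K → ℂ) 1 * ((FR.aa K χ θ : ℂ) * conj ((χ : G → ℂ) g)) := by
    intro χ
    by_cases hχ : χ ∈ B
    · rw [if_pos hχ]
      have h2 := congrFun (restrict_eq_smul_of_invariant K (χ : G → ℂ) χ.2 (θ : K → ℂ) θ.2
        ((hB χ).1 hχ) hinv) 1
      simp only [Pi.smul_apply, smul_eq_mul, FR.aa_spec] at h2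
      have h3 : (χ : G → ℂ) 1 = (FR.aa K χ θ : ℂ) * (θ : K → ℂ) 1 := h2
      rw [h3]
      ring
    · rw [if_neg hχ]
      have h2 : classInner (fun k : K => (χ : G → ℂ) k) (θ : K → ℂ) = 0 := by
        by_contra h
        exact hχ ((hB χ).2 h)
      rw [FR.aa_spec] at h2
      rw [h2]
      ring
  rw [Finset.sum_congr rfl fun χ _ => h1 χ, ← Finset.mul_sum]
  have h4 : ∑ χ : IrrCharacter G, (FR.aa K χ θ : ℂ) * conj ((χ : G → ℂ) g) =
      conj (indFun K (θ : K → ℂ) g) := by
    rw [FR.indFun_eq_sum K θ, Finset.sum_apply, map_sum]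
    refine Finset.sum_congr rfl fun χ _ => ?_
    simp only [Pi.smul_apply, smul_eq_mul, map_mul, Complex.conj_natCast]
  rw [h4]
  have hG0 : (Nat.card G : ℂ) ≠ 0 := Nat.cast_ne_zero.2 Nat.card_pos.ne'
  have hK0 : (Nat.card K : ℂ) ≠ 0 := Nat.cast_ne_zero.2 Nat.card_pos.ne'
  by_cases hg : g ∈ K
  · have h5 := Cfsg.Agent.Lib.H8.indFun_coe_of_normal K (θ : K → ℂ) ⟨g, hg⟩
    have h6 : ∑ x : G, (θ : K → ℂ) ⟨x * g * x⁻¹, hK.conj_mem g hg x⟩ =
        (Nat.card G : ℂ) * (θ : K → ℂ) ⟨g, hg⟩ := by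
      rw [Finset.sum_congr rfl fun x _ => hinv x ⟨g, hg⟩, Finset.sum_const, Finset.card_univ,
        nsmul_eq_mul, Nat.card_eq_fintype_card]
    rw [h6] at h5
    have h7 : indFun K (θ : K → ℂ) g =
        (Nat.card K : ℂ)⁻¹ * ((Nat.card G : ℂ) * (θ : K → ℂ) ⟨g, hg⟩) := h5
    rw [h7, Cfsg.Agent.Lib.H8.extendByZero_of_mem K _ hg]
    simp only [map_mul, map_inv₀, Complex.conj_natCast]
    field_simp
  · rw [Cfsg.Agent.Lib.H8.indFun_of_not_mem_normal K _ hg,
      Cfsg.Agent.Lib.H8.extendByZero_of_not_mem K _ hg]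
    simp

end Coeff

section Omega

variable {G : Type*} [Group G] [Fintype G] (K : Subgroup G) [hK : K.Normal] [Fintype K]

/-- The Brauer-map image at `R` of the idempotent of `Irr(G | θ)`, evaluated by the central
character of `ξ ∈ Irr(C_G(R))` lying over `ν ∈ Irr(C_K(R))`. -/
theorem brauerOmega_over_invariant (θ : IrrCharacter K)
    (hinv : ∀ (g : G) (n : K), (θ : K → ℂ) ⟨g * n * g⁻¹, hK.conj_mem n n.2 g⟩ = (θ : K → ℂ) n)
    (B : Set (IrrCharacter G))
    (hB : ∀ χ : IrrCharacter G, χ ∈ B ↔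
      classInner (fun k : K => (χ : G → ℂ) k) (θ : K → ℂ) ≠ 0)
    (R : Subgroup G) [Fintype (Subgroup.centralizer (R : Set G))]
    [Fintype (K.subgroupOf (Subgroup.centralizer (R : Set G)))]
    (ξ : IrrCharacter (Subgroup.centralizer (R : Set G)))
    (ν : IrrCharacter (K.subgroupOf (Subgroup.centralizer (R : Set G))))
    (hν : classInner (fun n : K.subgroupOf (Subgroup.centralizer (R : Set G)) =>
      (ξ : Subgroup.centralizer (R : Set G) → ℂ) n)
      (ν : K.subgroupOf (Subgroup.centralizer (R : Set G)) → ℂ) ≠ 0) :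
    brauerOmega R (blockCoeff B) (ξ : Subgroup.centralizer (R : Set G) → ℂ) =
      ((θ : K → ℂ) 1 * (Nat.card (K.subgroupOf (Subgroup.centralizer (R : Set G))) : ℂ) /
        ((Nat.card K : ℂ) * (ν : K.subgroupOf (Subgroup.centralizer (R : Set G)) → ℂ) 1)) *
      classInner (ν : K.subgroupOf (Subgroup.centralizer (R : Set G)) → ℂ)
        (fun n : K.subgroupOf (Subgroup.centralizer (R : Set G)) =>
          (θ : K → ℂ) ⟨((n : Subgroup.centralizer (R : Set G)) : G),
            Subgroup.mem_subgroupOf.1 n.2⟩) := by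
  classical
  haveI : (K.subgroupOf (Subgroup.centralizer (R : Set G))).Normal := Subgroup.normal_subgroupOf
  rw [Cfsg.Agent.Lib.L0.BrauerPairHom.brauerOmega_blockCoeff]
  have hcen := Cfsg.Agent.Lib.H23.resAlg_mem_center (Subgroup.centralizer (R : Set G))
    (blockIdem_mem_center B)
  have hsupp : ∀ c : Subgroup.centralizer (R : Set G),
      c ∉ K.subgroupOf (Subgroup.centralizer (R : Set G)) →
      (Cfsg.Agent.Lib.H23.resAlg (Subgroup.centralizer (R : Set G)) (blockIdem B)).coeff c = 0 := by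
    intro c hc
    rw [Cfsg.Agent.Lib.H23.coeff_resAlg, coeff_blockIdem, blockCoeff_over_invariant K θ hinv B hB,
      Cfsg.Agent.Lib.H8.extendByZero_of_not_mem K _ (fun h => hc (Subgroup.mem_subgroupOf.2 h))]
    simp
  rw [Cfsg.Agent.Lib.L0.BlockNormal.omega_eq_of_constituent
    (K.subgroupOf (Subgroup.centralizer (R : Set G))) ξ ν hν hcen hsupp]
  unfold omega charEval classInner
  have h1 : ∀ n : K.subgroupOf (Subgroup.centralizer (R : Set G)),
      (Cfsg.Agent.Lib.L0.BlockNormal.resAlg (K.subgroupOf (Subgroup.centralizer (R : Set G)))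
        (Cfsg.Agent.Lib.H23.resAlg (Subgroup.centralizer (R : Set G)) (blockIdem B))).coeff n =
      (θ : K → ℂ) 1 * conj ((θ : K → ℂ) ⟨((n : Subgroup.centralizer (R : Set G)) : G),
            Subgroup.mem_subgroupOf.1 n.2⟩) / (Nat.card K : ℂ) := by
    intro n
    rw [Cfsg.Agent.Lib.L0.BlockNormal.coeff_resAlg, Cfsg.Agent.Lib.H23.coeff_resAlg,
      coeff_blockIdem, blockCoeff_over_invariant K θ hinv B hB,
      Cfsg.Agent.Lib.H8.extendByZero_of_mem K _ (Subgroup.mem_subgroupOf.1 n.2)]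
  rw [Finset.sum_congr rfl fun n _ => by rw [h1 n]]
  have hK0 : (Nat.card K : ℂ) ≠ 0 := Nat.cast_ne_zero.2 Nat.card_pos.ne'
  have hK'0 : (Nat.card (K.subgroupOf (Subgroup.centralizer (R : Set G))) : ℂ) ≠ 0 :=
    Nat.cast_ne_zero.2 Nat.card_pos.ne'
  have hν1 : (ν : K.subgroupOf (Subgroup.centralizer (R : Set G)) → ℂ) 1 ≠ 0 :=
    Cfsg.Agent.Lib.H24.irr_one_ne_zero ν
  rw [Finset.mul_sum, Finset.mul_sum, Finset.sum_div]
  refine Finset.sum_congr rfl fun n _ => ?_
  field_simp

end Omega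

section Glauberman

variable {G : Type*} [Group G] [Fintype G] (K : Subgroup G) [hK : K.Normal] [Fintype K]

/-- `K ∩ C` as a subgroup of `C` and as a subgroup of `G`. -/
def subgroupOfInfEquiv (C : Subgroup G) : ↥(K.subgroupOf C) ≃* ↥(K ⊓ C) where
  toFun x := ⟨((x : C) : G), ⟨Subgroup.mem_subgroupOf.1 x.2, (x : C).2⟩⟩
  invFun y := ⟨⟨y, y.2.2⟩, Subgroup.mem_subgroupOf.2 y.2.1⟩
  left_inv _ := rfl
  right_inv _ := rfl
  map_mul' _ _ := rfl

/-- The restriction of `θ ∈ Irr(K)` to `K ∩ C`, as a function on the subgroup `K ∩ C` of `C`. -/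
def resSub (C : Subgroup G) (θ : K → ℂ) : K.subgroupOf C → ℂ :=
  fun n => θ ⟨((n : C) : G), Subgroup.mem_subgroupOf.1 n.2⟩

omit [Fintype G] hK [Fintype K] in
theorem isCharacter_resSub (C : Subgroup G) {θ : K → ℂ} (hθ : IsCharacter K θ) :
    IsCharacter (K.subgroupOf C) (resSub K C θ) :=
  Cfsg.Agent.Lib.L0.isCharacter_comp (C.subtype.subgroupComap K) hθ

/-- **Glauberman correspondent** with respect to a `p`-subgroup `R`, as a character of the
subgroup `C_K(R)` of `C_G(R)`. -/
theorem existsUnique_glauberman (p : ℕ) [hp : Fact p.Prime] (hKp : ¬ p ∣ Nat.card K)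
    (θ : IrrCharacter K)
    (hinv : ∀ (g : G) (n : K), (θ : K → ℂ) ⟨g * n * g⁻¹, hK.conj_mem n n.2 g⟩ = (θ : K → ℂ) n)
    (R : Subgroup G) (hR : IsPGroup p R)
    [Fintype (K.subgroupOf (Subgroup.centralizer (R : Set G)))] :
    ∃! ν : IrrCharacter (K.subgroupOf (Subgroup.centralizer (R : Set G))), ∃ m : ℕ,
      classInner (resSub K (Subgroup.centralizer (R : Set G)) (θ : K → ℂ))
        (ν : K.subgroupOf (Subgroup.centralizer (R : Set G)) → ℂ) = (m : ℂ) ∧ ¬ p ∣ m := by
  classical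
  haveI : Fintype ↥(K ⊓ Subgroup.centralizer (R : Set G)) := Fintype.ofFinite _
  set e := subgroupOfInfEquiv K (Subgroup.centralizer (R : Set G)) with he
  have hcop : (Nat.card K).Coprime (Nat.card R) := by
    obtain ⟨k, hk⟩ := IsPGroup.iff_card.1 hR
    rw [hk]
    exact Nat.Coprime.pow_right k ((Nat.Prime.coprime_iff_not_dvd hp.out).2 hKp).symm
  have h := (Cfsg.Agent.S4444.result (Γ := G) K R (fun s _ g hg => hK.conj_mem g hg s) hcop p
    hp.out hR (K ⊓ Subgroup.centralizer (R : Set G)) rfl inf_le_left).1 θ (by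
      intro s _ g g' hgg'
      rw [← hinv s g]
      exact congrArg (θ : K → ℂ) (Subtype.ext hgg'))
  obtain ⟨β, ⟨m, hm, hpm⟩, huniq⟩ := h
  have hkey : ∀ ν : IrrCharacter (K.subgroupOf (Subgroup.centralizer (R : Set G))),
      classInner (resSub K (Subgroup.centralizer (R : Set G)) (θ : K → ℂ))
        (ν : K.subgroupOf (Subgroup.centralizer (R : Set G)) → ℂ) =
      classInner (fun c : ↥(K ⊓ Subgroup.centralizer (R : Set G)) =>
        (θ : K → ℂ) ⟨c, (inf_le_left : K ⊓ Subgroup.centralizer (R : Set G) ≤ K) c.2⟩)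
        (((irrEquiv e).symm ν : IrrCharacter ↥(K ⊓ Subgroup.centralizer (R : Set G))) :
          ↥(K ⊓ Subgroup.centralizer (R : Set G)) → ℂ) := by
    intro ν
    rw [← classInner_comp_equiv e]
    congr 1
  refine ⟨irrEquiv e β, ⟨m, ?_, hpm⟩, ?_⟩
  · rw [hkey, Equiv.symm_apply_apply]
    exact hm
  · rintro ν' ⟨m', hm', hpm'⟩
    rw [hkey] at hm'
    have := huniq _ ⟨m', hm', hpm'⟩
    rw [← this, Equiv.apply_symm_apply]

end Glauberman

section Main

variable {G : Type*} [Group G] [Fintype G] (K : Subgroup G) [hK : K.Normal] [Fintype K]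
  {p : ℕ} [hp : Fact p.Prime] {M : Ideal AlgInt}

/-- The Brauer pairs at `R` of the block `Irr(G | θ)` consist of characters of `C_G(R)` lying over
the (`C_G(R)`-invariant) Glauberman correspondent of `θ`, and there is such a Brauer pair. -/
theorem local_main (hM : IsPModular p M) (hKp : ¬ p ∣ Nat.card K) (θ : IrrCharacter K)
    (hinv : ∀ (g : G) (n : K), (θ : K → ℂ) ⟨g * n * g⁻¹, hK.conj_mem n n.2 g⟩ = (θ : K → ℂ) n)
    (B : Set (IrrCharacter G))
    (hB : ∀ χ : IrrCharacter G, χ ∈ B ↔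
      classInner (fun k : K => (χ : G → ℂ) k) (θ : K → ℂ) ≠ 0)
    (hBb : IsPBlock M B) (R : Subgroup G) (hR : IsPGroup p R)
    [Fintype (Subgroup.centralizer (R : Set G))]
    [Fintype (K.subgroupOf (Subgroup.centralizer (R : Set G)))]
    [hK' : (K.subgroupOf (Subgroup.centralizer (R : Set G))).Normal] :
    ∃ ν : IrrCharacter (K.subgroupOf (Subgroup.centralizer (R : Set G))),
      (∀ (c : Subgroup.centralizer (R : Set G)) (n : K.subgroupOf (Subgroup.centralizer (R : Set G))),
        (ν : K.subgroupOf (Subgroup.centralizer (R : Set G)) → ℂ)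
          ⟨c * n * c⁻¹, hK'.conj_mem n n.2 c⟩ =
        (ν : K.subgroupOf (Subgroup.centralizer (R : Set G)) → ℂ) n) ∧
      (∃ ξ : IrrCharacter (Subgroup.centralizer (R : Set G)), MemLocalIdeal M
        (brauerOmega R (blockCoeff B) (ξ : Subgroup.centralizer (R : Set G) → ℂ) - 1)) ∧
      ∀ ξ : IrrCharacter (Subgroup.centralizer (R : Set G)), MemLocalIdeal M
        (brauerOmega R (blockCoeff B) (ξ : Subgroup.centralizer (R : Set G) → ℂ) - 1) →
        classInner (fun n : K.subgroupOf (Subgroup.centralizer (R : Set G)) =>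
          (ξ : Subgroup.centralizer (R : Set G) → ℂ) n)
          (ν : K.subgroupOf (Subgroup.centralizer (R : Set G)) → ℂ) ≠ 0 := by
  classical
  haveI hPr := isPrime_of_isPModular hM
  obtain ⟨ν, ⟨m, hm, hpm⟩, huniq⟩ := existsUnique_glauberman K p hKp θ hinv R hR
  have hdegθ : ¬ p ∣ charDegree (θ : K → ℂ) := fun h =>
    hKp (h.trans (charDegree_dvd_card (θ : K → ℂ) θ.2))
  refine ⟨ν, ?_, ?_, ?_⟩
  · intro c n
    have h0 : conjIrr (K.subgroupOf (Subgroup.centralizer (R : Set G))) ν c = ν := by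
      apply huniq
      refine ⟨m, ?_, hpm⟩
      have h1 := classInner_comp_equiv
        (MulAut.conjNormal c : ↥(K.subgroupOf (Subgroup.centralizer (R : Set G))) ≃*
          ↥(K.subgroupOf (Subgroup.centralizer (R : Set G))))
        (resSub K (Subgroup.centralizer (R : Set G)) (θ : K → ℂ))
        (ν : K.subgroupOf (Subgroup.centralizer (R : Set G)) → ℂ)
      have h2 : resSub K (Subgroup.centralizer (R : Set G)) (θ : K → ℂ) ∘
          (MulAut.conjNormal c : ↥(K.subgroupOf (Subgroup.centralizer (R : Set G))) ≃*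
            ↥(K.subgroupOf (Subgroup.centralizer (R : Set G)))) =
          resSub K (Subgroup.centralizer (R : Set G)) (θ : K → ℂ) := by
        funext n
        have h3 := hinv (c : G) ⟨((n : Subgroup.centralizer (R : Set G)) : G),
          Subgroup.mem_subgroupOf.1 n.2⟩
        rw [Function.comp_apply]
        unfold resSub
        rw [← h3]
        refine congrArg (θ : K → ℂ) (Subtype.ext ?_)
        simp [MulAut.conjNormal_apply]
      have h4 : (ν : K.subgroupOf (Subgroup.centralizer (R : Set G)) → ℂ) ∘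
          (MulAut.conjNormal c : ↥(K.subgroupOf (Subgroup.centralizer (R : Set G))) ≃*
            ↥(K.subgroupOf (Subgroup.centralizer (R : Set G)))) =
          (conjIrr (K.subgroupOf (Subgroup.centralizer (R : Set G))) ν c :
            K.subgroupOf (Subgroup.centralizer (R : Set G)) → ℂ) := by
        funext n
        rw [Function.comp_apply, conjIrr_apply]
        exact congrArg (ν : K.subgroupOf (Subgroup.centralizer (R : Set G)) → ℂ)
          (Subtype.ext (MulAut.conjNormal_apply c n))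
      rw [h2, h4] at h1
      rw [h1]
      exact hm
    have h5 := congrFun (congrArg Subtype.val h0) n
    rw [← h5]
    rfl
  · have hgood := Cfsg.Agent.Lib.L0.BrauerSubpair.good_blockIdem hM R hBb
    have h1 : ¬ MemLocalIdeal M ((blockIdem B).coeff (1 : G)) := by
      rw [coeff_blockIdem, blockCoeff_over_invariant K θ hinv B hB,
        Cfsg.Agent.Lib.H8.extendByZero_of_mem K _ K.one_mem]
      have h2 : (θ : K → ℂ) ⟨1, K.one_mem⟩ = (charDegree (θ : K → ℂ) : ℂ) :=
        apply_one_eq_charDegree (θ : K → ℂ) θ.2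
      rw [h2, apply_one_eq_charDegree (θ : K → ℂ) θ.2, Complex.conj_natCast, div_eq_mul_inv]
      have hd : ¬ MemLocalIdeal M ((charDegree (θ : K → ℂ) : ℕ) : ℂ) := fun h =>
        hdegθ ((natCast_memLocalIdeal_iff hM _).1 h)
      have hKi : ¬ MemLocalIdeal M ((Nat.card K : ℂ)⁻¹) := by
        intro h
        have h3 := memLocalIdeal_mul_left (natCast_mem_localRing (M := M) (Nat.card K)) h
        rw [mul_inv_cancel₀ (Nat.cast_ne_zero.2 Nat.card_pos.ne')] at h3
        exact not_memLocalIdeal_one h3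
      exact not_memLocalIdeal_mul
        (memLocalRing_mul (natCast_mem_localRing (M := M) _) (natCast_mem_localRing (M := M) _))
        (not_memLocalIdeal_mul (natCast_mem_localRing (M := M) _) hd hd) hKi
    obtain ⟨ζ, hζ⟩ := Cfsg.Agent.Lib.L0.BrauerDefect.exists_lam_of_coeff R hM hR hgood
      (blockIdem_mul_self B) (Subgroup.one_mem _) h1
    refine ⟨ζ, ?_⟩
    rw [Cfsg.Agent.Lib.L0.BrauerPairHom.brauerOmega_blockCoeff]
    exact hζ
  · intro ξ hξ
    obtain ⟨ν₁, hν₁⟩ := exists_constituent_restrict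
      (K.subgroupOf (Subgroup.centralizer (R : Set G))) ξ
    have hform := brauerOmega_over_invariant K θ hinv B hB R ξ ν₁ hν₁
    have hchar := isCharacter_resSub K (Subgroup.centralizer (R : Set G))
      (isCharacter_of_irr θ.2)
    have hms := FR.mult_spec hchar ν₁.2
    suffices h : ν₁ = ν by
      rw [← h]
      exact hν₁
    apply huniq
    refine ⟨_, hms, ?_⟩
    intro hdvd
    have hd1 : ¬ p ∣ Nat.card K *
        charDegree (ν₁ : K.subgroupOf (Subgroup.centralizer (R : Set G)) → ℂ) := by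
      intro h
      rcases (Nat.Prime.dvd_mul hp.out).1 h with h | h
      · exact hKp h
      · apply hKp
        refine (h.trans (charDegree_dvd_card _ ν₁.2)).trans ?_
        rw [Nat.card_congr (subgroupOfInfEquiv K (Subgroup.centralizer (R : Set G))).toEquiv]
        exact Subgroup.card_dvd_of_le inf_le_left
    have hu : MemLocalRing M ((θ : K → ℂ) 1 *
        (Nat.card (K.subgroupOf (Subgroup.centralizer (R : Set G))) : ℂ) /
        ((Nat.card K : ℂ) * (ν₁ : K.subgroupOf (Subgroup.centralizer (R : Set G)) → ℂ) 1)) := by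
      rw [apply_one_eq_charDegree (θ : K → ℂ) θ.2, apply_one_eq_charDegree _ ν₁.2, div_eq_mul_inv,
        ← Nat.cast_mul, ← Nat.cast_mul]
      exact memLocalRing_mul (natCast_mem_localRing (M := M) _) (memLocalRing_inv_natCast hM hd1)
    have h6 : MemLocalIdeal M
        (brauerOmega R (blockCoeff B) (ξ : Subgroup.centralizer (R : Set G) → ℂ)) := by
      have hms' : classInner (fun n : K.subgroupOf (Subgroup.centralizer (R : Set G)) =>
          (θ : K → ℂ) ⟨((n : Subgroup.centralizer (R : Set G)) : G),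
            Subgroup.mem_subgroupOf.1 n.2⟩)
          (ν₁ : K.subgroupOf (Subgroup.centralizer (R : Set G)) → ℂ) =
          (FR.mult (resSub K (Subgroup.centralizer (R : Set G)) (θ : K → ℂ))
            (ν₁ : K.subgroupOf (Subgroup.centralizer (R : Set G)) → ℂ) : ℂ) := hms
      rw [hform, ← classInner_conj_symm, hms', Complex.conj_natCast]
      exact memLocalIdeal_mul_left hu ((natCast_memLocalIdeal_iff hM _).2 hdvd)
    have h7 := memLocalIdeal_sub h6 hξ
    rw [sub_sub_cancel] at h7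
    exact not_memLocalIdeal_one h7

end Main

end Cfsg.Agent.Lib.H23.FongPrincipal
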