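import Mathlib
import Cfsg.Prelude.Def_Solvable
import Cfsg.Agent.Lib.H14.FumDefs
import Cfsg.Agent.Lib.H14.Subnormal
import Cfsg.Agent.Lib.H7.Kazarin2
import Cfsg.Agent.Lib.H1.PCore

/-!
# S4330 piece P6 (helper23): S4330 from the avoiding-vector theorem

`S4330_statement_of_avoiding`: the statement of S4330 (Fumagalli's subnormality criterion for
odd `p`, solvable case) from the avoiding-vector theorem `exists_avoiding` (P7), taken as a
hypothesis `Avoid p` (in the same universe).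
-/

set_option autoImplicit false
set_option linter.style.haveILetI false
open Pointwise

namespace Cfsg.Agent.Lib.H23.Fum

universe u

/-- The avoiding-vector property (statement of P7 at a fixed prime, universe `u`). -/
def Avoid (p : ℕ) : Prop :=
  ∀ (V : Type u) [CommGroup V] [Finite V], (Nat.card V).Coprime p →
    ∀ (Γ T : Subgroup (MulAut V)), T ≤ Γ → (∀ γ ∈ Γ, ∀ t ∈ T, γ * t * γ⁻¹ ∈ T) → IsPGroup p T →
    ∀ a : MulAut V, a ∈ T → a ^ p = 1 → a ≠ 1 → ∃ v : V, ∀ γ ∈ Γ, (γ * a * γ⁻¹) v ≠ v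

/-- The hypothesis of S4330 on a subgroup. -/
def Hyp {G : Type*} [Group G] (A : Subgroup G) : Prop :=
  ∀ c : G, ∃ g : G, IsConj c g ∧ (A.subgroupOf (A ⊔ MulAut.conj g • A)).IsSubnormal

/-! ### images -/

theorem subgroupOf_map_isSubnormal {G G' : Type*} [Group G] [Group G'] (f : G →* G')
    {A X : Subgroup G} (hAX : A ≤ X) (h : (A.subgroupOf X).IsSubnormal) :
    ((A.map f).subgroupOf (X.map f)).IsSubnormal := by
  have hs := Subgroup.IsSubnormal.map (f := f.subgroupMap X) (f.subgroupMap_surjective X) h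
  have heq : (A.subgroupOf X).map (f.subgroupMap X) = (A.map f).subgroupOf (X.map f) := by
    ext y
    rw [Subgroup.mem_map, Subgroup.mem_subgroupOf, Subgroup.mem_map]
    constructor
    · rintro ⟨x, hx, rfl⟩
      rw [Subgroup.mem_subgroupOf] at hx
      exact ⟨x.1, hx, rfl⟩
    · rintro ⟨x, hx, hxy⟩
      refine ⟨⟨x, hAX hx⟩, ?_, ?_⟩
      · rw [Subgroup.mem_subgroupOf]; exact hx
      · apply Subtype.ext
        exact hxy
  rwa [heq] at hs

theorem map_conj_smul {G G' : Type*} [Group G] [Group G'] (f : G →* G') (A : Subgroup G) (g : G) :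
    (MulAut.conj g • A).map f = MulAut.conj (f g) • A.map f := by
  ext y
  rw [Cfsg.Agent.Lib.H1.mem_conj_smul_iff, Subgroup.mem_map, Subgroup.mem_map]
  constructor
  · rintro ⟨x, hx, rfl⟩
    rw [Cfsg.Agent.Lib.H1.mem_conj_smul_iff] at hx
    exact ⟨_, hx, by simp⟩
  · rintro ⟨x, hx, hxy⟩
    refine ⟨g * x * g⁻¹, ?_, ?_⟩
    · rw [Cfsg.Agent.Lib.H1.mem_conj_smul_iff]
      simpa [mul_assoc] using hx
    · rw [map_mul, map_mul, hxy, map_inv]
      group

theorem Hyp.map {G G' : Type*} [Group G] [Group G'] (f : G →* G') (hf : Function.Surjective f)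
    {A : Subgroup G} (h : Hyp A) : Hyp (A.map f) := by
  intro c'
  obtain ⟨c, rfl⟩ := hf c'
  obtain ⟨g, hcg, hsub⟩ := h c
  refine ⟨f g, f.map_isConj hcg, ?_⟩
  have := subgroupOf_map_isSubnormal f (le_sup_left : A ≤ A ⊔ MulAut.conj g • A) hsub
  rwa [Subgroup.map_sup, map_conj_smul] at this

/-! ### minimal normal subgroups of a solvable group -/

theorem exists_min_normal {G : Type*} [Group G] [Finite G] [Nontrivial G] :
    ∃ U : Subgroup G, U.Normal ∧ U ≠ ⊥ ∧ ∀ V : Subgroup G, V.Normal → V ≤ U → V = ⊥ ∨ V = U := by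
  have hne : {U : Subgroup G | U.Normal ∧ U ≠ ⊥}.Nonempty :=
    ⟨⊤, inferInstance, top_ne_bot⟩
  obtain ⟨U, ⟨hUn, hU⟩, hmin⟩ := wellFounded_lt.has_min _ hne
  refine ⟨U, hUn, hU, ?_⟩
  intro V hVn hVU
  by_cases hV : V = ⊥
  · exact Or.inl hV
  · right
    by_contra hne'
    exact hmin V ⟨hVn, hV⟩ (lt_of_le_of_ne hVU hne')

theorem min_normal_elemAbelian {G : Type*} [Group G] [Finite G] (hsol : Group.IsSolvable G)
    (U : Subgroup G) [hUn : U.Normal] (hU : U ≠ ⊥)
    (hmin : ∀ V : Subgroup G, V.Normal → V ≤ U → V = ⊥ ∨ V = U) :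
    (∀ a ∈ U, ∀ b ∈ U, a * b = b * a) ∧ ∃ r : ℕ, r.Prime ∧ ∀ a ∈ U, a ^ r = 1 := by
  have := hsol
  have : Nontrivial ↥U := (Subgroup.nontrivial_iff_ne_bot U).2 hU
  have hlt : _root_.commutator ↥U < ⊤ := Group.IsSolvable.commutator_lt_top_of_nontrivial ↥U
  have hcomm : ⁅U, U⁆ = ⊥ := by
    have hn : (⁅U, U⁆ : Subgroup G).Normal := inferInstance
    rcases hmin ⁅U, U⁆ hn (Subgroup.commutator_le_right U U) with h | h
    · exact h
    · exfalso
      have h1 : (_root_.commutator ↥U).map U.subtype = (⊤ : Subgroup ↥U).map U.subtype := by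
        rw [Subgroup.map_subtype_commutator, h, ← MonoidHom.range_eq_map, Subgroup.range_subtype]
      have h2 := Subgroup.map_injective U.subtype_injective h1
      exact hlt.ne h2
  have hab : ∀ a ∈ U, ∀ b ∈ U, a * b = b * a := by
    intro a ha b hb
    have h1 := Subgroup.commutator_mem_commutator ha hb
    rw [hcomm, Subgroup.mem_bot] at h1
    exact commutatorElement_eq_one_iff_mul_comm.1 h1
  refine ⟨hab, ?_⟩
  have hc1 : Nat.card ↥U ≠ 1 := by
    intro h; exact hU (Subgroup.eq_bot_of_card_eq _ h)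
  obtain ⟨r, hr, hrdvd⟩ := Nat.exists_prime_and_dvd hc1
  have : Fact r.Prime := ⟨hr⟩
  obtain ⟨x, hx⟩ := exists_prime_orderOf_dvd_card' (G := ↥U) r hrdvd
  let Ω : Subgroup G :=
    { carrier := {u | u ∈ U ∧ u ^ r = 1}
      one_mem' := ⟨U.one_mem, one_pow r⟩
      mul_mem' := fun {a b} ha hb =>
        ⟨U.mul_mem ha.1 hb.1, by
          have hc : Commute a b := hab a ha.1 b hb.1
          rw [hc.mul_pow, ha.2, hb.2, one_mul]⟩
      inv_mem' := fun {a} ha => ⟨U.inv_mem ha.1, by rw [inv_pow, ha.2, inv_one]⟩ }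
  have hΩn : Ω.Normal := ⟨fun u hu g =>
    ⟨hUn.conj_mem u hu.1 g, by rw [conj_pow, hu.2, mul_one, mul_inv_cancel]⟩⟩
  have hΩU : Ω ≤ U := fun u hu => hu.1
  have hxΩ : (x : G) ∈ Ω := ⟨x.2, by
    have := pow_orderOf_eq_one x
    rw [hx] at this
    have h2 := congrArg Subtype.val this
    simpa using h2⟩
  have hx1 : (x : G) ≠ 1 := by
    intro h
    have : x = 1 := Subtype.ext h
    rw [this, orderOf_one] at hx
    exact hr.one_lt.ne hx
  rcases hmin Ω hΩn hΩU with h | h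
  · exfalso
    rw [h, Subgroup.mem_bot] at hxΩ
    exact hx1 hxΩ
  · refine ⟨r, hr, fun a ha => ?_⟩
    rw [← h] at ha
    exact ha.2

/-! ### a `p`-element of a normal subgroup which is central-by-`p` lies in `O_p` -/

theorem mem_pCore_of_central_by_p {G : Type*} [Group G] [Finite G] {p : ℕ} [Fact p.Prime]
    (N C : Subgroup G) [hN : N.Normal] [hC : C.Normal]
    (hcen : ∀ c ∈ C, ∀ n ∈ N, c * n = n * c)
    (hpow : ∀ c ∈ C, ∃ j : ℕ, c ^ (p ^ j) ∈ N) (a : G) (haC : a ∈ C) (hap : a ^ p = 1) :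
    a ∈ Cfsg.pCore p G := by
  -- `C` is nilpotent
  let f : ↥C →* G ⧸ N := (QuotientGroup.mk' N).comp C.subtype
  have hker : f.rangeRestrict.ker ≤ Subgroup.center ↥C := by
    intro c hc
    rw [MonoidHom.ker_rangeRestrict, MonoidHom.mem_ker] at hc
    have hcN : (c : G) ∈ N := by
      have : (QuotientGroup.mk' N) (c : G) = 1 := hc
      rwa [QuotientGroup.mk'_apply, QuotientGroup.eq_one_iff] at this
    rw [Subgroup.mem_center_iff]
    intro d
    apply Subtype.ext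
    rw [Subgroup.coe_mul, Subgroup.coe_mul]
    exact hcen d d.2 c hcN
  have hrp : IsPGroup p ↥f.range := by
    rintro ⟨y, c, rfl⟩
    obtain ⟨j, hj⟩ := hpow c c.2
    refine ⟨j, Subtype.ext ?_⟩
    rw [Subgroup.coe_pow, Subgroup.coe_one]
    show ((QuotientGroup.mk' N) (c : G)) ^ (p ^ j) = 1
    rw [← map_pow, QuotientGroup.mk'_apply, QuotientGroup.eq_one_iff]
    exact hj
  haveI : Group.IsNilpotent ↥f.range := hrp.isNilpotent
  haveI : Group.IsNilpotent ↥C := Subgroup.isNilpotent_of_ker_le_center f.rangeRestrict hker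
  -- a Sylow subgroup of `C` containing `a`
  have hza : IsPGroup p ↥(Subgroup.zpowers (⟨a, haC⟩ : ↥C)) := by
    rintro ⟨y, hy⟩
    obtain ⟨k, rfl⟩ := Subgroup.mem_zpowers_iff.1 hy
    refine ⟨1, Subtype.ext ?_⟩
    rw [Subgroup.coe_pow, Subgroup.coe_one, pow_one, ← zpow_natCast, ← zpow_mul, mul_comm, zpow_mul,
      zpow_natCast]
    have : (⟨a, haC⟩ : ↥C) ^ p = 1 := Subtype.ext (by rw [Subgroup.coe_pow, Subgroup.coe_one]; exact hap)
    rw [this, one_zpow]
  obtain ⟨Q, hQ⟩ := hza.exists_le_sylow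
  have hQn : (Q : Subgroup ↥C).Normal := inferInstance
  have h1 : (Q : Subgroup ↥C) ≤ Cfsg.pCore p ↥C := Cfsg.Agent.Lib.H1.le_pCore hQn Q.isPGroup'
  have h2 : (⟨a, haC⟩ : ↥C) ∈ Cfsg.pCore p ↥C := h1 (hQ (Subgroup.mem_zpowers _))
  have h3 : a ∈ Cfsg.pCoreOf p C := ⟨⟨a, haC⟩, h2, rfl⟩
  exact Cfsg.Agent.Lib.H14.pCoreOf_le_of_isSubnormal p C hC.isSubnormal h3

/-! ### the avoiding vector inside an abelian normal subgroup -/

theorem exists_avoiding_in_normal {G : Type u} [Group G] [Finite G] {p : ℕ} [Fact p.Prime]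
    (hav : Avoid.{u} p) (N K : Subgroup G) [hN : N.Normal] [hK : K.Normal]
    (hab : ∀ a ∈ N, ∀ b ∈ N, a * b = b * a) (hcop : (Nat.card N).Coprime p)
    (hpow : ∀ k ∈ K, ∃ j : ℕ, k ^ (p ^ j) ∈ N)
    (a : G) (haK : a ∈ K) (hap : a ^ p = 1) (hna : ∃ n ∈ N, a * n ≠ n * a) :
    ∃ v ∈ N, ∀ x : G, (x * a * x⁻¹) * v ≠ v * (x * a * x⁻¹) := by
  letI cg : CommGroup ↥N :=
    { (inferInstance : Group ↥N) with mul_comm := fun x y => Subtype.ext (hab x x.2 y y.2) }
  let φ : G →* MulAut ↥N := MulAut.conjNormal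
  have hφN : ∀ n ∈ N, φ n = 1 := by
    intro n hn
    ext m
    show ((MulAut.conjNormal n m : ↥N) : G) = m
    rw [MulAut.conjNormal_apply, hab n hn m m.2, mul_inv_cancel_right]
  have hTn : ∀ γ ∈ φ.range, ∀ t ∈ K.map φ, γ * t * γ⁻¹ ∈ K.map φ := by
    rintro _ ⟨x, rfl⟩ _ ⟨k, hk, rfl⟩
    exact ⟨x * k * x⁻¹, hK.conj_mem k hk x, by rw [map_mul, map_mul, map_inv]⟩
  have hT : IsPGroup p ↥(K.map φ) := by
    rintro ⟨_, k, hk, rfl⟩
    obtain ⟨j, hj⟩ := hpow k hk
    refine ⟨j, Subtype.ext ?_⟩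
    rw [Subgroup.coe_pow, Subgroup.coe_one, ← map_pow]
    exact hφN _ hj
  have ha1 : φ a ≠ 1 := by
    obtain ⟨n, hn, hne⟩ := hna
    intro h
    apply hne
    have h2 : ((φ a ⟨n, hn⟩ : ↥N) : G) = n := by rw [h]; rfl
    have h3 : ((φ a ⟨n, hn⟩ : ↥N) : G) = a * n * a⁻¹ := MulAut.conjNormal_apply a ⟨n, hn⟩
    rw [h3] at h2
    calc a * n = (a * n * a⁻¹) * a := by group
      _ = n * a := by rw [h2]
  obtain ⟨v, hv⟩ := hav ↥N hcop φ.range (K.map φ) (Subgroup.map_le_range φ K) hTn hT (φ a)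
    ⟨a, haK, rfl⟩ (by rw [← map_pow, hap, map_one]) ha1
  refine ⟨v.1, v.2, fun x hx => ?_⟩
  apply hv (φ x) ⟨x, rfl⟩
  apply Subtype.ext
  have h3 : (((φ x * φ a * (φ x)⁻¹) v : ↥N) : G) = (x * a * x⁻¹) * v * (x * a * x⁻¹)⁻¹ := by
    rw [← map_inv, ← map_mul, ← map_mul]
    exact MulAut.conjNormal_apply (x * a * x⁻¹) v
  rw [h3, hx, mul_inv_cancel_right]

/-! ### the subnormality hypothesis forces commuting -/

theorem eq_one_of_pow_coprime {G : Type*} [Group G] {z : G} {m n : ℕ} (hm : z ^ m = 1)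
    (hn : z ^ n = 1) (h : Nat.Coprime m n) : z = 1 :=
  orderOf_eq_one_iff.1 (Nat.eq_one_of_dvd_coprimes h (orderOf_dvd_of_pow_eq_one hm)
    (orderOf_dvd_of_pow_eq_one hn))

theorem commute_of_subnormal_sup {G : Type*} [Group G] {p : ℕ} [Fact p.Prime]
    (A N : Subgroup G) [hN : N.Normal] (hA : IsPGroup p A) (r : ℕ) (hr : r.Prime) (hrp : r ≠ p)
    (hexp : ∀ n ∈ N, n ^ r = 1) (g : G) (hg : g ∈ N)
    (hsub : (A.subgroupOf (A ⊔ MulAut.conj g • A)).IsSubnormal)
    (a : G) (ha : a ∈ A) (hap : a ^ p = 1) : g * a = a * g := by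
  have hp : p.Prime := Fact.out
  have hcop : ∀ j : ℕ, Nat.Coprime (p ^ j) r :=
    fun j => Nat.Coprime.pow_left j ((Nat.coprime_primes hp hr).2 (Ne.symm hrp))
  set X : Subgroup G := A ⊔ MulAut.conj g • A with hX
  have hA' : IsPGroup p ↥(A.subgroupOf X) := hA.comap_subtype
  have h1 : A.subgroupOf X ≤ Cfsg.pCore p ↥X :=
    Cfsg.Agent.Lib.H14.le_pCore_of_isSubnormal_of_isPGroup p _ hsub hA'
  have hYn : (Cfsg.pCore p ↥X).Normal := Cfsg.Agent.Lib.H1.pCore_normal p ↥X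
  have hYp : IsPGroup p ↥(Cfsg.pCore p ↥X) := Cfsg.Agent.Lib.H1.pCore_isPGroup p ↥X
  have haX : a ∈ X := (le_sup_left : A ≤ X) ha
  have hgaX : g * a * g⁻¹ ∈ X := by
    apply (le_sup_right : MulAut.conj g • A ≤ X)
    rw [Cfsg.Agent.Lib.H1.mem_conj_smul_iff]
    simpa [mul_assoc] using ha
  have hmX : g * a * g⁻¹ * a⁻¹ ∈ X := X.mul_mem hgaX (X.inv_mem haX)
  have hmN : g * a * g⁻¹ * a⁻¹ ∈ N := by
    have h2 : a * g⁻¹ * a⁻¹ ∈ N := hN.conj_mem _ (N.inv_mem hg) a
    have h3 := N.mul_mem hg h2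
    have h4 : g * (a * g⁻¹ * a⁻¹) = g * a * g⁻¹ * a⁻¹ := by group
    rwa [h4] at h3
  set m : G := g * a * g⁻¹ * a⁻¹ with hm
  have ha'Y : (⟨a, haX⟩ : ↥X) ∈ Cfsg.pCore p ↥X := h1 (by rw [Subgroup.mem_subgroupOf]; exact ha)
  have hzY : (⟨a, haX⟩ : ↥X) * ((⟨m, hmX⟩ : ↥X) * (⟨a, haX⟩ : ↥X)⁻¹ * (⟨m, hmX⟩ : ↥X)⁻¹) ∈
      Cfsg.pCore p ↥X :=
    (Cfsg.pCore p ↥X).mul_mem ha'Y (hYn.conj_mem _ ((Cfsg.pCore p ↥X).inv_mem ha'Y) _)
  obtain ⟨j, hj⟩ := hYp ⟨_, hzY⟩
  have hzj : (a * (m * a⁻¹ * m⁻¹)) ^ (p ^ j) = 1 := by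
    have := congrArg (fun y : ↥(Cfsg.pCore p ↥X) => ((y : ↥X) : G)) hj
    simpa using this
  have hzN : a * (m * a⁻¹ * m⁻¹) ∈ N := by
    have h2 : a * m * a⁻¹ ∈ N := hN.conj_mem _ hmN a
    have h3 := N.mul_mem h2 (N.inv_mem hmN)
    have h4 : a * m * a⁻¹ * m⁻¹ = a * (m * a⁻¹ * m⁻¹) := by group
    rwa [h4] at h3
  have hz1 : a * (m * a⁻¹ * m⁻¹) = 1 := eq_one_of_pow_coprime hzj (hexp _ hzN) (hcop j)
  have hcomm : a * m = m * a := by
    calc a * m = (a * (m * a⁻¹ * m⁻¹)) * m * a := by group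
      _ = m * a := by rw [hz1, one_mul]
  have hma : m * a = g * a * g⁻¹ := by rw [hm]; group
  have hmp : m ^ p = 1 := by
    have h2 : (m * a) ^ p = 1 := by rw [hma, conj_pow, hap, mul_one, mul_inv_cancel]
    have hc : Commute m a := hcomm.symm
    rw [hc.mul_pow, hap, mul_one] at h2
    exact h2
  have hm1 : m = 1 := eq_one_of_pow_coprime (by rw [pow_one]; exact hmp) (hexp _ hmN) (hcop 1)
  calc g * a = (g * a * g⁻¹ * a⁻¹) * a * g := by group
    _ = a * g := by rw [← hm, hm1, one_mul]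

/-! ### the induction -/

theorem S4330_aux {p : ℕ} [Fact p.Prime] (hav : Avoid.{u} p) :
    ∀ n : ℕ, ∀ (G : Type u) [Group G] [Finite G], Nat.card G = n → Group.IsSolvable G →
      ∀ A : Subgroup G, IsPGroup p A → Hyp A → A ≤ Cfsg.pCore p G := by
  intro n
  induction n using Nat.strong_induction_on with
  | _ n ih =>
    intro G _ _ hn hsol A hA hyp
    have hp : p.Prime := Fact.out
    haveI := hsol
    by_cases hcore : Cfsg.pCore p G = ⊥
    · by_contra hAle
      have hAne : A ≠ ⊥ := fun h => hAle (h ▸ bot_le)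
      have hAnt : Nontrivial ↥A := (Subgroup.nontrivial_iff_ne_bot A).2 hAne
      have hdvd : p ∣ Nat.card A := by
        rcases hA.card_eq_or_dvd with h | h
        · exact absurd h (Finite.one_lt_card (α := ↥A)).ne'
        · exact h
      obtain ⟨a', ha'⟩ := exists_prime_orderOf_dvd_card' (G := ↥A) p hdvd
      have hap : (a' : G) ^ p = 1 := by
        have := pow_orderOf_eq_one a'
        rw [ha'] at this
        have h2 := congrArg Subtype.val this
        simpa using h2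
      have ha1 : (a' : G) ≠ 1 := by
        intro h
        have : a' = 1 := Subtype.ext h
        rw [this, orderOf_one] at ha'
        exact hp.one_lt.ne ha'
      haveI : Nontrivial G := ⟨⟨(a' : G), 1, ha1⟩⟩
      obtain ⟨N, hNn, hNbot, hmin⟩ := exists_min_normal (G := G)
      haveI := hNn
      obtain ⟨hab, r, hr, hexp⟩ := min_normal_elemAbelian hsol N hNbot hmin
      haveI : Fact r.Prime := ⟨hr⟩
      have hNr : IsPGroup r ↥N := by
        intro g
        refine ⟨1, Subtype.ext ?_⟩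
        rw [pow_one, Subgroup.coe_pow, Subgroup.coe_one]
        exact hexp g.1 g.2
      have hrp : r ≠ p := by
        rintro rfl
        exact hNbot (le_bot_iff.1 (hcore ▸ Cfsg.Agent.Lib.H1.le_pCore hNn hNr))
      have hcardN : 1 < Nat.card ↥N := (Subgroup.one_lt_card_iff_ne_bot N).2 hNbot
      have hlt : Nat.card (G ⧸ N) < n := by
        rw [← hn, Subgroup.card_eq_card_quotient_mul_card_subgroup N]
        exact lt_mul_of_one_lt_right Nat.card_pos hcardN
      have hQ := ih _ hlt (G ⧸ N) rfl inferInstance (A.map (QuotientGroup.mk' N)) (hA.map _)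
        (hyp.map _ (QuotientGroup.mk'_surjective N))
      set K : Subgroup G := (Cfsg.pCore p (G ⧸ N)).comap (QuotientGroup.mk' N) with hKdef
      haveI hKn : K.Normal := (Cfsg.Agent.Lib.H1.pCore_normal p (G ⧸ N)).comap _
      have hAK : A ≤ K := fun x hx => hQ (Subgroup.mem_map_of_mem _ hx)
      have hpow : ∀ k ∈ K, ∃ j : ℕ, k ^ (p ^ j) ∈ N := by
        intro k hk
        obtain ⟨j, hj⟩ := (Cfsg.Agent.Lib.H1.pCore_isPGroup p (G ⧸ N)) ⟨_, hk⟩
        refine ⟨j, ?_⟩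
        have h2 := congrArg Subtype.val hj
        rw [Subgroup.coe_pow, Subgroup.coe_one] at h2
        have h3 : (QuotientGroup.mk' N) (k ^ (p ^ j)) = 1 := by rw [map_pow]; exact h2
        rwa [QuotientGroup.mk'_apply, QuotientGroup.eq_one_iff] at h3
      have hcopN : (Nat.card ↥N).Coprime p := by
        obtain ⟨k, hk⟩ := (IsPGroup.iff_card).1 hNr
        rw [hk]
        exact Nat.Coprime.pow_left k ((Nat.coprime_primes hr hp).2 hrp)
      have hna : ∃ n ∈ N, (a' : G) * n ≠ n * (a' : G) := by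
        by_contra hcon
        push Not at hcon
        have hmem : (a' : G) ∈ Cfsg.pCore p G := by
          refine mem_pCore_of_central_by_p N (K ⊓ Subgroup.centralizer (N : Set G)) ?_ ?_ (a' : G)
            ⟨hAK a'.2, ?_⟩ hap
          · intro c hc n hn'
            exact ((Subgroup.mem_centralizer_iff.1 hc.2) n hn').symm
          · intro c hc
            exact hpow c hc.1
          · show (a' : G) ∈ Subgroup.centralizer (N : Set G)
            rw [Subgroup.mem_centralizer_iff]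
            intro n hn'
            exact (hcon n hn').symm
        rw [hcore, Subgroup.mem_bot] at hmem
        exact ha1 hmem
      obtain ⟨v, hvN, hv⟩ :=
        exists_avoiding_in_normal hav N K hab hcopN hpow (a' : G) (hAK a'.2) hap hna
      obtain ⟨g, hvg, hsub⟩ := hyp v
      obtain ⟨y, hy⟩ := isConj_iff.1 hvg
      have hgN : g ∈ N := hy ▸ hNn.conj_mem v hvN y
      have hga := commute_of_subnormal_sup A N hA r hr hrp hexp g hgN hsub (a' : G) a'.2 hap
      apply hv y⁻¹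
      rw [← hy] at hga
      calc y⁻¹ * (a' : G) * y⁻¹⁻¹ * v = y⁻¹ * ((a' : G) * (y * v * y⁻¹)) * y := by group
        _ = y⁻¹ * ((y * v * y⁻¹) * (a' : G)) * y := by rw [hga]
        _ = v * (y⁻¹ * (a' : G) * y⁻¹⁻¹) := by group
    · haveI hcn : (Cfsg.pCore p G).Normal := Cfsg.Agent.Lib.H1.pCore_normal p G
      have hcard : 1 < Nat.card ↥(Cfsg.pCore p G) := (Subgroup.one_lt_card_iff_ne_bot _).2 hcore
      have hlt : Nat.card (G ⧸ Cfsg.pCore p G) < n := by
        rw [← hn, Subgroup.card_eq_card_quotient_mul_card_subgroup (Cfsg.pCore p G)]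
        exact lt_mul_of_one_lt_right Nat.card_pos hcard
      have hQ := ih _ hlt (G ⧸ Cfsg.pCore p G) rfl inferInstance
        (A.map (QuotientGroup.mk' (Cfsg.pCore p G))) (hA.map _)
        (hyp.map _ (QuotientGroup.mk'_surjective _))
      rw [Cfsg.Agent.Lib.H7.Kaz.pCore_quotient_pCore_eq_bot] at hQ
      intro x hx
      have h2 := hQ (Subgroup.mem_map_of_mem _ hx)
      rw [Subgroup.mem_bot, QuotientGroup.mk'_apply, QuotientGroup.eq_one_iff] at h2
      exact h2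

/-- **S4330-P6**: the statement of S4330 from the avoiding-vector theorem. -/
theorem S4330_statement_of_avoiding {G : Type u} [Group G] [Finite G]
    (hG : Group.IsSolvable G) (p : ℕ) [Fact p.Prime] (hav : Avoid.{u} p) (A : Subgroup G)
    (hA : IsPGroup p A)
    (h : ∀ c : G, ∃ g : G, IsConj c g ∧ (A.subgroupOf (A ⊔ MulAut.conj g • A)).IsSubnormal) :
    A ≤ Cfsg.pCore p G :=
  S4330_aux hav _ G rfl hG A hA h

end Cfsg.Agent.Lib.H23.Fum
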