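import Mathlib
import Cfsg.Prelude.Def_Blocks
import Cfsg.Prelude.Def_Characters
import Cfsg.Agent.Lib.H23.GagDefs
import Cfsg.Agent.Lib.H23.BlockGenDecomp
import Cfsg.Agent.Lib.L0.CharInd
import Cfsg.Agent.Lib.H23.DegreeDvd

/-!
# S4561 piece KER: `[Z*, Tw] ≤ ker χ` (helper23)
-/

set_option autoImplicit false
set_option linter.style.haveILetI false

universe u

namespace Cfsg.Agent.Lib.H23.GAG

open Cfsg Cfsg.Agent.Lib.H23.Gag Cfsg.Agent.Lib.L0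
open scoped IsMulCommutative

section tw

variable {H₀ : Type u} [Group H₀] [Finite H₀]

/-- The central character of an irreducible character, as a monoid hom on the centre. -/
noncomputable def lamHom (χ₀ : IrrCharacter H₀) : ↥(Subgroup.center H₀) →* ℂ where
  toFun a := (χ₀ : H₀ → ℂ) a / (χ₀ : H₀ → ℂ) 1
  map_one' := by
    have h1 : (χ₀ : H₀ → ℂ) 1 ≠ 0 := by
      rw [Cfsg.Agent.Lib.H23.apply_one_eq_charDegree _ χ₀.2]
      exact_mod_cast (Cfsg.Agent.Lib.H23.charDegree_pos _ χ₀.2).ne'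
    rw [Subgroup.coe_one]
    exact div_self h1
  map_mul' := by
    intro a b
    haveI : Fintype H₀ := Fintype.ofFinite _
    rw [Subgroup.coe_mul, Cfsg.Agent.Lib.H23.irr_central_mul χ₀ a.2 (b : H₀)]
    ring

theorem lamHom_apply (χ₀ : IrrCharacter H₀) (a : ↥(Subgroup.center H₀)) :
    lamHom χ₀ a = (χ₀ : H₀ → ℂ) a / (χ₀ : H₀ → ℂ) 1 := rfl

variable (p : ℕ) [Fact p.Prime]

/-- The shape of commutators `[z, x]`, `z ∈ Z*`. -/
def IsK (w : Tw H₀ p) : Prop :=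
  w.s = 1 ∧ w.v = 0 ∧ w.c = 0 ∧
    ∃ g : Cp p → ↥(Subgroup.center H₀), (∀ t, w.f t = (g t : H₀)) ∧ ∏ t, g t = 1

theorem isK_one : IsK p (1 : Tw H₀ p) :=
  ⟨rfl, rfl, rfl, fun _ => 1, fun _ => rfl, by simp⟩

theorem isK_conj {w : Tw H₀ p} (hw : IsK p w) (y : Tw H₀ p) : IsK p (y * w * y⁻¹) := by
  obtain ⟨h1, h2, h3, g, hg, hprod⟩ := hw
  have hc0 : (y * w * y⁻¹).c = 0 := by simp [h1, h2, h3]
  refine ⟨by rw [Tw.conj_s, h1], by rw [Tw.conj_v, h2], hc0, fun t => g (y.s⁻¹ * t), fun t => ?_, ?_⟩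
  · rw [Tw.conj_f, h1, inv_one, one_mul, hg]
    have hc := (g (y.s⁻¹ * t)).2
    rw [Subgroup.mem_center_iff] at hc
    rw [hc (y.f t), mul_inv_cancel_right]
  · rw [← hprod]
    exact Equiv.prod_comp (Equiv.mulLeft y.s⁻¹) (fun t => g t)

theorem isK_comm {z : Tw H₀ p} (hz : z ∈ Tw.zstar H₀ p) (x : Tw H₀ p) :
    IsK p (z * x * z⁻¹ * x⁻¹) := by
  obtain ⟨h1, h2, h3⟩ := hz
  refine ⟨by simp [h1], by simp [h2], by simp [h1, h2], fun t => ⟨z.f t, h3 t⟩ * (⟨z.f (x.s⁻¹ * t), h3 _⟩)⁻¹,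
    fun t => ?_, ?_⟩
  · have e1 : (z * x * z⁻¹ * x⁻¹).f t = (z * x * z⁻¹).f t * (x⁻¹).f ((z * x * z⁻¹).s⁻¹ * t) := rfl
    rw [e1, Tw.conj_f, Tw.conj_s, h1, inv_one, one_mul, Tw.inv_f]
    simp only [mul_inv_cancel_left]
    have hc := h3 (x.s⁻¹ * t)
    rw [Subgroup.mem_center_iff] at hc
    have hc' : x.f t * (z.f (x.s⁻¹ * t))⁻¹ = (z.f (x.s⁻¹ * t))⁻¹ * x.f t := by
      rw [eq_inv_mul_iff_mul_eq, ← mul_assoc, ← hc (x.f t), mul_inv_cancel_right]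
    rw [Subgroup.coe_mul, Subgroup.coe_inv]
    show z.f t * x.f t * (z.f (x.s⁻¹ * t))⁻¹ * (x.f t)⁻¹ = z.f t * (z.f (x.s⁻¹ * t))⁻¹
    rw [mul_assoc (z.f t), hc', mul_assoc, mul_assoc, mul_inv_cancel, mul_one]
  · rw [Finset.prod_mul_distrib, Finset.prod_inv_distrib]
    have := Equiv.prod_comp (Equiv.mulLeft x.s⁻¹) (fun t => (⟨z.f t, h3 t⟩ : ↥(Subgroup.center H₀)))
    simp only [Equiv.coe_mulLeft] at this
    rw [this, mul_inv_cancel]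

theorem extend_theta_of_isK (χ₀ : IrrCharacter H₀) {w : Tw H₀ p} (hw : IsK p w) :
    Cfsg.extendByZero (Tw.base H₀ p) (Tw.theta p (χ₀ : H₀ → ℂ)) w = ((χ₀ : H₀ → ℂ) 1) ^ p := by
  obtain ⟨h1, h2, h3, g, hg, hprod⟩ := hw
  have hmem : w ∈ Tw.base H₀ p := h1
  rw [extendByZero_apply_of_mem _ _ hmem]
  unfold Tw.theta
  simp only [h3, AddChar.map_zero_eq_one, mul_one]
  have h10 : (χ₀ : H₀ → ℂ) 1 ≠ 0 := by
    rw [Cfsg.Agent.Lib.H23.apply_one_eq_charDegree _ χ₀.2]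
    exact_mod_cast (Cfsg.Agent.Lib.H23.charDegree_pos _ χ₀.2).ne'
  have h4 : ∀ t : Cp p, (χ₀ : H₀ → ℂ) (w.f t) = lamHom χ₀ (g t) * (χ₀ : H₀ → ℂ) 1 := by
    intro t
    rw [lamHom_apply, hg t, div_mul_cancel₀ _ h10]
  rw [Finset.prod_congr rfl (fun t _ => h4 t), Finset.prod_mul_distrib, ← map_prod, hprod, map_one,
    one_mul, Finset.prod_const, Finset.card_univ]
  congr 1
  rw [Fintype.card_multiplicative, ZMod.card]

/-- KER.  `[Z*, Tw] ≤ ker χ`. -/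
theorem chi_comm_zstar (χ₀ : IrrCharacter H₀) (z : Tw H₀ p) (hz : z ∈ Tw.zstar H₀ p) (x : Tw H₀ p) :
    Tw.chi p (χ₀ : H₀ → ℂ) (z * x * z⁻¹ * x⁻¹) = Tw.chi p (χ₀ : H₀ → ℂ) 1 := by
  unfold Tw.chi
  rw [indFun_apply, indFun_apply]
  congr 1
  refine Finset.sum_congr rfl (fun y _ => ?_)
  have hk := isK_comm p hz x
  have h1 := isK_conj p hk y⁻¹
  have h2 := isK_conj p (isK_one p (H₀ := H₀)) y⁻¹
  rw [inv_inv] at h1 h2
  rw [extend_theta_of_isK p χ₀ h1, extend_theta_of_isK p χ₀ h2]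

end tw

end Cfsg.Agent.Lib.H23.GAG
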