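import Cfsg.Agent.Lib.H23.GagDefs
import Cfsg.Agent.Lib.H23.GAGKER
import Cfsg.Agent.Lib.H3.GAGKK
import Cfsg.Agent.Lib.H3.GAGWRMAP
import Cfsg.Agent.Lib.H3.GAGCARD
import Cfsg.Agent.Lib.H3.GAGEXP
import Cfsg.Agent.Lib.H6.GAGCYCQ
import Cfsg.Agent.Lib.H6.GAGPRIMEIDX
import Cfsg.Agent.Lib.H8.GAGNORM
import Cfsg.Agent.Lib.H18.GAGPIZ
import Cfsg.Agent.Lib.H14.GAGCHI
import Cfsg.Agent.Lib.H5.GAGPHI
import Cfsg.Agent.Lib.H6.GAGTHETA
import Cfsg.Agent.Lib.H24.DXCYCZ
import Cfsg.Agent.Lib.L0.CharOps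
import Cfsg.Agent.Lib.H23.DegreeDvd

/-!
# S4561 (Gagola): assembly (helper23)
-/

set_option autoImplicit false
set_option linter.style.haveILetI false

universe u

namespace Cfsg.Agent.Lib.H23.Gag

open Cfsg

/-- The property to be proved for all finite solvable groups. -/
def CTP (G : Type u) [Group G] : Prop :=
  ∃ (H : Type u) (_ : Group H) (_ : Finite H) (χ : Cfsg.IrrCharacter H),
    (∀ h : H, (χ : H → ℂ) h = (χ : H → ℂ) 1 → h = 1) ∧
    (Cfsg.charDegree (χ : H → ℂ)) ^ 2 = (Subgroup.center H).index ∧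
    (∃ f : G →* H ⧸ Subgroup.center H, Function.Injective f) ∧
    (∀ p : ℕ, p.Prime → ((p ∣ Nat.card H ↔ p ∣ Nat.card G) ∧
      (p ∣ Nat.card (Subgroup.center H) ↔ p ∣ Nat.card G))) ∧
    Squarefree (Nat.card (Subgroup.center H))

theorem ctp_of_subsingleton (G : Type u) [Group G] [Finite G] [Subsingleton G] : CTP G := by
  have hone : IsIrrCharacter G (1 : G → ℂ) := Cfsg.Agent.Lib.L0.isIrrCharacter_one
  have hcard : Nat.card G = 1 := Nat.card_unique
  have hcen : Nat.card ↥(Subgroup.center G) = 1 := Nat.card_unique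
  refine ⟨G, inferInstance, inferInstance, ⟨1, hone⟩, fun h _ => Subsingleton.elim _ _, ?_,
    ⟨QuotientGroup.mk' _, Function.injective_of_subsingleton _⟩, fun p _ => ⟨Iff.rfl, ?_⟩, ?_⟩
  · have h1 : Cfsg.charDegree (1 : G → ℂ) = 1 :=
      Cfsg.Agent.Lib.H23.charDegree_eq_of_apply_one (by simp)
    show (Cfsg.charDegree (1 : G → ℂ)) ^ 2 = _
    rw [h1, one_pow]
    symm
    rw [Subgroup.index_eq_one]
    exact Subsingleton.elim _ _
  · rw [hcen, hcard]
  · rw [hcen]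
    exact squarefree_one

theorem squarefree_lcm_prime {n p : ℕ} (hn : Squarefree n) (hp : p.Prime) :
    Squarefree (Nat.lcm n p) := by
  by_cases h : p ∣ n
  · rw [Nat.lcm_eq_left h]
    exact hn
  · have hc : Nat.Coprime n p := (Nat.Prime.coprime_iff_not_dvd hp).mpr h |>.symm
    rw [hc.lcm_eq_mul]
    exact (Nat.squarefree_mul hc).mpr ⟨hn, hp.squarefree⟩

theorem step {G : Type u} [Group G] [Finite G] (M : Subgroup G) [M.Normal] (p : ℕ) [Fact p.Prime]
    (hidx : M.index = p) (hM : CTP ↥M) : CTP G := by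
  classical
  have hp : p.Prime := Fact.out
  obtain ⟨H₀, _, _, χ₀, hfaith₀, hdeg₀, ⟨f₀, hf₀⟩, hprime₀, hsq₀⟩ := hM
  have hθ := Cfsg.Agent.Lib.H6.GAG.isIrrCharacter_theta p χ₀
  obtain ⟨hχirr, hχdeg⟩ := Cfsg.Agent.Lib.H14.GAG.isIrrCharacter_chi p χ₀ hθ
  set χ : IrrCharacter (Tw H₀ p) := ⟨Tw.chi p (χ₀ : H₀ → ℂ), hχirr⟩ with hχ
  have hdeg : (charDegree (χ : Tw H₀ p → ℂ)) ^ 2 = (Tw.zstar H₀ p).index := by
    show (charDegree (Tw.chi p (χ₀ : H₀ → ℂ))) ^ 2 = _
    rw [hχdeg, Cfsg.Agent.Lib.H3.GAG.index_zstar, ← hdeg₀]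
    ring
  obtain ⟨Hb, _, _, q, χb, hsurj, hχb, hfaith, hdegb, hcomap⟩ :=
    Cfsg.Agent.Lib.H8.GAG.normalize χ (Tw.zstar H₀ p) (Cfsg.Agent.Lib.H23.GAG.chi_comm_zstar p χ₀) hdeg
  -- the embedding
  obtain ⟨j₁, hj₁⟩ := Cfsg.Agent.Lib.H3.GAG.kk_embed M
  obtain ⟨e⟩ := Cfsg.Agent.Lib.H6.GAG.quotient_equiv_zmod M p hidx
  obtain ⟨j₂, hj₂⟩ := Cfsg.Agent.Lib.H3.GAG.wreath_map_injective f₀ hf₀ e
  set Ψ : Tw H₀ p →* Hb ⧸ Subgroup.center Hb := (QuotientGroup.mk' (Subgroup.center Hb)).comp q with hΨ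
  have hΨsurj : Function.Surjective Ψ := (QuotientGroup.mk'_surjective _).comp hsurj
  have hker : (Tw.phi H₀ p).ker = Ψ.ker := by
    rw [Cfsg.Agent.Lib.H5.GAG.ker_phi, hΨ, ← MonoidHom.comap_ker, QuotientGroup.ker_mk', hcomap]
  let E₁ := QuotientGroup.quotientKerEquivOfSurjective (Tw.phi H₀ p) (Cfsg.Agent.Lib.H5.GAG.phi_surjective p)
  let E₂ := QuotientGroup.quotientMulEquivOfEq hker
  let E₃ := QuotientGroup.quotientKerEquivOfSurjective Ψ hΨsurj
  let E : ((H₀ ⧸ Subgroup.center H₀) ≀ᵣ Cp p) × Multiplicative (ZMod p) ≃* Hb ⧸ Subgroup.center Hb :=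
    (E₁.symm.trans E₂).trans E₃
  let j₃ : ((H₀ ⧸ Subgroup.center H₀) ≀ᵣ Cp p) →*
      ((H₀ ⧸ Subgroup.center H₀) ≀ᵣ Cp p) × Multiplicative (ZMod p) := MonoidHom.inl _ _
  have hj₃ : Function.Injective j₃ := by
    intro a b hab
    have := congrArg Prod.fst hab
    simpa [j₃] using this
  set j : G →* Hb ⧸ Subgroup.center Hb := (E.toMonoidHom.comp j₃).comp (j₂.comp j₁) with hj
  have hjinj : Function.Injective j := by
    rw [hj]
    exact (E.injective.comp hj₃).comp (hj₂.comp hj₁)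
  -- cardinalities
  have hcardHb : Nat.card Hb ∣ (Nat.card H₀) ^ p * p ^ 3 := by
    rw [← Cfsg.Agent.Lib.H3.GAG.card_tw p]
    exact Subgroup.card_dvd_of_surjective q hsurj
  have hGdvd : Nat.card G ∣ Nat.card Hb := by
    have h1 : Nat.card G ∣ Nat.card (Hb ⧸ Subgroup.center Hb) := Subgroup.card_dvd_of_injective j hjinj
    have h2 : Nat.card (Hb ⧸ Subgroup.center Hb) ∣ Nat.card Hb := by
      rw [← Subgroup.index_eq_card]
      exact Subgroup.index_dvd_card _
    exact h1.trans h2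
  have hpG : p ∣ Nat.card G := by
    rw [← hidx]
    exact Subgroup.index_dvd_card M
  have hMG : Nat.card ↥M ∣ Nat.card G := Subgroup.card_subgroup_dvd_card M
  have hA : ∀ r : ℕ, r.Prime → (r ∣ Nat.card Hb ↔ r ∣ Nat.card G) := by
    intro r hr
    constructor
    · intro h
      have h1 := h.trans hcardHb
      rcases (Nat.Prime.dvd_mul hr).mp h1 with h2 | h2
      · have h3 := hr.dvd_of_dvd_pow h2
        exact (((hprime₀ r hr).1).mp h3).trans hMG
      · have h3 := hr.dvd_of_dvd_pow h2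
        rw [(Nat.prime_dvd_prime_iff_eq hr hp).mp h3]
        exact hpG
    · intro h
      exact h.trans hGdvd
  refine ⟨Hb, inferInstance, inferInstance, χb, hfaith, hdegb, ⟨j, hjinj⟩, fun r hr => ⟨hA r hr, ?_⟩, ?_⟩
  · constructor
    · intro h
      exact (hA r hr).mp (h.trans (Subgroup.card_subgroup_dvd_card _))
    · intro h
      exact Cfsg.Agent.Lib.H18.GAG.prime_dvd_card_center χb hdegb r hr ((hA r hr).mpr h)
  · -- squarefree
    have hcyc : IsCyclic ↥(Subgroup.center Hb) :=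
      Cfsg.Agent.Lib.H24.DX.isCyclic_center_of_faithful_irr (χb : Hb → ℂ) χb.2 hfaith
    set N := Nat.lcm (Nat.card (Subgroup.center H₀)) p with hN
    have hpow : ∀ y : ↥(Subgroup.center Hb), y ^ N = 1 := by
      intro y
      obtain ⟨z, hz⟩ := hsurj (y : Hb)
      have hzmem : z ∈ Tw.zstar H₀ p := by
        rw [← hcomap, Subgroup.mem_comap, hz]
        exact y.2
      have h1 := Cfsg.Agent.Lib.H3.GAG.zstar_pow p z hzmem
      apply Subtype.ext
      rw [Subgroup.coe_pow, ← hz, ← map_pow, h1, map_one]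
      rfl
    have hdvd : Nat.card ↥(Subgroup.center Hb) ∣ N := by
      rw [← IsCyclic.exponent_eq_card]
      exact Monoid.exponent_dvd_of_forall_pow_eq_one hpow
    exact Squarefree.squarefree_of_dvd hdvd (squarefree_lcm_prime hsq₀ hp)

theorem main : ∀ (n : ℕ) (G : Type u) [Group G] [Finite G], Group.IsSolvable G → Nat.card G = n → CTP G := by
  intro n
  induction n using Nat.strong_induction_on with
  | _ n ih =>
    intro G _ _ hsolv hcard
    rcases subsingleton_or_nontrivial G with hs | hn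
    · exact ctp_of_subsingleton G
    · obtain ⟨M, p, hMn, hp, hidx⟩ := Cfsg.Agent.Lib.H6.GAG.exists_normal_prime_index (G := G)
      haveI := hMn
      haveI : Fact p.Prime := ⟨hp⟩
      have hlt : Nat.card ↥M < n := by
        rw [← hcard, ← Subgroup.card_mul_index M, hidx]
        have : 0 < Nat.card ↥M := Nat.card_pos
        have := hp.two_le
        nlinarith
      have hMs : Group.IsSolvable ↥M := inferInstance
      exact step M p hidx (ih _ hlt ↥M hMs rfl)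

end Cfsg.Agent.Lib.H23.Gag
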