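import Mathlib

/-!
# S3313 piece DC (helper23): double counting of commuting pairs of conjugates
-/

set_option autoImplicit false

namespace Cfsg.Agent.Lib.H23.HJ

/-- a map all of whose fibres have `c` elements -/
theorem card_eq_mul_of_fibers {S T : Type*} [Finite S] [Finite T] (f : S → T) (c : ℕ)
    (h : ∀ t, Nat.card {s // f s = t} = c) : Nat.card S = Nat.card T * c := by
  classical
  have := Fintype.ofFinite T
  rw [← Nat.card_congr (Equiv.sigmaFiberEquiv f), Nat.card_sigma]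
  simp [h, Nat.card_eq_fintype_card]

/-- the conjugators `k` with `k y k⁻¹ = b` form a coset of `C(y)` -/
theorem card_conjugators {G : Type*} [Group G] [Finite G] (y b : G) (k₀ : G)
    (hk₀ : k₀ * y * k₀⁻¹ = b) :
    Nat.card {k : G // k * y * k⁻¹ = b} = Nat.card ↥(Subgroup.centralizer ({y} : Set G)) := by
  refine Nat.card_congr
    { toFun := fun k => ⟨k₀⁻¹ * k.1, ?_⟩
      invFun := fun c => ⟨k₀ * c.1, ?_⟩
      left_inv := fun k => by simp
      right_inv := fun c => by simp }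
  · rw [Subgroup.mem_centralizer_iff]
    intro h hh
    rw [Set.mem_singleton_iff] at hh
    subst hh
    have h1 : k.1 * h * k.1⁻¹ = k₀ * h * k₀⁻¹ := by rw [k.2, hk₀]
    have h2 : k₀⁻¹ * (k.1 * h * k.1⁻¹) * k₀ = h := by rw [h1]; group
    calc h * (k₀⁻¹ * k.1) = (k₀⁻¹ * (k.1 * h * k.1⁻¹) * k₀) * (k₀⁻¹ * k.1) := by rw [h2]
      _ = k₀⁻¹ * k.1 * h := by group
  · have hc := c.2
    rw [Subgroup.mem_centralizer_iff] at hc
    have h1 : y * c.1 = c.1 * y := hc y rfl
    have : k₀ * c.1 * y * (k₀ * c.1)⁻¹ = k₀ * (c.1 * y) * c.1⁻¹ * k₀⁻¹ := by group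
    rw [this, ← h1, ← hk₀]; group

theorem comm_count {G : Type*} [Group G] [Finite G] (x y : G) :
    Nat.card {b : G // IsConj y b ∧ x * b = b * x} *
        Nat.card ↥(Subgroup.centralizer ({y} : Set G)) =
      Nat.card {a : G // IsConj x a ∧ a * y = y * a} *
        Nat.card ↥(Subgroup.centralizer ({x} : Set G)) := by
  -- `S = {k : x commutes with k y k⁻¹}`
  have h1 : Nat.card {k : G // x * (k * y * k⁻¹) = (k * y * k⁻¹) * x} =
      Nat.card {b : G // IsConj y b ∧ x * b = b * x} *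
        Nat.card ↥(Subgroup.centralizer ({y} : Set G)) := by
    refine card_eq_mul_of_fibers
      (fun k : {k : G // x * (k * y * k⁻¹) = (k * y * k⁻¹) * x} =>
        (⟨k.1 * y * k.1⁻¹, isConj_iff.2 ⟨k.1, rfl⟩, k.2⟩ :
          {b : G // IsConj y b ∧ x * b = b * x})) _ ?_
    rintro ⟨b, hb, hxb⟩
    obtain ⟨k₀, hk₀⟩ := isConj_iff.1 hb
    rw [← card_conjugators y b k₀ hk₀]
    refine Nat.card_congr
      { toFun := fun k => ⟨k.1.1, by simpa using congrArg Subtype.val k.2⟩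
        invFun := fun k => ⟨⟨k.1, by rw [k.2]; exact hxb⟩, by simp [k.2]⟩
        left_inv := fun k => by simp
        right_inv := fun k => by simp }
  have h2 : Nat.card {k : G // x * (k * y * k⁻¹) = (k * y * k⁻¹) * x} =
      Nat.card {a : G // IsConj x a ∧ a * y = y * a} *
        Nat.card ↥(Subgroup.centralizer ({x} : Set G)) := by
    have hk : ∀ k : G, x * (k * y * k⁻¹) = (k * y * k⁻¹) * x ↔
        (k⁻¹ * x * k⁻¹⁻¹) * y = y * (k⁻¹ * x * k⁻¹⁻¹) := by
      intro k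
      constructor
      · intro h
        have : k⁻¹ * (x * (k * y * k⁻¹)) * k = k⁻¹ * ((k * y * k⁻¹) * x) * k := by rw [h]
        calc k⁻¹ * x * k⁻¹⁻¹ * y = k⁻¹ * (x * (k * y * k⁻¹)) * k := by group
          _ = k⁻¹ * ((k * y * k⁻¹) * x) * k := this
          _ = y * (k⁻¹ * x * k⁻¹⁻¹) := by group
      · intro h
        have : k * ((k⁻¹ * x * k⁻¹⁻¹) * y) * k⁻¹ = k * (y * (k⁻¹ * x * k⁻¹⁻¹)) * k⁻¹ := by rw [h]
        calc x * (k * y * k⁻¹) = k * ((k⁻¹ * x * k⁻¹⁻¹) * y) * k⁻¹ := by group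
          _ = k * (y * (k⁻¹ * x * k⁻¹⁻¹)) * k⁻¹ := this
          _ = (k * y * k⁻¹) * x := by group
    refine card_eq_mul_of_fibers
      (fun k : {k : G // x * (k * y * k⁻¹) = (k * y * k⁻¹) * x} =>
        (⟨k.1⁻¹ * x * k.1⁻¹⁻¹, isConj_iff.2 ⟨k.1⁻¹, rfl⟩, (hk k.1).1 k.2⟩ :
          {a : G // IsConj x a ∧ a * y = y * a})) _ ?_
    rintro ⟨a, ha, hay⟩
    obtain ⟨k₀, hk₀⟩ := isConj_iff.1 ha
    rw [← card_conjugators x a k₀ hk₀]
    refine Nat.card_congr
      { toFun := fun k => ⟨k.1.1⁻¹, by simpa using congrArg Subtype.val k.2⟩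
        invFun := fun k => ⟨⟨k.1⁻¹, (hk _).2 (by simpa [k.2] using hay)⟩, by simp [k.2]⟩
        left_inv := fun k => by simp
        right_inv := fun k => by simp }
  rw [← h1, ← h2]

end Cfsg.Agent.Lib.H23.HJ
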