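import Mathlib
import Cfsg.Agent.Lib.H4.HT.Defs

/-!
# S3371 piece DQH (helper4 architect): `|C_V(τ)|² = |V|` in the dihedral / quasi-dihedral set-up
-/

set_option autoImplicit false

namespace Cfsg.Agent.Lib.H23.HT

open Cfsg.Agent.Lib.H4.HT

variable {q : ℕ} {V : Type*} [AddCommGroup V] [Module (ZMod q) V] {G : Type*} [Group G]

/-- `d + d = 0` forces `d = 0` over `ZMod q`, `q` an odd prime -/
theorem eq_zero_of_add_self [Fact q.Prime] (hq2 : 2 ≠ q) (d : V) (h : d + d = 0) : d = 0 := by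
  have hq : q.Prime := Fact.out
  have h2 : (2 : ZMod q) ≠ 0 := by
    intro h0
    have h1 : ((2 : ℕ) : ZMod q) = 0 := by exact_mod_cast h0
    have h3 : q ∣ 2 := (ZMod.natCast_eq_zero_iff 2 q).mp h1
    exact hq2 ((Nat.prime_dvd_prime_iff_eq hq Nat.prime_two).mp h3).symm
  have h3 : (2 : ZMod q) • d = 0 := by rw [two_smul]; exact h
  have h4 := congrArg (fun t => (2 : ZMod q)⁻¹ • t) h3
  simp only [smul_smul, inv_mul_cancel₀ h2, one_smul, smul_zero] at h4
  exact h4

/-- a finite module with an involution is the product of its two eigenspaces -/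
theorem card_eigen_mul [Fact q.Prime] [Finite V] (hq2 : 2 ≠ q) (T : V ≃ₗ[ZMod q] V)
    (hT : ∀ v, T (T v) = v) :
    Nat.card {v : V // T v = v} * Nat.card {v : V // T v = -v} = Nat.card V := by
  rw [← Nat.card_prod]
  apply le_antisymm
  · apply Nat.card_le_card_of_injective
      (fun p : {v : V // T v = v} × {v : V // T v = -v} => p.1.1 + p.2.1)
    rintro ⟨⟨u, hu⟩, ⟨w, hw⟩⟩ ⟨⟨u', hu'⟩, ⟨w', hw'⟩⟩ h
    have h' : u + w = u' + w' := h
    have hd : u - u' = w' - w := sub_eq_sub_iff_add_eq_add.mpr (by rw [h', add_comm])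
    have h1 : T (u - u') = u - u' := by rw [map_sub, hu, hu']
    have h2 : T (u - u') = -(u - u') := by rw [hd, map_sub, hw, hw']; abel
    have h3 : (u - u') + (u - u') = 0 := by
      have : u - u' = -(u - u') := h1.symm.trans h2
      calc (u - u') + (u - u') = (u - u') + -(u - u') := by rw [← this]
        _ = 0 := add_neg_cancel _
    have h4 : u - u' = 0 := eq_zero_of_add_self hq2 _ h3
    have h5 : u = u' := sub_eq_zero.mp h4
    have h6 : w' - w = 0 := by rw [← hd, h4]
    have h7 : w = w' := (sub_eq_zero.mp h6).symm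
    subst h5
    subst h7
    rfl
  · apply Nat.card_le_card_of_injective
      (fun v : V => ((⟨v + T v, by rw [map_add, hT, add_comm]⟩ : {v : V // T v = v}),
        (⟨v - T v, by rw [map_sub, hT, neg_sub]⟩ : {v : V // T v = -v})))
    intro v v' h
    have h1 : v + T v = v' + T v' := congrArg (fun p => p.1.1) h
    have h2 : v - T v = v' - T v' := congrArg (fun p => p.2.1) h
    have h3 : (v - v') + (v - v') = 0 := by
      have this : v + T v + (v - T v) = v' + T v' + (v' - T v') := by rw [h1, h2]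
      have e1 : v + T v + (v - T v) = v + v := by abel
      have e2 : v' + T v' + (v' - T v') = v' + v' := by abel
      rw [e1, e2] at this
      calc (v - v') + (v - v') = (v + v) - (v' + v') := by abel
        _ = 0 := by rw [this, sub_self]
    exact sub_eq_zero.mp (eq_zero_of_add_self hq2 _ h3)

/-- **DQH** -/
theorem dq_half [Fact q.Prime] [Finite V] [Finite G] (hq2 : 2 ≠ q) (ρ : G →* (V ≃ₗ[ZMod q] V))
    (hc : CentFpf ρ) (n : ℕ) (hn : 2 ≤ n) (x : G) (hx : orderOf x = 2 ^ n)
    (hG : Nat.card G = 2 ^ (n + 1)) (e : ℕ) (he : e % 4 = 3)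
    (hconj : ∀ τ : G, τ ∉ Subgroup.zpowers x → τ * x * τ⁻¹ = x ^ e) (τ : G)
    (hτ : τ ∉ Subgroup.zpowers x) (hτ2 : τ * τ = 1) :
    Nat.card {v : V // ρ τ v = v} ^ 2 = Nat.card V := by
  obtain ⟨m, rfl⟩ : ∃ m, n = m + 2 := ⟨n - 2, by omega⟩
  set c := x ^ (2 ^ m) with hcdef
  set z := c * c with hzdef
  have hxpow : x ^ (2 ^ (m + 2)) = 1 := by rw [← hx]; exact pow_orderOf_eq_one x
  have hc4' : c ^ 4 = 1 := by
    rw [hcdef, ← pow_mul]
    have h1 : 2 ^ m * 4 = 2 ^ (m + 2) := by ring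
    rw [h1, hxpow]
  have hc4 : c * c * (c * c) = 1 := by
    have h1 : c * c * (c * c) = c ^ 4 := by
      rw [pow_succ, pow_succ, pow_succ, pow_one]
      group
    rw [h1, hc4']
  have hzz : z * z = 1 := hc4
  have hz1 : z ≠ 1 := by
    rw [hzdef, hcdef, ← pow_add]
    apply pow_ne_one_of_lt_orderOf
    · have : 0 < 2 ^ m := by positivity
      omega
    · rw [hx]
      have h1 : 2 ^ (m + 2) = 4 * 2 ^ m := by ring
      have h2 : 0 < 2 ^ m := by positivity
      omega
  obtain ⟨k, hk⟩ : ∃ k, e = 4 * k + 3 := ⟨e / 4, by omega⟩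
  have hce : c ^ e = c⁻¹ := by
    rw [hk, pow_add, pow_mul, hc4', one_pow, one_mul]
    apply eq_inv_of_mul_eq_one_left
    rw [← pow_succ]
    exact hc4'
  have hconjc : ∀ g : G, g ∉ Subgroup.zpowers x → g * c * g⁻¹ = c⁻¹ := by
    intro g hg
    rw [hcdef, ← conj_pow, hconj g hg, ← pow_mul, mul_comm, pow_mul, ← hcdef]
    exact hce
  have hzinv : z⁻¹ = z := inv_eq_of_mul_eq_one_right hzz
  -- `z` is central
  have hzc : z ∈ Subgroup.center G := by
    rw [Subgroup.mem_center_iff]
    intro g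
    by_cases hg : g ∈ Subgroup.zpowers x
    · obtain ⟨j, rfl⟩ := Subgroup.mem_zpowers_iff.mp hg
      have h1 : Commute (x ^ j) c := ((Commute.refl x).zpow_left j).pow_right (2 ^ m)
      exact (h1.mul_right h1).eq
    · have h1 : g * z * g⁻¹ = z := by
        have h2 : g * z * g⁻¹ = (g * c * g⁻¹) * (g * c * g⁻¹) := by rw [hzdef]; group
        rw [h2, hconjc g hg, ← mul_inv_rev, ← hzdef, hzinv]
      calc g * z = (g * z * g⁻¹) * g := by group
        _ = z * g := by rw [h1]
  have hzneg : ∀ v : V, ρ z v = -v := by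
    intro v
    have hw : ρ z (v + ρ z v) = v + ρ z v := by
      rw [map_add, ← rho_mul, hzz, rho_one, add_comm]
    have h1 := hc z hzc hz1 _ hw
    exact eq_neg_of_add_eq_zero_right h1
  -- `c⁻¹ = z c`
  have hcinv : c⁻¹ = z * c := by
    apply inv_eq_of_mul_eq_one_right
    calc c * (z * c) = c * c * (c * c) := by rw [hzdef]; group
      _ = 1 := hc4
  have hτc : τ * c = c⁻¹ * τ := by
    rw [← hconjc τ hτ]
    group
  have hmap : ∀ v : V, ρ τ (ρ c v) = -(ρ c (ρ τ v)) := by
    intro v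
    rw [← rho_mul, hτc, rho_mul, hcinv, rho_mul, hzneg]
  -- the two eigenspaces have the same size
  have hle1 : Nat.card {v : V // ρ τ v = v} ≤ Nat.card {v : V // ρ τ v = -v} := by
    apply Nat.card_le_card_of_injective
      (fun v : {v : V // ρ τ v = v} => (⟨ρ c v.1, by rw [hmap, v.2]⟩ : {v : V // ρ τ v = -v}))
    intro v v' h
    apply Subtype.ext
    exact (ρ c).injective (congrArg Subtype.val h)
  have hle2 : Nat.card {v : V // ρ τ v = -v} ≤ Nat.card {v : V // ρ τ v = v} := by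
    apply Nat.card_le_card_of_injective
      (fun v : {v : V // ρ τ v = -v} => (⟨ρ c v.1, by rw [hmap, v.2, map_neg, neg_neg]⟩ :
        {v : V // ρ τ v = v}))
    intro v v' h
    apply Subtype.ext
    exact (ρ c).injective (congrArg Subtype.val h)
  have hT : ∀ v, ρ τ (ρ τ v) = v := by
    intro v
    rw [← rho_mul, hτ2, rho_one]
  have hprod := card_eigen_mul hq2 (ρ τ) hT
  rw [← le_antisymm hle1 hle2] at hprod
  rw [pow_two]
  exact hprod

end Cfsg.Agent.Lib.H23.HT
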