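import Mathlib
import Cfsg.Agent.Lib.H22.UniqueOrderP
import Cfsg.Agent.Lib.H1.NilpotentBasic

/-!
# S3371 piece NP (helper4 architect): a normal pair from a non-cyclic abelian normal subgroup of a `p`-group
-/

set_option autoImplicit false

namespace Cfsg.Agent.Lib.H23.HT

variable {G : Type*} [Group G]

/-- the elements of order dividing `p` of a commutative subgroup -/
def omegaOf (N : Subgroup G) (hNc : IsMulCommutative N) (p : ℕ) : Subgroup G where
  carrier := {x | x ∈ N ∧ x ^ p = 1}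
  one_mem' := ⟨N.one_mem, one_pow p⟩
  mul_mem' := by
    rintro a b ⟨ha, hap⟩ ⟨hb, hbp⟩
    refine ⟨N.mul_mem ha hb, ?_⟩
    have hcomm : a * b = b * a := by
      have := hNc.is_comm.comm (⟨a, ha⟩ : N) ⟨b, hb⟩
      exact congrArg Subtype.val this
    have hc : Commute a b := hcomm
    rw [hc.mul_pow, hap, hbp, one_mul]
  inv_mem' := by
    rintro a ⟨ha, hap⟩
    exact ⟨N.inv_mem ha, by rw [inv_pow, hap, inv_one]⟩

theorem mem_omegaOf {N : Subgroup G} {hNc : IsMulCommutative N} {p : ℕ} {x : G} :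
    x ∈ omegaOf N hNc p ↔ x ∈ N ∧ x ^ p = 1 := Iff.rfl

theorem omegaOf_normal (N : Subgroup G) (hN : N.Normal) (hNc : IsMulCommutative N) (p : ℕ) :
    (omegaOf N hNc p).Normal := by
  constructor
  intro x hx g
  obtain ⟨hxN, hxp⟩ := hx
  refine ⟨hN.conj_mem x hxN g, ?_⟩
  rw [conj_pow, hxp, mul_one, mul_inv_cancel]

/-- **NP** -/
theorem exists_normal_pair [Finite G] {p : ℕ} [Fact p.Prime] (hG : IsPGroup p G) (N : Subgroup G)
    (hN : N.Normal) (hNc : IsMulCommutative N) (hNnc : ¬ IsCyclic N) :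
    ∃ a z : G, z ∈ Subgroup.center G ∧ z ≠ 1 ∧ z ^ p = 1 ∧ a ^ p = 1 ∧ a ∉ Subgroup.zpowers z ∧
      ∀ g : G, ∃ k : ℕ, g * a * g⁻¹ = a * z ^ k := by
  have hp : p.Prime := Fact.out
  -- two subgroups of order `p` in `N`
  have hnot : ¬ Cfsg.Agent.Lib.H22.AtMostOneOrderP p N := by
    intro h
    exact hNnc (Cfsg.Agent.Lib.H22.isCyclic_of_comm_of_atMostOne (hG.to_subgroup N) h
      (fun a b => hNc.is_comm.comm a b))
  unfold Cfsg.Agent.Lib.H22.AtMostOneOrderP at hnot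
  push Not at hnot
  obtain ⟨H₁, H₂, hH₁, hH₂, hne⟩ := hnot
  set Ω := omegaOf N hNc p with hΩ
  have hΩn : Ω.Normal := omegaOf_normal N hN hNc p
  -- the elements of `H_i` lie in `Ω`
  have hsub : ∀ H : Subgroup N, Nat.card H = p → H.map N.subtype ≤ Ω := by
    intro H hH x hx
    obtain ⟨y, hy, rfl⟩ := hx
    refine ⟨y.2, ?_⟩
    have h1 : (⟨y, hy⟩ : H) ^ p = 1 := by
      rw [← hH]
      exact pow_card_eq_one'
    have h2 := congrArg (fun t : H => ((t : N) : G)) h1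
    simpa using h2
  have hcardmap : ∀ H : Subgroup N, Nat.card H = p → Nat.card (H.map N.subtype) = p := by
    intro H hH
    rw [Subgroup.card_map_of_injective N.subtype_injective, hH]
  -- `Ω ≠ ⊥`
  have hΩne : Ω ≠ ⊥ := by
    intro h
    have h1 := hsub H₁ hH₁
    rw [h, le_bot_iff] at h1
    have h2 := hcardmap H₁ hH₁
    rw [h1, Subgroup.card_bot] at h2
    exact hp.one_lt.ne h2
  -- central element
  haveI : Group.IsNilpotent G := hG.isNilpotent
  have hz := Cfsg.Agent.Lib.H1.normal_inf_center_ne_bot Ω hΩne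
  obtain ⟨⟨z, hzmem⟩, hz1'⟩ := (Subgroup.ne_bot_iff_exists_ne_one).mp hz
  have hz1 : z ≠ 1 := fun h => hz1' (Subtype.ext h)
  obtain ⟨hzΩ, hzc⟩ := Subgroup.mem_inf.mp hzmem
  have hzp : z ^ p = 1 := hzΩ.2
  set Z := Subgroup.zpowers z with hZ
  have hordz : orderOf z = p := orderOf_eq_prime hzp hz1
  have hcardZ : Nat.card Z = p := by rw [Nat.card_zpowers, hordz]
  have hZn : Z.Normal := by
    constructor
    intro x hx g
    have hxg : g * x * g⁻¹ = x := by
      obtain ⟨k, rfl⟩ := Subgroup.mem_zpowers_iff.mp hx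
      have hc : g * z = z * g := Subgroup.mem_center_iff.mp hzc g
      have hc' : Commute g (z ^ k) := (show Commute g z from hc).zpow_right k
      rw [hc'.eq, mul_inv_cancel_right]
    rw [hxg]
    exact hx
  -- `Ω` is not inside `Z`
  have hΩZ : ¬ Ω ≤ Z := by
    intro hle
    apply hne
    have e1 : H₁.map N.subtype = Z :=
      Subgroup.eq_of_le_of_card_ge ((hsub H₁ hH₁).trans hle) (by rw [hcardZ, hcardmap H₁ hH₁])
    have e2 : H₂.map N.subtype = Z :=
      Subgroup.eq_of_le_of_card_ge ((hsub H₂ hH₂).trans hle) (by rw [hcardZ, hcardmap H₂ hH₂])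
    exact Subgroup.map_injective N.subtype_injective (e1.trans e2.symm)
  -- the quotient
  have hπs : Function.Surjective (QuotientGroup.mk' Z) := QuotientGroup.mk'_surjective Z
  set Ωb := Ω.map (QuotientGroup.mk' Z) with hΩb
  have hΩbn : Ωb.Normal := hΩn.map (QuotientGroup.mk' Z) hπs
  have hΩbne : Ωb ≠ ⊥ := by
    intro h
    apply hΩZ
    intro x hx
    have h1 : QuotientGroup.mk' Z x ∈ Ωb := Subgroup.mem_map_of_mem _ hx
    rw [h, Subgroup.mem_bot] at h1
    exact (QuotientGroup.eq_one_iff x).mp h1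
  have hQp : IsPGroup p (G ⧸ Z) := hG.to_quotient Z
  haveI : Group.IsNilpotent (G ⧸ Z) := hQp.isNilpotent
  have hab := Cfsg.Agent.Lib.H1.normal_inf_center_ne_bot Ωb hΩbne
  obtain ⟨⟨ab, habmem⟩, hab1'⟩ := (Subgroup.ne_bot_iff_exists_ne_one).mp hab
  have hab1 : ab ≠ 1 := fun h => hab1' (Subtype.ext h)
  obtain ⟨habΩ, habc⟩ := Subgroup.mem_inf.mp habmem
  obtain ⟨a, haΩ, rfl⟩ := Subgroup.mem_map.mp habΩ
  refine ⟨a, z, hzc, hz1, hzp, haΩ.2, ?_, ?_⟩
  · intro haZ
    exact hab1 ((QuotientGroup.eq_one_iff a).mpr haZ)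
  · intro g
    have h1 : QuotientGroup.mk' Z (g * a * g⁻¹) = QuotientGroup.mk' Z a := by
      rw [map_mul, map_mul, map_inv]
      have h0 := Subgroup.mem_center_iff.mp habc (QuotientGroup.mk' Z g)
      rw [h0, mul_inv_cancel_right]
    have h2 : a⁻¹ * (g * a * g⁻¹) ∈ Z := (QuotientGroup.eq (s := Z)).mp h1.symm
    have h3 : a⁻¹ * (g * a * g⁻¹) ∈ Submonoid.powers z :=
      (isOfFinOrder_of_finite z).mem_powers_iff_mem_zpowers.mpr h2
    obtain ⟨k, hk⟩ := (Submonoid.mem_powers_iff _ _).mp h3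
    refine ⟨k, ?_⟩
    rw [hk, mul_inv_cancel_left]

end Cfsg.Agent.Lib.H23.HT
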