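import Mathlib
import Cfsg.Prelude.Def_Characters

/-!
# Power maps onto Hall parts (helper23)

For a finite group of order `m * n` with `m, n` coprime, exponents `a, b` with
`a ≡ 1 (m), a ≡ 0 (n), b ≡ 0 (m), b ≡ 1 (n)` give `x = x^a * x^b` with `x^a` of order dividing
`m` and `x^b` of order dividing `n`.
* `exists_exponents`;
* `pow_mul_of_isElementary`: on an elementary group, the power map `x ↦ x^b` is multiplicative as
  soon as it is the identity or trivial on the `p`-elements.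
-/

set_option autoImplicit false

namespace Cfsg.Agent.Lib.H23.HallPow

theorem exists_exponents {m n : ℕ} (hcop : Nat.Coprime m n) :
    ∃ a b : ℕ, a ≡ 1 [MOD m] ∧ a ≡ 0 [MOD n] ∧ b ≡ 0 [MOD m] ∧ b ≡ 1 [MOD n] := by
  obtain ⟨a, ha1, ha2⟩ := Nat.chineseRemainder hcop 1 0
  obtain ⟨b, hb1, hb2⟩ := Nat.chineseRemainder hcop 0 1
  exact ⟨a, b, ha1, ha2, hb1, hb2⟩

section group

variable {G : Type*} [Group G] {m n a b : ℕ}

theorem orderOf_dvd_right (hmn : Nat.card G = m * n) {v : G}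
    (hv : Nat.Coprime (orderOf v) m) : orderOf v ∣ n := by
  have h1 : orderOf v ∣ m * n := hmn ▸ orderOf_dvd_natCard v
  exact hv.dvd_of_dvd_mul_left h1

theorem orderOf_dvd_left (hmn : Nat.card G = m * n) {u : G}
    (hu : Nat.Coprime (orderOf u) n) : orderOf u ∣ m := by
  have h1 : orderOf u ∣ m * n := hmn ▸ orderOf_dvd_natCard u
  exact hu.dvd_of_dvd_mul_right h1

theorem pow_eq_self_of_modEq {v : G} {k : ℕ} (hk : orderOf v ∣ k) (hb : b ≡ 1 [MOD k]) :
    v ^ b = v := by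
  have h4 : b ≡ 1 [MOD orderOf v] := hb.of_dvd hk
  have := (pow_eq_pow_iff_modEq (x := v)).mpr h4
  rwa [pow_one] at this

theorem pow_eq_one_of_modEq {u : G} {k : ℕ} (hk : orderOf u ∣ k) (hb : b ≡ 0 [MOD k]) :
    u ^ b = 1 := by
  have h1 : k ∣ b := (Nat.modEq_zero_iff_dvd).mp hb
  exact orderOf_dvd_iff_pow_eq_one.mp (hk.trans h1)

variable [Finite G]

theorem pow_a_mul_pow_b (hmn : Nat.card G = m * n) (hcop : Nat.Coprime m n)
    (ha1 : a ≡ 1 [MOD m]) (ha2 : a ≡ 0 [MOD n]) (hb1 : b ≡ 0 [MOD m]) (hb2 : b ≡ 1 [MOD n])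
    (x : G) : x ^ a * x ^ b = x := by
  rw [← pow_add]
  have h1 : a + b ≡ 1 [MOD m] := by simpa using ha1.add hb1
  have h2 : a + b ≡ 1 [MOD n] := by simpa using ha2.add hb2
  have h3 : a + b ≡ 1 [MOD m * n] := (Nat.modEq_and_modEq_iff_modEq_mul hcop).mp ⟨h1, h2⟩
  exact pow_eq_self_of_modEq (hmn ▸ orderOf_dvd_natCard x) h3

theorem pow_b_pow_m (hmn : Nat.card G = m * n) (ha2 : a ≡ 0 [MOD n]) (x : G) :
    (x ^ a) ^ m = 1 := by
  rw [← pow_mul]
  obtain ⟨c, rfl⟩ := (Nat.modEq_zero_iff_dvd).mp ha2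
  have : n * c * m = Nat.card G * c := by rw [hmn]; ring
  rw [this, pow_mul, pow_card_eq_one', one_pow]

theorem pow_a_pow_n (hmn : Nat.card G = m * n) (hb1 : b ≡ 0 [MOD m]) (x : G) :
    (x ^ b) ^ n = 1 := by
  rw [← pow_mul]
  obtain ⟨c, rfl⟩ := (Nat.modEq_zero_iff_dvd).mp hb1
  have : m * c * n = Nat.card G * c := by rw [hmn]; ring
  rw [this, pow_mul, pow_card_eq_one', one_pow]

/-- the `n`-part of `x` is conjugate to `g` iff `x ^ b` is -/
theorem section_iff (hmn : Nat.card G = m * n) (hcop : Nat.Coprime m n)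
    (ha1 : a ≡ 1 [MOD m]) (ha2 : a ≡ 0 [MOD n]) (hb1 : b ≡ 0 [MOD m]) (hb2 : b ≡ 1 [MOD n])
    (g x : G) :
    (∃ v : G, IsConj v g ∧ (∃ u : G, x = u * v ∧ Commute u v ∧ Nat.Coprime (orderOf u) n ∧
      Nat.Coprime (orderOf v) m)) ↔ IsConj (x ^ b) g := by
  constructor
  · rintro ⟨v, hvg, u, rfl, hc, hu, hv⟩
    rw [hc.mul_pow, pow_eq_one_of_modEq (orderOf_dvd_left hmn hu) hb1, one_mul,
      pow_eq_self_of_modEq (orderOf_dvd_right hmn hv) hb2]
    exact hvg
  · intro h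
    refine ⟨x ^ b, h, x ^ a, (pow_a_mul_pow_b hmn hcop ha1 ha2 hb1 hb2 x).symm,
      (Commute.refl x).pow_pow a b, ?_, ?_⟩
    · exact Nat.Coprime.coprime_dvd_left (orderOf_dvd_of_pow_eq_one (pow_b_pow_m hmn ha2 x)) hcop
    · exact Nat.Coprime.coprime_dvd_left (orderOf_dvd_of_pow_eq_one (pow_a_pow_n hmn hb1 x))
        hcop.symm

end group

section elementary

variable {E : Type*} [Group E] [Finite E]

/-- On an elementary group the map `x ↦ x ^ b` is multiplicative when it is trivial or the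
identity on `p`-elements. -/
theorem pow_mul_of_isElementary {p : ℕ} (hE : Cfsg.IsElementary p E) (b : ℕ)
    (hb : (∀ s : E, (∃ j : ℕ, s ^ p ^ j = 1) → s ^ b = 1) ∨
      (∀ s : E, (∃ j : ℕ, s ^ p ^ j = 1) → s ^ b = s)) (x y : E) :
    (x * y) ^ b = x ^ b * y ^ b := by
  obtain ⟨z, hz, hzp, k, hk⟩ := hE
  set c := orderOf z with hc
  have hcpos : 0 < c := orderOf_pos z
  have hcard : Nat.card E = c * p ^ k := by
    rw [← Subgroup.card_mul_index (Subgroup.zpowers z), hk, Nat.card_zpowers]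
  have hcop : Nat.Coprime c (p ^ k) := Nat.Coprime.pow_right k hzp
  obtain ⟨α, β, hα1, hα2, hβ1, hβ2⟩ := exists_exponents hcop
  -- `x ↦ x ^ (p ^ k)` is multiplicative, with central values
  have hle : Subgroup.zpowers z ≤ Subgroup.center E := by
    rw [Subgroup.zpowers_le]; exact hz
  obtain ⟨j, hj⟩ : (Subgroup.center E).index ∣ p ^ k := hk ▸ Subgroup.index_dvd_of_le hle
  have hcen : ∀ w : E, w ^ (Subgroup.center E).index ∈ Subgroup.center E :=
    fun w => (Subgroup.center E).pow_index_mem w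
  have hN : ∀ u v : E, (u * v) ^ (Subgroup.center E).index =
      u ^ (Subgroup.center E).index * v ^ (Subgroup.center E).index := by
    intro u v
    have := congrArg Subtype.val (map_mul (MonoidHom.transferCenterPow E) u v)
    rw [Subgroup.coe_mul, MonoidHom.transferCenterPow_apply, MonoidHom.transferCenterPow_apply,
      MonoidHom.transferCenterPow_apply] at this
    exact this
  have hcomm : ∀ (w : E) (i : ℕ) (v : E), Commute (w ^ ((Subgroup.center E).index * i)) v := by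
    intro w i v
    rw [pow_mul]
    have h0 : Commute (w ^ (Subgroup.center E).index) v :=
      (Subgroup.mem_center_iff.mp (hcen w) v).symm
    exact h0.pow_left i
  have hα : ∃ i, α = (Subgroup.center E).index * i := by
    obtain ⟨i, hi⟩ := (Nat.modEq_zero_iff_dvd).mp hα2
    exact ⟨j * i, by rw [hi, hj, mul_assoc]⟩
  obtain ⟨i, hi⟩ := hα
  have hζ : ∀ u v : E, (u * v) ^ α = u ^ α * v ^ α := by
    intro u v
    rw [hi, pow_mul, pow_mul, pow_mul, hN]
    have h0 : Commute (u ^ (Subgroup.center E).index) (v ^ (Subgroup.center E).index) :=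
      (Subgroup.mem_center_iff.mp (hcen u) _).symm
    exact h0.mul_pow i
  have hζc : ∀ (w v : E), Commute (w ^ α) v := by
    intro w v; rw [hi]; exact hcomm w i v
  have hdec : ∀ w : E, w ^ α * w ^ β = w :=
    fun w => pow_a_mul_pow_b hcard hcop hα1 hα2 hβ1 hβ2 w
  have hσp : ∀ w : E, (w ^ β) ^ p ^ k = 1 := fun w => pow_a_pow_n hcard hβ1 w
  have hσ : ∀ u v : E, (u * v) ^ β = u ^ β * v ^ β := by
    intro u v
    have h1 : (u * v) ^ α * (u * v) ^ β = u * v := hdec (u * v)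
    have h2 : u ^ α * v ^ α * (u ^ β * v ^ β) = u * v := by
      have hc1 : Commute (v ^ α) (u ^ β) := hζc v _
      calc u ^ α * v ^ α * (u ^ β * v ^ β) = u ^ α * (v ^ α * u ^ β) * v ^ β := by group
        _ = u ^ α * (u ^ β * v ^ α) * v ^ β := by rw [hc1.eq]
        _ = (u ^ α * u ^ β) * (v ^ α * v ^ β) := by group
        _ = u * v := by rw [hdec, hdec]
    rw [hζ] at h1
    exact mul_left_cancel (h1.trans h2.symm)
  -- now compute
  have hx : x ^ b = (x ^ α) ^ b * (x ^ β) ^ b := by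
    conv_lhs => rw [← hdec x]
    exact ((hζc x _).mul_pow b)
  have hy : y ^ b = (y ^ α) ^ b * (y ^ β) ^ b := by
    conv_lhs => rw [← hdec y]
    exact ((hζc y _).mul_pow b)
  have hxy : (x * y) ^ b = ((x * y) ^ α) ^ b * ((x * y) ^ β) ^ b := by
    conv_lhs => rw [← hdec (x * y)]
    exact ((hζc (x * y) _).mul_pow b)
  have hβb : ((x * y) ^ β) ^ b = (x ^ β) ^ b * (y ^ β) ^ b := by
    rcases hb with hb | hb
    · rw [hb _ ⟨k, hσp _⟩, hb _ ⟨k, hσp _⟩, hb _ ⟨k, hσp _⟩, one_mul]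
    · rw [hb _ ⟨k, hσp _⟩, hb _ ⟨k, hσp _⟩, hb _ ⟨k, hσp _⟩, hσ]
  have hαb : ((x * y) ^ α) ^ b = (x ^ α) ^ b * (y ^ α) ^ b := by
    rw [hζ]
    exact ((hζc x _).mul_pow b)
  rw [hxy, hαb, hβb, hx, hy]
  have hc2 : Commute ((y ^ α) ^ b) ((x ^ β) ^ b) := ((hζc y _).pow_left b)
  calc (x ^ α) ^ b * (y ^ α) ^ b * ((x ^ β) ^ b * (y ^ β) ^ b)
      = (x ^ α) ^ b * ((y ^ α) ^ b * (x ^ β) ^ b) * (y ^ β) ^ b := by group
    _ = (x ^ α) ^ b * ((x ^ β) ^ b * (y ^ α) ^ b) * (y ^ β) ^ b := by rw [hc2.eq]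
    _ = (x ^ α) ^ b * (x ^ β) ^ b * ((y ^ α) ^ b * (y ^ β) ^ b) := by group

end elementary

end Cfsg.Agent.Lib.H23.HallPow
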