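import Cfsg.Agent.Lib.H23.BrauerThm
import Cfsg.Agent.Lib.H23.HallPow

/-!
# Brauer–Suzuki: a Hall subgroup controlling fusion and elementary subgroups has a normal
complement, part A (helper23)

`H ≤ G` with `|H| = m` prime to `|G:H| = n`, `a ≡ 1 (m)`, `a ≡ 0 (n)`.
* `exists_conj_mem`: every `x ^ a` is conjugate into `H`;
* `hat θ`: the extension of a class function `θ` of `H` to `G`, `hat θ x = θ (g x^a g⁻¹)`;
* `hat_isGeneralizedCharacter`.
-/

set_option autoImplicit false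

universe u

namespace Cfsg.Agent.Lib.H23.HallComplement

open Cfsg Cfsg.Agent.Lib.H23 Cfsg.Agent.Lib.L0 Cfsg.Agent.Lib.H8 Cfsg.Agent.Lib.H23.HallPow
open scoped ComplexConjugate

variable {G : Type u} [Group G] [Fintype G] (H : Subgroup G)

/-- the hypotheses of the theorem, with the chosen exponent -/
structure Hyp (a : ℕ) : Prop where
  hall : Nat.Coprime (Nat.card H) H.index
  fus : ∀ x ∈ H, ∀ y ∈ H, IsConj x y → ∃ h ∈ H, h * x * h⁻¹ = y
  elem : ∀ (E : Subgroup G) (p : ℕ), p.Prime → IsElementary p E → Nat.card E ∣ Nat.card H →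
    ∃ g : G, E.map (MulAut.conj g).toMonoidHom ≤ H
  ha1 : a ≡ 1 [MOD Nat.card H]
  ha2 : a ≡ 0 [MOD H.index]

variable {H} {a : ℕ}

theorem Hyp.card (_hy : Hyp H a) : Nat.card G = Nat.card H * H.index :=
  (Subgroup.card_mul_index H).symm

theorem isElementary_zpowers (y : G) :
    ∃ p : ℕ, p.Prime ∧ IsElementary p ↥(Subgroup.zpowers y) := by
  obtain ⟨p, hp1, hp⟩ := Nat.exists_infinite_primes (orderOf y + 1)
  refine ⟨p, hp, ⟨y, Subgroup.mem_zpowers y⟩, ?_, ?_, 0, ?_⟩
  · rw [Subgroup.mem_center_iff]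
    rintro ⟨w, hw⟩
    obtain ⟨i, rfl⟩ := Subgroup.mem_zpowers_iff.mp hw
    apply Subtype.ext
    simp only [Subgroup.coe_mul]
    exact ((Commute.refl y).zpow_left i).eq
  · rw [Subgroup.orderOf_mk]
    exact ((Nat.Prime.coprime_iff_not_dvd hp).mpr
      (Nat.not_dvd_of_pos_of_lt (orderOf_pos y) (by omega))).symm
  · rw [pow_zero, Subgroup.index_eq_one, eq_top_iff]
    rintro ⟨w, hw⟩ _
    obtain ⟨i, rfl⟩ := Subgroup.mem_zpowers_iff.mp hw
    refine Subgroup.mem_zpowers_iff.mpr ⟨i, ?_⟩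
    apply Subtype.ext
    simp

theorem exists_conj_mem (hy : Hyp H a) (x : G) : ∃ g : G, g * x ^ a * g⁻¹ ∈ H := by
  set y := x ^ a with hyd
  obtain ⟨p, hp, hE⟩ := isElementary_zpowers y
  have hym : y ^ Nat.card H = 1 := pow_b_pow_m hy.card hy.ha2 x
  have hcard : Nat.card (Subgroup.zpowers y) ∣ Nat.card H := by
    rw [Nat.card_zpowers]; exact orderOf_dvd_of_pow_eq_one hym
  obtain ⟨g, hg⟩ := hy.elem (Subgroup.zpowers y) p hp hE hcard
  refine ⟨g, hg ?_⟩
  exact ⟨y, Subgroup.mem_zpowers y, by simp [MulAut.conj_apply]⟩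

/-- the extension of `θ` to `G` -/
noncomputable def hat (hy : Hyp H a) (θ : H → ℂ) (x : G) : ℂ :=
  θ ⟨_, Classical.choose_spec (exists_conj_mem hy x)⟩

theorem hat_eq (hy : Hyp H a) {θ : H → ℂ} (hθ : IsClassFunction H θ) (x g : G)
    (hg : g * x ^ a * g⁻¹ ∈ H) : hat hy θ x = θ ⟨g * x ^ a * g⁻¹, hg⟩ := by
  unfold hat
  set g₀ := Classical.choose (exists_conj_mem hy x) with hg₀
  have hg₀m : g₀ * x ^ a * g₀⁻¹ ∈ H := Classical.choose_spec (exists_conj_mem hy x)
  have hconj : IsConj (g * x ^ a * g⁻¹) (g₀ * x ^ a * g₀⁻¹) := by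
    refine isConj_iff.mpr ⟨g₀ * g⁻¹, ?_⟩
    group
  obtain ⟨h, hh, heq⟩ := hy.fus _ hg _ hg₀m hconj
  have := hθ ⟨g * x ^ a * g⁻¹, hg⟩ ⟨h, hh⟩
  rw [← this]
  congr 1
  apply Subtype.ext
  simp only [Subgroup.coe_mul, Subgroup.coe_inv]
  exact heq.symm

theorem hat_isClassFunction (hy : Hyp H a) {θ : H → ℂ} (hθ : IsClassFunction H θ) :
    IsClassFunction G (hat hy θ) := by
  intro x k
  obtain ⟨g, hg⟩ := exists_conj_mem hy x
  have h1 : (k * x * k⁻¹) ^ a = k * x ^ a * k⁻¹ := conj_pow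
  have h2 : g * k⁻¹ * (k * x * k⁻¹) ^ a * (g * k⁻¹)⁻¹ = g * x ^ a * g⁻¹ := by
    rw [h1]; group
  have hg' : g * k⁻¹ * (k * x * k⁻¹) ^ a * (g * k⁻¹)⁻¹ ∈ H := by rw [h2]; exact hg
  rw [hat_eq hy hθ (k * x * k⁻¹) (g * k⁻¹) hg', hat_eq hy hθ x g hg]
  congr 1
  exact Subtype.ext h2

theorem hat_of_mem (hy : Hyp H a) {θ : H → ℂ} (hθ : IsClassFunction H θ) (h : H) :
    hat hy θ (h : G) = θ h := by
  have h1 : (h : G) ^ a = h := by
    have h2 : orderOf (h : G) ∣ Nat.card H := by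
      rw [Subgroup.orderOf_coe]; exact orderOf_dvd_natCard h
    exact pow_eq_self_of_modEq h2 hy.ha1
  have hm : (1 : G) * (h : G) ^ a * (1 : G)⁻¹ ∈ H := by rw [h1]; simp
  rw [hat_eq hy hθ (h : G) 1 hm]
  congr 1
  apply Subtype.ext
  simp [h1]

/-- the restriction of `hat θ` to an elementary subgroup is `θ` composed with a homomorphism -/
theorem exists_hom_hat (hy : Hyp H a) (E : Subgroup G) (p : ℕ) (hp : p.Prime)
    (hE : IsElementary p E) :
    ∃ φ : E →* H, ∀ (θ : H → ℂ), IsClassFunction H θ → ∀ e : E, hat hy θ (e : G) = θ (φ e) := by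
  classical
  set m := Nat.card H with hm
  set n := H.index with hn
  have hmn : Nat.card G = m * n := hy.card
  have hcop : Nat.Coprime m n := hy.hall
  have hb : (∀ s : E, (∃ j : ℕ, s ^ p ^ j = 1) → s ^ a = 1) ∨
      (∀ s : E, (∃ j : ℕ, s ^ p ^ j = 1) → s ^ a = s) := by
    by_cases hpm : p ∣ m
    · right
      rintro s ⟨j, hj⟩
      obtain ⟨i, _, hi⟩ := (Nat.dvd_prime_pow hp).mp (orderOf_dvd_of_pow_eq_one hj)
      have hpn : Nat.Coprime p n := Nat.Coprime.coprime_dvd_left hpm hcop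
      have h1 : Nat.Coprime (orderOf (s : G)) n := by
        rw [Subgroup.orderOf_coe, hi]; exact Nat.Coprime.pow_left i hpn
      have h2 := pow_eq_self_of_modEq (orderOf_dvd_left hmn h1) hy.ha1
      apply Subtype.ext
      rw [Subgroup.coe_pow, h2]
    · left
      rintro s ⟨j, hj⟩
      obtain ⟨i, _, hi⟩ := (Nat.dvd_prime_pow hp).mp (orderOf_dvd_of_pow_eq_one hj)
      have hpm' : Nat.Coprime p m := (Nat.Prime.coprime_iff_not_dvd hp).mpr hpm
      have h1 : Nat.Coprime (orderOf (s : G)) m := by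
        rw [Subgroup.orderOf_coe, hi]; exact Nat.Coprime.pow_left i hpm'
      have h2 := pow_eq_one_of_modEq (orderOf_dvd_right hmn h1) hy.ha2
      apply Subtype.ext
      rw [Subgroup.coe_pow, h2]; rfl
  let α : E →* E :=
    { toFun := fun x => x ^ a
      map_one' := one_pow a
      map_mul' := pow_mul_of_isElementary hE a hb }
  have hαapp : ∀ x : E, ((α x : E) : G) = (x : G) ^ a := fun x => Subgroup.coe_pow E x a
  have hαm : ∀ x : E, ((α x : E) : G) ^ m = 1 := by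
    intro x
    rw [hαapp]
    exact pow_b_pow_m hmn hy.ha2 (x : G)
  set A : Subgroup E := α.range with hA
  set A' : Subgroup G := A.map E.subtype with hA'
  have hA'el : IsElementary p ↥A' :=
    isElementary_of_mulEquiv (A.equivMapOfInjective E.subtype E.subtype_injective)
      (IsElementary.subgroup hp hE A)
  have hA'card : Nat.card ↥A' ∣ m := by
    have h0 : Nat.card ↥A' = Nat.card ↥A :=
      Nat.card_congr (A.equivMapOfInjective E.subtype E.subtype_injective).toEquiv.symm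
    rw [h0]
    have h1 : Nat.card ↥A ∣ m * n := by
      rw [← hmn]
      exact (Subgroup.card_subgroup_dvd_card A).trans (Subgroup.card_subgroup_dvd_card E)
    have h2 : Nat.Coprime (Nat.card ↥A) n := by
      apply Nat.coprime_of_dvd
      intro q hq hq1 hq2
      haveI : Fact q.Prime := ⟨hq⟩
      obtain ⟨v, hv⟩ := exists_prime_orderOf_dvd_card' q hq1
      obtain ⟨x, hx⟩ := v.2
      have h3 : ((v : E) : G) ^ m = 1 := by rw [← hx]; exact hαm x
      have h4 : orderOf ((v : E) : G) = q := by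
        rw [Subgroup.orderOf_coe, Subgroup.orderOf_coe, hv]
      have h5 : q ∣ m := h4 ▸ orderOf_dvd_of_pow_eq_one h3
      exact (Nat.Prime.coprime_iff_not_dvd hq).mp
        (Nat.Coprime.coprime_dvd_left hq2 hcop.symm) h5
    exact h2.dvd_of_dvd_mul_right h1
  obtain ⟨g, hg⟩ := hy.elem A' p hp hA'el hA'card
  have hmem : ∀ e : E, g * ((α e : E) : G) * g⁻¹ ∈ H := by
    intro e
    apply hg
    refine ⟨((α e : E) : G), ⟨α e, ⟨e, rfl⟩, rfl⟩, by simp [MulAut.conj_apply]⟩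
  let φ : E →* H :=
    { toFun := fun e => ⟨g * ((α e : E) : G) * g⁻¹, hmem e⟩
      map_one' := by
        apply Subtype.ext
        simp
      map_mul' := fun e₁ e₂ => by
        apply Subtype.ext
        simp only [map_mul, Subgroup.coe_mul]
        group }
  refine ⟨φ, fun θ hθ e => ?_⟩
  have hm' : g * (e : G) ^ a * g⁻¹ ∈ H := by rw [← hαapp]; exact hmem e
  rw [hat_eq hy hθ (e : G) g hm']
  congr 1

theorem hat_isGeneralizedCharacter (hy : Hyp H a) {θ : H → ℂ}
    (hθ : IsGeneralizedCharacter H θ) : IsGeneralizedCharacter G (hat hy θ) := by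
  have hcf : IsClassFunction H θ := isClassFunction_of_isGeneralizedCharacter hθ
  apply brauer_characterization (hat_isClassFunction hy hcf)
  intro E p hp hE
  obtain ⟨φ, hφ⟩ := exists_hom_hat hy E p hp hE
  obtain ⟨χ, ψ, hχ, hψ, rfl⟩ := hθ
  refine ⟨χ ∘ φ, ψ ∘ φ, isCharacter_comp φ hχ, isCharacter_comp φ hψ, ?_⟩
  funext e
  rw [hφ _ hcf e]
  rfl

end Cfsg.Agent.Lib.H23.HallComplement
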