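import Cfsg.Agent.Lib.H23.HallComplementA
import Cfsg.Agent.Lib.L0.FrobTICoh
import Cfsg.Agent.Lib.H24.CharKer
import Cfsg.Agent.Lib.H18.FrobeniusThm

/-!
# Brauer–Suzuki Hall complement theorem, part B: the weight argument (helper23)
-/

set_option autoImplicit false

universe u

namespace Cfsg.Agent.Lib.H23.HallComplement

open Cfsg Cfsg.Agent.Lib.H23 Cfsg.Agent.Lib.L0 Cfsg.Agent.Lib.H8 Cfsg.Agent.Lib.H24
open Cfsg.Agent.Lib.H23.HallPow Cfsg.Agent.Lib.L0.FrobTI
open scoped ComplexConjugate

variable {G : Type u} [Group G] [Fintype G] {H : Subgroup G} [Fintype H] {a : ℕ}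

open Classical in
/-- number of `x` whose `π`-part is conjugate to `h` -/
noncomputable def NN (a : ℕ) (h : H) : ℕ :=
  (Finset.univ.filter fun x : G => IsConj (x ^ a) (h : G)).card

open Classical in
/-- number of elements of `H` that are `G`-conjugate to `h` -/
noncomputable def cc (h : H) : ℕ :=
  (Finset.univ.filter fun h' : H => IsConj (h' : G) (h : G)).card

theorem cc_pos (h : H) : 0 < cc h := by
  classical
  unfold cc
  exact Finset.card_pos.mpr ⟨h, Finset.mem_filter.mpr ⟨Finset.mem_univ _, IsConj.refl _⟩⟩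

theorem NN_pos (hy : Hyp H a) (h : H) : 0 < NN a h := by
  classical
  unfold NN
  refine Finset.card_pos.mpr ⟨(h : G), Finset.mem_filter.mpr ⟨Finset.mem_univ _, ?_⟩⟩
  have h2 : orderOf (h : G) ∣ Nat.card H := by
    rw [Subgroup.orderOf_coe]; exact orderOf_dvd_natCard h
  rw [pow_eq_self_of_modEq h2 hy.ha1]

theorem sum_hat (hy : Hyp H a) {θ : H → ℂ} (hθ : IsClassFunction H θ) :
    ∑ x : G, hat hy θ x = ∑ h : H, θ h * ((NN a h : ℂ) / (cc h : ℂ)) := by
  classical
  have key : ∀ x : G, hat hy θ x =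
      ∑ h : H, if IsConj (x ^ a) (h : G) then θ h / (cc h : ℂ) else 0 := by
    intro x
    obtain ⟨g, hg⟩ := exists_conj_mem hy x
    set S := Finset.univ.filter fun h : H => IsConj (x ^ a) (h : G) with hS
    have h0 : (⟨g * x ^ a * g⁻¹, hg⟩ : H) ∈ S :=
      Finset.mem_filter.mpr ⟨Finset.mem_univ _, isConj_iff.mpr ⟨g, rfl⟩⟩
    have hSpos : (S.card : ℂ) ≠ 0 := by
      exact_mod_cast (Finset.card_pos.mpr ⟨_, h0⟩).ne'
    rw [← Finset.sum_filter]
    have h1 : ∀ h ∈ S, θ h / (cc h : ℂ) = hat hy θ x / (S.card : ℂ) := by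
      intro h hh
      have hc : IsConj (x ^ a) (h : G) := (Finset.mem_filter.mp hh).2
      obtain ⟨c, hc'⟩ := isConj_iff.mp hc
      have hm : c * x ^ a * c⁻¹ ∈ H := by rw [hc']; exact h.2
      have h2 : hat hy θ x = θ h := by
        rw [hat_eq hy hθ x c hm]
        congr 1
        exact Subtype.ext hc'
      have h3 : cc h = S.card := by
        unfold cc
        congr 1
        ext h'
        simp only [Finset.mem_filter, Finset.mem_univ, true_and, hS]
        constructor
        · intro h4; exact hc.trans h4.symm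
        · intro h4; exact h4.symm.trans hc
      rw [h2, h3]
    rw [Finset.sum_congr rfl h1, Finset.sum_const, nsmul_eq_mul]
    field_simp
  simp only [key]
  rw [Finset.sum_comm]
  refine Finset.sum_congr rfl fun h _ => ?_
  rw [← Finset.sum_filter, Finset.sum_const, nsmul_eq_mul]
  unfold NN
  ring

/-- the weight function -/
noncomputable def ww (a : ℕ) (h : H) : ℚ :=
  ((Nat.card H : ℚ) * (NN a h : ℚ)) / ((Nat.card G : ℚ) * (cc h : ℚ))

theorem ww_pos (hy : Hyp H a) (h : H) : 0 < ww a h := by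
  unfold ww
  have h1 : (0 : ℚ) < Nat.card H := by exact_mod_cast Nat.card_pos
  have h2 : (0 : ℚ) < Nat.card G := by exact_mod_cast Nat.card_pos
  have h3 : (0 : ℚ) < NN a h := by exact_mod_cast NN_pos hy h
  have h4 : (0 : ℚ) < cc h := by exact_mod_cast cc_pos h
  positivity

theorem classInner_hat_one (hy : Hyp H a) {θ : H → ℂ} (hθ : IsClassFunction H θ) :
    classInner (hat hy θ) (fun _ : G => (1 : ℂ)) =
      (Nat.card H : ℂ)⁻¹ * ∑ h : H, θ h * ((ww a h : ℚ) : ℂ) := by
  unfold classInner
  simp only [map_one, mul_one]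
  rw [sum_hat hy hθ, Finset.mul_sum, Finset.mul_sum]
  refine Finset.sum_congr rfl fun h _ => ?_
  have h1 : (Nat.card H : ℂ) ≠ 0 := by exact_mod_cast (Nat.card_pos (α := H)).ne'
  have h2 : (Nat.card G : ℂ) ≠ 0 := by exact_mod_cast (Nat.card_pos (α := G)).ne'
  have h4 : (cc h : ℂ) ≠ 0 := by exact_mod_cast (cc_pos h).ne'
  unfold ww
  push_cast
  field_simp

/-- the weight function as a complex function -/
noncomputable def wC (a : ℕ) (h : H) : ℂ := ((ww (G := G) a h : ℚ) : ℂ)

theorem wC_isClassFunction : IsClassFunction H (wC (G := G) (H := H) a) := by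
  classical
  intro h k
  have hconj : ∀ y : G, IsConj y ((k * h * k⁻¹ : H) : G) ↔ IsConj y (h : G) := by
    intro y
    have h1 : IsConj (h : G) ((k * h * k⁻¹ : H) : G) :=
      isConj_iff.mpr ⟨(k : G), by simp⟩
    exact ⟨fun h2 => h2.trans h1.symm, fun h2 => h2.trans h1⟩
  have hN : NN (G := G) a (k * h * k⁻¹) = NN a h := by
    unfold NN
    congr 1
    ext x
    simp only [Finset.mem_filter, Finset.mem_univ, true_and]
    exact hconj _
  have hc : cc (G := G) (k * h * k⁻¹) = cc h := by
    unfold cc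
    congr 1
    ext x
    simp only [Finset.mem_filter, Finset.mem_univ, true_and]
    exact hconj _
  unfold wC ww
  rw [hN, hc]

theorem conj_wC (h : H) : conj (wC (G := G) a h) = wC a h := by
  unfold wC
  exact map_ratCast (starRingEnd ℂ) _

theorem classInner_wC (hy : Hyp H a) {ψ : H → ℂ} (hψ : IsCharacter H ψ) :
    classInner (wC (G := G) a) ψ =
      classInner (hat hy (fun h => conj (ψ h))) (fun _ : G => (1 : ℂ)) := by
  have hcf : IsClassFunction H (fun h => conj (ψ h)) := by
    intro h k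
    simp only
    rw [isClassFunction_of_isCharacter hψ h k]
  rw [classInner_hat_one hy hcf]
  unfold classInner
  congr 1
  refine Finset.sum_congr rfl fun h _ => ?_
  rw [mul_comm]; rfl

theorem classInner_wC_int (hy : Hyp H a) (ψ : IrrCharacter H) :
    ∃ k : ℤ, classInner (wC (G := G) a) (ψ : H → ℂ) = k := by
  have hψ : IsCharacter H (ψ : H → ℂ) := isCharacter_of_irr ψ.2
  rw [classInner_wC hy hψ]
  have h1 : IsGeneralizedCharacter G (hat hy (fun h => conj ((ψ : H → ℂ) h))) :=
    hat_isGeneralizedCharacter hy (isGeneralizedCharacter_of_isCharacter (isCharacter_conj hψ))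
  exact genChar_classInner_irr_int h1 Cfsg.Agent.Lib.H24.isIrrCharacter_one

theorem wC_isGeneralizedCharacter (hy : Hyp H a) :
    IsGeneralizedCharacter H (wC (G := G) a) := by
  classical
  haveI : Fintype (IrrCharacter H) := Fintype.ofFinite _
  choose k hk using classInner_wC_int (G := G) hy
  have h1 := classFunction_expansion (wC (G := G) (H := H) a) wC_isClassFunction
  rw [h1]
  apply isGeneralizedCharacter_sum
  intro ψ _
  rw [hk ψ, Int.cast_smul_eq_zsmul]
  exact isGeneralizedCharacter_zsmul (isGeneralizedCharacter_of_isCharacter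
    (isCharacter_of_irr ψ.2)) _

theorem one_le_ww (hy : Hyp H a) (h : H) : 1 ≤ ww (G := G) a h := by
  have h1 : IsIntegral ℤ (wC (G := G) a h) :=
    isGeneralizedCharacter_isIntegral (wC_isGeneralizedCharacter hy) h
  obtain ⟨k, hk⟩ := int_of_isIntegral_of_rat h1 (ww a h) rfl
  have h2 : ww (G := G) a h = (k : ℚ) := by
    unfold wC at hk
    have : ((ww (G := G) a h : ℚ) : ℂ) = ((k : ℚ) : ℂ) := by rw [hk]; simp
    exact_mod_cast this
  have h3 := ww_pos hy h
  rw [h2] at h3 ⊢
  have h4 : 0 < k := by exact_mod_cast h3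
  exact_mod_cast h4

theorem hat_one (hy : Hyp H a) : hat hy (fun _ : H => (1 : ℂ)) = fun _ : G => (1 : ℂ) := rfl

theorem sum_ww (hy : Hyp H a) : ∑ h : H, ww (G := G) a h = Nat.card H := by
  have hone : IsCharacter H (fun _ : H => (1 : ℂ)) :=
    isCharacter_of_irr Cfsg.Agent.Lib.H24.isIrrCharacter_one
  have h1 := classInner_wC (G := G) hy hone
  have h2 : (fun h : H => conj ((fun _ : H => (1 : ℂ)) h)) = fun _ : H => (1 : ℂ) := by
    funext h; simp
  rw [h2, hat_one, irr_classInner_self Cfsg.Agent.Lib.H24.isIrrCharacter_one] at h1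
  unfold classInner at h1
  simp only [map_one, mul_one] at h1
  have h3 : (Nat.card H : ℂ) ≠ 0 := by exact_mod_cast (Nat.card_pos (α := H)).ne'
  have h4 : ∑ h : H, wC (G := G) a h = (Nat.card H : ℂ) := by
    field_simp at h1
    exact h1
  unfold wC at h4
  have h5 : ((∑ h : H, ww (G := G) a h : ℚ) : ℂ) = ((Nat.card H : ℚ) : ℂ) := by
    push_cast; exact h4
  exact_mod_cast h5

theorem ww_eq_one (hy : Hyp H a) (h : H) : ww (G := G) a h = 1 := by
  classical
  have h1 : ∑ h : H, (ww (G := G) a h - 1) = 0 := by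
    rw [Finset.sum_sub_distrib, sum_ww hy, Finset.sum_const, Finset.card_univ,
      ← Nat.card_eq_fintype_card]
    simp
  have h2 := (Finset.sum_eq_zero_iff_of_nonneg
    (fun h _ => sub_nonneg.mpr (one_le_ww (G := G) hy h))).mp h1 h (Finset.mem_univ _)
  linarith

end Cfsg.Agent.Lib.H23.HallComplement
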