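import Cfsg.Agent.Lib.H23.HallComplementB

/-!
# Brauer–Suzuki Hall complement theorem, part C: the normal complement (helper23)
-/

set_option autoImplicit false

universe u

namespace Cfsg.Agent.Lib.H23.HallComplement

open Cfsg Cfsg.Agent.Lib.H23 Cfsg.Agent.Lib.L0 Cfsg.Agent.Lib.H8 Cfsg.Agent.Lib.H24
open Cfsg.Agent.Lib.H23.HallPow Cfsg.Agent.Lib.L0.FrobTI
open scoped ComplexConjugate

variable {G : Type u} [Group G] [Fintype G] {H : Subgroup G} [Fintype H] {a : ℕ}

theorem classInner_hat_hat (hy : Hyp H a) {θ φ : H → ℂ} (hθ : IsClassFunction H θ)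
    (hφ : IsClassFunction H φ) :
    classInner (hat hy θ) (hat hy φ) = classInner θ φ := by
  have hcf : IsClassFunction H (fun h => θ h * conj (φ h)) := by
    intro h k
    simp only
    rw [hθ h k, hφ h k]
  have h1 : classInner (hat hy θ) (hat hy φ) =
      classInner (hat hy (fun h => θ h * conj (φ h))) (fun _ : G => (1 : ℂ)) := by
    unfold classInner
    congr 1
    refine Finset.sum_congr rfl fun x _ => ?_
    rw [map_one, mul_one]
    rfl
  rw [h1, classInner_hat_one hy hcf]
  unfold classInner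
  congr 1
  refine Finset.sum_congr rfl fun h _ => ?_
  rw [ww_eq_one hy h]
  simp

theorem hat_irr (hy : Hyp H a) (ψ : IrrCharacter H) : IsIrrCharacter G (hat hy (ψ : H → ℂ)) := by
  have hψc : IsCharacter H (ψ : H → ℂ) := isCharacter_of_irr ψ.2
  have hcf : IsClassFunction H (ψ : H → ℂ) := isClassFunction_of_isCharacter hψc
  have hgen : IsGeneralizedCharacter G (hat hy (ψ : H → ℂ)) :=
    hat_isGeneralizedCharacter hy (isGeneralizedCharacter_of_isCharacter hψc)
  have hnorm : classInner (hat hy (ψ : H → ℂ)) (hat hy (ψ : H → ℂ)) = 1 := by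
    rw [classInner_hat_hat hy hcf hcf, irr_classInner_self ψ.2]
  have h1 : hat hy (ψ : H → ℂ) 1 = (ψ : H → ℂ) 1 := hat_of_mem hy hcf 1
  rcases genChar_norm_one hgen hnorm with h | h
  · exact h
  · exfalso
    have h2 := apply_one_eq_charDegree _ h
    have h3 := apply_one_eq_charDegree _ ψ.2
    have h4 := charDegree_pos _ h
    have h5 := charDegree_pos _ ψ.2
    rw [Pi.neg_apply, h1, h3] at h2
    have h6 : ((charDegree (ψ : H → ℂ) + charDegree (-hat hy (ψ : H → ℂ)) : ℕ) : ℂ) = 0 := by
      push_cast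
      linear_combination -h2
    have h7 : charDegree (ψ : H → ℂ) + charDegree (-hat hy (ψ : H → ℂ)) = 0 := by
      exact_mod_cast h6
    omega

/-- the normal complement -/
noncomputable def compl (hy : Hyp H a) : Subgroup G :=
  ⨅ ψ : IrrCharacter H, charKer (hat hy (ψ : H → ℂ)) (isCharacter_of_irr (hat_irr hy ψ))

instance compl_normal (hy : Hyp H a) : (compl hy).Normal := by
  unfold compl
  exact Subgroup.normal_iInf_normal fun ψ => inferInstance

theorem mem_compl (hy : Hyp H a) (x : G) : x ∈ compl hy ↔ x ^ a = 1 := by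
  unfold compl
  rw [Subgroup.mem_iInf]
  obtain ⟨g, hg⟩ := exists_conj_mem hy x
  have hval : ∀ ψ : IrrCharacter H, hat hy (ψ : H → ℂ) x = (ψ : H → ℂ) ⟨g * x ^ a * g⁻¹, hg⟩ :=
    fun ψ => hat_eq hy (isClassFunction_of_isCharacter (isCharacter_of_irr ψ.2)) x g hg
  have hone : ∀ ψ : IrrCharacter H, hat hy (ψ : H → ℂ) 1 = (ψ : H → ℂ) 1 :=
    fun ψ => hat_of_mem hy (isClassFunction_of_isCharacter (isCharacter_of_irr ψ.2)) 1
  constructor
  · intro h
    have h1 : (⟨g * x ^ a * g⁻¹, hg⟩ : H) = 1 := by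
      apply Cfsg.Agent.Lib.H18.eq_one_of_forall_irr_eq
      intro ψ
      have := h ψ
      rw [mem_charKer, hval, hone] at this
      exact this
    have h2 : g * x ^ a * g⁻¹ = 1 := congrArg Subtype.val h1
    have h3 : x ^ a = g⁻¹ * (g * x ^ a * g⁻¹) * g := by group
    rw [h3, h2]; group
  · intro h ψ
    rw [mem_charKer, hval, hone]
    have h1 : (⟨g * x ^ a * g⁻¹, hg⟩ : H) = 1 := Subtype.ext (by simp [h])
    rw [h1]

theorem compl_inf (hy : Hyp H a) : compl hy ⊓ H = ⊥ := by
  rw [eq_bot_iff]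
  intro x hx
  rw [Subgroup.mem_inf] at hx
  rw [Subgroup.mem_bot]
  have h1 := (mem_compl hy x).mp hx.1
  have h2 : orderOf x ∣ Nat.card H := by
    have := orderOf_dvd_natCard (⟨x, hx.2⟩ : H)
    rwa [← Subgroup.orderOf_coe] at this
  rw [pow_eq_self_of_modEq h2 hy.ha1] at h1
  exact h1

theorem card_compl (hy : Hyp H a) : Nat.card (compl hy) * Nat.card H = Nat.card G := by
  classical
  have h1 := ww_eq_one hy (1 : H)
  have hc : cc (G := G) (1 : H) = 1 := by
    unfold cc
    rw [Finset.card_eq_one]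
    refine ⟨1, ?_⟩
    ext h'
    simp only [Finset.mem_filter, Finset.mem_univ, true_and, Finset.mem_singleton,
      Subgroup.coe_one, isConj_one_left]
    exact ⟨fun h => Subtype.ext h, fun h => by rw [h]; rfl⟩
  have hN : NN (G := G) a (1 : H) = Nat.card (compl hy) := by
    unfold NN
    rw [Nat.card_eq_fintype_card, Fintype.card_subtype]
    congr 1
    ext x
    simp only [Finset.mem_filter, Finset.mem_univ, true_and, Subgroup.coe_one, isConj_one_left]
    exact (mem_compl hy x).symm
  unfold ww at h1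
  rw [hc, hN] at h1
  have h2 : (Nat.card G : ℚ) ≠ 0 := by exact_mod_cast (Nat.card_pos (α := G)).ne'
  rw [Nat.cast_one, mul_one, div_eq_one_iff_eq h2] at h1
  have h3 : ((Nat.card (compl hy) * Nat.card H : ℕ) : ℚ) = (Nat.card G : ℚ) := by
    push_cast; linarith
  exact_mod_cast h3

theorem compl_sup (hy : Hyp H a) : compl hy ⊔ H = ⊤ := by
  have h1 : (compl hy).IsComplement' H :=
    Subgroup.isComplement'_of_card_mul_and_disjoint (card_compl hy)
      (disjoint_iff.mpr (compl_inf hy))
  exact h1.sup_eq_top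

end Cfsg.Agent.Lib.H23.HallComplement
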