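import Mathlib

/-!
# Abelian Sylow `2`-subgroups with at most four elements of order at most two: local analysis
(helper23)

* `mem_centralizer_of_fix_invol`: an element normalizing an abelian `2`-subgroup `P`, of odd order
  modulo `C(P)`, and centralizing all elements of order at most two, centralizes `P`.
* `mem_centralizer_of_fix_one`: the same when `P` has at most four elements of order at most two
  and only one involution is known to be centralized.
* `relIndex_eq_one_or_three`, `frob_of_fourInv`.
-/

set_option autoImplicit false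

namespace Cfsg.Agent.Lib.H23.Homo

variable {G : Type*} [Group G]

/-- An element normalizing an abelian `2`-subgroup `P`, of odd order modulo `C(P)`, and
centralizing all the elements of order at most two of `P`, centralizes `P`. -/
theorem mem_centralizer_of_fix_invol (P : Subgroup G) (hP : IsPGroup 2 P)
    (hcomm : ∀ a ∈ P, ∀ b ∈ P, a * b = b * a) (n : G)
    (hn : n ∈ Subgroup.normalizer (P : Set G)) (ℓ : ℕ) (hℓ : Odd ℓ)
    (hnℓ : n ^ ℓ ∈ Subgroup.centralizer (P : Set G))
    (hfix : ∀ x ∈ P, x * x = 1 → n * x = x * n) :
    n ∈ Subgroup.centralizer (P : Set G) := by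
  have key : ∀ k : ℕ, ∀ y ∈ P, y ^ (2 ^ k) = 1 → n * y = y * n := by
    intro k
    induction k with
    | zero =>
      intro y _ h
      rw [pow_zero, pow_one] at h
      rw [h, mul_one, one_mul]
    | succ k ih =>
      intro y hy h
      have hy2 : n * (y * y) = (y * y) * n := by
        apply ih (y * y) (P.mul_mem hy hy)
        rw [← pow_two, ← pow_mul, ← pow_succ']
        exact h
      obtain ⟨z, hz⟩ : ∃ z, z = n * y * n⁻¹ := ⟨_, rfl⟩
      have hzP : z ∈ P := by
        rw [hz]
        exact (Subgroup.mem_normalizer_iff.1 hn y).1 hy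
      obtain ⟨c, hc⟩ : ∃ c, c = z * y⁻¹ := ⟨_, rfl⟩
      have hcP : c ∈ P := by
        rw [hc]
        exact P.mul_mem hzP (P.inv_mem hy)
      have hcc : c * c = 1 := by
        have h1 : z * z = y * y := by
          rw [hz]
          calc n * y * n⁻¹ * (n * y * n⁻¹) = n * (y * y) * n⁻¹ := by group
            _ = y * y := by rw [hy2]; group
        have h2 : y⁻¹ * z = z * y⁻¹ := hcomm _ (P.inv_mem hy) _ hzP
        calc c * c = z * (y⁻¹ * z) * y⁻¹ := by rw [hc]; group
          _ = z * z * y⁻¹ * y⁻¹ := by rw [h2]; group
          _ = 1 := by rw [h1]; group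
      have hnc : n * c = c * n := hfix c hcP hcc
      have hny : n * y = c * y * n := by
        rw [hc, hz]; group
      have hpow : ∀ j : ℕ, n ^ j * y = c ^ j * y * n ^ j := by
        intro j
        induction j with
        | zero => simp
        | succ j ihj =>
          have hncj : n * c ^ j = c ^ j * n := (Commute.pow_right (show Commute n c from hnc) j)
          calc n ^ (j + 1) * y = n * (n ^ j * y) := by rw [pow_succ']; group
            _ = n * (c ^ j * y * n ^ j) := by rw [ihj]
            _ = (n * c ^ j) * y * n ^ j := by group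
            _ = c ^ j * (n * y) * n ^ j := by rw [hncj]; group
            _ = c ^ j * (c * y * n) * n ^ j := by rw [hny]
            _ = c ^ (j + 1) * y * n ^ (j + 1) := by rw [pow_succ, pow_succ]; group
      have h3 := hpow ℓ
      have h4 : y * n ^ ℓ = n ^ ℓ * y := (Subgroup.mem_centralizer_iff.1 hnℓ) y hy
      have h5 : c ^ ℓ = 1 := by
        have h6 : c ^ ℓ * (y * n ^ ℓ) = 1 * (y * n ^ ℓ) := by
          rw [one_mul, ← mul_assoc, ← h3, h4]
        exact mul_right_cancel h6
      obtain ⟨r, hr⟩ := hℓ
      have h6 : c = 1 := by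
        have h7 : c ^ ℓ = c := by
          rw [hr, pow_succ, pow_mul, pow_two, hcc, one_pow, one_mul]
        rw [← h7]; exact h5
      rw [hny, h6, one_mul]
  rw [Subgroup.mem_centralizer_iff]
  intro y hy
  obtain ⟨k, hk⟩ := (IsPGroup.iff_orderOf.1 hP) ⟨y, hy⟩
  rw [Subgroup.orderOf_mk] at hk
  have h1 : y ^ 2 ^ k = 1 := by rw [← hk]; exact pow_orderOf_eq_one y
  exact (key k y hy h1).symm

/-- In an abelian `2`-subgroup with at most four elements of order at most two, an element of
the normalizer, of odd order modulo the centralizer, centralizing one involution, centralizes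
everything. -/
theorem mem_centralizer_of_fix_one (P : Subgroup G) (hP : IsPGroup 2 P)
    (hcomm : ∀ a ∈ P, ∀ b ∈ P, a * b = b * a)
    (F : Finset G) (hF : F.card ≤ 4) (hFP : ∀ x ∈ P, x * x = 1 → x ∈ F) (n : G)
    (hn : n ∈ Subgroup.normalizer (P : Set G)) (ℓ : ℕ) (hℓ : Odd ℓ)
    (hnℓ : n ^ ℓ ∈ Subgroup.centralizer (P : Set G))
    (t : G) (ht : t ∈ P) (ht1 : t ≠ 1) (htt : t * t = 1) (hnt : n * t = t * n) :
    n ∈ Subgroup.centralizer (P : Set G) := by
  classical
  apply mem_centralizer_of_fix_invol P hP hcomm n hn ℓ hℓ hnℓ
  intro s hs hss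
  by_cases hs1 : s = 1
  · rw [hs1, mul_one, one_mul]
  by_cases hst : s = t
  · rw [hst]; exact hnt
  obtain ⟨z, hz⟩ : ∃ z, z = n * s * n⁻¹ := ⟨_, rfl⟩
  have hzP : z ∈ P := by
    rw [hz]
    exact (Subgroup.mem_normalizer_iff.1 hn s).1 hs
  have hzz : z * z = 1 := by
    rw [hz]
    calc n * s * n⁻¹ * (n * s * n⁻¹) = n * (s * s) * n⁻¹ := by group
      _ = 1 := by rw [hss]; group
  have htsP : t * s ∈ P := P.mul_mem ht hs
  have hts : t * s = s * t := hcomm t ht s hs
  have htsts : t * s * (t * s) = 1 := by
    calc t * s * (t * s) = t * (s * t) * s := by group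
      _ = t * (t * s) * s := by rw [hts]
      _ = (t * t) * (s * s) := by group
      _ = 1 := by rw [htt, hss, one_mul]
  have hE : ({1, t, s, t * s} : Finset G) = F := by
    apply Finset.eq_of_subset_of_card_le
    · intro x hx
      simp only [Finset.mem_insert, Finset.mem_singleton] at hx
      rcases hx with rfl | rfl | rfl | rfl
      · exact hFP 1 P.one_mem (one_mul 1)
      · exact hFP _ ht htt
      · exact hFP _ hs hss
      · exact hFP _ htsP htsts
    · have h1 : (t * s) ∉ (∅ : Finset G) := Finset.notMem_empty _
      have h2 : s ∉ ({t * s} : Finset G) := by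
        rw [Finset.mem_singleton]
        intro h
        apply ht1
        have : t * s = 1 * s := by rw [one_mul]; exact h.symm
        exact mul_right_cancel this
      have h3 : t ∉ ({s, t * s} : Finset G) := by
        simp only [Finset.mem_insert, Finset.mem_singleton, not_or]
        refine ⟨fun h => hst h.symm, fun h => hs1 ?_⟩
        have : t * s = t * 1 := by rw [mul_one]; exact h.symm
        exact mul_left_cancel this
      have h4 : (1 : G) ∉ ({t, s, t * s} : Finset G) := by
        simp only [Finset.mem_insert, Finset.mem_singleton, not_or]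
        refine ⟨fun h => ht1 h.symm, fun h => hs1 h.symm, fun h => hst ?_⟩
        have h5 : t * s = t * t := by rw [htt]; exact h.symm
        exact mul_left_cancel h5
      rw [Finset.card_insert_of_notMem h4, Finset.card_insert_of_notMem h3,
        Finset.card_insert_of_notMem h2, Finset.card_singleton]
      exact hF
  have hzF : z ∈ ({1, t, s, t * s} : Finset G) := by
    rw [hE]; exact hFP z hzP hzz
  simp only [Finset.mem_insert, Finset.mem_singleton] at hzF
  rcases hzF with h | h | h | h
  · exfalso
    apply hs1
    rw [hz] at h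
    exact conj_eq_one_iff.1 h
  · exfalso
    apply hst
    have h1 : n * s * n⁻¹ = n * t * n⁻¹ := by
      rw [← hz, h, hnt]; group
    exact mul_left_cancel (mul_right_cancel h1)
  · have h1 : n * s * n⁻¹ = s := by rw [← hz, h]
    calc n * s = (n * s * n⁻¹) * n := by group
      _ = s * n := by rw [h1]
  · -- `n s n⁻¹ = t s`
    have h1 : n * s * n⁻¹ = t * s := by rw [← hz, h]
    have hns : n * s = t * s * n := by
      calc n * s = (n * s * n⁻¹) * n := by group
        _ = t * s * n := by rw [h1]
    have hn2 : Commute (n * n) s := by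
      show n * n * s = s * (n * n)
      calc n * n * s = n * (n * s) := by group
        _ = n * (t * s * n) := by rw [hns]
        _ = (n * t) * s * n := by group
        _ = t * (n * s) * n := by rw [hnt]; group
        _ = t * (t * s * n) * n := by rw [hns]
        _ = (t * t) * s * (n * n) := by group
        _ = s * (n * n) := by rw [htt, one_mul]
    have hnl : Commute (n ^ ℓ) s := ((Subgroup.mem_centralizer_iff.1 hnℓ) s hs).symm
    obtain ⟨r, hr⟩ := hℓ
    have h3 : n = n ^ ℓ * ((n * n) ^ r)⁻¹ := by
      rw [hr, ← pow_two, ← pow_mul, pow_succ]; group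
    have h2 : Commute n s := by
      rw [h3]
      exact Commute.mul_left hnl (Commute.inv_left (Commute.pow_left hn2 r))
    exact h2

end Cfsg.Agent.Lib.H23.Homo
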