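import Cfsg.Agent.Lib.H23.HomoA

/-!
# Abelian Sylow `2`-subgroups with at most four elements of order at most two: `N(P)/C(P)`
(helper23)
-/

set_option autoImplicit false

namespace Cfsg.Agent.Lib.H23.Homo

variable {G : Type*} [Group G]

theorem pow_relIndex_mem_centralizer (P : Subgroup G) {n : G}
    (hn : n ∈ Subgroup.normalizer (P : Set G)) :
    n ^ (Subgroup.centralizer (P : Set G)).relIndex (Subgroup.normalizer (P : Set G)) ∈
      Subgroup.centralizer (P : Set G) := by
  have h := Subgroup.pow_index_mem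
    ((Subgroup.centralizer (P : Set G)).subgroupOf (Subgroup.normalizer (P : Set G))) ⟨n, hn⟩
  rw [Subgroup.mem_subgroupOf] at h
  exact h

variable [Finite G]

theorem odd_relIndex (P : Sylow 2 G) (hcomm : ∀ a ∈ P, ∀ b ∈ P, a * b = b * a) :
    Odd ((Subgroup.centralizer ((P : Subgroup G) : Set G)).relIndex
      (Subgroup.normalizer ((P : Subgroup G) : Set G))) := by
  have hPC : (P : Subgroup G) ≤ Subgroup.centralizer ((P : Subgroup G) : Set G) := by
    intro a ha
    rw [Subgroup.mem_centralizer_iff]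
    intro b hb
    exact hcomm b hb a ha
  have hCN := Subgroup.centralizer_le_normalizer ((P : Subgroup G) : Set G)
  have h1 := Subgroup.relIndex_mul_relIndex _ _ _ hPC hCN
  have h2 := Subgroup.relIndex_mul_index (hPC.trans hCN)
  haveI : Fact (Nat.Prime 2) := ⟨Nat.prime_two⟩
  have h3 : ¬ 2 ∣ (P : Subgroup G).index := P.not_dvd_index
  rw [← Nat.not_even_iff_odd, even_iff_two_dvd]
  intro h4
  apply h3
  rw [← h2, ← h1]
  exact Dvd.dvd.mul_right (Dvd.dvd.mul_left h4 _) _

/-- With at most four elements of order at most two, an element of the normalizer that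
centralizes an involution of `P` centralizes `P`. -/
theorem mem_centralizer_of_commute (P : Sylow 2 G) (hcomm : ∀ a ∈ P, ∀ b ∈ P, a * b = b * a)
    (F : Finset G) (hF : F.card ≤ 4) (hFP : ∀ x ∈ (P : Subgroup G), x * x = 1 → x ∈ F) (n : G)
    (hn : n ∈ Subgroup.normalizer ((P : Subgroup G) : Set G))
    (t : G) (ht : t ∈ (P : Subgroup G)) (ht1 : t ≠ 1) (htt : t * t = 1) (hnt : n * t = t * n) :
    n ∈ Subgroup.centralizer ((P : Subgroup G) : Set G) :=
  mem_centralizer_of_fix_one (P : Subgroup G) P.2 hcomm F hF hFP n hn _ (odd_relIndex P hcomm)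
    (pow_relIndex_mem_centralizer (P : Subgroup G) hn) t ht ht1 htt hnt

/-- The Frobenius-type condition. -/
theorem frob_of_fourInv (P : Sylow 2 G) (hcomm : ∀ a ∈ P, ∀ b ∈ P, a * b = b * a)
    (F : Finset G) (hF : F.card ≤ 4) (hFP : ∀ x ∈ (P : Subgroup G), x * x = 1 → x ∈ F)
    (y : G) (hy : y ∈ (P : Subgroup G)) (hy1 : y ≠ 1) :
    Subgroup.centralizer ({y} : Set G) ⊓ Subgroup.normalizer ((P : Subgroup G) : Set G) =
      Subgroup.centralizer ((P : Subgroup G) : Set G) := by
  apply le_antisymm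
  · rintro n ⟨hny, hn⟩
    have hny' : y * n = n * y := (Subgroup.mem_centralizer_iff.1 hny) y (Set.mem_singleton y)
    obtain ⟨k, hk⟩ := (IsPGroup.iff_orderOf.1 P.2) ⟨y, hy⟩
    rw [Subgroup.orderOf_mk] at hk
    rcases k with _ | k
    · exfalso
      rw [pow_zero, orderOf_eq_one_iff] at hk
      exact hy1 hk
    have htt : y ^ 2 ^ k * y ^ 2 ^ k = 1 := by
      rw [← pow_add, ← two_mul, ← pow_succ', ← hk]
      exact pow_orderOf_eq_one y
    have ht1 : y ^ 2 ^ k ≠ 1 := by
      intro h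
      have h1 := orderOf_dvd_of_pow_eq_one h
      rw [hk] at h1
      have h2 := Nat.le_of_dvd (pow_pos (by norm_num) k) h1
      have h3 : 2 ^ k < 2 ^ (k + 1) := Nat.pow_lt_pow_right (by norm_num) (Nat.lt_succ_self k)
      omega
    have hnt : n * y ^ 2 ^ k = y ^ 2 ^ k * n :=
      (Commute.pow_right (show Commute n y from hny'.symm) _)
    exact mem_centralizer_of_commute P hcomm F hF hFP n hn _
      (Subgroup.pow_mem _ hy _) ht1 htt hnt
  · intro n hn
    refine ⟨?_, Subgroup.centralizer_le_normalizer _ hn⟩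
    show n ∈ Subgroup.centralizer ({y} : Set G)
    rw [Subgroup.mem_centralizer_iff]
    intro z hz
    rw [Set.mem_singleton_iff] at hz
    rw [hz]
    exact (Subgroup.mem_centralizer_iff.1 hn) y hy

/-- `|N(P) : C(P)|` is `1` or `3`. -/
theorem relIndex_eq_one_or_three (P : Sylow 2 G) (hcomm : ∀ a ∈ P, ∀ b ∈ P, a * b = b * a)
    (F : Finset G) (hF : F.card ≤ 4) (hFP : ∀ x ∈ (P : Subgroup G), x * x = 1 → x ∈ F)
    (t : G) (ht : t ∈ (P : Subgroup G)) (ht1 : t ≠ 1) (htt : t * t = 1) :
    (Subgroup.centralizer ((P : Subgroup G) : Set G)).relIndex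
      (Subgroup.normalizer ((P : Subgroup G) : Set G)) = 1 ∨
    (Subgroup.centralizer ((P : Subgroup G) : Set G)).relIndex
      (Subgroup.normalizer ((P : Subgroup G) : Set G)) = 3 := by
  classical
  obtain ⟨N, hN⟩ : ∃ N, N = Subgroup.normalizer ((P : Subgroup G) : Set G) := ⟨_, rfl⟩
  obtain ⟨C, hC⟩ : ∃ C, C = Subgroup.centralizer ((P : Subgroup G) : Set G) := ⟨_, rfl⟩
  rw [← hN, ← hC]
  have hodd : Odd (C.relIndex N) := by rw [hN, hC]; exact odd_relIndex P hcomm
  have h1F : (1 : G) ∈ F := hFP 1 (Subgroup.one_mem _) (one_mul 1)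
  have hcard : (F.erase 1).card ≤ 3 := by
    rw [Finset.card_erase_of_mem h1F]; omega
  -- the map
  have hconj : ∀ n : ↥N, (n : G) * t * (n : G)⁻¹ ∈ F.erase 1 := by
    intro n
    rw [Finset.mem_erase]
    refine ⟨fun h => ht1 (conj_eq_one_iff.1 h), hFP _ ?_ ?_⟩
    · have hn : (n : G) ∈ Subgroup.normalizer ((P : Subgroup G) : Set G) := hN ▸ n.2
      exact (Subgroup.mem_normalizer_iff.1 hn t).1 ht
    · calc (n : G) * t * (n : G)⁻¹ * ((n : G) * t * (n : G)⁻¹)
          = (n : G) * (t * t) * (n : G)⁻¹ := by group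
        _ = 1 := by rw [htt]; group
  have hle : C.relIndex N ≤ 3 := by
    refine le_trans ?_ hcard
    rw [Subgroup.relIndex, Subgroup.index, ← Nat.card_eq_finsetCard]
    let f : ↥N ⧸ C.subgroupOf N → ↥(F.erase 1) := fun q =>
      Quotient.liftOn' q (fun n => (⟨(n : G) * t * (n : G)⁻¹, hconj n⟩ : ↥(F.erase 1)))
        (by
          intro a b hab
          rw [QuotientGroup.leftRel_apply, Subgroup.mem_subgroupOf, hC,
            Subgroup.mem_centralizer_iff] at hab
          have h1 := hab t ht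
          apply Subtype.ext
          show (a : G) * t * (a : G)⁻¹ = (b : G) * t * (b : G)⁻¹
          have h2 : ((a⁻¹ * b : ↥N) : G) = (a : G)⁻¹ * (b : G) := by
            simp
          rw [h2] at h1
          calc (a : G) * t * (a : G)⁻¹ = (a : G) * (t * ((a : G)⁻¹ * (b : G))) * (b : G)⁻¹ := by
                group
            _ = (b : G) * t * (b : G)⁻¹ := by rw [h1]; group)
    apply Nat.card_le_card_of_injective f
    intro q₁ q₂
    refine Quotient.inductionOn₂' q₁ q₂ (fun a b hab => ?_)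
    have h1 : (a : G) * t * (a : G)⁻¹ = (b : G) * t * (b : G)⁻¹ := congrArg Subtype.val hab
    apply Quotient.sound'
    rw [QuotientGroup.leftRel_apply, Subgroup.mem_subgroupOf, hC]
    have h2 : ((a⁻¹ * b : ↥N) : G) = (a : G)⁻¹ * (b : G) := by
      simp
    rw [h2]
    apply mem_centralizer_of_commute P hcomm F hF hFP _ _ t ht ht1 htt
    · calc (a : G)⁻¹ * (b : G) * t = (a : G)⁻¹ * ((b : G) * t * (b : G)⁻¹) * (b : G) := by group
        _ = (a : G)⁻¹ * ((a : G) * t * (a : G)⁻¹) * (b : G) := by rw [h1]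
        _ = t * ((a : G)⁻¹ * (b : G)) := by group
    · rw [← h2, ← hN]
      exact (a⁻¹ * b).2
  have hpos : 0 < C.relIndex N := by
    rw [Subgroup.relIndex]
    exact Nat.pos_of_ne_zero Subgroup.index_ne_zero_of_finite
  obtain ⟨r, hr⟩ := hodd
  omega

end Cfsg.Agent.Lib.H23.Homo
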