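import Cfsg.Agent.Lib.H23.AbSylR
import Cfsg.Agent.Lib.H23.HomoB
import Cfsg.Agent.Lib.L0.PRegCongP

/-!
# Abelian Sylow `2`-subgroups of order divisible by `16` with `|N(P):C(P)| = 3`:
no involution generates the group as a normal subgroup (helper23)
-/

set_option autoImplicit false

namespace Cfsg.Agent.Lib.H23.Homo

open Cfsg Cfsg.Agent.Lib.H23 Cfsg.Agent.Lib.H24 Cfsg.Agent.Lib.L0
open scoped ComplexConjugate

variable {G : Type*} [Group G] [Finite G]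

/-- A character constant `= a` on `P \ {1}` has degree `≡ a (mod |P|)`. -/
theorem card_dvd_degree_sub {χ : G → ℂ} (hχ : IsCharacter G χ) (P : Subgroup G) (a : ℤ)
    (x : ℕ) (hx : χ 1 = x) (hv : ∀ y ∈ P, y ≠ 1 → χ y = a) :
    (Nat.card ↥P : ℤ) ∣ (x : ℤ) - a := by
  classical
  haveI : Fintype ↥P := Fintype.ofFinite _
  have hres : IsCharacter ↥P (fun y : ↥P => χ y) := Cfsg.Agent.Lib.L0.isCharacter_restrict P hχ
  obtain ⟨n, hn⟩ := Cfsg.Agent.Lib.L0.classInner_char_irr_nat hres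
    (Cfsg.Agent.Lib.L0.isIrrCharacter_of_hom (1 : ↥P →* ℂˣ))
  rw [classInner] at hn
  have hP0 : (Nat.card ↥P : ℂ) ≠ 0 := Nat.cast_ne_zero.2 Nat.card_pos.ne'
  have hsum : ∑ y : ↥P, χ (y : G) * conj ((((1 : ↥P →* ℂˣ) y : ℂˣ)) : ℂ) =
      (x : ℂ) + ((Nat.card ↥P : ℂ) - 1) * (a : ℂ) := by
    rw [← Finset.add_sum_erase Finset.univ _ (Finset.mem_univ (1 : ↥P))]
    have h1 : ∀ y ∈ Finset.univ.erase (1 : ↥P),
        χ (y : G) * conj ((((1 : ↥P →* ℂˣ) y : ℂˣ)) : ℂ) = (a : ℂ) := by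
      intro y hy
      have hy1 : (y : G) ≠ 1 := fun h => (Finset.mem_erase.1 hy).1 (Subtype.ext h)
      rw [hv y y.2 hy1]
      simp
    rw [Finset.sum_congr rfl h1, Finset.sum_const, Finset.card_erase_of_mem (Finset.mem_univ _),
      Finset.card_univ, ← Nat.card_eq_fintype_card, nsmul_eq_mul,
      Nat.cast_sub Nat.card_pos]
    simp [hx]
  rw [hsum] at hn
  refine ⟨(n : ℤ) - a, ?_⟩
  have h2 : ((x : ℤ) - a : ℂ) = ((Nat.card ↥P : ℤ) : ℂ) * (((n : ℤ) - a : ℤ) : ℂ) := by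
    push_cast
    field_simp at hn
    linear_combination hn
  exact_mod_cast h2

theorem sq_ne_five_zmod8 : ∀ r : ZMod 8, r * r ≠ 5 := by decide

/-- Arithmetic: the degree relations of the principal block are incompatible with
`f * x₂ * x₃` being a square when `8 ∣ |P|`. -/
theorem arith_contra (q : ℕ) (hq : 8 ∣ q) (a₂ a₃ δ : ℤ) (x₂ x₃ f : ℕ)
    (h₂ : (q : ℤ) ∣ (x₂ : ℤ) - a₂) (h₃ : (q : ℤ) ∣ (x₃ : ℤ) - a₃)
    (hrel : -δ * (f : ℤ) + 1 + a₂ * x₂ + a₃ * x₃ = 0)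
    (hpat : (a₂ = -1 ∧ a₃ = -1 ∧ δ = -1) ∨ (a₂ = -1 ∧ a₃ = 1 ∧ δ = 1) ∨
      (a₂ = 1 ∧ a₃ = -1 ∧ δ = 1))
    (hsq : IsSquare (f * (x₂ * x₃))) : False := by
  obtain ⟨r, hr⟩ := hsq
  have h8 : ((8 : ℕ) : ℤ) ∣ (q : ℤ) := by exact_mod_cast hq
  have e₂ : ((x₂ : ℤ) : ZMod 8) = ((a₂ : ℤ) : ZMod 8) := by
    have := (ZMod.intCast_eq_intCast_iff_dvd_sub (a₂ : ℤ) (x₂ : ℤ) 8).2 (h8.trans h₂)
    exact this.symm
  have e₃ : ((x₃ : ℤ) : ZMod 8) = ((a₃ : ℤ) : ZMod 8) := by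
    have := (ZMod.intCast_eq_intCast_iff_dvd_sub (a₃ : ℤ) (x₃ : ℤ) 8).2 (h8.trans h₃)
    exact this.symm
  have erel : -((δ : ℤ) : ZMod 8) * ((f : ℤ) : ZMod 8) + 1 +
      ((a₂ : ℤ) : ZMod 8) * ((x₂ : ℤ) : ZMod 8) + ((a₃ : ℤ) : ZMod 8) * ((x₃ : ℤ) : ZMod 8) = 0 := by
    have := congrArg (Int.cast : ℤ → ZMod 8) hrel
    push_cast at this
    exact this
  have esq : ((f : ℤ) : ZMod 8) * (((x₂ : ℤ) : ZMod 8) * ((x₃ : ℤ) : ZMod 8)) =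
      ((r : ℤ) : ZMod 8) * ((r : ℤ) : ZMod 8) := by
    have := congrArg (fun n : ℕ => ((n : ℤ) : ZMod 8)) hr
    push_cast at this
    exact this
  rw [e₂, e₃] at erel esq
  obtain ⟨F8, hF8⟩ : ∃ F8 : ZMod 8, F8 = ((f : ℤ) : ZMod 8) := ⟨_, rfl⟩
  obtain ⟨R8, hR8⟩ : ∃ R8 : ZMod 8, R8 = ((r : ℤ) : ZMod 8) := ⟨_, rfl⟩
  rw [← hF8] at erel esq
  rw [← hR8] at esq
  apply sq_ne_five_zmod8 R8
  rw [← esq]
  rcases hpat with ⟨rfl, rfl, rfl⟩ | ⟨rfl, rfl, rfl⟩ | ⟨rfl, rfl, rfl⟩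
  · push_cast at erel ⊢
    have hf : F8 = -3 := by linear_combination erel
    rw [hf]; decide
  · push_cast at erel ⊢
    have hf : F8 = 3 := by linear_combination -erel
    rw [hf]; decide
  · push_cast at erel ⊢
    have hf : F8 = 3 := by linear_combination -erel
    rw [hf]; decide

/-- The character-theoretic step: with `P` an abelian Sylow `2`-subgroup, `8 ∣ |P|`,
`|N(P) : C(P)| = 3` and the Frobenius-type condition, no involution lies outside every proper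
normal subgroup. -/
theorem no_invol_top (P : Sylow 2 G)
    (hcomm : ∀ a ∈ P, ∀ b ∈ P, a * b = b * a)
    (hfrob : ∀ y : G, y ∈ (P : Subgroup G) → y ≠ 1 →
      Subgroup.centralizer ({y} : Set G) ⊓ Subgroup.normalizer ((P : Subgroup G) : Set G) =
        Subgroup.centralizer ((P : Subgroup G) : Set G))
    (h8 : 8 ∣ Nat.card ↥(P : Subgroup G))
    (hCN : (Subgroup.centralizer ((P : Subgroup G) : Set G)).relIndex
      (Subgroup.normalizer ((P : Subgroup G) : Set G)) = 3)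
    (t : G) (ht : orderOf t = 2) (htK : ∀ K : Subgroup G, K.Normal → t ∈ K → K = ⊤) : False := by
  haveI : Fact (Nat.Prime 2) := ⟨Nat.prime_two⟩
  obtain ⟨M, hM⟩ := Cfsg.Agent.Lib.L0.PRegP.exists_isPModular Nat.prime_two
  have hm2 : 3 + 1 < Nat.card ↥(P : Subgroup G) := by
    have := Nat.le_of_dvd Nat.card_pos h8
    omega
  obtain ⟨χ₂, χ₃, YF, a₂, a₃, δ, ζ, -, -, -, -, -, -, -, hYcard, ha₂, ha₃, hδ, hv₂, hv₃, -, -, -,
    -, hrel, hinv⟩ := AbSyl.main3_invol_full hM P hcomm hfrob hm2 hCN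
  obtain ⟨hpat, hsq⟩ := hinv ⟨t, ht, htK⟩
  obtain ⟨η, hη⟩ : ∃ η, η ∈ YF := by
    apply Finset.card_pos.1
    omega
  have hx₂c : ((charDegree (χ₂ : G → ℂ) : ℕ) : ℂ) = (χ₂ : G → ℂ) 1 := charDegree_irr χ₂
  have hx₃c : ((charDegree (χ₃ : G → ℂ) : ℕ) : ℂ) = (χ₃ : G → ℂ) 1 := charDegree_irr χ₃
  have hfc : ((charDegree (η : G → ℂ) : ℕ) : ℂ) = (η : G → ℂ) 1 := charDegree_irr η
  have h₂ := card_dvd_degree_sub (isCharacter_of_irr χ₂.2) (P : Subgroup G) a₂ _ hx₂c.symm hv₂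
  have h₃ := card_dvd_degree_sub (isCharacter_of_irr χ₃.2) (P : Subgroup G) a₃ _ hx₃c.symm hv₃
  have hrel' : -δ * ((charDegree (η : G → ℂ) : ℕ) : ℤ) + 1 +
      a₂ * ((charDegree (χ₂ : G → ℂ) : ℕ) : ℤ) + a₃ * ((charDegree (χ₃ : G → ℂ) : ℕ) : ℤ) = 0 := by
    have h := hrel η hη
    rw [← hx₂c, ← hx₃c, ← hfc] at h
    exact_mod_cast h
  exact arith_contra _ h8 a₂ a₃ δ _ _ _ h₂ h₃ hrel' hpat (hsq η hη)

end Cfsg.Agent.Lib.H23.Homo
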