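import Cfsg.Agent.Lib.H23.HomoC
import Cfsg.Agent.Lib.L0.TransferPC
import Cfsg.Agent.Lib.H9.PPrimeCore

/-!
# Abelian Sylow `2`-subgroups with at most four elements of order at most two, of order divisible
by `8`: groups generated by the conjugates of `P` with trivial odd core are `2`-groups (helper23)
-/

set_option autoImplicit false

namespace Cfsg.Agent.Lib.H23.Homo

open Cfsg Cfsg.Agent.Lib.H23 Cfsg.Agent.Lib.L0

variable {G : Type*} [Group G] [Finite G]

/-- Burnside: if `N(P) ≤ C(P)` and `O(G) = 1` then `G = P`. -/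
theorem sylow_eq_top_of_normalizer_le (P : Sylow 2 G)
    (h : Subgroup.normalizer ((P : Subgroup G) : Set G) ≤
      Subgroup.centralizer ((P : Subgroup G) : Set G))
    (hO : Cfsg.pPrimeCore 2 G = ⊥) : (P : Subgroup G) = ⊤ := by
  haveI : Fact (Nat.Prime 2) := ⟨Nat.prime_two⟩
  obtain ⟨K, hK, hc⟩ := Cfsg.Agent.Lib.L0.HasNormalPComplement.forall_sylow
    (Cfsg.Agent.Lib.L0.hasNormalPComplement_of_normalizer_le_centralizer P h) P
  have h1 : (P : Subgroup G).index = Nat.card K := hc.index_eq_card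
  have h2 : (Nat.card K).Coprime 2 := by
    rw [← h1]
    exact ((Nat.Prime.coprime_iff_not_dvd Nat.prime_two).2 P.not_dvd_index).symm
  have h3 : K ≤ pPrimeCore 2 G := Cfsg.Agent.Lib.H22.le_pPrimeCore 2 K hK h2
  rw [hO, le_bot_iff] at h3
  rw [h3, Subgroup.card_bot] at h1
  exact Subgroup.index_eq_one.1 h1

/-- The main step: `|N(P):C(P)| = 3` is impossible in a group with `O(G) = 1` in which no proper
normal subgroup contains `P`. -/
theorem false_of_relIndex_three (P : Sylow 2 G)
    (hcomm : ∀ a ∈ P, ∀ b ∈ P, a * b = b * a)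
    (F : Finset G) (hF : F.card ≤ 4) (hFP : ∀ x ∈ (P : Subgroup G), x * x = 1 → x ∈ F)
    (h8 : 8 ∣ Nat.card ↥(P : Subgroup G))
    (hCN : (Subgroup.centralizer ((P : Subgroup G) : Set G)).relIndex
      (Subgroup.normalizer ((P : Subgroup G) : Set G)) = 3)
    (hO : Cfsg.pPrimeCore 2 G = ⊥)
    (hT : ∀ K : Subgroup G, K.Normal → (P : Subgroup G) ≤ K → K = ⊤) : False := by
  classical
  haveI : Fact (Nat.Prime 2) := ⟨Nat.prime_two⟩
  have hfrob := fun y hy hy1 => frob_of_fourInv P hcomm F hF hFP y hy hy1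
  -- an involution in `P`
  obtain ⟨t, htP, hto⟩ : ∃ t ∈ (P : Subgroup G), orderOf t = 2 := by
    have h2 : 2 ∣ Nat.card ↥(P : Subgroup G) := dvd_trans (by norm_num) h8
    obtain ⟨x, hx⟩ := exists_prime_orderOf_dvd_card' 2 h2
    exact ⟨(x : G), x.2, by rw [Subgroup.orderOf_coe]; exact hx⟩
  have htt : t * t = 1 := by rw [← pow_two, ← hto]; exact pow_orderOf_eq_one t
  have ht1 : t ≠ 1 := by
    intro h; rw [h, orderOf_one] at hto; omega
  obtain ⟨m, hmC⟩ := AbSyl.exists_normalizer_not_centralizer (P : Subgroup G) hCN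
  obtain ⟨L, hL⟩ : ∃ L, L = Subgroup.normalClosure ({t} : Set G) := ⟨_, rfl⟩
  haveI hLn : L.Normal := by rw [hL]; exact Subgroup.normalClosure_normal
  have htL : t ∈ L := by
    rw [hL]; exact Subgroup.subset_normalClosure (Set.mem_singleton t)
  by_cases hPL : (P : Subgroup G) ≤ L
  · have hLtop := hT L hLn hPL
    apply no_invol_top P hcomm hfrob h8 hCN t hto
    intro K hK htK
    have h1 : L ≤ K := by
      rw [hL]
      exact Subgroup.normalClosure_le_normal (Set.singleton_subset_iff.2 htK)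
    rw [hLtop] at h1
    exact top_le_iff.1 h1
  · -- Step (i): `N_L(P) ≤ C(P)`
    have hi : ∀ n : G, n ∈ L → n ∈ Subgroup.normalizer ((P : Subgroup G) : Set G) →
        n ∈ Subgroup.centralizer ((P : Subgroup G) : Set G) := by
      intro n hnL hnN
      by_contra hnC
      apply hPL
      have hmem : ∀ x : ↥(P : Subgroup G),
          (x : G) * (n * (x : G)⁻¹ * n⁻¹) ∈ (P : Subgroup G) := by
        intro x
        exact Subgroup.mul_mem _ x.2
          ((Subgroup.mem_normalizer_iff.1 hnN _).1 (Subgroup.inv_mem _ x.2))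
      have hinj : Function.Injective (fun x : ↥(P : Subgroup G) =>
          (⟨(x : G) * (n * (x : G)⁻¹ * n⁻¹), hmem x⟩ : ↥(P : Subgroup G))) := by
        intro x x' hxx
        have h1 : (x : G) * (n * (x : G)⁻¹ * n⁻¹) = (x' : G) * (n * (x' : G)⁻¹ * n⁻¹) :=
          congrArg Subtype.val hxx
        by_contra hne
        have hwP : (x' : G)⁻¹ * (x : G) ∈ (P : Subgroup G) :=
          Subgroup.mul_mem _ (Subgroup.inv_mem _ x'.2) x.2
        have hw1 : (x' : G)⁻¹ * (x : G) ≠ 1 := by
          intro h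
          apply hne
          apply Subtype.ext
          have : (x : G) = (x' : G) * ((x' : G)⁻¹ * (x : G)) := by group
          rw [this, h, mul_one]
        have h2 : (x' : G)⁻¹ * (x : G) = n * ((x' : G)⁻¹ * (x : G)) * n⁻¹ := by
          calc (x' : G)⁻¹ * (x : G)
              = (x' : G)⁻¹ * ((x : G) * (n * (x : G)⁻¹ * n⁻¹)) * (n * (x : G)⁻¹ * n⁻¹)⁻¹ := by
                group
            _ = (x' : G)⁻¹ * ((x' : G) * (n * (x' : G)⁻¹ * n⁻¹)) * (n * (x : G)⁻¹ * n⁻¹)⁻¹ := by
                rw [h1]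
            _ = n * ((x' : G)⁻¹ * (x : G)) * n⁻¹ := by group
        apply hnC
        rw [← hfrob _ hwP hw1]
        refine ⟨?_, hnN⟩
        show n ∈ Subgroup.centralizer ({(x' : G)⁻¹ * (x : G)} : Set G)
        rw [Subgroup.mem_centralizer_iff]
        intro z hz
        rw [Set.mem_singleton_iff] at hz
        rw [hz]
        calc (x' : G)⁻¹ * (x : G) * n = (n * ((x' : G)⁻¹ * (x : G)) * n⁻¹) * n := by rw [← h2]
          _ = n * ((x' : G)⁻¹ * (x : G)) := by group
      have hsurj := Finite.injective_iff_surjective.1 hinj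
      intro y hy
      obtain ⟨x, hx⟩ := hsurj ⟨y, hy⟩
      have h3 : y = (x : G) * (n * (x : G)⁻¹ * n⁻¹) := (congrArg Subtype.val hx).symm
      have h4 : (x : G) * (n * (x : G)⁻¹ * n⁻¹) = ((x : G) * n * (x : G)⁻¹) * n⁻¹ := by group
      rw [h3, h4]
      exact L.mul_mem (hLn.conj_mem n hnL x) (L.inv_mem hnL)
    have hPC : (P : Subgroup G) ≤ Subgroup.centralizer ((P : Subgroup G) : Set G) := by
      intro a ha
      rw [Subgroup.mem_centralizer_iff]
      intro b hb
      exact hcomm b hb a ha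
    have hPN : (P : Subgroup G) ≤ Subgroup.normalizer ((P : Subgroup G) : Set G) :=
      hPC.trans (Subgroup.centralizer_le_normalizer _)
    -- Step (ii)
    have hii : ∀ g : G, g ∈ L ⊔ (P : Subgroup G) →
        g ∈ Subgroup.normalizer ((P : Subgroup G) : Set G) →
        g ∈ Subgroup.centralizer ((P : Subgroup G) : Set G) := by
      intro g hg hgN
      have hg' : g ∈ ((L ⊔ (P : Subgroup G) : Subgroup G) : Set G) := hg
      rw [Subgroup.normal_mul, Set.mem_mul] at hg'
      obtain ⟨l, hl, x, hx, rfl⟩ := hg'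
      have hlN : l ∈ Subgroup.normalizer ((P : Subgroup G) : Set G) := by
        have : l = (l * x) * x⁻¹ := by group
        rw [this]
        exact Subgroup.mul_mem _ hgN (Subgroup.inv_mem _ (hPN hx))
      exact Subgroup.mul_mem _ (hi l hl hlN) (hPC hx)
    -- Step (iii): Burnside in `X = L P`
    obtain ⟨X, hX⟩ : ∃ X, X = L ⊔ (P : Subgroup G) := ⟨_, rfl⟩
    have hPX : (P : Subgroup G) ≤ X := by rw [hX]; exact le_sup_right
    have hLX : L ≤ X := by rw [hX]; exact le_sup_left
    have hNC : Subgroup.normalizer (((P.subtype hPX : Sylow 2 ↥X) : Subgroup ↥X) : Set ↥X) ≤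
        Subgroup.centralizer (((P.subtype hPX : Sylow 2 ↥X) : Subgroup ↥X) : Set ↥X) := by
      intro g hg
      rw [Subgroup.mem_normalizer_iff] at hg
      have hgN : (g : G) ∈ Subgroup.normalizer ((P : Subgroup G) : Set G) := by
        rw [Subgroup.mem_normalizer_iff]
        intro h
        constructor
        · intro hh
          have := (hg ⟨h, hPX hh⟩).1 (by rw [Sylow.coe_subtype, Subgroup.mem_subgroupOf]; exact hh)
          rw [Sylow.coe_subtype, Subgroup.mem_subgroupOf] at this
          exact this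
        · intro hh
          have hhX : h ∈ X := by
            have : h = (g : G)⁻¹ * ((g : G) * h * (g : G)⁻¹) * (g : G) := by group
            rw [this]
            exact X.mul_mem (X.mul_mem (X.inv_mem g.2) (hPX hh)) g.2
          have := (hg ⟨h, hhX⟩).2 (by rw [Sylow.coe_subtype, Subgroup.mem_subgroupOf]; exact hh)
          rw [Sylow.coe_subtype, Subgroup.mem_subgroupOf] at this
          exact this
      have hgC := hii (g : G) (hX ▸ g.2) hgN
      rw [Subgroup.mem_centralizer_iff]
      intro y hy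
      have hy' : (y : G) ∈ (P : Subgroup G) := by
        have : y ∈ ((P.subtype hPX : Sylow 2 ↥X) : Subgroup ↥X) := hy
        rw [Sylow.coe_subtype, Subgroup.mem_subgroupOf] at this
        exact this
      apply Subtype.ext
      exact (Subgroup.mem_centralizer_iff.1 hgC) (y : G) hy'
    obtain ⟨K₁, hK₁, hc⟩ := Cfsg.Agent.Lib.L0.HasNormalPComplement.forall_sylow
      (Cfsg.Agent.Lib.L0.hasNormalPComplement_of_normalizer_le_centralizer (P.subtype hPX) hNC)
      (P.subtype hPX)
    have hidxP : ((P.subtype hPX : Sylow 2 ↥X) : Subgroup ↥X).index = Nat.card K₁ :=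
      hc.index_eq_card
    have hcop : (Nat.card K₁).Coprime 2 := by
      rw [← hidxP]
      exact ((Nat.Prime.coprime_iff_not_dvd Nat.prime_two).2 (P.subtype hPX).not_dvd_index).symm
    obtain ⟨j, hj⟩ : ∃ j, K₁.index = 2 ^ j := by
      rw [hc.symm.index_eq_card]
      exact (P.subtype hPX).2.exists_card_eq
    -- index of `L` in `X`
    obtain ⟨i, hi2⟩ : ∃ i, (L.subgroupOf X).index = 2 ^ i := by
      have h1 : (L.subgroupOf X).index = L.relIndex (P : Subgroup G) := by
        rw [← Subgroup.relIndex, hX, Subgroup.relIndex_sup_left]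
      have h2 : L.relIndex (P : Subgroup G) ∣ Nat.card ↥(P : Subgroup G) :=
        Subgroup.relIndex_dvd_card _ _
      obtain ⟨k, hk⟩ := P.2.exists_card_eq
      rw [hk] at h2
      obtain ⟨i, _, hi⟩ := (Nat.dvd_prime_pow Nat.prime_two).1 h2
      exact ⟨i, h1.trans hi⟩
    haveI : (L.subgroupOf X).Normal := Subgroup.normal_subgroupOf
    -- Step (iv)
    have hKn : (K₁.map X.subtype).Normal := by
      constructor
      rintro _ ⟨k, hk, rfl⟩ g
      have hko : (orderOf k).Coprime 2 := by
        have h1 : orderOf (⟨k, hk⟩ : ↥K₁) ∣ Nat.card ↥K₁ := orderOf_dvd_natCard _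
        rw [Subgroup.orderOf_mk] at h1
        exact Nat.Coprime.coprime_dvd_left h1 hcop
      have hkL : (k : G) ∈ L := by
        have := mem_of_coprime_orderOf_of_index_pow (L.subgroupOf X) i hi2 k hko
        rw [Subgroup.mem_subgroupOf] at this
        exact this
      have hgk : g * (k : G) * g⁻¹ ∈ X := hLX (hLn.conj_mem _ hkL g)
      have hord : orderOf (⟨g * (k : G) * g⁻¹, hgk⟩ : ↥X) = orderOf k := by
        rw [Subgroup.orderOf_mk, ← Subgroup.orderOf_coe k]
        exact orderOf_injective (MulAut.conj g).toMonoidHom (MulAut.conj g).injective (k : G)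
      have hmem : (⟨g * (k : G) * g⁻¹, hgk⟩ : ↥X) ∈ K₁ :=
        mem_of_coprime_orderOf_of_index_pow K₁ j hj _ (by rw [hord]; exact hko)
      exact ⟨⟨g * (k : G) * g⁻¹, hgk⟩, hmem, rfl⟩
    have hKcard : Nat.card ↥(K₁.map X.subtype) = Nat.card ↥K₁ :=
      (Nat.card_congr (K₁.equivMapOfInjective X.subtype X.subtype_injective).toEquiv).symm
    have hKbot : K₁.map X.subtype = ⊥ := by
      have h3 : K₁.map X.subtype ≤ pPrimeCore 2 G :=
        Cfsg.Agent.Lib.H22.le_pPrimeCore 2 _ hKn (by rw [hKcard]; exact hcop)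
      rwa [hO, le_bot_iff] at h3
    have hK₁bot : K₁ = ⊥ := (Subgroup.map_eq_bot_iff_of_injective _ X.subtype_injective).1 hKbot
    -- Step (v)
    have hPXtop : ((P.subtype hPX : Sylow 2 ↥X) : Subgroup ↥X) = ⊤ := by
      rw [hK₁bot, Subgroup.card_bot] at hidxP
      exact Subgroup.index_eq_one.1 hidxP
    have hXP : X ≤ (P : Subgroup G) := by
      intro x hx
      have h1 : (⟨x, hx⟩ : ↥X) ∈ ((P.subtype hPX : Sylow 2 ↥X) : Subgroup ↥X) := by
        rw [hPXtop]; exact Subgroup.mem_top _
      rw [Sylow.coe_subtype, Subgroup.mem_subgroupOf] at h1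
      exact h1
    have hLP : L ≤ (P : Subgroup G) := hLX.trans hXP
    -- Step (vi)
    have hPCL : (P : Subgroup G) ≤ Subgroup.centralizer (L : Set G) := by
      intro a ha
      rw [Subgroup.mem_centralizer_iff]
      intro l hl
      exact hcomm l (hLP hl) a ha
    have hCLtop := hT (Subgroup.centralizer (L : Set G)) inferInstance hPCL
    have hmL : (m : G) ∈ Subgroup.centralizer (L : Set G) := by
      rw [hCLtop]; exact Subgroup.mem_top _
    have hmt : t * (m : G) = (m : G) * t := (Subgroup.mem_centralizer_iff.1 hmL) t htL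
    apply hmC
    rw [← hfrob t htP ht1]
    refine ⟨?_, m.2⟩
    show (m : G) ∈ Subgroup.centralizer ({t} : Set G)
    rw [Subgroup.mem_centralizer_iff]
    intro z hz
    rw [Set.mem_singleton_iff] at hz
    rw [hz]
    exact hmt

end Cfsg.Agent.Lib.H23.Homo
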