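import Cfsg.Agent.Lib.H23.HomoD
import Cfsg.Agent.Lib.H16.SylowBasic

/-!
# Abelian Sylow `2`-subgroups with at most four elements of order at most two, of order divisible
by `8`, in a group with trivial odd core: `P` is normal, self-centralizing, of index `1` or `3`
(helper23)
-/

set_option autoImplicit false

namespace Cfsg.Agent.Lib.H23.Homo

open Cfsg Cfsg.Agent.Lib.H23 Cfsg.Agent.Lib.L0

variable {G : Type*} [Group G] [Finite G]

/-- Transfer of the hypotheses to a normal subgroup containing `P`. -/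
theorem transfer_data (P : Sylow 2 G) (K : Subgroup G) (hK : K.Normal)
    (hPK : (P : Subgroup G) ≤ K)
    (hcomm : ∀ a ∈ P, ∀ b ∈ P, a * b = b * a)
    (F : Finset G) (hF : F.card ≤ 4) (hFP : ∀ x ∈ (P : Subgroup G), x * x = 1 → x ∈ F)
    (hO : Cfsg.pPrimeCore 2 G = ⊥) :
    (∀ a ∈ (P.subtype hPK : Sylow 2 ↥K), ∀ b ∈ (P.subtype hPK : Sylow 2 ↥K), a * b = b * a) ∧
    (∃ F' : Finset ↥K, F'.card ≤ 4 ∧
      ∀ x ∈ ((P.subtype hPK : Sylow 2 ↥K) : Subgroup ↥K), x * x = 1 → x ∈ F') ∧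
    Nat.card ↥((P.subtype hPK : Sylow 2 ↥K) : Subgroup ↥K) = Nat.card ↥(P : Subgroup G) ∧
    Cfsg.pPrimeCore 2 ↥K = ⊥ := by
  classical
  have hmem : ∀ a : ↥K, a ∈ (P.subtype hPK : Sylow 2 ↥K) ↔ (a : G) ∈ (P : Subgroup G) := by
    intro a
    show a ∈ ((P.subtype hPK : Sylow 2 ↥K) : Subgroup ↥K) ↔ _
    rw [Sylow.coe_subtype, Subgroup.mem_subgroupOf]
  refine ⟨?_, ?_, ?_, ?_⟩
  · intro a ha b hb
    apply Subtype.ext
    exact hcomm _ ((hmem a).1 ha) _ ((hmem b).1 hb)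
  · refine ⟨F.subtype (· ∈ K), ?_, ?_⟩
    · rw [Finset.card_subtype]
      exact (Finset.card_filter_le _ _).trans hF
    · intro x hx hxx
      rw [Finset.mem_subtype]
      exact hFP _ ((hmem x).1 hx) (by
        have := congrArg Subtype.val hxx
        exact this)
  · rw [Sylow.coe_subtype]
    exact Nat.card_congr (Subgroup.subgroupOfEquivOfLe hPK).toEquiv
  · have h1 := Cfsg.Agent.Lib.H9.pPrimeCore_subnormal_le 2 hK.isSubnormal
    rw [hO, le_bot_iff] at h1
    exact (Subgroup.map_eq_bot_iff_of_injective _ K.subtype_injective).1 h1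

/-- If no proper normal subgroup contains `P` then `G = P`. -/
theorem eq_top_of_hT (P : Sylow 2 G)
    (hcomm : ∀ a ∈ P, ∀ b ∈ P, a * b = b * a)
    (F : Finset G) (hF : F.card ≤ 4) (hFP : ∀ x ∈ (P : Subgroup G), x * x = 1 → x ∈ F)
    (h8 : 8 ∣ Nat.card ↥(P : Subgroup G))
    (hO : Cfsg.pPrimeCore 2 G = ⊥)
    (hT : ∀ K : Subgroup G, K.Normal → (P : Subgroup G) ≤ K → K = ⊤) :
    (P : Subgroup G) = ⊤ := by
  obtain ⟨t, htP, hto⟩ : ∃ t ∈ (P : Subgroup G), orderOf t = 2 := by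
    have h2 : 2 ∣ Nat.card ↥(P : Subgroup G) := dvd_trans (by norm_num) h8
    haveI : Fact (Nat.Prime 2) := ⟨Nat.prime_two⟩
    obtain ⟨x, hx⟩ := exists_prime_orderOf_dvd_card' 2 h2
    exact ⟨(x : G), x.2, by rw [Subgroup.orderOf_coe]; exact hx⟩
  have htt : t * t = 1 := by rw [← pow_two, ← hto]; exact pow_orderOf_eq_one t
  have ht1 : t ≠ 1 := by
    intro h; rw [h, orderOf_one] at hto; omega
  rcases relIndex_eq_one_or_three P hcomm F hF hFP t htP ht1 htt with h | h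
  · exact sylow_eq_top_of_normalizer_le P (Subgroup.relIndex_eq_one.1 h) hO
  · exact (false_of_relIndex_three P hcomm F hF hFP h8 h hO hT).elim

/-- `P` is normal. -/
theorem sylow_normal (P : Sylow 2 G)
    (hcomm : ∀ a ∈ P, ∀ b ∈ P, a * b = b * a)
    (F : Finset G) (hF : F.card ≤ 4) (hFP : ∀ x ∈ (P : Subgroup G), x * x = 1 → x ∈ F)
    (h8 : 8 ∣ Nat.card ↥(P : Subgroup G))
    (hO : Cfsg.pPrimeCore 2 G = ⊥) : (P : Subgroup G).Normal := by
  haveI : Fact (Nat.Prime 2) := ⟨Nat.prime_two⟩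
  obtain ⟨K, hK⟩ : ∃ K, K = Subgroup.normalClosure ((P : Subgroup G) : Set G) := ⟨_, rfl⟩
  have hKn : K.Normal := by rw [hK]; exact Subgroup.normalClosure_normal
  have hPK : (P : Subgroup G) ≤ K := by rw [hK]; exact Subgroup.subset_normalClosure
  obtain ⟨hcomm', ⟨F', hF', hFP'⟩, hcard', hO'⟩ := transfer_data P K hKn hPK hcomm F hF hFP hO
  have hmem : ∀ a : ↥K, a ∈ ((P.subtype hPK : Sylow 2 ↥K) : Subgroup ↥K) ↔
      (a : G) ∈ (P : Subgroup G) := by
    intro a
    rw [Sylow.coe_subtype, Subgroup.mem_subgroupOf]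
  have hT : ∀ M : Subgroup ↥K, M.Normal → ((P.subtype hPK : Sylow 2 ↥K) : Subgroup ↥K) ≤ M →
      M = ⊤ := by
    intro M hM hPM
    have hle : K ≤ M.map K.subtype := by
      have hK' : K ≤ Subgroup.normalClosure ((P : Subgroup G) : Set G) := hK.le
      refine hK'.trans ?_
      rw [Subgroup.normalClosure, Subgroup.closure_le]
      intro y hy
      rw [Group.mem_conjugatesOfSet_iff] at hy
      obtain ⟨x, hx, hxy⟩ := hy
      obtain ⟨g, hg⟩ := isConj_iff.1 hxy
      have hyK : y ∈ K := by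
        rw [← hg]
        exact hKn.conj_mem x (hPK hx) g
      -- the cyclic group generated by `y` in `K` is a `2`-group
      have hpg : IsPGroup 2 ↥(Subgroup.zpowers (⟨y, hyK⟩ : ↥K)) := by
        obtain ⟨k, hk⟩ := (IsPGroup.iff_orderOf.1 P.2) ⟨x, hx⟩
        rw [Subgroup.orderOf_mk] at hk
        apply IsPGroup.of_card (n := k)
        rw [Nat.card_zpowers, Subgroup.orderOf_mk, ← hk, ← hg]
        exact orderOf_injective (MulAut.conj g).toMonoidHom (MulAut.conj g).injective x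
      obtain ⟨c, hc⟩ := Cfsg.Agent.Lib.H16.exists_conj_mem_sylow
        (Subgroup.zpowers (⟨y, hyK⟩ : ↥K)) hpg (P.subtype hPK)
      have h1 := hPM (hc _ (Subgroup.mem_zpowers _))
      have h2 := hM.conj_mem _ h1 c⁻¹
      have h3 : c⁻¹ * (c * (⟨y, hyK⟩ : ↥K) * c⁻¹) * c⁻¹⁻¹ = ⟨y, hyK⟩ := by group
      rw [h3] at h2
      exact ⟨⟨y, hyK⟩, h2, rfl⟩
    rw [eq_top_iff]
    intro z _
    obtain ⟨w, hw, hwz⟩ := hle z.2
    have : w = z := Subtype.ext hwz
    rw [← this]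
    exact hw
  have htop := eq_top_of_hT (P.subtype hPK) hcomm' F' hF' hFP' (by rw [hcard']; exact h8) hO' hT
  have hKP : K = (P : Subgroup G) := by
    apply le_antisymm _ hPK
    intro z hz
    have h1 : (⟨z, hz⟩ : ↥K) ∈ ((P.subtype hPK : Sylow 2 ↥K) : Subgroup ↥K) := by
      rw [htop]; exact Subgroup.mem_top _
    exact (hmem _).1 h1
  rw [← hKP]
  exact hKn

/-- The structure theorem. -/
theorem core (P : Sylow 2 G)
    (hcomm : ∀ a ∈ P, ∀ b ∈ P, a * b = b * a)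
    (F : Finset G) (hF : F.card ≤ 4) (hFP : ∀ x ∈ (P : Subgroup G), x * x = 1 → x ∈ F)
    (h8 : 8 ∣ Nat.card ↥(P : Subgroup G))
    (hO : Cfsg.pPrimeCore 2 G = ⊥) :
    (P : Subgroup G).Normal ∧ Subgroup.centralizer ((P : Subgroup G) : Set G) = (P : Subgroup G) ∧
      ((P : Subgroup G).index = 1 ∨ (P : Subgroup G).index = 3) := by
  haveI : Fact (Nat.Prime 2) := ⟨Nat.prime_two⟩
  haveI hPn : (P : Subgroup G).Normal := sylow_normal P hcomm F hF hFP h8 hO
  have hPC : (P : Subgroup G) ≤ Subgroup.centralizer ((P : Subgroup G) : Set G) := by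
    intro a ha
    rw [Subgroup.mem_centralizer_iff]
    intro b hb
    exact hcomm b hb a ha
  have hCn : (Subgroup.centralizer ((P : Subgroup G) : Set G)).Normal := inferInstance
  obtain ⟨C, hC⟩ : ∃ C, C = Subgroup.centralizer ((P : Subgroup G) : Set G) := ⟨_, rfl⟩
  rw [← hC] at hPC hCn ⊢
  have hCP : C = (P : Subgroup G) := by
    obtain ⟨-, -, -, hO'⟩ := transfer_data P C hCn hPC hcomm F hF hFP hO
    have hmem : ∀ a : ↥C, a ∈ ((P.subtype hPC : Sylow 2 ↥C) : Subgroup ↥C) ↔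
        (a : G) ∈ (P : Subgroup G) := by
      intro a
      rw [Sylow.coe_subtype, Subgroup.mem_subgroupOf]
    have hle : Subgroup.normalizer (((P.subtype hPC : Sylow 2 ↥C) : Subgroup ↥C) : Set ↥C) ≤
        Subgroup.centralizer (((P.subtype hPC : Sylow 2 ↥C) : Subgroup ↥C) : Set ↥C) := by
      intro g _
      rw [Subgroup.mem_centralizer_iff]
      intro y hy
      apply Subtype.ext
      have hg : (g : G) ∈ Subgroup.centralizer ((P : Subgroup G) : Set G) := hC ▸ g.2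
      exact (Subgroup.mem_centralizer_iff.1 hg) (y : G) ((hmem y).1 hy)
    have htop := sylow_eq_top_of_normalizer_le (P.subtype hPC) hle hO'
    apply le_antisymm _ hPC
    intro z hz
    have h1 : (⟨z, hz⟩ : ↥C) ∈ ((P.subtype hPC : Sylow 2 ↥C) : Subgroup ↥C) := by
      rw [htop]; exact Subgroup.mem_top _
    exact (hmem _).1 h1
  refine ⟨hPn, hCP, ?_⟩
  obtain ⟨t, htP, hto⟩ : ∃ t ∈ (P : Subgroup G), orderOf t = 2 := by
    have h2 : 2 ∣ Nat.card ↥(P : Subgroup G) := dvd_trans (by norm_num) h8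
    obtain ⟨x, hx⟩ := exists_prime_orderOf_dvd_card' 2 h2
    exact ⟨(x : G), x.2, by rw [Subgroup.orderOf_coe]; exact hx⟩
  have htt : t * t = 1 := by rw [← pow_two, ← hto]; exact pow_orderOf_eq_one t
  have ht1 : t ≠ 1 := by
    intro h; rw [h, orderOf_one] at hto; omega
  have h := relIndex_eq_one_or_three P hcomm F hF hFP t htP ht1 htt
  rw [← hC, hCP, Subgroup.normalizer_eq_top, Subgroup.relIndex_top_right] at h
  exact h

end Cfsg.Agent.Lib.H23.Homo
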