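import Cfsg.Agent.Lib.H23.HomoE

/-!
# Homocyclic groups `Z/2^m × Z/2^m`: commutativity, order, elements of order at most two
(helper23)
-/

set_option autoImplicit false

namespace Cfsg.Agent.Lib.H23.Homo

theorem zmod_two_torsion (m : ℕ) (hm : 1 ≤ m) (a : ZMod (2 ^ m)) (h : a + a = 0) :
    a = 0 ∨ a = ((2 ^ (m - 1) : ℕ) : ZMod (2 ^ m)) := by
  haveI : NeZero (2 ^ m) := ⟨pow_ne_zero _ (by norm_num)⟩
  have hval : a = ((a.val : ℕ) : ZMod (2 ^ m)) := (ZMod.natCast_zmod_val a).symm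
  have hlt : a.val < 2 ^ m := ZMod.val_lt a
  have h2 : 2 ^ m = 2 * 2 ^ (m - 1) := by
    rw [← pow_succ']
    congr 1
    omega
  have h1 : ((a.val + a.val : ℕ) : ZMod (2 ^ m)) = 0 := by
    push_cast
    rw [← hval]
    exact h
  rw [ZMod.natCast_eq_zero_iff] at h1
  obtain ⟨c, hc⟩ := h1
  have h3 : a.val = 2 ^ (m - 1) * c := by
    have : 2 * a.val = 2 * (2 ^ (m - 1) * c) := by
      rw [← mul_assoc, ← h2, ← hc]; ring
    omega
  have hpos : 0 < 2 ^ (m - 1) := pow_pos (by norm_num) _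
  have hc2 : c < 2 := by
    by_contra hcon
    push Not at hcon
    have : 2 ^ (m - 1) * 2 ≤ 2 ^ (m - 1) * c := Nat.mul_le_mul_left _ hcon
    omega
  rw [hval]
  interval_cases c
  · left
    rw [h3]; simp
  · right
    rw [h3, mul_one]

variable {G : Type*} [Group G]

/-- The facts about a subgroup isomorphic to `Z/2^m × Z/2^m`, `m ≥ 2`, that we use. -/
theorem facts_of_equiv (P : Subgroup G) (m : ℕ) (hm : 2 ≤ m)
    (e : ↥P ≃* Multiplicative (ZMod (2 ^ m) × ZMod (2 ^ m))) :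
    (∀ a ∈ P, ∀ b ∈ P, a * b = b * a) ∧
    (∃ F : Finset G, F.card ≤ 4 ∧ ∀ x ∈ P, x * x = 1 → x ∈ F) ∧
    8 ∣ Nat.card ↥P := by
  classical
  haveI : NeZero (2 ^ m) := ⟨pow_ne_zero _ (by norm_num)⟩
  refine ⟨?_, ?_, ?_⟩
  · intro a ha b hb
    have h1 : e (⟨a, ha⟩ * ⟨b, hb⟩) = e (⟨b, hb⟩ * ⟨a, ha⟩) := by
      rw [map_mul, map_mul, mul_comm]
    exact congrArg Subtype.val (e.injective h1)
  · obtain ⟨h, hh⟩ : ∃ h : ZMod (2 ^ m), h = ((2 ^ (m - 1) : ℕ) : ZMod (2 ^ m)) := ⟨_, rfl⟩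
    refine ⟨({((0 : ZMod (2 ^ m)), (0 : ZMod (2 ^ m))), (h, 0), (0, h), (h, h)} :
      Finset (ZMod (2 ^ m) × ZMod (2 ^ m))).image
        (fun v => ((e.symm (Multiplicative.ofAdd v) : ↥P) : G)), ?_, ?_⟩
    · exact Finset.card_image_le.trans Finset.card_le_four
    · intro x hx hxx
      rw [Finset.mem_image]
      obtain ⟨v, hv⟩ : ∃ v : ZMod (2 ^ m) × ZMod (2 ^ m),
          e ⟨x, hx⟩ = Multiplicative.ofAdd v := ⟨Multiplicative.toAdd (e ⟨x, hx⟩), rfl⟩
      have hvv : v + v = 0 := by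
        have h1 : e (⟨x, hx⟩ * ⟨x, hx⟩) = 1 := by
          have : (⟨x, hx⟩ * ⟨x, hx⟩ : ↥P) = 1 := Subtype.ext hxx
          rw [this, map_one]
        rw [map_mul, hv, ← ofAdd_add] at h1
        exact Multiplicative.ofAdd.injective (h1.trans ofAdd_zero.symm)
      have hv1 : v.1 + v.1 = 0 := congrArg Prod.fst hvv
      have hv2 : v.2 + v.2 = 0 := congrArg Prod.snd hvv
      refine ⟨v, ?_, ?_⟩
      · simp only [Finset.mem_insert, Finset.mem_singleton]
        rcases zmod_two_torsion m (by omega) v.1 hv1 with h1 | h1 <;>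
        rcases zmod_two_torsion m (by omega) v.2 hv2 with h2 | h2
        · left; exact Prod.ext h1 h2
        · right; right; left; exact Prod.ext h1 (by rw [hh]; exact h2)
        · right; left; exact Prod.ext (by rw [hh]; exact h1) h2
        · right; right; right; exact Prod.ext (by rw [hh]; exact h1) (by rw [hh]; exact h2)
      · show ((e.symm (Multiplicative.ofAdd v) : ↥P) : G) = x
        rw [← hv, MulEquiv.symm_apply_apply]
  · have h1 : Nat.card ↥P = 2 ^ m * 2 ^ m := by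
      rw [Nat.card_congr e.toEquiv, Nat.card_congr Multiplicative.toAdd, Nat.card_prod,
        Nat.card_zmod]
    rw [h1]
    have h2 : 2 ^ m = 4 * 2 ^ (m - 2) := by
      have : m = 2 + (m - 2) := by omega
      conv_lhs => rw [this, pow_add]
      norm_num
    rw [h2]
    exact ⟨2 * 2 ^ (m - 2) * 2 ^ (m - 2), by ring⟩

end Cfsg.Agent.Lib.H23.Homo
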