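import Mathlib
import Cfsg.Prelude.Def_Blocks
import Cfsg.Prelude.Def_Local
import Cfsg.Agent.S4435
import Cfsg.Agent.S4436
import Cfsg.Agent.Lib.H23.CliffordCorr
import Cfsg.Agent.Lib.H23.BlockDefectZero
import Cfsg.Agent.Lib.H23.FRBlock

/-!
# S4439, Fong–Reynolds step (helper23)

For a normal `p'`-subgroup `K` of `G`, `χ ∈ Irr(G)` in the block `B` lying over `θ ∈ Irr(K)`, and
`T` the inertia group of `θ`: `χ` is induced from `ψ ∈ Irr(T)` lying in a block `B'` of `T` with the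
same height, and the defect groups of `B'` are defect groups of `B`.
-/

set_option autoImplicit false
set_option linter.style.haveILetI false

namespace Cfsg.Agent.Lib.H23.HtZ

open Cfsg Cfsg.Agent.Lib.H23 Cfsg.Agent.Lib.L0 Cfsg.Agent.Lib.H24
open scoped ComplexConjugate

variable {G : Type*} [Group G] [Fintype G] {p : ℕ} [hp : Fact p.Prime] {M : Ideal AlgInt}

/-- The block of a character of a `p'`-group is a singleton. -/
theorem blockOf_eq_singleton_of_not_dvd (hM : IsPModular p M) (hG : ¬ p ∣ Nat.card G)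
    (θ : IrrCharacter G) : blockOf M (θ : G → ℂ) = {θ} := by
  rw [← not_dvd_iff_blockOf_eq_singleton hM]
  intro h
  exact hG (h.trans (Nat.div_dvd_of_dvd (charDegree_dvd_card (θ : G → ℂ) θ.2)))

/-- The Fong–Reynolds step over a normal `p'`-subgroup. -/
theorem fr_step (hM : IsPModular p M) (K : Subgroup G) [hK : K.Normal] [Fintype K]
    (hKp : ¬ p ∣ Nat.card K) (θ : IrrCharacter K)
    (T : Subgroup G) [Fintype T] (hT : T = inertia K (θ : K → ℂ))
    (B : Set (IrrCharacter G)) (hB : IsPBlock M B) (χ : IrrCharacter G) (hχ : χ ∈ B)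
    (hcon : classInner (fun n : K => (χ : G → ℂ) n) (θ : K → ℂ) ≠ 0) :
    ∃ (B' : Set (IrrCharacter T)) (ψ : IrrCharacter T), IsPBlock M B' ∧ ψ ∈ B' ∧
      blockHeight p B (χ : G → ℂ) = blockHeight p B' (ψ : T → ℂ) ∧
      ∀ D : Subgroup T, IsDefectGroup p M B' D → IsDefectGroup p M B (D.map T.subtype) := by
  classical
  haveI hPr := isPrime_of_isPModular hM
  subst hT
  set T := inertia K (θ : K → ℂ) with hTdef
  have hKT : K ≤ T :=
    le_inertia K (isClassFunction_of_isCharacter (isCharacter_of_irr θ.2))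
  set b : Set (IrrCharacter K) := blockOf M (θ : K → ℂ) with hbdef
  have hb1 : b = {θ} := blockOf_eq_singleton_of_not_dvd hM hKp θ
  have hb : IsPBlock M b := ⟨θ, rfl⟩
  have hθb : θ ∈ b := by rw [hb1]; rfl
  have hTb : ∀ g : G, g ∈ T ↔ ∀ θ₁ ∈ b, ∀ θ' : IrrCharacter K,
      (∀ n : K, (θ' : K → ℂ) n = (θ₁ : K → ℂ) ⟨g * n * g⁻¹, hK.conj_mem n n.2 g⟩) → θ' ∈ b := by
    intro g
    constructor
    · intro hg θ₁ hθ₁ θ' hθ'
      rw [hb1, Set.mem_singleton_iff] at hθ₁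
      rw [hb1, Set.mem_singleton_iff]
      subst hθ₁
      apply Subtype.ext
      funext n
      rw [hθ' n]
      exact hg n
    · intro h n
      have h1 := h θ hθb (conjIrr K θ g) (fun n => conjIrr_apply K θ g n)
      rw [hb1, Set.mem_singleton_iff] at h1
      rw [← conjIrr_apply K θ g n, h1]
  -- Clifford correspondent
  obtain ⟨ψ₀, hψ₀, hind, hmult⟩ := clifford_correspondence K T hKT (θ : K → ℂ) θ.2
    (fun g => Iff.rfl) (χ : G → ℂ) χ.2 hcon
  set ψ : IrrCharacter T := ⟨ψ₀, hψ₀⟩ with hψdef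
  set B' : Set (IrrCharacter T) := blockOf M (ψ : T → ℂ) with hB'def
  have hB' : IsPBlock M B' := ⟨ψ, rfl⟩
  have hψB' : ψ ∈ B' := mem_blockOf_self ψ
  have hcov : ∃ ψ' ∈ B', ∃ θ' ∈ b,
      classInner (fun n : K => (ψ' : T → ℂ) ⟨(n : G), hKT n.2⟩) (θ' : K → ℂ) ≠ 0 := by
    refine ⟨ψ, hψB', θ, hθb, ?_⟩
    have : (fun n : K => (ψ : T → ℂ) ⟨(n : G), hKT n.2⟩) = resTo K T hKT ψ₀ := rfl
    rw [this, hmult]
    exact hcon
  have hmain := Cfsg.Agent.S4435.result p M hM K b hb T hTb hKT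
  obtain ⟨B₁, hind₁, -, -, hchar⟩ := hmain.1 B' hB' hcov
  have hχB₁ : χ ∈ B₁ := (hchar χ).2 ⟨ψ, hψB', hind.symm⟩
  have hBeq : B₁ = B := by
    rw [FR.isPBlock_eq_blockOf hind₁.2.1 hχB₁, FR.isPBlock_eq_blockOf hB hχ]
  rw [hBeq] at hind₁
  obtain ⟨hdef, hht⟩ := Cfsg.Agent.S4436.result p M hM K b hb T hTb hKT B' hB' hcov B hind₁
  obtain ⟨χ', hχ'B, hχ'eq, hheq⟩ := hht ψ hψB'
  have hχχ' : χ' = χ := by
    apply Subtype.ext
    rw [hχ'eq]
    exact hind
  refine ⟨B', ψ, hB', hψB', ?_, hdef⟩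
  rw [← hχχ']
  exact hheq

end Cfsg.Agent.Lib.H23.HtZ
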