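import Mathlib
import Cfsg.Prelude.Def_Blocks
import Cfsg.Prelude.Def_Local
import Cfsg.Prelude.Def_Solvable
import Cfsg.Agent.Lib.H23.HtZA
import Cfsg.Agent.Lib.H23.Isaacs1129
import Cfsg.Agent.Lib.H23.FullyRamified
import Cfsg.Agent.Lib.H23.BlockEquiv
import Cfsg.Agent.Lib.L0.FongTheta

/-!
# S4439, the case of an invariant character of `O_{p'}(G)` (helper23)

Parametric in the two farmed-out pieces `EXT` and `GRP` (see `tools/blueprints/S4439_sigs.lean`).
-/

set_option autoImplicit false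
set_option linter.style.haveILetI false

namespace Cfsg.Agent.Lib.H23.HtZ

open Cfsg Cfsg.Agent.Lib.H23 Cfsg.Agent.Lib.L0 Cfsg.Agent.Lib.H24
open scoped ComplexConjugate

universe u

/-- The statement of piece `EXT` at universe `u`. -/
def EXTStatement (p : ℕ) : Prop :=
  ∀ (L : Type u) [Group L] [Fintype L] (K : Subgroup L) [hK : K.Normal] [Fintype K],
    (Nat.card K).Coprime p → (∃ k : ℕ, K.index = p ^ k) →
    (∀ a b : L, a * b * a⁻¹ * b⁻¹ ∈ K) → ∀ (θ : IrrCharacter K),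
    (∀ (g : L) (n : K), (θ : K → ℂ) ⟨g * n * g⁻¹, hK.conj_mem n n.2 g⟩ = (θ : K → ℂ) n) →
    ∀ (η : IrrCharacter L), classInner (fun n : K => (η : L → ℂ) n) (θ : K → ℂ) ≠ 0 →
    charDegree (η : L → ℂ) = charDegree (θ : K → ℂ)

/-- The statement of piece `GRP` at universe `u`. -/
def GRPStatement (p : ℕ) : Prop :=
  ∀ (G : Type u) [Group G] [Finite G], IsPSolvable p G → ∀ (P : Sylow p G),
    ∃ L : Subgroup G, L.Normal ∧ pPrimeCore p G ≤ L ∧
      (∃ k : ℕ, (pPrimeCore p G).relIndex L = p ^ k) ∧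
      (∀ a ∈ L, ∀ b ∈ L, a * b * a⁻¹ * b⁻¹ ∈ pPrimeCore p G) ∧
      L.index.factorization p ≤
        ((Subgroup.center (P : Subgroup G)).index).factorization p

variable {G : Type u} [Group G] [Fintype G] {p : ℕ} [hp : Fact p.Prime] {M : Ideal AlgInt}

/-- The height is at most the `p`-part of the degree. -/
theorem blockHeight_le_factorization (B : Set (IrrCharacter G)) (χ : G → ℂ) :
    blockHeight p B χ ≤ (charDegree χ).factorization p := by
  unfold blockHeight
  exact Nat.sub_le _ _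

/-- The `T = G` case. -/
theorem top_case (hEXT : EXTStatement.{u} p) (hGRP : GRPStatement.{u} p)
    (hM : IsPModular p M) (hsolv : IsPSolvable p G)
    (K : Subgroup G) [hK : K.Normal] [Fintype K] (hKdef : K = pPrimeCore p G)
    (θ : IrrCharacter K)
    (hinv : ∀ (g : G) (n : K), (θ : K → ℂ) ⟨g * n * g⁻¹, hK.conj_mem n n.2 g⟩ = (θ : K → ℂ) n)
    (B : Set (IrrCharacter G)) (hB : IsPBlock M B) (P : Subgroup G)
    (hP : IsDefectGroup p M B P) (χ : IrrCharacter G) (hχ : χ ∈ B)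
    (hcon : classInner (fun n : K => (χ : G → ℂ) n) (θ : K → ℂ) ≠ 0) :
    blockHeight p B (χ : G → ℂ) ≤ ((Subgroup.center P).index).factorization p := by
  classical
  haveI hPr := isPrime_of_isPModular hM
  obtain ⟨B₂, hB₂, hmem, -, hdef⟩ :=
    Cfsg.Agent.Lib.L0.FongTheta.fong_block_pSolvable hM hsolv K hKdef θ hinv
  have hχB₂ : χ ∈ B₂ := (hmem χ).2 hcon
  have hBB : B₂ = B := by
    rw [FR.isPBlock_eq_blockOf hB₂ hχB₂, FR.isPBlock_eq_blockOf hB hχ]
  rw [hBB] at hdef
  obtain ⟨S, rfl⟩ := hdef P hP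
  obtain ⟨L, hLn, hKL, ⟨k, hk⟩, hab, hle⟩ := hGRP G hsolv S
  rw [← hKdef] at hKL hk hab
  haveI := hLn
  haveI : Fintype L := Fintype.ofFinite _
  haveI : Fintype (IrrCharacter L) := Fintype.ofFinite _
  refine le_trans (blockHeight_le_factorization B _) (le_trans ?_ hle)
  -- a constituent `η` of `χ_L`
  obtain ⟨η, hη⟩ := exists_constituent_restrict L χ
  -- a constituent `θ''` of `η_K`
  have hKp : ¬ p ∣ Nat.card K := by
    rw [hKdef]; exact Cfsg.Agent.Lib.H22.not_dvd_card_pPrimeCore hp.out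
  have hηK : IsCharacter K (resTo K L hKL (η : L → ℂ)) :=
    isCharacter_resTo K L hKL (isCharacter_of_irr η.2)
  obtain ⟨θ₂, hθ₂, hθ₂ne⟩ := exists_irr_constituent hηK
    (by
      have : resTo K L hKL (η : L → ℂ) 1 = (η : L → ℂ) 1 := rfl
      rw [this]
      exact Cfsg.Agent.Lib.H24.irr_one_ne_zero η)
  set θ'' : IrrCharacter K := ⟨θ₂, hθ₂⟩ with hθ''
  -- `θ''` is a constituent of `χ_K`
  have haa : FR.aa L χ η ≠ 0 := by
    intro h0
    apply hη
    rw [FR.aa_spec, h0]; simp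
  have hcc : FR.cc K L hKL η θ'' ≠ 0 := by
    intro h0
    apply hθ₂ne
    have := FR.cc_spec K L hKL η θ''
    rw [h0] at this
    simpa using this
  have hrr : FR.rr K χ θ'' ≠ 0 := by
    rw [FR.rr_eq_sum K L hKL χ θ'']
    intro h0
    have h1 := (Finset.sum_eq_zero_iff.1 h0) η (Finset.mem_univ η)
    rcases Nat.mul_eq_zero.1 h1 with h | h
    · exact haa h
    · exact hcc h
  have hθeq : θ'' = θ := by
    by_contra hne
    apply hrr
    have h1 := FR.rr_spec K χ θ''
    rw [restrict_eq_smul_of_invariant K (χ : G → ℂ) χ.2 (θ : K → ℂ) θ.2 hcon hinv,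
      classInner_smul_left, irr_classInner_ne θ.2 θ''.2 (fun h => hne (Subtype.ext h.symm)),
      mul_zero] at h1
    exact_mod_cast h1.symm
  -- transport to `↥L`
  haveI : Fintype (K.subgroupOf L) := Fintype.ofFinite _
  haveI hKLn : (K.subgroupOf L).Normal := Subgroup.normal_subgroupOf
  set φ := Subgroup.subgroupOfEquivOfLe hKL with hφ
  set θ' := irrEquiv φ θ with hθ'
  have hcardK : Nat.card (K.subgroupOf L) = Nat.card K := Nat.card_congr φ.toEquiv
  have hcop' : (Nat.card (K.subgroupOf L)).Coprime p := by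
    rw [hcardK]
    exact ((Nat.Prime.coprime_iff_not_dvd hp.out).2 hKp).symm
  have hidx' : ∃ k : ℕ, (K.subgroupOf L).index = p ^ k := ⟨k, hk⟩
  have hab' : ∀ a b : L, a * b * a⁻¹ * b⁻¹ ∈ K.subgroupOf L := by
    intro a b
    rw [Subgroup.mem_subgroupOf]
    exact hab a a.2 b b.2
  have hinv' : ∀ (t : L) (n : K.subgroupOf L),
      (θ' : K.subgroupOf L → ℂ) ⟨t * n * t⁻¹, hKLn.conj_mem (n : L) n.2 t⟩ =
        (θ' : K.subgroupOf L → ℂ) n := by
    intro t n
    rw [hθ', irrEquiv_apply, irrEquiv_apply]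
    have := hinv (t : G) (φ n)
    rw [← this]
    exact congrArg (θ : K → ℂ) (Subtype.ext rfl)
  have hη' : classInner (fun n : K.subgroupOf L => (η : L → ℂ) n)
      (θ' : K.subgroupOf L → ℂ) ≠ 0 := by
    have h1 : (fun n : K.subgroupOf L => (η : L → ℂ) n) = (resTo K L hKL (η : L → ℂ)) ∘ φ := by
      funext n
      exact congrArg (η : L → ℂ) (Subtype.ext rfl)
    have h2 : (θ' : K.subgroupOf L → ℂ) = (θ : K → ℂ) ∘ φ := rfl
    rw [h1, h2, classInner_comp_equiv, ← hθeq]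
    exact hθ₂ne
  have hdeg := hEXT L (K.subgroupOf L) hcop' hidx' hab' θ' hinv' η hη'
  have hdegθ' : charDegree (θ' : K.subgroupOf L → ℂ) = charDegree (θ : K → ℂ) := by
    unfold charDegree
    rw [hθ', irrEquiv_apply, map_one]
  rw [hdegθ'] at hdeg
  have hdvd := degree_dvd_index_mul L χ.2 η.2 hη
  rw [hdeg] at hdvd
  have hθp : ¬ p ∣ charDegree (θ : K → ℂ) := fun h =>
    hKp (h.trans (charDegree_dvd_card (θ : K → ℂ) θ.2))
  have hθ0 : charDegree (θ : K → ℂ) ≠ 0 := fun h => hθp (by rw [h]; exact dvd_zero p)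
  have hL0 : L.index ≠ 0 := Subgroup.index_ne_zero_of_finite
  have h3 := (Nat.factorization_le_iff_dvd
    (fun h => by
      have := Cfsg.Agent.Lib.H24.irr_one_ne_zero χ
      rw [apply_one_eq_charDegree (χ : G → ℂ) χ.2, h] at this
      simp at this)
    (Nat.mul_ne_zero hL0 hθ0)).2 hdvd p
  rw [Nat.factorization_mul hL0 hθ0, Finsupp.add_apply,
    Nat.factorization_eq_zero_of_not_dvd hθp, add_zero] at h3
  exact h3

end Cfsg.Agent.Lib.H23.HtZ
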