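import Mathlib
import Cfsg.Prelude.Def_Blocks
import Cfsg.Prelude.Def_Local
import Cfsg.Prelude.Def_Solvable
import Cfsg.Agent.Lib.H23.HtZB
import Cfsg.Agent.Lib.H23.BlockDefectConj
import Cfsg.Agent.Lib.H23.BlockVanishP
import Cfsg.Agent.Lib.H4.PSolvSub

/-!
# S4439, the induction (helper23)

Heights in `p`-solvable blocks are at most `ν_p |P : Z(P)|`, parametric in the two farmed-out
pieces `EXT` and `GRP` (see `tools/blueprints/S4439_sigs.lean`).
-/

set_option autoImplicit false
set_option linter.style.haveILetI false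

namespace Cfsg.Agent.Lib.H23.HtZ

open Cfsg Cfsg.Agent.Lib.H23 Cfsg.Agent.Lib.L0 Cfsg.Agent.Lib.H24
open scoped ComplexConjugate

universe u

/-- The index of the centre is invariant under isomorphism. -/
theorem center_index_congr {A B : Type*} [Group A] [Group B] (e : A ≃* B) :
    (Subgroup.center A).index = (Subgroup.center B).index := by
  have h : (Subgroup.center A).map (e : A →* B) = Subgroup.center B := by
    ext b
    simp only [Subgroup.mem_map, Subgroup.mem_center_iff]
    constructor
    · rintro ⟨a, ha, rfl⟩ g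
      obtain ⟨g', rfl⟩ := e.surjective g
      have := congrArg e (ha g')
      simpa using this
    · intro hb
      refine ⟨e.symm b, fun g => ?_, by simp⟩
      apply e.injective
      simp [hb (e g)]
  rw [← h, Subgroup.index_map_equiv]

variable {p : ℕ} [hp : Fact p.Prime] {M : Ideal AlgInt}

/-- The induction. -/
theorem height_le_aux (hEXT : EXTStatement.{u} p) (hGRP : GRPStatement.{u} p)
    (hM : IsPModular p M) :
    ∀ n : ℕ, ∀ (G : Type u) [Group G] [Finite G], Nat.card G = n → IsPSolvable p G →
      ∀ B : Set (IrrCharacter G), IsPBlock M B → ∀ P : Subgroup G, IsDefectGroup p M B P →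
      ∀ χ : IrrCharacter G, χ ∈ B →
      blockHeight p B (χ : G → ℂ) ≤ ((Subgroup.center P).index).factorization p := by
  intro n
  induction n using Nat.strong_induction_on with
  | _ n IH =>
  intro G _ _ hn hsolv B hB P hP χ hχ
  classical
  haveI : Fintype G := Fintype.ofFinite G
  haveI hPr := isPrime_of_isPModular hM
  haveI hKn : (pPrimeCore p G).Normal := Cfsg.Agent.Lib.H22.pPrimeCore_normal p
  haveI : Fintype (pPrimeCore p G) := Fintype.ofFinite _
  obtain ⟨θ, hθ⟩ := exists_constituent_restrict (pPrimeCore p G) χ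
  set T := inertia (pPrimeCore p G) (θ : pPrimeCore p G → ℂ) with hT
  haveI : Fintype T := Fintype.ofFinite _
  by_cases hTtop : T = ⊤
  · -- invariant case
    have hinv : ∀ (g : G) (n : pPrimeCore p G),
        (θ : pPrimeCore p G → ℂ) ⟨g * n * g⁻¹, hKn.conj_mem n n.2 g⟩ =
          (θ : pPrimeCore p G → ℂ) n := by
      intro g
      have hg : g ∈ T := by rw [hTtop]; exact Subgroup.mem_top g
      exact hg
    exact top_case hEXT hGRP hM hsolv (pPrimeCore p G) rfl θ hinv B hB P hP χ hχ hθ
  · -- Fong–Reynolds reduction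
    have hKp : ¬ p ∣ Nat.card (pPrimeCore p G) :=
      Cfsg.Agent.Lib.H22.not_dvd_card_pPrimeCore hp.out
    obtain ⟨B', ψ, hB', hψB', hht, hdef⟩ :=
      fr_step hM (pPrimeCore p G) hKp θ T hT B hB χ hχ hθ
    have hB'eq : B' = blockOf M (ψ : T → ℂ) := FR.isPBlock_eq_blockOf hB' hψB'
    obtain ⟨D', hD'⟩ := exists_isDefectGroup hM ψ
    rw [← hB'eq] at hD'
    have hcard : Nat.card T < n := by
      rw [← hn]
      refine lt_of_le_of_ne (Subgroup.card_le_card_group T) fun h => hTtop ?_
      exact Subgroup.eq_top_of_card_eq T h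
    have hIH := IH (Nat.card T) hcard T rfl
      (Cfsg.Agent.Lib.H4.PSolvSub.isPSolvable_subgroup hsolv T) B' hB' D' hD' ψ hψB'
    have hD := hdef D' hD'
    have hBeq : B = blockOf M (χ : G → ℂ) := FR.isPBlock_eq_blockOf hB hχ
    rw [hBeq] at hD hP
    obtain ⟨c, hc⟩ := isDefectGroup_conj hM χ hD hP
    rw [hht]
    refine le_trans hIH (le_of_eq ?_)
    have e1 : D' ≃* D'.map T.subtype :=
      Subgroup.equivMapOfInjective D' T.subtype (Subgroup.subtype_injective T)
    have e2 : (D'.map T.subtype) ≃* (D'.map T.subtype).map (MulAut.conj c).toMonoidHom :=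
      Subgroup.equivMapOfInjective _ (MulAut.conj c).toMonoidHom (MulAut.conj c).injective
    rw [hc]
    rw [center_index_congr (e1.trans e2)]

end Cfsg.Agent.Lib.H23.HtZ
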