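import Mathlib
import Cfsg.Prelude.Def_Blocks
import Cfsg.Prelude.Def_Characters
import Cfsg.Agent.Lib.H23.ExtGeneral
import Cfsg.Agent.Lib.H23.FullyRamified
import Cfsg.Agent.Lib.H23.DegreeDvd
import Cfsg.Agent.Lib.H24.CentralExt
import Cfsg.Agent.Lib.H24.CentralMod
import Cfsg.Agent.Lib.H24.GlaubCyclic1
import Cfsg.Agent.Lib.L0.CharOps

/-!
# S4439 piece EXT (helper23): characters over an invariant character of a normal `p'`-subgroup
with abelian `p`-quotient have the same degree.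
-/

set_option autoImplicit false
set_option linter.style.haveILetI false

namespace Cfsg.Agent.Lib.H23.HtZ

open Cfsg Cfsg.Agent.Lib.H23 Cfsg.Agent.Lib.L0 Cfsg.Agent.Lib.H24
open scoped ComplexConjugate

/-- EXT: `K ⊴ L` a `p'`-group with `L/K` an abelian `p`-group, `θ ∈ Irr(K)` `L`-invariant.  Then
every `η ∈ Irr(L)` over `θ` has `η(1) = θ(1)`. -/
theorem charDegree_eq_of_abelian_coprime {L : Type*} [Group L] [Fintype L] (p : ℕ) [Fact p.Prime]
    (K : Subgroup L) [hK : K.Normal] [Fintype K] (hKp : (Nat.card K).Coprime p)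
    (hidx : ∃ k : ℕ, K.index = p ^ k) (hab : ∀ a b : L, a * b * a⁻¹ * b⁻¹ ∈ K)
    (θ : IrrCharacter K)
    (hinv : ∀ (g : L) (n : K), (θ : K → ℂ) ⟨g * n * g⁻¹, hK.conj_mem n n.2 g⟩ = (θ : K → ℂ) n)
    (η : IrrCharacter L)
    (hη : classInner (fun n : K => (η : L → ℂ) n) (θ : K → ℂ) ≠ 0) :
    charDegree (η : L → ℂ) = charDegree (θ : K → ℂ) := by
  classical
  obtain ⟨k, hk⟩ := hidx
  have hcopK : ∀ m : ℕ, m ∣ Nat.card K → Nat.Coprime (p ^ k) m := by
    intro m hm
    apply Nat.Coprime.pow_left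
    exact (Nat.Coprime.coprime_dvd_left hm hKp).symm
  have hθ1 : (θ : K → ℂ) 1 = (charDegree (θ : K → ℂ) : ℂ) :=
    apply_one_eq_charDegree (θ : K → ℂ) θ.2
  have hcop : Nat.Coprime K.index (Cfsg.detOrder (θ : K → ℂ) * charDegree (θ : K → ℂ)) := by
    rw [hk]
    apply Nat.Coprime.mul_right
    · exact hcopK _ (Cfsg.Agent.Lib.H24.Glaub.detOrder_dvd_card (isCharacter_of_irr θ.2))
    · exact hcopK _ (charDegree_dvd_card (θ : K → ℂ) θ.2)
  obtain ⟨π, ⟨hπ, hπres, -⟩, -⟩ := exists_unique_extension_coprime K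
    (θ : K → ℂ) θ.2 hinv (charDegree (θ : K → ℂ)) hθ1 hcop
  have hres : (fun y : K => π y) = (θ : K → ℂ) := funext hπres
  obtain ⟨β, hβ, hβ1, hηeq⟩ := gallagher_exists K π hπ (by rw [hres]; exact θ.2)
    (η : L → ℂ) η.2 (by rw [hres]; exact hη)
  have hβcf := isClassFunction_of_isCharacter (isCharacter_of_irr hβ)
  rw [frobenius_reciprocity K _ β hβcf] at hβ1
  have hone : IsIrrCharacter K (1 : K → ℂ) := Cfsg.Agent.Lib.L0.isIrrCharacter_one
  have hβ2 : classInner (fun n : K => β n) (1 : K → ℂ) ≠ 0 := by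
    intro h0
    apply hβ1
    rw [← classInner_conj_symm]
    have : (fun _ : K => (1 : ℂ)) = (1 : K → ℂ) := rfl
    rw [this, h0, map_zero]
  have hsm := restrict_eq_smul_of_invariant K β hβ (1 : K → ℂ) hone hβ2 (fun _ _ => rfl)
  have hβtriv : ∀ x : L, x ∈ K → β x = β 1 := by
    intro x hx
    have h3 := congrFun hsm ⟨x, hx⟩
    have h4 := congrFun hsm 1
    simp only [Pi.smul_apply, Pi.one_apply, smul_eq_mul, mul_one] at h3 h4
    rw [h3]
    exact h4.symm
  have hβlin : β 1 = 1 := linear_of_commutator_ker hβ (fun a b => hβtriv _ (hab a b))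
  apply charDegree_eq_of_apply_one
  rw [hηeq, Pi.mul_apply, hβlin, one_mul]
  have := hπres 1
  rw [hθ1] at this
  exact this

end Cfsg.Agent.Lib.H23.HtZ
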