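import Mathlib
import Cfsg.Prelude.Def_Blocks
import Cfsg.Agent.Lib.H23.BlockExtFirstMain
import Cfsg.Agent.Lib.H23.ContribM
import Cfsg.Agent.Lib.L0.BlockHeight

/-!
# S4640 piece (NV): non-vanishing on the sections of the elements of an abelian defect group
(helper23)

`B` a block with an abelian defect group `P`, `χ ∈ B`, `u ∈ P`: some `p`-regular `s ∈ C_G(P)` has
`χ (u * s) ≠ 0`.  (A root of `B` in `C_G(P)` has the same defect, `u` is central in `C_G(P)`, and
the contribution of the major subsection between a height-zero character and `χ` does not vanish.)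
-/

set_option autoImplicit false

namespace Cfsg.Agent.Lib.H23.KK

open Cfsg Cfsg.Agent.Lib.H23 Cfsg.Agent.Lib.H23.Contrib
open scoped ComplexConjugate

/-- (NV) non-vanishing of the members of a block with abelian defect group `P` on `u * s`,
`u ∈ P`, for a suitable `p`-regular `s` centralising `P`. -/
theorem exists_pRegular_apply_ne_zero {G : Type*} [Group G] [Fintype G] (p : ℕ) [Fact p.Prime]
    (M : Ideal Cfsg.AlgInt) (hM : Cfsg.IsPModular p M)
    (B : Set (Cfsg.IrrCharacter G)) (hB : Cfsg.IsPBlock M B) (P : Subgroup G)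
    (hPD : Cfsg.IsDefectGroup p M B P) (hPab : ∀ x ∈ P, ∀ y ∈ P, x * y = y * x)
    (χ : Cfsg.IrrCharacter G) (hχ : χ ∈ B) (u : G) (hu : u ∈ P) :
    ∃ s : G, ¬ p ∣ orderOf s ∧ s ∈ Subgroup.centralizer (P : Set G) ∧
      (χ : G → ℂ) (u * s) ≠ 0 := by
  classical
  have hPr := isPrime_of_isPModular hM
  obtain ⟨χ₀, rfl⟩ := hB
  let _ : Fintype (Subgroup.centralizer (P : Set G)) := Fintype.ofFinite _
  let _ : Fintype (Subgroup.normalizer (P : Set G)) := Fintype.ofFinite _
  let _ : Fintype ↥((Subgroup.centralizer (P : Set G)).subgroupOf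
    (Subgroup.normalizer (P : Set G))) := Fintype.ofFinite _
  let _ : Fintype (IrrCharacter (Subgroup.centralizer (P : Set G))) := Fintype.ofFinite _
  let _ : Fintype (IrrCharacter G) := Fintype.ofFinite _
  have hPL : P ≤ Subgroup.centralizer (P : Set G) := fun x hx =>
    Subgroup.mem_centralizer_iff.2 (fun y hy => hPab y hy x hx)
  obtain ⟨θ, hθD, hθind⟩ := exists_root P (Subgroup.centralizer (P : Set G))
    (Subgroup.normalizer (P : Set G)) hM rfl hPL le_rfl
    (Subgroup.centralizer_le_normalizer _) χ₀ hPD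
  -- equal defects
  have hcard1 := card_defectGroup hM χ₀ P hPD
  have hcard2 := card_defectGroup hM θ _ hθD
  have hcardeq : Nat.card (P.subgroupOf (Subgroup.centralizer (P : Set G))) = Nat.card P :=
    Nat.card_congr (Subgroup.subgroupOfEquivOfLe hPL).toEquiv
  have hp : p.Prime := Fact.out
  have hdef : blockDefect p (blockOf M (θ : Subgroup.centralizer (P : Set G) → ℂ)) =
      blockDefect p (blockOf M (χ₀ : G → ℂ)) := by
    apply Nat.pow_right_injective hp.two_le
    show p ^ _ = p ^ _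
    rw [← hcard1, ← hcard2, hcardeq]
  -- the central element
  set z : Subgroup.centralizer (P : Set G) := ⟨u, hPL hu⟩ with hz
  have hzc : z ∈ Subgroup.center (Subgroup.centralizer (P : Set G)) := by
    rw [Subgroup.mem_center_iff]
    intro l
    apply Subtype.ext
    have := Subgroup.mem_centralizer_iff.1 l.2 u hu
    simpa using this.symm
  have hzp : ∃ k : ℕ, orderOf z = p ^ k := by
    have hPp : IsPGroup p P := isPGroup_of_isDefectGroup hPD
    obtain ⟨k, hk⟩ := hPp ⟨u, hu⟩
    have h1 : orderOf u ∣ p ^ k := by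
      apply orderOf_dvd_of_pow_eq_one
      have := congrArg Subtype.val hk
      simpa using this
    have h2 : orderOf z = orderOf u := by
      rw [← Subgroup.orderOf_coe]
    rw [h2]
    obtain ⟨k', -, hk'⟩ := (Nat.dvd_prime_pow hp).1 h1
    exact ⟨k', hk'⟩
  obtain ⟨ψ₀, hψ₀B, hψ₀0⟩ :=
    Cfsg.Agent.Lib.L0.BlockHeight.exists_height_zero (p := p) (M := M) χ₀
  have hne := contrib_ne_zero_of_height_zero (Subgroup.centralizer (P : Set G)) θ hM hθind hdef
    hzc hzp hψ₀B hψ₀0 hχ
  by_contra hcon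
  push Not at hcon
  apply hne
  unfold contrib
  apply mul_eq_zero_of_right
  apply Finset.sum_eq_zero
  intro s _
  split_ifs with hs
  · rfl
  · have h1 := hcon (s : G) (by rwa [Subgroup.orderOf_coe]) s.2
    have h2 : ((z * s : Subgroup.centralizer (P : Set G)) : G) = u * (s : G) := rfl
    rw [h2, h1, map_zero, mul_zero]

/-- (NV) in the exact signature of `tools/blueprints/S4640_sigs.lean`. -/
theorem exists_apply_ne_zero {G : Type*} [Group G] [Fintype G] {p : ℕ} [Fact p.Prime]
    {M : Ideal Cfsg.AlgInt} (hM : Cfsg.IsPModular p M) (B : Set (Cfsg.IrrCharacter G))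
    (hB : Cfsg.IsPBlock M B) (P : Subgroup G) (hPD : Cfsg.IsDefectGroup p M B P)
    (hPab : ∀ x ∈ P, ∀ y ∈ P, x * y = y * x) (χ : Cfsg.IrrCharacter G) (hχ : χ ∈ B) (u : G)
    (hu : u ∈ P) : ∃ s : G, ¬ p ∣ orderOf s ∧ (χ : G → ℂ) (u * s) ≠ 0 := by
  obtain ⟨s, hs, -, hne⟩ := exists_pRegular_apply_ne_zero p M hM B hB P hPD hPab χ hχ u hu
  exact ⟨s, hs, hne⟩

end Cfsg.Agent.Lib.H23.KK
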