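import Cfsg.Agent.Lib.H23.KRRank

/-!
S4651 piece (K1 RANKTR), exact sig of `tools/blueprints/S4651_sigs.lean`: lead's trace formula
`sum_inner0_eq_blockRank` for a union of blocks.  Wrapper of the general form in `Cfsg.Agent.Lib.H23.KRRank`
(the namespace is `KRX` because `Cfsg.Agent.Lib.H23.KR.sum_inner0_eq_blockRank_of_closed` is the general form there).
-/

set_option autoImplicit false

namespace Cfsg.Agent.Lib.H23.KRX

open Cfsg Cfsg.Agent.Lib.H23 Cfsg.Agent.Lib.L0.BlockRankTrace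
open scoped Classical ComplexConjugate

variable {K : Type*} [Group K] [Fintype K] {p : ℕ} {M : Ideal AlgInt}

/-- (K1 RANKTR) `sum_inner0_eq_blockRank` for a union of blocks. -/
theorem sum_inner0_eq_blockRank_of_closed (hM : IsPModular p M) [Fintype (IrrCharacter K)]
    (U : Set (IrrCharacter K)) (hU : ∀ ζ ∈ U, blockOf M (ζ : K → ℂ) ⊆ U) :
    ∑ ξ ∈ Finset.univ.filter (· ∈ U), inner0 p (ξ : K → ℂ) (ξ : K → ℂ) = (blockRank p U : ℂ) :=
  Cfsg.Agent.Lib.H23.KR.sum_inner0_eq_blockRank_of_closed hM U (fun ζ hζ _ h => hU ζ hζ h)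

end Cfsg.Agent.Lib.H23.KRX
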