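import Cfsg.Agent.Lib.H2.KRDEFS
import Cfsg.Agent.Lib.H23.BlockEquiv
import Cfsg.Agent.Lib.H23.BlockHom
import Cfsg.Agent.Lib.L0.HarrisKnorr

/-!
S4651 piece (K6 TRS), exact sig of `tools/blueprints/S4651_sigs.lean`: transitivity of block induction, as an equality
of sets of characters: for `L ≤ H ≤ G`, the characters of `L.subgroupOf H` in blocks inducing (inside `↥H`) a block of `H`
that induces `b`, are the transports of the characters of `L` in blocks inducing `b`.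
-/

set_option autoImplicit false

namespace Cfsg.Agent.Lib.H23.KR

open Cfsg Cfsg.Agent.Lib.H2.KR Cfsg.Agent.Lib.H23
open scoped Classical ComplexConjugate

variable {G : Type*} [Group G] [Fintype G] {p : ℕ} {M : Ideal AlgInt}

/-- a block containing `ζ` is the block of `ζ`. -/
theorem eq_blockOf_of_mem_of_isPBlock {K : Type*} [Group K] [Fintype K] [hP : M.IsPrime]
    {β : Set (IrrCharacter K)} (hβ : IsPBlock M β) {ζ : IrrCharacter K} (hζ : ζ ∈ β) :
    β = blockOf M (ζ : K → ℂ) := by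
  obtain ⟨ζ₀, rfl⟩ := hβ
  exact (blockOf_eq_of_mem hζ).symm

/-- (K6 TRS) transitivity of block induction, as an equality of sets of characters. -/
theorem pull_bsub_eq (hM : IsPModular p M) (b : Set (IrrCharacter G)) (hb : IsPBlock M b)
    (L H : Subgroup G) (hLH : L ≤ H)
    (hdef : ∀ ξ₀ : IrrCharacter (L.subgroupOf H), ∃ ζ₁ : IrrCharacter H,
      IsInducedBlock M (L.subgroupOf H) (blockOf M (ξ₀ : L.subgroupOf H → ℂ))
        (blockOf M (ζ₁ : H → ℂ))) :
    pull M (bsub M H b) (L.subgroupOf H) =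
      (irrEquiv (Subgroup.subgroupOfEquivOfLe hLH)) '' (bsub M L b) := by
  have hPr := isPrime_of_isPModular hM
  let _ : Fintype L := Fintype.ofFinite _
  let _ : Fintype H := Fintype.ofFinite _
  let _ : Fintype ↥(L.subgroupOf H) := Fintype.ofFinite _
  obtain ⟨χ, rfl⟩ := hb
  set e := Subgroup.subgroupOfEquivOfLe hLH with he
  ext ψ
  constructor
  · rintro ⟨b', β, hψ, hind, hβU⟩
    have hb' : b' = blockOf M (ψ : ↥(L.subgroupOf H) → ℂ) :=
      eq_blockOf_of_mem_of_isPBlock hind.1 hψ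
    obtain ⟨ζ, hβ⟩ := hind.2.1
    have hζβ : ζ ∈ β := by rw [hβ]; exact mem_blockOf_self ζ
    obtain ⟨β₂, hζβ₂, hind₂⟩ := hβU hζβ
    have hβ₂ : β₂ = blockOf M (ζ : H → ℂ) := eq_blockOf_of_mem_of_isPBlock hind₂.1 hζβ₂
    refine ⟨(irrEquiv e).symm ψ, ?_, (irrEquiv e).apply_symm_apply ψ⟩
    refine ⟨blockOf M (((irrEquiv e).symm ψ : IrrCharacter L) : L → ℂ), mem_blockOf_self _, ?_⟩
    refine isInducedBlock_trans L H hLH ((irrEquiv e).symm ψ) ζ χ ?_ ?_
    · rw [(irrEquiv e).apply_symm_apply ψ, ← hb', ← hβ]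
      exact hind
    · rw [← hβ₂]
      exact hind₂
  · rintro ⟨θ, ⟨β', hθβ', hind'⟩, rfl⟩
    have hβ' : β' = blockOf M (θ : L → ℂ) := eq_blockOf_of_mem_of_isPBlock hind'.1 hθβ'
    obtain ⟨ζ₁, h1⟩ := hdef (irrEquiv e θ)
    have h3 : IsInducedBlock M L (blockOf M (θ : L → ℂ)) (blockOf M (χ : G → ℂ)) := by
      rw [← hβ']; exact hind'
    have h2 := Cfsg.Agent.Lib.L0.HarrisKnorr.isInducedBlock_of_trans L H hLH θ ζ₁ χ h1 h3
    refine ⟨blockOf M ((irrEquiv e θ : IrrCharacter ↥(L.subgroupOf H)) : ↥(L.subgroupOf H) → ℂ),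
      blockOf M (ζ₁ : H → ℂ), mem_blockOf_self _, h1, ?_⟩
    intro ζ' hζ'
    exact ⟨blockOf M (ζ₁ : H → ℂ), hζ', h2⟩

end Cfsg.Agent.Lib.H23.KR
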