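import Cfsg.Agent.Lib.H23.KYAINT
import Cfsg.Agent.Lib.H23.ContribN
import Cfsg.Agent.Lib.H23.ContribP
import Cfsg.Agent.Lib.H23.ContribT
import Cfsg.Agent.Lib.H8.KXABS
import Cfsg.Agent.Lib.H9.KXTEQ
import Cfsg.Agent.Lib.H25.KXUL
import Cfsg.Agent.Lib.H22.KXJ

/-!
# `k(B) ≤ l(b) + 3` for a major 2-subsection gives `k(B) ≤ 2^d` (helper23, S4575; proof by the lead)
-/

set_option autoImplicit false

namespace Cfsg.Agent.Lib.H23.KX

open Cfsg MonoidAlgebra Cfsg.Agent.Lib.H23 Cfsg.Agent.Lib.H24 Cfsg.Agent.Lib.L0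
  Cfsg.Agent.Lib.H23.Contrib Cfsg.Agent.Lib.H23.KY
open scoped ComplexConjugate

theorem card_le_two_pow_of_card_le_rank_add_three {G : Type*} [Group G] [Finite G]
    (M : Ideal AlgInt) (hM : IsPModular 2 M) (B : Set (IrrCharacter G))
    (D : Subgroup G) (hD : IsDefectGroup 2 M B D) (z : G) (hzD : z ∈ D)
    (hzc : ∀ d ∈ D, d * z = z * d)
    (b : Set (IrrCharacter ↥(Subgroup.centralizer ({z} : Set G))))
    (hb : IsInducedBlock M (Subgroup.centralizer ({z} : Set G)) b B)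
    (hbD : IsDefectGroup 2 M b (D.subgroupOf (Subgroup.centralizer ({z} : Set G))))
    (hk : Nat.card B ≤ blockRank 2 b + 3) : Nat.card B ≤ 2 ^ blockDefect 2 B := by
  classical
  haveI := Fintype.ofFinite G
  haveI := Fintype.ofFinite (IrrCharacter G)
  have hp : (2 : ℕ).Prime := Nat.prime_two
  haveI hPr := isPrime_of_isPModular hM
  set H : Subgroup G := Subgroup.centralizer ({z} : Set G) with hH
  haveI : Fintype H := Fintype.ofFinite H
  haveI : Fintype (IrrCharacter H) := Fintype.ofFinite _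
  obtain ⟨ξ₁, hξ₁⟩ := hb.1
  subst hξ₁
  obtain ⟨χ₁, hχ₁⟩ := hb.2.1
  -- `D ≤ H`
  have hDH : D ≤ H := by
    intro x hx
    rw [hH, Subgroup.mem_centralizer_singleton_iff]
    exact hzc x hx
  -- the defects agree
  have hdef : blockDefect 2 (blockOf M (ξ₁ : H → ℂ)) = blockDefect 2 B := by
    have h1 : Nat.card D = 2 ^ blockDefect 2 B := by
      have := card_defectGroup hM χ₁ D (hχ₁ ▸ hD)
      rw [← hχ₁] at this
      exact this
    have h2 := card_defectGroup hM ξ₁ (D.subgroupOf H) hbD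
    have h3 : Nat.card (D.subgroupOf H) = Nat.card D :=
      Nat.card_congr (Subgroup.subgroupOfEquivOfLe hDH).toEquiv
    exact Nat.pow_right_injective hp.two_le (h2.symm.trans (h3.trans h1))
  -- the central element
  have hzH : z ∈ H := Subgroup.mem_centralizer_singleton_iff.2 rfl
  set y : H := ⟨z, hzH⟩ with hydef
  have hyc : y ∈ Subgroup.center H := by
    rw [Subgroup.mem_center_iff]
    intro g
    apply Subtype.ext
    simp only [Subgroup.coe_mul, hydef]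
    exact Subgroup.mem_centralizer_singleton_iff.1 g.2
  have hzord : ∃ k : ℕ, orderOf z = 2 ^ k := by
    obtain ⟨k, hk⟩ := (isPGroup_of_isDefectGroup hD) ⟨z, hzD⟩
    have h1 : z ^ 2 ^ k = 1 := by
      have := congrArg Subtype.val hk
      simpa using this
    obtain ⟨k', -, hk'⟩ := (Nat.dvd_prime_pow hp).1 (orderOf_dvd_of_pow_eq_one h1)
    exact ⟨k', hk'⟩
  have hyord : ∃ k : ℕ, orderOf y = 2 ^ k := by
    obtain ⟨k, hk⟩ := hzord
    exact ⟨k, by rw [← hk, ← Subgroup.orderOf_coe]⟩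
  have hC : ∀ g : G, g * (y : G) * g⁻¹ = (y : G) → g ∈ H := by
    intro g hg
    have h1 : g * z * g⁻¹ = z := hg
    have h2 : g * z = z * g := mul_inv_eq_iff_eq_mul.1 h1
    exact Subgroup.mem_centralizer_singleton_iff.2 h2
  set m := Nat.card G with hm
  haveI : NeZero m := ⟨Nat.card_pos.ne'⟩
  set d := blockDefect 2 B with hd
  set l := blockRank 2 (blockOf M (ξ₁ : H → ℂ)) with hl
  set bb := blockOf M (ξ₁ : H → ℂ) with hbb
  -- data for the powers of `y`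
  have hord_dvd : orderOf y ∣ m := by
    rw [hm]
    exact (orderOf_dvd_natCard y).trans (Subgroup.card_subgroup_dvd_card H)
  have hdata : ∀ k : (ZMod m)ˣ,
      y ^ (k : ZMod m).val ∈ Subgroup.center H ∧
      (∃ j : ℕ, orderOf (y ^ (k : ZMod m).val) = 2 ^ j) ∧
      ∀ g : G, g * ((y ^ (k : ZMod m).val : H) : G) * g⁻¹ = ((y ^ (k : ZMod m).val : H) : G) →
        g ∈ H := by
    intro k
    exact pow_central_data H hyc hyord hp hC
      (Nat.Coprime.coprime_dvd_right hord_dvd (ZMod.val_coe_unit_coprime k))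
  -- the row sums
  set r : (ZMod m)ˣ → IrrCharacter G → ℝ := fun k χ => ∑ ψ : IrrCharacter G,
    ‖contrib 2 H bb (y ^ (k : ZMod m).val) (χ : G → ℂ) (ψ : G → ℂ)‖ ^ 2 with hr
  have hr0 : ∀ k χ, 0 ≤ r k χ := fun k χ => Finset.sum_nonneg fun ψ _ => by positivity
  have hcr : ∀ (k : (ZMod m)ˣ) (χ : IrrCharacter G),
      contrib 2 H bb (y ^ (k : ZMod m).val) (χ : G → ℂ) (χ : G → ℂ) = ((r k χ : ℝ) : ℂ) :=
    fun k χ => contrib_self_eq_sum H hM (hdata k).1 (hdata k).2.1 (hdata k).2.2 ξ₁ χ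
  have hsumr : ∀ k : (ZMod m)ˣ, ∑ χ : IrrCharacter G, r k χ = (l : ℝ) :=
    fun k => sum_normSq_contrib H _ _ hM (hdata k).1 (hdata k).2.1 (hdata k).2.2 ξ₁ rfl
  have hrout : ∀ (k : (ZMod m)ˣ) (χ : IrrCharacter G), χ ∉ B → r k χ = 0 := by
    intro k χ hχ
    have h1 := Cfsg.Agent.Lib.H9.KX.contrib_eq_zero_of_not_mem hM H hb (y ^ (k : ZMod m).val)
      (hdata k).1 (hdata k).2.1 (hdata k).2.2 χ hχ (χ : G → ℂ)
    have h2 := hcr k χ
    rw [h1] at h2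
    exact_mod_cast h2.symm
  have hrle : ∀ (k : (ZMod m)ˣ) (χ : IrrCharacter G), r k χ ≤ 1 := fun k χ =>
    (Cfsg.Agent.Lib.H25.KX.sum_normSq_contrib_row_le_one hM H ξ₁ (hdata k).1 (hdata k).2.1
      (hdata k).2.2 χ).1
  set φ : ℝ := (Fintype.card (ZMod m)ˣ : ℝ) with hφ
  have hφpos : 0 < φ := by
    rw [hφ]
    exact_mod_cast Fintype.card_pos
  have h2d : (0 : ℝ) < (2 : ℝ) ^ d := by positivity
  -- the set of characters of `B`
  set K : Finset (IrrCharacter G) := Finset.univ.filter (· ∈ B) with hK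
  have hcardB : Nat.card B = K.card := by
    rw [Nat.card_eq_fintype_card, hK, Fintype.card_subtype]
  have hmemK : ∀ χ, χ ∈ K ↔ χ ∈ B := fun χ => by rw [hK, Finset.mem_filter]; simp
  -- the integers `A χ`
  have hA : ∀ χ : IrrCharacter G, ∃ A : ℤ, χ ∈ B →
      ((∑ k : (ZMod m)ˣ, (2 : ℝ) ^ d * r k χ = φ * (A : ℝ)) ∧
      (2 : ℤ) ^ blockHeight 2 B (χ : G → ℂ) ∣ A ∧
      (1 ≤ blockHeight 2 B (χ : G → ℂ) → (2 : ℤ) ^ (blockHeight 2 B (χ : G → ℂ) + 1) ∣ A) ∧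
      (blockHeight 2 B (χ : G → ℂ) = 0 → Odd A)) := by
    intro χ
    by_cases hχ : χ ∈ B
    · obtain ⟨A, hA1, hA2, hA3, hA4⟩ := exists_int_sum_units_contrib_self H hM ξ₁ hb hdef y hyc
        hyord hχ m hm
      refine ⟨A, fun _ => ⟨?_, hA2, hA3, hA4⟩⟩
      rw [← hbb, ← hd] at hA1
      simp only [hcr] at hA1
      have h3 : ((∑ k : (ZMod m)ˣ, (2 : ℝ) ^ d * r k χ : ℝ) : ℂ) = ((φ * (A : ℝ) : ℝ) : ℂ) := by
        push_cast
        push_cast at hA1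
        exact hA1
      exact_mod_cast h3
    · exact ⟨0, fun h => absurd h hχ⟩
  choose A hA using hA
  -- (T=)
  have hT : ∑ χ ∈ K, A χ = (l : ℤ) * 2 ^ d := by
    have e1 : φ * ∑ χ ∈ K, (A χ : ℝ) = φ * ((l : ℝ) * (2 : ℝ) ^ d) := by
      rw [Finset.mul_sum]
      have : ∀ χ ∈ K, φ * (A χ : ℝ) = ∑ k : (ZMod m)ˣ, (2 : ℝ) ^ d * r k χ :=
        fun χ hχ => ((hA χ ((hmemK χ).1 hχ)).1).symm
      rw [Finset.sum_congr rfl this, Finset.sum_comm]
      have h2 : ∀ k : (ZMod m)ˣ, ∑ χ ∈ K, (2 : ℝ) ^ d * r k χ = (2 : ℝ) ^ d * (l : ℝ) := by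
        intro k
        rw [← Finset.mul_sum, ← hsumr k, hK, Finset.sum_filter]
        congr 1
        refine Finset.sum_congr rfl fun χ _ => ?_
        split_ifs with h
        · rfl
        · exact (hrout k χ h).symm
      rw [Finset.sum_congr rfl fun k _ => h2 k, Finset.sum_const, Finset.card_univ, nsmul_eq_mul]
      ring
    have e2 : ∑ χ ∈ K, (A χ : ℝ) = (l : ℝ) * (2 : ℝ) ^ d := mul_left_cancel₀ hφpos.ne' e1
    have e3 : ((∑ χ ∈ K, A χ : ℤ) : ℝ) = (((l : ℤ) * 2 ^ d : ℤ) : ℝ) := by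
      push_cast
      exact e2
    exact_mod_cast e3
  -- positivity
  have hpos : ∀ χ ∈ K, 0 < A χ := by
    intro χ hχ
    have hχB := (hmemK χ).1 hχ
    have h1 := card_units_mul_pow_le_sum_contrib_self hM H ξ₁ hb hdef y hyc hyord hC hχB m hm
    have h2 : ∑ k : (ZMod m)ˣ, ((2 : ℕ) : ℝ) ^ blockDefect 2 B * ∑ ψ : IrrCharacter G,
        ‖contrib 2 H (blockOf M (ξ₁ : H → ℂ)) (y ^ (k : ZMod m).val) (χ : G → ℂ) (ψ : G → ℂ)‖ ^ 2 =
        φ * (A χ : ℝ) := by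
      rw [← (hA χ hχB).1]
      refine Finset.sum_congr rfl fun k _ => ?_
      rw [Nat.cast_ofNat]
    rw [h2] at h1
    have h3 : (0 : ℝ) < φ * (A χ : ℝ) := lt_of_lt_of_le (by positivity) h1
    have h4 : (0 : ℝ) < (A χ : ℝ) := by
      by_contra hneg
      have : φ * (A χ : ℝ) ≤ 0 := mul_nonpos_of_nonneg_of_nonpos hφpos.le (not_lt.1 hneg)
      linarith
    exact_mod_cast h4
  -- (LT)
  have hlt : 2 ≤ K.card → ∀ χ ∈ K, A χ < 2 ^ d := by
    intro h2K χ hχ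
    have hχB := (hmemK χ).1 hχ
    -- a partner with nonvanishing contribution
    have hex : ∃ ψ : IrrCharacter G, ψ ≠ χ ∧ ∀ k : (ZMod m)ˣ,
        contrib 2 H bb (y ^ (k : ZMod m).val) (χ : G → ℂ) (ψ : G → ℂ) ≠ 0 := by
      by_cases h0 : blockHeight 2 B (χ : G → ℂ) = 0
      · obtain ⟨ψ, hψK, hψne⟩ : ∃ ψ ∈ K, ψ ≠ χ := by
          by_contra hcon
          push Not at hcon
          have : K ⊆ {χ} := fun ψ hψ => Finset.mem_singleton.2 (hcon ψ hψ)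
          have := Finset.card_le_card this
          rw [Finset.card_singleton] at this
          omega
        exact ⟨ψ, hψne, fun k => contrib_ne_zero_of_height_zero H ξ₁ hM hb hdef (hdata k).1
          (hdata k).2.1 hχB h0 ((hmemK ψ).1 hψK)⟩
      · obtain ⟨ψ₀, hψ₀B, hψ₀0⟩ :=
          Cfsg.Agent.Lib.L0.BlockHeight.exists_height_zero (p := 2) (M := M) χ₁
        rw [← hχ₁] at hψ₀B hψ₀0
        refine ⟨ψ₀, fun he => h0 (he ▸ hψ₀0), fun k => ?_⟩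
        have h1 := contrib_ne_zero_of_height_zero H ξ₁ hM hb hdef (hdata k).1 (hdata k).2.1 hψ₀B
          hψ₀0 hχB
        have h2 := contrib_conj H bb (y ^ (k : ZMod m).val) hM (hdata k).1 ξ₁ rfl ψ₀ χ
        rw [← h2]
        exact (map_ne_zero _).2 h1
    obtain ⟨ψ, hψne, hψ⟩ := hex
    have hrlt : ∀ k : (ZMod m)ˣ, r k χ < 1 := fun k =>
      (Cfsg.Agent.Lib.H25.KX.sum_normSq_contrib_row_le_one hM H ξ₁ (hdata k).1 (hdata k).2.1
        (hdata k).2.2 χ).2 ψ hψne (hψ k)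
    have h1 : ∑ k : (ZMod m)ˣ, (2 : ℝ) ^ d * r k χ < ∑ _k : (ZMod m)ˣ, (2 : ℝ) ^ d := by
      refine Finset.sum_lt_sum_of_nonempty Finset.univ_nonempty fun k _ => ?_
      have := hrlt k
      nlinarith
    rw [(hA χ hχB).1, Finset.sum_const, Finset.card_univ, nsmul_eq_mul] at h1
    have h2 : (A χ : ℝ) < (2 : ℝ) ^ d := lt_of_mul_lt_mul_left h1 hφpos.le
    have h3 : ((A χ : ℤ) : ℝ) < (((2 : ℤ) ^ d : ℤ) : ℝ) := by
      push_cast
      exact h2
    exact_mod_cast h3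
  -- (J)
  have hJ : ∀ χ₀ ∈ K, blockHeight 2 B (χ₀ : G → ℂ) = 0 →
      ∑ ψ ∈ K.erase χ₀, (4 : ℤ) ^ blockHeight 2 B (ψ : G → ℂ) ≤ A χ₀ * (2 ^ d - A χ₀) := by
    intro χ₀ hχ₀ h0
    have hχ₀B := (hmemK χ₀).1 hχ₀
    have hj := Cfsg.Agent.Lib.H22.KX.sum_sq_pow_height_le hM H ξ₁ hb hdef y hyc hyord hC hχ₀B h0 m hm
    have hS : ∑ k : (ZMod m)ˣ, ((2 : ℕ) : ℝ) ^ blockDefect 2 B * ∑ ψ : IrrCharacter G,
        ‖contrib 2 H (blockOf M (ξ₁ : H → ℂ)) (y ^ (k : ZMod m).val) (χ₀ : G → ℂ) (ψ : G → ℂ)‖ ^ 2 =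
        φ * (A χ₀ : ℝ) := by
      rw [← (hA χ₀ hχ₀B).1]
      refine Finset.sum_congr rfl fun k _ => ?_
      rw [Nat.cast_ofNat]
    rw [hS] at hj
    have hset : Finset.univ.filter (fun ψ : IrrCharacter G => ψ ∈ B ∧ ψ ≠ χ₀) = K.erase χ₀ := by
      ext ψ
      rw [Finset.mem_filter, Finset.mem_erase, hmemK]
      constructor
      · rintro ⟨-, h1, h2⟩; exact ⟨h2, h1⟩
      · rintro ⟨h1, h2⟩; exact ⟨Finset.mem_univ _, h2, h1⟩
    rw [hset] at hj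
    have e1 : φ * (φ * ∑ ψ ∈ K.erase χ₀, (((2 : ℕ) : ℝ) ^ blockHeight 2 B (ψ : G → ℂ)) ^ 2) ≤
        φ * (φ * ((A χ₀ : ℝ) * ((2 : ℝ) ^ d - (A χ₀ : ℝ)))) := by
      refine hj.trans (le_of_eq ?_)
      rw [Nat.cast_ofNat]
      ring
    have e2 := le_of_mul_le_mul_left (le_of_mul_le_mul_left e1 hφpos) hφpos
    have e3 : ((∑ ψ ∈ K.erase χ₀, (4 : ℤ) ^ blockHeight 2 B (ψ : G → ℂ) : ℤ) : ℝ) ≤
        ((A χ₀ * (2 ^ d - A χ₀) : ℤ) : ℝ) := by
      push_cast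
      refine le_trans (le_of_eq ?_) e2
      refine Finset.sum_congr rfl fun ψ _ => ?_
      rw [Nat.cast_ofNat, ← pow_mul, mul_comm, pow_mul]
      norm_num
    exact_mod_cast e3
  rw [hcardB]
  refine Cfsg.Agent.Lib.H8.KX.card_le_two_pow_of_compl K
    (fun χ => blockHeight 2 B (χ : G → ℂ)) A d l (hcardB ▸ hk) hT hpos hlt ?_ ?_ hJ
  · intro χ hχ h0
    exact (hA χ ((hmemK χ).1 hχ)).2.2.2 h0
  · intro χ hχ h1
    exact (hA χ ((hmemK χ).1 hχ)).2.2.1 h1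

end Cfsg.Agent.Lib.H23.KX
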