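import Cfsg.Agent.Lib.H23.BlockLocal

/-!
# `localRing M` is a local ring with maximal ideal the local ideal (helper23, S4540)
-/

set_option autoImplicit false

namespace Cfsg.Agent.Lib.H23.KY

open Cfsg Cfsg.Agent.Lib.H23

variable {M : Ideal AlgInt}

theorem isUnit_localRing_iff [hP : M.IsPrime] (a : localRing M) :
    IsUnit a ↔ ¬ MemLocalIdeal M (a : ℂ) := by
  constructor
  · rintro ⟨u, rfl⟩ hmem
    have h1 : ((u : localRing M) : ℂ) * ((u⁻¹ : (localRing M)ˣ) : localRing M) = 1 := by
      have : (u : localRing M) * ((u⁻¹ : (localRing M)ˣ) : localRing M) = 1 := u.mul_inv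
      exact_mod_cast congrArg (Subtype.val) this
    have h2 := memLocalIdeal_mul_right hmem (((u⁻¹ : (localRing M)ˣ) : localRing M)).2
    rw [h1] at h2
    exact not_memLocalIdeal_one h2
  · intro hmem
    have h0 : (a : ℂ) ≠ 0 := ne_zero_of_not_memLocalIdeal hmem
    refine ⟨⟨a, ⟨(a : ℂ)⁻¹, memLocalRing_inv a.2 hmem⟩, ?_, ?_⟩, rfl⟩
    · apply Subtype.ext
      show (a : ℂ) * (a : ℂ)⁻¹ = 1
      exact mul_inv_cancel₀ h0
    · apply Subtype.ext
      show (a : ℂ)⁻¹ * (a : ℂ) = 1
      exact inv_mul_cancel₀ h0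

theorem isLocalRing_localRing [hP : M.IsPrime] : IsLocalRing (localRing M) := by
  haveI : Nontrivial (localRing M) := inferInstance
  refine IsLocalRing.of_nonunits_add ?_
  intro a b ha hb
  rw [mem_nonunits_iff, isUnit_localRing_iff, not_not] at ha hb ⊢
  exact memLocalIdeal_add ha hb

theorem mem_maximalIdeal_localRing_iff [hP : M.IsPrime] (a : localRing M) :
    a ∈ @IsLocalRing.maximalIdeal (localRing M) _ isLocalRing_localRing ↔
      MemLocalIdeal M (a : ℂ) := by
  letI := isLocalRing_localRing (M := M)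
  rw [IsLocalRing.mem_maximalIdeal, mem_nonunits_iff, isUnit_localRing_iff, not_not]

end Cfsg.Agent.Lib.H23.KY
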