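import Cfsg.Agent.Lib.H23.KZPAR

/-!
# `p^d ·` a contribution as an integer combination of roots of unity (helper23, S4540)

`exists_int_rep`: `p^d m^{(y^n,b)}_{χψ} = ∑_{(ξ,ξ')} c_{ξξ'} w_{ξξ'}^n` with `c_{ξξ'} ∈ ℤ` independent of `n` and
`w_{ξξ'} = λ_ξ(y) conj λ_ξ'(y)`; `lamW_pow_eq_one`.
-/

set_option autoImplicit false

namespace Cfsg.Agent.Lib.H23.KY

open Cfsg MonoidAlgebra Cfsg.Agent.Lib.H23 Cfsg.Agent.Lib.H24 Cfsg.Agent.Lib.L0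
  Cfsg.Agent.Lib.H23.Contrib Cfsg.Agent.Lib.H23.KZ
open scoped ComplexConjugate

variable {G : Type*} [Group G] [Fintype G] {p : ℕ} [Fact p.Prime] {M : Ideal AlgInt}
  (H : Subgroup G) [Fintype H] [Fintype (IrrCharacter H)]

omit [Fintype G] [Fact p.Prime] [Fintype (IrrCharacter H)] in
theorem lamW_pow_eq_one {y : H} (hyc : y ∈ Subgroup.center H) (ξ ξ' : IrrCharacter H) {n : ℕ}
    (hn : orderOf y ∣ n) : lamW H y ξ ξ' ^ n = 1 := by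
  obtain ⟨c, hc⟩ := hn
  unfold lamW
  rw [hc, pow_mul, mul_pow, ← map_pow, lam_pow_eq_one ξ hyc, lam_pow_eq_one ξ' hyc, map_one,
    one_mul, one_pow]

theorem exists_int_rep [Fintype (IrrCharacter G)] (hM : IsPModular p M)
    (ξ₁ : IrrCharacter H) [DecidablePred (· ∈ blockOf M (ξ₁ : H → ℂ))] {y : H}
    (hyc : y ∈ Subgroup.center H) (χ ψ : IrrCharacter G) :
    ∃ c : IrrCharacter H × IrrCharacter H → ℤ, ∀ n : ℕ,
      (p : ℂ) ^ blockDefect p (blockOf M (ξ₁ : H → ℂ)) *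
          contrib p H (blockOf M (ξ₁ : H → ℂ)) (y ^ n) (χ : G → ℂ) (ψ : G → ℂ) =
        ∑ t : IrrCharacter H × IrrCharacter H, (c t : ℂ) * lamW H y t.1 t.2 ^ n := by
  classical
  set b := blockOf M (ξ₁ : H → ℂ) with hb
  set d := blockDefect p b with hd
  have hn1 : ∀ ξ : IrrCharacter H, ∃ n : ℕ, resMult H (χ : G → ℂ) (ξ : H → ℂ) = n :=
    fun ξ => resMult_nat H χ ξ
  choose n1 hn1 using hn1
  have hn2 : ∀ ξ : IrrCharacter H, ∃ n : ℕ, resMult H (ψ : G → ℂ) (ξ : H → ℂ) = n :=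
    fun ξ => resMult_nat H ψ ξ
  choose n2 hn2 using hn2
  have hn3 : ∀ ξ ξ' : IrrCharacter H, ∃ n : ℤ, ξ ∈ b →
      (p : ℂ) ^ d * pin p (ξ : H → ℂ) (ξ' : H → ℂ) = n := by
    intro ξ ξ'
    by_cases h : ξ ∈ b
    · obtain ⟨n, hn⟩ := exists_int_pow_mul_pin hM ξ₁ (ξ' := ξ') h
      exact ⟨n, fun _ => hn⟩
    · exact ⟨0, fun h' => absurd h' h⟩
  choose n3 hn3 using hn3
  refine ⟨fun t => if t.1 ∈ b ∧ t.2 ∈ b then (n1 t.1 : ℤ) * (n2 t.2 : ℤ) * n3 t.1 t.2 else 0, ?_⟩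
  intro n
  rw [pow_mul_contrib_eq H ξ₁ hM (Subgroup.pow_mem _ hyc _) χ ψ, Fintype.sum_prod_type]
  refine Finset.sum_congr rfl fun ξ _ => Finset.sum_congr rfl fun ξ' _ => ?_
  by_cases h : ξ ∈ b ∧ ξ' ∈ b
  · rw [if_pos h, hn1 ξ, hn2 ξ', hn3 ξ ξ' h.1, lamW_pow H hyc]
    simp only [if_pos h]
    push_cast
    ring
  · rw [if_neg h]
    simp only [if_neg h]
    push_cast
    rw [zero_mul]

end Cfsg.Agent.Lib.H23.KY
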