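import Cfsg.Agent.Lib.H23.KYV
import Cfsg.Agent.Lib.H23.KYLR
import Cfsg.Agent.Lib.H23.KYREP
import Cfsg.Agent.Lib.H15.KYCY4

/-!
# The integers `A_χ` of a major 2-subsection (helper23, S4540 / S4575)

`exists_int_sum_units_contrib_self`: `p = 2`, `(y, b)` a major subsection of `B`, `χ ∈ B` of height `h`: the sum over
the units `k` of `ℤ/|G|` of `2^d m^{(y^k,b)}_{χχ}` is `φ(|G|) A` with `A ∈ ℤ`, `2^h ∣ A`, `2^{h+1} ∣ A` if `h ≥ 1`, and
`A` odd if `h = 0`.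
-/

set_option autoImplicit false

namespace Cfsg.Agent.Lib.H23.KY

open Cfsg MonoidAlgebra Cfsg.Agent.Lib.H23 Cfsg.Agent.Lib.H24 Cfsg.Agent.Lib.L0
  Cfsg.Agent.Lib.H23.Contrib Cfsg.Agent.Lib.H23.KZ
open scoped ComplexConjugate

variable {G : Type*} [Group G] [Fintype G] {M : Ideal AlgInt}
  (H : Subgroup G) [Fintype H] [Fintype (IrrCharacter H)]

theorem exists_int_sum_units_contrib_self [Fintype (IrrCharacter G)] (hM : IsPModular 2 M)
    (ξ₁ : IrrCharacter H) [DecidablePred (· ∈ blockOf M (ξ₁ : H → ℂ))] {B : Set (IrrCharacter G)}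
    (hind : IsInducedBlock M H (blockOf M (ξ₁ : H → ℂ)) B)
    (hdef : blockDefect 2 (blockOf M (ξ₁ : H → ℂ)) = blockDefect 2 B) (y : H)
    (hyc : y ∈ Subgroup.center H) (hy : ∃ k : ℕ, orderOf y = 2 ^ k) {χ : IrrCharacter G}
    (hχ : χ ∈ B) (m : ℕ) [NeZero m] (hm : m = Nat.card G) :
    ∃ A : ℤ, (∑ k : (ZMod m)ˣ, ((2 : ℕ) : ℂ) ^ blockDefect 2 B *
        contrib 2 H (blockOf M (ξ₁ : H → ℂ)) (y ^ (k : ZMod m).val) (χ : G → ℂ) (χ : G → ℂ)) =
        (Fintype.card (ZMod m)ˣ : ℂ) * (A : ℂ) ∧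
      (2 : ℤ) ^ blockHeight 2 B (χ : G → ℂ) ∣ A ∧
      (1 ≤ blockHeight 2 B (χ : G → ℂ) → (2 : ℤ) ^ (blockHeight 2 B (χ : G → ℂ) + 1) ∣ A) ∧
      (blockHeight 2 B (χ : G → ℂ) = 0 → Odd A) := by
  classical
  have hPr := isPrime_of_isPModular hM
  letI := isLocalRing_localRing (M := M)
  set b := blockOf M (ξ₁ : H → ℂ) with hb
  set d := blockDefect 2 B with hd
  set h := blockHeight 2 B (χ : G → ℂ) with hh
  obtain ⟨j, hj⟩ := hy
  have hord_dvd : orderOf y ∣ m := by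
    rw [hm]
    exact (orderOf_dvd_natCard y).trans (Subgroup.card_subgroup_dvd_card H)
  -- the representation
  obtain ⟨c, hc⟩ := exists_int_rep (p := 2) H hM ξ₁ hyc χ χ
  rw [← hb, hdef] at hc
  set w : IrrCharacter H × IrrCharacter H → ℂ := fun t => lamW H y t.1 t.2 with hw
  have hwj : ∀ t, w t ^ 2 ^ j = 1 := fun t => lamW_pow_eq_one H hyc t.1 t.2 (hj ▸ dvd_rfl)
  have hwm : ∀ t, w t ^ m = 1 := fun t => lamW_pow_eq_one H hyc t.1 t.2 hord_dvd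
  have hx1 : ∑ t, (c t : ℂ) * w t =
      ((2 : ℕ) : ℂ) ^ d * contrib 2 H b y (χ : G → ℂ) (χ : G → ℂ) := by
    have := hc 1
    simp only [pow_one] at this
    exact this.symm
  -- reality
  have hreal : conj (∑ t, (c t : ℂ) * w t) = ∑ t, (c t : ℂ) * w t := by
    rw [hx1, map_mul, map_pow, Complex.conj_natCast, contrib_conj H b y hM hyc ξ₁ rfl χ χ]
  -- the valuation
  obtain ⟨r, hrR, hrI, hr⟩ := pow_mul_contrib_eq_pow_height_mul (p := 2) H hM ξ₁ hind hdef hyc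
    ⟨j, hj⟩ hχ hχ
  have hx : ∑ t, (c t : ℂ) * w t = 2 ^ h * (((⟨r, hrR⟩ : localRing M) : ℂ)) := by
    rw [hx1, hr]
    push_cast
    rfl
  have h2 : (2 : localRing M) ∈ IsLocalRing.maximalIdeal (localRing M) := by
    rw [mem_maximalIdeal_localRing_iff]
    have := memLocalIdeal_p hM
    exact_mod_cast this
  obtain ⟨A, hA1, hA2, hA3⟩ := Cfsg.Agent.Lib.H15.KY.exists_int_sum_units_of_mem (localRing M) h2
    (fun x hx => isIntegral_mem_localRing hx) c w j hwj m hwm hreal h ⟨r, hrR⟩ hx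
  have hsum : (∑ k : (ZMod m)ˣ, ((2 : ℕ) : ℂ) ^ d *
      contrib 2 H b (y ^ (k : ZMod m).val) (χ : G → ℂ) (χ : G → ℂ)) =
      (Fintype.card (ZMod m)ˣ : ℂ) * (A : ℂ) := by
    rw [← hA1]
    exact Finset.sum_congr rfl fun k _ => hc _
  refine ⟨A, hsum, hA2, ?_, ?_⟩
  · intro hpos
    apply hA3
    rw [mem_maximalIdeal_localRing_iff]
    exact hrI hpos
  · intro h0
    obtain ⟨A', hA'odd, hA'⟩ := exists_odd_sum_units_contrib_self H hM ξ₁ hind y hyc ⟨j, hj⟩ hχ h0 m hm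
    rw [← hb, hdef, hsum] at hA'
    have hφ0 : (Fintype.card (ZMod m)ˣ : ℂ) ≠ 0 := Nat.cast_ne_zero.2 Fintype.card_ne_zero
    have : A = A' := Int.cast_injective (mul_left_cancel₀ hφ0 hA')
    rw [this]
    exact hA'odd

end Cfsg.Agent.Lib.H23.KY
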