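import Cfsg.Agent.Lib.H23.ContribM

/-!
# Brauer's (5H), strict part: valuations of the contributions of a major subsection (helper23, S4540)

`b` a block of `H ≤ G` inducing `B`, of the same defect `d`, `z` a central `p`-element of `H`.
* `contrib_inv_swap`: `m^{(z,b)}_{χψ} = m^{(z⁻¹,b)}_{ψχ}`;
* `pow_mul_contrib_eq_pow_height_mul`: `p^d m^{(z,b)}_{ψχ} = p^{h(χ)} r` with `r` in the local ring, and `r` in the local
  ideal if `ψ ∈ B` has positive height.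
-/

set_option autoImplicit false

namespace Cfsg.Agent.Lib.H23.KY

open Cfsg MonoidAlgebra Cfsg.Agent.Lib.H23 Cfsg.Agent.Lib.H24 Cfsg.Agent.Lib.L0
  Cfsg.Agent.Lib.L0.Tilde Cfsg.Agent.Lib.L0.BlockMinMax Cfsg.Agent.Lib.H23.Contrib
open scoped ComplexConjugate

variable {G : Type*} [Group G] [Fintype G] {p : ℕ} [Fact p.Prime] {M : Ideal AlgInt}
  (H : Subgroup G) [Fintype H] [Fintype (IrrCharacter H)]

omit [Fintype G] [Fact p.Prime] [Fintype (IrrCharacter H)] in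
theorem lamW_inv (z : H) (ξ ξ' : IrrCharacter H) : lamW H z⁻¹ ξ ξ' = lamW H z ξ' ξ := by
  unfold lamW
  have h1 : conj ((ξ : H → ℂ) 1) = (ξ : H → ℂ) 1 := by
    rw [apply_one_eq_charDegree _ ξ.2, Complex.conj_natCast]
  have h1' : conj ((ξ' : H → ℂ) 1) = (ξ' : H → ℂ) 1 := by
    rw [apply_one_eq_charDegree _ ξ'.2, Complex.conj_natCast]
  rw [irr_inv ξ z, irr_inv ξ' z, map_div₀, map_div₀, Complex.conj_conj, h1, h1', mul_comm]

theorem contrib_inv_swap [Fintype (IrrCharacter G)] (hM : IsPModular p M) (ξ₀ : IrrCharacter H)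
    [DecidablePred (· ∈ blockOf M (ξ₀ : H → ℂ))] {z : H} (hzc : z ∈ Subgroup.center H)
    (χ ψ : IrrCharacter G) :
    contrib p H (blockOf M (ξ₀ : H → ℂ)) z (χ : G → ℂ) (ψ : G → ℂ) =
      contrib p H (blockOf M (ξ₀ : H → ℂ)) z⁻¹ (ψ : G → ℂ) (χ : G → ℂ) := by
  have hp : p.Prime := Fact.out
  rw [contrib_eq_sum H _ z hM hzc ξ₀ rfl χ ψ,
    contrib_eq_sum H _ z⁻¹ hM (Subgroup.inv_mem _ hzc) ξ₀ rfl ψ χ, Finset.sum_comm]
  refine Finset.sum_congr rfl fun ξ' _ => Finset.sum_congr rfl fun ξ _ => ?_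
  by_cases h : ξ ∈ blockOf M (ξ₀ : H → ℂ) ∧ ξ' ∈ blockOf M (ξ₀ : H → ℂ)
  · rw [if_pos h, if_pos h.symm, lamW_inv, pin_symm_irr hp ξ' ξ]
    ring
  · rw [if_neg h, if_neg (fun h' => h h'.symm)]

/-- **Brauer (5H)** for a major subsection. -/
theorem pow_mul_contrib_eq_pow_height_mul [Fintype (IrrCharacter G)] (hM : IsPModular p M)
    (ξ₁ : IrrCharacter H) [DecidablePred (· ∈ blockOf M (ξ₁ : H → ℂ))] {B : Set (IrrCharacter G)}
    (hind : IsInducedBlock M H (blockOf M (ξ₁ : H → ℂ)) B)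
    (hdef : blockDefect p (blockOf M (ξ₁ : H → ℂ)) = blockDefect p B) {z : H}
    (hzc : z ∈ Subgroup.center H) (hz : ∃ k : ℕ, orderOf z = p ^ k) {ψ χ : IrrCharacter G}
    (hψ : ψ ∈ B) (hχ : χ ∈ B) :
    ∃ r : ℂ, MemLocalRing M r ∧ (1 ≤ blockHeight p B (ψ : G → ℂ) → MemLocalIdeal M r) ∧
      (p : ℂ) ^ blockDefect p B * contrib p H (blockOf M (ξ₁ : H → ℂ)) z (ψ : G → ℂ) (χ : G → ℂ) =
        (p : ℂ) ^ blockHeight p B (χ : G → ℂ) * r := by
  classical
  haveI hP := isPrime_of_isPModular hM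
  have hp : p.Prime := Fact.out
  have hp0 : (p : ℂ) ≠ 0 := Nat.cast_ne_zero.2 hp.ne_zero
  obtain ⟨χ₁, hχ₁⟩ := hind.2.1
  subst hχ₁
  set b := blockOf M (ξ₁ : H → ℂ) with hb
  set d := blockDefect p (blockOf M (χ₁ : G → ℂ)) with hd
  set m' : ℕ := Nat.card G / p ^ (Nat.card G).factorization p with hm'
  have hm'p : ¬ p ∣ m' := Nat.not_dvd_ordCompl hp Nat.card_pos.ne'
  have hm'LI : ¬ MemLocalIdeal M (m' : ℂ) := fun h => hm'p ((natCast_memLocalIdeal_iff hM m').1 h)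
  have hm'0 : (m' : ℂ) ≠ 0 := ne_zero_of_not_memLocalIdeal hm'LI
  have hm'inv : MemLocalRing M ((m' : ℂ)⁻¹) := memLocalRing_inv_natCast hM hm'p
  have hrdeg : ∀ χ' : IrrCharacter G, ¬ MemLocalIdeal M
      (((charDegree (χ' : G → ℂ) / p ^ (charDegree (χ' : G → ℂ)).factorization p : ℕ) : ℂ)) := by
    intro χ' h
    exact Nat.not_dvd_ordCompl hp (charDegree_pos _ χ'.2).ne' ((natCast_memLocalIdeal_iff hM _).1 h)
  have hωR : ∀ (z' : H) (hz'c : z' ∈ Subgroup.center H) (χ' ψ' : IrrCharacter G),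
      MemLocalRing M (omega (χ' : G → ℂ) (secElt H b z' p (ψ' : G → ℂ))) := fun z' hz'c χ' ψ' =>
    omega_memLocalRing χ' (secElt_mem_center H _ _ _) (secElt_mem_intCoeff H _ _ hz'c ψ')
  -- the identity
  have hkey := ordCompl_mul_pow_mul_contrib H hM b z χ₁ hχ (ψ : G → ℂ)
  set rχ : ℕ := charDegree (χ : G → ℂ) / p ^ (charDegree (χ : G → ℂ)).factorization p with hrχ
  set ω := omega (χ : G → ℂ) (secElt H b z p (ψ : G → ℂ)) with hω
  refine ⟨(rχ : ℂ) * ω * (m' : ℂ)⁻¹, ?_, ?_, ?_⟩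
  · exact memLocalRing_mul (memLocalRing_mul (natCast_mem_localRing _) (hωR z hzc χ ψ)) hm'inv
  · intro hpos
    -- a character of height zero
    obtain ⟨ψ₀, hψ₀B, hψ₀0⟩ := Cfsg.Agent.Lib.L0.BlockHeight.exists_height_zero (p := p) (M := M) χ₁
    -- Step A: `p^d m^{(z)}_{ψψ₀}` lies in the local ideal
    have hA : MemLocalIdeal M ((p : ℂ) ^ d * contrib p H b z (ψ : G → ℂ) (ψ₀ : G → ℂ)) := by
      rw [contrib_inv_swap H hM ξ₁ hzc ψ ψ₀]
      have hk := ordCompl_mul_pow_mul_contrib H hM b z⁻¹ χ₁ hψ (ψ₀ : G → ℂ)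
      have hpow : MemLocalIdeal M ((p : ℂ) ^ blockHeight p (blockOf M (χ₁ : G → ℂ)) (ψ : G → ℂ)) := by
        obtain ⟨n, hn⟩ := Nat.exists_eq_add_of_le hpos
        rw [hn, add_comm, pow_succ]
        exact memLocalIdeal_mul_left (memLocalRing_pow (natCast_mem_localRing p) n)
          (memLocalIdeal_p hM)
      have hR : MemLocalIdeal M ((m' : ℂ) * ((p : ℂ) ^ d *
          contrib p H b z⁻¹ (ψ₀ : G → ℂ) (ψ : G → ℂ))) := by
        rw [hk, mul_assoc]
        exact memLocalIdeal_mul_right hpow (memLocalRing_mul (natCast_mem_localRing _)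
          (hωR z⁻¹ (Subgroup.inv_mem _ hzc) ψ ψ₀))
      exact memLocalIdeal_of_mul (natCast_mem_localRing m') hm'LI hR
    -- Step B: `ω_{ψ₀}(secElt ψ)` lies in the local ideal
    have hB : MemLocalIdeal M (omega (ψ₀ : G → ℂ) (secElt H b z p (ψ : G → ℂ))) := by
      have hk := ordCompl_mul_pow_mul_contrib H hM b z χ₁ hψ₀B (ψ : G → ℂ)
      rw [hψ₀0, pow_zero, one_mul] at hk
      have hL : MemLocalIdeal M ((m' : ℂ) * ((p : ℂ) ^ d *
          contrib p H b z (ψ : G → ℂ) (ψ₀ : G → ℂ))) :=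
        memLocalIdeal_mul_left (natCast_mem_localRing m') hA
      rw [hk] at hL
      exact memLocalIdeal_of_mul (natCast_mem_localRing _) (hrdeg ψ₀) hL
    -- Step C: `ω_χ(secElt ψ)` lies in the local ideal
    have hC : MemLocalIdeal M ω := by
      have hsame : SameBlock M (χ : G → ℂ) (ψ₀ : G → ℂ) :=
        sameBlock_trans (sameBlock_symm hχ) hψ₀B
      have h1 := omega_sub_memLocalIdeal hsame (secElt_mem_center H b z (ψ : G → ℂ))
        (secElt_mem_intCoeff (M := M) (p := p) H b z hzc ψ)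
      have := memLocalIdeal_add h1 hB
      rwa [sub_add_cancel] at this
    exact memLocalIdeal_mul_right (memLocalIdeal_mul_left (natCast_mem_localRing _) hC) hm'inv
  · have h1 : (p : ℂ) ^ d * contrib p H b z (ψ : G → ℂ) (χ : G → ℂ) =
        (m' : ℂ)⁻¹ * ((m' : ℂ) * ((p : ℂ) ^ d * contrib p H b z (ψ : G → ℂ) (χ : G → ℂ))) := by
      rw [← mul_assoc, inv_mul_cancel₀ hm'0, one_mul]
    rw [h1, hkey]
    ring

end Cfsg.Agent.Lib.H23.KY
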