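import Cfsg.Agent.Lib.H23.ContribJ
import Cfsg.Agent.Lib.H10.KZE1
import Cfsg.Agent.Lib.H5.KZE2

/-!
# The parity lemma for the diagonal contributions of a 2-subsection (helper23, S4541)

`exists_odd_sum_units_contrib_self`: for `p = 2`, a subsection `(y, b)` of `B` and `χ ∈ B` of height zero, the
sum over the units `k` of `ℤ/|G|` of `2^d m^{(y^k, b)}_{χχ}` is `φ(|G|)` times an ODD integer.
-/

set_option autoImplicit false

namespace Cfsg.Agent.Lib.H23.KZ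

open Cfsg MonoidAlgebra Cfsg.Agent.Lib.H23 Cfsg.Agent.Lib.H24 Cfsg.Agent.Lib.L0
  Cfsg.Agent.Lib.H23.Contrib
open scoped ComplexConjugate

variable {G : Type*} [Group G] [Fintype G] {M : Ideal AlgInt}
  (H : Subgroup G) [Fintype H] [Fintype (IrrCharacter H)]

omit [Fintype G] [Fintype (IrrCharacter H)] in
theorem lamW_pow {z : H} (hzc : z ∈ Subgroup.center H) (ξ ξ' : IrrCharacter H) (n : ℕ) :
    lamW H (z ^ n) ξ ξ' = (lamW H z ξ ξ') ^ n := by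
  have h0 : (ξ : H → ℂ) 1 ≠ 0 := irr_one_ne_zero ξ
  have h0' : (ξ' : H → ℂ) 1 ≠ 0 := irr_one_ne_zero ξ'
  unfold lamW
  rw [irr_central_pow ξ hzc n, irr_central_pow ξ' hzc n, mul_div_assoc, div_self h0, mul_one,
    mul_div_assoc, div_self h0', mul_one, mul_pow, map_pow]

omit [Fintype G] [Fintype (IrrCharacter H)] in
theorem lamW_self {z : H} (hzc : z ∈ Subgroup.center H) (ξ : IrrCharacter H) :
    lamW H z ξ ξ = 1 := by
  unfold lamW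
  rw [Complex.mul_conj, Complex.normSq_eq_norm_sq,
    Complex.norm_eq_one_of_pow_eq_one (lam_pow_eq_one ξ hzc) (orderOf_pos z).ne']
  norm_num

/-- **The parity lemma.** -/
theorem exists_odd_sum_units_contrib_self [Fintype (IrrCharacter G)] (hM : IsPModular 2 M)
    (ξ₁ : IrrCharacter H) [DecidablePred (· ∈ blockOf M (ξ₁ : H → ℂ))] {B : Set (IrrCharacter G)}
    (hind : IsInducedBlock M H (blockOf M (ξ₁ : H → ℂ)) B) (y : H)
    (hyc : y ∈ Subgroup.center H) (hy : ∃ k : ℕ, orderOf y = 2 ^ k) {χ : IrrCharacter G}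
    (hχ : χ ∈ B) (h0χ : blockHeight 2 B (χ : G → ℂ) = 0)
    (m : ℕ) [NeZero m] (hm : m = Nat.card G) :
    ∃ A : ℤ, Odd A ∧ ∑ k : (ZMod m)ˣ, ((2 : ℕ) : ℂ) ^ blockDefect 2 (blockOf M (ξ₁ : H → ℂ)) *
        contrib 2 H (blockOf M (ξ₁ : H → ℂ)) (y ^ (k : ZMod m).val) (χ : G → ℂ) (χ : G → ℂ) =
      (Fintype.card (ZMod m)ˣ : ℂ) * (A : ℂ) := by
  classical
  have hPr := isPrime_of_isPModular hM
  set b := blockOf M (ξ₁ : H → ℂ) with hb
  set d := blockDefect 2 b with hd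
  obtain ⟨j, hj⟩ := hy
  have hord_dvd : orderOf y ∣ m := by
    rw [hm]
    exact (orderOf_dvd_natCard y).trans (Subgroup.card_subgroup_dvd_card H)
  -- the roots of unity `w`
  set w : IrrCharacter H → IrrCharacter H → ℂ := fun ξ ξ' => lamW H y ξ ξ' with hw
  have hwj : ∀ ξ ξ', w ξ ξ' ^ 2 ^ j = 1 := by
    intro ξ ξ'
    show (lamW H y ξ ξ') ^ 2 ^ j = 1
    unfold lamW
    rw [mul_pow, ← map_pow, ← hj, lam_pow_eq_one ξ hyc, lam_pow_eq_one ξ' hyc, map_one, one_mul]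
  have hwm : ∀ ξ ξ', w ξ ξ' ^ m = 1 := by
    intro ξ ξ'
    obtain ⟨c, hc⟩ := hord_dvd
    rw [hc, hj, pow_mul, hwj, one_pow]
  have hwself : ∀ ξ, w ξ ξ = 1 := fun ξ => lamW_self H hyc ξ
  have hwsymm : ∀ ξ ξ', w ξ' ξ = conj (w ξ ξ') := fun ξ ξ' => (lamW_conj H y ξ ξ').symm
  -- (E1)
  have hE1 : ∀ ξ ξ', ∃ ε : ℤ, (∑ k : (ZMod m)ˣ, w ξ ξ' ^ (k : ZMod m).val) =
      (Fintype.card (ZMod m)ˣ : ℂ) * (ε : ℂ) ∧ (w ξ ξ' = 1 → ε = 1) := fun ξ ξ' =>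
    Cfsg.Agent.Lib.H10.KZ.sum_units_pow_eq m (w ξ ξ') (hwm ξ ξ') j (hwj ξ ξ')
  choose ε hε hε1 using hE1
  have hφ0 : (Fintype.card (ZMod m)ˣ : ℂ) ≠ 0 := Nat.cast_ne_zero.2 Fintype.card_ne_zero
  have hεsymm : ∀ ξ ξ', ε ξ ξ' = ε ξ' ξ := by
    intro ξ ξ'
    have h2 : ∑ k : (ZMod m)ˣ, w ξ' ξ ^ (k : ZMod m).val =
        conj (∑ k : (ZMod m)ˣ, w ξ ξ' ^ (k : ZMod m).val) := by
      rw [map_sum]
      refine Finset.sum_congr rfl fun k _ => ?_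
      rw [map_pow, ← hwsymm]
    rw [hε ξ ξ', hε ξ' ξ, map_mul, Complex.conj_natCast, map_intCast] at h2
    exact (Int.cast_injective (mul_left_cancel₀ hφ0 h2)).symm
  -- the integer matrix `c`
  have hn1 : ∀ ξ : IrrCharacter H, ∃ n : ℕ, resMult H (χ : G → ℂ) (ξ : H → ℂ) = n :=
    fun ξ => resMult_nat H χ ξ
  choose n1 hn1 using hn1
  have hn3 : ∀ ξ ξ' : IrrCharacter H, ∃ n : ℤ, ξ ∈ b →
      ((2 : ℕ) : ℂ) ^ d * pin 2 (ξ : H → ℂ) (ξ' : H → ℂ) = n := by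
    intro ξ ξ'
    by_cases h : ξ ∈ b
    · obtain ⟨n, hn⟩ := exists_int_pow_mul_pin hM ξ₁ (ξ' := ξ') h
      exact ⟨n, fun _ => hn⟩
    · exact ⟨0, fun h' => absurd h' h⟩
  choose n3 hn3 using hn3
  set c : IrrCharacter H → IrrCharacter H → ℤ := fun ξ ξ' =>
    if ξ ∈ b ∧ ξ' ∈ b then (n1 ξ : ℤ) * (n1 ξ' : ℤ) * n3 ξ ξ' else 0 with hc
  have hcsymm : ∀ ξ ξ', c ξ ξ' = c ξ' ξ := by
    intro ξ ξ'
    simp only [hc]
    by_cases h : ξ ∈ b ∧ ξ' ∈ b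
    · rw [if_pos h, if_pos h.symm]
      have : n3 ξ ξ' = n3 ξ' ξ := by
        apply Int.cast_injective (α := ℂ)
        rw [← hn3 ξ ξ' h.1, ← hn3 ξ' ξ h.2, pin_symm_irr Nat.prime_two ξ ξ']
      rw [this]; ring
    · rw [if_neg h, if_neg (fun h' => h h'.symm)]
  -- each term
  have hterm : ∀ k : (ZMod m)ˣ, ((2 : ℕ) : ℂ) ^ d *
      contrib 2 H b (y ^ (k : ZMod m).val) (χ : G → ℂ) (χ : G → ℂ) =
      ∑ ξ : IrrCharacter H, ∑ ξ' : IrrCharacter H, (c ξ ξ' : ℂ) * w ξ ξ' ^ (k : ZMod m).val := by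
    intro k
    rw [pow_mul_contrib_eq H ξ₁ hM (Subgroup.pow_mem _ hyc _) χ χ]
    refine Finset.sum_congr rfl fun ξ _ => Finset.sum_congr rfl fun ξ' _ => ?_
    simp only [hc]
    by_cases h : ξ ∈ b ∧ ξ' ∈ b
    · rw [if_pos h, if_pos h, hn1 ξ, hn1 ξ', hn3 ξ ξ' h.1, lamW_pow H hyc]
      push_cast
      ring
    · rw [if_neg h, if_neg h]
      push_cast
      rw [zero_mul]
  -- the integers
  set A : ℤ := ∑ ξ : IrrCharacter H, ∑ ξ' : IrrCharacter H, c ξ ξ' * ε ξ ξ' with hA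
  set N : ℤ := ∑ ξ : IrrCharacter H, ∑ ξ' : IrrCharacter H, c ξ ξ' with hN
  have hNeq : contribInt H 2 b (χ : G → ℂ) (χ : G → ℂ) = (N : ℂ) := by
    unfold contribInt
    rw [hN, Int.cast_sum]
    refine Finset.sum_congr rfl fun ξ _ => ?_
    rw [Int.cast_sum]
    refine Finset.sum_congr rfl fun ξ' _ => ?_
    simp only [hc]
    by_cases h : ξ ∈ b ∧ ξ' ∈ b
    · rw [if_pos h, if_pos h, hn1 ξ, hn1 ξ', hn3 ξ ξ' h.1]
      push_cast
      ring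
    · rw [if_neg h, if_neg h]
      push_cast
      rfl
  have hNodd : ¬ (2 : ℤ) ∣ N := by
    intro h2
    apply contribInt_not_memLocalIdeal H ξ₁ hM hind hχ hχ h0χ h0χ
    rw [hNeq]
    exact (intCast_memLocalIdeal_iff hM N).2 (by exact_mod_cast h2)
  have hAN : (2 : ℤ) ∣ A - N := by
    have h1 : A - N = ∑ ξ : IrrCharacter H, ∑ ξ' : IrrCharacter H, c ξ ξ' * (ε ξ ξ' - 1) := by
      rw [hA, hN, ← Finset.sum_sub_distrib]
      refine Finset.sum_congr rfl fun ξ _ => ?_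
      rw [← Finset.sum_sub_distrib]
      refine Finset.sum_congr rfl fun ξ' _ => ?_
      ring
    rw [h1]
    apply Cfsg.Agent.Lib.H5.KZ.two_dvd_sum_symm
    · intro ξ ξ'
      rw [hcsymm ξ ξ', hεsymm ξ ξ']
    · intro ξ
      rw [hε1 ξ ξ (hwself ξ), sub_self, mul_zero]
  refine ⟨A, ?_, ?_⟩
  · rw [← Int.not_even_iff_odd, even_iff_two_dvd]
    intro h2
    apply hNodd
    have := dvd_sub h2 hAN
    rwa [sub_sub_cancel] at this
  · simp only [hterm]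
    rw [Finset.sum_comm]
    have h1 : ∀ ξ : IrrCharacter H, ∑ k : (ZMod m)ˣ, ∑ ξ' : IrrCharacter H,
        (c ξ ξ' : ℂ) * w ξ ξ' ^ (k : ZMod m).val =
        ∑ ξ' : IrrCharacter H, (Fintype.card (ZMod m)ˣ : ℂ) * ((c ξ ξ' * ε ξ ξ' : ℤ) : ℂ) := by
      intro ξ
      rw [Finset.sum_comm]
      refine Finset.sum_congr rfl fun ξ' _ => ?_
      rw [← Finset.mul_sum, hε ξ ξ']
      push_cast
      ring
    simp only [h1]
    rw [hA]
    push_cast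
    rw [Finset.mul_sum]
    refine Finset.sum_congr rfl fun ξ _ => ?_
    rw [Finset.mul_sum]

end Cfsg.Agent.Lib.H23.KZ
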