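import Cfsg.Agent.Lib.H23.ContribK
import Cfsg.Agent.Lib.H23.ContribN
import Cfsg.Agent.Lib.H23.KZPAR
import Cfsg.Agent.Lib.H25.KZE3

/-!
# Brauer's bound for the number of height zero characters of a 2-block (helper23, S4541)

`k0_bounds_of_induced`: `B` a 2-block, `(y, b)` a subsection, `q` the defect of `b`, `l = l(b)`, `s = ⌊√l⌋`,
`k₀` the number of characters of height zero of `B`: `s` odd → `k₀ ≤ s 2^q`; `s` even → `(s+1) k₀ ≤ l 2^q`;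
`l ≤ 3` → `k₀ ≤ 2^q`.
-/

set_option autoImplicit false

namespace Cfsg.Agent.Lib.H23.KZ

open Cfsg MonoidAlgebra Cfsg.Agent.Lib.H23 Cfsg.Agent.Lib.H24 Cfsg.Agent.Lib.L0
  Cfsg.Agent.Lib.H23.Contrib
open scoped ComplexConjugate

theorem k0_bounds_of_induced {G : Type*} [Group G] [Finite G]
    (M : Ideal AlgInt) (hM : IsPModular 2 M) (B : Set (IrrCharacter G))
    (y : G) (hy : ∃ k : ℕ, orderOf y = 2 ^ k)
    (b : Set (IrrCharacter ↥(Subgroup.centralizer ({y} : Set G))))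
    (hind : IsInducedBlock M (Subgroup.centralizer ({y} : Set G)) b B) :
    (Odd (Nat.sqrt (blockRank 2 b)) →
      Nat.card {χ : IrrCharacter G // χ ∈ B ∧ blockHeight 2 B (χ : G → ℂ) = 0} ≤
        Nat.sqrt (blockRank 2 b) * 2 ^ blockDefect 2 b) ∧
    (¬ Odd (Nat.sqrt (blockRank 2 b)) →
      (Nat.sqrt (blockRank 2 b) + 1) *
        Nat.card {χ : IrrCharacter G // χ ∈ B ∧ blockHeight 2 B (χ : G → ℂ) = 0} ≤
        blockRank 2 b * 2 ^ blockDefect 2 b) ∧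
    (blockRank 2 b ≤ 3 →
      Nat.card {χ : IrrCharacter G // χ ∈ B ∧ blockHeight 2 B (χ : G → ℂ) = 0} ≤
        2 ^ blockDefect 2 b) := by
  classical
  letI := Fintype.ofFinite G
  letI := Fintype.ofFinite (IrrCharacter G)
  set H : Subgroup G := Subgroup.centralizer ({y} : Set G) with hH
  letI : Fintype H := Fintype.ofFinite H
  letI : Fintype (IrrCharacter H) := Fintype.ofFinite _
  have hp : (2 : ℕ).Prime := Nat.prime_two
  obtain ⟨ξ₁, hξ₁⟩ := hind.1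
  subst hξ₁
  set d := blockDefect 2 (blockOf M (ξ₁ : H → ℂ)) with hd
  set l := blockRank 2 (blockOf M (ξ₁ : H → ℂ)) with hl
  -- the central element
  have hyH : y ∈ H := Subgroup.mem_centralizer_singleton_iff.2 rfl
  set yH : H := ⟨y, hyH⟩ with hyHdef
  have hyc : yH ∈ Subgroup.center H := by
    rw [Subgroup.mem_center_iff]
    intro g
    apply Subtype.ext
    simp only [Subgroup.coe_mul, hyHdef]
    exact Subgroup.mem_centralizer_singleton_iff.1 g.2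
  have hyord : ∃ k : ℕ, orderOf yH = 2 ^ k := by
    obtain ⟨k, hk⟩ := hy
    exact ⟨k, by rw [← hk, ← Subgroup.orderOf_coe]⟩
  set m := Nat.card G with hm
  have : NeZero m := ⟨Nat.card_pos.ne'⟩
  -- data for the powers
  have hpowc : ∀ k : (ZMod m)ˣ, yH ^ (k : ZMod m).val ∈ Subgroup.center H :=
    fun k => Subgroup.pow_mem _ hyc _
  have hpowo : ∀ k : (ZMod m)ˣ, ∃ j : ℕ, orderOf (yH ^ (k : ZMod m).val) = 2 ^ j := by
    intro k
    obtain ⟨j, hj⟩ := hyord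
    have : orderOf (yH ^ (k : ZMod m).val) ∣ 2 ^ j := hj ▸ orderOf_pow_dvd _
    obtain ⟨i, -, hi⟩ := (Nat.dvd_prime_pow hp).1 this
    exact ⟨i, hi⟩
  have hpowC : ∀ k : (ZMod m)ˣ, ∀ g : G,
      g * ((yH ^ (k : ZMod m).val : H) : G) * g⁻¹ = ((yH ^ (k : ZMod m).val : H) : G) → g ∈ H := by
    intro k g hg
    have hcop : ((k : ZMod m).val).Coprime (orderOf y) :=
      Nat.Coprime.coprime_dvd_right (orderOf_dvd_natCard y) (ZMod.val_coe_unit_coprime k)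
    rw [hH, ← centralizer_pow_of_coprime y hcop, Subgroup.mem_centralizer_singleton_iff]
    have h1 : ((yH ^ (k : ZMod m).val : H) : G) = y ^ (k : ZMod m).val := by
      rw [Subgroup.coe_pow]
    rw [h1] at hg
    exact mul_inv_eq_iff_eq_mul.1 hg
  -- the row sums
  set r : (ZMod m)ˣ → IrrCharacter G → ℝ := fun k χ => ∑ ψ : IrrCharacter G,
    ‖contrib 2 H (blockOf M (ξ₁ : H → ℂ)) (yH ^ (k : ZMod m).val) (χ : G → ℂ) (ψ : G → ℂ)‖ ^ 2
    with hr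
  have hr0 : ∀ k χ, 0 ≤ r k χ := fun k χ => Finset.sum_nonneg fun ψ _ => by positivity
  have hcr : ∀ (k : (ZMod m)ˣ) (χ : IrrCharacter G),
      contrib 2 H (blockOf M (ξ₁ : H → ℂ)) (yH ^ (k : ZMod m).val) (χ : G → ℂ) (χ : G → ℂ) =
        ((r k χ : ℝ) : ℂ) := fun k χ =>
    contrib_self_eq_sum H hM (hpowc k) (hpowo k) (hpowC k) ξ₁ χ
  have hsumr : ∀ k : (ZMod m)ˣ, ∑ χ : IrrCharacter G, r k χ = (l : ℝ) :=
    fun k => sum_normSq_contrib H _ _ hM (hpowc k) (hpowo k) (hpowC k) ξ₁ rfl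
  set φ : ℝ := (Fintype.card (ZMod m)ˣ : ℝ) with hφ
  have hφpos : 0 < φ := by
    rw [hφ]
    exact_mod_cast Fintype.card_pos
  -- the set of height zero characters
  set S : Finset (IrrCharacter G) :=
    Finset.univ.filter (fun χ => χ ∈ B ∧ blockHeight 2 B (χ : G → ℂ) = 0) with hS
  have hcardS : Nat.card {χ : IrrCharacter G // χ ∈ B ∧ blockHeight 2 B (χ : G → ℂ) = 0} =
      S.card := by
    rw [Nat.card_eq_fintype_card, hS, Fintype.card_subtype]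
  have hmemS : ∀ χ, χ ∈ S → χ ∈ B ∧ blockHeight 2 B (χ : G → ℂ) = 0 :=
    fun χ hχ => (Finset.mem_filter.1 hχ).2
  -- the lower bound for pairs in `S`
  have hBd : ∀ χ ψ : IrrCharacter G, χ ∈ S → ψ ∈ S →
      φ ≤ ∑ k : (ZMod m)ˣ, ((2 : ℝ) ^ d) ^ 2 *
        ‖contrib 2 H (blockOf M (ξ₁ : H → ℂ)) (yH ^ (k : ZMod m).val) (χ : G → ℂ) (ψ : G → ℂ)‖ ^ 2 := by
    intro χ ψ hχ hψ
    have h := card_units_le_sum_contrib hM H ξ₁ hind yH hyc hyord (hmemS χ hχ).1 (hmemS ψ hψ).1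
      (hmemS χ hχ).2 (hmemS ψ hψ).2 m hm
    refine h.trans (le_of_eq ?_)
    refine Finset.sum_congr rfl fun k _ => ?_
    rw [norm_mul, mul_pow, norm_pow, Complex.norm_natCast, Nat.cast_ofNat]
  -- the odd integers
  have hpar : ∀ χ : IrrCharacter G, ∃ A : ℤ, χ ∈ S → (Odd A ∧
      ∑ k : (ZMod m)ˣ, (2 : ℝ) ^ d * r k χ = φ * (A : ℝ)) := by
    intro χ
    by_cases hχ : χ ∈ S
    · obtain ⟨A, hA1, hA2⟩ := exists_odd_sum_units_contrib_self H hM ξ₁ hind yH hyc hyord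
        (hmemS χ hχ).1 (hmemS χ hχ).2 m hm
      refine ⟨A, fun _ => ⟨hA1, ?_⟩⟩
      simp only [hcr] at hA2
      have h3 : ((∑ k : (ZMod m)ˣ, (2 : ℝ) ^ d * r k χ : ℝ) : ℂ) = ((φ * (A : ℝ) : ℝ) : ℂ) := by
        push_cast
        push_cast at hA2
        exact hA2
      exact_mod_cast h3
    · exact ⟨0, fun h => absurd h hχ⟩
  choose Aint hAint using hpar
  -- `|S| ≤ 2^d A_χ`
  have h1R : ∀ χ ∈ S, (S.card : ℝ) ≤ (2 : ℝ) ^ d * (Aint χ : ℝ) := by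
    intro χ hχ
    have e1 : (S.card : ℝ) * φ ≤ ∑ ψ ∈ S, ∑ k : (ZMod m)ˣ, ((2 : ℝ) ^ d) ^ 2 *
        ‖contrib 2 H (blockOf M (ξ₁ : H → ℂ)) (yH ^ (k : ZMod m).val) (χ : G → ℂ) (ψ : G → ℂ)‖ ^ 2 := by
      have : (S.card : ℝ) * φ = ∑ ψ ∈ S, φ := by
        rw [Finset.sum_const, nsmul_eq_mul]
      rw [this]
      exact Finset.sum_le_sum fun ψ hψ => hBd χ ψ hχ hψ
    have e2 : ∑ ψ ∈ S, ∑ k : (ZMod m)ˣ, ((2 : ℝ) ^ d) ^ 2 *
        ‖contrib 2 H (blockOf M (ξ₁ : H → ℂ)) (yH ^ (k : ZMod m).val) (χ : G → ℂ) (ψ : G → ℂ)‖ ^ 2 ≤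
        ∑ ψ : IrrCharacter G, ∑ k : (ZMod m)ˣ, ((2 : ℝ) ^ d) ^ 2 *
        ‖contrib 2 H (blockOf M (ξ₁ : H → ℂ)) (yH ^ (k : ZMod m).val) (χ : G → ℂ) (ψ : G → ℂ)‖ ^ 2 :=
      Finset.sum_le_sum_of_subset_of_nonneg (Finset.subset_univ S)
        fun ψ _ _ => Finset.sum_nonneg fun k _ => by positivity
    have e3 : ∑ ψ : IrrCharacter G, ∑ k : (ZMod m)ˣ, ((2 : ℝ) ^ d) ^ 2 *
        ‖contrib 2 H (blockOf M (ξ₁ : H → ℂ)) (yH ^ (k : ZMod m).val) (χ : G → ℂ) (ψ : G → ℂ)‖ ^ 2 =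
        (2 : ℝ) ^ d * ∑ k : (ZMod m)ˣ, (2 : ℝ) ^ d * r k χ := by
      rw [Finset.sum_comm, Finset.mul_sum]
      refine Finset.sum_congr rfl fun k _ => ?_
      rw [← Finset.mul_sum]
      ring
    rw [(hAint χ hχ).2] at e3
    have e4 : (S.card : ℝ) * φ ≤ ((2 : ℝ) ^ d * (Aint χ : ℝ)) * φ := by
      calc (S.card : ℝ) * φ ≤ _ := e1
        _ ≤ _ := e2
        _ = _ := e3
        _ = ((2 : ℝ) ^ d * (Aint χ : ℝ)) * φ := by ring
    exact le_of_mul_le_mul_right e4 hφpos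
  -- `∑ A_χ ≤ 2^d l`
  have h2R : ∑ χ ∈ S, (Aint χ : ℝ) ≤ (2 : ℝ) ^ d * (l : ℝ) := by
    have e1 : φ * ∑ χ ∈ S, (Aint χ : ℝ) = ∑ k : (ZMod m)ˣ, (2 : ℝ) ^ d * ∑ χ ∈ S, r k χ := by
      rw [Finset.mul_sum]
      have : ∀ χ ∈ S, φ * (Aint χ : ℝ) = ∑ k : (ZMod m)ˣ, (2 : ℝ) ^ d * r k χ :=
        fun χ hχ => ((hAint χ hχ).2).symm
      rw [Finset.sum_congr rfl this, Finset.sum_comm]
      refine Finset.sum_congr rfl fun k _ => ?_
      rw [Finset.mul_sum]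
    have e2 : ∑ k : (ZMod m)ˣ, (2 : ℝ) ^ d * ∑ χ ∈ S, r k χ ≤
        ∑ k : (ZMod m)ˣ, (2 : ℝ) ^ d * (l : ℝ) := by
      refine Finset.sum_le_sum fun k _ => ?_
      refine mul_le_mul_of_nonneg_left ?_ (by positivity)
      rw [← hsumr k]
      exact Finset.sum_le_sum_of_subset_of_nonneg (Finset.subset_univ S) fun χ _ _ => hr0 k χ
    have e3 : ∑ k : (ZMod m)ˣ, (2 : ℝ) ^ d * (l : ℝ) = φ * ((2 : ℝ) ^ d * (l : ℝ)) := by
      rw [Finset.sum_const, Finset.card_univ, nsmul_eq_mul]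
    have e4 : φ * ∑ χ ∈ S, (Aint χ : ℝ) ≤ φ * ((2 : ℝ) ^ d * (l : ℝ)) := by
      rw [e1, ← e3]
      exact e2
    exact le_of_mul_le_mul_left e4 hφpos
  -- to the naturals
  set A : IrrCharacter G → ℕ := fun χ => (Aint χ).toNat with hA
  have hApos : ∀ χ ∈ S, 0 < Aint χ := by
    intro χ hχ
    have h1 := h1R χ hχ
    have h2 : (1 : ℝ) ≤ (S.card : ℝ) := by
      exact_mod_cast Finset.card_pos.2 ⟨χ, hχ⟩
    have h3 : (0 : ℝ) < (2 : ℝ) ^ d * (Aint χ : ℝ) := by linarith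
    have h4 : (0 : ℝ) < (Aint χ : ℝ) := by
      by_contra hneg
      have : (2 : ℝ) ^ d * (Aint χ : ℝ) ≤ 0 :=
        mul_nonpos_of_nonneg_of_nonpos (by positivity) (not_lt.1 hneg)
      linarith
    exact_mod_cast h4
  have hAcast : ∀ χ ∈ S, ((A χ : ℕ) : ℤ) = Aint χ := fun χ hχ =>
    Int.toNat_of_nonneg (hApos χ hχ).le
  have hodd : ∀ χ ∈ S, Odd (A χ) := by
    intro χ hχ
    rw [← Int.odd_coe_nat, hAcast χ hχ]
    exact (hAint χ hχ).1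
  have h1 : ∀ χ ∈ S, S.card ≤ 2 ^ d * A χ := by
    intro χ hχ
    have h := h1R χ hχ
    have h' : ((S.card : ℕ) : ℝ) ≤ ((2 ^ d * A χ : ℕ) : ℝ) := by
      push_cast
      have : ((A χ : ℕ) : ℝ) = (Aint χ : ℝ) := by
        have := hAcast χ hχ
        exact_mod_cast congrArg (Int.cast : ℤ → ℝ) this
      rw [this]
      exact h
    exact_mod_cast h'
  have h2 : ∑ χ ∈ S, A χ ≤ 2 ^ d * l := by
    have h' : ((∑ χ ∈ S, A χ : ℕ) : ℝ) ≤ ((2 ^ d * l : ℕ) : ℝ) := by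
      push_cast
      have : ∑ χ ∈ S, ((A χ : ℕ) : ℝ) = ∑ χ ∈ S, (Aint χ : ℝ) := by
        refine Finset.sum_congr rfl fun χ hχ => ?_
        have := hAcast χ hχ
        exact_mod_cast congrArg (Int.cast : ℤ → ℝ) this
      rw [this]
      exact h2R
    exact_mod_cast h'
  rw [hcardS]
  exact Cfsg.Agent.Lib.H25.KZ.k0_bounds S A d l hodd h1 h2

end Cfsg.Agent.Lib.H23.KZ
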