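import Cfsg.Agent.Lib.H23.BlockSection
import Cfsg.Agent.Lib.H23.BlockNormalComplement
import Cfsg.Agent.Lib.H23.BlockDefectZero

/-!
# Principal block and centralizers with a normal `p`-complement (helper23)

* `blockCoeff_principal_of_complement`: idempotent coefficients of the principal block of a group
  with a normal `p`-complement `N`: `[g ∈ N] / |N|`;
* `principal_const`: `z` a `p`-element whose centralizer `H` has a normal `p`-complement `N`;
  then `ζ (z y) = ζ z` for `ζ ∈ B₀(G)` and `y ∈ N`;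
* `not_mem_principal_of_vanish`: an irreducible character vanishing on all `p`-singular elements
  is not in the principal block (if `p ∣ |G|`).
-/

set_option autoImplicit false

namespace Cfsg.Agent.Lib.H23.KleinBlock

open Cfsg MonoidAlgebra Cfsg.Agent.Lib.L0.BlockKer Cfsg.Agent.Lib.H23
open scoped ComplexConjugate

section NC

variable {K : Type*} [Group K] [Fintype K] {p : ℕ} {M : Ideal AlgInt}

theorem blockCoeff_principal_of_complement (hM : IsPModular p M) (N : Subgroup K) [N.Normal]
    (hN : ¬ p ∣ Nat.card N) {k : ℕ} (hidx : N.index = p ^ k) (g : K) [Decidable (g ∈ N)] :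
    blockCoeff (principalBlock M K) g = if g ∈ N then (Nat.card N : ℂ)⁻¹ else 0 := by
  classical
  haveI := Fintype.ofFinite (IrrCharacter K)
  rw [blockCoeff_eq_sum]
  have h1 := coeff_eq_sum_omega (avg_mem_center N) g
  have h2 : (avg N).coeff g = if g ∈ N then (Nat.card N : ℂ)⁻¹ else 0 := by
    simp only [avg, coeff_ofFun]
    congr
  rw [← h2, h1]
  congr 1
  refine Finset.sum_congr rfl (fun χ _ => ?_)
  rcases omega_avg χ N with ⟨hk, ho⟩ | ⟨hk, ho⟩
  · rw [if_pos ((mem_principalBlock_iff_ker hM N hN hidx χ).2 hk), ho, one_mul]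
  · rw [if_neg (fun h => hk ((mem_principalBlock_iff_ker hM N hN hidx χ).1 h)), ho, zero_mul]

end NC

section Const

variable {G : Type*} [Group G] [Fintype G] {p : ℕ} {M : Ideal AlgInt}

theorem principal_avg (hM : IsPModular p M) (z : G)
    (hz : ∃ k : ℕ, orderOf z = p ^ k) (H : Subgroup G)
    (hH : H = Subgroup.centralizer ({z} : Set G)) [Fintype H]
    (N : Subgroup H) [N.Normal] (hN : ¬ p ∣ Nat.card N) {k : ℕ} (hidx : N.index = p ^ k)
    [Fintype N]
    (ζ : IrrCharacter G) (hζ : ζ ∈ principalBlock M G) (y : H) (hy : y ∈ N) :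
    (ζ : G → ℂ) (z * (y : G)) =
      (Nat.card N : ℂ)⁻¹ * ∑ n : N, (ζ : G → ℂ) (z * ((n : H) : G)) := by
  classical
  haveI hPr := isPrime_of_isPModular hM
  have hp := prime_of_isPModular hM
  obtain ⟨hPp, hPH, hCH, hHN⟩ := centralizer_data (G := G) hz
  rw [← hH] at hPH hCH hHN
  have hzH : z ∈ H := by
    rw [hH]
    exact Subgroup.mem_centralizer_singleton_iff.2 rfl
  have hHcomm : ∀ g : H, (g : G) * z = z * (g : G) := by
    intro g
    have h1 : (g : G) ∈ Subgroup.centralizer ({z} : Set G) := hH ▸ g.2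
    exact Subgroup.mem_centralizer_singleton_iff.1 h1
  set zH : H := ⟨z, hzH⟩ with hzHdef
  set u : H := zH * y with hu
  have huG : (u : G) = z * (y : G) := rfl
  have hyH : ¬ p ∣ orderOf y := not_dvd_orderOf_of_mem N hN hy
  have hcomm : Commute z (y : G) := (hHcomm y).symm
  have hyG : ¬ p ∣ orderOf (y : G) := by rwa [Subgroup.orderOf_coe]
  have hpart : IsPPart p (u : G) z := isPPart_mul hcomm hz hyG
  have hC : ∀ z' : G, IsPPart p (u : G) z' → Subgroup.centralizer ({z'} : Set G) ≤ H := by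
    intro z' hz'
    rw [IsPPart.unique hp hz' hpart, hH]
  have h1 := principal_local hM (Subgroup.zpowers z) hPp H hPH hCH hHN ζ hζ u hC
  rw [huG] at h1
  rw [h1]
  have h2 : ∀ k : H, blockCoeff (principalBlock M H) k * (ζ : G → ℂ) ((k : G) * (z * (y : G))) =
      if k ∈ N then (Nat.card N : ℂ)⁻¹ * (ζ : G → ℂ) ((k : G) * (z * (y : G))) else 0 := by
    intro k
    rw [blockCoeff_principal_of_complement hM N hN hidx k]
    split_ifs
    · rfl
    · rw [zero_mul]
  rw [Finset.sum_congr rfl (fun k _ => h2 k), ← Finset.sum_filter,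
    Finset.sum_subtype (Finset.univ.filter (· ∈ N)) (p := (· ∈ N)) (by simp)
      (fun k : H => (Nat.card N : ℂ)⁻¹ * (ζ : G → ℂ) ((k : G) * (z * (y : G)))),
    ← Finset.mul_sum]
  congr 1
  refine Fintype.sum_equiv (Equiv.mulRight (⟨y, hy⟩ : N)) _ _ (fun n => ?_)
  simp only [Equiv.coe_mulRight, Subgroup.coe_mul]
  rw [← mul_assoc, hHcomm, mul_assoc]

theorem principal_const (hM : IsPModular p M) (z : G)
    (hz : ∃ k : ℕ, orderOf z = p ^ k) (H : Subgroup G)
    (hH : H = Subgroup.centralizer ({z} : Set G)) [Fintype H]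
    (N : Subgroup H) [N.Normal] (hN : ¬ p ∣ Nat.card N) {k : ℕ} (hidx : N.index = p ^ k)
    (ζ : IrrCharacter G) (hζ : ζ ∈ principalBlock M G) (y : H) (hy : y ∈ N) :
    (ζ : G → ℂ) (z * (y : G)) = (ζ : G → ℂ) z := by
  classical
  haveI : Fintype N := Fintype.ofFinite _
  have h1 := principal_avg hM z hz H hH N hN hidx ζ hζ y hy
  have h2 := principal_avg hM z hz H hH N hN hidx ζ hζ 1 N.one_mem
  rw [Subgroup.coe_one, mul_one] at h2
  rw [h1, h2]

end Const

section Vanish

variable {G : Type*} [Group G] [Fintype G] {p : ℕ} {M : Ideal AlgInt}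

theorem not_mem_principal_of_vanish [Fact p.Prime] (hM : IsPModular p M) (ζ : IrrCharacter G)
    (hvan : ∀ g : G, p ∣ orderOf g → (ζ : G → ℂ) g = 0) (g₀ : G) (hg₀ : p ∣ orderOf g₀) :
    ζ ∉ principalBlock M G := by
  classical
  haveI hPr := isPrime_of_isPModular hM
  have hp := prime_of_isPModular hM
  intro hζ
  have hchar : IsCharacter G (ζ : G → ℂ) := Cfsg.Agent.Lib.L0.isCharacter_of_irr ζ.2
  have hd := apply_one_eq_charDegree (ζ : G → ℂ) ζ.2
  have hdvd := card_sylow_dvd_of_vanish (p := p) hchar hd hvan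
  have hdG := charDegree_dvd_card (ζ : G → ℂ) ζ.2
  have hdpos := charDegree_pos (ζ : G → ℂ) ζ.2
  set d := charDegree (ζ : G → ℂ) with hdd
  have hG0 : Nat.card G ≠ 0 := Nat.card_pos.ne'
  have h1 : (Nat.card G).factorization p ≤ d.factorization p :=
    (hp.pow_dvd_iff_le_factorization hdpos.ne').1 hdvd
  have h2 : (Nat.card G / d).factorization p = 0 := by
    rw [Nat.factorization_div hdG]
    simp only [Finsupp.coe_tsub, Pi.sub_apply]
    omega
  have h3 : ¬ p ∣ Nat.card G / d := by
    intro h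
    have hne : Nat.card G / d ≠ 0 := by
      obtain ⟨q, hq⟩ := hdG
      rw [hq, Nat.mul_div_cancel_left _ hdpos]
      rintro rfl
      exact hG0 (by rw [hq, mul_zero])
    have := (hp.dvd_iff_one_le_factorization hne).1 h
    omega
  have h4 := (not_dvd_iff_blockOf_eq_singleton hM ζ).1 h3
  have h5 : Cfsg.Agent.Lib.H24.trivialIrr G ∈ blockOf M (ζ : G → ℂ) := by
    rw [principalBlock_eq_blockOf hζ]
    exact trivialIrr_mem_principalBlock
  rw [h4, Set.mem_singleton_iff] at h5
  have h6 := hvan g₀ hg₀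
  rw [← h5] at h6
  simp at h6

end Vanish

end Cfsg.Agent.Lib.H23.KleinBlock
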