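import Cfsg.Agent.Lib.H23.KleinBlockA
import Cfsg.Agent.Lib.H22.KleinGroup

/-!
# The principal 2-block of a group with Klein four Sylow 2-subgroups and one class of
involutions (helper23)
-/

set_option autoImplicit false

namespace Cfsg.Agent.Lib.H23.KleinBlock

open Cfsg MonoidAlgebra Cfsg.Agent.Lib.H23
open scoped ComplexConjugate

section Klein

variable {G : Type*} [Group G] [Fintype G] {M : Ideal AlgInt}

theorem sum_subgroup_eq (ζ : IrrCharacter G) (S : Subgroup G) (v : ℂ)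
    (hv : ∀ x ∈ S, x ≠ 1 → (ζ : G → ℂ) x = v) :
    ∃ n : ℕ, (charDegree (ζ : G → ℂ) : ℂ) + ((Nat.card S : ℂ) - 1) * v =
      n * (Nat.card S : ℂ) := by
  classical
  haveI : Fintype S := Fintype.ofFinite _
  have hchar : IsCharacter G (ζ : G → ℂ) := Cfsg.Agent.Lib.L0.isCharacter_of_irr ζ.2
  have hres : IsCharacter S (fun x : S => (ζ : G → ℂ) x) :=
    Cfsg.Agent.Lib.L0.isCharacter_restrict S hchar
  have hone : IsCharacter S (1 : S → ℂ) :=
    Cfsg.Agent.Lib.L0.isCharacter_of_irr Cfsg.Agent.Lib.L0.isIrrCharacter_one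
  obtain ⟨n, hn⟩ := Cfsg.Agent.Lib.L0.classInner_char_char_nat hres hone
  refine ⟨n, ?_⟩
  have hd := apply_one_eq_charDegree (ζ : G → ℂ) ζ.2
  have hsum : ∑ x : S, (ζ : G → ℂ) x * conj ((1 : S → ℂ) x) =
      (charDegree (ζ : G → ℂ) : ℂ) + ((Nat.card S : ℂ) - 1) * v := by
    have h1 : ∀ x : S, (ζ : G → ℂ) x * conj ((1 : S → ℂ) x) =
        v + (if x = 1 then (charDegree (ζ : G → ℂ) : ℂ) - v else 0) := by
      intro x
      simp only [Pi.one_apply, map_one, mul_one]
      split_ifs with hx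
      · rw [hx, Subgroup.coe_one, hd]; ring
      · rw [hv x x.2 (fun h => hx (Subtype.ext h)), add_zero]
    rw [Finset.sum_congr rfl (fun x _ => h1 x), Finset.sum_add_distrib, Finset.sum_const,
      Finset.sum_ite_eq' Finset.univ (1 : S), if_pos (Finset.mem_univ _), Finset.card_univ,
      ← Nat.card_eq_fintype_card, nsmul_eq_mul]
    ring
  rw [classInner, hsum] at hn
  have hS0 : (Nat.card S : ℂ) ≠ 0 := Nat.cast_ne_zero.2 Nat.card_pos.ne'
  rw [← hn]
  field_simp

theorem involution_value (ζ : IrrCharacter G) (P : Subgroup G) (hcard : Nat.card P = 4)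
    (v : ℂ) (hv : ∀ x ∈ P, x ≠ 1 → (ζ : G → ℂ) x = v) {z : G} (hzP : z ∈ P)
    (hz2 : orderOf z = 2) :
    ∃ m : ℤ, v = m ∧ (4 : ℤ) ∣ (charDegree (ζ : G → ℂ) : ℤ) - m := by
  obtain ⟨n₁, h1⟩ := sum_subgroup_eq ζ P v hv
  have hZP : Subgroup.zpowers z ≤ P := by
    rw [Subgroup.zpowers_le]
    exact hzP
  obtain ⟨n₂, h2⟩ := sum_subgroup_eq ζ (Subgroup.zpowers z) v
    (fun x hx hx1 => hv x (hZP hx) hx1)
  rw [hcard] at h1
  rw [Nat.card_zpowers, hz2] at h2
  set d := charDegree (ζ : G → ℂ) with hd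
  have hv2 : v = ((2 * (n₂ : ℤ) - (d : ℤ) : ℤ) : ℂ) := by
    push_cast
    push_cast at h2
    linear_combination h2
  refine ⟨2 * (n₂ : ℤ) - (d : ℤ), hv2, ?_⟩
  rw [hv2] at h1
  have h3 : ((d : ℤ) + 3 * (2 * (n₂ : ℤ) - (d : ℤ)) : ℤ) = 4 * (n₁ : ℤ) := by
    have : (((d : ℤ) + 3 * (2 * (n₂ : ℤ) - (d : ℤ)) : ℤ) : ℂ) = ((4 * (n₁ : ℤ) : ℤ) : ℂ) := by
      push_cast
      push_cast at h1
      linear_combination h1
    exact_mod_cast this
  refine ⟨(n₁ : ℤ) - (2 * (n₂ : ℤ) - (d : ℤ)), ?_⟩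
  linarith

open scoped Classical in
theorem klein_facts [Fintype (IrrCharacter G)] (hM : IsPModular 2 M) (P : Sylow 2 G)
    (hP : IsKleinFour (P : Subgroup G))
    (hone : ∀ s t : G, orderOf s = 2 → orderOf t = 2 → IsConj s t) :
    ∃ z : G, orderOf z = 2 ∧ z ∈ (P : Subgroup G) ∧
      (∀ ζ : IrrCharacter G, ζ ∈ principalBlock M G → ∀ g : G, 2 ∣ orderOf g →
        (ζ : G → ℂ) g = (ζ : G → ℂ) z) ∧
      ∑ ζ : IrrCharacter G, (if ζ ∈ principalBlock M G then
        (ζ : G → ℂ) z * conj ((ζ : G → ℂ) z) else 0) = 4 := by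
  haveI hPr := isPrime_of_isPModular hM
  have hp2 : Nat.Prime 2 := Nat.prime_two
  have hcard : Nat.card (P : Subgroup G) = 4 := hP.card_four
  have hsq : ∀ x ∈ (P : Subgroup G), x * x = 1 := by
    intro x hx
    have := IsKleinFour.mul_self (⟨x, hx⟩ : (P : Subgroup G))
    exact congrArg Subtype.val this
  have hcomm : ∀ x ∈ (P : Subgroup G), ∀ y ∈ (P : Subgroup G), x * y = y * x := by
    intro x hx y hy
    haveI := IsKleinFour.isMulCommutative (G := (P : Subgroup G))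
    have := isMulCommutative_iff.1 this (⟨x, hx⟩ : (P : Subgroup G)) ⟨y, hy⟩
    exact congrArg Subtype.val this
  haveI : Nontrivial (P : Subgroup G) :=
    (Finite.one_lt_card_iff_nontrivial).1 (by rw [hcard]; norm_num)
  obtain ⟨x, hx⟩ := exists_ne (1 : (P : Subgroup G))
  obtain ⟨z, hzP, hzx⟩ : ∃ z : G, z ∈ (P : Subgroup G) ∧ z = (x : G) := ⟨x, x.2, rfl⟩
  have hz1 : z ≠ 1 := by
    rw [hzx]
    intro h
    exact hx (Subtype.ext h)
  have hzz : z * z = 1 := hsq z hzP
  have hz2 : orderOf z = 2 := orderOf_eq_prime (by rw [pow_two]; exact hzz) hz1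
  have hG : Nat.card G = 4 * (P : Subgroup G).index := by
    rw [← hcard, Subgroup.card_mul_index]
  have hg₀ : Odd (P : Subgroup G).index := by
    rw [← Nat.not_even_iff_odd, even_iff_two_dvd]
    exact P.not_dvd_index
  obtain ⟨K, hKn, hKodd, hK4, -, -⟩ :=
    Cfsg.Agent.Lib.H22.KleinGroup.exists_complement_centralizer hg₀ hG P hcard hsq hcomm hzP hz1
  haveI := hKn
  have hKN : ¬ 2 ∣ Nat.card K := by
    rw [← even_iff_two_dvd, Nat.not_even_iff_odd]
    exact hKodd
  have hidx : K.index = 2 ^ 2 := by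
    have h1 := Subgroup.index_mul_card K
    rw [← hK4] at h1
    have hK0 : 0 < Nat.card K := Nat.card_pos
    have : K.index = 4 := Nat.eq_of_mul_eq_mul_right hK0 h1
    rw [this]
    norm_num
  have hzpow : ∃ k : ℕ, orderOf z = 2 ^ k := ⟨1, by rw [hz2, pow_one]⟩
  refine ⟨z, hz2, hzP, ?_, ?_⟩
  · intro ζ hζ g hg
    obtain ⟨x, y, hxy, hcxy, ⟨k, hk⟩, hy⟩ := exists_isPPart hp2 g (isOfFinOrder_of_finite g)
    have hx1 : x ≠ 1 := by
      rintro rfl
      rw [one_mul] at hxy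
      rw [hxy] at hy
      exact hy hg
    have hxpow : x ^ (2 ^ k) = 1 := by rw [← hk, pow_orderOf_eq_one]
    obtain ⟨c, hc⟩ := Cfsg.Agent.Lib.H22.KleinGroup.exists_conj_mem_sylow P hxpow
    have hxx : x * x = 1 := by
      have h1 := hsq _ hc
      have h2 : c⁻¹ * x * c * (c⁻¹ * x * c) = c⁻¹ * (x * x) * c := by group
      rw [h2] at h1
      have h3 : x * x = c * (c⁻¹ * (x * x) * c) * c⁻¹ := by group
      rw [h3, h1]
      group
    have hx2 : orderOf x = 2 := orderOf_eq_prime (by rw [pow_two]; exact hxx) hx1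
    obtain ⟨c, hc⟩ := isConj_iff.1 (hone z x hz2 hx2)
    set y' : G := c⁻¹ * y * c with hy'
    have hzy' : z * y' = c⁻¹ * g * c := by
      rw [hy', ← hxy, ← hc]
      group
    have hcomm' : y' * z = z * y' := by
      have h1 : y * x = x * y := hcxy.eq.symm
      rw [← hc] at h1
      have h2 : y' * z = c⁻¹ * (y * (c * z * c⁻¹)) * c := by rw [hy']; group
      have h3 : z * y' = c⁻¹ * ((c * z * c⁻¹) * y) * c := by rw [hy']; group
      rw [h2, h3, h1]
    have hy'H : y' ∈ Subgroup.centralizer ({z} : Set G) :=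
      Subgroup.mem_centralizer_singleton_iff.2 hcomm'
    have hy'ord : orderOf y' = orderOf y := by
      have := (MulAut.conj c⁻¹).orderOf_eq y
      rw [MulAut.conj_apply, inv_inv] at this
      exact this
    have hy'K : (⟨y', hy'H⟩ : Subgroup.centralizer ({z} : Set G)) ∈ K := by
      apply mem_of_pRegular_of_index_pow hp2 K hidx
      rw [Subgroup.orderOf_mk, hy'ord]
      exact hy
    have h1 := principal_const hM z hzpow (Subgroup.centralizer ({z} : Set G)) rfl K hKN hidx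
      ζ hζ ⟨y', hy'H⟩ hy'K
    simp only at h1
    rw [← h1, hzy']
    have h2 := Cfsg.Agent.Lib.H24.irr_conj ζ g c⁻¹
    rw [inv_inv] at h2
    exact h2.symm
  · haveI : Fintype (IrrCharacter ↥(Subgroup.centralizer ({z} : Set G))) := Fintype.ofFinite _
    have h1 := section_sum_principal hM z hzpow (Subgroup.centralizer ({z} : Set G)) rfl 1
      (by rw [orderOf_one]; norm_num)
    rw [Subgroup.coe_one, mul_one] at h1
    rw [h1, sum_principal_sq hM K hKN hidx (by rw [orderOf_one]; norm_num)]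
    norm_num

end Klein

end Cfsg.Agent.Lib.H23.KleinBlock
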