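import Cfsg.Agent.Lib.H23.KleinBlockB
import Cfsg.Agent.Lib.H23.BlockVanish

/-!
# Brauer's theorem on the principal 2-block for Klein four Sylow 2-subgroups with one class of
involutions (helper23)
-/

set_option autoImplicit false

namespace Cfsg.Agent.Lib.H23.KleinBlock

open Cfsg MonoidAlgebra Cfsg.Agent.Lib.H23
open scoped ComplexConjugate

section Klein

variable {G : Type*} [Group G] [Fintype G] {M : Ideal AlgInt}

open scoped Classical in
theorem klein_main (hM : IsPModular 2 M) (P : Sylow 2 G) (hP : IsKleinFour (P : Subgroup G))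
    (hone : ∀ s t : G, orderOf s = 2 → orderOf t = 2 → IsConj s t) :
    ∃ ζ₂ ζ₃ ζ₄ : IrrCharacter G, ∃ ε : ℤ, (ε = 1 ∨ ε = -1) ∧ (ζ₂ : G → ℂ) ≠ (fun _ => 1) ∧
      (ζ₃ : G → ℂ) ≠ (fun _ => 1) ∧ ζ₂ ≠ ζ₃ ∧ ζ₂ ≠ ζ₄ ∧ ζ₃ ≠ ζ₄ ∧
      principalBlock M G = {χ : IrrCharacter G | (χ : G → ℂ) = (fun _ => 1) ∨ χ = ζ₂ ∨ χ = ζ₃ ∨
        χ = ζ₄} ∧
      (∀ z : G, orderOf z = 2 → (ζ₂ : G → ℂ) z = 1 ∧ (ζ₃ : G → ℂ) z = (ε : ℂ) ∧
        (ζ₄ : G → ℂ) z = -1) ∧
      (4 : ℤ) ∣ (charDegree (ζ₂ : G → ℂ) : ℤ) - 1 ∧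
      (4 : ℤ) ∣ (charDegree (ζ₃ : G → ℂ) : ℤ) - ε ∧
      (4 : ℤ) ∣ (charDegree (ζ₄ : G → ℂ) : ℤ) + 1 ∧
      ∀ y : G, Odd (orderOf y) →
        1 + (ζ₂ : G → ℂ) y + (ε : ℂ) * (ζ₃ : G → ℂ) y - (ζ₄ : G → ℂ) y = 0 := by
  haveI := Fintype.ofFinite (IrrCharacter G)
  haveI hPr := isPrime_of_isPModular hM
  obtain ⟨z, hz2, hzP, hsing, hsum⟩ := klein_facts hM P hP hone
  have hcard : Nat.card (P : Subgroup G) = 4 := hP.card_four
  have hz2dvd : 2 ∣ orderOf z := by rw [hz2]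
  have hval : ∀ ζ : IrrCharacter G, ζ ∈ principalBlock M G → ∃ m : ℤ, (ζ : G → ℂ) z = m ∧
      (4 : ℤ) ∣ (charDegree (ζ : G → ℂ) : ℤ) - m ∧ m ≠ 0 := by
    intro ζ hζ
    have hv : ∀ x ∈ (P : Subgroup G), x ≠ 1 → (ζ : G → ℂ) x = (ζ : G → ℂ) z := by
      intro x hx hx1
      apply hsing ζ hζ
      have hxx : x * x = 1 :=
        congrArg Subtype.val (IsKleinFour.mul_self (⟨x, hx⟩ : (P : Subgroup G)))
      rw [orderOf_eq_prime (by rw [pow_two]; exact hxx) hx1]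
    obtain ⟨m, hm, hdvd⟩ := involution_value ζ P hcard _ hv hzP hz2
    refine ⟨m, hm, hdvd, ?_⟩
    rintro rfl
    apply not_mem_principal_of_vanish hM ζ _ z hz2dvd hζ
    intro g hg
    rw [hsing ζ hζ g hg, hm]
    simp
  choose! v hv using hval
  set triv := Cfsg.Agent.Lib.H24.trivialIrr G with htriv
  have htrivB : triv ∈ principalBlock M G := trivialIrr_mem_principalBlock
  have hBeq : blockOf M (triv : G → ℂ) = principalBlock M G := principalBlock_eq_blockOf htrivB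
  have htriv_apply : ∀ g : G, (triv : G → ℂ) g = 1 := fun g => rfl
  have hvtriv : v triv = 1 := by
    have h1 := (hv triv htrivB).1
    rw [htriv_apply] at h1
    exact_mod_cast h1.symm
  have hd_triv : charDegree (triv : G → ℂ) = 1 := by
    have h1 := apply_one_eq_charDegree (triv : G → ℂ) triv.2
    rw [htriv_apply] at h1
    exact_mod_cast h1.symm
  set S : Finset (IrrCharacter G) := Finset.univ.filter (· ∈ principalBlock M G) with hS
  have hmemS : ∀ χ, χ ∈ S ↔ χ ∈ principalBlock M G := by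
    intro χ
    rw [hS, Finset.mem_filter]
    simp
  have htrivS : triv ∈ S := (hmemS triv).2 htrivB
  -- orthogonality relations in terms of `v`
  have horth : ∀ x : G, ¬ 2 ∣ orderOf x → ∑ χ ∈ S, (χ : G → ℂ) x * (v χ : ℂ) = 0 := by
    intro x hx
    have h1 := weak_block_orthogonality hM triv x z hx hz2dvd
    rw [← Finset.sum_filter] at h1
    have h2 : Finset.univ.filter (fun χ : IrrCharacter G => χ ∈ blockOf M (triv : G → ℂ)) = S := by
      rw [hS]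
      ext χ
      simp only [Finset.mem_filter, Finset.mem_univ, true_and]
      rw [hBeq]
    rw [h2] at h1
    rw [← h1]
    refine Finset.sum_congr rfl (fun χ hχ => ?_)
    rw [(hv χ ((hmemS χ).1 hχ)).1]
    simp
  have hsumZ : ∑ χ ∈ S, (v χ) ^ 2 = 4 := by
    rw [← Finset.sum_filter] at hsum
    have h1 : ((∑ χ ∈ S, (v χ) ^ 2 : ℤ) : ℂ) = 4 := by
      rw [← hsum]
      push_cast
      refine Finset.sum_congr rfl (fun χ hχ => ?_)
      rw [(hv χ ((hmemS χ).1 hχ)).1]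
      simp [pow_two]
    exact_mod_cast h1
  set T := S.erase triv with hT
  have hST : S = insert triv T := (Finset.insert_erase htrivS).symm
  have htrivT : triv ∉ T := Finset.notMem_erase triv S
  have hsumT : ∑ χ ∈ T, (v χ) ^ 2 = 3 := by
    rw [hST, Finset.sum_insert htrivT, hvtriv] at hsumZ
    linarith
  have hmemT : ∀ χ ∈ T, χ ∈ principalBlock M G := fun χ hχ =>
    (hmemS χ).1 (Finset.mem_of_mem_erase hχ)
  have hvT : ∀ χ ∈ T, v χ = 1 ∨ v χ = -1 := by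
    intro χ hχ
    have h1 : (v χ) ^ 2 ≤ ∑ χ ∈ T, (v χ) ^ 2 :=
      Finset.single_le_sum (f := fun χ => (v χ) ^ 2) (fun i _ => sq_nonneg (v i)) hχ
    rw [hsumT] at h1
    have h2 := (hv χ (hmemT χ hχ)).2.2
    have h3 : v χ ≤ 1 := by nlinarith
    have h4 : -1 ≤ v χ := by nlinarith
    omega
  have hcardT : T.card = 3 := by
    have h1 : ∑ χ ∈ T, (v χ) ^ 2 = ∑ χ ∈ T, (1 : ℤ) := by
      refine Finset.sum_congr rfl (fun χ hχ => ?_)
      rcases hvT χ hχ with h | h <;> rw [h] <;> norm_num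
    rw [hsumT, Finset.sum_const, nsmul_eq_mul, mul_one] at h1
    exact_mod_cast h1.symm
  -- degree relation
  have hdeg : (1 : ℤ) + ∑ χ ∈ T, (charDegree (χ : G → ℂ) : ℤ) * v χ = 0 := by
    have h1 := horth 1 (by rw [orderOf_one]; norm_num)
    rw [hST, Finset.sum_insert htrivT, htriv_apply, hvtriv] at h1
    have h3 : ∑ χ ∈ T, (χ : G → ℂ) 1 * (v χ : ℂ) =
        ((∑ χ ∈ T, (charDegree (χ : G → ℂ) : ℤ) * v χ : ℤ) : ℂ) := by
      push_cast
      refine Finset.sum_congr rfl (fun χ _ => ?_)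
      rw [apply_one_eq_charDegree (χ : G → ℂ) χ.2]
    rw [h3] at h1
    have h2 : ((1 + ∑ χ ∈ T, (charDegree (χ : G → ℂ) : ℤ) * v χ : ℤ) : ℂ) = 0 := by
      push_cast at h1 ⊢
      linear_combination h1
    exact_mod_cast h2
  have hdpos : ∀ χ : IrrCharacter G, (1 : ℤ) ≤ (charDegree (χ : G → ℂ) : ℤ) := by
    intro χ
    have := charDegree_pos (χ : G → ℂ) χ.2
    exact_mod_cast this
  obtain ⟨ζ₂, hζ₂T, hvζ₂⟩ : ∃ ζ₂ ∈ T, v ζ₂ = 1 := by
    by_contra hcon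
    push Not at hcon
    have h1 : ∑ χ ∈ T, (charDegree (χ : G → ℂ) : ℤ) * v χ ≤ ∑ χ ∈ T, (-1 : ℤ) := by
      refine Finset.sum_le_sum (fun χ hχ => ?_)
      rcases hvT χ hχ with h | h
      · exact absurd h (hcon χ hχ)
      · rw [h]
        have := hdpos χ
        linarith
    rw [Finset.sum_const, hcardT] at h1
    simp at h1
    linarith
  obtain ⟨ζ₄, hζ₄T, hvζ₄⟩ : ∃ ζ₄ ∈ T, v ζ₄ = -1 := by
    by_contra hcon
    push Not at hcon
    have h1 : ∑ χ ∈ T, (0 : ℤ) ≤ ∑ χ ∈ T, (charDegree (χ : G → ℂ) : ℤ) * v χ := by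
      refine Finset.sum_le_sum (fun χ hχ => ?_)
      rcases hvT χ hχ with h | h
      · rw [h]
        have := hdpos χ
        linarith
      · exact absurd h (hcon χ hχ)
    rw [Finset.sum_const_zero] at h1
    linarith
  have h24 : ζ₂ ≠ ζ₄ := by
    rintro rfl
    rw [hvζ₂] at hvζ₄
    norm_num at hvζ₄
  have hcard' : ((T.erase ζ₂).erase ζ₄).card = 1 := by
    rw [Finset.card_erase_of_mem, Finset.card_erase_of_mem hζ₂T, hcardT]
    exact Finset.mem_erase.2 ⟨h24.symm, hζ₄T⟩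
  obtain ⟨ζ₃, hζ₃⟩ := Finset.card_eq_one.1 hcard'
  have hζ₃mem : ζ₃ ∈ (T.erase ζ₂).erase ζ₄ := by rw [hζ₃]; exact Finset.mem_singleton_self _
  have h34 : ζ₃ ≠ ζ₄ := (Finset.mem_erase.1 hζ₃mem).1
  have h32 : ζ₃ ≠ ζ₂ := (Finset.mem_erase.1 (Finset.mem_erase.1 hζ₃mem).2).1
  have hζ₃T : ζ₃ ∈ T := (Finset.mem_erase.1 (Finset.mem_erase.1 hζ₃mem).2).2
  have hTeq : T = {ζ₂, ζ₃, ζ₄} := by
    ext χ
    simp only [Finset.mem_insert, Finset.mem_singleton]
    constructor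
    · intro hχ
      by_cases h2 : χ = ζ₂
      · exact Or.inl h2
      · by_cases h4 : χ = ζ₄
        · exact Or.inr (Or.inr h4)
        · right; left
          have : χ ∈ (T.erase ζ₂).erase ζ₄ :=
            Finset.mem_erase.2 ⟨h4, Finset.mem_erase.2 ⟨h2, hχ⟩⟩
          rw [hζ₃, Finset.mem_singleton] at this
          exact this
    · rintro (rfl | rfl | rfl)
      · exact hζ₂T
      · exact hζ₃T
      · exact hζ₄T
  have hne_triv : ∀ χ ∈ T, (χ : G → ℂ) ≠ (fun _ => 1) := by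
    intro χ hχ h
    apply (Finset.mem_erase.1 hχ).1
    exact Subtype.ext h
  have hvalue : ∀ χ ∈ T, ∀ z' : G, orderOf z' = 2 → (χ : G → ℂ) z' = (v χ : ℂ) := by
    intro χ hχ z' hz'
    rw [Cfsg.Agent.Lib.H24.irr_eq_of_isConj χ (hone z' z hz' hz2)]
    exact (hv χ (hmemT χ hχ)).1
  refine ⟨ζ₂, ζ₃, ζ₄, v ζ₃, hvT ζ₃ hζ₃T, hne_triv ζ₂ hζ₂T, hne_triv ζ₃ hζ₃T, h32.symm, h24, h34,
    ?_, ?_, ?_, ?_, ?_, ?_⟩
  · ext χ
    simp only [Set.mem_ofPred_eq]
    rw [← hmemS χ, hST, Finset.mem_insert, hTeq]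
    simp only [Finset.mem_insert, Finset.mem_singleton]
    constructor
    · rintro (h | h)
      · left
        rw [h]
        rfl
      · right; exact h
    · rintro (h | h)
      · left
        exact Subtype.ext h
      · right; exact h
  · intro z' hz'
    refine ⟨?_, hvalue ζ₃ hζ₃T z' hz', ?_⟩
    · rw [hvalue ζ₂ hζ₂T z' hz', hvζ₂]
      simp
    · rw [hvalue ζ₄ hζ₄T z' hz', hvζ₄]
      simp
  · have := (hv ζ₂ (hmemT ζ₂ hζ₂T)).2.1
    rw [hvζ₂] at this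
    exact this
  · exact (hv ζ₃ (hmemT ζ₃ hζ₃T)).2.1
  · have := (hv ζ₄ (hmemT ζ₄ hζ₄T)).2.1
    rw [hvζ₄] at this
    simpa using this
  · intro y hy
    have hy2 : ¬ 2 ∣ orderOf y := by
      rw [← even_iff_two_dvd, Nat.not_even_iff_odd]
      exact hy
    have h1 := horth y hy2
    rw [hST, Finset.sum_insert htrivT, hTeq, Finset.sum_insert, Finset.sum_insert,
      Finset.sum_singleton, htriv_apply, hvtriv, hvζ₂, hvζ₄] at h1
    · rw [← h1]
      push_cast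
      ring
    · rw [Finset.mem_singleton]
      exact h34
    · rw [Finset.mem_insert, Finset.mem_singleton]
      rintro (h | h)
      · exact h32 h.symm
      · exact h24 h

end Klein

end Cfsg.Agent.Lib.H23.KleinBlock
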