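import Cfsg.Agent.Lib.H23.KleinBlockC
import Cfsg.Agent.Lib.H23.BlockOrth

/-!
# Counting consequences of Brauer's Klein four theorem (helper23)

`klein_counts`: in the setting of `klein_main`: `|B₀| = 4`; `∑_{χ ∈ B₀} |χ(g)|² = 4` for
2-singular `g`; `∑_{g 2-regular} ∑_{χ ∈ B₀} |χ(g)|² = 3 |G|`.
-/

set_option autoImplicit false

namespace Cfsg.Agent.Lib.H23.KleinBlock

open Cfsg MonoidAlgebra Cfsg.Agent.Lib.H23
open scoped ComplexConjugate

section Klein

variable {G : Type*} [Group G] [Fintype G] {M : Ideal AlgInt}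

open scoped Classical in
theorem klein_counts [Fintype (IrrCharacter G)] (hM : IsPModular 2 M) (P : Sylow 2 G)
    (hP : IsKleinFour (P : Subgroup G))
    (hone : ∀ s t : G, orderOf s = 2 → orderOf t = 2 → IsConj s t) :
    (Finset.univ.filter (fun χ : IrrCharacter G => χ ∈ principalBlock M G)).card = 4 ∧
    (∀ g : G, 2 ∣ orderOf g → ∑ χ : IrrCharacter G, (if χ ∈ principalBlock M G then
      (χ : G → ℂ) g * conj ((χ : G → ℂ) g) else 0) = 4) ∧
    ∑ g : G, (if 2 ∣ orderOf g then (0 : ℂ) else ∑ χ : IrrCharacter G,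
      (if χ ∈ principalBlock M G then (χ : G → ℂ) g * conj ((χ : G → ℂ) g) else 0)) =
      3 * (Nat.card G : ℂ) := by
  haveI hPr := isPrime_of_isPModular hM
  obtain ⟨z₀, hz2, hzP, hsing, hsum⟩ := klein_facts hM P hP hone
  obtain ⟨ζ₂, ζ₃, ζ₄, ε, hε, hne2, hne3, h23, h24, h34, hB, hvals, -, -, -, hrel⟩ :=
    klein_main hM P hP hone
  set triv := Cfsg.Agent.Lib.H24.trivialIrr G with htriv
  have htriv_apply : ∀ g : G, (triv : G → ℂ) g = 1 := fun g => rfl
  have hcoe_triv : ∀ χ : IrrCharacter G, (χ : G → ℂ) = (fun _ => 1) ↔ χ = triv := by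
    intro χ
    constructor
    · intro h
      exact Subtype.ext h
    · intro h
      rw [h]
      rfl
  obtain ⟨hv2, hv3, hv4⟩ := hvals z₀ hz2
  have hne4 : (ζ₄ : G → ℂ) ≠ (fun _ => 1) := by
    intro h
    rw [h] at hv4
    norm_num at hv4
  have hS : Finset.univ.filter (fun χ : IrrCharacter G => χ ∈ principalBlock M G) =
      {triv, ζ₂, ζ₃, ζ₄} := by
    ext χ
    simp only [Finset.mem_filter, Finset.mem_univ, true_and, Finset.mem_insert,
      Finset.mem_singleton]
    rw [hB, Set.mem_ofPred_eq, hcoe_triv]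
  have h12 : triv ≠ ζ₂ := fun h => hne2 ((hcoe_triv ζ₂).2 h.symm)
  have h13 : triv ≠ ζ₃ := fun h => hne3 ((hcoe_triv ζ₃).2 h.symm)
  have h14 : triv ≠ ζ₄ := fun h => hne4 ((hcoe_triv ζ₄).2 h.symm)
  have hn1 : triv ∉ ({ζ₂, ζ₃, ζ₄} : Finset (IrrCharacter G)) := by
    simp only [Finset.mem_insert, Finset.mem_singleton]
    rintro (h | h | h)
    · exact h12 h
    · exact h13 h
    · exact h14 h
  have hn2 : ζ₂ ∉ ({ζ₃, ζ₄} : Finset (IrrCharacter G)) := by
    simp only [Finset.mem_insert, Finset.mem_singleton]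
    rintro (h | h)
    · exact h23 h
    · exact h24 h
  have hn3 : ζ₃ ∉ ({ζ₄} : Finset (IrrCharacter G)) := by
    simp only [Finset.mem_singleton]
    exact h34
  have hmem : ∀ χ : IrrCharacter G, χ ∈ ({triv, ζ₂, ζ₃, ζ₄} : Finset (IrrCharacter G)) →
      χ ∈ principalBlock M G := by
    intro χ hχ
    rw [← hS] at hχ
    exact (Finset.mem_filter.1 hχ).2
  have hζ₂B : ζ₂ ∈ principalBlock M G := hmem ζ₂ (by simp)
  have hζ₃B : ζ₃ ∈ principalBlock M G := hmem ζ₃ (by simp)
  have hζ₄B : ζ₄ ∈ principalBlock M G := hmem ζ₄ (by simp)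
  have hsingsum : ∀ g : G, 2 ∣ orderOf g → ∑ χ : IrrCharacter G,
      (if χ ∈ principalBlock M G then (χ : G → ℂ) g * conj ((χ : G → ℂ) g) else 0) = 4 := by
    intro g hg
    rw [← hsum]
    refine Finset.sum_congr rfl (fun χ _ => ?_)
    split_ifs with hχ
    · rw [hsing χ hχ g hg]
    · rfl
  refine ⟨?_, hsingsum, ?_⟩
  · rw [hS, Finset.card_insert_of_notMem hn1, Finset.card_insert_of_notMem hn2,
      Finset.card_insert_of_notMem hn3, Finset.card_singleton]
  · -- the class function Θ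
    have hε2 : (ε : ℂ) * (ε : ℂ) = 1 := by
      rcases hε with h | h <;> rw [h] <;> norm_num
    have hΘ : ∀ g : G, 1 + (ζ₂ : G → ℂ) g + (ε : ℂ) * (ζ₃ : G → ℂ) g - (ζ₄ : G → ℂ) g =
        if 2 ∣ orderOf g then 4 else 0 := by
      intro g
      split_ifs with hg
      · rw [hsing ζ₂ hζ₂B g hg, hsing ζ₃ hζ₃B g hg, hsing ζ₄ hζ₄B g hg, hv2, hv3, hv4, hε2]
        norm_num
      · apply hrel
        rw [← Nat.not_even_iff_odd, even_iff_two_dvd]
        exact hg
    have hsum0 : ∀ ζ : IrrCharacter G, ζ ≠ triv → ∑ g : G, (ζ : G → ℂ) g = 0 := by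
      intro ζ hζ
      have h1 := sum_mul_conj_irr ζ triv
      rw [if_neg hζ] at h1
      rw [← h1]
      refine Finset.sum_congr rfl (fun g _ => ?_)
      rw [htriv_apply, map_one, mul_one]
    have hΘsum : ∑ g : G, (if 2 ∣ orderOf g then (4 : ℂ) else 0) = (Nat.card G : ℂ) := by
      rw [← Finset.sum_congr rfl (fun g _ => hΘ g)]
      rw [Finset.sum_sub_distrib, Finset.sum_add_distrib, Finset.sum_add_distrib,
        ← Finset.mul_sum, hsum0 ζ₂ (Ne.symm h12), hsum0 ζ₃ (Ne.symm h13),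
        hsum0 ζ₄ (Ne.symm h14), Finset.sum_const, Finset.card_univ, ← Nat.card_eq_fintype_card]
      simp
    have htotal : ∑ g : G, ∑ χ : IrrCharacter G,
        (if χ ∈ principalBlock M G then (χ : G → ℂ) g * conj ((χ : G → ℂ) g) else 0) =
        4 * (Nat.card G : ℂ) := by
      rw [Finset.sum_comm]
      have h1 : ∀ χ : IrrCharacter G, ∑ g : G,
          (if χ ∈ principalBlock M G then (χ : G → ℂ) g * conj ((χ : G → ℂ) g) else 0) =
          if χ ∈ principalBlock M G then (Nat.card G : ℂ) else 0 := by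
        intro χ
        split_ifs with hχ
        · rw [sum_mul_conj_irr χ χ, if_pos rfl]
        · simp
      rw [Finset.sum_congr rfl (fun χ _ => h1 χ), ← Finset.sum_filter, Finset.sum_const,
        hS, Finset.card_insert_of_notMem hn1, Finset.card_insert_of_notMem hn2,
        Finset.card_insert_of_notMem hn3, Finset.card_singleton, nsmul_eq_mul]
      norm_num
    have hsplit : ∀ g : G, (if 2 ∣ orderOf g then (0 : ℂ) else ∑ χ : IrrCharacter G,
        (if χ ∈ principalBlock M G then (χ : G → ℂ) g * conj ((χ : G → ℂ) g) else 0)) =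
        ∑ χ : IrrCharacter G,
          (if χ ∈ principalBlock M G then (χ : G → ℂ) g * conj ((χ : G → ℂ) g) else 0) -
        (if 2 ∣ orderOf g then (4 : ℂ) else 0) := by
      intro g
      split_ifs with hg
      · rw [hsingsum g hg, sub_self]
      · rw [sub_zero]
    rw [Finset.sum_congr rfl (fun g _ => hsplit g), Finset.sum_sub_distrib, htotal, hΘsum]
    ring

end Klein

end Cfsg.Agent.Lib.H23.KleinBlock
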