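import Mathlib
import Cfsg.Agent.Lib.H23.LSDefs
import Cfsg.Agent.Lib.H23.LSTreeBasic

/-!
# Leary–Stancheva realization: convexity of the orbit of the base vertex (piece CONV, helper23)
-/

set_option autoImplicit false
set_option linter.unusedSectionVars false

namespace Cfsg.Agent.Lib.H23.LS

open Cfsg

universe u v

variable {X : Type u} [DecidableEq X] {Q : Type v} [Group Q] [MulAction Q X]

/-- (CONV) convexity of the orbit of the base vertex. -/
theorem conv (G : Subgroup (Amb X Q))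
    (hpref : ∀ g ∈ G, ∀ n : ℕ, ∃ g' ∈ G, g'.left = FreeGroup.mk (g.left.toWord.take n))
    (g₁ g₂ : Amb X Q) (h₁ : g₁ ∈ G) (h₂ : g₂ ∈ G) (l : X × Bool)
    (hl : (g₁.left⁻¹ * g₂.left).toWord.head? = some l) :
    ∃ g' ∈ G, g'.left = g₁.left * letter l := by
  have hk : g₁⁻¹ * g₂ ∈ G := G.mul_mem (G.inv_mem h₁) h₂
  have hkl : (g₁⁻¹ * g₂).left = actAut X Q g₁.right⁻¹ (g₁.left⁻¹ * g₂.left) := by
    rw [SemidirectProduct.mul_left, SemidirectProduct.inv_left, SemidirectProduct.inv_right, map_mul]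
  obtain ⟨g'', hg'', hg''l⟩ := hpref _ hk 1
  rw [hkl, toWord_actAut] at hg''l
  cases hW : (g₁.left⁻¹ * g₂.left).toWord with
  | nil => rw [hW] at hl; simp at hl
  | cons hd tl =>
    rw [hW] at hl hg''l
    simp only [List.head?_cons, Option.some.injEq] at hl
    subst hl
    simp only [List.map_cons, List.take_succ_cons, List.take_zero] at hg''l
    refine ⟨g₁ * g'', G.mul_mem h₁ hg'', ?_⟩
    rw [SemidirectProduct.mul_left, hg''l]
    change g₁.left * actAut X Q g₁.right (letter (g₁.right⁻¹ • hd.1, hd.2)) = _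
    rw [actAut_letter, smul_inv_smul]

end Cfsg.Agent.Lib.H23.LS
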