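import Mathlib
import Cfsg.Agent.Lib.H23.LSDefs

/-!
# Leary–Stancheva realization: the free normal subgroup of finite index (piece FREE, helper23)
-/

set_option autoImplicit false

namespace Cfsg.Agent.Lib.H23.LS

open Cfsg

universe u v

variable {X : Type u} [DecidableEq X] {Q : Type v} [Group Q] [MulAction Q X]

/-- (FREE) -/
theorem exists_free_normal [Finite Q] (G : Subgroup (Amb X Q)) :
    ∃ N : Subgroup ↥G, N.Normal ∧ IsFreeGroup ↥N ∧ N.index ∣ Nat.card Q := by
  let f : ↥G →* Q := (SemidirectProduct.rightHom).comp G.subtype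
  have hker : ∀ n : ↥f.ker, (n : ↥G).1.right = 1 := fun n => n.2
  let g : ↥f.ker →* FreeGroup X :=
    { toFun := fun n => (n : ↥G).1.left
      map_one' := rfl
      map_mul' := by
        intro a b
        change ((a : ↥G).1 * (b : ↥G).1).left = _
        rw [SemidirectProduct.mul_left, hker a, map_one]
        rfl }
  have hg : Function.Injective g := by
    intro a b h
    apply Subtype.ext
    apply Subtype.ext
    apply SemidirectProduct.ext
    · exact h
    · rw [hker a, hker b]
  refine ⟨f.ker, MonoidHom.normal_ker f, ?_, ?_⟩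
  · exact IsFreeGroup.ofMulEquiv (MonoidHom.ofInjective hg).symm
  · rw [Subgroup.index_ker]
    exact Subgroup.card_subgroup_dvd_card f.range

end Cfsg.Agent.Lib.H23.LS
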