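import Mathlib
import Cfsg.Agent.Lib.H23.LSDefs
import Cfsg.Agent.Lib.H23.LSFus

/-!
# Leary–Stancheva realization: every element of `G` is a pinch-free syllable word (piece NF1, helper23)
-/

set_option autoImplicit false

namespace Cfsg.Agent.Lib.H23.LS

open Cfsg

universe u

variable {Ω : Type u} [Group Ω] {S : Subgroup Ω} (F : FusionSystem S)

theorem nf_exists_eval (g : AmbF F) (hg : g ∈ G F) :
    ∃ (a₀ : ↥S) (L : List (Syl F)), eval F a₀ L = g := by
  unfold G at hg
  induction hg using Subgroup.closure_induction_left with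
  | one => exact ⟨1, [], by simp [eval]⟩
  | mul_left x hx y hy ih =>
    obtain ⟨a₀, L, rfl⟩ := ih
    rcases hx with ⟨a, rfl⟩ | ⟨i, rfl⟩
    · exact ⟨a * a₀, L, by simp [eval, mul_assoc]⟩
    · exact ⟨1, (i, true, a₀) :: L, by simp [eval, sylVal, mul_assoc]⟩
  | inv_mul_cancel x hx y hy ih =>
    obtain ⟨a₀, L, rfl⟩ := ih
    rcases hx with ⟨a, rfl⟩ | ⟨i, rfl⟩
    · exact ⟨a⁻¹ * a₀, L, by simp [eval, mul_assoc]⟩
    · exact ⟨1, (i, false, a₀) :: L, by simp [eval, sylVal, mul_assoc]⟩

theorem nf_eval_nil (a₀ : ↥S) : eval F a₀ [] = emb F a₀ := by simp [eval]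

theorem nf_reduce (hF : Facts F) : ∀ (L : List (Syl F)) (a₀ : ↥S),
    ∃ (a₀' : ↥S) (L' : List (Syl F)), NoPinch F L' ∧ eval F a₀' L' = eval F a₀ L := by
  intro L
  induction L with
  | nil => intro a₀; exact ⟨a₀, [], List.isChain_nil, rfl⟩
  | cons s L ih =>
    intro a₀
    obtain ⟨i, b, a⟩ := s
    obtain ⟨a₁, L', hL', he⟩ := ih a
    have h0 : eval F a₀ ((i, b, a) :: L) =
        emb F a₀ * (if b then tau F i else (tau F i)⁻¹) * eval F a₁ L' := by
      rw [fus_eval_cons, he]
    cases L' with
    | nil =>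
      refine ⟨a₀, [(i, b, a₁)], List.isChain_singleton _, ?_⟩
      rw [h0, fus_eval_cons]
    | cons t L'' =>
      by_cases hp : Pinch F (i, b, a₁) t
      · obtain ⟨j, c, a₂⟩ := t
        obtain ⟨hij, hbc, hmem⟩ := hp
        simp only at hij hbc hmem
        subst hij
        have hL'' : NoPinch F L'' := List.IsChain.tail hL'
        cases b with
        | true =>
          have hc : c = false := by simpa using hbc
          subst hc
          simp only [if_true] at hmem
          refine ⟨a₀ * mor F i ⟨a₁, hmem⟩ * a₂, L'', hL'', ?_⟩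
          rw [h0, fus_eval_cons]
          simp only [if_true, Bool.false_eq_true, if_false]
          have hrel := hF.rel i ⟨a₁, hmem⟩
          simp only [eval, map_mul]
          rw [← hrel]
          group
        | false =>
          have hc : c = true := by simpa using hbc
          subst hc
          simp only [Bool.false_eq_true, if_false] at hmem
          obtain ⟨u, hu⟩ := (hF.img_iff i a₁).mp hmem
          refine ⟨a₀ * (u : ↥S) * a₂, L'', hL'', ?_⟩
          rw [h0, fus_eval_cons]
          simp only [if_true, Bool.false_eq_true, if_false]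
          have hrel := hF.rel i u
          rw [hu] at hrel
          simp only [eval, map_mul]
          rw [← hrel]
          group
      · refine ⟨a₀, (i, b, a₁) :: t :: L'', List.isChain_cons_cons.mpr ⟨hp, hL'⟩, ?_⟩
        rw [h0, fus_eval_cons]

/-- (NF1) -/
theorem exists_noPinch (hF : Facts F) (g : AmbF F) (hg : g ∈ G F) :
    ∃ (a₀ : ↥S) (L : List (Syl F)), NoPinch F L ∧ eval F a₀ L = g := by
  obtain ⟨a₀, L, rfl⟩ := nf_exists_eval F g hg
  exact nf_reduce F hF L a₀

end Cfsg.Agent.Lib.H23.LS
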