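import Mathlib
import Cfsg.Agent.Lib.H23.LSDefs
import Cfsg.Agent.Lib.H23.LSFus

/-!
# Leary–Stancheva realization: the letters of a pinch-free syllable word (piece NF2, helper23)
-/

set_option autoImplicit false

namespace Cfsg.Agent.Lib.H23.LS

open Cfsg

universe u

variable {Ω : Type u} [Group Ω] {S : Subgroup Ω} (F : FusionSystem S)

theorem nf2_gen_eq_iff (i : Idx F) (q₁ q₂ : Equiv.Perm ↥S) :
    q₁ • x₀ F i = q₂ • x₀ F i ↔ q₁⁻¹ * q₂ ∈ stab F i := by
  have h := fus_smul_x₀_eq F i q₁ (q₂ * q₁⁻¹)
  rw [← mul_smul, inv_mul_cancel_right] at h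
  rw [eq_comm, h]
  have : q₁⁻¹ * (q₂ * q₁⁻¹) * q₁ = q₁⁻¹ * q₂ := by group
  rw [this]

theorem nf2_gen_ne (i j : Idx F) (hij : i ≠ j) (q₁ q₂ : Equiv.Perm ↥S) :
    q₁ • x₀ F i ≠ q₂ • x₀ F j := by
  intro h
  exact hij (congrArg Sigma.fst h)

theorem nf2_letters_smul (q q' : Equiv.Perm ↥S) (L : List (Syl F)) :
    (letters F q' L).map (fun a => (q • a.1, a.2)) = letters F (q * q') L := by
  induction L generalizing q' with
  | nil => rfl
  | cons s L ih =>
    obtain ⟨i, b, a⟩ := s
    cases b with
    | true =>
      simp only [letters, if_true, List.map_cons]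
      rw [ih, ← mul_smul]
      simp only [mul_assoc]
    | false =>
      simp only [letters, Bool.false_eq_true, if_false, List.map_cons]
      rw [ih, ← mul_smul]
      simp only [mul_assoc]

/-- The junction condition. -/
theorem nf2_isReduced_cons (hF : Facts F) (q : Equiv.Perm ↥S) (s : Syl F) (L : List (Syl F))
    (hL : NoPinch F (s :: L))
    (hred : ∀ q' : Equiv.Perm ↥S, FreeGroup.IsReduced (letters F q' L)) :
    FreeGroup.IsReduced (letters F q (s :: L)) := by
  obtain ⟨i, b, a⟩ := s
  cases L with
  | nil =>
    cases b <;> simp [letters, FreeGroup.IsReduced]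
  | cons t L₂ =>
    obtain ⟨j, c, a'⟩ := t
    have hnp : ¬ Pinch F (i, b, a) (j, c, a') := (List.isChain_cons_cons.mp hL).1
    cases b with
    | true =>
      have h1 := hred (q * sig F i * lam S a)
      simp only [letters, if_true]
      cases c with
      | true =>
        simp only [letters, if_true] at h1 ⊢
        rw [FreeGroup.isReduced_cons_cons]
        exact ⟨fun _ => rfl, h1⟩
      | false =>
        simp only [letters, Bool.false_eq_true, if_false] at h1 ⊢
        rw [FreeGroup.isReduced_cons_cons]
        refine ⟨fun heq => ?_, h1⟩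
        exfalso
        simp only at heq
        by_cases hij : i = j
        · subst hij
          rw [nf2_gen_eq_iff] at heq
          have h2 : q⁻¹ * (q * sig F i * lam S a * (sig F i)⁻¹) =
              sig F i * lam S a * (sig F i)⁻¹ := by group
          rw [h2, hF.stab_sig] at heq
          exact hnp ⟨rfl, rfl, by simpa using heq⟩
        · exact nf2_gen_ne F i j hij _ _ heq
    | false =>
      have h1 := hred (q * (sig F i)⁻¹ * lam S a)
      simp only [letters, Bool.false_eq_true, if_false]
      cases c with
      | false =>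
        simp only [letters, Bool.false_eq_true, if_false] at h1 ⊢
        rw [FreeGroup.isReduced_cons_cons]
        exact ⟨fun _ => rfl, h1⟩
      | true =>
        simp only [letters, if_true] at h1 ⊢
        rw [FreeGroup.isReduced_cons_cons]
        refine ⟨fun heq => ?_, h1⟩
        exfalso
        simp only at heq
        by_cases hij : i = j
        · subst hij
          rw [nf2_gen_eq_iff] at heq
          have h2 : (q * (sig F i)⁻¹)⁻¹ * (q * (sig F i)⁻¹ * lam S a) = lam S a := by group
          rw [h2, hF.stab_lam] at heq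
          exact hnp ⟨rfl, rfl, by simpa using heq⟩
        · exact nf2_gen_ne F i j hij _ _ heq

theorem nf2_isReduced_letters (hF : Facts F) : ∀ (L : List (Syl F)), NoPinch F L →
    ∀ q : Equiv.Perm ↥S, FreeGroup.IsReduced (letters F q L) := by
  intro L
  induction L with
  | nil => intro _ _; exact FreeGroup.IsReduced.nil
  | cons s L ih =>
    intro hL q
    exact nf2_isReduced_cons F hF q s L hL (ih (List.IsChain.tail hL))

theorem nf2_toWord_of_inv (y : Gen F) : ((FreeGroup.of y)⁻¹).toWord = [(y, false)] := by
  rw [FreeGroup.toWord_inv, FreeGroup.toWord_of]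
  rfl

theorem nf2_prefix_true (a₀ : ↥S) (i : Idx F) :
    (emb F a₀ * tau F i).left = FreeGroup.of (lam S a₀ • x₀ F i) ∧
      (emb F a₀ * tau F i).right = lam S a₀ * sig F i := by
  constructor
  · rw [SemidirectProduct.mul_left, fus_emb_left, fus_emb_right, one_mul]
    change actAut _ _ _ (FreeGroup.of (x₀ F i)) = _
    rw [actAut_of]
  · rw [SemidirectProduct.mul_right, fus_emb_right]
    rfl

theorem nf2_prefix_false (a₀ : ↥S) (i : Idx F) :
    (emb F a₀ * (tau F i)⁻¹).left = (FreeGroup.of ((lam S a₀ * (sig F i)⁻¹) • x₀ F i))⁻¹ ∧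
      (emb F a₀ * (tau F i)⁻¹).right = lam S a₀ * (sig F i)⁻¹ := by
  constructor
  · rw [SemidirectProduct.mul_left, fus_emb_left, fus_emb_right, one_mul,
      SemidirectProduct.inv_left]
    change actAut _ _ _ (actAut _ _ (sig F i)⁻¹ (FreeGroup.of (x₀ F i))⁻¹) = _
    rw [map_inv, map_inv, actAut_of, actAut_of, mul_smul]
  · rw [SemidirectProduct.mul_right, fus_emb_right, SemidirectProduct.inv_right]
    rfl

/-- (NF2) -/
theorem toWord_left_eval (hF : Facts F) (a₀ : ↥S) (L : List (Syl F)) (hL : NoPinch F L) :
    (eval F a₀ L).left.toWord = letters F (lam S a₀) L := by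
  induction L generalizing a₀ with
  | nil =>
    simp only [eval, List.map_nil, List.prod_nil, mul_one, letters]
    rw [fus_emb_left, FreeGroup.toWord_one]
  | cons s L ih =>
    obtain ⟨i, b, a⟩ := s
    have hL' : NoPinch F L := List.IsChain.tail hL
    have hred := nf2_isReduced_letters F hF ((i, b, a) :: L) hL (lam S a₀)
    rw [fus_eval_cons, SemidirectProduct.mul_left, FreeGroup.toWord_mul, fus_toWord_actAut,
      ih a hL', nf2_letters_smul]
    cases b with
    | true =>
      simp only [if_true]
      rw [(nf2_prefix_true F a₀ i).1, (nf2_prefix_true F a₀ i).2, FreeGroup.toWord_of]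
      simp only [letters, if_true] at hred
      simp only [letters, if_true, List.singleton_append]
      exact hred.reduce_eq
    | false =>
      simp only [Bool.false_eq_true, if_false]
      rw [(nf2_prefix_false F a₀ i).1, (nf2_prefix_false F a₀ i).2, nf2_toWord_of_inv]
      simp only [letters, Bool.false_eq_true, if_false] at hred
      simp only [letters, Bool.false_eq_true, if_false, List.singleton_append]
      exact hred.reduce_eq

end Cfsg.Agent.Lib.H23.LS
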