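import Mathlib
import Cfsg.Agent.Lib.H23.LSDefs
import Cfsg.Agent.Lib.H23.LSTreeBasic

/-!
# Leary–Stancheva realization: the orbit of the base vertex is prefix closed (piece PREF, helper23)
-/

set_option autoImplicit false
set_option linter.unusedSectionVars false

namespace Cfsg.Agent.Lib.H23.LS

open Cfsg

universe u v

variable {X : Type u} [DecidableEq X] {Q : Type v} [Group Q] [MulAction Q X]

theorem pref_eq_one_or_letter (w : FreeGroup X) (h : w.norm ≤ 1) : w = 1 ∨ ∃ l, w = letter l := by
  unfold FreeGroup.norm at h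
  cases hw : w.toWord with
  | nil => left; exact FreeGroup.toWord_eq_nil_iff.mp hw
  | cons hd tl =>
    right
    rw [hw] at h
    have htl : tl = [] := by
      cases tl with
      | nil => rfl
      | cons a b => simp at h
    subst htl
    refine ⟨hd, ?_⟩
    unfold letter
    rw [← hw, FreeGroup.mk_toWord]

theorem pref_mk_map (q : Q) (L : List (X × Bool)) :
    FreeGroup.mk (L.map fun a => (q • a.1, a.2)) = actAut X Q q (FreeGroup.mk L) := by
  rw [actAut_apply, FreeGroup.map.mk]

theorem pref_step (C : Subgroup (Amb X Q)) (s : Amb X Q) (hs : s ∈ C) (hs1 : s.left.norm ≤ 1)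
    (y : Amb X Q)
    (hy : ∀ n : ℕ, ∃ g' ∈ C, g'.left = FreeGroup.mk (y.left.toWord.take n)) :
    ∀ n : ℕ, ∃ g' ∈ C, g'.left = FreeGroup.mk ((s * y).left.toWord.take n) := by
  intro n
  rw [SemidirectProduct.mul_left]
  have hW' := toWord_actAut (X := X) (Q := Q) s.right y.left
  rcases pref_eq_one_or_letter s.left hs1 with h1 | ⟨l, hl⟩
  · rw [h1, one_mul, hW', ← List.map_take, pref_mk_map]
    obtain ⟨g', hg', hg'l⟩ := hy n
    refine ⟨s * g', C.mul_mem hs hg', ?_⟩
    rw [SemidirectProduct.mul_left, h1, one_mul, hg'l]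
  · rw [hl, FreeGroup.toWord_mul, toWord_letter, List.singleton_append, FreeGroup.reduce.cons,
      FreeGroup.reduce_toWord, hW']
    cases hW : (y.left.toWord.map fun a => (s.right • a.1, a.2)) with
    | nil =>
      change ∃ g' ∈ C, g'.left = FreeGroup.mk (List.take n [l])
      cases n with
      | zero => exact ⟨1, C.one_mem, rfl⟩
      | succ n =>
        obtain ⟨g', hg', hg'l⟩ := hy 0
        refine ⟨s * g', C.mul_mem hs hg', ?_⟩
        rw [SemidirectProduct.mul_left, hl, hg'l]
        simp only [List.take_zero, List.take_succ_cons, List.take_nil]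
        change letter l * actAut X Q s.right 1 = letter l
        rw [map_one, mul_one]
    | cons hd tl =>
      change ∃ g' ∈ C, g'.left = FreeGroup.mk
        (List.take n (if l.1 = hd.1 ∧ l.2 = !hd.2 then tl else l :: hd :: tl))
      by_cases hc : l.1 = hd.1 ∧ l.2 = !hd.2
      · rw [if_pos hc]
        obtain ⟨g', hg', hg'l⟩ := hy (n + 1)
        refine ⟨s * g', C.mul_mem hs hg', ?_⟩
        rw [SemidirectProduct.mul_left, hl, hg'l, ← pref_mk_map, List.map_take, hW,
          List.take_succ_cons]
        unfold letter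
        rw [FreeGroup.mul_mk, List.singleton_append]
        have hhd : hd = (l.1, !l.2) := by
          refine Prod.ext hc.1.symm ?_
          change hd.2 = !l.2
          rw [hc.2, Bool.not_not]
        rw [hhd]
        exact Quot.sound (FreeGroup.Red.Step.cons_not (L := List.take n tl) (x := l.1) (b := l.2))
      · rw [if_neg hc]
        cases n with
        | zero => exact ⟨1, C.one_mem, rfl⟩
        | succ n =>
          obtain ⟨g', hg', hg'l⟩ := hy n
          refine ⟨s * g', C.mul_mem hs hg', ?_⟩
          rw [SemidirectProduct.mul_left, hl, hg'l, ← pref_mk_map, List.map_take, hW,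
            List.take_succ_cons]
          unfold letter
          rw [FreeGroup.mul_mk, List.singleton_append]

theorem pref_norm_inv_left (t : Amb X Q) (h : t.left.norm ≤ 1) : (t⁻¹).left.norm ≤ 1 := by
  rw [SemidirectProduct.inv_left, norm_actAut, FreeGroup.norm_inv_eq]
  exact h

/-- (PREF) prefix closure of the orbit of the base vertex. -/
theorem pref_closure (T : Set (Amb X Q)) (hT : ∀ t ∈ T, t.left.norm ≤ 1) :
    ∀ g ∈ Subgroup.closure T, ∀ n : ℕ, ∃ g' ∈ Subgroup.closure T,
      g'.left = FreeGroup.mk (g.left.toWord.take n) := by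
  intro g hg
  induction hg using Subgroup.closure_induction_left with
  | one =>
    intro n
    refine ⟨1, Subgroup.one_mem _, ?_⟩
    change (1 : FreeGroup X) = _
    rw [show ((1 : Amb X Q).left) = 1 from rfl, FreeGroup.toWord_one, List.take_nil]
    rfl
  | mul_left x hx y hy ih =>
    exact pref_step _ x (Subgroup.subset_closure hx) (hT x hx) y ih
  | inv_mul_cancel x hx y hy ih =>
    exact pref_step _ x⁻¹ (Subgroup.inv_mem _ (Subgroup.subset_closure hx))
      (pref_norm_inv_left x (hT x hx)) y ih

end Cfsg.Agent.Lib.H23.LS
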