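import Mathlib
import Cfsg.Agent.Lib.H23.LSDefs

/-!
# Leary–Stancheva realization: the relations `Facts F` (piece REL, helper23)
-/

set_option autoImplicit false

namespace Cfsg.Agent.Lib.H23.LS

open Cfsg

universe u

variable {Ω : Type u} [Group Ω] {S : Subgroup Ω} (F : FusionSystem S)

theorem rel_mor_mem_img (i : Idx F) (u : ↥(dom F i)) : mor F i u ∈ img F i := by
  change ((mor F i u : ↥S) : Ω) ∈ i.2.1.range
  rw [mor_coe]
  exact ⟨_, rfl⟩

theorem rel_img_iff (i : Idx F) (a : ↥S) : a ∈ img F i ↔ ∃ u : ↥(dom F i), mor F i u = a := by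
  constructor
  · intro h
    obtain ⟨z, hz⟩ : (a : Ω) ∈ i.2.1.range := h
    have hzS : (z : Ω) ∈ S := idx_le F i z.2
    have hu : (⟨(z : Ω), hzS⟩ : ↥S) ∈ dom F i := z.2
    refine ⟨⟨⟨(z : Ω), hzS⟩, hu⟩, ?_⟩
    apply Subtype.ext
    rw [mor_coe]
    exact hz
  · rintro ⟨u, rfl⟩
    exact rel_mor_mem_img F i u

theorem rel_stab_lam (i : Idx F) (a : ↥S) : lam S a ∈ stab F i ↔ a ∈ img F i := by
  unfold stab
  constructor
  · rintro ⟨b, hb, hba⟩
    rwa [← lam_injective hba]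
  · intro h
    exact ⟨a, h, rfl⟩

theorem rel_sig_conj (i : Idx F) (hσ : IsSig F i (sig F i)) (u : ↥(dom F i)) :
    sig F i * lam S (u : ↥S) * (sig F i)⁻¹ = lam S (mor F i u) := by
  rw [mul_inv_eq_iff_eq_mul]
  ext x
  simp only [Equiv.Perm.coe_mul, Function.comp_apply, lam_apply]
  rw [hσ u x]

theorem rel_stab_sig (i : Idx F) (hσ : IsSig F i (sig F i)) (a : ↥S) :
    sig F i * lam S a * (sig F i)⁻¹ ∈ stab F i ↔ a ∈ dom F i := by
  constructor
  · intro h
    obtain ⟨b, hb, hba⟩ := h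
    obtain ⟨u, rfl⟩ := (rel_img_iff F i b).mp hb
    rw [← rel_sig_conj F i hσ u] at hba
    have h1 : lam S (u : ↥S) = lam S a := by
      have := congrArg (fun q => (sig F i)⁻¹ * q * sig F i) hba
      simpa [mul_assoc] using this
    rw [← lam_injective h1]
    exact u.2
  · intro h
    have := rel_sig_conj F i hσ ⟨a, h⟩
    rw [this]
    exact (rel_stab_lam F i _).mpr (rel_mor_mem_img F i _)

theorem rel_smul_x₀ (i : Idx F) (q : Equiv.Perm ↥S) (hq : q ∈ stab F i) : q • x₀ F i = x₀ F i := by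
  unfold x₀
  have h1 : q • ((1 : Equiv.Perm ↥S) : Equiv.Perm ↥S ⧸ stab F i) =
      ((1 : Equiv.Perm ↥S) : Equiv.Perm ↥S ⧸ stab F i) := by
    change ((q * 1 : Equiv.Perm ↥S) : Equiv.Perm ↥S ⧸ stab F i) = _
    rw [mul_one, eq_comm, QuotientGroup.eq]
    simpa using hq
  change (⟨i, q • ((1 : Equiv.Perm ↥S) : Equiv.Perm ↥S ⧸ stab F i)⟩ : Gen F) = ⟨i, _⟩
  rw [h1]

theorem rel_tau_conj (i : Idx F) (hσ : IsSig F i (sig F i)) (u : ↥(dom F i)) :
    tau F i * emb F (u : ↥S) * (tau F i)⁻¹ = emb F (mor F i u) := by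
  have hr := rel_sig_conj F i hσ u
  have hfix := rel_smul_x₀ F i _ ((rel_stab_lam F i _).mpr (rel_mor_mem_img F i u))
  apply SemidirectProduct.ext
  · simp only [SemidirectProduct.mul_left, SemidirectProduct.mul_right, SemidirectProduct.inv_left,
      tau, emb, MonoidHom.comp_apply, SemidirectProduct.left_inr,
      SemidirectProduct.right_inr, map_one, mul_one, map_inv]
    rw [← map_inv (actAut (Gen F) (Equiv.Perm ↥S)) (sig F i), actAut_of, actAut_of,
      ← mul_smul, hr, hfix, mul_inv_cancel]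
  · simp only [SemidirectProduct.mul_right, SemidirectProduct.inv_right, tau, emb,
      MonoidHom.comp_apply, SemidirectProduct.right_inr]
    exact hr

/-- (REL) -/
theorem facts (hσ : ∀ i : Idx F, IsSig F i (sig F i)) : Facts F where
  rel i u := rel_tau_conj F i (hσ i) u
  img_iff := rel_img_iff F
  stab_lam := rel_stab_lam F
  stab_sig i a := rel_stab_sig F i (hσ i) a

end Cfsg.Agent.Lib.H23.LS
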