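import Mathlib
import Cfsg.Agent.Lib.H23.LSDefs

/-!
# Leary–Stancheva realization: the intertwining permutation (pieces SIGMA and SIG, helper23)
-/

set_option autoImplicit false

namespace Cfsg.Agent.Lib.H23.LS

open Cfsg

universe u

/-- (SIGMA) two free actions of a finite group on a finite set of the same size are isomorphic. -/
theorem exists_intertwiner {S : Type*} [Group S] [Finite S] (D : Subgroup S) (m : ↥D →* S)
    (hm : Function.Injective m) :
    ∃ σ : Equiv.Perm S, ∀ (u : ↥D) (x : S), σ ((u : S) * x) = m u * σ x := by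
  classical
  obtain ⟨T₁, hT₁, -⟩ := Subgroup.exists_isComplement_right D (1 : S)
  obtain ⟨T₂, hT₂, -⟩ := Subgroup.exists_isComplement_right m.range (1 : S)
  let e₁ : (↥D × ↥T₁) ≃ S := Equiv.ofBijective _ hT₁
  let e₂ : (↥m.range × ↥T₂) ≃ S := Equiv.ofBijective _ hT₂
  let em : ↥D ≃* ↥m.range := MonoidHom.ofInjective hm
  have hcard : Nat.card ↥T₁ = Nat.card ↥T₂ := by
    have h1 := hT₁.card_mul_card
    have h2 := hT₂.card_mul_card
    have h3 : Nat.card ↥D = Nat.card ↥m.range := Nat.card_congr em.toEquiv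
    have h4 : 0 < Nat.card ↥D := Nat.card_pos
    have h5 : Nat.card (D : Set S) = Nat.card ↥D := rfl
    have h6 : Nat.card (m.range : Set S) = Nat.card ↥m.range := rfl
    rw [h5] at h1
    rw [h6, ← h3] at h2
    exact Nat.eq_of_mul_eq_mul_left h4 (h1.trans h2.symm)
  have : Finite ↥T₁ := Finite.of_injective (fun t : ↥T₁ => (t : S)) Subtype.val_injective
  have : Finite ↥T₂ := Finite.of_injective (fun t : ↥T₂ => (t : S)) Subtype.val_injective
  obtain ⟨et⟩ : Nonempty (↥T₁ ≃ ↥T₂) := Finite.card_eq.mp hcard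
  let σ : Equiv.Perm S := e₁.symm.trans ((Equiv.prodCongr em.toEquiv et).trans e₂)
  refine ⟨σ, fun u x => ?_⟩
  obtain ⟨⟨d, t⟩, rfl⟩ := e₁.surjective x
  have h1 : (u : S) * e₁ (d, t) = e₁ (u * d, t) := by
    change (u : S) * ((d : S) * (t : S)) = ((u * d : ↥D) : S) * (t : S)
    rw [Subgroup.coe_mul, mul_assoc]
  rw [h1]
  have hσ : ∀ (d' : ↥D) (t' : ↥T₁), σ (e₁ (d', t')) = e₂ (em d', et t') := by
    intro d' t'
    simp [σ]
  rw [hσ, hσ]
  change ((em (u * d) : ↥m.range) : S) * (et t : S) = m u * (((em d : ↥m.range) : S) * (et t : S))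
  rw [map_mul, Subgroup.coe_mul, mul_assoc]
  rfl

section Specific

variable {Ω : Type u} [Group Ω] {S : Subgroup Ω} (F : FusionSystem S)

theorem mor_injective (i : Idx F) : Function.Injective (mor F i) := by
  intro u v h
  have h1 : ((mor F i u : ↥S) : Ω) = ((mor F i v : ↥S) : Ω) := by rw [h]
  rw [mor_coe, mor_coe] at h1
  have h2 := F.injective_of_mem i.2.2 h1
  apply Subtype.ext
  apply Subtype.ext
  exact congrArg (fun z : i.1 => (z : Ω)) h2

/-- (SIG) -/
theorem isSig_sig [Finite S] (i : Idx F) : IsSig F i (sig F i) := by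
  unfold sig
  apply Classical.epsilon_spec (p := IsSig F i)
  exact exists_intertwiner (dom F i) (mor F i) (mor_injective F i)

end Specific

end Cfsg.Agent.Lib.H23.LS
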