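import Mathlib
import Cfsg.Agent.Lib.H23.LSDefs
import Cfsg.Agent.Lib.H23.LSTreeBasic

/-!
# Leary–Stancheva realization: two minimisers of the sum of squared tree distances are adjacent (piece TREEA, helper23)
-/

set_option autoImplicit false
set_option linter.unusedSectionVars false

namespace Cfsg.Agent.Lib.H23.LS

open Cfsg

universe u v

variable {X : Type u} [DecidableEq X]

theorem treeA_dist_mul_letter (a c : FreeGroup X) (l : X × Bool) :
    if (a⁻¹ * c).toWord.head? = some l then dist (a * letter l) c + 1 = dist a c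
    else dist (a * letter l) c = dist a c + 1 := by
  have h1 : (a * letter l)⁻¹ * c = (letter l)⁻¹ * (a⁻¹ * c) := by group
  unfold dist FreeGroup.norm
  rw [h1, toWord_letter_inv_mul]
  split_ifs with h
  · cases hw : (a⁻¹ * c).toWord with
    | nil => rw [hw] at h; simp at h
    | cons hd tl => simp
  · simp

theorem treeA_exists_head (w : FreeGroup X) (hw : w ≠ 1) : ∃ l, w.toWord.head? = some l := by
  cases h : w.toWord with
  | nil => exact absurd (FreeGroup.toWord_eq_nil_iff.mp h) hw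
  | cons hd tl => exact ⟨hd, rfl⟩

/-- The per-point inequality. -/
theorem treeA_point (a b c : FreeGroup X) (l l' : X × Bool)
    (hl : (a⁻¹ * b).toWord.head? = some l) (hl' : (b⁻¹ * a).toWord.head? = some l') :
    ((dist (a * letter l) c : ℤ) ^ 2 - (dist a c : ℤ) ^ 2) +
      ((dist (b * letter l') c : ℤ) ^ 2 - (dist b c : ℤ) ^ 2) ≤ 2 - 2 * (dist a b : ℤ) := by
  have hA := treeA_dist_mul_letter a c l
  have hB := treeA_dist_mul_letter b c l'
  have hDsymm : dist b a = dist a b := by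
    unfold dist
    rw [← FreeGroup.norm_inv_eq]
    congr 1
    group
  by_cases h1 : (a⁻¹ * c).toWord.head? = some l
  · rw [if_pos h1] at hA
    by_cases h2 : (b⁻¹ * c).toWord.head? = some l'
    · rw [if_pos h2] at hB
      have htri : dist a b ≤ dist a c + dist b c := by
        unfold dist
        have h3 : a⁻¹ * b = (a⁻¹ * c) * (b⁻¹ * c)⁻¹ := by group
        rw [h3]
        refine (FreeGroup.norm_mul_le _ _).trans ?_
        rw [FreeGroup.norm_inv_eq]
      zify at hA hB htri
      nlinarith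
    · rw [if_neg h2] at hB
      -- W2 with u = b⁻¹ a, w = b⁻¹ c
      have hW2 := norm_inv_mul_of_head_ne (b⁻¹ * a) (b⁻¹ * c) l' hl' h2
      have h3 : (b⁻¹ * a)⁻¹ * (b⁻¹ * c) = a⁻¹ * c := by group
      rw [h3] at hW2
      have hx : dist a c = dist b a + dist b c := hW2.1
      rw [hDsymm] at hx
      zify at hA hB hx
      nlinarith
  · rw [if_neg h1] at hA
    have hW2 := norm_inv_mul_of_head_ne (a⁻¹ * b) (a⁻¹ * c) l hl h1
    have h3 : (a⁻¹ * b)⁻¹ * (a⁻¹ * c) = b⁻¹ * c := by group
    have h4 : (a⁻¹ * b)⁻¹ = b⁻¹ * a := by group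
    rw [h3, h4] at hW2
    have hy : dist b c = dist a b + dist a c := hW2.1
    have h2 : (b⁻¹ * c).toWord.head? = some l' := by rw [hW2.2, hl']
    rw [if_pos h2] at hB
    zify at hA hB hy
    nlinarith

/-- (TREEA) -/
theorem dist_le_one_of_minimizers {H : Type*} [Fintype H] [Nonempty H] (c : H → FreeGroup X)
    (a b : FreeGroup X) (hab : a ≠ b)
    (ha : ∀ l, (a⁻¹ * b).toWord.head? = some l →
      ∑ h, (dist a (c h)) ^ 2 ≤ ∑ h, (dist (a * letter l) (c h)) ^ 2)
    (hb : ∀ l, (b⁻¹ * a).toWord.head? = some l →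
      ∑ h, (dist b (c h)) ^ 2 ≤ ∑ h, (dist (b * letter l) (c h)) ^ 2) :
    dist a b ≤ 1 := by
  have hne1 : a⁻¹ * b ≠ 1 := by
    intro h
    apply hab
    rw [inv_mul_eq_one] at h
    exact h
  have hne2 : b⁻¹ * a ≠ 1 := by
    intro h
    apply hab
    rw [inv_mul_eq_one] at h
    exact h.symm
  obtain ⟨l, hl⟩ := treeA_exists_head _ hne1
  obtain ⟨l', hl'⟩ := treeA_exists_head _ hne2
  have hA := ha l hl
  have hB := hb l' hl'
  have hsum : ∑ h : H, (((dist (a * letter l) (c h) : ℤ) ^ 2 - (dist a (c h) : ℤ) ^ 2) +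
      ((dist (b * letter l') (c h) : ℤ) ^ 2 - (dist b (c h) : ℤ) ^ 2)) ≤
      ∑ _h : H, (2 - 2 * (dist a b : ℤ)) :=
    Finset.sum_le_sum fun h _ => treeA_point a b (c h) l l' hl hl'
  rw [Finset.sum_add_distrib, Finset.sum_sub_distrib, Finset.sum_sub_distrib, Finset.sum_const,
    Finset.card_univ, nsmul_eq_mul] at hsum
  zify at hA hB
  have hcard : (0 : ℤ) < (Fintype.card H : ℤ) := by exact_mod_cast Fintype.card_pos
  by_contra hD
  have hD2 : 2 ≤ dist a b := by omega
  have hD' : (2 : ℤ) ≤ (dist a b : ℤ) := by exact_mod_cast hD2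
  nlinarith

end Cfsg.Agent.Lib.H23.LS
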