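import Mathlib
import Cfsg.Agent.Lib.H23.LSDefs
import Cfsg.Agent.Lib.H23.LSTreeBasic
import Cfsg.Agent.Lib.H23.LSTreeA
import Cfsg.Agent.Lib.H23.LSConv
import Cfsg.Agent.Lib.H23.LSPref

/-!
# Leary–Stancheva realization: a finite subgroup fixes a vertex of the Cayley tree (piece TFP, helper23)
-/

set_option autoImplicit false
set_option linter.unusedSectionVars false
set_option linter.style.haveILetI false

namespace Cfsg.Agent.Lib.H23.LS

open Cfsg

universe u v

variable {X : Type u} [DecidableEq X] {Q : Type v} [Group Q] [MulAction Q X]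

theorem tfp_mul_left_eq_aff (k g : Amb X Q) : (k * g).left = aff k g.left := by
  unfold aff
  rw [SemidirectProduct.mul_left]

theorem tfp_dist_eq_zero {a b : FreeGroup X} (h : dist a b = 0) : a = b := by
  unfold dist at h
  rw [FreeGroup.norm_eq_zero, inv_mul_eq_one] at h
  exact h

theorem tfp_norm_two (l l₂ : X × Bool) (h : l.2 = l₂.2) : (letter l * letter l₂).norm = 2 := by
  unfold letter FreeGroup.norm
  rw [FreeGroup.mul_mk, FreeGroup.toWord_mk]
  have hred : FreeGroup.IsReduced ([l] ++ [l₂]) := by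
    simp only [List.singleton_append]
    rw [FreeGroup.isReduced_cons_cons]
    exact ⟨fun _ => h, FreeGroup.IsReduced.singleton⟩
  rw [hred.reduce_eq]
  rfl

/-- (TFP) the fixed point theorem for finite subgroups acting on the Cayley tree. -/
theorem exists_fixed_point (G : Subgroup (Amb X Q))
    (hpref : ∀ g ∈ G, ∀ n : ℕ, ∃ g' ∈ G, g'.left = FreeGroup.mk (g.left.toWord.take n))
    (H : Subgroup (Amb X Q)) (hHG : H ≤ G) [Finite H] :
    ∃ g ∈ G, ∀ h ∈ H, (g⁻¹ * h * g).left = 1 := by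
  classical
  haveI : Fintype ↥H := Fintype.ofFinite _
  let c : ↥H → FreeGroup X := fun h => (h : Amb X Q).left
  let f : FreeGroup X → ℕ := fun v => ∑ h : ↥H, (dist v (c h)) ^ 2
  -- invariance
  have hinv : ∀ k ∈ H, ∀ v, f (aff k v) = f v := by
    intro k hk v
    change ∑ h : ↥H, (dist (aff k v) (c h)) ^ 2 = ∑ h : ↥H, (dist v (c h)) ^ 2
    have h1 : ∀ h : ↥H, c h = aff k (c ((⟨k, hk⟩ : ↥H)⁻¹ * h)) := by
      intro h
      change (h : Amb X Q).left = aff k ((k⁻¹ * (h : Amb X Q))).left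
      rw [← tfp_mul_left_eq_aff, mul_inv_cancel_left]
    have h2 : ∀ h : ↥H, (dist (aff k v) (c h)) ^ 2 =
        (dist v (c ((⟨k, hk⟩ : ↥H)⁻¹ * h))) ^ 2 := by
      intro h
      rw [h1 h, dist_aff]
    rw [Finset.sum_congr rfl fun h _ => h2 h]
    exact Equiv.sum_comp (Equiv.mulLeft (⟨k, hk⟩ : ↥H)⁻¹) fun h => (dist v (c h)) ^ 2
  -- minimiser
  have hex : ∃ n, ∃ g ∈ G, f g.left = n := ⟨_, 1, G.one_mem, rfl⟩
  obtain ⟨g₀, hg₀, hmin'⟩ := Nat.find_spec hex
  have hmin : ∀ g ∈ G, f g₀.left ≤ f g.left := by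
    intro g hg
    rw [hmin']
    exact Nat.find_min' hex ⟨g, hg, rfl⟩
  -- two minimisers in the orbit are at distance at most one
  have hclose : ∀ g₁ ∈ G, ∀ g₂ ∈ G, f g₁.left = f g₀.left → f g₂.left = f g₀.left →
      g₁.left ≠ g₂.left → dist g₁.left g₂.left ≤ 1 := by
    intro g₁ h₁ g₂ h₂ hf₁ hf₂ hne
    refine dist_le_one_of_minimizers c g₁.left g₂.left hne ?_ ?_
    · intro l hl
      obtain ⟨g', hg', hg'l⟩ := conv G hpref g₁ g₂ h₁ h₂ l hl
      have := hmin g' hg'
      rw [hg'l, ← hf₁] at this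
      exact this
    · intro l hl
      obtain ⟨g', hg', hg'l⟩ := conv G hpref g₂ g₁ h₂ h₁ l hl
      have := hmin g' hg'
      rw [hg'l, ← hf₂] at this
      exact this
  -- fixed point
  have hfix : ∀ k ∈ H, (k * g₀).left = g₀.left := by
    intro k hk
    by_contra hne
    have hkG : k ∈ G := hHG hk
    have h1G : k * g₀ ∈ G := G.mul_mem hkG hg₀
    have h2G : k * (k * g₀) ∈ G := G.mul_mem hkG h1G
    have hf1 : f (k * g₀).left = f g₀.left := by
      rw [tfp_mul_left_eq_aff, hinv k hk]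
    have hf2 : f (k * (k * g₀)).left = f g₀.left := by
      rw [tfp_mul_left_eq_aff, hinv k hk, hf1]
    have hd1 := hclose g₀ hg₀ (k * g₀) h1G rfl hf1 (Ne.symm hne)
    have hd1' : dist g₀.left (k * g₀).left = 1 := by
      rcases Nat.lt_or_ge 0 (dist g₀.left (k * g₀).left) with h | h
      · omega
      · exact absurd (tfp_dist_eq_zero (Nat.le_zero.mp h)).symm hne
    obtain h | ⟨l, hl⟩ := pref_eq_one_or_letter (g₀.left⁻¹ * (k * g₀).left) (le_of_eq hd1')
    · rw [inv_mul_eq_one] at h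
      exact hne h.symm
    have hb : (k * g₀).left = g₀.left * letter l := by rw [← hl]; group
    have hb2 : (k * (k * g₀)).left = g₀.left * (letter l * letter (k.right • l.1, l.2)) := by
      rw [tfp_mul_left_eq_aff, hb, aff_mul_letter, ← tfp_mul_left_eq_aff, hb, mul_assoc]
    have hn2 : dist g₀.left (k * (k * g₀)).left = 2 := by
      unfold dist
      rw [hb2, inv_mul_cancel_left]
      exact tfp_norm_two _ _ rfl
    have hne2 : g₀.left ≠ (k * (k * g₀)).left := by
      intro h
      rw [← h] at hn2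
      unfold dist at hn2
      rw [inv_mul_cancel, FreeGroup.norm_one] at hn2
      omega
    have hd2 := hclose g₀ hg₀ (k * (k * g₀)) h2G rfl hf2 hne2
    omega
  refine ⟨g₀, hg₀, fun k hk => ?_⟩
  rw [mul_assoc, SemidirectProduct.mul_left, hfix k hk, SemidirectProduct.inv_left,
    SemidirectProduct.inv_right, ← map_mul, inv_mul_cancel, map_one]

end Cfsg.Agent.Lib.H23.LS
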