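import Mathlib
import Cfsg.Agent.Lib.H23.LSDefs
import Cfsg.Agent.Lib.H23.LSFus
import Cfsg.Agent.Lib.H23.LSRel
import Cfsg.Agent.Lib.H23.LSNF1
import Cfsg.Agent.Lib.H23.LSNF2
import Cfsg.Agent.Lib.H23.LSSigma
import Cfsg.Agent.Lib.H23.LSFree
import Cfsg.Agent.Lib.H23.LSPref
import Cfsg.Agent.Lib.H23.LSTFP

/-!
# Leary–Stancheva realization of an arbitrary fusion system: assembly (helper23)
-/

set_option autoImplicit false
set_option linter.unusedSectionVars false
set_option linter.style.haveILetI false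

namespace Cfsg.Agent.Lib.H23.LS

open Cfsg

universe u

variable {Ω : Type u} [Group Ω] {S : Subgroup Ω} [Finite S] (F : FusionSystem S)

theorem emb_injective : Function.Injective (emb F) := by
  intro a b h
  have h1 : (emb F a).right = (emb F b).right := by rw [h]
  exact lam_injective (by simpa [emb] using h1)

theorem emb_left (a : ↥S) : (emb F a).left = 1 := by simp [emb]

theorem tau_left (i : Idx F) : (tau F i).left = FreeGroup.of (x₀ F i) := rfl

theorem factsF : Facts F := facts F (isSig_sig F)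

/-- (STAB) an element of `G` whose free-group component is trivial lies in `emb S`. -/
theorem eq_emb_of_left_eq_one (g : AmbF F) (hg : g ∈ G F) (h1 : g.left = 1) : ∃ a : ↥S, g = emb F a := by
  obtain ⟨a₀, L, hL, rfl⟩ := exists_noPinch F (factsF F) g hg
  have h2 := toWord_left_eval F (factsF F) a₀ L hL
  rw [h1, FreeGroup.toWord_one] at h2
  have h3 : L.length = 0 := by
    rw [← length_letters F (lam S a₀) L, ← h2]; rfl
  have h4 : L = [] := List.length_eq_zero_iff.mp h3
  subst h4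
  exact ⟨a₀, by simp [eval]⟩

/-- (TORS) every finite subgroup of `G` is conjugate into `iota S`. -/
theorem finite_subgroup_conj (H : Subgroup ↥(G F)) (hH : Finite ↥H) :
    ∃ g : ↥(G F), ∀ h ∈ H, g * h * g⁻¹ ∈ (iota F).range := by
  classical
  have hT : ∀ t ∈ Set.range (emb F) ∪ Set.range (tau F), t.left.norm ≤ 1 := by
    rintro t (⟨a, rfl⟩ | ⟨i, rfl⟩)
    · rw [emb_left]; simp
    · rw [tau_left]; simp
  have hpref := pref_closure (X := Gen F) (Q := Equiv.Perm ↥S) _ hT
  let H' : Subgroup (AmbF F) := H.map (G F).subtype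
  have hH'G : H' ≤ G F := by
    rintro _ ⟨h, _, rfl⟩
    exact h.2
  haveI : Finite ↥H' := by
    have : Finite ↥(H.map (G F).subtype) := Finite.of_surjective
      (fun h : ↥H => (⟨(G F).subtype h, Subgroup.mem_map_of_mem _ h.2⟩ : ↥(H.map (G F).subtype)))
      (by
        rintro ⟨_, h, hh, rfl⟩
        exact ⟨⟨h, hh⟩, rfl⟩)
    exact this
  obtain ⟨g, hg, hfix⟩ := exists_fixed_point (G F) hpref H' hH'G
  refine ⟨⟨g, hg⟩⁻¹, fun h hh => ?_⟩
  have h1 : ((G F).subtype h) ∈ H' := Subgroup.mem_map_of_mem _ hh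
  have h2 := hfix _ h1
  have h3 : g⁻¹ * (h : AmbF F) * g ∈ G F :=
    (G F).mul_mem ((G F).mul_mem ((G F).inv_mem hg) h.2) hg
  obtain ⟨a, ha⟩ := eq_emb_of_left_eq_one F _ h3 h2
  refine ⟨a, ?_⟩
  apply Subtype.ext
  simp only [iota, MonoidHom.codRestrict_apply, Subgroup.coe_mul, Subgroup.coe_inv, inv_inv]
  exact ha.symm

/-- (REAL) `G` realizes `F`. -/
theorem isRealizedBy_iota : F.IsRealizedBy (iota F) := by
  refine ⟨?_, ?_⟩
  · intro a b h
    have h1 : emb F a = emb F b := congrArg Subtype.val h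
    exact emb_injective F h1
  · intro P hP φ hφ
    constructor
    · intro hmem
      let i : Idx F := ⟨P, φ, hmem⟩
      refine ⟨⟨tau F i, tau_mem F i⟩, fun x => ?_⟩
      apply Subtype.ext
      have hu : (⟨(x : Ω), hP x.2⟩ : ↥S) ∈ dom F i := by
        change ((⟨(x : Ω), hP x.2⟩ : ↥S) : Ω) ∈ P
        exact x.2
      have h1 := (factsF F).rel i ⟨_, hu⟩
      have h2 : mor F i ⟨_, hu⟩ = ⟨φ x, hφ x⟩ := by
        apply Subtype.ext
        rw [mor_coe]
      rw [h2] at h1
      simp only [iota, MonoidHom.codRestrict_apply, Subgroup.coe_mul, Subgroup.coe_inv]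
      exact h1.symm
    · rintro ⟨g, hg⟩
      refine fus F (factsF F) (exists_noPinch F (factsF F))
        (toWord_left_eval F (factsF F)) g.1 g.2 P hP φ hφ fun x => ?_
      have := congrArg Subtype.val (hg x)
      simpa [iota] using this

theorem main : ∃ (G : Type u) (_ : Group G) (ι : ↥S →* G), F.IsRealizedBy ι ∧
    (∀ H : Subgroup G, Finite ↥H → ∃ g : G, ∀ h ∈ H, g * h * g⁻¹ ∈ ι.range) ∧
    ∃ N : Subgroup G, N.Normal ∧ IsFreeGroup ↥N ∧ N.index ∣ (Nat.card ↥S).factorial := by
  classical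
  refine ⟨↥(G F), inferInstance, iota F, isRealizedBy_iota F, finite_subgroup_conj F, ?_⟩
  obtain ⟨N, hN, hfree, hidx⟩ := exists_free_normal (X := Gen F) (Q := Equiv.Perm ↥S) (G F)
  refine ⟨N, hN, hfree, ?_⟩
  rwa [Nat.card_perm] at hidx

end Cfsg.Agent.Lib.H23.LS
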