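import Cfsg.Agent.Lib.H23.LinearExt
import Mathlib.GroupTheory.Archimedean

/-!
# Extending invariant linear characters from Sylow-type subgroups (helper23)

* `transfer_eq_pow_of_invariant'`: transfer into `H ⊇ N` of a hom whose restriction to `N ⊴ G` is
  invariant is the `|G:H|`-th power on `N`;
* `extPowers`, `exists_hom_extension_of_sylow` (Isaacs 6.26 for homomorphisms);
* `exists_linear_extension_of_sylow` (statement S0864).
-/

set_option autoImplicit false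

namespace Cfsg.Agent.Lib.H23

open Cfsg.Agent.Lib.L0

section Transfer2

open MulAction Subgroup

variable {G : Type*} [Group G] {A : Type*} [CommGroup A]

/-- The transfer into `H ⊇ N` of a homomorphism whose restriction to the normal subgroup `N` is
`G`-invariant is the `|G:H|`-th power on `N`. -/
theorem transfer_eq_pow_of_invariant' (N H : Subgroup G) [hN : N.Normal] [H.FiniteIndex]
    (hNH : N ≤ H) (ν : H →* A)
    (hinv : ∀ (g : G) (n : N),
      ν ⟨g * n * g⁻¹, hNH (hN.conj_mem (n : G) n.2 g)⟩ = ν ⟨n, hNH n.2⟩) (n : N) :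
    MonoidHom.transfer ν (n : G) = ν ⟨n, hNH n.2⟩ ^ H.index := by
  classical
  have := H.fintypeQuotientOfFiniteIndex
  rw [MonoidHom.transfer_eq_prod_quotient_orbitRel_zpowers_quot, index_eq_sum_minimalPeriod H (n : G),
    ← Finset.prod_pow_eq_pow_sum]
  refine Finset.prod_congr rfl fun q _ => ?_
  have h1 := hinv (q.out.out⁻¹) (n ^ Function.minimalPeriod ((n : G) • ·) q.out)
  have h2 : (⟨((n ^ Function.minimalPeriod ((n : G) • ·) q.out : N) : G), hNH (n ^ Function.minimalPeriod ((n : G) • ·) q.out : N).2⟩ : H) =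
      (⟨n, hNH n.2⟩ : H) ^ Function.minimalPeriod ((n : G) • ·) q.out := by
    apply Subtype.ext
    simp
  rw [h2, map_pow] at h1
  rw [← h1]
  congr 1
  apply Subtype.ext
  simp

/-- The integers `k` such that `ϕ ^ k` extends to a homomorphism of `G`. -/
def extPowers (N : Subgroup G) (ϕ : N →* A) : AddSubgroup ℤ where
  carrier := {k | ∃ M : G →* A, ∀ n : N, M n = ϕ n ^ k}
  zero_mem' := ⟨1, fun n => by simp⟩
  add_mem' := by
    rintro a b ⟨M₁, h₁⟩ ⟨M₂, h₂⟩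
    exact ⟨M₁ * M₂, fun n => by rw [MonoidHom.mul_apply, h₁, h₂, zpow_add]⟩
  neg_mem' := by
    rintro a ⟨M, h⟩
    exact ⟨M⁻¹, fun n => by rw [MonoidHom.inv_apply, h, zpow_neg]⟩

/-- Isaacs 6.26 for homomorphisms: if for every prime `p` dividing the order of the invariant
homomorphism `ϕ` of `N ⊴ G` there is a subgroup `H ⊇ N` of index prime to `p` to which `ϕ` extends,
then `ϕ` extends to `G`. -/
theorem exists_hom_extension_of_sylow (N : Subgroup G) [hN : N.Normal] [Finite G] (ϕ : N →* A)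
    (hinv : ∀ (g : G) (n : N), ϕ ⟨g * n * g⁻¹, hN.conj_mem (n : G) n.2 g⟩ = ϕ n)
    (hsyl : ∀ p : ℕ, p.Prime → p ∣ orderOf ϕ → ∃ (H : Subgroup G) (hNH : N ≤ H) (ν : H →* A),
      Nat.Coprime H.index p ∧ ∀ n : N, ν ⟨(n : G), hNH n.2⟩ = ϕ n) :
    ∃ M : G →* A, ∀ n : N, M n = ϕ n := by
  set I := extPowers N ϕ with hI
  obtain ⟨d, hd⟩ := Int.subgroup_cyclic I
  have hdvd : ∀ m ∈ I, d ∣ m := by
    intro m hm
    rw [hd, AddSubgroup.mem_closure_singleton] at hm
    obtain ⟨n, rfl⟩ := hm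
    exact ⟨n, by rw [smul_eq_mul, mul_comm]⟩
  have hoI : (orderOf ϕ : ℤ) ∈ I := by
    refine ⟨1, fun n => ?_⟩
    rw [MonoidHom.one_apply, zpow_natCast, ← MonoidHom.pow_apply, pow_orderOf_eq_one,
      MonoidHom.one_apply]
  have hd1 : d.natAbs = 1 := by
    by_contra hne
    obtain ⟨q, hq, hqd⟩ := Nat.exists_prime_and_dvd hne
    have hqd' : (q : ℤ) ∣ d := Int.natCast_dvd.mpr hqd
    have hqo : q ∣ orderOf ϕ := Int.natCast_dvd_natCast.mp (dvd_trans hqd' (hdvd _ hoI))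
    obtain ⟨H, hNH, ν, hcop, hν⟩ := hsyl q hq hqo
    have htI : (H.index : ℤ) ∈ I := by
      refine ⟨MonoidHom.transfer ν, fun n => ?_⟩
      rw [transfer_eq_pow_of_invariant' N H hNH ν _ n, hν, zpow_natCast]
      intro g n
      rw [hν ⟨g * n * g⁻¹, hN.conj_mem (n : G) n.2 g⟩, hν, hinv]
    have hqt : q ∣ H.index := Int.natCast_dvd_natCast.mp (dvd_trans hqd' (hdvd _ htI))
    have : q ∣ Nat.gcd H.index q := Nat.dvd_gcd hqt dvd_rfl
    rw [hcop.gcd_eq_one] at this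
    exact hq.one_lt.ne' (Nat.dvd_one.mp this)
  have h1I : (1 : ℤ) ∈ I := by
    rw [hd, AddSubgroup.mem_closure_singleton]
    rcases Int.natAbs_eq d with h | h
    · exact ⟨1, by rw [h, hd1]; simp⟩
    · exact ⟨-1, by rw [h, hd1]; simp⟩
  obtain ⟨M, hM⟩ := h1I
  exact ⟨M, fun n => by rw [hM, zpow_one]⟩

end Transfer2

section Linear

variable {G : Type*} [Group G] [Finite G]

/-- Isaacs 6.26 (statement S0864). -/
theorem exists_linear_extension_of_sylow (N : Subgroup G) [hN : N.Normal] (lam : N → ℂ)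
    (hlam : Cfsg.IsCharacter N lam ∧ lam 1 = 1)
    (hinv : ∀ (g : G) (n : N), lam ⟨g * n * g⁻¹, hN.conj_mem (n : G) n.2 g⟩ = lam n)
    (hsyl : ∀ p : ℕ, p.Prime → p ∣ orderOf lam → ∃ (H : Subgroup G) (hNH : N ≤ H) (ν : H → ℂ),
      Nat.Coprime H.index p ∧ (∃ k : ℕ, N.relIndex H = p ^ k) ∧ Cfsg.IsCharacter H ν ∧ ν 1 = 1 ∧
        ∀ n : N, ν ⟨(n : G), hNH n.2⟩ = lam n) :
    ∃ μ : G → ℂ, Cfsg.IsCharacter G μ ∧ μ 1 = 1 ∧ ∀ n : N, μ n = lam n := by
  set Λ := linearCharHom hlam.1 hlam.2 with hΛ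
  have hΛlam : homToFun N Λ = lam := rfl
  have hinv' : ∀ (g : G) (n : N), Λ ⟨g * n * g⁻¹, hN.conj_mem (n : G) n.2 g⟩ = Λ n := by
    intro g n
    apply Units.ext
    exact hinv g n
  have hsyl' : ∀ p : ℕ, p.Prime → p ∣ orderOf Λ → ∃ (H : Subgroup G) (hNH : N ≤ H)
      (ν : H →* ℂˣ), Nat.Coprime H.index p ∧ ∀ n : N, ν ⟨(n : G), hNH n.2⟩ = Λ n := by
    intro p hp hpo
    rw [← orderOf_homToFun, hΛlam] at hpo
    obtain ⟨H, hNH, ν, hcop, -, hν1, hν2, hνN⟩ := hsyl p hp hpo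
    refine ⟨H, hNH, linearCharHom hν1 hν2, hcop, fun n => ?_⟩
    apply Units.ext
    exact hνN n
  obtain ⟨M, hM⟩ := exists_hom_extension_of_sylow N Λ hinv' hsyl'
  refine ⟨homToFun G M, isCharacter_of_irr (isIrrCharacter_of_hom M), by simp [homToFun_apply],
    fun n => ?_⟩
  rw [homToFun_apply, hM]
  rfl

end Linear

end Cfsg.Agent.Lib.H23
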