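import Cfsg.Agent.Lib.H24.CharOrth

/-!
S4429 piece (KILLB), core: pattern (B) (two irreducible characters of degree 12) is impossible as soon as some `y` has
`|C_G(y)| = 5` and all character values at `y` are integers congruent to the degree mod 5.
-/

set_option autoImplicit false

namespace Cfsg.Agent.Lib.H23.M7920

open Cfsg
open scoped BigOperators ComplexConjugate

universe u

/-- core of (KILLB): column orthogonality `(y, y)` against the three characters `1, ψ₁, ψ₂`. -/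
theorem kill_B_core {G : Type u} [Group G] [Fintype G] (y : G)
    (hC : Nat.card (Subgroup.centralizer ({y} : Set G)) = 5)
    (hval : ∀ ψ : IrrCharacter G, ∃ (B : ℤ) (c : ℕ), (ψ : G → ℂ) y = (B : ℂ) ∧
      (ψ : G → ℂ) 1 = (B : ℂ) + 5 * c)
    (ψ₁ ψ₂ : IrrCharacter G) (hne : ψ₁ ≠ ψ₂)
    (h12 : (ψ₁ : G → ℂ) 1 = 12) (h12' : (ψ₂ : G → ℂ) 1 = 12) : False := by
  classical
  let _ : Fintype (IrrCharacter G) := Fintype.ofFinite _
  choose B c hB hB1 using hval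
  have h2 := Cfsg.Agent.Lib.H24.second_orthogonality y y
  rw [if_pos (IsConj.refl y), hC] at h2
  have h3 : ∑ χ : IrrCharacter G, (B χ) ^ 2 = 5 := by
    have h4 : ((∑ χ : IrrCharacter G, (B χ) ^ 2 : ℤ) : ℂ) = 5 := by
      push_cast
      rw [show ((5 : ℂ)) = ((5 : ℕ) : ℂ) by norm_num, ← h2]
      refine Finset.sum_congr rfl (fun χ _ => ?_)
      rw [hB χ]
      simp [sq]
    exact_mod_cast h4
  set τ : IrrCharacter G := Cfsg.Agent.Lib.H24.trivialIrr G with hτ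
  have hτ1 : τ ≠ ψ₁ := by
    intro h
    have : (τ : G → ℂ) 1 = 12 := by rw [h]; exact h12
    rw [hτ, Cfsg.Agent.Lib.H24.trivialIrr_apply] at this
    norm_num at this
  have hτ2 : τ ≠ ψ₂ := by
    intro h
    have : (τ : G → ℂ) 1 = 12 := by rw [h]; exact h12'
    rw [hτ, Cfsg.Agent.Lib.H24.trivialIrr_apply] at this
    norm_num at this
  have hBτ : B τ = 1 := by
    have := hB τ
    rw [hτ, Cfsg.Agent.Lib.H24.trivialIrr_apply] at this
    exact_mod_cast this.symm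
  have hsq : ∀ ψ : IrrCharacter G, (ψ : G → ℂ) 1 = 12 → 4 ≤ (B ψ) ^ 2 := by
    intro ψ h
    have h5 := hB1 ψ
    rw [h] at h5
    have h6 : (12 : ℤ) = B ψ + 5 * (c ψ : ℤ) := by exact_mod_cast h5
    by_contra hlt
    push Not at hlt
    have hb : -1 ≤ B ψ ∧ B ψ ≤ 1 := by constructor <;> nlinarith
    omega
  have h7 : ∑ χ ∈ ({τ, ψ₁, ψ₂} : Finset (IrrCharacter G)), (B χ) ^ 2 ≤
      ∑ χ : IrrCharacter G, (B χ) ^ 2 :=
    Finset.sum_le_sum_of_subset_of_nonneg (Finset.subset_univ _) (fun _ _ _ => sq_nonneg _)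
  rw [Finset.sum_insert (by simp [hτ1, hτ2]), Finset.sum_insert (by simp [hne]),
    Finset.sum_singleton, h3, hBτ] at h7
  have := hsq ψ₁ h12
  have := hsq ψ₂ h12'
  linarith

/-- (KILLB) with the pieces (F7), (F9), (F10) as hypotheses. -/
theorem kill_B_of {G : Type u} [Group G] [Fintype G] (hG : Nat.card G = 7920)
    (F7 : ∀ y : G, orderOf y = 5 → Nat.card (Subgroup.centralizer ({y} : Set G)) = 5)
    (F9 : ∀ y : G, orderOf y = 5 → Nat.card (Subgroup.centralizer ({y} : Set G)) ∣ 15 →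
      Nat.card (Subgroup.centralizer ({y} : Set G)) = 5 ∧ IsConj y (y ^ 2))
    (F10 : ∀ (ψ : IrrCharacter G) (y : G), orderOf y = 5 → IsConj y (y ^ 2) →
      ∃ (B : ℤ) (c : ℕ), (ψ : G → ℂ) y = (B : ℂ) ∧ (ψ : G → ℂ) 1 = (B : ℂ) + 5 * c)
    (ψ₁ ψ₂ : IrrCharacter G) (hne : ψ₁ ≠ ψ₂)
    (h12 : (ψ₁ : G → ℂ) 1 = 12) (h12' : (ψ₂ : G → ℂ) 1 = 12) : False := by
  have : Fact (Nat.Prime 5) := ⟨by norm_num⟩
  obtain ⟨y, hy⟩ := exists_prime_orderOf_dvd_card' (G := G) 5 (by rw [hG]; norm_num)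
  have hC := F7 y hy
  have h2 := (F9 y hy (by rw [hC]; norm_num)).2
  exact kill_B_core y hC (fun ψ => F10 ψ y hy h2) ψ₁ ψ₂ hne h12 h12'

end Cfsg.Agent.Lib.H23.M7920
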