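import Mathlib
import Cfsg.Prelude.Def_BrauerPairs
import Cfsg.Agent.Lib.H23.MaxPairB

/-!
# Maximal Brauer pairs: consequences of the core criterion
-/

set_option autoImplicit false

namespace Cfsg.Agent.Lib.H23.MaxPair

open Cfsg Cfsg.Agent.Lib.H23 Cfsg.Agent.Lib.H24 Cfsg.Agent.Lib.L0
  Cfsg.Agent.Lib.L0.BrauerSubpair Cfsg.Agent.Lib.L0.BrauerDefect Cfsg.Agent.Lib.L0.BrauerSylow
  Cfsg.Agent.Lib.L0.BrauerCentric
open scoped ComplexConjugate

variable {G : Type*} [Group G] [Fintype G] {p : ℕ} [Fact p.Prime] {M : Ideal AlgInt}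

/-- For a maximal Brauer pair `(Q, e)`, `Z(Q)` is a defect group of `e`. -/
theorem isDefectGroup_center_of_maximal (hM : IsPModular p M) {B : Set (IrrCharacter G)}
    {Q : Subgroup G} {e : Set (IrrCharacter (CC Q))} (hmax : IsMaximalBrauerPair p M B Q e) :
    IsDefectGroup p M e ((Q ⊓ CC Q).subgroupOf (CC Q)) := by
  obtain ⟨hQ, hePB⟩ := hmax.1.1
  obtain ⟨D, hD, hZD⟩ := exists_defectGroup_ge_centralizer hM (P := Q) (Q := Q) (e := e)
    (f := e) ⟨hQ, hePB⟩ Relation.ReflTransGen.refl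
  obtain ⟨h₂, hnorm₂⟩ := exists_normalSubpair_of_defectGroup hM hQ hePB D hD
  have hRB := (isBrauerPairOf_iff_of_normalSubpair hM hnorm₂ B).1 hmax.1
  have hEq := hmax.2 _ h₂ hRB (Relation.ReflTransGen.single hnorm₂)
  have hDQ' : D.map (CC Q).subtype ≤ Q := by
    have : D.map (CC Q).subtype ≤ Q ⊔ D.map (CC Q).subtype := le_sup_right
    rwa [hEq] at this
  have hDZ : D ≤ (Q ⊓ CC Q).subgroupOf (CC Q) := fun d hd =>
    Subgroup.mem_subgroupOf.2 ⟨hDQ' ⟨d, hd, rfl⟩, d.2⟩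
  have h3 : (Q ⊓ CC Q).subgroupOf (CC Q) = D := le_antisymm hZD hDZ
  rw [h3]
  exact hD

/-- A Brauer pair of `B` whose first component is a defect group of `B` is maximal. -/
theorem isMaximal_of_defectGroup (hM : IsPModular p M) {B : Set (IrrCharacter G)}
    {Q : Subgroup G} {e : Set (IrrCharacter (CC Q))} (hB : IsBrauerPairOf p M B Q e)
    (hDQ : IsDefectGroup p M B Q) : IsMaximalBrauerPair p M B Q e := by
  refine ⟨hB, ?_⟩
  intro R g hRg hle
  have hQR : Q ≤ R := fst_le_of_reflTransGen (a := ⟨Q, e⟩) (b := ⟨R, g⟩) hle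
  obtain ⟨P, eP, hPmax, hleP⟩ := exists_maximal_above hM _ R g rfl hRg
  have hRP : R ≤ P := fst_le_of_reflTransGen (a := ⟨R, g⟩) (b := ⟨P, eP⟩) hleP
  have hDP := isDefectGroup_of_maximal hM hPmax
  obtain ⟨χ₁, rfl⟩ := hB.2.1
  have h1 := card_defectGroup hM χ₁ Q hDQ
  have h2 := card_defectGroup hM χ₁ P hDP
  have h3 : Q = P := Subgroup.eq_of_le_of_card_ge (hQR.trans hRP) (by rw [h1, h2])
  exact le_antisymm (h3 ▸ hRP) hQR

/-- A block `e` of `C_G(Q)` inducing `B` gives a Brauer pair of `B`. -/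
theorem isBrauerPairOf_of_induced (hM : IsPModular p M) {Q : Subgroup G} (hQ : IsPGroup p Q)
    [Fintype (CC Q)] {e : Set (IrrCharacter (CC Q))} {B : Set (IrrCharacter G)}
    (hind : IsInducedBlock M (CC Q) e B) : IsBrauerPairOf p M B Q e := by
  haveI hPr := isPrime_of_isPModular hM
  obtain ⟨B₀, hB₀, -⟩ := exists_unique_block_of_brauerPair hM Q e ⟨hQ, hind.1⟩
  have h1 := isInducedBlock_of_pair hM hB₀
  have h2 : B = B₀ := isInducedBlock_unique (CC Q) hind h1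
  rw [h2]
  exact hB₀

/-- For a maximal Brauer pair `(Q, e)` with stabilizer `T`, `p ∤ |T : Q C_G(Q)|`. -/
theorem not_dvd_relIndex_of_maximal (hM : IsPModular p M) {B : Set (IrrCharacter G)}
    {Q : Subgroup G} {e : Set (IrrCharacter (CC Q))} (hmax : IsMaximalBrauerPair p M B Q e)
    (T : Subgroup G)
    (hT : ∀ g : G, g ∈ T ↔ g ∈ LL Q ∧ StabilizesBlock (CC Q) e g) :
    ¬ p ∣ (HH Q).relIndex T := by
  have hZ := isDefectGroup_center_of_maximal hM hmax
  have hDQ := isDefectGroup_of_maximal hM hmax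
  have hall := (core hM Q hmax.1.1.1 e hmax.1.1.2 hZ B hmax.1).1 hDQ
  obtain ⟨S⟩ : Nonempty (Sylow p T) := inferInstance
  have hle : (S : Subgroup T) ≤ (HH Q).subgroupOf T := by
    intro s hs
    rw [Subgroup.mem_subgroupOf]
    obtain ⟨hsL, hsst⟩ := (hT (s : G)).1 s.2
    apply hall _ hsL hsst
    obtain ⟨k, hk⟩ := (IsPGroup.iff_orderOf.1 S.isPGroup') ⟨s, hs⟩
    refine ⟨k, ?_⟩
    rw [Subgroup.orderOf_coe, ← hk]
    exact Subgroup.orderOf_coe (⟨s, hs⟩ : (S : Subgroup _))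
  have h1 := Subgroup.index_dvd_of_le hle
  intro hdvd
  exact S.not_dvd_index (hdvd.trans h1)

end Cfsg.Agent.Lib.H23.MaxPair
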