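import Mathlib
import Cfsg.Prelude.Def_BrauerPairs
import Cfsg.Agent.Lib.H23.MaxPairC
import Cfsg.Agent.Lib.H23.BlockExtFirstMain

/-!
# A maximal Brauer pair on a given defect group (helper23)

`exists_root_pair`: for a defect group `P` of `B` there is a block `e` of `C_G(P)` such that
`(P, e)` is a maximal Brauer pair of `B`.
-/

set_option autoImplicit false

namespace Cfsg.Agent.Lib.H23.MaxPair

open Cfsg Cfsg.Agent.Lib.H23 Cfsg.Agent.Lib.H24 Cfsg.Agent.Lib.L0
  Cfsg.Agent.Lib.L0.BrauerSubpair Cfsg.Agent.Lib.L0.BrauerDefect Cfsg.Agent.Lib.L0.BrauerSylow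
  Cfsg.Agent.Lib.L0.BrauerCentric
open scoped ComplexConjugate

variable {G : Type*} [Group G] [Fintype G] {p : ℕ} [Fact p.Prime] {M : Ideal AlgInt}

/-- For a defect group `P` of the block of `χ₀`, some block of `C_G(P)` gives a maximal Brauer
pair with first component `P`. -/
theorem exists_root_pair (hM : IsPModular p M) (χ₀ : IrrCharacter G) (P : Subgroup G)
    (hP : IsDefectGroup p M (blockOf M (χ₀ : G → ℂ)) P) :
    ∃ θ : IrrCharacter (CC P),
      IsMaximalBrauerPair p M (blockOf M (χ₀ : G → ℂ)) P (blockOf M (θ : CC P → ℂ)) := by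
  classical
  haveI hPr := isPrime_of_isPModular hM
  have hPp : IsPGroup p P := isPGroup_of_isDefectGroup hP
  haveI : Fintype (CC P) := Fintype.ofFinite _
  haveI : Fintype (HH P) := Fintype.ofFinite _
  haveI : Fintype (LL P) := Fintype.ofFinite _
  haveI : Fintype ((CC P).subgroupOf (HH P)) := Fintype.ofFinite _
  haveI : Fintype ((HH P).subgroupOf (LL P)) := Fintype.ofFinite _
  obtain ⟨χL, -, hindL⟩ := exists_root P (HH P) (LL P) hM rfl (Q_le_HH P) (CC_le_HH P)
    (HH_le_LL P) χ₀ hP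
  obtain ⟨θ', hθ'⟩ := exists_constituent_restrict ((CC P).subgroupOf (HH P)) χL
  set ι := Subgroup.subgroupOfEquivOfLe (CC_le_HH P) with hι
  set θ := (irrEquiv ι).symm θ' with hθ
  have hθθ' : tr P θ = θ' := (irrEquiv ι).apply_symm_apply θ'
  have hC' : Subgroup.centralizer ((P.subgroupOf (HH P) : Subgroup (HH P)) : Set (HH P)) ≤
      (CC P).subgroupOf (HH P) := by
    intro x hx
    rw [Subgroup.mem_subgroupOf, Subgroup.mem_centralizer_iff]
    intro y hy
    have h1 := Subgroup.mem_centralizer_iff.1 hx ⟨y, Q_le_HH P hy⟩ (Subgroup.mem_subgroupOf.2 hy)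
    exact congrArg Subtype.val h1
  have h4 := isInducedBlock_of_covers_of_centralizer_le hM (P.subgroupOf (HH P))
    hPp.comap_subtype ((CC P).subgroupOf (HH P)) hC' (tr P θ) χL
    ⟨χL, mem_blockOf_self χL, tr P θ, mem_blockOf_self _, by rw [hθθ']; exact hθ'⟩
  have h6 := isInducedBlock_trans (CC P) (HH P) (CC_le_HH P) θ χL χ₀ h4 hindL
  exact ⟨θ, isMaximal_of_defectGroup hM (isBrauerPairOf_of_induced hM hPp h6) hP⟩

end Cfsg.Agent.Lib.H23.MaxPair
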