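import Mathlib
import Cfsg.Prelude.Def_Characters
import Cfsg.Agent.Lib.H23.Rational
import Cfsg.Agent.Lib.H24.CharOrth
import Cfsg.Agent.Lib.L0.CharBasic

/-!
# S0977 piece (O2) (helper23)

The "principal 5-block" of a group with a self-centralizing subgroup of order 5 all of whose
non-identity elements are conjugate, by column orthogonality only.
-/

set_option autoImplicit false

namespace Cfsg.Agent.Lib.H23.O4320

open Cfsg
open scoped BigOperators ComplexConjugate

universe u

/-- nonzero integers whose squares sum to `4`: four `±1`'s or one `±2`. -/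
theorem four_squares {ι : Type*} (S : Finset ι) (f : ι → ℤ) (hne : ∀ i ∈ S, f i ≠ 0)
    (hsum : ∑ i ∈ S, f i ^ 2 = 4) :
    (S.card = 4 ∧ ∀ i ∈ S, f i = 1 ∨ f i = -1) ∨
      ∃ i0, S = {i0} ∧ (f i0 = 2 ∨ f i0 = -2) := by
  classical
  have hsq1 : ∀ a : ℤ, a ^ 2 = 1 → a = 1 ∨ a = -1 := fun a ha => by
    have h : (a - 1) * (a + 1) = 0 := by ring_nf; omega
    rcases mul_eq_zero.1 h with h | h
    · left; omega
    · right; omega
  by_cases h : ∀ i ∈ S, f i ^ 2 = 1
  · left
    constructor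
    · have h1 : ∑ i ∈ S, f i ^ 2 = (S.card : ℤ) := by
        rw [Finset.sum_congr rfl h]; simp
      rw [h1] at hsum
      exact_mod_cast hsum
    · intro i hi
      exact hsq1 _ (h i hi)
  · right
    push Not at h
    obtain ⟨i0, hi0, h1⟩ := h
    have h0 := hne i0 hi0
    have h4 : 4 ≤ f i0 ^ 2 := by
      have hcases : f i0 ≤ -2 ∨ f i0 = -1 ∨ f i0 = 0 ∨ f i0 = 1 ∨ 2 ≤ f i0 := by omega
      rcases hcases with hc | hc | hc | hc | hc
      · nlinarith
      · exfalso; apply h1; rw [hc]; norm_num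
      · exact absurd hc h0
      · exfalso; apply h1; rw [hc]; norm_num
      · nlinarith
    have hsplit := Finset.add_sum_erase S (fun i => f i ^ 2) hi0
    have hpos : ∀ i ∈ S.erase i0, (1 : ℤ) ≤ f i ^ 2 := by
      intro i hi
      have := hne i (Finset.mem_of_mem_erase hi)
      have h2 : 0 < f i ^ 2 := by positivity
      omega
    have hge : ((S.erase i0).card : ℤ) ≤ ∑ i ∈ S.erase i0, f i ^ 2 := by
      have := Finset.sum_le_sum hpos
      simpa using this
    have hcard0 : (S.erase i0).card = 0 := by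
      have : ((S.erase i0).card : ℤ) ≤ 0 := by linarith
      omega
    have hempty : S.erase i0 = ∅ := Finset.card_eq_zero.1 hcard0
    have hS : S = {i0} := by
      rcases (Finset.erase_eq_empty_iff S i0).1 hempty with hS | hS
      · rw [hS] at hi0; exact absurd hi0 (Finset.notMem_empty _)
      · exact hS
    refine ⟨i0, hS, ?_⟩
    rw [hempty, Finset.sum_empty, add_zero] at hsplit
    have h5 : f i0 ^ 2 = 4 := by rw [hsplit]; exact hsum
    have h6 : (f i0 - 2) * (f i0 + 2) = 0 := by ring_nf; omega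
    rcases mul_eq_zero.1 h6 with h | h
    · left; omega
    · right; omega

/-- (O2) the "principal 5-block" by column orthogonality only. -/
theorem b0_structure {G : Type u} [Group G] [Fintype G] (K : Subgroup G) (hK : Nat.card K = 5)
    (hC : Subgroup.centralizer (K : Set G) = K) {x : G} (hx : x ∈ K) (hx1 : x ≠ 1)
    (hconj : ∀ k ∈ K, k ≠ 1 → IsConj x k) :
    ∃ (χ : Fin 4 → IrrCharacter G) (ε : Fin 4 → ℤ), Function.Injective χ ∧
      (∀ i, (χ i : G → ℂ) ≠ 1) ∧ (∀ i, ε i = 1 ∨ ε i = -1) ∧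
      (∀ i, (χ i : G → ℂ) x = (ε i : ℂ)) ∧
      (∀ ψ : IrrCharacter G, (ψ : G → ℂ) ≠ 1 → (∀ i, ψ ≠ χ i) → (ψ : G → ℂ) x = 0) ∧
      ∀ g : G, ¬ IsConj g x → 1 + ∑ i, (ε i : ℂ) * (χ i : G → ℂ) g = 0 := by
  classical
  let _ : Fintype (IrrCharacter G) := Fintype.ofFinite _
  have h5 : Nat.Prime 5 := by norm_num
  -- the order of `x`
  have hox : orderOf x = 5 := by
    have h1 : orderOf (⟨x, hx⟩ : K) ∣ 5 := hK ▸ orderOf_dvd_natCard _
    have h2 : orderOf (⟨x, hx⟩ : K) = orderOf x := Subgroup.orderOf_mk x hx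
    rw [h2] at h1
    rcases (Nat.dvd_prime h5).1 h1 with h | h
    · exact absurd (orderOf_eq_one_iff.1 h) hx1
    · exact h
  -- `K = ⟨x⟩`
  have hKz : Subgroup.zpowers x = K := by
    apply Subgroup.eq_of_le_of_card_ge (Subgroup.zpowers_le.2 hx)
    rw [Nat.card_zpowers, hox, hK]
  -- `C_G(x) = K`
  have hCx : Subgroup.centralizer ({x} : Set G) = K := by
    ext g
    constructor
    · intro hg
      have hcomm : Commute x g := Subgroup.mem_centralizer_iff.1 hg x rfl
      have : g ∈ Subgroup.centralizer (K : Set G) := by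
        rw [Subgroup.mem_centralizer_iff]
        intro k hk
        have hk' : k ∈ Subgroup.zpowers x := by rw [hKz]; exact hk
        obtain ⟨n, rfl⟩ := Subgroup.mem_zpowers_iff.1 hk'
        exact (hcomm.zpow_left n).eq
      rwa [hC] at this
    · intro hg
      have : g ∈ Subgroup.centralizer (K : Set G) := by rw [hC]; exact hg
      rw [Subgroup.mem_centralizer_iff]
      intro h hh
      rw [Set.mem_singleton_iff] at hh
      subst hh
      exact Subgroup.mem_centralizer_iff.1 this h hx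
  have hcardC : Nat.card (Subgroup.centralizer ({x} : Set G)) = 5 := by rw [hCx, hK]
  -- the values at `x` are rational integers
  have hint : ∀ ψ : IrrCharacter G, ∃ a : ℤ, (ψ : G → ℂ) x = (a : ℂ) := by
    intro ψ
    obtain ⟨n, ρ, -, hρ⟩ := ψ.2
    have hrat : ∃ q : ℚ, ρ.character x = (q : ℂ) := by
      apply Cfsg.Agent.Lib.H23.char_rational_of_forall_char_pow_eq ρ x
      intro m hm
      have hdvd : 5 ∣ Nat.card G := hK ▸ Subgroup.card_subgroup_dvd_card K
      have hm5 : m.Coprime 5 := Nat.Coprime.coprime_dvd_right hdvd hm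
      have hxm : x ^ m ∈ K := Subgroup.pow_mem K hx m
      have hxm1 : x ^ m ≠ 1 := by
        intro h
        have h1 := orderOf_dvd_of_pow_eq_one h
        rw [hox] at h1
        have h2 := Nat.Coprime.eq_one_of_dvd hm5.symm h1
        omega
      obtain ⟨c, hc⟩ := isConj_iff.1 (hconj _ hxm hxm1)
      rw [← hc]
      exact Representation.char_conj ρ x c
    obtain ⟨q, hq⟩ := hrat
    have hI : IsIntegral ℤ (algebraMap ℚ ℂ q) := by
      have h1 : IsIntegral ℤ (ρ.character x) := Cfsg.Agent.Lib.L0.isIntegral_char ρ x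
      rw [hq] at h1
      exact h1
    have hI' : IsIntegral ℤ q := (isIntegral_algebraMap_iff (algebraMap ℚ ℂ).injective).1 hI
    obtain ⟨a, ha⟩ := IsIntegrallyClosed.isIntegral_iff.1 hI'
    refine ⟨a, ?_⟩
    rw [← hρ, hq, ← ha]
    simp
  choose a ha using hint
  set T := Cfsg.Agent.Lib.H24.trivialIrr G with hT
  have hTx : ∀ g : G, (T : G → ℂ) g = 1 := fun g => rfl
  have haT : a T = 1 := by
    have h1 := ha T
    rw [hTx] at h1
    exact_mod_cast h1.symm
  -- second orthogonality against the column of `x`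
  have horth : ∀ g : G, ∑ ψ : IrrCharacter G, (ψ : G → ℂ) g * (a ψ : ℂ) =
      if IsConj g x then (Nat.card (Subgroup.centralizer ({g} : Set G)) : ℂ) else 0 := by
    intro g
    rw [← Cfsg.Agent.Lib.H24.second_orthogonality g x]
    refine Finset.sum_congr rfl fun ψ _ => ?_
    rw [ha ψ]
    congr 1
    simp
  have hsq : ∑ ψ : IrrCharacter G, (a ψ) ^ 2 = 5 := by
    have h1 := horth x
    rw [if_pos (IsConj.refl x), hcardC] at h1
    have h2 : ((∑ ψ : IrrCharacter G, (a ψ) ^ 2 : ℤ) : ℂ) = 5 := by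
      push_cast
      have h3 : ((5 : ℕ) : ℂ) = 5 := by norm_num
      rw [h3] at h1
      rw [← h1]
      refine Finset.sum_congr rfl fun ψ _ => ?_
      rw [ha ψ]
      ring
    exact_mod_cast h2
  set S : Finset (IrrCharacter G) := (Finset.univ.erase T).filter (fun ψ => a ψ ≠ 0) with hS
  have hmemS : ∀ ψ : IrrCharacter G, ψ ∈ S ↔ ψ ≠ T ∧ a ψ ≠ 0 := by
    intro ψ
    rw [hS, Finset.mem_filter, Finset.mem_erase]
    simp
  have hS4 : ∑ ψ ∈ S, (a ψ) ^ 2 = 4 := by
    have h1 : ∑ ψ ∈ S, (a ψ) ^ 2 = ∑ ψ ∈ Finset.univ.erase T, (a ψ) ^ 2 := by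
      apply Finset.sum_filter_of_ne
      intro ψ _ hne h0
      apply hne
      rw [h0]
      norm_num
    have h2 := Finset.add_sum_erase Finset.univ (fun ψ => (a ψ) ^ 2) (Finset.mem_univ T)
    rw [h1]
    rw [hsq, haT] at h2
    linarith
  have hlin : ∀ g : G, ¬ IsConj g x → 1 + ∑ ψ ∈ S, (ψ : G → ℂ) g * (a ψ : ℂ) = 0 := by
    intro g hg
    have h1 := horth g
    rw [if_neg hg] at h1
    rw [← Finset.add_sum_erase Finset.univ _ (Finset.mem_univ T)] at h1
    rw [haT, hTx] at h1
    have h2 : ∑ ψ ∈ S, (ψ : G → ℂ) g * (a ψ : ℂ) =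
        ∑ ψ ∈ Finset.univ.erase T, (ψ : G → ℂ) g * (a ψ : ℂ) := by
      apply Finset.sum_filter_of_ne
      intro ψ _ hne h0
      apply hne
      rw [h0]
      simp
    rw [h2]
    simpa using h1
  rcases four_squares S a (fun ψ hψ => ((hmemS ψ).1 hψ).2) hS4 with ⟨hcard, hpm⟩ | ⟨ψ0, hS0, h2⟩
  · -- the good case
    set e : S ≃ Fin 4 := Finset.equivFinOfCardEq hcard with he
    refine ⟨fun i => (e.symm i).1, fun i => a (e.symm i).1, ?_, ?_, ?_, ?_, ?_, ?_⟩
    · exact Subtype.val_injective.comp e.symm.injective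
    · intro i h1
      have h2 := ((hmemS _).1 (e.symm i).2).1
      apply h2
      apply Subtype.ext
      rw [h1]
      rfl
    · intro i
      exact hpm _ (e.symm i).2
    · intro i
      exact ha _
    · intro ψ hψ1 hψ
      have hψT : ψ ≠ T := by
        intro h
        apply hψ1
        rw [h]
        rfl
      have h0 : a ψ = 0 := by
        by_contra h0
        have hmem : ψ ∈ S := (hmemS ψ).2 ⟨hψT, h0⟩
        apply hψ (e ⟨ψ, hmem⟩)
        show ψ = ((e.symm (e ⟨ψ, hmem⟩) : S) : IrrCharacter G)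
        rw [Equiv.symm_apply_apply]
      rw [ha ψ, h0]
      simp
    · intro g hg
      have h1 := hlin g hg
      rw [← h1]
      congr 1
      rw [← Finset.sum_coe_sort S (fun ψ => (ψ : G → ℂ) g * (a ψ : ℂ))]
      rw [← e.symm.sum_comp (fun s : S => ((s : IrrCharacter G) : G → ℂ) g * (a s : ℂ))]
      refine Finset.sum_congr rfl fun i _ => ?_
      rw [mul_comm]
  · -- the bad case: one character with value `±2`
    exfalso
    have hne1 : ¬ IsConj (1 : G) x := by
      intro h
      exact hx1 (isConj_one_right.1 h)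
    have h1 := hlin 1 hne1
    rw [hS0, Finset.sum_singleton] at h1
    obtain ⟨n, hn⟩ := Cfsg.Agent.Lib.L0.isCharacter_apply_one
      (Cfsg.Agent.Lib.L0.isCharacter_of_irr ψ0.2)
    rw [hn] at h1
    have h3 : (1 : ℤ) + (n : ℤ) * a ψ0 = 0 := by exact_mod_cast h1
    rcases h2 with h2 | h2 <;> rw [h2] at h3 <;> omega

end Cfsg.Agent.Lib.H23.O4320
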