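import Mathlib
import Cfsg.Agent.Lib.H5.Ord.SylPrime2

/-!
# S0980 piece (E8): fusion in a self-centralizing subgroup of order 5 with normalizer of order 10
(helper23)
-/

set_option autoImplicit false

namespace Cfsg.Agent.Lib.H23.O5760

universe u

/-- (E8) `x ~ x⁻¹` and `x` is not conjugate to `x ^ 2`. -/
theorem conj_facts {G : Type u} [Group G] [Finite G] (K : Subgroup G) (hK : Nat.card K = 5)
    (hC : Subgroup.centralizer (K : Set G) = K)
    (hN : Nat.card (Subgroup.normalizer (K : Set G)) = 10) {x : G} (hx : x ∈ K) (hx1 : x ≠ 1) :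
    IsConj x x⁻¹ ∧ ¬ IsConj x (x ^ 2) := by
  classical
  have h5 : Nat.Prime 5 := by norm_num
  have : Fact (Nat.Prime 5) := ⟨h5⟩
  -- the order of `x`
  have hox : orderOf x = 5 := by
    have h1 : orderOf (⟨x, hx⟩ : K) ∣ 5 := hK ▸ orderOf_dvd_natCard _
    have h2 : orderOf (⟨x, hx⟩ : K) = orderOf x := Subgroup.orderOf_mk x hx
    rw [h2] at h1
    rcases (Nat.dvd_prime h5).1 h1 with h | h
    · exact absurd (orderOf_eq_one_iff.1 h) hx1
    · exact h
  have hx5 : x ^ 5 = 1 := hox ▸ pow_orderOf_eq_one x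
  -- `K = ⟨x⟩`
  have hKz : Subgroup.zpowers x = K := by
    apply Subgroup.eq_of_le_of_card_ge (Subgroup.zpowers_le.2 hx)
    rw [Nat.card_zpowers, hox, hK]
  have hKN : K ≤ Subgroup.normalizer (K : Set G) := Subgroup.le_normalizer
  -- index two
  have hidx : (K.subgroupOf (Subgroup.normalizer (K : Set G))).index = 2 := by
    have h1 := Subgroup.card_mul_index (K.subgroupOf (Subgroup.normalizer (K : Set G)))
    have h2 : Nat.card (K.subgroupOf (Subgroup.normalizer (K : Set G))) = 5 := by
      rw [← hK]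
      exact Nat.card_congr (Subgroup.subgroupOfEquivOfLe hKN).toEquiv
    rw [h2, hN] at h1
    omega
  have hsq : ∀ g ∈ Subgroup.normalizer (K : Set G), g * g ∈ K := by
    intro g hg
    have := Subgroup.mul_self_mem_of_index_two hidx (⟨g, hg⟩ : Subgroup.normalizer (K : Set G))
    rwa [Subgroup.mem_subgroupOf] at this
  constructor
  · -- some `g ∈ N \ K` inverts `K`
    have hex : ∃ g ∈ Subgroup.normalizer (K : Set G), g ∉ K := by
      by_contra hcon
      push Not at hcon
      have hle : Subgroup.normalizer (K : Set G) ≤ K := hcon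
      have := Subgroup.card_le_of_le hle
      rw [hN, hK] at this
      omega
    obtain ⟨g, hgN, hgK⟩ := hex
    have hinv := Cfsg.Agent.Lib.H5.SylPrime.conj_eq_inv_of_not_mem_centralizer (p := 5) K hK hgN
      (by rw [hC]; exact hsq g hgN) (by rw [hC]; exact hgK) x hx
    exact isConj_iff.2 ⟨g, hinv⟩
  · intro hcon
    obtain ⟨h, hh⟩ := isConj_iff.1 hcon
    -- conjugation by `h` on the powers of `x`
    have hpow : ∀ n : ℤ, h * x ^ n * h⁻¹ = (x ^ 2) ^ n := by
      intro n
      rw [← hh, conj_zpow]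
    have hx6 : (x ^ 2) ^ (3 : ℤ) = x := by
      rw [zpow_ofNat, ← pow_mul]
      calc x ^ (2 * 3) = x ^ 5 * x := by rw [← pow_succ]
        _ = x := by rw [hx5, one_mul]
    have hhN : h ∈ Subgroup.normalizer (K : Set G) := by
      rw [Subgroup.mem_normalizer_iff]
      intro k
      constructor
      · intro hk
        have hk' : k ∈ Subgroup.zpowers x := by rw [hKz]; exact hk
        obtain ⟨n, rfl⟩ := Subgroup.mem_zpowers_iff.1 hk'
        rw [hpow]
        exact Subgroup.zpow_mem K (Subgroup.pow_mem K hx 2) n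
      · intro hk
        have hk' : h * k * h⁻¹ ∈ Subgroup.zpowers x := by rw [hKz]; exact hk
        obtain ⟨m, hm⟩ := Subgroup.mem_zpowers_iff.1 hk'
        have h1 : h * x ^ (3 * m) * h⁻¹ = h * k * h⁻¹ := by
          rw [hpow, ← hm, zpow_mul, hx6]
        have h2 : x ^ (3 * m) = k := by
          have := congrArg (fun y => h⁻¹ * y * h) h1
          simpa [mul_assoc] using this
        rw [← h2]
        exact Subgroup.zpow_mem K hx _
    have hh2 : h * h ∈ Subgroup.centralizer (K : Set G) := by
      rw [hC]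
      exact hsq h hhN
    have hcomm := Subgroup.mem_centralizer_iff.1 hh2 x hx
    -- `(h h) x (h h)⁻¹ = x ^ 4`
    have h4 : h * h * x * (h * h)⁻¹ = x ^ 4 := by
      have e1 : h * h * x * (h * h)⁻¹ = h * (h * x * h⁻¹) * h⁻¹ := by group
      rw [e1, hh]
      have e2 : h * x ^ 2 * h⁻¹ = (h * x * h⁻¹) ^ 2 := by rw [conj_pow]
      rw [e2, hh, ← pow_mul]
    have h5' : h * h * x * (h * h)⁻¹ = x := by
      rw [← hcomm]
      group
    rw [h5'] at h4
    have h3 : x ^ 3 = 1 := by
      have : x * x ^ 3 = x * 1 := by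
        rw [mul_one, ← pow_succ']
        exact h4.symm
      exact mul_left_cancel this
    have := orderOf_dvd_of_pow_eq_one h3
    rw [hox] at this
    omega

end Cfsg.Agent.Lib.H23.O5760
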