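import Mathlib
import Cfsg.Agent.Lib.H5.Ord.GenTests

set_option autoImplicit false

/-!
# No simple group of order 5880 = 2^3 * 3 * 5 * 7^2 (helper23, S0983 filler)

`n_7 ∈ {15, 120}`; `120`: `N(P) = P` abelian, Burnside.  `15`: `P` (order 49) acts on the other 14 Sylow 7-subgroups with orbits
of size `49 / |P ∩ R| ≤ 14`, so `|P ∩ R| = 7` for all `R ≠ P`.  For a 7-element `a ≠ 1` the number `f(a)` of Sylow 7-subgroups
containing `a` is `≡ 15 ≡ 1 (mod 7)` and `≠ 15` (the core is trivial), so `f(a) ∈ {1, 8}`.  Counting the pairs `(a, R)`,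
`a ∈ P ∩ R`, `a ≠ 1`: `48 + 14 * 6 = 48 + 7 β_P`, `β_P = #{a ∈ P : f(a) = 8} = 12` for every `P`; counting the pairs `(a, R)`,
`a ∈ R`, `f(a) = 8`: `15 * 12 = 8 * #{a : f(a) = 8}`, impossible.
-/

namespace Cfsg.Agent.Lib.H23.O983

open Subgroup MulAction
open scoped Pointwise

section core

variable {G : Type*} [Group G]

open scoped Classical in
/-- double counting of the pairs `(a, R)`, `a ∈ X`, `a ∈ R`. -/
theorem sum_card_filter_mem [Fintype (Sylow 7 G)] (X : Finset G) :
    ∑ R : Sylow 7 G, (X.filter (fun a => a ∈ R)).card =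
      ∑ a ∈ X, (Finset.univ.filter (fun R : Sylow 7 G => a ∈ R)).card := by
  simp only [Finset.card_filter]
  rw [Finset.sum_comm]

open scoped Classical in
/-- the number of nonidentity elements of a subgroup. -/
theorem card_filter_mem_ne_one [Fintype G] (H : Subgroup G) :
    (Finset.univ.filter (fun a : G => a ∈ H ∧ a ≠ 1)).card = Nat.card H - 1 := by
  have h1 : Finset.univ.filter (fun a : G => a ∈ H ∧ a ≠ 1) =
      (Finset.univ.filter (fun a : G => a ∈ H)).erase 1 := by
    ext a
    simp only [Finset.mem_filter, Finset.mem_univ, true_and, Finset.mem_erase]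
    tauto
  rw [h1, Finset.card_erase_of_mem (by simp [H.one_mem]), Nat.card_eq_fintype_card,
    Fintype.card_subtype]

variable [Finite G]

/-- `|P ∩ R| = 7` for two distinct Sylow 7-subgroups, when `|P| = 49` and `n_7 = 15`. -/
theorem card_inf_eq_seven (h49 : ∀ P : Sylow 7 G, Nat.card (P : Subgroup G) = 49)
    (h15 : Nat.card (Sylow 7 G) = 15) (P R : Sylow 7 G) (hne : R ≠ P) :
    Nat.card ((P : Subgroup G) ⊓ (R : Subgroup G) : Subgroup G) = 7 := by
  have : Fact (Nat.Prime 7) := ⟨by norm_num⟩
  have h1 : Nat.card (orbit (P : Subgroup G) R) * Nat.card (stabilizer (P : Subgroup G) R) =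
      Nat.card (P : Subgroup G) := by
    rw [← Nat.card_prod]
    exact Nat.card_congr (orbitProdStabilizerEquivGroup _ R)
  have h2 : Nat.card (stabilizer (P : Subgroup G) R) =
      Nat.card ((P : Subgroup G) ⊓ (R : Subgroup G) : Subgroup G) := by
    have e : stabilizer (P : Subgroup G) R =
        ((P : Subgroup G) ⊓ (R : Subgroup G)).subgroupOf (P : Subgroup G) := by
      ext a
      rw [mem_stabilizer_iff, mem_subgroupOf, ← P.isPGroup'.inf_normalizer_sylow R, mem_inf,
        ← Sylow.smul_eq_iff_mem_normalizer]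
      constructor
      · intro h; exact ⟨a.2, h⟩
      · intro h; exact h.2
    rw [e]
    exact Nat.card_congr (subgroupOfEquivOfLe inf_le_left).toEquiv
  have h3 : Nat.card (orbit (P : Subgroup G) R) ≤ 14 := by
    have hsub : orbit (P : Subgroup G) R ⊆ ({P} : Set (Sylow 7 G))ᶜ := by
      rintro Q ⟨a, rfl⟩ hQ
      rw [Set.mem_singleton_iff] at hQ
      apply hne
      have ha : (a : G) • P = P := Sylow.smul_eq_iff_mem_normalizer.2 (le_normalizer a.2)
      have : a • R = a • P := (show a • R = P from hQ).trans ha.symm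
      exact smul_left_cancel a this
    have := Set.ncard_le_ncard hsub (Set.toFinite _)
    rw [Set.ncard_compl, Set.ncard_singleton, h15] at this
    rw [Nat.card_coe_set_eq]
    exact this
  rw [h2, h49 P] at h1
  set c := Nat.card ((P : Subgroup G) ⊓ (R : Subgroup G) : Subgroup G) with hc
  set o := Nat.card (orbit (P : Subgroup G) R) with ho
  have hc49 : c ≠ 49 := by
    intro h
    apply hne
    have hle : (P : Subgroup G) ⊓ (R : Subgroup G) = (P : Subgroup G) :=
      Subgroup.eq_of_le_of_card_ge inf_le_left (by rw [← hc, h, h49 P])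
    have hPR : (P : Subgroup G) ≤ (R : Subgroup G) := inf_eq_left.1 hle
    have := Subgroup.eq_of_le_of_card_ge hPR (by rw [h49 P, h49 R])
    exact (Sylow.ext this).symm
  have hcd : c ∣ 49 := ⟨o, by rw [← h1]; ring⟩
  have hcle : c ≤ 49 := Nat.le_of_dvd (by norm_num) hcd
  have hopos : o * c = 49 := h1
  interval_cases c <;> omega

/-- the number of Sylow 7-subgroups containing a 7-element `a ≠ 1` is `1` or `8`. -/
theorem card_sylow_mem_eq (hs : ∀ N : Subgroup G, N.Normal → N = ⊥ ∨ N = ⊤)
    (h49 : ∀ P : Sylow 7 G, Nat.card (P : Subgroup G) = 49) (hG : Nat.card G ≠ 49)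
    (h15 : Nat.card (Sylow 7 G) = 15) (P : Sylow 7 G) (a : G) (haP : a ∈ P) (ha1 : a ≠ 1) :
    Nat.card {R : Sylow 7 G // a ∈ R} = 1 ∨ Nat.card {R : Sylow 7 G // a ∈ R} = 8 := by
  have : Fact (Nat.Prime 7) := ⟨by norm_num⟩
  have hZ : IsPGroup 7 (zpowers a) := P.isPGroup'.to_le (zpowers_le.2 haP)
  have hmod := hZ.card_modEq_card_fixedPoints (Sylow 7 G)
  have hcongr : Nat.card (fixedPoints (zpowers a) (Sylow 7 G)) =
      Nat.card {R : Sylow 7 G // a ∈ R} :=
    Nat.card_congr (Equiv.subtypeEquivRight fun R =>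
      hZ.sylow_mem_fixedPoints_iff.trans zpowers_le)
  rw [hcongr, h15] at hmod
  have hle : Nat.card {R : Sylow 7 G // a ∈ R} ≤ 15 := by
    rw [← h15]; exact Finite.card_subtype_le _
  have hne15 : Nat.card {R : Sylow 7 G // a ∈ R} ≠ 15 := by
    intro h
    have hall : ∀ R : Sylow 7 G, a ∈ R := by
      by_contra hcon
      push Not at hcon
      obtain ⟨R, hR⟩ := hcon
      have := Finite.card_subtype_lt (p := fun R : Sylow 7 G => a ∈ R) hR
      omega
    have hcore : a ∈ (P : Subgroup G).normalCore := by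
      intro b
      have h1 : a ∈ ((b⁻¹ • P : Sylow 7 G) : Subgroup G) := hall (b⁻¹ • P)
      rw [Sylow.coe_subgroup_smul, Subgroup.mem_pointwise_smul_iff_inv_smul_mem] at h1
      simpa [MulAut.smul_def, MulAut.conj_apply] using h1
    rcases hs _ (P : Subgroup G).normalCore_normal with h0 | h0
    · rw [h0, mem_bot] at hcore; exact ha1 hcore
    · have htop : (P : Subgroup G) = ⊤ := top_unique (h0 ▸ (P : Subgroup G).normalCore_le)
      apply hG
      rw [← h49 P, htop, card_top]
  have hm : Nat.card {R : Sylow 7 G // a ∈ R} % 7 = 1 := by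
    have := hmod.symm
    unfold Nat.ModEq at this
    omega
  omega

open scoped Classical in
/-- `n_7 = 15` with Sylow 7-subgroups of order 49 and a trivial core is impossible. -/
theorem false_of_fifteen (hs : ∀ N : Subgroup G, N.Normal → N = ⊥ ∨ N = ⊤)
    (h49 : ∀ P : Sylow 7 G, Nat.card (P : Subgroup G) = 49) (hG : Nat.card G ≠ 49)
    (h15 : Nat.card (Sylow 7 G) = 15) : False := by
  let _ : Fintype G := Fintype.ofFinite _
  let _ : Fintype (Sylow 7 G) := Fintype.ofFinite _
  set f : G → ℕ := fun a => (Finset.univ.filter (fun R : Sylow 7 G => a ∈ R)).card with hf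
  have hfcard : ∀ a, f a = Nat.card {R : Sylow 7 G // a ∈ R} := by
    intro a
    rw [hf, Nat.card_eq_fintype_card, Fintype.card_subtype]
  have hcu : (Finset.univ : Finset (Sylow 7 G)).card = 15 := by
    rw [Finset.card_univ, ← Nat.card_eq_fintype_card, h15]
  -- the local count
  have hβ : ∀ P : Sylow 7 G,
      ((Finset.univ.filter (fun a : G => a ∈ P ∧ a ≠ 1)).filter (fun a => f a = 8)).card = 12 := by
    intro P
    set X := Finset.univ.filter (fun a : G => a ∈ P ∧ a ≠ 1) with hX
    have hXcard : X.card = 48 := by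
      rw [hX]
      have := card_filter_mem_ne_one (P : Subgroup G)
      rw [h49 P] at this
      exact this
    have hsum := sum_card_filter_mem X
    have hL : ∑ R : Sylow 7 G, (X.filter (fun a => a ∈ R)).card = 48 + 14 * 6 := by
      rw [← Finset.add_sum_erase Finset.univ _ (Finset.mem_univ P)]
      have h1 : (X.filter (fun a => a ∈ P)).card = 48 := by
        rw [Finset.filter_true_of_mem, hXcard]
        intro a ha
        exact (Finset.mem_filter.1 ha).2.1
      have h2 : ∀ R ∈ Finset.univ.erase P, (X.filter (fun a => a ∈ R)).card = 6 := by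
        intro R hR
        have hne : R ≠ P := (Finset.mem_erase.1 hR).1
        have h7 := card_inf_eq_seven h49 h15 P R hne
        have h3 : X.filter (fun a => a ∈ R) = Finset.univ.filter
            (fun a : G => a ∈ ((P : Subgroup G) ⊓ (R : Subgroup G) : Subgroup G) ∧ a ≠ 1) := by
          ext a
          simp only [hX, Finset.mem_filter, Finset.mem_univ, true_and, Subgroup.mem_inf]
          constructor
          · rintro ⟨⟨h1, h2⟩, h3⟩; exact ⟨⟨h1, h3⟩, h2⟩
          · rintro ⟨⟨h1, h3⟩, h2⟩; exact ⟨⟨h1, h2⟩, h3⟩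
        rw [h3, card_filter_mem_ne_one, h7]
      rw [h1, Finset.sum_congr rfl h2, Finset.sum_const, Finset.card_erase_of_mem (Finset.mem_univ _),
        hcu]
      rfl
    have hR : ∑ a ∈ X, f a = 48 + 7 * (X.filter (fun a => f a = 8)).card := by
      have h4 : ∀ a ∈ X, f a = 1 + 7 * (if f a = 8 then 1 else 0) := by
        intro a ha
        have ha' := (Finset.mem_filter.1 ha).2
        rcases card_sylow_mem_eq hs h49 hG h15 P a ha'.1 ha'.2 with h | h
        · rw [hfcard, h]; simp
        · rw [hfcard, h]; simp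
      rw [Finset.sum_congr rfl h4, Finset.sum_add_distrib, Finset.sum_const, ← Finset.mul_sum,
        ← Finset.card_filter, hXcard]
      simp
    have : (48 : ℕ) + 14 * 6 = 48 + 7 * (X.filter (fun a => f a = 8)).card := by
      rw [← hL, ← hR]; exact hsum
    omega
  -- the global count
  set B := Finset.univ.filter (fun a : G => a ≠ 1 ∧ f a = 8) with hB
  have hglob := sum_card_filter_mem B
  have hL : ∑ R : Sylow 7 G, (B.filter (fun a => a ∈ R)).card = 15 * 12 := by
    have h5 : ∀ R ∈ (Finset.univ : Finset (Sylow 7 G)), (B.filter (fun a => a ∈ R)).card = 12 := by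
      intro R _
      rw [← hβ R]
      congr 1
      ext a
      simp only [hB, Finset.mem_filter, Finset.mem_univ, true_and]
      tauto
    rw [Finset.sum_congr rfl h5, Finset.sum_const, hcu]
    rfl
  have hR : ∑ a ∈ B, f a = 8 * B.card := by
    have h6 : ∀ a ∈ B, f a = 8 := fun a ha => (Finset.mem_filter.1 ha).2.2
    rw [Finset.sum_congr rfl h6, Finset.sum_const, smul_eq_mul, mul_comm]
  have : (15 : ℕ) * 12 = 8 * B.card := by
    rw [← hL, ← hR]; exact hglob
  omega

end core

open Cfsg.Agent.Lib.H5 Cfsg.Agent.Lib.H5.GenTests in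
/-- **No simple group of order 5880.** -/
theorem not_simple_5880 {G : Type*} [Group G] [Finite G] [IsSimpleGroup G] : Nat.card G ≠ 5880 := by
  intro hn
  have hnc : ¬ IsMulCommutative G :=
    not_isMulCommutative_of_card_not_prime (by rw [hn]; norm_num)
  have : Fact (Nat.Prime 7) := ⟨by norm_num⟩
  have hdata := fun P : Sylow 7 G => sylow_data hnc hn (p := 7) (k := 2) (m := 120) (by norm_num)
    (by norm_num) (by norm_num) (by norm_num) P
  have h49 : ∀ P : Sylow 7 G, Nat.card (P : Subgroup G) = 49 := fun P => by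
    have := (hdata P).2.2.2.2.2.1
    simpa using this
  obtain ⟨h1, h2, h3, h4, h5, h6, h7⟩ := hdata default
  have hcases : Nat.card (Sylow 7 G) = 15 ∨ Nat.card (Sylow 7 G) = 120 := by
    have hle : Nat.card (Sylow 7 G) ≤ 120 := Nat.le_of_dvd (by norm_num) h1
    clear h5 h49 hdata
    generalize Nat.card (Sylow 7 G) = d at *
    interval_cases d <;> first | omega | (revert h4; decide)
  rcases hcases with h15 | h120
  · exact false_of_fifteen (fun N hN => hN.eq_bot_or_eq_top) h49 (by rw [hn]; norm_num) h15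
  · rw [h120] at h5
    have hN49 : Nat.card (normalizer (((default : Sylow 7 G) : Subgroup G) : Set G)) = 49 := by omega
    have hNP : ((default : Sylow 7 G) : Subgroup G) =
        normalizer (((default : Sylow 7 G) : Subgroup G) : Set G) :=
      Subgroup.eq_of_le_of_card_ge le_normalizer (by rw [hN49, h49])
    have hnp : ¬ IsPGroup 7 G :=
      Cfsg.Agent.S0493.not_isPGroup_of_card hn (show 5880 = 7 ^ 2 * 120 by norm_num) (by norm_num)
        (by norm_num)
    apply not_normalizer_le_centralizer_of_simple (p := 7) (by rw [hn]; norm_num) hnp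
      (default : Sylow 7 G)
    have hcomm : IsMulCommutative ((default : Sylow 7 G) : Subgroup G) :=
      IsPGroup.isMulCommutative_of_card_eq_prime_sq (p := 7) (by rw [h49]; norm_num)
    have key : normalizer (((default : Sylow 7 G) : Subgroup G) : Set G) ≤
        centralizer (((default : Sylow 7 G) : Subgroup G) : Set G) := by
      rw [← hNP]
      exact Subgroup.le_centralizer_iff_isMulCommutative.2 hcomm
    exact key

end Cfsg.Agent.Lib.H23.O983
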