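import Mathlib

set_option autoImplicit false
set_option warn.classDefReducibility false

/-!
# The quadratic extension `F[ω]/(ω² = δ)` of a finite field of odd order (helper23)

`EE F δ = QuadraticAlgebra F δ 0`; for `δ` a non-square this is a field with `q²` elements on which
`z ↦ z ^ q` is the conjugation `star`.
-/

namespace Cfsg.Agent.Lib.H23.SpU

open QuadraticAlgebra

/-- the quadratic algebra `F[ω]`, `ω² = δ` -/
abbrev EE (F : Type*) [Field F] (δ : F) := QuadraticAlgebra F δ 0

section quad0

variable {F : Type*} [Field F] (δ : F)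

theorem fact_of_nsq (hδ : ∀ c : F, c * c ≠ δ) : Fact (∀ r : F, r ^ 2 ≠ δ + 0 * r) :=
  ⟨fun r => by rw [zero_mul, add_zero, pow_two]; exact hδ r⟩

theorem omega_sq : (ω : EE F δ) * ω = algebraMap F (EE F δ) δ := by
  ext <;> simp

theorem omega_pow_odd (k : ℕ) : (ω : EE F δ) ^ (2 * k + 1) = algebraMap F (EE F δ) (δ ^ k) * ω := by
  rw [pow_succ, pow_mul, pow_two, omega_sq, map_pow]

theorem star_omega : star (ω : EE F δ) = -ω := by
  ext <;> simp

end quad0

section quad

variable {F : Type*} [Field F] [Fintype F] (δ : F)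

/-- the fintype structure -/
noncomputable def fintypeEE : Fintype (EE F δ) :=
  Fintype.ofEquiv _ (QuadraticAlgebra.equivProd δ 0).symm

attribute [local instance] fintypeEE

theorem card_EE : Fintype.card (EE F δ) = Fintype.card F ^ 2 := by
  rw [Fintype.card_congr (QuadraticAlgebra.equivProd δ 0), Fintype.card_prod, pow_two]

variable {q : ℕ}

/-- the Frobenius `z ↦ z ^ q` is the conjugation -/
theorem pow_card_eq_star (p : ℕ) [Fact p.Prime] [CharP F p] (hq : Fintype.card F = q) (h2 : (2 : F) ≠ 0) (hδ : ∀ c : F, c * c ≠ δ)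
    (z : EE F δ) : z ^ q = star z := by
  have : CharP (EE F δ) p :=
    charP_of_injective_algebraMap (algebraMap_injective (R := F) (a := δ) (b := 0)) p
  obtain ⟨n, -, hn⟩ := FiniteField.card F p
  have hqp : q = p ^ (n : ℕ) := by rw [← hq, hn]
  have hchar : ringChar F ≠ 2 := by
    intro h
    apply h2
    have := ringChar.Nat.cast_ringChar (R := F)
    rw [h] at this
    exact_mod_cast this
  have hδ0 : δ ≠ 0 := fun h => hδ 0 (by rw [h, mul_zero])
  have hns : ¬ IsSquare δ := fun ⟨c, hc⟩ => hδ c hc.symm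
  rw [FiniteField.isSquare_iff hchar hδ0] at hns
  have hδq := (FiniteField.pow_dichotomy hchar hδ0).resolve_left hns
  rw [hq] at hδq
  have hqodd : q % 2 = 1 := by
    rw [← hq]
    exact FiniteField.odd_card_of_char_ne_two hchar
  have hz : z = algebraMap F (EE F δ) z.re + algebraMap F (EE F δ) z.im * ω := by
    ext <;> simp
  have hω : (ω : EE F δ) ^ q = -ω := by
    have hq2 : q = 2 * (q / 2) + 1 := by omega
    rw [hq2, omega_pow_odd, hδq, map_neg, map_one, neg_mul, one_mul]
  have hre : ∀ x : F, (algebraMap F (EE F δ) x) ^ q = algebraMap F (EE F δ) x := by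
    intro x
    rw [← map_pow, ← hq, FiniteField.pow_card]
  conv_lhs => rw [hz]
  rw [hqp, add_pow_char_pow, ← hqp, mul_pow, hre, hre, hω]
  ext <;> simp

end quad

end Cfsg.Agent.Lib.H23.SpU
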