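import Mathlib
import Cfsg.Prelude.Def_GeometricClasses
import Cfsg.Agent.Lib.H23.SpUL

set_option autoImplicit false

/-!
# Quadratic field subalgebras of a matrix algebra, general index type (helper23)

`K = F[α]`, `α² = δ` a non-square: data, normalizer (`g α = ± α g`), the algebra map
`F[ω] → M_n(F)`.
-/

namespace Cfsg.Agent.Lib.H23.OrF

open Module Matrix QuadraticAlgebra
open Cfsg.Agent.Lib.H23.SpU

section basic

variable {F : Type*} [Field F] {n : Type} [Fintype n] [DecidableEq n]

theorem gmi (g : GL n F) : (g : Matrix n n F) * ((g⁻¹ : GL n F) : Matrix n n F) = 1 := by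
  rw [← Units.val_mul, mul_inv_cancel, Units.val_one]

theorem gim (g : GL n F) : ((g⁻¹ : GL n F) : Matrix n n F) * (g : Matrix n n F) = 1 := by
  rw [← Units.val_mul, inv_mul_cancel, Units.val_one]

omit [Fintype n] in
theorem one_ne_zero_mat [Nonempty n] : (1 : Matrix n n F) ≠ 0 := by
  intro h
  obtain ⟨i⟩ := ‹Nonempty n›
  have := congrFun (congrFun h i) i
  simp at this

theorem smul_one_eq_zero_mat [Nonempty n] (c : F) (h : c • (1 : Matrix n n F) = 0) : c = 0 := by
  rcases smul_eq_zero.mp h with h | h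
  · exact h
  · exact absurd h one_ne_zero_mat

/-- the data extracted from a quadratic field subalgebra -/
structure QData (K : Subalgebra F (Matrix n n F)) (α : Matrix n n F) (δ : F) : Prop where
  mem : α ∈ K
  sq : α * α = δ • 1
  nsq : ∀ c : F, c * c ≠ δ
  span : ∀ k ∈ K, ∃ s t : F, k = s • 1 + t • α

theorem exists_qdata [Nonempty n] (h2 : (2 : F) ≠ 0) (K : Subalgebra F (Matrix n n F))
    (hK : Cfsg.Geo.IsFieldSubalgebra 2 K) : ∃ (α : Matrix n n F) (δ : F), QData K α δ := by
  classical
  obtain ⟨β, hβK, hβsc⟩ : ∃ β ∈ K, ∀ c : F, β ≠ c • 1 := by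
    by_contra hcon
    push Not at hcon
    have hle : Subalgebra.toSubmodule K ≤ Submodule.span F {(1 : Matrix n n F)} := by
      intro x hx
      obtain ⟨c, hc⟩ := hcon x hx
      rw [hc]
      exact Submodule.smul_mem _ _ (Submodule.subset_span rfl)
    have h1 := Submodule.finrank_mono hle
    have h3 : finrank F ↥(Subalgebra.toSubmodule K) = 2 := hK.finrank_eq
    have h4 := finrank_span_le_card (R := F) ({(1 : Matrix n n F)} : Set _)
    rw [Set.toFinset_singleton, Finset.card_singleton] at h4
    omega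
  have hli : LinearIndependent F ![(1 : Matrix n n F), β] := by
    rw [LinearIndependent.pair_iff]
    intro s t hst
    by_cases ht : t = 0
    · subst ht
      rw [zero_smul, add_zero] at hst
      exact ⟨smul_one_eq_zero_mat s hst, rfl⟩
    · exfalso
      apply hβsc (-(t⁻¹ * s))
      have : β = t⁻¹ • (t • β) := by rw [smul_smul, inv_mul_cancel₀ ht, one_smul]
      rw [this, eq_neg_of_add_eq_zero_right hst, smul_neg, smul_smul, neg_smul]
  have hspan : Submodule.span F (Set.range ![(1 : Matrix n n F), β]) =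
      Subalgebra.toSubmodule K := by
    apply Submodule.eq_of_le_of_finrank_eq
    · rw [Submodule.span_le]
      rintro x ⟨i, rfl⟩
      fin_cases i
      · exact K.one_mem
      · exact hβK
    · rw [finrank_span_eq_card hli, Fintype.card_fin]
      exact hK.finrank_eq.symm
  have hKspan : ∀ x ∈ K, ∃ s t : F, x = s • 1 + t • β := by
    intro x hx
    have hx' : x ∈ Submodule.span F (Set.range ![(1 : Matrix n n F), β]) := by
      rw [hspan]; exact hx
    rw [Submodule.mem_span_range_iff_exists_fun] at hx'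
    obtain ⟨c, hc⟩ := hx'
    rw [Fin.sum_univ_two] at hc
    exact ⟨c 0, c 1, hc.symm⟩
  obtain ⟨s, t, hst⟩ := hKspan (β * β) (K.mul_mem hβK hβK)
  set c₀ : F := t / 2 with hc₀
  set α := β - c₀ • 1 with hα
  have hαK : α ∈ K := K.sub_mem hβK (K.smul_mem K.one_mem c₀)
  have hαsc : ∀ c : F, α ≠ c • 1 := by
    intro c hc
    apply hβsc (c + c₀)
    rw [add_smul, ← hc, hα, sub_add_cancel]
  have hαsq : α * α = (s + c₀ * c₀) • 1 := by
    have h2c : 2 * c₀ = t := by rw [hc₀]; field_simp
    rw [hα]
    simp only [sub_mul, mul_sub, Matrix.smul_mul, Matrix.mul_smul, Matrix.one_mul, Matrix.mul_one,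
      smul_smul, hst]
    rw [add_smul, ← h2c]
    module
  refine ⟨α, s + c₀ * c₀, hαK, hαsq, ?_, ?_⟩
  · intro c hc
    have hprod : (α - c • 1) * (α + c • 1) = 0 := by
      have : (α - c • 1) * (α + c • 1) = α * α - (c * c) • 1 := by
        simp only [sub_mul, mul_add, Matrix.smul_mul, Matrix.mul_smul, Matrix.one_mul,
          Matrix.mul_one, smul_smul]
        abel
      rw [this, hαsq, hc, sub_self]
    by_cases hx : α - c • 1 = 0
    · exact hαsc c (sub_eq_zero.mp hx)
    · obtain ⟨y, hyK, hy⟩ := hK.inv _ (K.sub_mem hαK (K.smul_mem K.one_mem c)) hx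
      have hy' : y * (α - c • 1) = 1 := by
        rw [← hK.comm _ (K.sub_mem hαK (K.smul_mem K.one_mem c)) _ hyK]; exact hy
      have : α + c • 1 = 0 := by
        calc α + c • 1 = (y * (α - c • 1)) * (α + c • 1) := by rw [hy', Matrix.one_mul]
          _ = 0 := by rw [Matrix.mul_assoc, hprod, Matrix.mul_zero]
      apply hαsc (-c)
      rw [neg_smul]
      exact eq_neg_of_add_eq_zero_left this
  · intro k hk
    obtain ⟨s', t', rfl⟩ := hKspan k hk
    refine ⟨s' + t' * c₀, t', ?_⟩
    rw [hα]
    module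

variable {K : Subalgebra F (Matrix n n F)} {α : Matrix n n F} {δ : F}

theorem QData.mem_iff (h : QData K α δ) (k : Matrix n n F) :
    k ∈ K ↔ ∃ s t : F, k = s • 1 + t • α := by
  constructor
  · exact h.span k
  · rintro ⟨s, t, rfl⟩
    exact K.add_mem (K.smul_mem K.one_mem s) (K.smul_mem h.mem t)

theorem QData.delta_ne (h : QData K α δ) : δ ≠ 0 := by
  intro h0
  exact h.nsq 0 (by rw [h0, mul_zero])

theorem QData.ne_smul [Nonempty n] (h : QData K α δ) (c : F) : α ≠ c • 1 := by
  intro hc
  have := h.sq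
  rw [hc, Matrix.smul_mul, Matrix.mul_smul, Matrix.one_mul, smul_smul, ← sub_eq_zero,
    ← sub_smul] at this
  exact h.nsq c (sub_eq_zero.mp (smul_one_eq_zero_mat _ this))

theorem QData.indep [Nonempty n] (h : QData K α δ) (s t : F) (hst : s • 1 + t • α = 0) :
    s = 0 ∧ t = 0 := by
  by_cases ht : t = 0
  · subst ht
    rw [zero_smul, add_zero] at hst
    exact ⟨smul_one_eq_zero_mat s hst, rfl⟩
  · exfalso
    apply h.ne_smul (-(t⁻¹ * s))
    have : α = t⁻¹ • (t • α) := by rw [smul_smul, inv_mul_cancel₀ ht, one_smul]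
    rw [this, eq_neg_of_add_eq_zero_right hst, smul_neg, smul_smul, neg_smul]

/-- conjugation relation from a (anti)commutation relation -/
theorem conj_of_comm (α : Matrix n n F) (g : GL n F) (ε : F)
    (hg : (g : Matrix n n F) * α = ε • (α * g)) (s t : F) :
    (g : Matrix n n F) * (s • 1 + t • α) * ((g⁻¹ : GL n F) : Matrix n n F) =
      s • 1 + (t * ε) • α := by
  rw [Matrix.mul_add, Matrix.mul_smul, Matrix.mul_smul, Matrix.mul_one, hg, Matrix.add_mul,
    Matrix.smul_mul, Matrix.smul_mul, Matrix.smul_mul, gmi, Matrix.mul_assoc, gmi,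
    Matrix.mul_one, smul_smul]

theorem inv_comm (α : Matrix n n F) (g : GL n F) (ε : F) (hε : ε * ε = 1)
    (hg : (g : Matrix n n F) * α = ε • (α * g)) :
    ((g⁻¹ : GL n F) : Matrix n n F) * α = ε • (α * ((g⁻¹ : GL n F) : Matrix n n F)) := by
  have h1 : α = ε • (((g⁻¹ : GL n F) : Matrix n n F) * α * g) := by
    rw [Matrix.mul_assoc, ← Matrix.mul_smul, ← hg, ← Matrix.mul_assoc, gim, Matrix.one_mul]
  calc ((g⁻¹ : GL n F) : Matrix n n F) * α
      = (ε * ε) • (((g⁻¹ : GL n F) : Matrix n n F) * α *
          ((g : Matrix n n F) * ((g⁻¹ : GL n F) : Matrix n n F))) := by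
        rw [hε, one_smul, gmi, Matrix.mul_one]
    _ = ε • (α * ((g⁻¹ : GL n F) : Matrix n n F)) := by
        rw [← Matrix.mul_assoc, mul_smul, ← Matrix.smul_mul ε, ← h1]

/-- matrices commuting or anticommuting with `α` normalize `K` -/
theorem QData.mem_normalizer_of (h : QData K α δ) (g : GL n F)
    (hg : (g : Matrix n n F) * α = α * g ∨ (g : Matrix n n F) * α = -(α * g)) :
    g ∈ Cfsg.Geo.subalgebraNormalizer K := by
  obtain ⟨ε, hε, hgε⟩ : ∃ ε : F, ε * ε = 1 ∧ (g : Matrix n n F) * α = ε • (α * g) := by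
    rcases hg with hg | hg
    · exact ⟨1, one_mul 1, by rw [one_smul]; exact hg⟩
    · exact ⟨-1, by ring, by rw [neg_smul, one_smul]; exact hg⟩
  intro k
  constructor
  · intro hk
    obtain ⟨s, t, rfl⟩ := h.span k hk
    rw [conj_of_comm α g ε hgε]
    exact (h.mem_iff _).mpr ⟨s, t * ε, rfl⟩
  · intro hk
    obtain ⟨s, t, hst⟩ := h.span _ hk
    have hk' : k = ((g⁻¹ : GL n F) : Matrix n n F) * (s • 1 + t • α) *
        (((g⁻¹)⁻¹ : GL n F) : Matrix n n F) := by
      rw [← hst, inv_inv]
      calc k = (((g⁻¹ : GL n F) : Matrix n n F) * g) * k *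
            (((g⁻¹ : GL n F) : Matrix n n F) * g) := by
            rw [gim, Matrix.one_mul, Matrix.mul_one]
        _ = _ := by simp only [Matrix.mul_assoc]
    rw [hk', conj_of_comm α g⁻¹ ε (inv_comm α g ε hε hgε)]
    exact (h.mem_iff _).mpr ⟨s, t * ε, rfl⟩

/-- the normalizer of `K` consists of the matrices commuting or anticommuting with `α` -/
theorem QData.mem_normalizer_iff [Nonempty n] (h : QData K α δ) (h2 : (2 : F) ≠ 0) (g : GL n F) :
    g ∈ Cfsg.Geo.subalgebraNormalizer K ↔
      ((g : Matrix n n F) * α = α * g ∨ (g : Matrix n n F) * α = -(α * g)) := by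
  constructor
  · intro hg
    have h1 : (g : Matrix n n F) * α * ((g⁻¹ : GL n F) : Matrix n n F) ∈ K := (hg α).mp h.mem
    obtain ⟨s, t, hst⟩ := h.span _ h1
    have hsq : (s • 1 + t • α) * (s • 1 + t • α) = δ • (1 : Matrix n n F) := by
      rw [← hst]
      calc (g : Matrix n n F) * α * ((g⁻¹ : GL n F) : Matrix n n F) *
            ((g : Matrix n n F) * α * ((g⁻¹ : GL n F) : Matrix n n F))
          = (g : Matrix n n F) * (α * (((g⁻¹ : GL n F) : Matrix n n F) * (g : Matrix n n F)) * α) *
            ((g⁻¹ : GL n F) : Matrix n n F) := by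
            simp only [Matrix.mul_assoc]
        _ = δ • 1 := by
            rw [gim, Matrix.mul_one, h.sq, Matrix.mul_smul, Matrix.mul_one, Matrix.smul_mul, gmi]
    have hexp : (s • 1 + t • α) * (s • 1 + t • α) =
        (s * s + t * t * δ) • (1 : Matrix n n F) + (2 * s * t) • α := by
      simp only [add_mul, mul_add, Matrix.smul_mul, Matrix.mul_smul, Matrix.one_mul,
        Matrix.mul_one, smul_smul, h.sq]
      rw [add_smul, mul_assoc 2 s t, two_mul, add_smul, mul_comm t s, mul_assoc t t δ]
      abel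
    rw [hexp] at hsq
    have hz : (s * s + t * t * δ - δ) • (1 : Matrix n n F) + (2 * s * t) • α = 0 := by
      rw [sub_smul, sub_add_eq_add_sub, hsq, sub_self]
    obtain ⟨e1, e2⟩ := h.indep _ _ hz
    have hs0 : s = 0 := by
      by_contra hs
      have ht0 : t = 0 := by
        rcases mul_eq_zero.mp e2 with h' | h'
        · rcases mul_eq_zero.mp h' with h'' | h''
          · exact absurd h'' h2
          · exact absurd h'' hs
        · exact h'
      rw [ht0] at e1
      apply h.nsq s
      linear_combination e1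
    rw [hs0] at e1
    have ht1 : (t - 1) * (t + 1) = 0 := by
      have : (t * t - 1) * δ = 0 := by linear_combination e1
      rcases mul_eq_zero.mp this with h' | h'
      · linear_combination h'
      · exact absurd h' h.delta_ne
    rw [hs0, zero_smul, zero_add] at hst
    have hga : (g : Matrix n n F) * α = t • (α * g) := by
      calc (g : Matrix n n F) * α
          = (g : Matrix n n F) * α * (((g⁻¹ : GL n F) : Matrix n n F) * g) := by
            rw [gim, Matrix.mul_one]
        _ = t • (α * g) := by rw [← Matrix.mul_assoc, hst, Matrix.smul_mul]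
    rcases mul_eq_zero.mp ht1 with h' | h'
    · left
      rw [hga, sub_eq_zero.mp h', one_smul]
    · right
      rw [hga, eq_neg_of_add_eq_zero_left h', neg_smul, one_smul]
  · exact h.mem_normalizer_of g

/-- an element of the normalizer with an odd power scalar commutes with `α` -/
theorem QData.comm_of_odd [Nonempty n] (h : QData K α δ) (h2 : (2 : F) ≠ 0)
    (y : GL n F) (hy : y ∈ Cfsg.Geo.subalgebraNormalizer K) (r : ℕ) (hr : Odd r)
    (z : F) (hz : ((y ^ r : GL n F) : Matrix n n F) = z • 1) :
    (y : Matrix n n F) * α = α * y := by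
  rcases (h.mem_normalizer_iff h2 y).mp hy with h1 | h1
  · exact h1
  · exfalso
    have hpow : ∀ k : ℕ, (y : Matrix n n F) ^ k * α =
        (-1 : F) ^ k • (α * (y : Matrix n n F) ^ k) := by
      intro k
      induction k with
      | zero => simp
      | succ k ih =>
        rw [pow_succ, Matrix.mul_assoc, h1, Matrix.mul_neg, ← Matrix.mul_assoc, ih,
          Matrix.smul_mul, Matrix.mul_assoc, pow_succ, mul_smul, neg_smul, one_smul, smul_neg]
    have h3 := hpow r
    rw [← Units.val_pow_eq_pow_val, hz, hr.neg_one_pow, Matrix.smul_mul, Matrix.one_mul,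
      Matrix.mul_smul, Matrix.mul_one, neg_smul, one_smul] at h3
    have h4 : ((2 : F) * z) • α = 0 := by
      rw [mul_smul, two_smul]
      nth_rewrite 1 [h3]
      exact neg_add_cancel _
    have hz0 : z ≠ 0 := by
      intro hz0
      rw [hz0, zero_smul] at hz
      have h5 := gmi (y ^ r)
      rw [hz, Matrix.zero_mul] at h5
      exact one_ne_zero_mat h5.symm
    have hα0 : α ≠ 0 := by
      intro h0
      apply h.ne_smul 0
      rw [h0, zero_smul]
    rcases smul_eq_zero.mp h4 with h' | h'
    · rcases mul_eq_zero.mp h' with h'' | h''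
      · exact h2 h''
      · exact hz0 h''
    · exact hα0 h'

end basic

section lift

variable {F : Type*} [Field F] {n : Type} [Fintype n] [DecidableEq n]

/-- the algebra map `F[ω] → M_n(F)` attached to a square root of `δ` -/
noncomputable def liftG (a : Matrix n n F) (δ : F) (ha : a * a = δ • 1) :
    EE F δ →ₐ[F] Matrix n n F :=
  QuadraticAlgebra.lift ⟨a, by rw [ha, zero_smul, add_zero]⟩

theorem liftG_apply (a : Matrix n n F) (δ : F) (ha : a * a = δ • 1) (z : EE F δ) :
    liftG a δ ha z = z.re • 1 + z.im • a := rfl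

theorem liftG_omega (a : Matrix n n F) (δ : F) (ha : a * a = δ • 1) : liftG a δ ha ω = a := by
  rw [liftG_apply, omega_re, omega_im, zero_smul, zero_add, one_smul]

theorem liftG_range (K : Subalgebra F (Matrix n n F)) (a : Matrix n n F) (δ : F)
    (h : QData K a δ) : (liftG a δ h.sq).range = K := by
  ext k
  rw [h.mem_iff]
  constructor
  · rintro ⟨z, rfl⟩
    exact ⟨z.re, z.im, liftG_apply a δ h.sq z⟩
  · rintro ⟨s, t, rfl⟩
    exact ⟨⟨s, t⟩, liftG_apply a δ h.sq ⟨s, t⟩⟩

end lift

end Cfsg.Agent.Lib.H23.OrF
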