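import Mathlib
import Cfsg.Prelude.Def_GeometricClasses

set_option autoImplicit false

/-!
# Field subalgebras as abstract extension fields; the trace-dual form (helper23)

Let `E / F` be a finite extension of fields, `V` an `E`-space and `B` an `F`-bilinear form on `V`
for which the scalars of `E` are self-adjoint, `B (c • u) v = B u (c • v)`, and `B (c • v) v = 0`.
For a nonzero `F`-linear functional `l` on `E` there is a unique `E`-bilinear alternating form
`BE` on `V` with `B u v = l (BE u v)`.
-/

namespace Cfsg.Agent.Lib.H23.SpF

open Module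

section model

universe u

variable {F : Type u} [Field F] {n : Type} [Fintype n] [DecidableEq n]

/-- a field subalgebra is the image of an abstract field extension -/
theorem exists_field_model (k : ℕ) (hk : 0 < k) (K : Subalgebra F (Matrix n n F))
    (hK : Cfsg.Geo.IsFieldSubalgebra k K) :
    ∃ (E : Type u) (_ : Field E) (_ : Algebra F E) (ι : E →ₐ[F] Matrix n n F),
      Function.Injective ι ∧ ι.range = K ∧ finrank F E = k := by
  have hnt : Nontrivial K := by
    have : 0 < finrank F K := by rw [hK.finrank_eq]; exact hk
    exact Module.nontrivial_of_finrank_pos (R := F) this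
  have hf : IsField K := by
    refine ⟨exists_pair_ne K, ?_, ?_⟩
    · intro x y
      exact Subtype.ext (hK.comm x.1 x.2 y.1 y.2)
    · intro a ha
      have ha' : (a : Matrix n n F) ≠ 0 := fun h => ha (Subtype.ext h)
      obtain ⟨y, hy, hay⟩ := hK.inv a.1 a.2 ha'
      exact ⟨⟨y, hy⟩, Subtype.ext hay⟩
  refine ⟨K, hf.toField, K.algebra, K.val, Subtype.val_injective, ?_, hK.finrank_eq⟩
  exact K.range_val

end model

section tracedual

variable {F E : Type*} [Field F] [Field E] [Algebra F E]

/-- `b ↦ (c ↦ l (b * c))` -/
noncomputable def dualT (l : E →ₗ[F] F) : E →ₗ[F] Module.Dual F E := (LinearMap.mul F E).compr₂ l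

theorem dualT_apply (l : E →ₗ[F] F) (b c : E) : dualT l b c = l (b * c) := rfl

theorem dualT_injective (l : E →ₗ[F] F) (hl : l ≠ 0) : Function.Injective (dualT l) := by
  rw [injective_iff_map_eq_zero]
  intro b hb
  by_contra hb0
  apply hl
  apply LinearMap.ext
  intro c
  have := congrArg (fun f : Module.Dual F E => f (b⁻¹ * c)) hb
  simp only [dualT_apply, LinearMap.zero_apply] at this
  rw [← mul_assoc, mul_inv_cancel₀ hb0, one_mul] at this
  rw [this, LinearMap.zero_apply]

variable [FiniteDimensional F E]

/-- the `F`-linear equivalence `E ≃ E*` attached to a nonzero functional -/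
noncomputable def dualEquiv (l : E →ₗ[F] F) (hl : l ≠ 0) : E ≃ₗ[F] Module.Dual F E :=
  LinearMap.linearEquivOfInjective (dualT l) (dualT_injective l hl) Subspace.dual_finrank_eq.symm

theorem dualEquiv_apply (l : E →ₗ[F] F) (hl : l ≠ 0) (b c : E) :
    dualEquiv l hl b c = l (b * c) := by
  unfold dualEquiv
  rw [LinearMap.linearEquivOfInjective_apply, dualT_apply]

/-- there is a nonzero functional -/
theorem exists_functional_ne_zero : ∃ l : E →ₗ[F] F, l ≠ 0 := by
  by_contra h
  push Not at h
  apply one_ne_zero (α := E)
  rw [← Module.forall_dual_apply_eq_zero_iff F (1 : E)]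
  intro φ
  rw [h φ, LinearMap.zero_apply]

end tracedual

end Cfsg.Agent.Lib.H23.SpF
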