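import Mathlib
import Cfsg.Agent.Lib.H23.SpFA

set_option autoImplicit false

/-!
# The `E`-bilinear symmetric form attached to an `F`-bilinear symmetric form with `E` self-adjoint
(helper23)
-/

namespace Cfsg.Agent.Lib.H23.OrF

open Module
open Cfsg.Agent.Lib.H23.SpF

section sastr

variable {F E : Type*} [Field F] [Field E] [Algebra F E]
  {V : Type*} [AddCommGroup V] [Module F V] [Module E V] [IsScalarTower F E V]

/-- the scalars of `E` are self-adjoint for `B` -/
def SaStr (E : Type*) [Field E] [Algebra F E] [Module E V] (B : LinearMap.BilinForm F V) : Prop :=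
  ∀ (c : E) (u v : V), B (c • u) v = B u (c • v)

/-- the functional `c ↦ B (c • u) v` on `E` -/
noncomputable def psiS (B : LinearMap.BilinForm F V) (u v : V) : Module.Dual F E where
  toFun c := B (c • u) v
  map_add' c c' := by rw [add_smul, map_add, LinearMap.add_apply]
  map_smul' a c := by
    rw [smul_assoc, map_smul, LinearMap.smul_apply, RingHom.id_apply]

theorem psiS_apply (B : LinearMap.BilinForm F V) (u v : V) (c : E) :
    psiS (E := E) B u v c = B (c • u) v := rfl

variable [FiniteDimensional F E]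

theorem dual_symm_specS (l : E →ₗ[F] F) (hl : l ≠ 0) (f : Module.Dual F E) (c : E) :
    l ((dualEquiv l hl).symm f * c) = f c := by
  rw [← dualEquiv_apply l hl, LinearEquiv.apply_symm_apply]

/-- the `E`-bilinear form with `B (c • u) v = l (BS u v * c)` -/
noncomputable def BS (B : LinearMap.BilinForm F V) (h : SaStr E B) (l : E →ₗ[F] F) (hl : l ≠ 0) :
    LinearMap.BilinForm E V :=
  LinearMap.mk₂ E (fun u v => (dualEquiv l hl).symm (psiS (E := E) B u v))
    (by
      intro u u' v
      rw [← map_add]
      congr 1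
      apply LinearMap.ext
      intro c
      simp only [psiS_apply, LinearMap.add_apply, smul_add, map_add])
    (by
      intro a u v
      apply (dualEquiv l hl).injective
      apply LinearMap.ext
      intro c
      rw [LinearEquiv.apply_symm_apply, dualEquiv_apply, psiS_apply, smul_eq_mul,
        mul_comm a, mul_assoc, dual_symm_specS, psiS_apply, smul_smul, mul_comm])
    (by
      intro u v v'
      rw [← map_add]
      congr 1
      apply LinearMap.ext
      intro c
      simp only [psiS_apply, LinearMap.add_apply, map_add])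
    (by
      intro a u v
      apply (dualEquiv l hl).injective
      apply LinearMap.ext
      intro c
      rw [LinearEquiv.apply_symm_apply, dualEquiv_apply, psiS_apply, smul_eq_mul,
        mul_comm a, mul_assoc, dual_symm_specS, psiS_apply, ← h, smul_smul])

theorem BS_spec (B : LinearMap.BilinForm F V) (h : SaStr E B) (l : E →ₗ[F] F) (hl : l ≠ 0)
    (u v : V) (c : E) : l (BS B h l hl u v * c) = B (c • u) v := by
  have : BS B h l hl u v = (dualEquiv l hl).symm (psiS (E := E) B u v) := rfl
  rw [this, dual_symm_specS, psiS_apply]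

theorem BS_spec' (B : LinearMap.BilinForm F V) (h : SaStr E B) (l : E →ₗ[F] F) (hl : l ≠ 0)
    (u v : V) : l (BS B h l hl u v) = B u v := by
  have := BS_spec B h l hl u v 1
  rwa [mul_one, one_smul] at this

theorem BS_symm (B : LinearMap.BilinForm F V) (h : SaStr E B) (l : E →ₗ[F] F) (hl : l ≠ 0)
    (hB : ∀ u v, B u v = B v u) (u v : V) : BS B h l hl u v = BS B h l hl v u := by
  apply (dualEquiv l hl).injective
  apply LinearMap.ext
  intro c
  rw [dualEquiv_apply, dualEquiv_apply, BS_spec, BS_spec, h, hB]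

theorem BS_nd (B : LinearMap.BilinForm F V) (h : SaStr E B) (l : E →ₗ[F] F) (hl : l ≠ 0)
    (hnd : ∀ v, (∀ w, B v w = 0) → v = 0) (v : V) (hv : ∀ w, BS B h l hl v w = 0) : v = 0 := by
  apply hnd
  intro w
  rw [← BS_spec' B h l hl, hv, map_zero]

/-- the `E`-quadratic form `v ↦ BS v v / 2` -/
noncomputable def QS (B : LinearMap.BilinForm F V) (h : SaStr E B) (l : E →ₗ[F] F) (hl : l ≠ 0) :
    QuadraticForm E V :=
  (2⁻¹ : E) • (BS B h l hl).toQuadraticMap

theorem QS_apply (B : LinearMap.BilinForm F V) (h : SaStr E B) (l : E →ₗ[F] F) (hl : l ≠ 0)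
    (v : V) : QS B h l hl v = 2⁻¹ * BS B h l hl v v := by
  show (2⁻¹ : E) • ((BS B h l hl).toQuadraticMap v) = _
  rw [LinearMap.BilinMap.toQuadraticMap_apply, smul_eq_mul]

theorem polar_QS (B : LinearMap.BilinForm F V) (h : SaStr E B) (l : E →ₗ[F] F) (hl : l ≠ 0)
    (h2 : (2 : E) ≠ 0) (hB : ∀ u v, B u v = B v u) (u v : V) :
    QuadraticMap.polar (QS B h l hl) u v = BS B h l hl u v := by
  unfold QuadraticMap.polar
  rw [QS_apply, QS_apply, QS_apply, map_add, map_add, LinearMap.add_apply, LinearMap.add_apply,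
    BS_symm B h l hl hB v u]
  field_simp
  ring

theorem QS_nondeg (B : LinearMap.BilinForm F V) (h : SaStr E B) (l : E →ₗ[F] F) (hl : l ≠ 0)
    (h2 : (2 : E) ≠ 0) (hB : ∀ u v, B u v = B v u)
    (hnd : ∀ v, (∀ w, B v w = 0) → v = 0) :
    (QuadraticMap.polarBilin (QS B h l hl)).Nondegenerate := by
  constructor
  · intro v hv
    apply BS_nd B h l hl hnd v
    intro w
    rw [← polar_QS B h l hl h2 hB]
    exact hv w
  · intro v hv
    apply BS_nd B h l hl hnd v
    intro w
    rw [BS_symm B h l hl hB, ← polar_QS B h l hl h2 hB]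
    exact hv w

/-- `l (QS v) = B v v / 2` -/
theorem l_QS (B : LinearMap.BilinForm F V) (h : SaStr E B) (l : E →ₗ[F] F) (hl : l ≠ 0)
    (v : V) : l (QS B h l hl v) = 2⁻¹ * B v v := by
  rw [QS_apply]
  have : (2⁻¹ : E) * BS B h l hl v v = (2⁻¹ : F) • BS B h l hl v v := by
    rw [Algebra.smul_def, map_inv₀, map_ofNat]
  rw [this, map_smul, BS_spec', smul_eq_mul]

end sastr

end Cfsg.Agent.Lib.H23.OrF
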