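import Mathlib
import Cfsg.Agent.Lib.H23.SpFA
import Cfsg.Agent.Lib.H13.SympBasis

set_option autoImplicit false

/-!
# The `E`-bilinear form attached to an `F`-bilinear form with `E` self-adjoint (helper23)
-/

namespace Cfsg.Agent.Lib.H23.SpF

open Module
open Cfsg.Agent.Lib.H13

section estr

variable {F E : Type*} [Field F] [Field E] [Algebra F E]
  {V : Type*} [AddCommGroup V] [Module F V] [Module E V] [IsScalarTower F E V]

/-- the scalars of `E` are self-adjoint for `B` and `B (c • v) v = 0` -/
structure EStr (E : Type*) [Field E] [Algebra F E] [Module E V] (B : LinearMap.BilinForm F V) :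
    Prop where
  sa : ∀ (c : E) (u v : V), B (c • u) v = B u (c • v)
  altE : ∀ (c : E) (v : V), B (c • v) v = 0

omit [IsScalarTower F E V] in
theorem EStr.alt {B : LinearMap.BilinForm F V} (h : EStr E B) (v : V) : B v v = 0 := by
  have := h.altE 1 v
  rwa [one_smul] at this

/-- the functional `c ↦ B (c • u) v` on `E` -/
noncomputable def psi (B : LinearMap.BilinForm F V) (u v : V) : Module.Dual F E where
  toFun c := B (c • u) v
  map_add' c c' := by rw [add_smul, map_add, LinearMap.add_apply]
  map_smul' a c := by
    rw [smul_assoc, map_smul, LinearMap.smul_apply, RingHom.id_apply]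

theorem psi_apply (B : LinearMap.BilinForm F V) (u v : V) (c : E) :
    psi (E := E) B u v c = B (c • u) v := rfl

variable [FiniteDimensional F E]

theorem dual_symm_spec (l : E →ₗ[F] F) (hl : l ≠ 0) (f : Module.Dual F E) (c : E) :
    l ((dualEquiv l hl).symm f * c) = f c := by
  rw [← dualEquiv_apply l hl, LinearEquiv.apply_symm_apply]

/-- the `E`-bilinear form with `B (c • u) v = l (BE u v * c)` -/
noncomputable def BE (B : LinearMap.BilinForm F V) (h : EStr E B) (l : E →ₗ[F] F) (hl : l ≠ 0) :
    LinearMap.BilinForm E V :=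
  LinearMap.mk₂ E (fun u v => (dualEquiv l hl).symm (psi (E := E) B u v))
    (by
      intro u u' v
      rw [← map_add]
      congr 1
      apply LinearMap.ext
      intro c
      simp only [psi_apply, LinearMap.add_apply, smul_add, map_add])
    (by
      intro a u v
      apply (dualEquiv l hl).injective
      apply LinearMap.ext
      intro c
      rw [LinearEquiv.apply_symm_apply, dualEquiv_apply, psi_apply, smul_eq_mul,
        mul_comm a, mul_assoc, dual_symm_spec, psi_apply, smul_smul, mul_comm])
    (by
      intro u v v'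
      rw [← map_add]
      congr 1
      apply LinearMap.ext
      intro c
      simp only [psi_apply, LinearMap.add_apply, map_add])
    (by
      intro a u v
      apply (dualEquiv l hl).injective
      apply LinearMap.ext
      intro c
      rw [LinearEquiv.apply_symm_apply, dualEquiv_apply, psi_apply, smul_eq_mul,
        mul_comm a, mul_assoc, dual_symm_spec, psi_apply, ← h.sa, smul_smul])

theorem BE_spec (B : LinearMap.BilinForm F V) (h : EStr E B) (l : E →ₗ[F] F) (hl : l ≠ 0)
    (u v : V) (c : E) : l (BE B h l hl u v * c) = B (c • u) v := by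
  have : BE B h l hl u v = (dualEquiv l hl).symm (psi (E := E) B u v) := rfl
  rw [this, dual_symm_spec, psi_apply]

theorem BE_spec' (B : LinearMap.BilinForm F V) (h : EStr E B) (l : E →ₗ[F] F) (hl : l ≠ 0)
    (u v : V) : l (BE B h l hl u v) = B u v := by
  have := BE_spec B h l hl u v 1
  rwa [mul_one, one_smul] at this

theorem BE_alt (B : LinearMap.BilinForm F V) (h : EStr E B) (l : E →ₗ[F] F) (hl : l ≠ 0)
    (v : V) : BE B h l hl v v = 0 := by
  apply (dualEquiv l hl).injective
  apply LinearMap.ext
  intro c
  rw [dualEquiv_apply, BE_spec, h.altE, map_zero, LinearMap.zero_apply]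

theorem BE_nd (B : LinearMap.BilinForm F V) (h : EStr E B) (l : E →ₗ[F] F) (hl : l ≠ 0)
    (hnd : ∀ v, (∀ w, B v w = 0) → v = 0) (v : V) (hv : ∀ w, BE B h l hl v w = 0) : v = 0 := by
  apply hnd
  intro w
  rw [← BE_spec' B h l hl, hv, map_zero]

end estr

end Cfsg.Agent.Lib.H23.SpF

namespace Cfsg.Agent.Lib.H23.SpF

open Module
open Cfsg.Agent.Lib.H13

section structure_thm

variable {F E : Type*} [Field F] [Field E] [Algebra F E] [FiniteDimensional F E]
  {V : Type*} [AddCommGroup V] [Module F V] [Module E V] [IsScalarTower F E V]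
  [FiniteDimensional F V]

/-- the structure theorem: `(V, B)` is the standard symplectic space over `E` followed by `l` -/
theorem exists_model_equiv (B : LinearMap.BilinForm F V) (h : EStr E B)
    (hnd : ∀ v, (∀ w, B v w = 0) → v = 0) (l : E →ₗ[F] F) (hl : l ≠ 0) :
    ∃ (m : ℕ) (φ : V ≃ₗ[E] (Fin m ⊕ Fin m → E)),
      ∀ u v, B u v = l (Cfsg.sympForm m E (φ u) (φ v)) := by
  classical
  haveI : FiniteDimensional E V := Module.Finite.right F E V
  obtain ⟨ι, hι, hdec, b₀, -⟩ := symp_aux (finrank E V) (BE B h l hl) (BE_alt B h l hl)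
    (BE_nd B h l hl hnd) rfl
  have hV : finrank E V = 2 * Fintype.card ι := by
    rw [Module.finrank_eq_card_basis b₀, Fintype.card_sum]
    ring
  obtain ⟨b, hb⟩ := exists_symp_basis (BE B h l hl) (BE_alt B h l hl) (BE_nd B h l hl hnd) hV
  refine ⟨Fintype.card ι, (b.reindex (Equiv.sumComm _ _)).equivFun, fun u v => ?_⟩
  rw [← sympForm_of_isSymp (BE B h l hl) (BE_alt B h l hl) b hb, BE_spec']

/-- the dimension of the model -/
theorem finrank_model (m : ℕ) :
    finrank F (Fin m ⊕ Fin m → E) = finrank F E * (2 * m) := by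
  rw [← Module.finrank_mul_finrank F E (Fin m ⊕ Fin m → E), Module.finrank_fintype_fun_eq_card,
    Fintype.card_sum, Fintype.card_fin]
  ring

end structure_thm

end Cfsg.Agent.Lib.H23.SpF
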