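import Mathlib
import Cfsg.Agent.Lib.H23.SpFB
import Cfsg.Agent.Lib.H13.SpInvolCount

set_option autoImplicit false

/-!
# Invariant nondegenerate subspaces; the module structure defined by an algebra map (helper23)
-/

namespace Cfsg.Agent.Lib.H23.SpF

open Module
open scoped Matrix
open Cfsg.Agent.Lib.H13

section sub

variable {F E : Type*} [Field F] [Field E] [Algebra F E] [FiniteDimensional F E]
  {V : Type*} [AddCommGroup V] [Module F V] [Module E V] [IsScalarTower F E V]
  [FiniteDimensional F V]

/-- a nondegenerate `E`-subspace has `F`-dimension divisible by `2 [E : F]` -/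
theorem two_mul_dvd_finrank (B : LinearMap.BilinForm F V) (h : EStr E B) (U : Submodule E V)
    (hU : ∀ u ∈ U, (∀ v ∈ U, B u v = 0) → u = 0) :
    finrank F E * 2 ∣ finrank F U := by
  obtain ⟨l, hl⟩ := exists_functional_ne_zero (F := F) (E := E)
  set BU : LinearMap.BilinForm F U :=
    B.compl₁₂ (U.subtype.restrictScalars F) (U.subtype.restrictScalars F) with hBU
  have hBUa : ∀ u v : U, BU u v = B (u : V) (v : V) := fun u v => rfl
  have hE : EStr E BU := by
    constructor
    · intro c u v
      rw [hBUa, hBUa, Submodule.coe_smul, Submodule.coe_smul, h.sa]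
    · intro c v
      rw [hBUa, Submodule.coe_smul, h.altE]
  have hfin : FiniteDimensional F U :=
    Module.Finite.of_injective (U.subtype.restrictScalars F) Subtype.val_injective
  obtain ⟨m, φ, -⟩ := exists_model_equiv BU hE (by
    intro v hv
    apply Subtype.ext
    apply hU v.1 v.2
    intro w hw
    exact hv ⟨w, hw⟩) l hl
  rw [(φ.restrictScalars F).finrank_eq, finrank_model]
  exact ⟨m, by ring⟩

/-- an `E`-subspace has `F`-dimension divisible by `[E : F]` -/
theorem dvd_finrank (U : Submodule E V) : finrank F E ∣ finrank F U := by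
  have hfin : FiniteDimensional F U :=
    Module.Finite.of_injective (U.subtype.restrictScalars F) Subtype.val_injective
  have : FiniteDimensional E U := Module.Finite.right F E U
  rw [← Module.finrank_mul_finrank F E U]
  exact Dvd.intro _ rfl

end sub

section modOf

variable {F E : Type*} [Field F] [Field E] [Algebra F E] {n : Type*} [Fintype n] [DecidableEq n]

/-- the `E`-module structure on `n → F` defined by `ι` -/
@[reducible] noncomputable def modOf (ι : E →ₐ[F] Matrix n n F) : Module E (n → F) :=
  Module.compHom (n → F)
    (((Matrix.toLinAlgEquiv' : Matrix n n F ≃ₐ[F] _).toAlgHom.comp ι).toRingHom)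

theorem modOf_smul (ι : E →ₐ[F] Matrix n n F) (c : E) (v : n → F) :
    letI := modOf ι
    c • v = ι c *ᵥ v := by
  letI := modOf ι
  show (Matrix.toLinAlgEquiv' (ι c)) v = _
  rw [Matrix.toLinAlgEquiv'_apply]

theorem modOf_tower (ι : E →ₐ[F] Matrix n n F) :
    letI := modOf ι
    IsScalarTower F E (n → F) := by
  letI := modOf ι
  constructor
  intro a c v
  rw [modOf_smul, modOf_smul, map_smul, Matrix.smul_mulVec]

end modOf

end Cfsg.Agent.Lib.H23.SpF
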