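import Mathlib
import Cfsg.Agent.Lib.H23.OrFA
import Cfsg.Agent.Lib.H23.OrFB
import Cfsg.Agent.Lib.H23.SpFC
import Cfsg.Agent.Lib.H13.Singer
import Cfsg.Agent.Lib.H11.IsoReindex

set_option autoImplicit false
set_option linter.style.haveILetI false

/-!
# Self-adjoint square roots of a non-square for a quadratic form: the `F[ω]`-structure, models
(helper23)
-/

namespace Cfsg.Agent.Lib.H23.OrF

open Module Matrix QuadraticAlgebra
open Cfsg.Agent.Lib.H23.SpU Cfsg.Agent.Lib.H23.SpF Cfsg.Agent.Lib.H13.Singer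

section reL

variable {F : Type*} [Field F] (δ : F)

/-- the functional `z ↦ z.re` -/
noncomputable def reL : EE F δ →ₗ[F] F where
  toFun z := z.re
  map_add' := by intro x y; simp
  map_smul' := by intro a x; simp

theorem reL_apply (z : EE F δ) : reL δ z = z.re := rfl

theorem reL_ne_zero : reL δ ≠ 0 := by
  intro h
  have := congrArg (fun f : EE F δ →ₗ[F] F => f 1) h
  simp [reL] at this

end reL

section sroot

variable {F : Type*} [Field F] {n : Type} [Fintype n] [DecidableEq n]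

/-- `α` is a square root of `δ`, self-adjoint for the polar form of `Q` -/
structure SRoot (Q : QuadraticForm F (n → F)) (α : Matrix n n F) (δ : F) : Prop where
  sq : α * α = δ • 1
  sa : ∀ u v, QuadraticMap.polar Q (α *ᵥ u) v = QuadraticMap.polar Q u (α *ᵥ v)

variable {Q : QuadraticForm F (n → F)} {α : Matrix n n F} {δ : F}

theorem SRoot.sastr [Fact (∀ r : F, r ^ 2 ≠ δ + 0 * r)] (h : SRoot Q α δ) :
    letI := modOf (liftG α δ h.sq)
    SaStr (EE F δ) (QuadraticMap.polarBilin Q) := by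
  letI := modOf (liftG α δ h.sq)
  intro c u v
  rw [modOf_smul, modOf_smul, liftG_apply, Matrix.add_mulVec, Matrix.add_mulVec,
    Matrix.smul_mulVec, Matrix.smul_mulVec, Matrix.smul_mulVec, Matrix.smul_mulVec,
    Matrix.one_mulVec, Matrix.one_mulVec, map_add, map_add, LinearMap.add_apply, map_smul,
    map_smul, map_smul, map_smul, LinearMap.smul_apply, LinearMap.smul_apply,
    QuadraticMap.polarBilin_apply_apply, QuadraticMap.polarBilin_apply_apply,
    QuadraticMap.polarBilin_apply_apply, h.sa]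

theorem omega_smul [Fact (∀ r : F, r ^ 2 ≠ δ + 0 * r)] (h : SRoot Q α δ) (v : n → F) :
    letI := modOf (liftG α δ h.sq)
    (ω : EE F δ) • v = α *ᵥ v := by
  letI := modOf (liftG α δ h.sq)
  rw [modOf_smul, liftG_omega]

/-- the `E`-quadratic form over `Q` -/
theorem SRoot.exists_QE [Fact (∀ r : F, r ^ 2 ≠ δ + 0 * r)] (h : SRoot Q α δ) (h2 : (2 : F) ≠ 0)
    (hnd : (QuadraticMap.polarBilin Q).Nondegenerate) :
    letI := modOf (liftG α δ h.sq)
    ∃ QE : QuadraticForm (EE F δ) (n → F), (QuadraticMap.polarBilin QE).Nondegenerate ∧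
      ∀ v, (QE v).re = Q v := by
  letI := modOf (liftG α δ h.sq)
  haveI := modOf_tower (liftG α δ h.sq)
  have h2E : (2 : EE F δ) ≠ 0 := by
    intro h0
    apply h2
    have := congrArg QuadraticAlgebra.re h0
    simpa using this
  have hsymm : ∀ u v, QuadraticMap.polarBilin Q u v = QuadraticMap.polarBilin Q v u := by
    intro u v
    rw [QuadraticMap.polarBilin_apply_apply, QuadraticMap.polarBilin_apply_apply,
      QuadraticMap.polar_comm]
  refine ⟨QS (QuadraticMap.polarBilin Q) h.sastr (reL δ) (reL_ne_zero δ),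
    QS_nondeg _ h.sastr (reL δ) (reL_ne_zero δ) h2E hsymm hnd.1, ?_⟩
  intro v
  rw [← reL_apply, l_QS, QuadraticMap.polarBilin_apply_apply, QuadraticMap.polar_self,
    two_smul, ← two_mul, ← mul_assoc, inv_mul_cancel₀ h2, one_mul]

theorem finrank_EE [Fact (∀ r : F, r ^ 2 ≠ δ + 0 * r)] : finrank F (EE F δ) = 2 :=
  QuadraticAlgebra.finrank_eq_two δ 0

/-- the `E`-dimension -/
theorem SRoot.finrank_eq [Fact (∀ r : F, r ^ 2 ≠ δ + 0 * r)] (h : SRoot Q α δ) :
    letI := modOf (liftG α δ h.sq)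
    2 * finrank (EE F δ) (n → F) = Fintype.card n := by
  letI := modOf (liftG α δ h.sq)
  haveI := modOf_tower (liftG α δ h.sq)
  rw [← finrank_EE (F := F) (δ := δ), Module.finrank_mul_finrank F (EE F δ) (n → F),
    Module.finrank_fintype_fun_eq_card]

end sroot

section model

variable {F : Type*} [Field F] {n : Type} [Fintype n] [DecidableEq n]
  {κ : Type} [Fintype κ] [DecidableEq κ]

/-- a model of `(Q, α)` on `κ → E` with `E`-valued form `S` -/
structure Model (Q : QuadraticForm F (n → F)) (α : Matrix n n F) (δ : F)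
    (S : (κ → EE F δ) → EE F δ) (φ : (n → F) ≃ₗ[F] (κ → EE F δ)) : Prop where
  semi : ∀ v, φ (α *ᵥ v) = (ω : EE F δ) • φ v
  form : ∀ v, Q v = (S (φ v)).re

variable {Q : QuadraticForm F (n → F)} {δ : F}

omit [Fintype κ] [DecidableEq κ] in
/-- an `E`-linear isometry onto a standard form gives a model -/
theorem SRoot.model_of_equiv {α : Matrix n n F} [Fact (∀ r : F, r ^ 2 ≠ δ + 0 * r)]
    (h : SRoot Q α δ) (S : (κ → EE F δ) → EE F δ)
    (hmod : letI := modOf (liftG α δ h.sq)
      ∃ (QE : QuadraticForm (EE F δ) (n → F)) (Φ : (n → F) ≃ₗ[EE F δ] (κ → EE F δ)),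
        (∀ v, (QE v).re = Q v) ∧ ∀ v, QE v = S (Φ v)) :
    ∃ φ : (n → F) ≃ₗ[F] (κ → EE F δ), Model Q α δ S φ := by
  letI := modOf (liftG α δ h.sq)
  haveI := modOf_tower (liftG α δ h.sq)
  obtain ⟨QE, Φ, hQE, hΦ⟩ := hmod
  refine ⟨Φ.restrictScalars F, ?_, ?_⟩
  · intro v
    rw [← omega_smul h]
    exact map_smul Φ ω v
  · intro v
    rw [← hQE, hΦ]
    rfl

omit [DecidableEq n] [Fintype κ] [DecidableEq κ] in
theorem Model.semi_symm {α : Matrix n n F} {S : (κ → EE F δ) → EE F δ}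
    {φ : (n → F) ≃ₗ[F] (κ → EE F δ)} (h : Model Q α δ S φ) (w : κ → EE F δ) :
    φ.symm ((ω : EE F δ) • w) = α *ᵥ φ.symm w := by
  apply φ.injective
  rw [LinearEquiv.apply_symm_apply, h.semi, LinearEquiv.apply_symm_apply]

omit [Fintype κ] [DecidableEq κ] in
/-- two models with the same target are conjugate under the isometry group -/
theorem Model.conj {α₁ α₂ : Matrix n n F} {S : (κ → EE F δ) → EE F δ}
    {φ₁ φ₂ : (n → F) ≃ₗ[F] (κ → EE F δ)} (h₁ : Model Q α₁ δ S φ₁) (h₂ : Model Q α₂ δ S φ₂) :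
    ∃ g : GL n F, g ∈ Cfsg.isometryGroup F ⇑Q ∧ (g : Matrix n n F) * α₁ = α₂ * g := by
  refine ⟨glOf (φ₁.trans φ₂.symm), ?_, ?_⟩
  · rw [Cfsg.Agent.Lib.H11.IsoReindex.mem_iso_iff']
    intro v
    rw [glOf_mulVec, h₂.form, LinearEquiv.trans_apply, LinearEquiv.apply_symm_apply, ← h₁.form]
  · apply Matrix.toLin'.injective
    apply LinearMap.ext
    intro u
    rw [Matrix.toLin'_apply, Matrix.toLin'_apply, ← Matrix.mulVec_mulVec, ← Matrix.mulVec_mulVec,
      glOf_mulVec, glOf_mulVec, LinearEquiv.trans_apply, LinearEquiv.trans_apply, h₁.semi,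
      h₂.semi_symm]

end model

end Cfsg.Agent.Lib.H23.OrF
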