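import Mathlib
import Cfsg.Agent.Lib.H23.SpFC
import Cfsg.Agent.Lib.H23.SpUD

set_option autoImplicit false

/-!
# Self-adjoint field structures on the standard symplectic space: structure and uniqueness
(helper23)
-/

namespace Cfsg.Agent.Lib.H23.SpF

open Module
open scoped Matrix
open Cfsg.Agent.Lib.H13 Cfsg.Agent.Lib.H13.SpInvolCount Cfsg.Agent.Lib.H13.Singer
open Cfsg.Agent.Lib.H23.SpU

section istr

variable {F E : Type*} [Field F] [Field E] [Algebra F E] {d : ℕ}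

/-- `ι` makes the scalars of `E` self-adjoint for the standard symplectic form, with
`f (c v, v) = 0` -/
structure IStr (ι : E →ₐ[F] Matrix (Fin d ⊕ Fin d) (Fin d ⊕ Fin d) F) : Prop where
  sa : ∀ (c : E) (u v : Fin d ⊕ Fin d → F),
    Cfsg.sympForm d F (ι c *ᵥ u) v = Cfsg.sympForm d F u (ι c *ᵥ v)
  alt : ∀ (c : E) (v : Fin d ⊕ Fin d → F), Cfsg.sympForm d F (ι c *ᵥ v) v = 0

theorem IStr.estr {ι : E →ₐ[F] Matrix (Fin d ⊕ Fin d) (Fin d ⊕ Fin d) F} (h : IStr ι) :
    letI := modOf ι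
    EStr E (sympB (F := F) d) := by
  letI := modOf ι
  constructor
  · intro c u v
    rw [modOf_smul, modOf_smul, sympB_apply, sympB_apply, h.sa]
  · intro c v
    rw [modOf_smul, sympB_apply, h.alt]

variable [FiniteDimensional F E]

/-- the structure theorem in matrix form -/
theorem IStr.exists_model {ι : E →ₐ[F] Matrix (Fin d ⊕ Fin d) (Fin d ⊕ Fin d) F} (h : IStr ι)
    (l : E →ₗ[F] F) (hl : l ≠ 0) :
    ∃ (m : ℕ) (φ : (Fin d ⊕ Fin d → F) ≃ₗ[F] (Fin m ⊕ Fin m → E)),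
      (∀ (c : E) (v : Fin d ⊕ Fin d → F), φ (ι c *ᵥ v) = c • φ v) ∧
      (∀ u v, Cfsg.sympForm d F u v = l (Cfsg.sympForm m E (φ u) (φ v))) ∧
      d = finrank F E * m := by
  letI := modOf ι
  haveI := modOf_tower ι
  obtain ⟨m, φ, hφ⟩ := exists_model_equiv (sympB (F := F) d) h.estr (sympB_nondeg d).1 l hl
  refine ⟨m, φ.restrictScalars F, ?_, ?_, ?_⟩
  · intro c v
    rw [← modOf_smul]
    exact map_smul φ c v
  · intro u v
    rw [← sympB_apply]
    exact hφ u v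
  · have h1 := (φ.restrictScalars F).finrank_eq
    rw [finrank_II, finrank_model (F := F) (E := E) m] at h1
    have : 2 * d = 2 * (finrank F E * m) := by rw [h1]; ring
    omega

/-- two self-adjoint structures of the same field are conjugate under `Sp` -/
theorem IStr.exists_conj {ι₁ ι₂ : E →ₐ[F] Matrix (Fin d ⊕ Fin d) (Fin d ⊕ Fin d) F}
    (h₁ : IStr ι₁) (h₂ : IStr ι₂) :
    ∃ g : GL (Fin d ⊕ Fin d) F, g ∈ Cfsg.spGL d F ∧
      ∀ c : E, (g : Matrix (Fin d ⊕ Fin d) (Fin d ⊕ Fin d) F) * ι₁ c = ι₂ c * g := by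
  obtain ⟨l, hl⟩ := exists_functional_ne_zero (F := F) (E := E)
  obtain ⟨m₁, φ₁, hc₁, hf₁, hd₁⟩ := h₁.exists_model l hl
  obtain ⟨m₂, φ₂, hc₂, hf₂, hd₂⟩ := h₂.exists_model l hl
  have hk : 0 < finrank F E := Module.finrank_pos
  have hm : m₁ = m₂ := by
    have : finrank F E * m₁ = finrank F E * m₂ := by rw [← hd₁, ← hd₂]
    exact Nat.eq_of_mul_eq_mul_left hk this
  subst hm
  refine ⟨glOf (φ₁.trans φ₂.symm), ?_, ?_⟩
  · rw [mem_spGL_iff]
    intro u v
    rw [glOf_mulVec, glOf_mulVec, hf₂, LinearEquiv.trans_apply, LinearEquiv.trans_apply,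
      LinearEquiv.apply_symm_apply, LinearEquiv.apply_symm_apply, ← hf₁]
  · intro c
    apply Matrix.toLin'.injective
    apply LinearMap.ext
    intro u
    rw [Matrix.toLin'_apply, Matrix.toLin'_apply, ← Matrix.mulVec_mulVec, ← Matrix.mulVec_mulVec,
      glOf_mulVec, glOf_mulVec, LinearEquiv.trans_apply, LinearEquiv.trans_apply, hc₁]
    apply φ₂.injective
    rw [LinearEquiv.apply_symm_apply, hc₂, LinearEquiv.apply_symm_apply]

end istr

end Cfsg.Agent.Lib.H23.SpF
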