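import Mathlib
import Cfsg.Agent.Lib.H23.SpFD
import Cfsg.Agent.Lib.H13.SpQuadIndex

set_option autoImplicit false
set_option linter.style.haveILetI false

/-!
# `Sp_{2m}(E)` embeds into the normalizer of `K` in `Sp_{2d}(F)` (helper23)
-/

namespace Cfsg.Agent.Lib.H23.SpF

open Module
open scoped Matrix
open Cfsg.Agent.Lib.H13 Cfsg.Agent.Lib.H13.SpInvolCount Cfsg.Agent.Lib.H13.Singer
open Cfsg.Agent.Lib.H23.SpU

section normalizer

variable {F : Type*} [Field F] {n : Type} [Fintype n] [DecidableEq n]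

theorem gl_mul_inv' (g : GL n F) :
    (g : Matrix n n F) * ((g⁻¹ : GL n F) : Matrix n n F) = 1 := by
  rw [← Units.val_mul, mul_inv_cancel, Units.val_one]

theorem gl_inv_mul' (g : GL n F) :
    ((g⁻¹ : GL n F) : Matrix n n F) * (g : Matrix n n F) = 1 := by
  rw [← Units.val_mul, inv_mul_cancel, Units.val_one]

theorem gl_inv_mul_cancel' (g : GL n F) (X : Matrix n n F) :
    ((g⁻¹ : GL n F) : Matrix n n F) * ((g : Matrix n n F) * X) = X := by
  rw [← Matrix.mul_assoc, gl_inv_mul', Matrix.one_mul]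

theorem gl_mul_inv_cancel' (g : GL n F) (X : Matrix n n F) :
    (g : Matrix n n F) * (((g⁻¹ : GL n F) : Matrix n n F) * X) = X := by
  rw [← Matrix.mul_assoc, gl_mul_inv', Matrix.one_mul]

/-- an invertible matrix commuting with `K` normalizes it -/
theorem mem_normalizer_of_commute (K : Subalgebra F (Matrix n n F)) (g : GL n F)
    (h : ∀ k ∈ K, (g : Matrix n n F) * k = k * g) : g ∈ Cfsg.Geo.subalgebraNormalizer K := by
  have key : ∀ k ∈ K, (g : Matrix n n F) * k * ((g⁻¹ : GL n F) : Matrix n n F) = k := by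
    intro k hk
    rw [h k hk, Matrix.mul_assoc, gl_mul_inv', Matrix.mul_one]
  intro k
  constructor
  · intro hk
    rw [key k hk]
    exact hk
  · intro hk
    have h1 := key _ hk
    have h2 : k = (g : Matrix n n F) * k * ((g⁻¹ : GL n F) : Matrix n n F) := by
      calc k = ((g⁻¹ : GL n F) : Matrix n n F) * ((g : Matrix n n F) * k *
            ((g⁻¹ : GL n F) : Matrix n n F)) * (g : Matrix n n F) := by
            simp only [Matrix.mul_assoc, gl_inv_mul', Matrix.mul_one, gl_inv_mul_cancel']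
        _ = ((g⁻¹ : GL n F) : Matrix n n F) * ((g : Matrix n n F) * ((g : Matrix n n F) * k *
            ((g⁻¹ : GL n F) : Matrix n n F)) * ((g⁻¹ : GL n F) : Matrix n n F)) *
              (g : Matrix n n F) := by rw [h1]
        _ = (g : Matrix n n F) * k * ((g⁻¹ : GL n F) : Matrix n n F) := by
            simp only [Matrix.mul_assoc, gl_inv_mul', Matrix.mul_one, gl_inv_mul_cancel']
    rw [h2]
    exact hk

end normalizer

section embed

variable {F E : Type*} [Field F] [Field E] [Algebra F E] {d m : ℕ}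

/-- transport of `Sp_{2m}(E)` along `φ`, as matrices over `F` -/
noncomputable def rhoE (φ : (Fin d ⊕ Fin d → F) ≃ₗ[F] (Fin m ⊕ Fin m → E)) :
    ↥(Cfsg.spGL m E) →* Matrix (Fin d ⊕ Fin d) (Fin d ⊕ Fin d) F where
  toFun g := LinearMap.toMatrix' ((φ.symm : (Fin m ⊕ Fin m → E) →ₗ[F] (Fin d ⊕ Fin d → F)) ∘ₗ
    (Matrix.toLin' ((g : GL (Fin m ⊕ Fin m) E) : Matrix (Fin m ⊕ Fin m) (Fin m ⊕ Fin m) E)).restrictScalars F ∘ₗ
    (φ : (Fin d ⊕ Fin d → F) →ₗ[F] (Fin m ⊕ Fin m → E)))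
  map_one' := by
    apply Matrix.toLin'.injective
    apply LinearMap.ext
    intro v
    simp
  map_mul' g h := by
    rw [← LinearMap.toMatrix'_comp]
    congr 1
    apply LinearMap.ext
    intro v
    simp [Matrix.toLin'_mul]

theorem rhoE_mulVec (φ : (Fin d ⊕ Fin d → F) ≃ₗ[F] (Fin m ⊕ Fin m → E)) (g : ↥(Cfsg.spGL m E))
    (v : Fin d ⊕ Fin d → F) :
    rhoE φ g *ᵥ v = φ.symm (((g : GL (Fin m ⊕ Fin m) E) :
      Matrix (Fin m ⊕ Fin m) (Fin m ⊕ Fin m) E) *ᵥ φ v) := by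
  show LinearMap.toMatrix' _ *ᵥ v = _
  rw [LinearMap.toMatrix'_mulVec]
  rfl

theorem rhoE_injective (φ : (Fin d ⊕ Fin d → F) ≃ₗ[F] (Fin m ⊕ Fin m → E)) :
    Function.Injective (rhoE φ) := by
  intro g h hgh
  apply Subtype.ext
  apply Units.ext
  apply Matrix.toLin'.injective
  apply LinearMap.ext
  intro w
  have := congrArg (fun M : Matrix (Fin d ⊕ Fin d) (Fin d ⊕ Fin d) F => M *ᵥ (φ.symm w)) hgh
  simp only [rhoE_mulVec, LinearEquiv.apply_symm_apply] at this
  rw [Matrix.toLin'_apply, Matrix.toLin'_apply]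
  exact φ.symm.injective this

variable [FiniteDimensional F E]

/-- the order of `Sp_{2m}(E)` divides the order of the normalizer of `K = ι(E)` in `Sp_{2d}(F)` -/
theorem IStr.card_dvd {ι : E →ₐ[F] Matrix (Fin d ⊕ Fin d) (Fin d ⊕ Fin d) F} (h : IStr ι)
    (K : Subalgebra F (Matrix (Fin d ⊕ Fin d) (Fin d ⊕ Fin d) F)) (hK : ι.range = K) :
    ∃ m : ℕ, d = finrank F E * m ∧ Nat.card ↥(Cfsg.spGL m E) ∣
      Nat.card ↥(Cfsg.Geo.subalgebraNormalizer K ⊓ Cfsg.spGL d F) := by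
  obtain ⟨l, hl⟩ := exists_functional_ne_zero (F := F) (E := E)
  obtain ⟨m, φ, hc, hf, hd⟩ := h.exists_model l hl
  refine ⟨m, hd, ?_⟩
  set Φ : ↥(Cfsg.spGL m E) →* GL (Fin d ⊕ Fin d) F := (rhoE φ).toHomUnits with hΦ
  have hΦval : ∀ g, ((Φ g : GL (Fin d ⊕ Fin d) F) : Matrix (Fin d ⊕ Fin d) (Fin d ⊕ Fin d) F) =
      rhoE φ g := fun g => rfl
  have hmem : ∀ g, Φ g ∈ Cfsg.Geo.subalgebraNormalizer K ⊓ Cfsg.spGL d F := by
    intro g
    rw [Subgroup.mem_inf]
    constructor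
    · apply mem_normalizer_of_commute
      intro k hk
      rw [← hK] at hk
      obtain ⟨c, rfl⟩ := hk
      rw [hΦval]
      apply Matrix.toLin'.injective
      apply LinearMap.ext
      intro v
      rw [Matrix.toLin'_apply, Matrix.toLin'_apply, ← Matrix.mulVec_mulVec, ← Matrix.mulVec_mulVec,
        rhoE_mulVec, rhoE_mulVec]
      apply φ.injective
      rw [LinearEquiv.apply_symm_apply]
      show _ = φ (ι c *ᵥ _)
      rw [hc, LinearEquiv.apply_symm_apply]
      show _ *ᵥ φ (ι c *ᵥ v) = _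
      rw [hc, Matrix.mulVec_smul]
    · rw [mem_spGL_iff, hΦval]
      intro u v
      rw [rhoE_mulVec, rhoE_mulVec, hf, LinearEquiv.apply_symm_apply, LinearEquiv.apply_symm_apply,
        hf]
      congr 1
      exact g.2 (φ u) (φ v)
  have hinj : Function.Injective (Φ.codRestrict
      (Cfsg.Geo.subalgebraNormalizer K ⊓ Cfsg.spGL d F) hmem) := by
    intro g g' hgg
    apply rhoE_injective φ
    have := congrArg (fun x : ↥(Cfsg.Geo.subalgebraNormalizer K ⊓ Cfsg.spGL d F) =>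
      ((x : GL (Fin d ⊕ Fin d) F) : Matrix (Fin d ⊕ Fin d) (Fin d ⊕ Fin d) F)) hgg
    exact this
  exact Subgroup.card_dvd_of_injective _ hinj

end embed

end Cfsg.Agent.Lib.H23.SpF
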