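import Mathlib
import Cfsg.Agent.Lib.H23.OrFC
import Cfsg.Agent.Lib.H23.SpFE
import Cfsg.Agent.Lib.H11.ConfOrth1

set_option autoImplicit false
set_option linter.style.haveILetI false

/-!
# The isometry group of the `E`-form inside the normalizer; index of the normalizer (helper23)
-/

namespace Cfsg.Agent.Lib.H23.OrF

open Module Matrix QuadraticAlgebra
open Cfsg.Agent.Lib.H23.SpU Cfsg.Agent.Lib.H23.SpF Cfsg.Agent.Lib.H13.Singer

section grp

variable {G : Type*} [Group G]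

/-- for `Ω ≤ O` normal of finite index, `|Ω : Ω ∩ N|` divides `|O : O ∩ N|` -/
theorem relIndex_dvd_of_normal_le (N Ω O : Subgroup G) (hle : Ω ≤ O)
    (hn : (Ω.subgroupOf O).Normal) (hfin : Ω.relIndex O ≠ 0) :
    N.relIndex Ω ∣ N.relIndex O := by
  have h1 : N.relIndex (Ω ⊓ O) * Ω.relIndex O = (N ⊓ Ω).relIndex O :=
    Subgroup.relIndex_inf_mul_relIndex N Ω O
  have h2 : Ω.relIndex (N ⊓ O) * N.relIndex O = (Ω ⊓ N).relIndex O :=
    Subgroup.relIndex_inf_mul_relIndex Ω N O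
  rw [inf_eq_left.mpr hle] at h1
  rw [inf_comm Ω N, ← h1] at h2
  have h3 : Ω.relIndex (N ⊓ O) ∣ Ω.relIndex O := by
    have h4 : (Ω.subgroupOf O).relIndex ((N ⊓ O).subgroupOf O) ∣ (Ω.subgroupOf O).index :=
      Subgroup.relIndex_dvd_index_of_normal _ _
    rwa [Subgroup.relIndex_subgroupOf inf_le_right] at h4
  obtain ⟨f, hf⟩ := h3
  refine ⟨f, ?_⟩
  have he : Ω.relIndex (N ⊓ O) ≠ 0 := by
    intro h0
    rw [h0, zero_mul] at hf
    exact hfin hf
  rw [hf] at h2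
  have : Ω.relIndex (N ⊓ O) * N.relIndex O = Ω.relIndex (N ⊓ O) * (N.relIndex Ω * f) := by
    rw [h2]; ring
  exact Nat.eq_of_mul_eq_mul_left (Nat.pos_of_ne_zero he) this

end grp

section embed

variable {F : Type*} [Field F] {n : Type} [Fintype n] [DecidableEq n]
  {κ : Type} [Fintype κ] [DecidableEq κ] {δ : F} [Fact (∀ r : F, r ^ 2 ≠ δ + 0 * r)]

/-- transport of the isometry group of `S` along `φ`, as matrices over `F` -/
noncomputable def rhoM (S : (κ → EE F δ) → EE F δ) (φ : (n → F) ≃ₗ[F] (κ → EE F δ)) :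
    ↥(Cfsg.isometryGroup (EE F δ) S) →* Matrix n n F where
  toFun g := LinearMap.toMatrix' ((φ.symm : (κ → EE F δ) →ₗ[F] (n → F)) ∘ₗ
    (Matrix.toLin' ((g : GL κ (EE F δ)) : Matrix κ κ (EE F δ))).restrictScalars F ∘ₗ
    (φ : (n → F) →ₗ[F] (κ → EE F δ)))
  map_one' := by
    apply Matrix.toLin'.injective
    apply LinearMap.ext
    intro v
    simp
  map_mul' g h := by
    rw [← LinearMap.toMatrix'_comp]
    congr 1
    apply LinearMap.ext
    intro v
    simp [Matrix.toLin'_mul]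

theorem rhoM_mulVec (S : (κ → EE F δ) → EE F δ) (φ : (n → F) ≃ₗ[F] (κ → EE F δ))
    (g : ↥(Cfsg.isometryGroup (EE F δ) S)) (v : n → F) :
    rhoM S φ g *ᵥ v = φ.symm (((g : GL κ (EE F δ)) : Matrix κ κ (EE F δ)) *ᵥ φ v) := by
  show LinearMap.toMatrix' _ *ᵥ v = _
  rw [LinearMap.toMatrix'_mulVec]
  rfl

theorem rhoM_injective (S : (κ → EE F δ) → EE F δ) (φ : (n → F) ≃ₗ[F] (κ → EE F δ)) :
    Function.Injective (rhoM S φ) := by
  intro g h hgh
  apply Subtype.ext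
  apply Units.ext
  apply Matrix.toLin'.injective
  apply LinearMap.ext
  intro w
  have := congrArg (fun M : Matrix n n F => M *ᵥ (φ.symm w)) hgh
  simp only [rhoM_mulVec, LinearEquiv.apply_symm_apply] at this
  rw [Matrix.toLin'_apply, Matrix.toLin'_apply]
  exact φ.symm.injective this

variable {Q : QuadraticForm F (n → F)} {α : Matrix n n F}

/-- the order of the isometry group of `S` divides the order of `N(K) ∩ O(Q)` -/
theorem Model.card_dvd {S : (κ → EE F δ) → EE F δ} {φ : (n → F) ≃ₗ[F] (κ → EE F δ)}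
    (h : Model Q α δ S φ) (K : Subalgebra F (Matrix n n F)) (hK : QData K α δ) :
    Nat.card ↥(Cfsg.isometryGroup (EE F δ) S) ∣
      Nat.card ↥(Cfsg.Geo.subalgebraNormalizer K ⊓ Cfsg.isometryGroup F ⇑Q) := by
  set Φ : ↥(Cfsg.isometryGroup (EE F δ) S) →* GL n F := (rhoM S φ).toHomUnits with hΦ
  have hΦval : ∀ g, ((Φ g : GL n F) : Matrix n n F) = rhoM S φ g := fun g => rfl
  have hmem : ∀ g, Φ g ∈ Cfsg.Geo.subalgebraNormalizer K ⊓ Cfsg.isometryGroup F ⇑Q := by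
    intro g
    rw [Subgroup.mem_inf]
    constructor
    · apply hK.mem_normalizer_of
      left
      rw [hΦval]
      apply Matrix.toLin'.injective
      apply LinearMap.ext
      intro v
      rw [Matrix.toLin'_apply, Matrix.toLin'_apply, ← Matrix.mulVec_mulVec, ← Matrix.mulVec_mulVec,
        rhoM_mulVec, rhoM_mulVec, h.semi, Matrix.mulVec_smul, h.semi_symm]
    · rw [Cfsg.Agent.Lib.H11.IsoReindex.mem_iso_iff', hΦval]
      intro v
      rw [rhoM_mulVec, h.form, LinearEquiv.apply_symm_apply, h.form]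
      congr 1
      exact (Cfsg.Agent.Lib.H11.IsoReindex.mem_iso_iff' S g.1).mp g.2 (φ v)
  have hinj : Function.Injective (Φ.codRestrict
      (Cfsg.Geo.subalgebraNormalizer K ⊓ Cfsg.isometryGroup F ⇑Q) hmem) := by
    intro g g' hgg
    apply rhoM_injective S φ
    have := congrArg (fun x : ↥(Cfsg.Geo.subalgebraNormalizer K ⊓ Cfsg.isometryGroup F ⇑Q) =>
      ((x : GL n F) : Matrix n n F)) hgg
    exact this
  exact Subgroup.card_dvd_of_injective _ hinj

/-- index formula -/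
theorem Model.relIndex_mul [Finite F] {S : (κ → EE F δ) → EE F δ}
    {φ : (n → F) ≃ₗ[F] (κ → EE F δ)}
    (h : Model Q α δ S φ) (K : Subalgebra F (Matrix n n F)) (hK : QData K α δ) :
    ∃ t : ℕ, (Cfsg.Geo.subalgebraNormalizer K).relIndex (Cfsg.Geo.omegaGL ⇑Q) * t *
      Nat.card ↥(Cfsg.isometryGroup (EE F δ) S) = Nat.card ↥(Cfsg.isometryGroup F ⇑Q) := by
  obtain ⟨t₁, ht₁⟩ := h.card_dvd K hK
  have hle : Cfsg.Geo.omegaGL ⇑Q ≤ Cfsg.isometryGroup F ⇑Q :=
    Cfsg.Agent.Lib.H11.ConfOrth.omegaGL_le_iso ⇑Q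
  have hn : ((Cfsg.Geo.omegaGL ⇑Q).subgroupOf (Cfsg.isometryGroup F ⇑Q)).Normal := by
    have : (Cfsg.Geo.omegaGL ⇑Q).subgroupOf (Cfsg.isometryGroup F ⇑Q) = Cfsg.Omega F ⇑Q := by
      unfold Cfsg.Geo.omegaGL
      rw [Subgroup.subgroupOf, Subgroup.comap_map_eq_self_of_injective
        (Subgroup.subtype_injective _)]
    rw [this]
    infer_instance
  have hfin : (Cfsg.Geo.omegaGL ⇑Q).relIndex (Cfsg.isometryGroup F ⇑Q) ≠ 0 := by
    unfold Subgroup.relIndex
    exact Subgroup.index_ne_zero_of_finite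
  obtain ⟨t₂, ht₂⟩ := relIndex_dvd_of_normal_le (Cfsg.Geo.subalgebraNormalizer K)
    (Cfsg.Geo.omegaGL ⇑Q) (Cfsg.isometryGroup F ⇑Q) hle hn hfin
  have hcard : (Cfsg.Geo.subalgebraNormalizer K).relIndex (Cfsg.isometryGroup F ⇑Q) *
      Nat.card ↥(Cfsg.Geo.subalgebraNormalizer K ⊓ Cfsg.isometryGroup F ⇑Q) =
      Nat.card ↥(Cfsg.isometryGroup F ⇑Q) := by
    rw [← Subgroup.inf_relIndex_right]
    have hle' : Cfsg.Geo.subalgebraNormalizer K ⊓ Cfsg.isometryGroup F ⇑Q ≤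
        Cfsg.isometryGroup F ⇑Q := inf_le_right
    rw [Subgroup.relIndex, ← Nat.card_congr (Subgroup.subgroupOfEquivOfLe hle').toEquiv]
    exact Subgroup.index_mul_card _
  refine ⟨t₂ * t₁, ?_⟩
  rw [← hcard, ht₂, ht₁]
  ring

end embed

end Cfsg.Agent.Lib.H23.OrF
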