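import Mathlib
import Cfsg.Agent.Lib.H23.OrFC
import Cfsg.Agent.Lib.H11.Disc
import Cfsg.Agent.Lib.H13.Disc
import Cfsg.Agent.Lib.H13.MinusClass
import Cfsg.Agent.Lib.H13.AutPO11
import Cfsg.Agent.Lib.H13.SOIndexTwo
import Cfsg.Agent.Lib.H12.OrdOP
import Cfsg.Agent.S0288

set_option autoImplicit false
set_option linter.style.haveILetI false

/-!
# Models of a self-adjoint quadratic field structure on a quadratic space of Witt defect one
(helper23)
-/

namespace Cfsg.Agent.Lib.H23.OrF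

open Module Matrix QuadraticAlgebra
open Cfsg.Agent.Lib.H23.SpU Cfsg.Agent.Lib.H23.SpF Cfsg.Agent.Lib.H13
open Cfsg.Agent.Lib.H13.MinusClass

section nots

variable {F : Type*} [Field F]

/-- the minus form has no totally singular subspace of half the dimension -/
theorem noTS_minus [Finite F] (h2 : (2 : F) ≠ 0) (k : ℕ) (a b : F)
    (hab : ∀ z₁ z₂ : F, z₁ ^ 2 + a * z₁ * z₂ + b * z₂ ^ 2 = 0 → z₁ = 0 ∧ z₂ = 0)
    (U : Submodule F (IM k → F)) (hU : finrank F U = k + 1) :
    ¬ ∀ u ∈ U, minusQF F k a b u = 0 := by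
  intro hts
  have hpol : ∀ u v : IM k → F, QuadraticMap.polarBilin (minusQF F k a b) u v =
      Matrix.toBilin' (gramMinus k F a b) u v := by
    intro u v
    rw [QuadraticMap.polarBilin_apply_apply, Cfsg.Agent.S0288.coe_minusQF, polar_quadFormMinus]
  have hBeq : QuadraticMap.polarBilin (minusQF F k a b) = Matrix.toBilin' (gramMinus k F a b) := by
    apply LinearMap.ext
    intro u
    apply LinearMap.ext
    intro v
    exact hpol u v
  have hV : finrank F (IM k → F) = 2 * (k + 1) := by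
    rw [Module.finrank_fintype_fun_eq_card, Fintype.card_sum, Fintype.card_sum, Fintype.card_fin,
      Fintype.card_fin]
    ring
  have hsq := Cfsg.Agent.Lib.H11.Disc.isSquare_of_isotropic
    (QuadraticMap.polarBilin (minusQF F k a b))
    (fun x y => by
      rw [QuadraticMap.polarBilin_apply_apply, QuadraticMap.polarBilin_apply_apply,
        QuadraticMap.polar_comm])
    (Pi.basisFun F (IM k)) (k + 1) U hU hV
    (fun x hx y hy => by
      rw [QuadraticMap.polarBilin_apply_apply]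
      unfold QuadraticMap.polar
      rw [hts _ (U.add_mem hx hy), hts x hx, hts y hy]
      ring)
  rw [LinearMap.BilinForm.toMatrix_basisFun, hBeq, LinearMap.BilinForm.toMatrix'_toBilin',
    det_gramMinus] at hsq
  apply disc_nonsquare h2 a b hab
  have : (-1 : F) ^ (k + 1) * ((-1) ^ k * (4 * b - a ^ 2)) = a ^ 2 - 4 * b := by
    rw [pow_succ, ← mul_assoc, mul_assoc ((-1 : F) ^ k), mul_comm (-1 : F), ← mul_assoc,
      ← mul_pow]
    norm_num
  rwa [this] at hsq

end nots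

section models

variable {F : Type*} [Field F] [Fintype F] {n : Type} [Fintype n] [DecidableEq n]
  {Q : QuadraticForm F (n → F)} {α : Matrix n n F} {δ : F} [Fact (∀ r : F, r ^ 2 ≠ δ + 0 * r)]

attribute [local instance] fintypeEE

theorem finrank_fun_EE (J : Type) [Fintype J] :
    finrank F (J → EE F δ) = 2 * Fintype.card J := by
  rw [← Module.finrank_mul_finrank F (EE F δ) (J → EE F δ), finrank_EE,
    Module.finrank_fintype_fun_eq_card]

/-- the even case: a model on the minus form over `E` -/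
theorem SRoot.model_even (h : SRoot Q α δ) (h2 : (2 : F) ≠ 0)
    (hnd : (QuadraticMap.polarBilin Q).Nondegenerate) (m : ℕ) (hm : 1 ≤ m)
    (hcard : Fintype.card n = 2 * (2 * m))
    (hnots : ∀ U : Submodule F (n → F), finrank F U = 2 * m → ¬ ∀ u ∈ U, Q u = 0)
    (a₀ c₀ : EE F δ)
    (hac : ∀ z₁ z₂ : EE F δ, z₁ ^ 2 + a₀ * z₁ * z₂ + c₀ * z₂ ^ 2 = 0 → z₁ = 0 ∧ z₂ = 0) :
    ∃ φ : (n → F) ≃ₗ[F] (IM (m - 1) → EE F δ),
      Model Q α δ (Cfsg.quadFormMinus (m - 1) (EE F δ) a₀ c₀) φ := by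
  letI := modOf (liftG α δ h.sq)
  haveI := modOf_tower (liftG α δ h.sq)
  obtain ⟨QE, hQEnd, hQE⟩ := h.exists_QE h2 hnd
  have hfr : finrank (EE F δ) (n → F) = 2 * m := by
    have := h.finrank_eq
    omega
  haveI : FiniteDimensional (EE F δ) (n → F) := Module.Finite.right F (EE F δ) (n → F)
  rcases classify QE hQEnd hm hfr with ⟨Φ, hΦ⟩ | ⟨ζ, hζ, Φ, hΦ⟩
  · -- plus type: a totally singular subspace of dimension `2 m`
    exfalso
    set j₀ : (Fin m → EE F δ) →ₗ[F] (Fin m ⊕ Fin m → EE F δ) :=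
      LinearMap.pi (fun s : Fin m ⊕ Fin m =>
        Sum.elim (fun i => (LinearMap.proj i : (Fin m → EE F δ) →ₗ[F] EE F δ)) (fun _ => 0) s)
      with hj₀
    have hj₀l : ∀ y i, j₀ y (Sum.inl i) = y i := fun y i => rfl
    have hj₀r : ∀ y i, j₀ y (Sum.inr i) = 0 := fun y i => rfl
    set jF : (Fin m → EE F δ) →ₗ[F] (n → F) :=
      ((Φ.symm.restrictScalars F : (Fin m ⊕ Fin m → EE F δ) ≃ₗ[F] (n → F)) :
        (Fin m ⊕ Fin m → EE F δ) →ₗ[F] (n → F)) ∘ₗ j₀ with hjF
    have hjFinj : Function.Injective jF := by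
      intro y y' hyy
      have h1 : j₀ y = j₀ y' := (Φ.symm.restrictScalars F).injective hyy
      funext i
      rw [← hj₀l y i, ← hj₀l y' i, h1]
    apply hnots (LinearMap.range jF)
    · rw [LinearMap.finrank_range_of_inj hjFinj, finrank_fun_EE, Fintype.card_fin]
    · rintro _ ⟨y, rfl⟩
      rw [← hQE, hΦ]
      have h1 : Φ (jF y) = j₀ y := by
        show Φ (Φ.symm (j₀ y)) = _
        rw [LinearEquiv.apply_symm_apply]
      rw [h1]
      unfold Cfsg.quadFormPlus
      simp [hj₀r]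
  · -- minus type
    obtain ⟨L, hL⟩ := AutPO.minus_iso (m := m - 1) (1 : EE F δ) ζ a₀ c₀ (AutPO.aniso_of_as ζ hζ) hac
    set Le : (IM (m - 1) → EE F δ) ≃ₗ[EE F δ] (IM (m - 1) → EE F δ) :=
      Matrix.toLin'OfInv (gmi L) (gim L) with hLe
    have hLe' : ∀ w, (L : Matrix _ _ (EE F δ)) *ᵥ (Le w) = w := by
      intro w
      show L.1 *ᵥ (Matrix.toLin' (L⁻¹).1 w) = w
      rw [Matrix.toLin'_apply, Matrix.mulVec_mulVec]
      have := gmi L
      rw [this, Matrix.one_mulVec]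
    apply h.model_of_equiv (Cfsg.quadFormMinus (m - 1) (EE F δ) a₀ c₀)
    refine ⟨QE, Φ.trans Le, hQE, ?_⟩
    intro v
    rw [hΦ, LinearEquiv.trans_apply, ← hL, hLe']

theorem quadFormOdd_smul {E : Type*} [Field E] (m : ℕ) (c : E) (w : Unit ⊕ (Fin m ⊕ Fin m) → E) :
    Cfsg.quadFormOdd m E (c • w) = c ^ 2 * Cfsg.quadFormOdd m E w := by
  unfold Cfsg.quadFormOdd
  simp only [Pi.smul_apply, smul_eq_mul]
  rw [mul_add, Finset.mul_sum]
  congr 1
  · ring
  · apply Finset.sum_congr rfl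
    intro i _
    ring

/-- the odd case: a model on a fixed multiple of the standard odd form over `E` -/
theorem SRoot.model_odd (h : SRoot Q α δ) (h2 : (2 : F) ≠ 0)
    (hnd : (QuadraticMap.polarBilin Q).Nondegenerate) (m : ℕ)
    (hcard : Fintype.card n = 2 * (2 * m + 1))
    (hnots : ∀ U : Submodule F (n → F), finrank F U = 2 * m + 1 → ¬ ∀ u ∈ U, Q u = 0)
    (ν : EE F δ) (hν : ¬ IsSquare ν) :
    ∃ φ : (n → F) ≃ₗ[F] (Unit ⊕ (Fin m ⊕ Fin m) → EE F δ),
      Model Q α δ (fun w => (ω * ν) * Cfsg.quadFormOdd m (EE F δ) w) φ := by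
  letI := modOf (liftG α δ h.sq)
  haveI := modOf_tower (liftG α δ h.sq)
  obtain ⟨QE, hQEnd, hQE⟩ := h.exists_QE h2 hnd
  have hfr : finrank (EE F δ) (n → F) = 2 * m + 1 := by
    have := h.finrank_eq
    omega
  haveI : FiniteDimensional (EE F δ) (n → F) := Module.Finite.right F (EE F δ) (n → F)
  obtain ⟨c, Φ, hc0, hΦ⟩ := Cfsg.Agent.Lib.H12.OrdO.exists_odd_similitude QE hQEnd m hfr
  have hω0 : (ω : EE F δ) ≠ 0 := by
    intro h0
    have := congrArg QuadraticAlgebra.im h0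
    simp at this
  have hν0 : ν ≠ 0 := by
    rintro rfl
    exact hν ⟨0, by simp⟩
  -- `c / ω` is not a square
  have hns : ¬ IsSquare (c * (ω : EE F δ)⁻¹) := by
    rintro ⟨e, he⟩
    have he0 : e ≠ 0 := by
      rintro rfl
      rw [mul_zero] at he
      rcases mul_eq_zero.mp he with h' | h'
      · exact hc0 h'
      · exact hω0 (inv_eq_zero.mp h')
    have hc : c = ω * (e * e) := by
      rw [← he, mul_comm c, ← mul_assoc, mul_inv_cancel₀ hω0, one_mul]
    set j₀ : (F × (Fin m → EE F δ)) →ₗ[F] (Unit ⊕ (Fin m ⊕ Fin m) → EE F δ) :=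
      LinearMap.pi (fun s : Unit ⊕ (Fin m ⊕ Fin m) =>
        match s with
        | Sum.inl _ => (LinearMap.toSpanSingleton F (EE F δ) e⁻¹).comp
            (LinearMap.fst F F (Fin m → EE F δ))
        | Sum.inr (Sum.inl i) => (LinearMap.proj i : (Fin m → EE F δ) →ₗ[F] EE F δ).comp
            (LinearMap.snd F F (Fin m → EE F δ))
        | Sum.inr (Sum.inr _) => 0) with hj₀
    have hj0 : ∀ z, j₀ z (Sum.inl ()) = z.1 • e⁻¹ := fun z => rfl
    have hjl : ∀ z i, j₀ z (Sum.inr (Sum.inl i)) = z.2 i := fun z i => rfl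
    have hjr : ∀ z i, j₀ z (Sum.inr (Sum.inr i)) = 0 := fun z i => rfl
    set jF : (F × (Fin m → EE F δ)) →ₗ[F] (n → F) :=
      ((Φ.symm.restrictScalars F : (Unit ⊕ (Fin m ⊕ Fin m) → EE F δ) ≃ₗ[F] (n → F)) :
        (Unit ⊕ (Fin m ⊕ Fin m) → EE F δ) →ₗ[F] (n → F)) ∘ₗ j₀ with hjF
    have hjFinj : Function.Injective jF := by
      intro z z' hzz
      have h1 : j₀ z = j₀ z' := (Φ.symm.restrictScalars F).injective hzz
      apply Prod.ext
      · have h3 := congrFun h1 (Sum.inl ())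
        rw [hj0, hj0] at h3
        have h4 : (z.1 - z'.1) • e⁻¹ = 0 := by rw [sub_smul, h3, sub_self]
        rcases smul_eq_zero.mp h4 with h' | h'
        · exact sub_eq_zero.mp h'
        · exact absurd h' (inv_ne_zero he0)
      · funext i
        rw [← hjl z i, ← hjl z' i, h1]
    apply hnots (LinearMap.range jF)
    · rw [LinearMap.finrank_range_of_inj hjFinj, Module.finrank_prod, Module.finrank_self,
        finrank_fun_EE, Fintype.card_fin]
      ring
    · rintro _ ⟨z, rfl⟩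
      rw [← hQE, hΦ]
      have h1 : Φ (jF z) = j₀ z := by
        show Φ (Φ.symm (j₀ z)) = _
        rw [LinearEquiv.apply_symm_apply]
      rw [h1]
      unfold Cfsg.quadFormOdd
      simp only [hj0, hjl, hjr, mul_zero, Finset.sum_const_zero, add_zero]
      have h3 : c * (z.1 • e⁻¹) ^ 2 = (z.1 ^ 2) • (ω : EE F δ) := by
        rw [hc, Algebra.smul_def, Algebra.smul_def, map_pow]
        field_simp
      rw [h3]
      simp
  -- normalise the constant
  have hcω0 : c * (ω : EE F δ)⁻¹ ≠ 0 := mul_ne_zero hc0 (inv_ne_zero hω0)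
  obtain ⟨μ, hμ⟩ := SOIndexTwo.isSquare_mul_of_not _ _ hcω0 hν0 hns hν
  have hμ0 : μ ≠ 0 := by
    rintro rfl
    rw [mul_zero] at hμ
    exact mul_ne_zero hcω0 hν0 hμ
  set μ' : EE F δ := μ * ν⁻¹ with hμ'
  have hμ'0 : μ' ≠ 0 := mul_ne_zero hμ0 (inv_ne_zero hν0)
  have hcμ : c = (ω * ν) * μ' ^ 2 := by
    have : c = ω * (c * (ω : EE F δ)⁻¹ * ν) * ν⁻¹ := by
      field_simp
    rw [this, hμ, hμ']
    field_simp
  apply h.model_of_equiv (fun w => (ω * ν) * Cfsg.quadFormOdd m (EE F δ) w)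
  refine ⟨QE, Φ.trans (LinearEquiv.smulOfNeZero (EE F δ) _ μ' hμ'0), hQE, ?_⟩
  intro v
  rw [hΦ, LinearEquiv.trans_apply, LinearEquiv.smulOfNeZero_apply, quadFormOdd_smul, hcμ]
  ring

end models

end Cfsg.Agent.Lib.H23.OrF
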