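import Mathlib

set_option autoImplicit false

/-!
# Arithmetic of the index of `O_d(q²)` in `O⁻_{2d}(q)` (helper23)
-/

namespace Cfsg.Agent.Lib.H23.OrF

/-- `∏_{i<N} (q^{2(i+1)} − 1)` -/
def PP (q N : ℕ) : ℕ := ∏ i ∈ Finset.range N, (q ^ (2 * (i + 1)) - 1)

/-- `∏_{k<m} (q^{2(2k+1)} − 1)` -/
def PO (q m : ℕ) : ℕ := ∏ k ∈ Finset.range m, (q ^ (2 * (2 * k + 1)) - 1)

theorem PP_succ (q N : ℕ) : PP q (N + 1) = PP q N * (q ^ (2 * (N + 1)) - 1) := by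
  unfold PP
  rw [Finset.prod_range_succ]

theorem PO_succ (q m : ℕ) : PO q (m + 1) = PO q m * (q ^ (2 * (2 * m + 1)) - 1) := by
  unfold PO
  rw [Finset.prod_range_succ]

theorem PP_two_mul (q m : ℕ) : PP q (2 * m) = PO q m * PP (q ^ 2) m := by
  induction m with
  | zero => simp [PP, PO]
  | succ m ih =>
    have : 2 * (m + 1) = 2 * m + 1 + 1 := by ring
    rw [this, PP_succ, PP_succ, ih, PO_succ, PP_succ]
    have e : (q ^ 2) ^ (2 * (m + 1)) = q ^ (2 * (2 * m + 1 + 1)) := by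
      rw [← pow_mul]
      congr 1
    rw [e]
    ring

theorem PP_two_mul_add_one (q m : ℕ) : PP q (2 * m + 1) = PO q (m + 1) * PP (q ^ 2) m := by
  rw [PP_succ, PP_two_mul, PO_succ]
  ring

/-- the order formula for even `d = 2 m` -/
theorem card_even (q m : ℕ) (hm : 1 ≤ m) :
    2 * q ^ (2 * m * (2 * m - 1)) * (q ^ (2 * m) + 1) * PP q (2 * m - 1) =
      (2 * (q ^ 2) ^ (m * (m - 1)) * ((q ^ 2) ^ m + 1) * PP (q ^ 2) (m - 1)) *
        (q ^ (2 * m ^ 2) * PO q m) := by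
  obtain ⟨k, rfl⟩ : ∃ k, m = k + 1 := ⟨m - 1, by omega⟩
  have h1 : 2 * (k + 1) - 1 = 2 * k + 1 := by omega
  have h3 : k + 1 - 1 = k := by omega
  rw [h1, h3, PP_two_mul_add_one, ← pow_mul, ← pow_mul]
  have e : q ^ (2 * (k + 1) * (2 * k + 1)) = q ^ (2 * ((k + 1) * k)) * q ^ (2 * (k + 1) ^ 2) := by
    rw [← pow_add]
    congr 1
    ring
  rw [e]
  ring

/-- the order formula for odd `d = 2 m + 1` -/
theorem card_odd (q m : ℕ) :
    2 * q ^ ((2 * m + 1) * (2 * m + 1 - 1)) * (q ^ (2 * m + 1) + 1) * PP q (2 * m + 1 - 1) =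
      (2 * (q ^ 2) ^ (m ^ 2) * PP (q ^ 2) m) *
        (q ^ (2 * m ^ 2 + 2 * m) * (q ^ (2 * m + 1) + 1) * PO q m) := by
  have h1 : 2 * m + 1 - 1 = 2 * m := by omega
  rw [h1, PP_two_mul, ← pow_mul]
  have e : q ^ ((2 * m + 1) * (2 * m)) = q ^ (2 * m ^ 2) * q ^ (2 * m ^ 2 + 2 * m) := by
    rw [← pow_add]
    congr 1
    ring
  rw [e]
  ring

theorem dvd_PO (q m r : ℕ) (hr : r.Prime) (h : r ∣ PO q m) :
    ∃ k < m, r ∣ q ^ (2 * (2 * k + 1)) - 1 := by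
  unfold PO at h
  rw [Prime.dvd_finsetProd_iff hr.prime] at h
  obtain ⟨k, hk, hdvd⟩ := h
  exact ⟨k, Finset.mem_range.mp hk, hdvd⟩

theorem dvd_cases_even (q m r : ℕ) (hr : r.Prime) (h : r ∣ q ^ (2 * m ^ 2) * PO q m) :
    r ∣ q ∨ ∃ k < m, r ∣ q ^ (2 * (2 * k + 1)) - 1 := by
  rcases (Nat.Prime.dvd_mul hr).mp h with h' | h'
  · left; exact hr.dvd_of_dvd_pow h'
  · right; exact dvd_PO q m r hr h'

theorem dvd_cases_odd (q m r : ℕ) (hr : r.Prime)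
    (h : r ∣ q ^ (2 * m ^ 2 + 2 * m) * (q ^ (2 * m + 1) + 1) * PO q m) :
    r ∣ q ∨ r ∣ q ^ (2 * m + 1) + 1 ∨ ∃ k < m, r ∣ q ^ (2 * (2 * k + 1)) - 1 := by
  rcases (Nat.Prime.dvd_mul hr).mp h with h' | h'
  · rcases (Nat.Prime.dvd_mul hr).mp h' with h'' | h''
    · left; exact hr.dvd_of_dvd_pow h''
    · right; left; exact h''
  · right; right; exact dvd_PO q m r hr h'

section ord

variable {r : ℕ} [Fact r.Prime]

/-- `r ∣ q^(2j) − 1`, `j` odd -/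
theorem ord_cases_sub (q j : ℕ) (hq : 1 ≤ q) (hj : Odd j) (h : r ∣ q ^ (2 * j) - 1) :
    (Odd (orderOf (q : ZMod r)) ∧ orderOf (q : ZMod r) ≤ j) ∨
      ∃ c, orderOf (q : ZMod r) = 2 * c ∧ Odd c ∧ c ≤ j := by
  have h1 : 1 ≤ q ^ (2 * j) := Nat.one_le_pow _ _ hq
  have hpow : (q : ZMod r) ^ (2 * j) = 1 := by
    rw [← ZMod.natCast_eq_zero_iff, Nat.cast_sub h1, Nat.cast_pow, Nat.cast_one, sub_eq_zero] at h
    exact h
  have hdvd : orderOf (q : ZMod r) ∣ 2 * j := orderOf_dvd_of_pow_eq_one hpow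
  have hj0 : 0 < j := hj.pos
  rcases Nat.even_or_odd (orderOf (q : ZMod r)) with he | ho
  · right
    obtain ⟨c, hc⟩ := he
    have hc2 : orderOf (q : ZMod r) = 2 * c := by rw [hc]; ring
    rw [hc2] at hdvd
    have hcj : c ∣ j := (Nat.mul_dvd_mul_iff_left two_pos).mp hdvd
    refine ⟨c, hc2, ?_, Nat.le_of_dvd hj0 hcj⟩
    obtain ⟨t, ht⟩ := hcj
    rw [ht] at hj
    exact (Nat.odd_mul.mp hj).1
  · left
    have hcop : Nat.Coprime (orderOf (q : ZMod r)) 2 := Nat.coprime_two_right.mpr ho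
    have hij : orderOf (q : ZMod r) ∣ j := hcop.dvd_of_dvd_mul_left hdvd
    exact ⟨ho, Nat.le_of_dvd hj0 hij⟩

/-- `r ∣ q^j + 1`, `j` odd, `r` odd -/
theorem ord_cases_add (hr2 : r ≠ 2) (q j : ℕ) (hq : 1 ≤ q) (hj : Odd j) (h : r ∣ q ^ j + 1) :
    ∃ c, orderOf (q : ZMod r) = 2 * c ∧ Odd c ∧ c ≤ j := by
  have hr : r.Prime := Fact.out
  have hneg : (q : ZMod r) ^ j = -1 := by
    rw [← ZMod.natCast_eq_zero_iff, Nat.cast_add, Nat.cast_pow, Nat.cast_one] at h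
    exact eq_neg_of_add_eq_zero_left h
  have hne : (-1 : ZMod r) ≠ 1 := by
    intro h1
    have h2 : (2 : ZMod r) = 0 := by linear_combination -h1
    have h3 : ((2 : ℕ) : ZMod r) = 0 := by exact_mod_cast h2
    rw [ZMod.natCast_eq_zero_iff] at h3
    have := Nat.le_of_dvd two_pos h3
    have := hr.two_le
    omega
  have hdvd : r ∣ q ^ (2 * j) - 1 := by
    have h1 : 1 ≤ q ^ (2 * j) := Nat.one_le_pow _ _ hq
    rw [← ZMod.natCast_eq_zero_iff, Nat.cast_sub h1, Nat.cast_pow, Nat.cast_one, mul_comm,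
      pow_mul, hneg]
    norm_num
  rcases ord_cases_sub q j hq hj hdvd with ⟨ho, hle⟩ | h'
  · exfalso
    have hpow : (q : ZMod r) ^ (2 * j) = 1 := by
      rw [mul_comm, pow_mul, hneg]; norm_num
    have h2j : orderOf (q : ZMod r) ∣ 2 * j := orderOf_dvd_of_pow_eq_one hpow
    have hcop : Nat.Coprime (orderOf (q : ZMod r)) 2 := Nat.coprime_two_right.mpr ho
    have hij : orderOf (q : ZMod r) ∣ j := hcop.dvd_of_dvd_mul_left h2j
    have := orderOf_dvd_iff_pow_eq_one.mp hij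
    rw [hneg] at this
    exact hne this
  · exact h'

end ord

end Cfsg.Agent.Lib.H23.OrF
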