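import Mathlib
import Cfsg.Agent.Lib.H23.OrFD
import Cfsg.Agent.Lib.H23.OrFE
import Cfsg.Agent.Lib.H23.OrFF
import Cfsg.Agent.Lib.H12.OrdOK
import Cfsg.Agent.S0286

set_option autoImplicit false
set_option linter.style.haveILetI false

/-!
# The primes dividing the index of the normalizer of `K` in `Ω⁻_{2d}(q)` (helper23)
-/

namespace Cfsg.Agent.Lib.H23.OrF

open Module Matrix QuadraticAlgebra
open Cfsg.Agent.Lib.H23.SpU Cfsg.Agent.Lib.H23.SpF Cfsg.Agent.Lib.H13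
open Cfsg.Agent.Lib.H13.MinusClass

section index

variable {F : Type*} [Field F] [Fintype F] {q : ℕ}

attribute [local instance] fintypeEE

theorem iso_smul {E : Type*} [Field E] {κ : Type} [Fintype κ] [DecidableEq κ] (a : E) (ha : a ≠ 0)
    (Q' : (κ → E) → E) :
    Cfsg.isometryGroup E (fun v => a * Q' v) = Cfsg.isometryGroup E Q' := by
  ext g
  rw [Cfsg.Agent.Lib.H11.IsoReindex.mem_iso_iff', Cfsg.Agent.Lib.H11.IsoReindex.mem_iso_iff']
  constructor
  · intro h x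
    exact mul_left_cancel₀ ha (h x)
  · intro h x
    show a * Q' _ = a * Q' x
    rw [h x]

/-- the primes dividing the index -/
theorem index_cases (hq : Fintype.card F = q) (hodd : Odd q) (d : ℕ) (hd : 1 ≤ d) (a b : F)
    (hab : ∀ z₁ z₂ : F, z₁ ^ 2 + a * z₁ * z₂ + b * z₂ ^ 2 = 0 → z₁ = 0 ∧ z₂ = 0)
    (K : Subalgebra F (Matrix (IM (d - 1)) (IM (d - 1)) F)) (α : Matrix (IM (d - 1)) (IM (d - 1)) F)
    (δ : F) (hK : QData K α δ) (hsa : SRoot (minusQF F (d - 1) a b) α δ)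
    (r : ℕ) (hr : r.Prime)
    (hΩ : r ∣ (Cfsg.Geo.subalgebraNormalizer K).relIndex
      (Cfsg.Geo.omegaGL (Cfsg.quadFormMinus (d - 1) F a b))) :
    r ∣ q ∨ ∃ j, Odd j ∧ ((j ≤ d - 1 ∧ r ∣ q ^ (2 * j) - 1) ∨ (j = d ∧ r ∣ q ^ d + 1)) := by
  have h2 : (2 : F) ≠ 0 := by
    intro h0
    have hchar : ringChar F = 2 := by
      apply (CharP.ringChar_of_prime_eq_zero Nat.prime_two _)
      exact_mod_cast h0
    have := FiniteField.even_card_of_char_two hchar
    rw [hq] at this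
    exact (Nat.not_even_iff_odd.mpr hodd) (Nat.even_iff.mpr this)
  haveI : Fact (∀ r : F, r ^ 2 ≠ δ + 0 * r) := fact_of_nsq δ hK.nsq
  have hnd := Cfsg.Agent.S0288.nondeg a b hab (d - 1)
  have hcardn : Fintype.card (IM (d - 1)) = 2 * d := by
    rw [Fintype.card_sum, Fintype.card_sum, Fintype.card_fin, Fintype.card_fin]
    omega
  have hnots : ∀ U : Submodule F (IM (d - 1) → F), finrank F U = d →
      ¬ ∀ u ∈ U, minusQF F (d - 1) a b u = 0 := by
    intro U hU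
    apply noTS_minus h2 (d - 1) a b hab U
    rw [hU]
    omega
  have hcE : Fintype.card (EE F δ) = q ^ 2 := by rw [card_EE, hq]
  have hcardO : Nat.card ↥(Cfsg.isometryGroup F ⇑(minusQF F (d - 1) a b)) =
      2 * q ^ (d * (d - 1)) * (q ^ d + 1) * PP q (d - 1) := by
    rw [Cfsg.Agent.S0288.coe_minusQF, Cfsg.Agent.S0288.result hq d hd a b hab]
    rfl
  rw [← Cfsg.Agent.S0288.coe_minusQF] at hΩ
  rcases Nat.even_or_odd d with ⟨m, hm⟩ | ⟨m, hm⟩
  · -- even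
    have hd2 : d = 2 * m := by omega
    have hm1 : 1 ≤ m := by omega
    obtain ⟨a₀, c₀, hac⟩ := Cfsg.Agent.Lib.H12.OrdO.exists_aniso (F := EE F δ)
    obtain ⟨φ, hφ⟩ := hsa.model_even h2 hnd m hm1 (by rw [hcardn, hd2])
      (by rw [← hd2]; exact hnots) a₀ c₀ hac
    obtain ⟨t, ht⟩ := hφ.relIndex_mul K hK
    rw [hcardO, Cfsg.Agent.S0288.result hcE m hm1 a₀ c₀ hac] at ht
    have hpos : 0 < 2 * (q ^ 2) ^ (m * (m - 1)) * ((q ^ 2) ^ m + 1) *
        ∏ i ∈ Finset.range (m - 1), ((q ^ 2) ^ (2 * (i + 1)) - 1) := by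
      rw [← Cfsg.Agent.S0288.result hcE m hm1 a₀ c₀ hac]
      exact Nat.card_pos
    have hid := card_even q m hm1
    rw [← hd2] at hid
    have heq : (Cfsg.Geo.subalgebraNormalizer K).relIndex
        (Cfsg.Geo.omegaGL ⇑(minusQF F (d - 1) a b)) * t = q ^ (2 * m ^ 2) * PO q m := by
      have : (2 * (q ^ 2) ^ (m * (m - 1)) * ((q ^ 2) ^ m + 1) *
          ∏ i ∈ Finset.range (m - 1), ((q ^ 2) ^ (2 * (i + 1)) - 1)) *
          ((Cfsg.Geo.subalgebraNormalizer K).relIndex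
            (Cfsg.Geo.omegaGL ⇑(minusQF F (d - 1) a b)) * t) =
          (2 * (q ^ 2) ^ (m * (m - 1)) * ((q ^ 2) ^ m + 1) *
          ∏ i ∈ Finset.range (m - 1), ((q ^ 2) ^ (2 * (i + 1)) - 1)) *
            (q ^ (2 * m ^ 2) * PO q m) := by
        have e : (2 * (q ^ 2) ^ (m * (m - 1)) * ((q ^ 2) ^ m + 1) *
            ∏ i ∈ Finset.range (m - 1), ((q ^ 2) ^ (2 * (i + 1)) - 1)) =
            2 * (q ^ 2) ^ (m * (m - 1)) * ((q ^ 2) ^ m + 1) * PP (q ^ 2) (m - 1) := rfl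
        rw [e, ← hid, ← ht, e]
        ring
      exact Nat.eq_of_mul_eq_mul_left hpos this
    have hdvd : r ∣ q ^ (2 * m ^ 2) * PO q m := by
      rw [← heq]
      exact Dvd.dvd.mul_right hΩ t
    rcases dvd_cases_even q m r hr hdvd with h' | ⟨k, hk, hkd⟩
    · left; exact h'
    · right
      exact ⟨2 * k + 1, ⟨k, rfl⟩, Or.inl ⟨by omega, hkd⟩⟩
  · -- odd
    have hchE : ringChar (EE F δ) ≠ 2 := by
      intro hc
      have h0 : ((2 : ℕ) : EE F δ) = 0 := by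
        rw [← hc]
        exact ringChar.Nat.cast_ringChar
      have := congrArg QuadraticAlgebra.re h0
      apply h2
      simpa using this
    obtain ⟨ν, hν⟩ := FiniteField.exists_nonsquare hchE
    obtain ⟨φ, hφ⟩ := hsa.model_odd h2 hnd m (by rw [hcardn, hm])
      (by rw [← hm]; exact hnots) ν hν
    obtain ⟨t, ht⟩ := hφ.relIndex_mul K hK
    have hων : (ω : EE F δ) * ν ≠ 0 := by
      apply mul_ne_zero
      · intro h0
        have := congrArg QuadraticAlgebra.im h0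
        simp at this
      · rintro rfl
        exact hν ⟨0, by simp⟩
    have hoddE : Odd (q ^ 2) := hodd.pow
    rw [hcardO, iso_smul _ hων, Cfsg.Agent.S0286.result hcE hoddE m] at ht
    have hpos : 0 < 2 * (q ^ 2) ^ (m ^ 2) *
        ∏ i ∈ Finset.range m, ((q ^ 2) ^ (2 * (i + 1)) - 1) := by
      rw [← Cfsg.Agent.S0286.result hcE hoddE m]
      exact Nat.card_pos
    have hid := card_odd q m
    rw [← hm] at hid
    have heq : (Cfsg.Geo.subalgebraNormalizer K).relIndex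
        (Cfsg.Geo.omegaGL ⇑(minusQF F (d - 1) a b)) * t =
        q ^ (2 * m ^ 2 + 2 * m) * (q ^ d + 1) * PO q m := by
      have : (2 * (q ^ 2) ^ (m ^ 2) * ∏ i ∈ Finset.range m, ((q ^ 2) ^ (2 * (i + 1)) - 1)) *
          ((Cfsg.Geo.subalgebraNormalizer K).relIndex
            (Cfsg.Geo.omegaGL ⇑(minusQF F (d - 1) a b)) * t) =
          (2 * (q ^ 2) ^ (m ^ 2) * ∏ i ∈ Finset.range m, ((q ^ 2) ^ (2 * (i + 1)) - 1)) *
            (q ^ (2 * m ^ 2 + 2 * m) * (q ^ d + 1) * PO q m) := by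
        have e : (2 * (q ^ 2) ^ (m ^ 2) * ∏ i ∈ Finset.range m, ((q ^ 2) ^ (2 * (i + 1)) - 1)) =
            2 * (q ^ 2) ^ (m ^ 2) * PP (q ^ 2) m := rfl
        rw [e, ← hid, ← ht, e]
        ring
      exact Nat.eq_of_mul_eq_mul_left hpos this
    have hdvd : r ∣ q ^ (2 * m ^ 2 + 2 * m) * (q ^ (2 * m + 1) + 1) * PO q m := by
      have h3 : q ^ (2 * m + 1) = q ^ d := by rw [hm]
      rw [h3, ← heq]
      exact Dvd.dvd.mul_right hΩ t
    rcases dvd_cases_odd q m r hr hdvd with h' | h' | ⟨k, hk, hkd⟩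
    · left; exact h'
    · right
      refine ⟨d, ⟨m, hm⟩, Or.inr ⟨rfl, ?_⟩⟩
      rw [hm]; exact h'
    · right
      exact ⟨2 * k + 1, ⟨k, rfl⟩, Or.inl ⟨by omega, hkd⟩⟩

end index

end Cfsg.Agent.Lib.H23.OrF
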