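import Mathlib
import Cfsg.Agent.Lib.H23.SpUH
import Cfsg.Agent.Lib.H23.SpUJ
import Cfsg.Agent.Lib.H23.SpUK

set_option autoImplicit false

/-!
# Isometries of a symmetric bilinear space commuting with a self-adjoint square root of a
non-square (helper23)

Let `B` be a non-degenerate symmetric bilinear form, `A` self-adjoint with `A² = δ` a non-square.
* `unip_no_root`: an isometry `1 + N` with `N² = 0` of rank two does not commute with `A`;
* `ss_no_root_odd`, `ss_no_root_even`: isometries of odd prime order `r` with small support do not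
  commute with `A`.
-/

namespace Cfsg.Agent.Lib.H23.OrF

open Module Polynomial
open Cfsg.Agent.Lib.H13 Cfsg.Agent.Lib.H24.Elus Cfsg.Agent.Lib.H23.SpU

section unip

variable {F : Type*} [Field F] {V : Type*} [AddCommGroup V] [Module F V] [FiniteDimensional F V]

omit [FiniteDimensional F V] in
/-- an endomorphism with non-square square has no eigenvector -/
theorem indep_of_nsq (A : End F V) (δ : F) (hδ : ∀ c : F, c * c ≠ δ) (hAsq : ∀ v, A (A v) = δ • v)
    (w : V) (hw : w ≠ 0) (s t : F) (hst : s • w + t • A w = 0) : s = 0 ∧ t = 0 := by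
  have ht : t = 0 := by
    by_contra ht
    have h1 : A w = (-(s / t)) • w := by
      have : t • A w = -(s • w) := eq_neg_of_add_eq_zero_right hst
      have h3 : A w = t⁻¹ • (t • A w) := by rw [smul_smul, inv_mul_cancel₀ ht, one_smul]
      rw [h3, this, smul_neg, smul_smul, neg_smul]
      congr 2
      field_simp
    have h3 : A (A w) = ((s / t) * (s / t)) • w := by
      rw [h1, map_smul, h1, smul_smul]
      congr 1
      ring
    rw [hAsq] at h3
    have h4 : (δ - (s / t) * (s / t)) • w = 0 := by rw [sub_smul, h3, sub_self]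
    rcases smul_eq_zero.mp h4 with h5 | h5
    · exact hδ (s / t) (sub_eq_zero.mp h5).symm
    · exact hw h5
  refine ⟨?_, ht⟩
  rw [ht, zero_smul, add_zero] at hst
  rcases smul_eq_zero.mp hst with h | h
  · exact h
  · exact absurd h hw

/-- a unipotent isometry `1 + N` with `N² = 0` of rank two does not commute with `A` -/
theorem unip_no_root (B : LinearMap.BilinForm F V) (hsym : ∀ u v, B u v = B v u)
    (hnd : ∀ v, (∀ w, B v w = 0) → v = 0) (h2 : (2 : F) ≠ 0)
    (N : End F V) (hN2 : ∀ v, N (N v) = 0) (hrank : finrank F (LinearMap.range N) = 2)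
    (hiso : ∀ u v, B (u + N u) (v + N v) = B u v)
    (A : End F V) (δ : F) (hδ : ∀ c : F, c * c ≠ δ) (hAsq : ∀ v, A (A v) = δ • v)
    (hAsa : ∀ u v, B (A u) v = B u (A v)) (hAN : ∀ v, A (N v) = N (A v)) : False := by
  -- `N` is skew
  have hskew : ∀ u v, B (N u) v = - B u (N v) := by
    intro u v
    have h1 := hiso u (v - N v)
    have h3 : v - N v + N (v - N v) = v := by
      rw [map_sub, hN2]
      abel
    rw [h3, map_add, LinearMap.add_apply, map_sub] at h1
    linear_combination h1
  -- a vector outside the kernel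
  obtain ⟨v, hv⟩ : ∃ v, N v ≠ 0 := by
    by_contra hcon
    push Not at hcon
    have : LinearMap.range N = ⊥ := by
      rw [LinearMap.range_eq_bot]
      exact LinearMap.ext hcon
    rw [this, finrank_bot] at hrank
    omega
  have hli : LinearIndependent F ![N v, A (N v)] := by
    rw [LinearIndependent.pair_iff]
    intro s t hst
    exact indep_of_nsq A δ hδ hAsq (N v) hv s t hst
  have hspan : Submodule.span F (Set.range ![N v, A (N v)]) = LinearMap.range N := by
    apply Submodule.eq_of_le_of_finrank_eq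
    · rw [Submodule.span_le]
      rintro _ ⟨i, rfl⟩
      fin_cases i
      · exact ⟨v, rfl⟩
      · exact ⟨A v, (hAN v).symm⟩
    · rw [finrank_span_eq_card hli, hrank]
      rfl
  have h1 : B (N v) v = 0 := by
    have := hskew v v
    rw [hsym v (N v)] at this
    have h3 : (2 : F) * B (N v) v = 0 := by linear_combination this
    exact (mul_eq_zero.mp h3).resolve_left h2
  have h3 : B (A (N v)) v = 0 := by
    have e1 : B (A (N v)) v = B (N v) (A v) := hAsa _ _
    have e2 : B (N v) (A v) = - B v (N (A v)) := hskew _ _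
    have e3 : B v (N (A v)) = B (A (N v)) v := by rw [← hAN, hsym]
    have h4 : (2 : F) * B (A (N v)) v = 0 := by linear_combination e1 + e2 - e3
    exact (mul_eq_zero.mp h4).resolve_left h2
  have hall : ∀ u, B (N u) v = 0 := by
    intro u
    have hu : N u ∈ Submodule.span F (Set.range ![N v, A (N v)]) := by
      rw [hspan]
      exact ⟨u, rfl⟩
    have hr : Set.range ![N v, A (N v)] = {N v, A (N v)} := by
      ext z
      simp only [Set.mem_range, Set.mem_insert_iff, Set.mem_singleton_iff]
      constructor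
      · rintro ⟨i, rfl⟩
        fin_cases i
        · left; rfl
        · right; rfl
      · rintro (rfl | rfl)
        · exact ⟨0, rfl⟩
        · exact ⟨1, rfl⟩
    rw [hr, Submodule.mem_span_pair] at hu
    obtain ⟨s, t, hst⟩ := hu
    rw [← hst, map_add, LinearMap.add_apply, map_smul, map_smul, LinearMap.smul_apply,
      LinearMap.smul_apply, h1, h3, smul_zero, smul_zero, add_zero]
  apply hv
  apply hnd
  intro u
  rw [hsym, ← neg_eq_zero, ← hskew, hall]

end unip

section pow

variable {F : Type*} [Field F] [Fintype F]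

/-- for a non-square `δ` and `2 k + 1 = q ^ c`: `δ ^ k = (-1) ^ c` -/
theorem delta_pow_eq_neg_one_pow (h2 : (2 : F) ≠ 0) (δ : F) (hδ : ∀ c : F, c * c ≠ δ) :
    ∀ (c k : ℕ), 2 * k + 1 = Fintype.card F ^ c → δ ^ k = (-1) ^ c := by
  have hchar : ringChar F ≠ 2 := by
    intro hc
    apply h2
    have : ((2 : ℕ) : F) = 0 := by
      rw [← hc]
      exact ringChar.Nat.cast_ringChar
    exact_mod_cast this
  have hoddq : Fintype.card F % 2 = 1 := FiniteField.odd_card_of_char_ne_two hchar
  have hδ0 : δ ≠ 0 := by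
    rintro rfl
    exact hδ 0 (by ring)
  have heuler : δ ^ (Fintype.card F / 2) = -1 := by
    rcases FiniteField.pow_dichotomy hchar hδ0 with h | h
    · exfalso
      have := (FiniteField.isSquare_iff hchar hδ0).mpr h
      obtain ⟨c, hc⟩ := this
      exact hδ c hc.symm
    · exact h
  intro c
  induction c with
  | zero =>
    intro k hk
    have : k = 0 := by
      rw [pow_zero] at hk
      omega
    rw [this, pow_zero, pow_zero]
  | succ c ih =>
    intro k' hk'
    have hoddc : Fintype.card F ^ c % 2 = 1 :=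
      Nat.odd_iff.mp ((Nat.odd_iff.mpr hoddq).pow)
    obtain ⟨k, hk⟩ : ∃ k, 2 * k + 1 = Fintype.card F ^ c :=
      ⟨Fintype.card F ^ c / 2, by omega⟩
    have hk'eq : k' = Fintype.card F * k + Fintype.card F / 2 := by
      have h1 : Fintype.card F ^ (c + 1) = Fintype.card F ^ c * Fintype.card F := pow_succ _ _
      rw [h1, ← hk] at hk'
      have h3 : Fintype.card F = 2 * (Fintype.card F / 2) + 1 := by omega
      have h4 : (2 * k + 1) * Fintype.card F = 2 * (Fintype.card F * k) + Fintype.card F := by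
        ring
      rw [h4] at hk'
      omega
    rw [hk'eq, pow_add, mul_comm (Fintype.card F) k, pow_mul, ih k hk, heuler, pow_succ]
    congr 1
    obtain ⟨j, hj⟩ : ∃ j, Fintype.card F = 2 * j + 1 := ⟨Fintype.card F / 2, by omega⟩
    rw [← pow_mul, hj, mul_add, mul_one, pow_add, mul_comm c (2 * j), mul_assoc, pow_mul]
    simp

end pow

section ss

variable {F : Type*} [Field F] [Fintype F] {p q : ℕ} [Fact p.Prime] [CharP F p]
  {V : Type*} [AddCommGroup V] [Module F V] [Module.Finite F V]
  {B : LinearMap.BilinForm F V} {y : End F V}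

/-- the homogeneous component is totally isotropic: the self-adjoint analogue of
`SpU.ti_of_commute` -/
theorem ti_of_commute_sa [DecidableEq F] (hF : Fintype.card F = q) {r : ℕ}
    [Fact r.Prime] (hrp : r ≠ p)
    (hiso : ∀ u v, B (y u) (y v) = B u v) (hy : y ^ r = 1)
    (c' : ℕ) (hc : 2 * c' = orderOf (q : ZMod r)) (hc' : Odd c')
    (s : CycFactor.S r F)
    (hU : finrank F (LinearMap.ker (aeval y s.1)) = 2 * c')
    (A : End F V) (δ : F) (hδ : ∀ c : F, c * c ≠ δ) (h2 : (2 : F) ≠ 0)
    (hAsq : ∀ v, A (A v) = δ • v)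
    (hAsa : ∀ u v, B (A u) v = B u (A v)) (hAy : ∀ v, A (y v) = y (A v)) :
    ∀ u ∈ LinearMap.ker (aeval y s.1), ∀ v ∈ LinearMap.ker (aeval y s.1), B u v = 0 := by
  have hr : r.Prime := Fact.out
  have hi0 : 0 < orderOf (q : ZMod r) := CycFactor.orderOf_pos hF hr hrp
  have heven : Even (orderOf (q : ZMod r)) := ⟨c', by omega⟩
  have hδ0 : δ ≠ 0 := by
    rintro rfl
    exact hδ 0 (by ring)
  set U := LinearMap.ker (aeval y s.1) with hUdef
  have hUinv : ∀ v ∈ U, y v ∈ U := SSClass.ker_aeval_invariant y s.1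
  -- `A` preserves `U`
  have hAU : ∀ v ∈ U, A v ∈ U := by
    intro v hv
    rw [hUdef, LinearMap.mem_ker] at hv ⊢
    rw [← SSClass.aeval_intertwine y y A hAy s.1 v, hv, map_zero]
  -- a cyclic generator
  have hUpos : 0 < finrank F U := by rw [hU]; omega
  obtain ⟨⟨u₀, hu₀U⟩, hu₀⟩ := Module.finrank_pos_iff_exists_ne_zero.mp hUpos
  have hu₀0 : u₀ ≠ 0 := fun h => hu₀ (Subtype.ext h)
  have hu₀k : aeval y s.1 u₀ = 0 := LinearMap.mem_ker.mp hu₀U
  have hcyc : cycSub y u₀ = U := by
    apply Submodule.eq_of_le_of_finrank_eq (cycSub_le_ker y u₀ s.1 hu₀k)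
    rw [finrank_cycSub hF hrp hy s u₀ hu₀0 hu₀k, hU, hc]
  -- `A` is a polynomial in `y` on `U`
  obtain ⟨P, hP⟩ : ∃ P : F[X], aeval y P u₀ = A u₀ := by
    rw [← mem_cycSub, hcyc]
    exact hAU u₀ hu₀U
  have hAP : ∀ u ∈ U, A u = aeval y P u := by
    intro u hu
    rw [← hcyc, mem_cycSub] at hu
    obtain ⟨Q, rfl⟩ := hu
    rw [SSClass.aeval_intertwine y y A hAy Q u₀, ← hP, ← Module.End.mul_apply,
      ← Module.End.mul_apply, ← map_mul, ← map_mul, mul_comm]
  have hPU : ∀ u ∈ U, aeval y P u ∈ U := fun u hu => aeval_mem_of_invariant y U hUinv P u hu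
  -- powers
  have hpowAP : ∀ (n : ℕ), ∀ u ∈ U, (A ^ n) u = ((aeval y P) ^ n) u := by
    intro n
    induction n with
    | zero => intro u _; rfl
    | succ n ih =>
      intro u hu
      rw [pow_succ', pow_succ', Module.End.mul_apply, Module.End.mul_apply, ih u hu]
      have hmem : ((aeval y P) ^ n) u ∈ U := by
        have : ∀ n : ℕ, ((aeval y P) ^ n) u ∈ U := by
          intro n
          induction n with
          | zero => simpa using hu
          | succ n ih' =>
            rw [pow_succ', Module.End.mul_apply]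
            exact hPU _ ih'
        exact this n
      exact hAP _ hmem
  -- the exponent `N = q ^ c'`
  set N := Fintype.card F ^ c' with hN
  have hNodd : Odd N := by
    rw [hN]
    apply Odd.pow
    rw [Nat.odd_iff]
    have hchar : ringChar F ≠ 2 := by
      intro hc2
      apply h2
      have : ((2 : ℕ) : F) = 0 := by
        rw [← hc2]
        exact ringChar.Nat.cast_ringChar
      exact_mod_cast this
    exact FiniteField.odd_card_of_char_ne_two hchar
  obtain ⟨k, hk⟩ := hNodd
  have hδk : δ ^ k = -1 := by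
    rw [delta_pow_eq_neg_one_pow h2 δ hδ c' k (by rw [← hN, hk]), hc'.neg_one_pow]
  have hAN : ∀ v, (A ^ N) v = - A v := by
    intro v
    rw [hk, pow_odd_of_sq A δ hAsq, hδk, neg_smul, one_smul]
  -- `y ^ N = y ^ (r - 1)`
  have hrN : r ∣ N + 1 := by
    have := dvd_pow_half_add_one q r heven hi0
    have hhalf : orderOf (q : ZMod r) / 2 = c' := by omega
    rw [hhalf] at this
    rw [hN, hF]
    exact this
  have hyN : y ^ N = y ^ (r - 1) := by
    obtain ⟨t, ht⟩ := hrN
    have h1 : y ^ N * y = 1 := by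
      rw [← pow_succ, ht, pow_mul, hy, one_pow]
    have h3 : y * y ^ (r - 1) = 1 := by
      rw [← pow_succ', Nat.sub_add_cancel hr.pos, hy]
    calc y ^ N = y ^ N * (y * y ^ (r - 1)) := by rw [h3, mul_one]
      _ = y ^ (r - 1) := by rw [← mul_assoc, h1, one_mul]
  -- `-A = P(y⁻¹)` on `U`
  have hAP' : ∀ u ∈ U, - A u = aeval (y ^ (r - 1)) P u := by
    intro u hu
    rw [← hAN u, hpowAP N u hu, ← hyN, hN, aeval_pow_card_pow]
  -- conclusion
  have hadj := adj_aeval B y (y ^ (r - 1)) (adj_pow_pred hiso hr.pos hy) P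
  have key : ∀ u ∈ U, ∀ v ∈ U, B u (A v) = 0 := by
    intro u hu v hv
    have h1 : B (A u) v = - B u (A v) := by
      rw [hAP u hu, hadj, ← hAP' v hv, map_neg]
    rw [hAsa] at h1
    have h3 : (2 : F) * B u (A v) = 0 := by linear_combination h1
    rcases mul_eq_zero.mp h3 with h | h
    · exact absurd h h2
    · exact h
  intro u hu v hv
  have hv' : v = A (δ⁻¹ • A v) := by
    rw [map_smul, hAsq, smul_smul, inv_mul_cancel₀ hδ0, one_smul]
  rw [hv']
  exact key u hu _ (U.smul_mem _ (hAU v hv))

/-- a totally isotropic homogeneous component complementary to the fixed space is impossible -/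
theorem ss_rad [DecidableEq F] {r : ℕ} [Fact r.Prime] (hrp : r ≠ p)
    (hnd : ∀ v, (∀ w, B v w = 0) → v = 0)
    (hiso : ∀ u v, B (y u) (y v) = B u v) (s : CycFactor.S r F)
    (hdim : finrank F (LinearMap.ker (y - 1)) + finrank F (LinearMap.ker (aeval y s.1)) =
      finrank F V)
    (hpos : 0 < finrank F (LinearMap.ker (aeval y s.1)))
    (hti : ∀ u ∈ LinearMap.ker (aeval y s.1), ∀ v ∈ LinearMap.ker (aeval y s.1), B u v = 0) :
    False := by
  have hr : r.Prime := Fact.out
  have hcop : IsCoprime (X - 1 : F[X]) s.1 :=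
    CycFactor.coprime_fJ hr hrp none (some s) (by simp)
  have hX1 : aeval y (X - 1 : F[X]) = y - 1 := by
    rw [map_sub, aeval_X, map_one]
  have hdisj : Disjoint (LinearMap.ker (y - 1)) (LinearMap.ker (aeval y s.1)) := by
    rw [← hX1]
    exact disjoint_ker_aeval_of_isCoprime y hcop
  have htop : LinearMap.ker (y - 1) ⊔ LinearMap.ker (aeval y s.1) = ⊤ := by
    apply Submodule.eq_top_of_finrank_eq
    have := Submodule.finrank_sup_add_finrank_inf_eq (LinearMap.ker (y - 1))
      (LinearMap.ker (aeval y s.1))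
    rw [hdisj.eq_bot, finrank_bot, add_zero] at this
    rw [this, hdim]
  -- the component is orthogonal to the fixed space
  have horth : ∀ u ∈ LinearMap.ker (aeval y s.1), ∀ f ∈ LinearMap.ker (y - 1), B u f = 0 := by
    intro u hu f hf
    rw [LinearMap.mem_ker] at hu hf
    have hyf : y f = f := by
      rw [LinearMap.sub_apply, Module.End.one_apply] at hf
      exact sub_eq_zero.mp hf
    obtain ⟨a, b, hab⟩ := hcop
    have h1 : u = (y - 1) (aeval y a u) := by
      have := congrArg (fun g : F[X] => aeval y g u) hab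
      simp only [map_add, map_mul, map_one, LinearMap.add_apply, Module.End.mul_apply,
        Module.End.one_apply, hu, map_zero, add_zero] at this
      rw [hX1] at this
      have hcomm : (y - 1) (aeval y a u) = aeval y a ((y - 1) u) := by
        rw [← hX1, ← Module.End.mul_apply, ← Module.End.mul_apply, ← map_mul, ← map_mul,
          mul_comm]
      exact (hcomm.trans this).symm
    rw [h1, LinearMap.sub_apply, Module.End.one_apply, map_sub, LinearMap.sub_apply]
    nth_rewrite 1 [← hyf]
    rw [hiso, sub_self]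
  obtain ⟨⟨w₀, hw₀⟩, hne⟩ := Module.finrank_pos_iff_exists_ne_zero.mp hpos
  apply hne
  apply Subtype.ext
  apply hnd
  intro v
  have hv : v ∈ LinearMap.ker (y - 1) ⊔ LinearMap.ker (aeval y s.1) := by
    rw [htop]
    exact Submodule.mem_top
  obtain ⟨f, hf, w, hw, rfl⟩ := Submodule.mem_sup.mp hv
  rw [map_add, horth w₀ hw₀ f hf, hti w₀ hw₀ w hw, add_zero]

/-- the dimensions of the homogeneous components add up -/
theorem sum_finrank_ker [DecidableEq F] {r : ℕ} [Fact r.Prime] (hrp : r ≠ p) (hy : y ^ r = 1) :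
    finrank F V = finrank F (LinearMap.ker (y - 1)) +
      ∑ s : CycFactor.S r F, finrank F (LinearMap.ker (aeval y s.1)) := by
  have hr : r.Prime := Fact.out
  have h0 : aeval y (∏ j, CycFactor.fJ (F := F) r j) = 0 := by
    rw [CycFactor.prod_fJ hr hrp, map_sub, map_pow, aeval_X, map_one, hy, sub_self]
  have e : LinearMap.ker (aeval y (CycFactor.fJ (F := F) r none)) = LinearMap.ker (y - 1) := by
    show LinearMap.ker (aeval y (X - 1 : F[X])) = _
    rw [map_sub, aeval_X, map_one]
  rw [finrank_eq_sum_ker (CycFactor.fJ (F := F) r) (CycFactor.coprime_fJ hr hrp) y h0,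
    Fintype.sum_option, e]
  rfl

/-- `ord_r q = 2 c'`, `c'` odd, support of dimension `2 c'`: no commuting self-adjoint root -/
theorem ss_no_root_even [DecidableEq F] (hF : Fintype.card F = q) {r : ℕ}
    [Fact r.Prime] (hrp : r ≠ p)
    (hnd : ∀ v, (∀ w, B v w = 0) → v = 0)
    (hiso : ∀ u v, B (y u) (y v) = B u v) (hy : y ^ r = 1)
    (c' : ℕ) (hc : 2 * c' = orderOf (q : ZMod r)) (hc' : Odd c')
    (hdim : finrank F (LinearMap.ker (y - 1)) + 2 * c' = finrank F V)
    (A : End F V) (δ : F) (hδ : ∀ c : F, c * c ≠ δ) (h2 : (2 : F) ≠ 0)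
    (hAsq : ∀ v, A (A v) = δ • v)
    (hAsa : ∀ u v, B (A u) v = B u (A v)) (hAy : ∀ v, A (y v) = y (A v)) : False := by
  have hr : r.Prime := Fact.out
  have hsum := sum_finrank_ker (V := V) (y := y) hrp hy
  have hsum' : ∑ s : CycFactor.S r F, finrank F (LinearMap.ker (aeval y s.1)) = 2 * c' := by
    omega
  have hc'pos : 0 < c' := hc'.pos
  obtain ⟨s₀, -, hs₀⟩ : ∃ s₀ ∈ (Finset.univ : Finset (CycFactor.S r F)),
      finrank F (LinearMap.ker (aeval y s₀.1)) ≠ 0 := by
    apply Finset.exists_ne_zero_of_sum_ne_zero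
    rw [hsum']
    omega
  have hdvd : orderOf (q : ZMod r) ∣ finrank F (LinearMap.ker (aeval y s₀.1)) := by
    have := dvd_finrank_ker (CycFactor.fJ (F := F) r) CycFactor.irreducible_fJ y (some s₀)
    rwa [CycFactor.natDegree_fJ_some hF hr hrp s₀] at this
  have hle : finrank F (LinearMap.ker (aeval y s₀.1)) ≤ 2 * c' := by
    rw [← hsum']
    exact Finset.single_le_sum (f := fun s : CycFactor.S r F =>
      finrank F (LinearMap.ker (aeval y s.1))) (fun _ _ => Nat.zero_le _) (Finset.mem_univ s₀)
  have heq : finrank F (LinearMap.ker (aeval y s₀.1)) = 2 * c' := by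
    have := Nat.le_of_dvd (Nat.pos_of_ne_zero hs₀) hdvd
    omega
  have hti := ti_of_commute_sa hF hrp hiso hy c' hc hc' s₀ heq A δ hδ h2 hAsq hAsa hAy
  exact ss_rad hrp hnd hiso s₀ (by rw [heq]; exact hdim) (by rw [heq]; omega) hti

/-- `ord_r q = i` odd, support of dimension `2 i`: no commuting root -/
theorem ss_no_root_odd [DecidableEq F] (hF : Fintype.card F = q) {r : ℕ}
    [Fact r.Prime] (hrp : r ≠ p) (hr2 : r ≠ 2)
    (hnd : ∀ v, (∀ w, B v w = 0) → v = 0)
    (hiso : ∀ u v, B (y u) (y v) = B u v) (hy : y ^ r = 1)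
    (hodd : Odd (orderOf (q : ZMod r)))
    (hdim : finrank F (LinearMap.ker (y - 1)) + 2 * orderOf (q : ZMod r) = finrank F V)
    (A : End F V) (δ : F) (hδ : ∀ c : F, c * c ≠ δ)
    (hAsq : ∀ v, A (A v) = δ • v) (hAy : ∀ v, A (y v) = y (A v)) : False := by
  have hr : r.Prime := Fact.out
  have hδ0 : δ ≠ 0 := by
    rintro rfl
    exact hδ 0 (by ring)
  set i := orderOf (q : ZMod r) with hi
  have hsum := sum_finrank_ker (V := V) (y := y) hrp hy
  have hsum' : ∑ s : CycFactor.S r F, finrank F (LinearMap.ker (aeval y s.1)) = 2 * i := by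
    omega
  have hipos : 0 < i := hodd.pos
  obtain ⟨s₀, -, hs₀⟩ : ∃ s₀ ∈ (Finset.univ : Finset (CycFactor.S r F)),
      finrank F (LinearMap.ker (aeval y s₀.1)) ≠ 0 := by
    apply Finset.exists_ne_zero_of_sum_ne_zero
    rw [hsum']
    omega
  have hdvd : i ∣ finrank F (LinearMap.ker (aeval y s₀.1)) := by
    have := dvd_finrank_ker (CycFactor.fJ (F := F) r) CycFactor.irreducible_fJ y (some s₀)
    rwa [CycFactor.natDegree_fJ_some hF hr hrp s₀] at this
  have heven : Even (finrank F (LinearMap.ker (aeval y s₀.1))) := by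
    by_contra hne
    rw [Nat.not_even_iff_odd] at hne
    have hAU : ∀ v ∈ LinearMap.ker (aeval y s₀.1), A v ∈ LinearMap.ker (aeval y s₀.1) := by
      intro v hv
      rw [LinearMap.mem_ker] at hv ⊢
      rw [← SSClass.aeval_intertwine y y A hAy s₀.1 v, hv, map_zero]
    obtain ⟨c, hc⟩ := exists_sq_of_odd_invariant A δ hδ0 hAsq _ hAU hne
    exact hδ c hc
  have hle : finrank F (LinearMap.ker (aeval y s₀.1)) ≤ 2 * i := by
    rw [← hsum']
    exact Finset.single_le_sum (f := fun s : CycFactor.S r F =>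
      finrank F (LinearMap.ker (aeval y s.1))) (fun _ _ => Nat.zero_le _) (Finset.mem_univ s₀)
  have heq : finrank F (LinearMap.ker (aeval y s₀.1)) = 2 * i := by
    have h2i : 2 * i ∣ finrank F (LinearMap.ker (aeval y s₀.1)) := by
      exact Nat.Coprime.mul_dvd_of_dvd_of_dvd (Nat.coprime_two_left.mpr hodd) heven.two_dvd hdvd
    have := Nat.le_of_dvd (Nat.pos_of_ne_zero hs₀) h2i
    omega
  -- the component is totally isotropic
  have : Fact (Irreducible s₀.1) := ⟨CycFactor.irreducible_S s₀⟩
  have hne := aeval_inv_root_ne_zero hF r hrp hr2 hodd s₀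
  have hcop : IsCoprime s₀.1 (s₀.1.comp (X ^ (r - 1))) := by
    apply ((CycFactor.irreducible_S s₀).coprime_iff_not_dvd).mpr
    intro hd
    apply hne
    set ρ := AdjoinRoot.root s₀.1 with hρ
    have hρr : ρ ^ r = 1 := by
      have h1 : aeval ρ (X ^ r - 1 : F[X]) = 0 := by
        rw [hρ, AdjoinRoot.aeval_eq, AdjoinRoot.mk_eq_zero]
        exact (CycFactor.dvd_S s₀).trans ⟨X - 1, (cyclotomic_prime_mul_X_sub_one F r).symm⟩
      rw [map_sub, map_pow, aeval_X, map_one, sub_eq_zero] at h1
      exact h1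
    have hρinv : ρ⁻¹ = ρ ^ (r - 1) := by
      have hρ0 : ρ ≠ 0 := by
        intro h
        rw [h, zero_pow hr.ne_zero] at hρr
        exact zero_ne_one hρr
      symm
      apply eq_inv_of_mul_eq_one_left
      rw [← pow_succ, Nat.sub_add_cancel hr.pos, hρr]
    rw [hρinv]
    have h3 : aeval (ρ ^ (r - 1)) s₀.1 = aeval ρ (s₀.1.comp (X ^ (r - 1))) := by
      rw [aeval_comp, map_pow, aeval_X]
    rw [h3, hρ, AdjoinRoot.aeval_eq, AdjoinRoot.mk_eq_zero]
    exact hd
  have hadj := adj_aeval B y (y ^ (r - 1)) (adj_pow_pred hiso hr.pos hy) s₀.1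
  have hcomp : aeval y (s₀.1.comp (X ^ (r - 1))) = aeval (y ^ (r - 1)) s₀.1 := by
    rw [aeval_comp, map_pow, aeval_X]
  have hti : ∀ u ∈ LinearMap.ker (aeval y s₀.1), ∀ v ∈ LinearMap.ker (aeval y s₀.1),
      B u v = 0 := by
    intro u hu v hv
    rw [LinearMap.mem_ker] at hu hv
    obtain ⟨a, b, hab⟩ := hcop
    have h1 : v = aeval (y ^ (r - 1)) s₀.1 (aeval y b v) := by
      have := congrArg (fun g : F[X] => aeval y g v) hab
      simp only [map_add, map_mul, map_one, LinearMap.add_apply, Module.End.mul_apply,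
        Module.End.one_apply, hv, map_zero, zero_add] at this
      rw [← hcomp, ← Module.End.mul_apply, ← map_mul, mul_comm, map_mul, Module.End.mul_apply]
      exact this.symm
    rw [h1, ← hadj, hu]
    simp
  exact ss_rad hrp hnd hiso s₀ (by rw [heq]; exact hdim) (by rw [heq]; omega) hti

end ss

end Cfsg.Agent.Lib.H23.OrF
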