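import Mathlib
import Cfsg.Agent.Lib.H12.OrdOK
import Cfsg.Agent.Lib.H12.RootCntC

set_option autoImplicit false

/-!
# Semisimple test elements of `O⁻_{2d}(q)` with a small support (helper23)

For an odd prime `r ≠ p` with `i = ord_r q`: if `i` is even and `i ≤ 2 d` there is an isometry of
order dividing `r` of the minus form whose fixed space has codimension `i`; if `i` is odd and
`i + 1 ≤ d` there is one whose fixed space has codimension `2 i`.
-/

namespace Cfsg.Agent.Lib.H23.OrF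

open Matrix Polynomial Module
open Cfsg.Agent.Lib.H12.OrdO Cfsg.Agent.Lib.H12.RootCnt

section link

variable {F : Type*} [Field F] [Fintype F] {ι : Type} [Fintype ι] [DecidableEq ι]
  {K : Type*} [Field K] [Algebra F K] [IsAlgClosed K] [DecidableEq K] {r : ℕ} [NeZero r]

omit [Fintype F] [IsAlgClosed K] in
/-- the dimension of the fixed space is the multiplicity of the eigenvalue `1` -/
theorem finrank_fix_eq_mf (ζ : K) (g : GL ι F) (hrF : (r : F) ≠ 0) (hg : g ^ r = 1) :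
    finrank F (LinearMap.ker (Matrix.toLin' g.1 - 1)) = mf r ζ g 0 := by
  have hss := semisimple_of_pow g hrF hg
  have h1 : LinearMap.ker (Matrix.toLin' g.1 - 1) =
      Module.End.maxGenEigenspace (Matrix.toLin' g.1) 1 := by
    rw [hss.isFinitelySemisimple.maxGenEigenspace_eq_eigenspace, Module.End.eigenspace_def,
      one_smul]
  rw [h1, LinearMap.finrank_maxGenEigenspace_eq, Matrix.charpoly_toLin']
  unfold mf
  rw [ev_zero, Polynomial.count_roots, ← map_one (algebraMap F K),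
    ← Polynomial.eq_rootMultiplicity_map (algebraMap F K).injective]

end link

section test

variable {F : Type*} [Field F] [Fintype F] {p : ℕ} [Fact p.Prime] [CharP F p] {q : ℕ} {r : ℕ}
  [Fact r.Prime]

/-- a function concentrated at `0` -/
def zf (r t : ℕ) : ZMod r → ℕ := fun j => if j = 0 then t else 0

theorem sum_zf (t : ℕ) : ∑ j : ZMod r, zf r t j = t := by
  unfold zf
  rw [Finset.sum_ite_eq' Finset.univ (0 : ZMod r)]
  simp

theorem zf_inv (t : ℕ) (h : (ZMod r)ˣ) (j : ZMod r) : zf r t ((h : ZMod r) * j) = zf r t j := by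
  unfold zf
  by_cases hj : j = 0
  · rw [hj, mul_zero]
  · rw [if_neg hj, if_neg (mul_ne_zero h.ne_zero hj)]

theorem exists_test_even (hF : Fintype.card F = q) (hr2 : r ≠ 2) (hrp : r ≠ p) (d : ℕ)
    (hd : 1 ≤ d) (a₀ c₀ : F)
    (hac : ∀ z₁ z₂ : F, z₁ ^ 2 + a₀ * z₁ * z₂ + c₀ * z₂ ^ 2 = 0 → z₁ = 0 ∧ z₂ = 0)
    (b₀ : ℕ) (hb : orderOf (q : ZMod r) = 2 * b₀) (hbd : b₀ ≤ d) :
    ∃ g : GL ((Fin (d - 1) ⊕ Fin (d - 1)) ⊕ Fin 2) F,
      g ∈ Cfsg.isometryGroup F (Cfsg.quadFormMinus (d - 1) F a₀ c₀) ∧ g ^ r = 1 ∧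
      finrank F (LinearMap.ker (Matrix.toLin' g.1 - 1)) + 2 * b₀ = 2 * d := by
  classical
  have hr : r.Prime := Fact.out
  have : NeZero r := ⟨hr.ne_zero⟩
  have hp : p.Prime := Fact.out
  have hrF : (r : F) ≠ 0 := by
    rw [Ne, CharP.cast_eq_zero_iff F p]
    intro hdv
    exact hrp ((Nat.prime_dvd_prime_iff_eq hp hr).mp hdv).symm
  have : NeZero (r : F) := ⟨hrF⟩
  obtain ⟨ζ, hζ⟩ := HasEnoughRootsOfUnity.exists_primitiveRoot (AlgebraicClosure F) r
  have : CharP (AlgebraicClosure F) p :=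
    charP_of_injective_algebraMap (algebraMap F (AlgebraicClosure F)).injective p
  have : ExpChar (AlgebraicClosure F) p := ExpChar.prime hp
  obtain ⟨f, -, hf⟩ := FiniteField.card F p
  have hφ : ∀ x : AlgebraicClosure F,
      iterateFrobenius (AlgebraicClosure F) p f x = x ^ Fintype.card F := by
    intro x
    rw [iterateFrobenius_def, hf]
  have hq0 : (q : ZMod r) ≠ 0 := by
    intro h0
    have h2 : r ∣ q := (ZMod.natCast_eq_zero_iff q r).mp h0
    rw [← hF, hf] at h2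
    have h3 := hr.dvd_of_dvd_pow h2
    exact hrp ((Nat.prime_dvd_prime_iff_eq hr hp).mp h3)
  set u : (ZMod r)ˣ := Units.mk0 (q : ZMod r) hq0 with hu
  have huv : (u : ZMod r) = (Fintype.card F : ZMod r) := by rw [hF]; rfl
  have hordu : orderOf u = 2 * b₀ := by
    rw [← hb, ← orderOf_units]
    rfl
  have hub : (u : ZMod r) ^ b₀ = (-1) ^ 1 := by
    rw [← Units.val_pow_eq_pow_val, pow_half_eq_neg_one r u b₀ hordu]
    simp
  have h10 : (1 : ZMod r) ≠ 0 := by
    have : Fact (1 < r) := ⟨hr.one_lt⟩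
    exact one_ne_zero
  set a : ZMod r → ℕ := ind u 1 + zf r (2 * (d - b₀)) with ha
  have hsum : ∑ j, a j = 2 * d := by
    rw [ha]
    simp only [Pi.add_apply]
    rw [Finset.sum_add_distrib, sum_ind u 1 h10, sum_zf, hordu]
    omega
  have hinv : ∀ j, a ((u : ZMod r) * j) = a j := by
    intro j
    rw [ha]
    simp only [Pi.add_apply]
    rw [ind_invariant, zf_inv]
  have ha0 : a 0 = 2 * (d - b₀) := by
    rw [ha]
    simp only [Pi.add_apply]
    rw [ind_zero u 1 h10, zero_add]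
    unfold zf
    rw [if_pos rfl]
  have hcond : a 0 ≠ 0 ∨ (u : ZMod r) ^ d = (-1) ^ 1 := by
    by_cases hlt : b₀ < d
    · left
      rw [ha0]
      omega
    · right
      have : b₀ = d := by omega
      rw [← this]
      exact hub
  obtain ⟨k', hk', hRz⟩ := exists_Rz hζ hr2 u u b₀ 1 hordu hub
    (fun j₀ hj₀ => atoms_even p hrp hζ (iterateFrobenius (AlgebraicClosure F) p f) hφ u huv b₀
      hordu j₀ hj₀) a₀ c₀ hac d 1 a hsum hinv hcond
  have hk'odd : Odd k' := by
    rw [← Nat.not_even_iff_odd]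
    intro h
    have := hk'.mp h
    exact absurd this (by decide)
  obtain ⟨g, hgO, hgr, hga⟩ := hRz.to_minus hd hk'odd a₀ c₀ hac
  refine ⟨g, hgO, hgr, ?_⟩
  rw [finrank_fix_eq_mf ζ g hrF hgr, hga, ha0]
  omega

theorem exists_test_odd (hF : Fintype.card F = q) (hr2 : r ≠ 2) (hrp : r ≠ p) (d : ℕ)
    (hd : 1 ≤ d) (a₀ c₀ : F)
    (hac : ∀ z₁ z₂ : F, z₁ ^ 2 + a₀ * z₁ * z₂ + c₀ * z₂ ^ 2 = 0 → z₁ = 0 ∧ z₂ = 0)
    (hodd : Odd (orderOf (q : ZMod r))) (hid : orderOf (q : ZMod r) + 1 ≤ d) :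
    ∃ g : GL ((Fin (d - 1) ⊕ Fin (d - 1)) ⊕ Fin 2) F,
      g ∈ Cfsg.isometryGroup F (Cfsg.quadFormMinus (d - 1) F a₀ c₀) ∧ g ^ r = 1 ∧
      finrank F (LinearMap.ker (Matrix.toLin' g.1 - 1)) + 2 * orderOf (q : ZMod r) = 2 * d := by
  classical
  have hr : r.Prime := Fact.out
  have : NeZero r := ⟨hr.ne_zero⟩
  have hp : p.Prime := Fact.out
  have hrF : (r : F) ≠ 0 := by
    rw [Ne, CharP.cast_eq_zero_iff F p]
    intro hdv
    exact hrp ((Nat.prime_dvd_prime_iff_eq hp hr).mp hdv).symm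
  have : NeZero (r : F) := ⟨hrF⟩
  obtain ⟨ζ, hζ⟩ := HasEnoughRootsOfUnity.exists_primitiveRoot (AlgebraicClosure F) r
  have : CharP (AlgebraicClosure F) p :=
    charP_of_injective_algebraMap (algebraMap F (AlgebraicClosure F)).injective p
  have : ExpChar (AlgebraicClosure F) p := ExpChar.prime hp
  obtain ⟨f, -, hf⟩ := FiniteField.card F p
  have hφ : ∀ x : AlgebraicClosure F,
      iterateFrobenius (AlgebraicClosure F) p f x = x ^ Fintype.card F := by
    intro x
    rw [iterateFrobenius_def, hf]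
  have hq0 : (q : ZMod r) ≠ 0 := by
    intro h0
    have h2 : r ∣ q := (ZMod.natCast_eq_zero_iff q r).mp h0
    rw [← hF, hf] at h2
    have h3 := hr.dvd_of_dvd_pow h2
    exact hrp ((Nat.prime_dvd_prime_iff_eq hr hp).mp h3)
  set u : (ZMod r)ˣ := Units.mk0 (q : ZMod r) hq0 with hu
  have huv : (u : ZMod r) = (Fintype.card F : ZMod r) := by rw [hF]; rfl
  set i := orderOf (q : ZMod r) with hi
  have hordu : orderOf u = i := by
    rw [hi, ← orderOf_units]
    rfl
  obtain ⟨h2i, -⟩ := twist_odd r hr2 u i hordu hodd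
  have hub : (u : ZMod r) ^ i = (-1) ^ 0 := by
    rw [← Units.val_pow_eq_pow_val, ← hordu, pow_orderOf_eq_one]
    simp
  have h10 : (1 : ZMod r) ≠ 0 := by
    have : Fact (1 < r) := ⟨hr.one_lt⟩
    exact one_ne_zero
  set a : ZMod r → ℕ := ind (-u) 1 + zf r (2 * (d - i)) with ha
  have hsum : ∑ j, a j = 2 * d := by
    rw [ha]
    simp only [Pi.add_apply]
    rw [Finset.sum_add_distrib, sum_ind (-u) 1 h10, sum_zf, h2i]
    omega
  have hinv : ∀ j, a (((-u : (ZMod r)ˣ) : ZMod r) * j) = a j := by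
    intro j
    rw [ha]
    simp only [Pi.add_apply]
    rw [ind_invariant, zf_inv]
  have ha0 : a 0 = 2 * (d - i) := by
    rw [ha]
    simp only [Pi.add_apply]
    rw [ind_zero (-u) 1 h10, zero_add]
    unfold zf
    rw [if_pos rfl]
  have hcond : a 0 ≠ 0 ∨ (u : ZMod r) ^ d = (-1) ^ 1 := by
    left
    rw [ha0]
    omega
  obtain ⟨k', hk', hRz⟩ := exists_Rz hζ hr2 u (-u) i 0 h2i hub
    (fun j₀ hj₀ => atoms_odd p hr2 hrp hζ (iterateFrobenius (AlgebraicClosure F) p f) hφ u huv i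
      hordu hodd j₀ hj₀) a₀ c₀ hac d 1 a hsum hinv hcond
  have hk'odd : Odd k' := by
    rw [← Nat.not_even_iff_odd]
    intro h
    have := hk'.mp h
    exact absurd this (by decide)
  obtain ⟨g, hgO, hgr, hga⟩ := hRz.to_minus hd hk'odd a₀ c₀ hac
  refine ⟨g, hgO, hgr, ?_⟩
  rw [finrank_fix_eq_mf ζ g hrF hgr, hga, ha0]
  omega

end test

end Cfsg.Agent.Lib.H23.OrF
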