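import Mathlib
import Cfsg.Agent.Lib.H23.OrFG
import Cfsg.Agent.Lib.H23.OrFH
import Cfsg.Agent.Lib.H23.OrFI
import Cfsg.Agent.Lib.H11.OrthReal2

set_option autoImplicit false
set_option linter.style.haveILetI false

/-!
# `Ω⁻_{2d}(q)` on the cosets of the normalizer of a self-adjoint quadratic field: derangements of
odd prime order (helper23)
-/

namespace Cfsg.Agent.Lib.H23.OrF

open Module Matrix Polynomial
open Cfsg.Agent.Lib.H13 Cfsg.Agent.Lib.H13.MinusClass Cfsg.Agent.Lib.H11.IsoReindex
open Cfsg.Agent.Lib.H11.Jordan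

section setup

variable {F : Type*} [Field F] {n : Type} [Fintype n] [DecidableEq n]
  {Q : QuadraticForm F (n → F)}

theorem polar_iso (y : GL n F) (hy : y ∈ Cfsg.isometryGroup F ⇑Q) (u v : n → F) :
    QuadraticMap.polarBilin Q (Matrix.toLin' y.1 u) (Matrix.toLin' y.1 v) =
      QuadraticMap.polarBilin Q u v := by
  rw [mem_iso_iff'] at hy
  simp only [QuadraticMap.polarBilin_apply_apply, QuadraticMap.polar, Matrix.toLin'_apply]
  rw [← Matrix.mulVec_add, hy, hy, hy]

theorem toLin'_pow_one (y : GL n F) (r : ℕ) (hy : y ^ r = 1) :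
    (Matrix.toLin' (y : Matrix n n F)) ^ r = 1 := by
  rw [← Matrix.toLin'_pow, ← Units.val_pow_eq_pow_val, hy, Units.val_one, Matrix.toLin'_one]
  rfl

/-- the linear equivalence of an element of `GL` -/
noncomputable def glEq (g : GL n F) : (n → F) ≃ₗ[F] (n → F) :=
  Matrix.toLin'OfInv (gim g) (gmi g)

theorem glEq_apply (g : GL n F) (v : n → F) : glEq g v = (g : Matrix n n F) *ᵥ v := by
  show Matrix.toLin' _ v = _
  rw [Matrix.toLin'_apply]

theorem finrank_fix_conj (x g : GL n F) :
    finrank F (LinearMap.ker (Matrix.toLin' ((g⁻¹ * x * g : GL n F) : Matrix n n F) - 1)) =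
      finrank F (LinearMap.ker (Matrix.toLin' (x : Matrix n n F) - 1)) := by
  have h := SSClass.finrank_ker_eq_of_equiv (Matrix.toLin' ((g⁻¹ * x * g : GL n F) : Matrix n n F))
    (Matrix.toLin' (x : Matrix n n F)) (glEq g) (by
      intro v
      rw [glEq_apply, glEq_apply, Matrix.toLin'_apply, Matrix.toLin'_apply,
        Matrix.mulVec_mulVec, Matrix.mulVec_mulVec, Units.val_mul, Units.val_mul,
        ← Matrix.mul_assoc, ← Matrix.mul_assoc, gmi, Matrix.one_mul]) (X - 1 : F[X])
  have e : ∀ T : Module.End F (n → F), aeval T (X - 1 : F[X]) = T - 1 := fun T => by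
    rw [map_sub, aeval_X, map_one]
  rw [e, e] at h
  exact h

theorem conj_pow_eq_one (x g : GL n F) (r : ℕ) (hx : x ^ r = 1) : (g⁻¹ * x * g) ^ r = 1 := by
  have e : (g⁻¹ * x * g) ^ r = g⁻¹ * x ^ r * g := by
    have := conj_pow (a := g⁻¹) (b := x) (i := r)
    rw [inv_inv] at this
    exact this
  rw [e, hx, mul_one, inv_mul_cancel]

variable {K : Subalgebra F (Matrix n n F)} {α : Matrix n n F} {δ : F}

/-- a scalar isometry of odd order is trivial -/
theorem scalar_eq_one (hne : ∃ v, Q v ≠ 0) (x : GL n F) (hx : x ∈ Cfsg.isometryGroup F ⇑Q)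
    (r : ℕ) (hr : Odd r) (hxr : x ^ r = 1) (z : F) (hz : (x : Matrix n n F) = z • 1) : x = 1 := by
  obtain ⟨v, hv⟩ := hne
  have h1 := (mem_iso_iff' _ x).mp hx v
  rw [hz, Matrix.smul_mulVec, Matrix.one_mulVec, QuadraticMap.map_smul, smul_eq_mul] at h1
  have hz2 : z * z = 1 := by
    have : (z * z - 1) * Q v = 0 := by linear_combination h1
    rcases mul_eq_zero.mp this with h | h
    · linear_combination h
    · exact absurd h hv
  have hzr : z ^ r = 1 := by
    have h3 : ((x ^ r : GL n F) : Matrix n n F) = 1 := by rw [hxr]; rfl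
    rw [Units.val_pow_eq_pow_val, hz, _root_.smul_pow, one_pow] at h3
    have h4 := congrArg (fun M : Matrix n n F => M *ᵥ v) h3
    simp only [Matrix.smul_mulVec, Matrix.one_mulVec] at h4
    have hv0 : v ≠ 0 := by
      rintro rfl
      exact hv (map_zero _)
    have h5 : (z ^ r - 1) • v = 0 := by rw [sub_smul, h4, one_smul, sub_self]
    rcases smul_eq_zero.mp h5 with h | h
    · exact sub_eq_zero.mp h
    · exact absurd h hv0
  obtain ⟨k, hk⟩ := hr
  have hz1 : z = 1 := by
    rw [hk, pow_succ, pow_mul, pow_two, hz2, one_pow, one_mul] at hzr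
    exact hzr
  apply Units.ext
  rw [hz, hz1, one_smul]
  rfl

end setup

section forward

variable {F : Type*} [Field F] [Fintype F] {q : ℕ}

theorem two_ne_zero_of_odd' (hq : Fintype.card F = q) (hodd : Odd q) : (2 : F) ≠ 0 := by
  intro h0
  have hchar : ringChar F = 2 := by
    apply (CharP.ringChar_of_prime_eq_zero Nat.prime_two _)
    exact_mod_cast h0
  have := FiniteField.even_card_of_char_two hchar
  rw [hq] at this
  exact (Nat.not_even_iff_odd.mpr hodd) (Nat.even_iff.mpr this)

omit [Fintype F] in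
theorem exists_Q_ne (d : ℕ) (a b : F) : ∃ v, minusQF F (d - 1) a b v ≠ 0 := by
  refine ⟨Pi.single (Sum.inr 0) 1, ?_⟩
  rw [Cfsg.Agent.S0288.coe_minusQF]
  unfold Cfsg.quadFormMinus
  simp

/-- derangements of odd prime order -/
theorem exists_derangement (p : ℕ) [Fact p.Prime] [CharP F p] (hq : Fintype.card F = q) (hodd : Odd q) (d : ℕ) (hd : 3 ≤ d) (a b : F)
    (hab : ∀ z₁ z₂ : F, z₁ ^ 2 + a * z₁ * z₂ + b * z₂ ^ 2 = 0 → z₁ = 0 ∧ z₂ = 0)
    (K : Subalgebra F (Matrix (IM (d - 1)) (IM (d - 1)) F)) (α : Matrix (IM (d - 1)) (IM (d - 1)) F)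
    (δ : F) (hK : QData K α δ) (hsa : SRoot (minusQF F (d - 1) a b) α δ)
    (r : ℕ) [Fact r.Prime] (hr2 : r ≠ 2)
    (hΩ : r ∣ (Cfsg.Geo.subalgebraNormalizer K).relIndex
      (Cfsg.Geo.omegaGL (Cfsg.quadFormMinus (d - 1) F a b))) :
    ∃ x : GL (IM (d - 1)) F, x ∈ Cfsg.Geo.omegaGL (Cfsg.quadFormMinus (d - 1) F a b) ∧ x ^ r = 1 ∧
      (∀ z : F, (x : Matrix (IM (d - 1)) (IM (d - 1)) F) ≠ z • 1) ∧
      ∀ g ∈ Cfsg.Geo.omegaGL (Cfsg.quadFormMinus (d - 1) F a b),
        g⁻¹ * x * g ∉ Cfsg.Geo.subalgebraNormalizer K := by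
  classical
  have hr : r.Prime := Fact.out
  have hp : p.Prime := Fact.out
  have hrodd : Odd r := hr.odd_of_ne_two hr2
  have h2 : (2 : F) ≠ 0 := two_ne_zero_of_odd' hq hodd
  have hq1 : 1 ≤ q := hodd.pos
  have hnd := Cfsg.Agent.S0288.nondeg a b hab (d - 1)
  have hndB : ∀ v, (∀ w, QuadraticMap.polarBilin (minusQF F (d - 1) a b) v w = 0) → v = 0 :=
    fun v hv => hnd.1 v hv
  have hcardn : Fintype.card (IM (d - 1)) = 2 * d := by
    rw [Fintype.card_sum, Fintype.card_sum, Fintype.card_fin, Fintype.card_fin]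
    omega
  have hfrV : finrank F (IM (d - 1) → F) = 2 * d := by
    rw [Module.finrank_fintype_fun_eq_card, hcardn]
  haveI : Nonempty (IM (d - 1)) := ⟨Sum.inr 0⟩
  have hQne := exists_Q_ne (F := F) d a b
  have hcoe := Cfsg.Agent.S0288.coe_minusQF (F := F) (d - 1) a b
  -- the common frame: a test isometry of odd order `r` gives a derangement as soon as no conjugate
  -- commutes with `α`
  have frame : ∀ x : GL (IM (d - 1)) F, x ∈ Cfsg.isometryGroup F ⇑(minusQF F (d - 1) a b) →
      x ^ r = 1 → x ≠ 1 →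
      (∀ g : GL (IM (d - 1)) F, g ∈ Cfsg.isometryGroup F ⇑(minusQF F (d - 1) a b) →
        ((g⁻¹ * x * g : GL (IM (d - 1)) F) : Matrix _ _ F) * α =
          α * ((g⁻¹ * x * g : GL (IM (d - 1)) F) : Matrix _ _ F) → False) →
      ∃ x : GL (IM (d - 1)) F, x ∈ Cfsg.Geo.omegaGL (Cfsg.quadFormMinus (d - 1) F a b) ∧
        x ^ r = 1 ∧ (∀ z : F, (x : Matrix (IM (d - 1)) (IM (d - 1)) F) ≠ z • 1) ∧
        ∀ g ∈ Cfsg.Geo.omegaGL (Cfsg.quadFormMinus (d - 1) F a b),
          g⁻¹ * x * g ∉ Cfsg.Geo.subalgebraNormalizer K := by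
    intro x hxO hxr hx1 hno
    refine ⟨x, ?_, hxr, ?_, ?_⟩
    · rw [← hcoe]
      exact Cfsg.Agent.Lib.H11.OrthReal.mem_omegaGL_of_odd_order _ hnd h2
        (by rw [hcardn]; omega) x hxO r hrodd hxr
    · intro z hz
      exact hx1 (scalar_eq_one hQne x hxO r hrodd hxr z hz)
    · intro g hg hmem
      rw [← hcoe] at hg
      have hgO := Cfsg.Agent.Lib.H11.ConfOrth.omegaGL_le_iso _ hg
      have hyr := conj_pow_eq_one x g r hxr
      have hcomm := hK.comm_of_odd h2 (g⁻¹ * x * g) hmem r hrodd 1 (by rw [hyr, one_smul]; rfl)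
      exact hno g hgO hcomm
  -- the operator attached to `α`
  have hAsq : ∀ v, Matrix.toLin' α (Matrix.toLin' α v) = δ • v := by
    intro v
    rw [Matrix.toLin'_apply, Matrix.toLin'_apply, Matrix.mulVec_mulVec, hsa.sq,
      Matrix.smul_mulVec, Matrix.one_mulVec]
  have hAsa : ∀ u v, QuadraticMap.polarBilin (minusQF F (d - 1) a b) (Matrix.toLin' α u) v =
      QuadraticMap.polarBilin (minusQF F (d - 1) a b) u (Matrix.toLin' α v) := by
    intro u v
    rw [Matrix.toLin'_apply, Matrix.toLin'_apply]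
    exact hsa.sa u v
  have hAy : ∀ y : GL (IM (d - 1)) F, y.1 * α = α * y.1 →
      ∀ v, Matrix.toLin' α (Matrix.toLin' y.1 v) = Matrix.toLin' y.1 (Matrix.toLin' α v) := by
    intro y hy v
    rw [Matrix.toLin'_apply, Matrix.toLin'_apply, Matrix.toLin'_apply, Matrix.toLin'_apply,
      Matrix.mulVec_mulVec, Matrix.mulVec_mulVec, hy]
  rcases index_cases hq hodd d (by omega) a b hab K α δ hK hsa r hr hΩ with hrq | ⟨j, hjodd, hj⟩
  · -- `r = p`: a unipotent element
    obtain ⟨f, -, hf⟩ := FiniteField.card F p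
    have hrp : r = p := by
      rw [← hq, hf] at hrq
      exact (Nat.prime_dvd_prime_iff_eq hr hp).mp (hr.dvd_of_dvd_pow hrq)
    set μ : Multiset ℕ := Multiset.replicate 2 2 + Multiset.replicate (2 * d - 4) 1 with hμ
    have hmem : ∀ t ∈ μ, t = 2 ∨ t = 1 := by
      intro t ht
      rw [hμ, Multiset.mem_add] at ht
      rcases ht with ht | ht
      · left; exact Multiset.eq_of_mem_replicate ht
      · right; exact Multiset.eq_of_mem_replicate ht
    have hsumμ : μ.sum = 2 * ((d - 1) + 1) := by
      rw [hμ, Multiset.sum_add, Multiset.sum_replicate, Multiset.sum_replicate]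
      simp only [smul_eq_mul]
      omega
    obtain ⟨x, hxO, hT⟩ := Cfsg.Agent.Lib.H11.OrthReal.exists_minus h2 (d - 1) a b hab μ
      (by
        intro t ht
        rcases hmem t ht with h | h <;> omega)
      (by
        intro t ht
        rw [hμ, Multiset.count_add, Multiset.count_replicate, Multiset.count_replicate]
        have ht1 : ¬ (1 = t) := by
          rintro rfl
          exact absurd ht (by decide)
        rw [if_neg ht1, add_zero]
        split_ifs
        · exact ⟨1, rfl⟩
        · exact ⟨0, rfl⟩)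
      ⟨1, by
        rw [hμ, Multiset.mem_add]
        right
        rw [Multiset.mem_replicate]
        exact ⟨by omega, rfl⟩, by decide⟩
      hsumμ
    rw [← hcoe] at hxO
    have hp2 : 2 ≤ p := hp.two_le
    have hxr : x ^ r = 1 := by
      rw [hrp]
      apply Cfsg.Agent.Lib.H11.OrthReal.pow_eq_one_of_rankType x hT
      intro t ht
      rcases hmem t ht with h | h <;> omega
    have hrank : ∀ y : Matrix (IM (d - 1)) (IM (d - 1)) F, RankType y μ →
        (y - 1).rank = 2 ∧ (y - 1) * (y - 1) = 0 := by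
      intro y hy
      constructor
      · have := hy 1
        rw [pow_one, hμ, Multiset.map_add, Multiset.map_replicate, Multiset.map_replicate,
          Multiset.sum_add, Multiset.sum_replicate, Multiset.sum_replicate] at this
        rw [this]
        simp
      · have := hy 2
        rw [hμ, Multiset.map_add, Multiset.map_replicate, Multiset.map_replicate,
          Multiset.sum_add, Multiset.sum_replicate, Multiset.sum_replicate] at this
        have h0 : ((y - 1) ^ 2).rank = 0 := by
          rw [this]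
          simp
        have := eq_zero_of_rank_eq_zero _ h0
        rwa [pow_two] at this
    apply frame x hxO hxr
    · intro h1
      have := (hrank x.1 hT).1
      rw [h1, Units.val_one, sub_self, Matrix.rank_zero] at this
      omega
    · intro g hgO hcomm
      set y := g⁻¹ * x * g with hy
      have hyO : y ∈ Cfsg.isometryGroup F ⇑(minusQF F (d - 1) a b) :=
        mul_mem (mul_mem (inv_mem hgO) hxO) hgO
      have hTy : RankType y.1 μ := by
        have := Cfsg.Agent.Lib.H11.OrthReal.RankType.conj (g⁻¹).1 g.1 (gim g) (gmi g) hT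
        rwa [hy, Units.val_mul, Units.val_mul]
      obtain ⟨hr2', hsq0⟩ := hrank y.1 hTy
      have hN : Matrix.toLin' (y.1 - 1) = Matrix.toLin' y.1 - 1 := by
        rw [map_sub, Matrix.toLin'_one]
        rfl
      apply unip_no_root (QuadraticMap.polarBilin (minusQF F (d - 1) a b))
        (fun u v => by
          rw [QuadraticMap.polarBilin_apply_apply, QuadraticMap.polarBilin_apply_apply,
            QuadraticMap.polar_comm])
        hndB h2 (Matrix.toLin' (y.1 - 1))
        (fun v => by
          rw [Matrix.toLin'_apply, Matrix.toLin'_apply, Matrix.mulVec_mulVec, hsq0,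
            Matrix.zero_mulVec])
        (by
          have : LinearMap.range (Matrix.toLin' (y.1 - 1)) =
              LinearMap.range (y.1 - 1).mulVecLin := by
            rw [Matrix.toLin'_apply']
          rw [this]
          exact hr2')
        (fun u v => by
          have e : ∀ w, w + Matrix.toLin' (y.1 - 1) w = Matrix.toLin' y.1 w := by
            intro w
            rw [hN, LinearMap.sub_apply, Module.End.one_apply]
            abel
          rw [e, e]
          exact polar_iso y hyO u v)
        (Matrix.toLin' α) δ hK.nsq hAsq hAsa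
        (fun v => by
          rw [hN, LinearMap.sub_apply, LinearMap.sub_apply, Module.End.one_apply,
            Module.End.one_apply, map_sub, hAy y hcomm])
  · -- `r ≠ p`: semisimple elements
    have hrp : r ≠ p := by
      rintro rfl
      -- `p ∣ q` and `p ∣ q ^ k ± 1`
      have hpq : r ∣ q := by
        obtain ⟨f, hf0, hf⟩ := FiniteField.card F r
        rw [← hq, hf]
        exact dvd_pow_self r (by
          have : 0 < (f : ℕ) := f.pos
          omega)
      rcases hj with ⟨-, hdv⟩ | ⟨-, hdv⟩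
      · have h1 : r ∣ q ^ (2 * j) := dvd_pow hpq (by have := hjodd.pos; omega)
        have h3 : 1 ≤ q ^ (2 * j) := Nat.one_le_pow _ _ hq1
        have h4 : r ∣ q ^ (2 * j) - (q ^ (2 * j) - 1) := Nat.dvd_sub h1 hdv
        have h5 : q ^ (2 * j) - (q ^ (2 * j) - 1) = 1 := by omega
        rw [h5] at h4
        exact hr.one_lt.ne' (Nat.dvd_one.mp h4)
      · have h1 : r ∣ q ^ d := dvd_pow hpq (by omega)
        have h4 : r ∣ (q ^ d + 1) - q ^ d := Nat.dvd_sub hdv h1
        rw [Nat.add_sub_cancel_left] at h4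
        exact hr.one_lt.ne' (Nat.dvd_one.mp h4)
    have hcases : (Odd (orderOf (q : ZMod r)) ∧ orderOf (q : ZMod r) + 1 ≤ d) ∨
        ∃ c, orderOf (q : ZMod r) = 2 * c ∧ Odd c ∧ c ≤ d := by
      rcases hj with ⟨hjd, hdv⟩ | ⟨hjd, hdv⟩
      · rcases ord_cases_sub q j hq1 hjodd hdv with ⟨h1, h3⟩ | ⟨c, h1, h3, h4⟩
        · left
          exact ⟨h1, by omega⟩
        · right
          exact ⟨c, h1, h3, by omega⟩
      · right
        rw [← hjd] at hdv
        obtain ⟨c, h1, h3, h4⟩ := ord_cases_add hr2 q j hq1 hjodd hdv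
        exact ⟨c, h1, h3, by omega⟩
    rcases hcases with ⟨hiodd, hid⟩ | ⟨c, hic, hcodd, hcd⟩
    · -- odd order
      obtain ⟨x, hxO, hxr, hxfix⟩ := exists_test_odd hq hr2 hrp d (by omega) a b hab hiodd hid
      rw [← hcoe] at hxO
      have hipos : 0 < orderOf (q : ZMod r) := hiodd.pos
      apply frame x hxO hxr
      · intro h1
        rw [h1, Units.val_one, Matrix.toLin'_one] at hxfix
        have : LinearMap.ker ((LinearMap.id : (IM (d - 1) → F) →ₗ[F] _) - 1) = ⊤ := by
          rw [LinearMap.ker_eq_top]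
          apply LinearMap.ext
          intro v
          simp
        rw [this, finrank_top, hfrV] at hxfix
        omega
      · intro g hgO hcomm
        set y := g⁻¹ * x * g with hy
        have hyO : y ∈ Cfsg.isometryGroup F ⇑(minusQF F (d - 1) a b) :=
          mul_mem (mul_mem (inv_mem hgO) hxO) hgO
        exact ss_no_root_odd (B := QuadraticMap.polarBilin (minusQF F (d - 1) a b))
          (y := Matrix.toLin' y.1) hq hrp hr2 hndB (polar_iso y hyO)
          (toLin'_pow_one y r (conj_pow_eq_one x g r hxr)) hiodd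
          (by rw [hy, finrank_fix_conj, hxfix, hfrV])
          (Matrix.toLin' α) δ hK.nsq hAsq (hAy y hcomm)
    · -- even order
      obtain ⟨x, hxO, hxr, hxfix⟩ := exists_test_even hq hr2 hrp d (by omega) a b hab c hic hcd
      rw [← hcoe] at hxO
      have hcpos : 0 < c := hcodd.pos
      apply frame x hxO hxr
      · intro h1
        rw [h1, Units.val_one, Matrix.toLin'_one] at hxfix
        have : LinearMap.ker ((LinearMap.id : (IM (d - 1) → F) →ₗ[F] _) - 1) = ⊤ := by
          rw [LinearMap.ker_eq_top]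
          apply LinearMap.ext
          intro v
          simp
        rw [this, finrank_top, hfrV] at hxfix
        omega
      · intro g hgO hcomm
        set y := g⁻¹ * x * g with hy
        have hyO : y ∈ Cfsg.isometryGroup F ⇑(minusQF F (d - 1) a b) :=
          mul_mem (mul_mem (inv_mem hgO) hxO) hgO
        exact ss_no_root_even (B := QuadraticMap.polarBilin (minusQF F (d - 1) a b))
          (y := Matrix.toLin' y.1) hq hrp hndB (polar_iso y hyO)
          (toLin'_pow_one y r (conj_pow_eq_one x g r hxr)) c hic.symm hcodd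
          (by rw [hy, finrank_fix_conj, hxfix, hfrV])
          (Matrix.toLin' α) δ hK.nsq h2 hAsq hAsa (hAy y hcomm)

end forward

end Cfsg.Agent.Lib.H23.OrF
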