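import Mathlib
import Cfsg.Agent.Lib.H13.SympBasis

set_option autoImplicit false

/-!
# Splitting off a non-degenerate plane with an orthogonal basis from a symmetric bilinear space,
and gluing endomorphisms (helper23)
-/

namespace Cfsg.Agent.Lib.H23.OrF

open Module
open Cfsg.Agent.Lib.H13

section split

variable {F V : Type*} [Field F] [AddCommGroup V] [Module F V]
variable (B : LinearMap.BilinForm F V) (hsym : ∀ u v, B u v = B v u) (e f : V)
  (he : B e e ≠ 0) (hf : B f f ≠ 0) (hef : B e f = 0)

/-- splitting off the plane spanned by two orthogonal non-isotropic vectors -/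
noncomputable def splitS : V ≃ₗ[F] F × F × pairOrthB B e f where
  toFun v := ((B e e)⁻¹ * B e v, (B f f)⁻¹ * B f v,
    ⟨v - ((B e e)⁻¹ * B e v) • e - ((B f f)⁻¹ * B f v) • f, by
      rw [mem_pairOrthB]
      have hfe : B f e = 0 := by rw [hsym, hef]
      simp only [map_sub, map_smul, smul_eq_mul, hef, hfe, mul_zero, sub_zero]
      constructor
      · rw [mul_comm, ← mul_assoc, mul_inv_cancel₀ he, one_mul, sub_self]
      · rw [mul_comm, ← mul_assoc, mul_inv_cancel₀ hf, one_mul, sub_self]⟩)
  map_add' v w := by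
    refine Prod.ext ?_ (Prod.ext ?_ (Subtype.ext ?_))
    · simp only [map_add, mul_add]; rfl
    · simp only [map_add, mul_add]; rfl
    · show v + w - ((B e e)⁻¹ * B e (v + w)) • e - ((B f f)⁻¹ * B f (v + w)) • f =
        (v - ((B e e)⁻¹ * B e v) • e - ((B f f)⁻¹ * B f v) • f) +
          (w - ((B e e)⁻¹ * B e w) • e - ((B f f)⁻¹ * B f w) • f)
      rw [map_add, map_add, mul_add, mul_add, add_smul, add_smul]
      abel
  map_smul' c v := by
    refine Prod.ext ?_ (Prod.ext ?_ (Subtype.ext ?_))
    · show (B e e)⁻¹ * B e (c • v) = c * ((B e e)⁻¹ * B e v)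
      rw [map_smul, smul_eq_mul]
      ring
    · show (B f f)⁻¹ * B f (c • v) = c * ((B f f)⁻¹ * B f v)
      rw [map_smul, smul_eq_mul]
      ring
    · show c • v - ((B e e)⁻¹ * B e (c • v)) • e - ((B f f)⁻¹ * B f (c • v)) • f =
        c • (v - ((B e e)⁻¹ * B e v) • e - ((B f f)⁻¹ * B f v) • f)
      rw [map_smul, map_smul, smul_eq_mul, smul_eq_mul, smul_sub, smul_sub, smul_smul, smul_smul]
      have h1 : (B e e)⁻¹ * (c * B e v) = c * ((B e e)⁻¹ * B e v) := by ring
      have h3 : (B f f)⁻¹ * (c * B f v) = c * ((B f f)⁻¹ * B f v) := by ring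
      rw [h1, h3]
  invFun p := p.1 • e + p.2.1 • f + (p.2.2 : V)
  left_inv v := by
    simp only
    abel
  right_inv p := by
    obtain ⟨s, t, w, hw⟩ := p
    rw [mem_pairOrthB] at hw
    have hfe : B f e = 0 := by rw [hsym, hef]
    have h1 : (B e e)⁻¹ * B e (s • e + t • f + w) = s := by
      simp only [map_add, map_smul, smul_eq_mul, hef, hw.1, mul_zero, add_zero]
      rw [mul_comm, mul_assoc, mul_inv_cancel₀ he, mul_one]
    have h3 : (B f f)⁻¹ * B f (s • e + t • f + w) = t := by
      simp only [map_add, map_smul, smul_eq_mul, hfe, hw.2, mul_zero, add_zero, zero_add]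
      rw [mul_comm, mul_assoc, mul_inv_cancel₀ hf, mul_one]
    apply Prod.ext
    · exact h1
    · apply Prod.ext
      · exact h3
      · apply Subtype.ext
        show s • e + t • f + w - ((B e e)⁻¹ * B e (s • e + t • f + w)) • e -
          ((B f f)⁻¹ * B f (s • e + t • f + w)) • f = w
        rw [h1, h3]
        abel

theorem splitS_symm_apply (p : F × F × pairOrthB B e f) :
    (splitS B hsym e f he hf hef).symm p = p.1 • e + p.2.1 • f + (p.2.2 : V) := rfl

theorem splitS_e : splitS B hsym e f he hf hef e = (1, 0, 0) := by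
  rw [← LinearEquiv.eq_symm_apply, splitS_symm_apply]
  simp

theorem splitS_f : splitS B hsym e f he hf hef f = (0, 1, 0) := by
  rw [← LinearEquiv.eq_symm_apply, splitS_symm_apply]
  simp

theorem splitS_w (w : pairOrthB B e f) : splitS B hsym e f he hf hef (w : V) = (0, 0, w) := by
  rw [← LinearEquiv.eq_symm_apply, splitS_symm_apply]
  simp

include hsym he hf hef in
theorem finrank_pairOrthS [FiniteDimensional F V] :
    finrank F V = finrank F (pairOrthB B e f) + 2 := by
  have := (splitS B hsym e f he hf hef).finrank_eq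
  rw [Module.finrank_prod, Module.finrank_prod, Module.finrank_self] at this
  omega

include hsym hef in
/-- the form in the split coordinates -/
theorem form_split (p p' : F × F × pairOrthB B e f) :
    B (p.1 • e + p.2.1 • f + (p.2.2 : V)) (p'.1 • e + p'.2.1 • f + (p'.2.2 : V)) =
      B e e * (p.1 * p'.1) + B f f * (p.2.1 * p'.2.1) + B (p.2.2 : V) (p'.2.2 : V) := by
  obtain ⟨s, t, w, hw⟩ := p
  obtain ⟨s', t', w', hw'⟩ := p'
  rw [mem_pairOrthB] at hw hw'
  have hfe : B f e = 0 := by rw [hsym, hef]
  have h1 : B w e = 0 := by rw [hsym]; exact hw.1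
  have h3 : B w f = 0 := by rw [hsym]; exact hw.2
  simp only [map_add, map_smul, LinearMap.add_apply, LinearMap.smul_apply, smul_eq_mul, hef, hfe,
    hw'.1, hw'.2, h1, h3, mul_zero, add_zero, zero_add]
  ring

include hsym he hf hef in
theorem nondeg_pairOrthS (hnd : ∀ v, (∀ w, B v w = 0) → v = 0) :
    ∀ x : pairOrthB B e f, (∀ y, restrictB B (pairOrthB B e f) x y = 0) → x = 0 := by
  intro x hx
  apply Subtype.ext
  apply hnd
  intro v
  have hxW := (mem_pairOrthB B e f x).mp x.2
  have hv : v = (splitS B hsym e f he hf hef).symm (splitS B hsym e f he hf hef v) := by simp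
  rw [hv, splitS_symm_apply, map_add, map_add, map_smul, map_smul, hsym _ e, hsym _ f, hxW.1,
    hxW.2]
  have h' : B (x : V) ((splitS B hsym e f he hf hef v).2.2 : V) = 0 := by
    rw [← restrictB_apply]; exact hx _
  rw [h']
  simp

include hsym he hf hef in
/-- two linear maps agreeing on `e`, `f` and the orthogonal complement are equal -/
theorem ext_split {V' : Type*} [AddCommGroup V'] [Module F V'] (T₁ T₂ : V →ₗ[F] V')
    (h1 : T₁ e = T₂ e) (h3 : T₁ f = T₂ f) (h4 : ∀ w : pairOrthB B e f, T₁ (w : V) = T₂ (w : V)) :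
    T₁ = T₂ := by
  apply LinearMap.ext
  intro v
  have hv : v = (splitS B hsym e f he hf hef).symm (splitS B hsym e f he hf hef v) := by simp
  rw [hv, splitS_symm_apply, map_add, map_add, map_smul, map_smul, map_add, map_add, map_smul,
    map_smul, h1, h3, h4]

end split

section glue

variable {F V : Type*} [Field F] [AddCommGroup V] [Module F V]
variable (B : LinearMap.BilinForm F V) (hsym : ∀ u v, B u v = B v u) (e f : V)
  (he : B e e ≠ 0) (hf : B f f ≠ 0) (hef : B e f = 0)

/-- the model endomorphism on the split coordinates -/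
def aProd (W : Type*) [AddCommGroup W] [Module F W] (a β β' : F) (AW : End F W) :
    End F (F × F × W) where
  toFun p := (a * p.1 + β' * p.2.1, β * p.1 - a * p.2.1, AW p.2.2)
  map_add' p p' := by
    refine Prod.ext ?_ (Prod.ext ?_ ?_)
    · simp only [Prod.fst_add, Prod.snd_add]; ring
    · simp only [Prod.fst_add, Prod.snd_add]; ring
    · simp only [Prod.snd_add, map_add]
  map_smul' c p := by
    refine Prod.ext ?_ (Prod.ext ?_ ?_)
    · simp only [Prod.smul_fst, Prod.smul_snd, smul_eq_mul, RingHom.id_apply]; ring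
    · simp only [Prod.smul_fst, Prod.smul_snd, smul_eq_mul, RingHom.id_apply]; ring
    · simp only [Prod.smul_snd, map_smul, RingHom.id_apply]

/-- gluing a plane endomorphism with an endomorphism of the orthogonal complement -/
noncomputable def glueS (a β β' : F) (AW : End F (pairOrthB B e f)) : End F V :=
  ((splitS B hsym e f he hf hef).symm : (F × F × pairOrthB B e f) →ₗ[F] V) ∘ₗ
    aProd (pairOrthB B e f) a β β' AW ∘ₗ
      ((splitS B hsym e f he hf hef : V ≃ₗ[F] F × F × pairOrthB B e f) :
        V →ₗ[F] F × F × pairOrthB B e f)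

variable (a β β' : F) (AW : End F (pairOrthB B e f))

theorem glueS_apply (v : V) :
    glueS B hsym e f he hf hef a β β' AW v =
      (splitS B hsym e f he hf hef).symm
        (aProd (pairOrthB B e f) a β β' AW (splitS B hsym e f he hf hef v)) := rfl

theorem glueS_e : glueS B hsym e f he hf hef a β β' AW e = a • e + β • f := by
  rw [glueS_apply, splitS_e, splitS_symm_apply]
  simp [aProd]

theorem glueS_f : glueS B hsym e f he hf hef a β β' AW f = β' • e - a • f := by
  rw [glueS_apply, splitS_f, splitS_symm_apply]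
  simp [aProd, sub_eq_add_neg]

theorem glueS_w (w : pairOrthB B e f) :
    glueS B hsym e f he hf hef a β β' AW (w : V) = (AW w : V) := by
  rw [glueS_apply, splitS_w, splitS_symm_apply]
  simp [aProd]

theorem glueS_sq (δ : F) (hδ : a * a + β * β' = δ) (hAW : ∀ w, AW (AW w) = δ • w) (v : V) :
    glueS B hsym e f he hf hef a β β' AW (glueS B hsym e f he hf hef a β β' AW v) = δ • v := by
  rw [glueS_apply, glueS_apply, LinearEquiv.apply_symm_apply]
  have hv : δ • v = (splitS B hsym e f he hf hef).symm (δ • splitS B hsym e f he hf hef v) := by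
    rw [map_smul, LinearEquiv.symm_apply_apply]
  rw [hv]
  congr 1
  refine Prod.ext ?_ (Prod.ext ?_ ?_)
  · simp only [aProd, LinearMap.coe_mk, AddHom.coe_mk, Prod.smul_fst, smul_eq_mul]
    linear_combination ((splitS B hsym e f he hf hef) v).1 * hδ
  · simp only [aProd, LinearMap.coe_mk, AddHom.coe_mk, Prod.smul_fst, Prod.smul_snd, smul_eq_mul]
    linear_combination ((splitS B hsym e f he hf hef) v).2.1 * hδ
  · simp only [aProd, LinearMap.coe_mk, AddHom.coe_mk, Prod.smul_snd]
    exact hAW _

theorem glueS_sa (hβ : β * B f f = β' * B e e)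
    (hAW : ∀ u w : pairOrthB B e f, B (AW u : V) (w : V) = B (u : V) (AW w : V)) (u v : V) :
    B (glueS B hsym e f he hf hef a β β' AW u) v =
      B u (glueS B hsym e f he hf hef a β β' AW v) := by
  obtain ⟨pu, rfl⟩ : ∃ pu, u = (splitS B hsym e f he hf hef).symm pu :=
    ⟨splitS B hsym e f he hf hef u, by simp⟩
  obtain ⟨pv, rfl⟩ : ∃ pv, v = (splitS B hsym e f he hf hef).symm pv :=
    ⟨splitS B hsym e f he hf hef v, by simp⟩
  rw [glueS_apply, glueS_apply, LinearEquiv.apply_symm_apply, LinearEquiv.apply_symm_apply,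
    splitS_symm_apply, splitS_symm_apply, splitS_symm_apply, splitS_symm_apply,
    form_split B hsym e f hef, form_split B hsym e f hef]
  simp only [aProd, LinearMap.coe_mk, AddHom.coe_mk]
  rw [hAW]
  linear_combination (pu.1 * pv.2.1 - pu.2.1 * pv.1) * hβ

end glue

end Cfsg.Agent.Lib.H23.OrF
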