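import Mathlib
import Cfsg.Agent.Lib.H23.OrFK

set_option autoImplicit false

/-!
# Self-adjoint square roots of a scalar adapted to an isometry with square `±1` (helper23)

Over a finite field of odd characteristic, for a non-degenerate symmetric bilinear space `(V, B)`:
* `even_root`: if `dim V` is even there is a self-adjoint `A` with `A² = δ`;
* `anti_root`: if `x` is skew-adjoint with `x² = -1` there is a self-adjoint `A` with `A² = δ`
  anticommuting with `x` (and a non-isotropic `e` with `A` preserving the plane `⟨e, x e⟩`);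
* `comm_root`: if `x` is an involutory isometry whose eigenspaces are even-dimensional there is a
  self-adjoint `A` with `A² = δ` commuting with `x`.
-/

namespace Cfsg.Agent.Lib.H23.OrF

open Module
open Cfsg.Agent.Lib.H13

universe u

section diag

variable {F : Type*} [Field F] [Fintype F]

/-- a diagonal binary form over a finite field of odd characteristic is universal -/
theorem exists_diag_eq' (h2 : (2 : F) ≠ 0) (a c : F) (ha : a ≠ 0) (hc : c ≠ 0) (t : F) :
    ∃ x y : F, a * x ^ 2 + c * y ^ 2 = t := by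
  classical
  have hchar : ringChar F ≠ 2 := by
    intro hc2
    apply h2
    have : ((2 : ℕ) : F) = 0 := by
      rw [← hc2]
      exact ringChar.Nat.cast_ringChar
    exact_mod_cast this
  have hodd : Fintype.card F % 2 = 1 := FiniteField.odd_card_of_char_ne_two hchar
  obtain ⟨u, w, huw⟩ := FiniteField.exists_root_sum_quadratic (R := F)
    (f := Polynomial.C a * Polynomial.X ^ 2) (g := Polynomial.C c * Polynomial.X ^ 2 - Polynomial.C t)
    (Polynomial.degree_C_mul_X_pow 2 ha)
    (by
      rw [Polynomial.degree_sub_C, Polynomial.degree_C_mul_X_pow 2 hc]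
      · rfl
      · rw [Polynomial.degree_C_mul_X_pow 2 hc]; norm_num)
    hodd
  refine ⟨u, w, ?_⟩
  simp only [Polynomial.eval_mul, Polynomial.eval_C, Polynomial.eval_pow, Polynomial.eval_X,
    Polynomial.eval_sub] at huw
  linear_combination huw

end diag

section even

variable {F : Type*} [Field F] [Fintype F]

theorem even_root_aux (h2 : (2 : F) ≠ 0) (δ : F) (n : ℕ) :
    ∀ {V : Type u} [AddCommGroup V] [Module F V] [FiniteDimensional F V]
    (B : LinearMap.BilinForm F V), (∀ u v, B u v = B v u) → (∀ v, (∀ w, B v w = 0) → v = 0) →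
    finrank F V = 2 * n →
    ∃ A : End F V, (∀ v, A (A v) = δ • v) ∧ ∀ u v, B (A u) v = B u (A v) := by
  induction n with
  | zero =>
    intro V _ _ _ B _ _ hn
    have : Subsingleton V := by
      rw [mul_zero, Module.finrank_zero_iff] at hn
      exact hn
    exact ⟨0, fun v => Subsingleton.elim _ _, fun u v => by simp⟩
  | succ n ih =>
    intro V _ _ _ B hsym hnd hn
    letI : Invertible (2 : F) := invertibleOfNonzero h2
    obtain ⟨v, hv⟩ := LinearMap.BilinForm.exists_orthogonal_basis (B := B) ⟨hsym⟩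
    set i0 : Fin (finrank F V) := ⟨0, by omega⟩ with hi0
    set i1 : Fin (finrank F V) := ⟨1, by omega⟩ with hi1
    have h01 : i0 ≠ i1 := by
      intro h
      have := congrArg Fin.val h
      simp [hi0, hi1] at this
    have he : B (v i0) (v i0) ≠ 0 := hv.not_isOrtho_basis_self_of_separatingLeft hnd i0
    have hf : B (v i1) (v i1) ≠ 0 := hv.not_isOrtho_basis_self_of_separatingLeft hnd i1
    have hef : B (v i0) (v i1) = 0 := hv h01
    have hfr := finrank_pairOrthS B hsym (v i0) (v i1) he hf hef
    obtain ⟨AW, hAW1, hAW2⟩ := ih (restrictB B (pairOrthB B (v i0) (v i1)))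
      (fun u w => hsym u w) (nondeg_pairOrthS B hsym (v i0) (v i1) he hf hef hnd) (by omega)
    obtain ⟨a, β, hab⟩ := exists_diag_eq' h2 1 (B (v i1) (v i1) / B (v i0) (v i0)) one_ne_zero
      (div_ne_zero hf he) δ
    refine ⟨glueS B hsym (v i0) (v i1) he hf hef a β (β * (B (v i1) (v i1) / B (v i0) (v i0))) AW,
      ?_, ?_⟩
    · apply glueS_sq
      · linear_combination hab
      · exact hAW1
    · apply glueS_sa
      · field_simp
      · intro u w
        exact hAW2 u w

/-- an even-dimensional non-degenerate symmetric bilinear space carries a self-adjoint square root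
of any scalar -/
theorem even_root (h2 : (2 : F) ≠ 0) (δ : F) {V : Type u} [AddCommGroup V] [Module F V]
    [FiniteDimensional F V] (B : LinearMap.BilinForm F V) (hsym : ∀ u v, B u v = B v u)
    (hnd : ∀ v, (∀ w, B v w = 0) → v = 0) (hev : Even (finrank F V)) :
    ∃ A : End F V, (∀ v, A (A v) = δ • v) ∧ ∀ u v, B (A u) v = B u (A v) := by
  obtain ⟨n, hn⟩ := hev
  exact even_root_aux h2 δ n B hsym hnd (by omega)

end even

section anti

variable {F : Type*} [Field F] [Fintype F]

/-- the gluing step for a skew-adjoint `x` with `x² = -1` -/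
theorem anti_step (h2 : (2 : F) ≠ 0) (δ : F) {V : Type u} [AddCommGroup V] [Module F V]
    (B : LinearMap.BilinForm F V) (x : End F V) (hsym : ∀ u v, B u v = B v u)
    (hskew : ∀ u v, B (x u) v = - B u (x v)) (hsq : ∀ v, x (x v) = -v)
    (e : V) (he : B e e ≠ 0) :
    ∃ (hf : B (x e) (x e) ≠ 0) (hef : B e (x e) = 0)
      (hW : ∀ w ∈ pairOrthB B e (x e), x w ∈ pairOrthB B e (x e)),
      ∀ AW : End F (pairOrthB B e (x e)), (∀ w, AW (AW w) = δ • w) →
        (∀ u w : pairOrthB B e (x e), B (AW u : V) (w : V) = B (u : V) (AW w : V)) →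
        (∀ w, AW (x.restrict hW w) = - x.restrict hW (AW w)) →
        ∃ (A : End F V) (a β : F), (∀ v, A (A v) = δ • v) ∧ (∀ u v, B (A u) v = B u (A v)) ∧
          (∀ v, A (x v) = - x (A v)) ∧ A e = a • e + β • x e ∧ A (x e) = β • e - a • x e := by
  have hff : B (x e) (x e) = B e e := by
    rw [hskew, hsq, map_neg, neg_neg]
  have hef : B e (x e) = 0 := by
    have h1 := hskew e e
    rw [hsym (x e) e] at h1
    have h3 : (2 : F) * B e (x e) = 0 := by linear_combination h1
    exact (mul_eq_zero.mp h3).resolve_left h2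
  have hf : B (x e) (x e) ≠ 0 := by rw [hff]; exact he
  have hW : ∀ w ∈ pairOrthB B e (x e), x w ∈ pairOrthB B e (x e) := by
    intro w hw
    rw [mem_pairOrthB] at hw ⊢
    constructor
    · have := hskew e w
      rw [hw.2] at this
      linear_combination this
    · have := hskew (x e) w
      rw [hsq, map_neg, LinearMap.neg_apply, hw.1, neg_zero] at this
      linear_combination this
  refine ⟨hf, hef, hW, ?_⟩
  intro AW hAW1 hAW2 hAW3
  obtain ⟨a, β, hab⟩ := exists_diag_eq' h2 1 1 one_ne_zero one_ne_zero δ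
  refine ⟨glueS B hsym e (x e) he hf hef a β β AW, a, β, ?_, ?_, ?_, ?_, ?_⟩
  · apply glueS_sq
    · linear_combination hab
    · exact hAW1
  · apply glueS_sa
    · rw [hff]
    · exact hAW2
  · have key : glueS B hsym e (x e) he hf hef a β β AW ∘ₗ x =
        - (x ∘ₗ glueS B hsym e (x e) he hf hef a β β AW) := by
      apply ext_split B hsym e (x e) he hf hef
      · rw [LinearMap.comp_apply, LinearMap.neg_apply, LinearMap.comp_apply, glueS_f, glueS_e,
          map_add, map_smul, map_smul, hsq]
        module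
      · rw [LinearMap.comp_apply, LinearMap.neg_apply, LinearMap.comp_apply, hsq, map_neg, glueS_f,
          glueS_e, map_sub, map_smul, map_smul, hsq]
        module
      · intro w
        rw [LinearMap.comp_apply, LinearMap.neg_apply, LinearMap.comp_apply, glueS_w]
        have h1 : x (w : V) = ((x.restrict hW w : pairOrthB B e (x e)) : V) := rfl
        rw [h1, glueS_w, hAW3]
        rfl
    intro v
    have := congrArg (fun T : V →ₗ[F] V => T v) key
    simpa using this
  · exact glueS_e B hsym e (x e) he hf hef a β β AW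
  · exact glueS_f B hsym e (x e) he hf hef a β β AW

theorem anti_root_aux (h2 : (2 : F) ≠ 0) (δ : F) (n : ℕ) :
    ∀ {V : Type u} [AddCommGroup V] [Module F V] [FiniteDimensional F V]
    (B : LinearMap.BilinForm F V) (x : End F V), (∀ u v, B u v = B v u) →
    (∀ v, (∀ w, B v w = 0) → v = 0) → (∀ u v, B (x u) v = - B u (x v)) → (∀ v, x (x v) = -v) →
    finrank F V = n →
    ∃ A : End F V, (∀ v, A (A v) = δ • v) ∧ (∀ u v, B (A u) v = B u (A v)) ∧
      ∀ v, A (x v) = - x (A v) := by
  induction n using Nat.strong_induction_on with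
  | _ n ih =>
    intro V _ _ _ B x hsym hnd hskew hsq hn
    by_cases h0 : n = 0
    · subst h0
      have : Subsingleton V := by
        rw [Module.finrank_zero_iff] at hn
        exact hn
      exact ⟨0, fun v => Subsingleton.elim _ _, fun u v => by simp, fun v => Subsingleton.elim _ _⟩
    · letI : Invertible (2 : F) := invertibleOfNonzero h2
      obtain ⟨v, hv⟩ := LinearMap.BilinForm.exists_orthogonal_basis (B := B) ⟨hsym⟩
      set i0 : Fin (finrank F V) := ⟨0, by omega⟩ with hi0
      have he : B (v i0) (v i0) ≠ 0 := hv.not_isOrtho_basis_self_of_separatingLeft hnd i0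
      obtain ⟨hf, hef, hW, hstep⟩ := anti_step h2 δ B x hsym hskew hsq (v i0) he
      have hfr := finrank_pairOrthS B hsym (v i0) (x (v i0)) he hf hef
      obtain ⟨AW, hAW1, hAW2, hAW3⟩ := ih (finrank F (pairOrthB B (v i0) (x (v i0)))) (by omega)
        (restrictB B (pairOrthB B (v i0) (x (v i0)))) (x.restrict hW)
        (fun u w => hsym u w) (nondeg_pairOrthS B hsym (v i0) (x (v i0)) he hf hef hnd)
        (fun u w => hskew u w) (fun w => Subtype.ext (hsq w)) rfl
      obtain ⟨A, a, β, h1, h3, h4, -, -⟩ := hstep AW hAW1 (fun u w => hAW2 u w) hAW3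
      exact ⟨A, h1, h3, h4⟩

/-- a self-adjoint square root of `δ` anticommuting with a skew-adjoint `x`, `x² = -1` -/
theorem anti_root (h2 : (2 : F) ≠ 0) (δ : F) {V : Type u} [AddCommGroup V] [Module F V]
    [FiniteDimensional F V] [Nontrivial V]
    (B : LinearMap.BilinForm F V) (x : End F V) (hsym : ∀ u v, B u v = B v u)
    (hnd : ∀ v, (∀ w, B v w = 0) → v = 0) (hskew : ∀ u v, B (x u) v = - B u (x v))
    (hsq : ∀ v, x (x v) = -v) :
    ∃ (A : End F V) (e : V) (a β : F), B e e ≠ 0 ∧ B e (x e) = 0 ∧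
      (∀ v, A (A v) = δ • v) ∧ (∀ u v, B (A u) v = B u (A v)) ∧
      (∀ v, A (x v) = - x (A v)) ∧ A e = a • e + β • x e ∧ A (x e) = β • e - a • x e := by
  letI : Invertible (2 : F) := invertibleOfNonzero h2
  obtain ⟨v, hv⟩ := LinearMap.BilinForm.exists_orthogonal_basis (B := B) ⟨hsym⟩
  have hpos : 0 < finrank F V := Module.finrank_pos
  set i0 : Fin (finrank F V) := ⟨0, hpos⟩ with hi0
  have he : B (v i0) (v i0) ≠ 0 := hv.not_isOrtho_basis_self_of_separatingLeft hnd i0
  obtain ⟨hf, hef, hW, hstep⟩ := anti_step h2 δ B x hsym hskew hsq (v i0) he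
  obtain ⟨AW, hAW1, hAW2, hAW3⟩ := anti_root_aux h2 δ
    (finrank F (pairOrthB B (v i0) (x (v i0))))
    (restrictB B (pairOrthB B (v i0) (x (v i0)))) (x.restrict hW)
    (fun u w => hsym u w) (nondeg_pairOrthS B hsym (v i0) (x (v i0)) he hf hef hnd)
    (fun u w => hskew u w) (fun w => Subtype.ext (hsq w)) rfl
  obtain ⟨A, a, β, h1, h3, h4, h5, h6⟩ := hstep AW hAW1 (fun u w => hAW2 u w) hAW3
  exact ⟨A, v i0, a, β, he, hef, h1, h3, h4, h5, h6⟩

end anti

section invol

variable {F : Type*} [Field F] {V : Type u} [AddCommGroup V] [Module F V]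
variable (x : End F V) (hx : ∀ v, x (x v) = v) (h2 : (2 : F) ≠ 0)

/-- the eigenspace decomposition of an involution -/
noncomputable def eigSplit : V ≃ₗ[F] LinearMap.ker (x - 1) × LinearMap.ker (x + 1) where
  toFun v := (⟨(2 : F)⁻¹ • (v + x v), by
      rw [LinearMap.mem_ker, map_smul, LinearMap.sub_apply, Module.End.one_apply, map_add, hx]
      rw [add_comm (x v) v, sub_self, smul_zero]⟩,
    ⟨(2 : F)⁻¹ • (v - x v), by
      rw [LinearMap.mem_ker, map_smul, LinearMap.add_apply, Module.End.one_apply, map_sub, hx]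
      rw [sub_add_sub_cancel', sub_self, smul_zero]⟩)
  map_add' v w := by
    refine Prod.ext (Subtype.ext ?_) (Subtype.ext ?_)
    · show (2 : F)⁻¹ • (v + w + x (v + w)) = (2 : F)⁻¹ • (v + x v) + (2 : F)⁻¹ • (w + x w)
      rw [map_add, ← smul_add]
      congr 1
      abel
    · show (2 : F)⁻¹ • (v + w - x (v + w)) = (2 : F)⁻¹ • (v - x v) + (2 : F)⁻¹ • (w - x w)
      rw [map_add, ← smul_add]
      congr 1
      abel
  map_smul' c v := by
    refine Prod.ext (Subtype.ext ?_) (Subtype.ext ?_)
    · show (2 : F)⁻¹ • (c • v + x (c • v)) = c • ((2 : F)⁻¹ • (v + x v))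
      rw [map_smul, ← smul_add, smul_comm]
    · show (2 : F)⁻¹ • (c • v - x (c • v)) = c • ((2 : F)⁻¹ • (v - x v))
      rw [map_smul, ← smul_sub, smul_comm]
  invFun p := (p.1 : V) + (p.2 : V)
  left_inv v := by
    show (2 : F)⁻¹ • (v + x v) + (2 : F)⁻¹ • (v - x v) = v
    rw [← smul_add]
    have : v + x v + (v - x v) = (2 : F) • v := by
      rw [two_smul]
      abel
    rw [this, smul_smul, inv_mul_cancel₀ h2, one_smul]
  right_inv p := by
    obtain ⟨⟨u, hu⟩, ⟨w, hw⟩⟩ := p
    have hu' : x u = u := by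
      rw [LinearMap.mem_ker, LinearMap.sub_apply, Module.End.one_apply] at hu
      exact sub_eq_zero.mp hu
    have hw' : x w = -w := by
      rw [LinearMap.mem_ker, LinearMap.add_apply, Module.End.one_apply] at hw
      exact eq_neg_of_add_eq_zero_left hw
    refine Prod.ext (Subtype.ext ?_) (Subtype.ext ?_)
    · show (2 : F)⁻¹ • (u + w + x (u + w)) = u
      rw [map_add, hu', hw']
      have : u + w + (u + -w) = (2 : F) • u := by
        rw [two_smul]
        abel
      rw [this, smul_smul, inv_mul_cancel₀ h2, one_smul]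
    · show (2 : F)⁻¹ • (u + w - x (u + w)) = w
      rw [map_add, hu', hw']
      have : u + w - (u + -w) = (2 : F) • w := by
        rw [two_smul]
        abel
      rw [this, smul_smul, inv_mul_cancel₀ h2, one_smul]

theorem eigSplit_symm_apply (p : LinearMap.ker (x - 1) × LinearMap.ker (x + 1)) :
    (eigSplit x hx h2).symm p = (p.1 : V) + (p.2 : V) := rfl

theorem eig_pos (u : LinearMap.ker (x - 1)) : x (u : V) = u := by
  have hu := u.2
  rw [LinearMap.mem_ker, LinearMap.sub_apply, Module.End.one_apply] at hu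
  exact sub_eq_zero.mp hu

theorem eig_neg (w : LinearMap.ker (x + 1)) : x (w : V) = -(w : V) := by
  have hw := w.2
  rw [LinearMap.mem_ker, LinearMap.add_apply, Module.End.one_apply] at hw
  exact eq_neg_of_add_eq_zero_left hw

theorem x_symm (p : LinearMap.ker (x - 1) × LinearMap.ker (x + 1)) :
    x ((eigSplit x hx h2).symm p) = (eigSplit x hx h2).symm (p.1, -p.2) := by
  rw [eigSplit_symm_apply, eigSplit_symm_apply, map_add, eig_pos, eig_neg]
  rfl

include hx h2 in
theorem finrank_eigSplit [FiniteDimensional F V] :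
    finrank F V = finrank F (LinearMap.ker (x - 1)) + finrank F (LinearMap.ker (x + 1)) := by
  rw [(eigSplit x hx h2).finrank_eq, Module.finrank_prod]

include hx h2 in
/-- the determinant of an involution -/
theorem det_invol [FiniteDimensional F V] :
    LinearMap.det x = (-1) ^ finrank F (LinearMap.ker (x + 1)) := by
  have key : x = ((eigSplit x hx h2).symm : _ →ₗ[F] V) ∘ₗ
      (LinearMap.prodMap (LinearMap.id : LinearMap.ker (x - 1) →ₗ[F] _)
        ((-1 : F) • (LinearMap.id : LinearMap.ker (x + 1) →ₗ[F] _))) ∘ₗ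
      (((eigSplit x hx h2).symm).symm : V →ₗ[F] _) := by
    apply LinearMap.ext
    intro v
    obtain ⟨p, rfl⟩ : ∃ p, v = (eigSplit x hx h2).symm p := ⟨eigSplit x hx h2 v, by simp⟩
    rw [x_symm]
    simp
  have h1 := congrArg LinearMap.det key
  rw [LinearMap.det_conj, LinearMap.det_prodMap, LinearMap.det_id, one_mul,
    LinearMap.det_smul, LinearMap.det_id, mul_one] at h1
  exact h1

end invol

section comm

variable {F : Type*} [Field F] [Fintype F] {V : Type u} [AddCommGroup V] [Module F V]
  [FiniteDimensional F V]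

/-- a self-adjoint square root of `δ` commuting with an involutory isometry with even-dimensional
eigenspaces -/
theorem comm_root (h2 : (2 : F) ≠ 0) (δ : F) (B : LinearMap.BilinForm F V) (x : End F V)
    (hsym : ∀ u v, B u v = B v u) (hnd : ∀ v, (∀ w, B v w = 0) → v = 0)
    (hiso : ∀ u v, B (x u) (x v) = B u v) (hx : ∀ v, x (x v) = v)
    (hev1 : Even (finrank F (LinearMap.ker (x - 1))))
    (hev2 : Even (finrank F (LinearMap.ker (x + 1)))) :
    ∃ A : End F V, (∀ v, A (A v) = δ • v) ∧ (∀ u v, B (A u) v = B u (A v)) ∧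
      ∀ v, A (x v) = x (A v) := by
  -- orthogonality of the eigenspaces
  have horth : ∀ (u : LinearMap.ker (x - 1)) (w : LinearMap.ker (x + 1)), B (u : V) (w : V) = 0 := by
    intro u w
    have h1 := hiso (u : V) (w : V)
    rw [eig_pos, eig_neg, map_neg] at h1
    have h3 : (2 : F) * B (u : V) (w : V) = 0 := by linear_combination -h1
    exact (mul_eq_zero.mp h3).resolve_left h2
  have hform : ∀ p p' : LinearMap.ker (x - 1) × LinearMap.ker (x + 1),
      B ((eigSplit x hx h2).symm p) ((eigSplit x hx h2).symm p') =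
        B (p.1 : V) (p'.1 : V) + B (p.2 : V) (p'.2 : V) := by
    intro p p'
    rw [eigSplit_symm_apply, eigSplit_symm_apply, map_add, map_add, LinearMap.add_apply,
      LinearMap.add_apply, horth, hsym (p.2 : V) (p'.1 : V), horth]
    ring
  have hnd1 : ∀ u : LinearMap.ker (x - 1),
      (∀ u', restrictB B (LinearMap.ker (x - 1)) u u' = 0) → u = 0 := by
    intro u hu
    apply Subtype.ext
    apply hnd
    intro v
    obtain ⟨p, rfl⟩ : ∃ p, v = (eigSplit x hx h2).symm p := ⟨eigSplit x hx h2 v, by simp⟩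
    rw [eigSplit_symm_apply, map_add, horth, add_zero]
    exact hu p.1
  have hnd2 : ∀ w : LinearMap.ker (x + 1),
      (∀ w', restrictB B (LinearMap.ker (x + 1)) w w' = 0) → w = 0 := by
    intro w hw
    apply Subtype.ext
    apply hnd
    intro v
    obtain ⟨p, rfl⟩ : ∃ p, v = (eigSplit x hx h2).symm p := ⟨eigSplit x hx h2 v, by simp⟩
    rw [eigSplit_symm_apply, map_add, hsym, horth, zero_add]
    exact hw p.2
  obtain ⟨A1, hA1s, hA1a⟩ := even_root h2 δ (restrictB B (LinearMap.ker (x - 1)))
    (fun u w => hsym u w) hnd1 hev1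
  obtain ⟨A2, hA2s, hA2a⟩ := even_root h2 δ (restrictB B (LinearMap.ker (x + 1)))
    (fun u w => hsym u w) hnd2 hev2
  set A : End F V := ((eigSplit x hx h2).symm : _ →ₗ[F] V) ∘ₗ (LinearMap.prodMap A1 A2) ∘ₗ
    ((eigSplit x hx h2 : V ≃ₗ[F] _) : V →ₗ[F] _) with hA
  have hAp : ∀ p, A ((eigSplit x hx h2).symm p) = (eigSplit x hx h2).symm (A1 p.1, A2 p.2) := by
    intro p
    rw [hA]
    simp
  refine ⟨A, ?_, ?_, ?_⟩
  · intro v
    obtain ⟨p, rfl⟩ : ∃ p, v = (eigSplit x hx h2).symm p := ⟨eigSplit x hx h2 v, by simp⟩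
    rw [hAp, hAp]
    simp only
    rw [hA1s, hA2s, ← map_smul]
    rfl
  · intro u v
    obtain ⟨p, rfl⟩ : ∃ p, u = (eigSplit x hx h2).symm p := ⟨eigSplit x hx h2 u, by simp⟩
    obtain ⟨p', rfl⟩ : ∃ p', v = (eigSplit x hx h2).symm p' := ⟨eigSplit x hx h2 v, by simp⟩
    rw [hAp, hAp, hform, hform]
    simp only
    have e1 := hA1a p.1 p'.1
    have e2 := hA2a p.2 p'.2
    rw [restrictB_apply, restrictB_apply] at e1 e2
    rw [e1, e2]
  · intro v
    obtain ⟨p, rfl⟩ : ∃ p, v = (eigSplit x hx h2).symm p := ⟨eigSplit x hx h2 v, by simp⟩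
    rw [x_symm, hAp, hAp, x_symm]
    simp only [map_neg]

end comm

end Cfsg.Agent.Lib.H23.OrF
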