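import Mathlib
import Cfsg.Agent.Lib.H11.ConfOrth15

set_option autoImplicit false

/-!
# Reflections adjusting a conjugating isometry into `Ω` (helper23)
-/

namespace Cfsg.Agent.Lib.H23.OrF

open Matrix Module
open Cfsg.Agent.Lib.H4 Cfsg.Agent.Lib.H13.HypPairs Cfsg.Agent.Lib.H11.ConfOrth

section refl

variable {F : Type*} [Field F] {n : Type} [Fintype n] [DecidableEq n]
  (Q : QuadraticForm F (n → F))

omit [DecidableEq n] in
/-- an isometry preserves the polar form -/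
theorem polar_of_iso (X : Matrix n n F) (hX : ∀ w, Q (X *ᵥ w) = Q w) (u v : n → F) :
    QuadraticMap.polar (⇑Q) (X *ᵥ u) (X *ᵥ v) = QuadraticMap.polar (⇑Q) u v := by
  unfold QuadraticMap.polar
  rw [← Matrix.mulVec_add, hX, hX, hX]

/-- conjugating a reflection by an isometry -/
theorem conj_refl (X : Matrix n n F) (hX : ∀ w, Q (X *ᵥ w) = Q w) (v : n → F) :
    X * Cfsg.reflectionMatrix ⇑Q v = Cfsg.reflectionMatrix ⇑Q (X *ᵥ v) * X := by
  apply Matrix.ext_iff_mulVec.mpr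
  intro y
  rw [← Matrix.mulVec_mulVec, ← Matrix.mulVec_mulVec, reflectionMatrix_mulVec,
    reflectionMatrix_mulVec, Matrix.mulVec_sub, Matrix.mulVec_smul, hX, polar_of_iso Q X hX]

/-- the product of two reflections in orthogonal vectors -/
theorem refl_refl_apply (a b : n → F) (hab : QuadraticMap.polar (⇑Q) a b = 0) (v : n → F) :
    (Cfsg.reflectionMatrix ⇑Q a * Cfsg.reflectionMatrix ⇑Q b) *ᵥ v =
      v - ((Q a)⁻¹ * QuadraticMap.polar (⇑Q) a v) • a -
        ((Q b)⁻¹ * QuadraticMap.polar (⇑Q) b v) • b := by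
  rw [← Matrix.mulVec_mulVec, reflectionMatrix_mulVec Q b, reflectionMatrix_mulVec,
    QuadraticMap.polar_sub_right, QuadraticMap.polar_smul_right, hab, smul_zero, sub_zero]
  abel

variable (X : Matrix n n F) (hX : ∀ w, Q (X *ᵥ w) = Q w) (hX2 : ∀ w, X *ᵥ (X *ᵥ w) = -w)

include hX hX2 in
theorem polar_skew (u v : n → F) :
    QuadraticMap.polar (⇑Q) (X *ᵥ u) v = - QuadraticMap.polar (⇑Q) u (X *ᵥ v) := by
  have h1 := polar_of_iso Q X hX u (X *ᵥ v)
  rw [hX2, QuadraticMap.polar_neg_right] at h1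
  linear_combination -h1

include hX hX2 in
theorem polar_self_X (h2 : (2 : F) ≠ 0) (u : n → F) : QuadraticMap.polar (⇑Q) u (X *ᵥ u) = 0 := by
  have h1 := polar_skew Q X hX hX2 u u
  rw [QuadraticMap.polar_comm (⇑Q) (X *ᵥ u) u] at h1
  have h3 : (2 : F) * QuadraticMap.polar (⇑Q) u (X *ᵥ u) = 0 := by linear_combination h1
  exact (mul_eq_zero.mp h3).resolve_left h2

include hX hX2 in
/-- the product of the reflections in `u` and `X u` only depends on the plane `⟨u, X u⟩` -/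
theorem plane_indep (h2 : (2 : F) ≠ 0) (e : n → F) (s t : F)
    (hu : Q (s • e + t • X *ᵥ e) ≠ 0) :
    Cfsg.reflectionMatrix ⇑Q (s • e + t • X *ᵥ e) *
        Cfsg.reflectionMatrix ⇑Q (X *ᵥ (s • e + t • X *ᵥ e)) =
      Cfsg.reflectionMatrix ⇑Q e * Cfsg.reflectionMatrix ⇑Q (X *ᵥ e) := by
  have hef := polar_self_X Q X hX hX2 h2 e
  have hQu : Q (s • e + t • X *ᵥ e) = (s * s + t * t) * Q e := by
    rw [map_comb Q e (X *ᵥ e) hef, hX]
    ring
  have hN : s * s + t * t ≠ 0 := by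
    intro h0
    rw [hQu, h0, zero_mul] at hu
    exact hu rfl
  have hXu : X *ᵥ (s • e + t • X *ᵥ e) = s • X *ᵥ e - t • e := by
    rw [Matrix.mulVec_add, Matrix.mulVec_smul, Matrix.mulVec_smul, hX2, smul_neg, sub_eq_add_neg]
  apply Matrix.ext_iff_mulVec.mpr
  intro v
  rw [refl_refl_apply Q _ _ (polar_self_X Q X hX hX2 h2 _), refl_refl_apply Q _ _ hef, hX, hX, hQu,
    hXu]
  simp only [QuadraticMap.polar_add_left, QuadraticMap.polar_sub_left,
    QuadraticMap.polar_smul_left, smul_eq_mul]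
  have hinv : ((s * s + t * t) * Q e)⁻¹ = (s * s + t * t)⁻¹ * (Q e)⁻¹ := mul_inv _ _
  rw [hinv]
  set p := QuadraticMap.polar (⇑Q) e v with hp
  set p' := QuadraticMap.polar (⇑Q) (X *ᵥ e) v with hp'
  have key : ((s * s + t * t)⁻¹ * (Q e)⁻¹ * (s * p + t * p')) • (s • e + t • X *ᵥ e) +
      ((s * s + t * t)⁻¹ * (Q e)⁻¹ * (s * p' - t * p)) • (s • X *ᵥ e - t • e) =
      ((Q e)⁻¹ * p) • e + ((Q e)⁻¹ * p') • X *ᵥ e := by
    have e1 : ((s * s + t * t)⁻¹ * (Q e)⁻¹ * (s * p + t * p')) • (s • e + t • X *ᵥ e) +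
        ((s * s + t * t)⁻¹ * (Q e)⁻¹ * (s * p' - t * p)) • (s • X *ᵥ e - t • e) =
        ((s * s + t * t)⁻¹ * (s * s + t * t) * ((Q e)⁻¹ * p)) • e +
          ((s * s + t * t)⁻¹ * (s * s + t * t) * ((Q e)⁻¹ * p')) • X *ᵥ e := by
      module
    rw [e1, inv_mul_cancel₀ hN, one_mul, one_mul]
  rw [sub_sub, sub_sub, key]

/-- the plane reflection commutes with a self-adjoint map preserving the plane -/
theorem plane_comm (e f : n → F) (hQf : Q f = Q e)
    (A : Matrix n n F)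
    (hsa : ∀ u v, QuadraticMap.polar (⇑Q) (A *ᵥ u) v = QuadraticMap.polar (⇑Q) u (A *ᵥ v))
    (hef : QuadraticMap.polar (⇑Q) e f = 0)
    (a β : F) (hAe : A *ᵥ e = a • e + β • f) (hAf : A *ᵥ f = β • e - a • f) :
    (Cfsg.reflectionMatrix ⇑Q e * Cfsg.reflectionMatrix ⇑Q f) * A =
      A * (Cfsg.reflectionMatrix ⇑Q e * Cfsg.reflectionMatrix ⇑Q f) := by
  apply Matrix.ext_iff_mulVec.mpr
  intro v
  have hl : ((Cfsg.reflectionMatrix ⇑Q e * Cfsg.reflectionMatrix ⇑Q f) * A) *ᵥ v =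
      (Cfsg.reflectionMatrix ⇑Q e * Cfsg.reflectionMatrix ⇑Q f) *ᵥ (A *ᵥ v) :=
    (Matrix.mulVec_mulVec _ _ _).symm
  have hr : (A * (Cfsg.reflectionMatrix ⇑Q e * Cfsg.reflectionMatrix ⇑Q f)) *ᵥ v =
      A *ᵥ ((Cfsg.reflectionMatrix ⇑Q e * Cfsg.reflectionMatrix ⇑Q f) *ᵥ v) :=
    (Matrix.mulVec_mulVec _ _ _).symm
  rw [hl, hr, refl_refl_apply Q _ _ hef, refl_refl_apply Q _ _ hef, Matrix.mulVec_sub,
    Matrix.mulVec_sub, Matrix.mulVec_smul, Matrix.mulVec_smul, hAe, hAf, hQf, ← hsa, ← hsa, hAe,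
    hAf]
  simp only [QuadraticMap.polar_add_left, QuadraticMap.polar_sub_left,
    QuadraticMap.polar_smul_left, smul_eq_mul]
  module

end refl

section good

variable {F : Type*} [Field F] {n : Type} [Fintype n] [DecidableEq n]

/-- `C` (with inverse `C'`) is a good adjuster for `X` and `A` -/
def GoodAdj (X A C C' : Matrix n n F) : Prop :=
  ∃ D D' : Matrix n n F, X * C = D * X ∧ X * C' = D' * X ∧ D * D' = 1 ∧
    (C' * D) * A = A * (C' * D)

theorem good_conj (X A C C' : Matrix n n F) (hCC : C * C' = 1) (h : GoodAdj X A C C') (ε : F)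
    (hXA : X * A = ε • (A * X)) :
    X * (C * A * C') = ε • ((C * A * C') * X) := by
  obtain ⟨D, D', h1, h3, h4, h5⟩ := h
  have h6 : D * A * D' = C * A * C' := by
    have e1 : D * A = C * A * (C' * D) := by
      calc D * A = (C * C') * (D * A) := by rw [hCC, Matrix.one_mul]
        _ = C * ((C' * D) * A) := by simp only [Matrix.mul_assoc]
        _ = C * (A * (C' * D)) := by rw [h5]
        _ = C * A * (C' * D) := by simp only [Matrix.mul_assoc]
    rw [e1]
    calc C * A * (C' * D) * D' = C * A * C' * (D * D') := by simp only [Matrix.mul_assoc]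
      _ = C * A * C' := by rw [h4, Matrix.mul_one]
  calc X * (C * A * C') = (X * C) * A * C' := by simp only [Matrix.mul_assoc]
    _ = D * (X * A) * C' := by rw [h1]; simp only [Matrix.mul_assoc]
    _ = ε • (D * A * (X * C')) := by
        rw [hXA, Matrix.mul_smul, Matrix.smul_mul]
        simp only [Matrix.mul_assoc]
    _ = ε • (D * A * D' * X) := by rw [h3]; simp only [Matrix.mul_assoc]
    _ = ε • ((C * A * C') * X) := by rw [h6]

end good

section adjust

variable {F : Type*} [Field F] [Fintype F] {n : Type} [Fintype n] [DecidableEq n]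
  (Q : QuadraticForm F (n → F))

/-- an isometry can be moved into `Ω` by one of `1, r_u, r_{u'}, r_u r_{u'}` -/
theorem adjust_exists (hQ : (QuadraticMap.polarBilin Q).Nondegenerate) (h2 : (2 : F) ≠ 0)
    (hcard : 2 ≤ Fintype.card n) (u u' : n → F) (hu : Q u ≠ 0) (hu' : Q u' ≠ 0)
    (hns : ¬ IsSquare (Q u * Q u')) (φ : GL n F) (hφ : φ ∈ Cfsg.isometryGroup F ⇑Q) :
    ∃ c : GL n F, c ∈ Cfsg.isometryGroup F ⇑Q ∧ c * φ ∈ Cfsg.Geo.omegaGL ⇑Q ∧
      (c = 1 ∨ (c : Matrix n n F) = Cfsg.reflectionMatrix ⇑Q u ∨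
        (c : Matrix n n F) = Cfsg.reflectionMatrix ⇑Q u' ∨
        (c : Matrix n n F) = Cfsg.reflectionMatrix ⇑Q u * Cfsg.reflectionMatrix ⇑Q u') := by
  obtain ⟨vs, hvs, hrep⟩ := exists_refl_list Q hQ h2 φ hφ
  have hP0 := list_prod_ne_zero Q vs hvs
  set P := (vs.map (fun v => Q v)).prod with hP
  have hcu : ((reflG Q u hu : ↥(Cfsg.isometryGroup F ⇑Q)) : GL n F) ∈
      Cfsg.isometryGroup F ⇑Q := (reflG Q u hu).2
  have hcu' : ((reflG Q u' hu' : ↥(Cfsg.isometryGroup F ⇑Q)) : GL n F) ∈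
      Cfsg.isometryGroup F ⇑Q := (reflG Q u' hu').2
  rcases Nat.even_or_odd vs.length with hev | hod
  · by_cases hsq : IsSquare P
    · refine ⟨1, one_mem _, ?_, Or.inl rfl⟩
      rw [one_mul, omegaGL_iff_list Q hQ h2 hcard φ hφ vs hvs hrep]
      exact ⟨hev, hsq⟩
    · refine ⟨(reflG Q u hu : GL n F) * (reflG Q u' hu' : GL n F), mul_mem hcu hcu', ?_,
        Or.inr (Or.inr (Or.inr rfl))⟩
      have hvs' : ∀ v ∈ u :: u' :: vs, Q v ≠ 0 := by
        intro v hv
        rcases List.mem_cons.mp hv with rfl | hv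
        · exact hu
        · rcases List.mem_cons.mp hv with rfl | hv
          · exact hu'
          · exact hvs v hv
      rw [omegaGL_iff_list Q hQ h2 hcard _ (mul_mem (mul_mem hcu hcu') hφ) (u :: u' :: vs) hvs'
        (by
          rw [List.map_cons, List.map_cons, List.prod_cons, List.prod_cons, ← hrep,
            Units.val_mul, Units.val_mul, Matrix.mul_assoc]
          rfl)]
      refine ⟨by
        rw [List.length_cons, List.length_cons]
        exact (hev.add_one).add_one, ?_⟩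
      rw [List.map_cons, List.map_cons, List.prod_cons, List.prod_cons, ← hP, ← mul_assoc]
      exact Cfsg.Agent.Lib.H13.SOIndexTwo.isSquare_mul_of_not _ _ (mul_ne_zero hu hu') hP0 hns hsq
  · have hvs1 : ∀ w, Q w ≠ 0 → ∀ v ∈ w :: vs, Q v ≠ 0 := by
      intro w hw v hv
      rcases List.mem_cons.mp hv with rfl | hv
      · exact hw
      · exact hvs v hv
    by_cases hsq : IsSquare (Q u * P)
    · refine ⟨(reflG Q u hu : GL n F), hcu, ?_, Or.inr (Or.inl rfl)⟩
      rw [omegaGL_iff_list Q hQ h2 hcard _ (mul_mem hcu hφ) (u :: vs) (hvs1 u hu)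
        (by
          rw [List.map_cons, List.prod_cons, ← hrep, Units.val_mul]
          rfl)]
      refine ⟨by rw [List.length_cons]; exact hod.add_one, ?_⟩
      rw [List.map_cons, List.prod_cons, ← hP]
      exact hsq
    · refine ⟨(reflG Q u' hu' : GL n F), hcu', ?_, Or.inr (Or.inr (Or.inl rfl))⟩
      rw [omegaGL_iff_list Q hQ h2 hcard _ (mul_mem hcu' hφ) (u' :: vs) (hvs1 u' hu')
        (by
          rw [List.map_cons, List.prod_cons, ← hrep, Units.val_mul]
          rfl)]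
      refine ⟨by rw [List.length_cons]; exact hod.add_one, ?_⟩
      rw [List.map_cons, List.prod_cons, ← hP]
      have h3 := Cfsg.Agent.Lib.H13.SOIndexTwo.isSquare_mul_of_not _ _ (mul_ne_zero hu hP0)
        (mul_ne_zero hu hu') hsq hns
      obtain ⟨y, hy⟩ := h3
      refine ⟨y * (Q u)⁻¹, ?_⟩
      have : Q u' * P = (Q u * P * (Q u * Q u')) * ((Q u)⁻¹ * (Q u)⁻¹) := by
        field_simp
      rw [this, hy]
      ring

end adjust

end Cfsg.Agent.Lib.H23.OrF
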