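import Mathlib
import Cfsg.Agent.Lib.H23.OrFC
import Cfsg.Agent.Lib.H23.OrFL
import Cfsg.Agent.Lib.H23.OrFM
import Cfsg.Agent.Lib.H11.ConfOrth6

set_option autoImplicit false
set_option linter.style.haveILetI false
set_option linter.unusedSectionVars false

/-!
# Elements of `Ω` with scalar square: a self-adjoint root adapted to the element, with adjusting
reflections (helper23)
-/

namespace Cfsg.Agent.Lib.H23.OrF

open Matrix Module
open Cfsg.Agent.Lib.H4 Cfsg.Agent.Lib.H13.HypPairs Cfsg.Agent.Lib.H11.ConfOrth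
open Cfsg.Agent.Lib.H11.IsoReindex

section goodroot

variable {F : Type*} [Field F] [Fintype F] {n : Type} [Fintype n] [DecidableEq n]
  (Q : QuadraticForm F (n → F))

/-- from an endomorphism to a root datum -/
theorem sroot_of_end (δ : F) (A : End F (n → F)) (hAsq : ∀ v, A (A v) = δ • v)
    (hAsa : ∀ u v, QuadraticMap.polarBilin Q (A u) v = QuadraticMap.polarBilin Q u (A v)) :
    SRoot Q (LinearMap.toMatrix' A) δ := by
  have hA : ∀ v, LinearMap.toMatrix' A *ᵥ v = A v := by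
    intro v
    rw [← Matrix.toLin'_apply, Matrix.toLin'_toMatrix']
  constructor
  · apply Matrix.ext_iff_mulVec.mpr
    intro v
    rw [← Matrix.mulVec_mulVec, hA, hA, hAsq, Matrix.smul_mulVec, Matrix.one_mulVec]
  · intro u v
    rw [hA, hA]
    exact hAsa u v

/-- the case of an involution -/
theorem good_root_pos (hQ : (QuadraticMap.polarBilin Q).Nondegenerate) (h2 : (2 : F) ≠ 0)
    (hcard : 3 ≤ Fintype.card n) (hcardev : Even (Fintype.card n)) (δ : F)
    (x : GL n F) (hx : x ∈ Cfsg.Geo.omegaGL ⇑Q)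
    (hz : (x : Matrix n n F) * (x : Matrix n n F) = 1)
    (hns : ∀ z : F, (x : Matrix n n F) ≠ z • 1) :
    ∃ (α' : Matrix n n F) (u u' : n → F), SRoot Q α' δ ∧
      (x : Matrix n n F) * α' = (1 : F) • (α' * (x : Matrix n n F)) ∧
      Q u ≠ 0 ∧ Q u' ≠ 0 ∧ ¬ IsSquare (Q u * Q u') ∧
      GoodAdj (x : Matrix n n F) α' (Cfsg.reflectionMatrix ⇑Q u) (Cfsg.reflectionMatrix ⇑Q u) ∧
      GoodAdj (x : Matrix n n F) α' (Cfsg.reflectionMatrix ⇑Q u') (Cfsg.reflectionMatrix ⇑Q u') ∧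
      GoodAdj (x : Matrix n n F) α'
        (Cfsg.reflectionMatrix ⇑Q u * Cfsg.reflectionMatrix ⇑Q u')
        (Cfsg.reflectionMatrix ⇑Q u' * Cfsg.reflectionMatrix ⇑Q u) := by
  have hxO := omegaGL_le_iso _ hx
  have hXiso : ∀ w, Q ((x : Matrix n n F) *ᵥ w) = Q w := (mem_iso_iff' _ x).mp hxO
  have hM2 : ∀ v, (x : Matrix n n F) *ᵥ ((x : Matrix n n F) *ᵥ v) = v := by
    intro v
    rw [Matrix.mulVec_mulVec, hz, Matrix.one_mulVec]
  set X : End F (n → F) := Matrix.toLin' (x : Matrix n n F) with hXdef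
  have hXX : ∀ v, X (X v) = v := by
    intro v
    rw [hXdef, Matrix.toLin'_apply, Matrix.toLin'_apply]
    exact hM2 v
  have hsym : ∀ u v, QuadraticMap.polarBilin Q u v = QuadraticMap.polarBilin Q v u := by
    intro u v
    rw [QuadraticMap.polarBilin_apply_apply, QuadraticMap.polarBilin_apply_apply,
      QuadraticMap.polar_comm]
  have hndB : ∀ v, (∀ w, QuadraticMap.polarBilin Q v w = 0) → v = 0 := fun v hv => hQ.1 v hv
  have hiso : ∀ u v, QuadraticMap.polarBilin Q (X u) (X v) = QuadraticMap.polarBilin Q u v := by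
    intro u v
    rw [QuadraticMap.polarBilin_apply_apply, QuadraticMap.polarBilin_apply_apply, hXdef,
      Matrix.toLin'_apply, Matrix.toLin'_apply]
    exact polar_of_iso Q _ hXiso u v
  -- parities
  have hdet : (x : Matrix n n F).det = 1 :=
    ((mem_sO_iff Q x).mp (omegaGL_le_sO Q hQ h2 (by omega) hx)).2
  have hev2 : Even (finrank F (LinearMap.ker (X + 1))) := by
    have h1 := det_invol X hXX h2
    rw [hXdef, LinearMap.det_toLin', hdet] at h1
    exact (neg_one_pow_eq_one_iff h2 _).mp h1.symm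
  have hev1 : Even (finrank F (LinearMap.ker (X - 1))) := by
    have h1 := finrank_eigSplit X hXX h2
    rw [Module.finrank_fintype_fun_eq_card] at h1
    have h3 : Even (finrank F (LinearMap.ker (X - 1)) + finrank F (LinearMap.ker (X + 1))) := by
      rw [← h1]; exact hcardev
    exact (Nat.even_add.mp h3).mpr hev2
  obtain ⟨A, hAsq, hAsa, hAX⟩ := comm_root h2 δ (QuadraticMap.polarBilin Q) X hsym hndB hiso hXX
    hev1 hev2
  have hA : ∀ v, LinearMap.toMatrix' A *ᵥ v = A v := by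
    intro v
    rw [← Matrix.toLin'_apply, Matrix.toLin'_toMatrix']
  -- the eigenvectors
  obtain ⟨u, w, ε, hu, hw, hnsq, hε, hxu, hxw⟩ := invol_eigen Q (x : Matrix n n F) hQ h2 hcard
    hXiso hM2
    (by
      by_contra hcon
      push Not at hcon
      apply hns 1
      rw [one_smul]
      apply Matrix.ext_iff_mulVec.mpr
      intro v
      rw [hcon, Matrix.one_mulVec])
    (by
      by_contra hcon
      push Not at hcon
      apply hns (-1)
      rw [neg_smul, one_smul]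
      apply Matrix.ext_iff_mulVec.mpr
      intro v
      rw [hcon, Matrix.neg_mulVec, Matrix.one_mulVec])
  have hcu : (x : Matrix n n F) * Cfsg.reflectionMatrix ⇑Q u =
      Cfsg.reflectionMatrix ⇑Q u * (x : Matrix n n F) := by
    rw [conj_refl Q _ hXiso, hxu, refl_smul Q ε hε]
  have hcw : (x : Matrix n n F) * Cfsg.reflectionMatrix ⇑Q w =
      Cfsg.reflectionMatrix ⇑Q w * (x : Matrix n n F) := by
    rw [conj_refl Q _ hXiso, hxw, refl_smul Q ε hε]
  have huu := refl_mul_self Q u hu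
  have hww := refl_mul_self Q w hw
  refine ⟨LinearMap.toMatrix' A, u, w, sroot_of_end Q δ A hAsq hAsa, ?_, hu, hw, hnsq, ?_, ?_, ?_⟩
  · rw [one_smul]
    apply Matrix.ext_iff_mulVec.mpr
    intro v
    rw [← Matrix.mulVec_mulVec, ← Matrix.mulVec_mulVec, hA, hA]
    have := hAX v
    rw [hXdef, Matrix.toLin'_apply, Matrix.toLin'_apply] at this
    exact this.symm
  · exact ⟨_, _, hcu, hcu, huu, by rw [huu, Matrix.one_mul, Matrix.mul_one]⟩
  · exact ⟨_, _, hcw, hcw, hww, by rw [hww, Matrix.one_mul, Matrix.mul_one]⟩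
  · have h1 : (x : Matrix n n F) * (Cfsg.reflectionMatrix ⇑Q u * Cfsg.reflectionMatrix ⇑Q w) =
        (Cfsg.reflectionMatrix ⇑Q u * Cfsg.reflectionMatrix ⇑Q w) * (x : Matrix n n F) := by
      rw [← Matrix.mul_assoc, hcu, Matrix.mul_assoc, hcw, Matrix.mul_assoc]
    have h3 : (x : Matrix n n F) * (Cfsg.reflectionMatrix ⇑Q w * Cfsg.reflectionMatrix ⇑Q u) =
        (Cfsg.reflectionMatrix ⇑Q w * Cfsg.reflectionMatrix ⇑Q u) * (x : Matrix n n F) := by
      rw [← Matrix.mul_assoc, hcw, Matrix.mul_assoc, hcu, Matrix.mul_assoc]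
    have h4 : (Cfsg.reflectionMatrix ⇑Q u * Cfsg.reflectionMatrix ⇑Q w) *
        (Cfsg.reflectionMatrix ⇑Q w * Cfsg.reflectionMatrix ⇑Q u) = 1 := by
      rw [Matrix.mul_assoc, ← Matrix.mul_assoc (Cfsg.reflectionMatrix ⇑Q w), hww, Matrix.one_mul,
        huu]
    have h5 : (Cfsg.reflectionMatrix ⇑Q w * Cfsg.reflectionMatrix ⇑Q u) *
        (Cfsg.reflectionMatrix ⇑Q u * Cfsg.reflectionMatrix ⇑Q w) = 1 := by
      rw [Matrix.mul_assoc, ← Matrix.mul_assoc (Cfsg.reflectionMatrix ⇑Q u), huu, Matrix.one_mul,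
        hww]
    exact ⟨_, _, h1, h3, h4, by rw [h5, Matrix.one_mul, Matrix.mul_one]⟩

/-- the case of square `-1` -/
theorem good_root_neg (hQ : (QuadraticMap.polarBilin Q).Nondegenerate) (h2 : (2 : F) ≠ 0)
    (hcard : 3 ≤ Fintype.card n) (δ : F)
    (x : GL n F) (hx : x ∈ Cfsg.Geo.omegaGL ⇑Q)
    (hz : (x : Matrix n n F) * (x : Matrix n n F) = (-1 : F) • 1) :
    ∃ (α' : Matrix n n F) (u u' : n → F), SRoot Q α' δ ∧
      (x : Matrix n n F) * α' = (-1 : F) • (α' * (x : Matrix n n F)) ∧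
      Q u ≠ 0 ∧ Q u' ≠ 0 ∧ ¬ IsSquare (Q u * Q u') ∧
      GoodAdj (x : Matrix n n F) α' (Cfsg.reflectionMatrix ⇑Q u) (Cfsg.reflectionMatrix ⇑Q u) ∧
      GoodAdj (x : Matrix n n F) α' (Cfsg.reflectionMatrix ⇑Q u') (Cfsg.reflectionMatrix ⇑Q u') ∧
      GoodAdj (x : Matrix n n F) α'
        (Cfsg.reflectionMatrix ⇑Q u * Cfsg.reflectionMatrix ⇑Q u')
        (Cfsg.reflectionMatrix ⇑Q u' * Cfsg.reflectionMatrix ⇑Q u) := by
  have hxO := omegaGL_le_iso _ hx
  have hXiso : ∀ w, Q ((x : Matrix n n F) *ᵥ w) = Q w := (mem_iso_iff' _ x).mp hxO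
  have hM2 : ∀ v, (x : Matrix n n F) *ᵥ ((x : Matrix n n F) *ᵥ v) = -v := by
    intro v
    rw [Matrix.mulVec_mulVec, hz, Matrix.smul_mulVec, Matrix.one_mulVec, neg_smul, one_smul]
  set X : End F (n → F) := Matrix.toLin' (x : Matrix n n F) with hXdef
  have hXv : ∀ v, X v = (x : Matrix n n F) *ᵥ v := fun v => by rw [hXdef, Matrix.toLin'_apply]
  have hXX : ∀ v, X (X v) = -v := by
    intro v
    rw [hXv, hXv]
    exact hM2 v
  have hsym : ∀ u v, QuadraticMap.polarBilin Q u v = QuadraticMap.polarBilin Q v u := by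
    intro u v
    rw [QuadraticMap.polarBilin_apply_apply, QuadraticMap.polarBilin_apply_apply,
      QuadraticMap.polar_comm]
  have hndB : ∀ v, (∀ w, QuadraticMap.polarBilin Q v w = 0) → v = 0 := fun v hv => hQ.1 v hv
  have hskew : ∀ u v, QuadraticMap.polarBilin Q (X u) v = - QuadraticMap.polarBilin Q u (X v) := by
    intro u v
    rw [QuadraticMap.polarBilin_apply_apply, QuadraticMap.polarBilin_apply_apply, hXv, hXv]
    exact polar_skew Q _ hXiso hM2 u v
  haveI : Nonempty n := by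
    rw [← Fintype.card_pos_iff]
    omega
  obtain ⟨A, e, a, β, hee, hexe, hAsq, hAsa, hAX, hAe, hAxe⟩ :=
    anti_root h2 δ (QuadraticMap.polarBilin Q) X hsym hndB hskew hXX
  have hA : ∀ v, LinearMap.toMatrix' A *ᵥ v = A v := by
    intro v
    rw [← Matrix.toLin'_apply, Matrix.toLin'_toMatrix']
  have hQe : Q e ≠ 0 := by
    intro h0
    apply hee
    rw [QuadraticMap.polarBilin_apply_apply, polar_self, h0, mul_zero]
  have hQxe : Q ((x : Matrix n n F) *ᵥ e) ≠ 0 := by rw [hXiso]; exact hQe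
  have hpol0 : QuadraticMap.polar (⇑Q) e ((x : Matrix n n F) *ᵥ e) = 0 :=
    polar_self_X Q _ hXiso hM2 h2 e
  obtain ⟨s, t, s', t', hq1, hq2, hq3⟩ := two_classes Q h2 e ((x : Matrix n n F) *ᵥ e) hQe hQxe
    hpol0
  set u := s • e + t • (x : Matrix n n F) *ᵥ e with hu
  set u' := s' • e + t' • (x : Matrix n n F) *ᵥ e with hu'
  have hm1 := plane_indep Q _ hXiso hM2 h2 e s t hq1
  have hm2 := plane_indep Q _ hXiso hM2 h2 e s' t' hq2
  rw [← hu] at hm1
  rw [← hu'] at hm2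
  have hsaM : ∀ u v, QuadraticMap.polar (⇑Q) (LinearMap.toMatrix' A *ᵥ u) v =
      QuadraticMap.polar (⇑Q) u (LinearMap.toMatrix' A *ᵥ v) := by
    intro u v
    rw [hA, hA]
    exact hAsa u v
  have hmc := plane_comm Q e ((x : Matrix n n F) *ᵥ e) (hXiso e) (LinearMap.toMatrix' A) hsaM hpol0
    a β (by rw [hA, hAe, hXv]) (by rw [hA, ← hXv, hAxe, hXv])
  have hQxu : Q ((x : Matrix n n F) *ᵥ u) ≠ 0 := by rw [hXiso]; exact hq1
  have hQxu' : Q ((x : Matrix n n F) *ᵥ u') ≠ 0 := by rw [hXiso]; exact hq2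
  have huu := refl_mul_self Q u hq1
  have hu'u' := refl_mul_self Q u' hq2
  have hxuxu := refl_mul_self Q _ hQxu
  have hxu'xu' := refl_mul_self Q _ hQxu'
  have hcu := conj_refl Q (x : Matrix n n F) hXiso u
  have hcu' := conj_refl Q (x : Matrix n n F) hXiso u'
  refine ⟨LinearMap.toMatrix' A, u, u', sroot_of_end Q δ A hAsq hAsa, ?_, hq1, hq2, hq3, ?_, ?_, ?_⟩
  · apply Matrix.ext_iff_mulVec.mpr
    intro v
    rw [← Matrix.mulVec_mulVec, Matrix.smul_mulVec, ← Matrix.mulVec_mulVec, hA, hA, neg_smul,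
      one_smul]
    have := hAX v
    rw [hXv, hXv] at this
    rw [this, neg_neg]
  · exact ⟨_, _, hcu, hcu, hxuxu, by rw [hm1]; exact hmc⟩
  · exact ⟨_, _, hcu', hcu', hxu'xu', by rw [hm2]; exact hmc⟩
  · refine ⟨Cfsg.reflectionMatrix ⇑Q ((x : Matrix n n F) *ᵥ u) *
        Cfsg.reflectionMatrix ⇑Q ((x : Matrix n n F) *ᵥ u'),
      Cfsg.reflectionMatrix ⇑Q ((x : Matrix n n F) *ᵥ u') *
        Cfsg.reflectionMatrix ⇑Q ((x : Matrix n n F) *ᵥ u), ?_, ?_, ?_, ?_⟩
    · rw [← Matrix.mul_assoc, hcu, Matrix.mul_assoc, hcu', Matrix.mul_assoc]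
    · rw [← Matrix.mul_assoc, hcu', Matrix.mul_assoc, hcu, Matrix.mul_assoc]
    · rw [Matrix.mul_assoc, ← Matrix.mul_assoc (Cfsg.reflectionMatrix ⇑Q _)
        (Cfsg.reflectionMatrix ⇑Q _) (Cfsg.reflectionMatrix ⇑Q _), hxu'xu', Matrix.one_mul, hxuxu]
    · have h1 : (Cfsg.reflectionMatrix ⇑Q u' * Cfsg.reflectionMatrix ⇑Q u) *
          (Cfsg.reflectionMatrix ⇑Q ((x : Matrix n n F) *ᵥ u) *
            Cfsg.reflectionMatrix ⇑Q ((x : Matrix n n F) *ᵥ u')) = 1 := by
        calc (Cfsg.reflectionMatrix ⇑Q u' * Cfsg.reflectionMatrix ⇑Q u) *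
              (Cfsg.reflectionMatrix ⇑Q ((x : Matrix n n F) *ᵥ u) *
                Cfsg.reflectionMatrix ⇑Q ((x : Matrix n n F) *ᵥ u'))
            = Cfsg.reflectionMatrix ⇑Q u' * (Cfsg.reflectionMatrix ⇑Q u *
                Cfsg.reflectionMatrix ⇑Q ((x : Matrix n n F) *ᵥ u)) *
                  Cfsg.reflectionMatrix ⇑Q ((x : Matrix n n F) *ᵥ u') := by
              simp only [Matrix.mul_assoc]
          _ = Cfsg.reflectionMatrix ⇑Q u' * (Cfsg.reflectionMatrix ⇑Q u' *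
                Cfsg.reflectionMatrix ⇑Q ((x : Matrix n n F) *ᵥ u')) *
                  Cfsg.reflectionMatrix ⇑Q ((x : Matrix n n F) *ᵥ u') := by rw [hm1, ← hm2]
          _ = (Cfsg.reflectionMatrix ⇑Q u' * Cfsg.reflectionMatrix ⇑Q u') *
                (Cfsg.reflectionMatrix ⇑Q ((x : Matrix n n F) *ᵥ u') *
                  Cfsg.reflectionMatrix ⇑Q ((x : Matrix n n F) *ᵥ u')) := by
              simp only [Matrix.mul_assoc]
          _ = 1 := by rw [hu'u', hxu'xu', Matrix.one_mul]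
      rw [h1, Matrix.one_mul, Matrix.mul_one]

end goodroot

end Cfsg.Agent.Lib.H23.OrF
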