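import Mathlib
import Cfsg.Agent.Lib.H23.OrFJ
import Cfsg.Agent.Lib.H23.OrFN

set_option autoImplicit false
set_option linter.style.haveILetI false

/-!
# `Ω⁻_{2d}(q)` on the cosets of the normalizer of a self-adjoint quadratic field: elements with
scalar square fix a point; the main equivalence (helper23)
-/

namespace Cfsg.Agent.Lib.H23.OrF

open Module Matrix QuadraticAlgebra
open Cfsg.Agent.Lib.H23.SpU Cfsg.Agent.Lib.H23.SpF Cfsg.Agent.Lib.H13
open Cfsg.Agent.Lib.H13.MinusClass Cfsg.Agent.Lib.H11.IsoReindex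
open Cfsg.Agent.Lib.H13.HypPairs Cfsg.Agent.Lib.H11.ConfOrth

section conj

variable {F : Type*} [Field F] [Fintype F] {q : ℕ}

attribute [local instance] fintypeEE

/-- two self-adjoint roots of the same non-square are conjugate under the isometry group -/
theorem exists_conj_iso (hq : Fintype.card F = q) (hodd : Odd q) (d : ℕ) (hd : 1 ≤ d) (a b : F)
    (hab : ∀ z₁ z₂ : F, z₁ ^ 2 + a * z₁ * z₂ + b * z₂ ^ 2 = 0 → z₁ = 0 ∧ z₂ = 0)
    (α₁ α₂ : Matrix (IM (d - 1)) (IM (d - 1)) F) (δ : F) (hnsq : ∀ c : F, c * c ≠ δ)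
    (h₁ : SRoot (minusQF F (d - 1) a b) α₁ δ) (h₂ : SRoot (minusQF F (d - 1) a b) α₂ δ) :
    ∃ g : GL (IM (d - 1)) F, g ∈ Cfsg.isometryGroup F ⇑(minusQF F (d - 1) a b) ∧
      (g : Matrix (IM (d - 1)) (IM (d - 1)) F) * α₁ = α₂ * g := by
  have h2 : (2 : F) ≠ 0 := two_ne_zero_of_odd' hq hodd
  haveI : Fact (∀ r : F, r ^ 2 ≠ δ + 0 * r) := fact_of_nsq δ hnsq
  have hnd := Cfsg.Agent.S0288.nondeg a b hab (d - 1)
  have hcardn : Fintype.card (IM (d - 1)) = 2 * d := by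
    rw [Fintype.card_sum, Fintype.card_sum, Fintype.card_fin, Fintype.card_fin]
    omega
  have hnots : ∀ U : Submodule F (IM (d - 1) → F), finrank F U = d →
      ¬ ∀ u ∈ U, minusQF F (d - 1) a b u = 0 := by
    intro U hU
    apply noTS_minus h2 (d - 1) a b hab U
    rw [hU]
    omega
  rcases Nat.even_or_odd d with ⟨m, hm⟩ | ⟨m, hm⟩
  · have hd2 : d = 2 * m := by omega
    have hm1 : 1 ≤ m := by omega
    obtain ⟨a₀, c₀, hac⟩ := Cfsg.Agent.Lib.H12.OrdO.exists_aniso (F := EE F δ)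
    obtain ⟨φ₁, hφ₁⟩ := h₁.model_even h2 hnd m hm1 (by rw [hcardn, hd2])
      (by rw [← hd2]; exact hnots) a₀ c₀ hac
    obtain ⟨φ₂, hφ₂⟩ := h₂.model_even h2 hnd m hm1 (by rw [hcardn, hd2])
      (by rw [← hd2]; exact hnots) a₀ c₀ hac
    exact hφ₁.conj hφ₂
  · have hchE : ringChar (EE F δ) ≠ 2 := by
      intro hc
      have h0 : ((2 : ℕ) : EE F δ) = 0 := by
        rw [← hc]
        exact ringChar.Nat.cast_ringChar
      have := congrArg QuadraticAlgebra.re h0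
      apply h2
      simpa using this
    obtain ⟨ν, hν⟩ := FiniteField.exists_nonsquare hchE
    obtain ⟨φ₁, hφ₁⟩ := h₁.model_odd h2 hnd m (by rw [hcardn, hm])
      (by rw [← hm]; exact hnots) ν hν
    obtain ⟨φ₂, hφ₂⟩ := h₂.model_odd h2 hnd m (by rw [hcardn, hm])
      (by rw [← hm]; exact hnots) ν hν
    exact hφ₁.conj hφ₂

end conj

section backward

variable {F : Type*} [Field F] [Fintype F] {q : ℕ}

theorem inv_val_of_mul {n : Type} [Fintype n] [DecidableEq n] (c : GL n F) (C' : Matrix n n F)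
    (h : (c : Matrix n n F) * C' = 1) : ((c⁻¹ : GL n F) : Matrix n n F) = C' := by
  calc ((c⁻¹ : GL n F) : Matrix n n F) = ((c⁻¹ : GL n F) : Matrix n n F) * ((c : Matrix n n F) * C') := by
        rw [h, Matrix.mul_one]
    _ = C' := by rw [← Matrix.mul_assoc, gim, Matrix.one_mul]

/-- elements of `Ω` with scalar square have a conjugate normalizing `K` -/
theorem exists_conj_normalizer (hq : Fintype.card F = q) (hodd : Odd q) (d : ℕ) (hd : 2 ≤ d)
    (a b : F)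
    (hab : ∀ z₁ z₂ : F, z₁ ^ 2 + a * z₁ * z₂ + b * z₂ ^ 2 = 0 → z₁ = 0 ∧ z₂ = 0)
    (K : Subalgebra F (Matrix (IM (d - 1)) (IM (d - 1)) F)) (α : Matrix (IM (d - 1)) (IM (d - 1)) F)
    (δ : F) (hK : QData K α δ) (hsa : SRoot (minusQF F (d - 1) a b) α δ)
    (x : GL (IM (d - 1)) F) (hx : x ∈ Cfsg.Geo.omegaGL (Cfsg.quadFormMinus (d - 1) F a b))
    (z : F) (hz : (x : Matrix (IM (d - 1)) (IM (d - 1)) F) * x = z • 1)
    (hns : ∀ z : F, (x : Matrix (IM (d - 1)) (IM (d - 1)) F) ≠ z • 1) :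
    ∃ g ∈ Cfsg.Geo.omegaGL (Cfsg.quadFormMinus (d - 1) F a b),
      g⁻¹ * x * g ∈ Cfsg.Geo.subalgebraNormalizer K := by
  have h2 : (2 : F) ≠ 0 := two_ne_zero_of_odd' hq hodd
  have hnd := Cfsg.Agent.S0288.nondeg a b hab (d - 1)
  have hcoe := Cfsg.Agent.S0288.coe_minusQF (F := F) (d - 1) a b
  have hcardn : Fintype.card (IM (d - 1)) = 2 * d := by
    rw [Fintype.card_sum, Fintype.card_sum, Fintype.card_fin, Fintype.card_fin]
    omega
  rw [← hcoe] at hx ⊢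
  set Q := minusQF F (d - 1) a b with hQ
  have hxO := omegaGL_le_iso _ hx
  have hXiso : ∀ w, Q ((x : Matrix _ _ F) *ᵥ w) = Q w := (mem_iso_iff' _ x).mp hxO
  -- `z = ± 1`
  obtain ⟨v₀, hv₀⟩ := exists_Q_ne (F := F) d a b
  have hzz : z * z = 1 := by
    have h1 := hXiso ((x : Matrix _ _ F) *ᵥ v₀)
    rw [Matrix.mulVec_mulVec, hz, Matrix.smul_mulVec, Matrix.one_mulVec, QuadraticMap.map_smul,
      hXiso, smul_eq_mul] at h1
    have : (z * z - 1) * Q v₀ = 0 := by linear_combination h1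
    rcases mul_eq_zero.mp this with h | h
    · linear_combination h
    · exact absurd h hv₀
  have hz1 : z = 1 ∨ z = -1 := by
    have : (z - 1) * (z + 1) = 0 := by linear_combination hzz
    rcases mul_eq_zero.mp this with h | h
    · left; linear_combination h
    · right; linear_combination h
  -- the adapted root and adjusting reflections
  obtain ⟨α', u, u', ε, hεε, hsa', hxα, hu, hu', hnsq, hg1, hg2, hg3⟩ :
      ∃ (α' : Matrix (IM (d - 1)) (IM (d - 1)) F) (u u' : IM (d - 1) → F) (ε : F),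
      (ε = 1 ∨ ε = -1) ∧
      SRoot Q α' δ ∧ (x : Matrix _ _ F) * α' = ε • (α' * (x : Matrix _ _ F)) ∧
      Q u ≠ 0 ∧ Q u' ≠ 0 ∧ ¬ IsSquare (Q u * Q u') ∧
      GoodAdj (x : Matrix _ _ F) α' (Cfsg.reflectionMatrix ⇑Q u) (Cfsg.reflectionMatrix ⇑Q u) ∧
      GoodAdj (x : Matrix _ _ F) α' (Cfsg.reflectionMatrix ⇑Q u') (Cfsg.reflectionMatrix ⇑Q u') ∧
      GoodAdj (x : Matrix _ _ F) α'
        (Cfsg.reflectionMatrix ⇑Q u * Cfsg.reflectionMatrix ⇑Q u')
        (Cfsg.reflectionMatrix ⇑Q u' * Cfsg.reflectionMatrix ⇑Q u) := by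
    rcases hz1 with rfl | rfl
    · obtain ⟨α', u, u', h⟩ := good_root_pos Q hnd h2 (by rw [hcardn]; omega)
        (by rw [hcardn]; exact ⟨d, by ring⟩) δ x hx (by rw [hz, one_smul]) hns
      exact ⟨α', u, u', 1, Or.inl rfl, h⟩
    · obtain ⟨α', u, u', h⟩ := good_root_neg Q hnd h2 (by rw [hcardn]; omega) δ x hx hz
      exact ⟨α', u, u', -1, Or.inr rfl, h⟩
  obtain ⟨φ, hφO, hφα⟩ := exists_conj_iso hq hodd d (by omega) a b hab α α' δ hK.nsq hsa hsa'
  obtain ⟨c, hcO, hcφ, hc⟩ := adjust_exists Q hnd h2 (by rw [hcardn]; omega) u u' hu hu' hnsq φ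
    hφO
  have huu := refl_mul_self Q u hu
  have hu'u' := refl_mul_self Q u' hu'
  -- the conjugated root
  have hgood : (x : Matrix _ _ F) * ((c : Matrix _ _ F) * α' * ((c⁻¹ : GL _ F) : Matrix _ _ F)) =
      ε • (((c : Matrix _ _ F) * α' * ((c⁻¹ : GL _ F) : Matrix _ _ F)) * (x : Matrix _ _ F)) := by
    rcases hc with rfl | hc | hc | hc
    · rw [inv_one, Units.val_one, Matrix.one_mul, Matrix.mul_one]
      exact hxα
    · have hinv := inv_val_of_mul c (Cfsg.reflectionMatrix ⇑Q u) (by rw [hc]; exact huu)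
      rw [hinv, hc]
      exact good_conj _ _ _ _ huu hg1 ε hxα
    · have hinv := inv_val_of_mul c (Cfsg.reflectionMatrix ⇑Q u') (by rw [hc]; exact hu'u')
      rw [hinv, hc]
      exact good_conj _ _ _ _ hu'u' hg2 ε hxα
    · have h4 : (Cfsg.reflectionMatrix ⇑Q u * Cfsg.reflectionMatrix ⇑Q u') *
          (Cfsg.reflectionMatrix ⇑Q u' * Cfsg.reflectionMatrix ⇑Q u) = 1 := by
        rw [Matrix.mul_assoc, ← Matrix.mul_assoc (Cfsg.reflectionMatrix ⇑Q u'), hu'u',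
          Matrix.one_mul, huu]
      have hinv := inv_val_of_mul c
        (Cfsg.reflectionMatrix ⇑Q u' * Cfsg.reflectionMatrix ⇑Q u) (by rw [hc]; exact h4)
      rw [hinv, hc]
      exact good_conj _ _ _ _ h4 hg3 ε hxα
  refine ⟨c * φ, hcφ, ?_⟩
  apply hK.mem_normalizer_of
  set α'' := (c : Matrix _ _ F) * α' * ((c⁻¹ : GL _ F) : Matrix _ _ F) with hα''
  have hgα : (c * φ).1 * α = α'' * (c * φ).1 := by
    rw [Units.val_mul, Matrix.mul_assoc, hφα, hα'']
    simp only [Matrix.mul_assoc]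
    have e1 : (c⁻¹).1 * (c.1 * φ.1) = φ.1 := by
      rw [← Matrix.mul_assoc, gim, Matrix.one_mul]
    rw [e1]
  have hαg : α * ((c * φ)⁻¹).1 = ((c * φ)⁻¹).1 * α'' := by
    calc α * ((c * φ)⁻¹).1
        = (((c * φ)⁻¹).1 * (c * φ).1) * α * ((c * φ)⁻¹).1 := by rw [gim, Matrix.one_mul]
      _ = ((c * φ)⁻¹).1 * ((c * φ).1 * α) * ((c * φ)⁻¹).1 := by simp only [Matrix.mul_assoc]
      _ = ((c * φ)⁻¹).1 * α'' * ((c * φ).1 * ((c * φ)⁻¹).1) := by
          rw [hgα]; simp only [Matrix.mul_assoc]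
      _ = ((c * φ)⁻¹).1 * α'' := by rw [gmi, Matrix.mul_one]
  have hconj : ((c * φ)⁻¹ * x * (c * φ)).1 = ((c * φ)⁻¹).1 * x.1 * (c * φ).1 := by
    rw [Units.val_mul, Units.val_mul]
  have key : ((c * φ)⁻¹ * x * (c * φ)).1 * α = ε • (α * ((c * φ)⁻¹ * x * (c * φ)).1) := by
    rw [hconj]
    calc ((c * φ)⁻¹).1 * x.1 * (c * φ).1 * α
        = ((c * φ)⁻¹).1 * x.1 * ((c * φ).1 * α) := by simp only [Matrix.mul_assoc]
      _ = ((c * φ)⁻¹).1 * (x.1 * α'') * (c * φ).1 := by rw [hgα]; simp only [Matrix.mul_assoc]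
      _ = ε • (((c * φ)⁻¹).1 * α'' * (x.1 * (c * φ).1)) := by
          rw [hgood, Matrix.mul_smul, Matrix.smul_mul]
          simp only [Matrix.mul_assoc]
      _ = ε • (α * (((c * φ)⁻¹).1 * x.1 * (c * φ).1)) := by
          rw [← hαg]
          simp only [Matrix.mul_assoc]
  rcases hεε with rfl | rfl
  · left
    rw [key, one_smul]
  · right
    rw [key, neg_smul, one_smul]

end backward

end Cfsg.Agent.Lib.H23.OrF
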