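import Mathlib
import Cfsg.Agent.Lib.H23.OrFE
import Cfsg.Agent.Lib.H23.OrFN
import Cfsg.Agent.Lib.H12.OrdOK
import Cfsg.Agent.S0287

set_option autoImplicit false
set_option linter.style.haveILetI false

/-!
# Models of a self-adjoint quadratic field structure on a hyperbolic quadratic space (helper23)
-/

namespace Cfsg.Agent.Lib.H23.OrF

open Module Matrix QuadraticAlgebra
open Cfsg.Agent.Lib.H23.SpU Cfsg.Agent.Lib.H23.SpF Cfsg.Agent.Lib.H13
open Cfsg.Agent.Lib.H13.MinusClass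

section dich

variable {F : Type*} [Field F] [Fintype F] {n : Type} [Fintype n] [DecidableEq n]
  {Q : QuadraticForm F (n → F)} {α : Matrix n n F} {δ : F} [Fact (∀ r : F, r ^ 2 ≠ δ + 0 * r)]

attribute [local instance] fintypeEE

/-- the even case: a model on the plus form or on the minus form over `E` -/
theorem SRoot.model_even_dich (h : SRoot Q α δ) (h2 : (2 : F) ≠ 0)
    (hnd : (QuadraticMap.polarBilin Q).Nondegenerate) (m : ℕ) (hm : 1 ≤ m)
    (hcard : Fintype.card n = 2 * (2 * m))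
    (a₀ c₀ : EE F δ)
    (hac : ∀ z₁ z₂ : EE F δ, z₁ ^ 2 + a₀ * z₁ * z₂ + c₀ * z₂ ^ 2 = 0 → z₁ = 0 ∧ z₂ = 0) :
    (∃ φ : (n → F) ≃ₗ[F] (Fin m ⊕ Fin m → EE F δ),
      Model Q α δ (Cfsg.quadFormPlus m (EE F δ)) φ) ∨
    ∃ φ : (n → F) ≃ₗ[F] (IM (m - 1) → EE F δ),
      Model Q α δ (Cfsg.quadFormMinus (m - 1) (EE F δ) a₀ c₀) φ := by
  letI := modOf (liftG α δ h.sq)
  haveI := modOf_tower (liftG α δ h.sq)
  obtain ⟨QE, hQEnd, hQE⟩ := h.exists_QE h2 hnd
  have hfr : finrank (EE F δ) (n → F) = 2 * m := by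
    have := h.finrank_eq
    omega
  haveI : FiniteDimensional (EE F δ) (n → F) := Module.Finite.right F (EE F δ) (n → F)
  rcases classify QE hQEnd hm hfr with ⟨Φ, hΦ⟩ | ⟨ζ, hζ, Φ, hΦ⟩
  · left
    apply h.model_of_equiv (Cfsg.quadFormPlus m (EE F δ))
    exact ⟨QE, Φ, hQE, hΦ⟩
  · right
    obtain ⟨L, hL⟩ := AutPO.minus_iso (m := m - 1) (1 : EE F δ) ζ a₀ c₀ (AutPO.aniso_of_as ζ hζ) hac
    set Le : (IM (m - 1) → EE F δ) ≃ₗ[EE F δ] (IM (m - 1) → EE F δ) :=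
      Matrix.toLin'OfInv (gmi L) (gim L) with hLe
    have hLe' : ∀ w, (L : Matrix _ _ (EE F δ)) *ᵥ (Le w) = w := by
      intro w
      show L.1 *ᵥ (Matrix.toLin' (L⁻¹).1 w) = w
      rw [Matrix.toLin'_apply, Matrix.mulVec_mulVec]
      have := gmi L
      rw [this, Matrix.one_mulVec]
    apply h.model_of_equiv (Cfsg.quadFormMinus (m - 1) (EE F δ) a₀ c₀)
    refine ⟨QE, Φ.trans Le, hQE, ?_⟩
    intro v
    rw [hΦ, LinearEquiv.trans_apply, ← hL, hLe']

/-- the odd case: a model on one of the two multiples of the standard odd form over `E` -/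
theorem SRoot.model_odd_dich (h : SRoot Q α δ) (h2 : (2 : F) ≠ 0)
    (hnd : (QuadraticMap.polarBilin Q).Nondegenerate) (m : ℕ)
    (hcard : Fintype.card n = 2 * (2 * m + 1))
    (ν : EE F δ) (hν : ¬ IsSquare ν) :
    (∃ φ : (n → F) ≃ₗ[F] (Unit ⊕ (Fin m ⊕ Fin m) → EE F δ),
      Model Q α δ (fun w => (ω : EE F δ) * Cfsg.quadFormOdd m (EE F δ) w) φ) ∨
    ∃ φ : (n → F) ≃ₗ[F] (Unit ⊕ (Fin m ⊕ Fin m) → EE F δ),
      Model Q α δ (fun w => (ω * ν) * Cfsg.quadFormOdd m (EE F δ) w) φ := by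
  letI := modOf (liftG α δ h.sq)
  haveI := modOf_tower (liftG α δ h.sq)
  obtain ⟨QE, hQEnd, hQE⟩ := h.exists_QE h2 hnd
  have hfr : finrank (EE F δ) (n → F) = 2 * m + 1 := by
    have := h.finrank_eq
    omega
  haveI : FiniteDimensional (EE F δ) (n → F) := Module.Finite.right F (EE F δ) (n → F)
  obtain ⟨c, Φ, hc0, hΦ⟩ := Cfsg.Agent.Lib.H12.OrdO.exists_odd_similitude QE hQEnd m hfr
  have hω0 : (ω : EE F δ) ≠ 0 := by
    intro h0
    have := congrArg QuadraticAlgebra.im h0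
    simp at this
  have hν0 : ν ≠ 0 := by
    rintro rfl
    exact hν ⟨0, by simp⟩
  have hcω0 : c * (ω : EE F δ)⁻¹ ≠ 0 := mul_ne_zero hc0 (inv_ne_zero hω0)
  by_cases hsq : IsSquare (c * (ω : EE F δ)⁻¹)
  · left
    obtain ⟨e, he⟩ := hsq
    have he0 : e ≠ 0 := by
      rintro rfl
      rw [mul_zero] at he
      exact hcω0 he
    have hc : c = ω * e ^ 2 := by
      rw [pow_two, ← he, mul_comm c, ← mul_assoc, mul_inv_cancel₀ hω0, one_mul]
    apply h.model_of_equiv (fun w => (ω : EE F δ) * Cfsg.quadFormOdd m (EE F δ) w)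
    refine ⟨QE, Φ.trans (LinearEquiv.smulOfNeZero (EE F δ) _ e he0), hQE, ?_⟩
    intro v
    rw [hΦ, LinearEquiv.trans_apply, LinearEquiv.smulOfNeZero_apply, quadFormOdd_smul, hc]
    ring
  · right
    obtain ⟨μ, hμ⟩ := SOIndexTwo.isSquare_mul_of_not _ _ hcω0 hν0 hsq hν
    have hμ0 : μ ≠ 0 := by
      rintro rfl
      rw [mul_zero] at hμ
      exact mul_ne_zero hcω0 hν0 hμ
    set μ' : EE F δ := μ * ν⁻¹ with hμ'
    have hμ'0 : μ' ≠ 0 := mul_ne_zero hμ0 (inv_ne_zero hν0)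
    have hcμ : c = (ω * ν) * μ' ^ 2 := by
      have : c = ω * (c * (ω : EE F δ)⁻¹ * ν) * ν⁻¹ := by
        field_simp
      rw [this, hμ, hμ']
      field_simp
    apply h.model_of_equiv (fun w => (ω * ν) * Cfsg.quadFormOdd m (EE F δ) w)
    refine ⟨QE, Φ.trans (LinearEquiv.smulOfNeZero (EE F δ) _ μ' hμ'0), hQE, ?_⟩
    intro v
    rw [hΦ, LinearEquiv.trans_apply, LinearEquiv.smulOfNeZero_apply, quadFormOdd_smul, hcμ]
    ring

end dich

section iso

variable {F : Type*} [Field F]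

/-- two quadratic spaces with models on the same target are isometric -/
theorem Model.iso {n₁ n₂ κ : Type} [Fintype n₁] [DecidableEq n₁] [Fintype n₂] [DecidableEq n₂]
    {Q₁ : QuadraticForm F (n₁ → F)} {Q₂ : QuadraticForm F (n₂ → F)} {α₁ : Matrix n₁ n₁ F}
    {α₂ : Matrix n₂ n₂ F} {δ : F} {S : (κ → EE F δ) → EE F δ}
    {φ₁ : (n₁ → F) ≃ₗ[F] (κ → EE F δ)} {φ₂ : (n₂ → F) ≃ₗ[F] (κ → EE F δ)}
    (h₁ : Model Q₁ α₁ δ S φ₁) (h₂ : Model Q₂ α₂ δ S φ₂) :
    ∃ ψ : (n₁ → F) ≃ₗ[F] (n₂ → F), ∀ v, Q₂ (ψ v) = Q₁ v := by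
  refine ⟨φ₁.trans φ₂.symm, fun v => ?_⟩
  rw [h₂.form, LinearEquiv.trans_apply, LinearEquiv.apply_symm_apply, ← h₁.form]

variable [Fintype F]

/-- a root of any scalar on an even-dimensional non-degenerate quadratic space -/
theorem exists_sroot {n : Type} [Fintype n] [DecidableEq n] (Q : QuadraticForm F (n → F))
    (hnd : (QuadraticMap.polarBilin Q).Nondegenerate) (h2 : (2 : F) ≠ 0)
    (hev : Even (Fintype.card n)) (δ : F) : ∃ α : Matrix n n F, SRoot Q α δ := by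
  obtain ⟨A, hAsq, hAsa⟩ := even_root h2 δ (QuadraticMap.polarBilin Q)
    (fun u v => by
      rw [QuadraticMap.polarBilin_apply_apply, QuadraticMap.polarBilin_apply_apply,
        QuadraticMap.polar_comm])
    (fun v hv => hnd.1 v hv) (by rw [Module.finrank_fintype_fun_eq_card]; exact hev)
  exact ⟨_, sroot_of_end Q δ A hAsq hAsa⟩

/-- a space with a totally singular subspace of half the dimension is not isometric to the minus
form -/
theorem not_iso_minus (h2 : (2 : F) ≠ 0) {n : Type} [Fintype n] [DecidableEq n]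
    (Q : QuadraticForm F (n → F)) (k : ℕ) (a b : F)
    (hab : ∀ z₁ z₂ : F, z₁ ^ 2 + a * z₁ * z₂ + b * z₂ ^ 2 = 0 → z₁ = 0 ∧ z₂ = 0)
    (hts : ∃ U : Submodule F (n → F), finrank F U = k + 1 ∧ ∀ u ∈ U, Q u = 0)
    (ψ : (n → F) ≃ₗ[F] (IM k → F)) (hψ : ∀ v, minusQF F k a b (ψ v) = Q v) : False := by
  obtain ⟨U, hU, hts⟩ := hts
  apply noTS_minus h2 k a b hab (U.map (ψ : (n → F) →ₗ[F] (IM k → F)))
  · rw [LinearEquiv.finrank_map_eq, hU]
  · rintro _ ⟨u, hu, rfl⟩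
    rw [LinearEquiv.coe_coe, hψ]
    exact hts u hu

omit [Fintype F] in
/-- the plus form has a totally singular subspace of half the dimension -/
theorem hasTS_plus (d : ℕ) :
    ∃ U : Submodule F (Fin d ⊕ Fin d → F), finrank F U = d ∧ ∀ u ∈ U, plusQF F d u = 0 := by
  set j₀ : (Fin d → F) →ₗ[F] (Fin d ⊕ Fin d → F) :=
    LinearMap.pi (fun s : Fin d ⊕ Fin d =>
      Sum.elim (fun i => (LinearMap.proj i : (Fin d → F) →ₗ[F] F)) (fun _ => 0) s)
    with hj₀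
  have hj₀l : ∀ y i, j₀ y (Sum.inl i) = y i := fun y i => rfl
  have hj₀r : ∀ y i, j₀ y (Sum.inr i) = 0 := fun y i => rfl
  have hinj : Function.Injective j₀ := by
    intro y y' hyy
    funext i
    rw [← hj₀l y i, ← hj₀l y' i, hyy]
  refine ⟨LinearMap.range j₀, ?_, ?_⟩
  · rw [LinearMap.finrank_range_of_inj hinj, Module.finrank_fintype_fun_eq_card, Fintype.card_fin]
  · rintro _ ⟨y, rfl⟩
    rw [Cfsg.Agent.S0287.coe_plusQF]
    unfold Cfsg.quadFormPlus
    simp [hj₀r]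

end iso

section plus

variable {F : Type*} [Field F] [Fintype F] {n : Type} [Fintype n] [DecidableEq n]
  {Q : QuadraticForm F (n → F)} {α : Matrix n n F} {δ : F} [Fact (∀ r : F, r ^ 2 ≠ δ + 0 * r)]

attribute [local instance] fintypeEE

theorem card_IM (k : ℕ) : Fintype.card (IM k) = 2 * (k + 1) := by
  rw [Fintype.card_sum, Fintype.card_sum, Fintype.card_fin, Fintype.card_fin]
  ring

/-- the even case for a space of maximal Witt index: a model on the plus form over `E` -/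
theorem SRoot.model_even_plus (h : SRoot Q α δ) (h2 : (2 : F) ≠ 0)
    (hnd : (QuadraticMap.polarBilin Q).Nondegenerate) (m : ℕ) (hm : 1 ≤ m)
    (hcard : Fintype.card n = 2 * (2 * m))
    (hts : ∃ U : Submodule F (n → F), finrank F U = 2 * m ∧ ∀ u ∈ U, Q u = 0) :
    ∃ φ : (n → F) ≃ₗ[F] (Fin m ⊕ Fin m → EE F δ),
      Model Q α δ (Cfsg.quadFormPlus m (EE F δ)) φ := by
  obtain ⟨a₀, c₀, hac⟩ := Cfsg.Agent.Lib.H12.OrdO.exists_aniso (F := EE F δ)
  rcases h.model_even_dich h2 hnd m hm hcard a₀ c₀ hac with h1 | ⟨φ, hφ⟩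
  · exact h1
  · exfalso
    obtain ⟨a, b, hab⟩ := Cfsg.Agent.Lib.H12.OrdO.exists_aniso (F := F)
    have hndm := Cfsg.Agent.S0288.nondeg a b hab (2 * m - 1)
    have hcm : Fintype.card (IM (2 * m - 1)) = 2 * (2 * m) := by
      rw [card_IM]
      omega
    obtain ⟨α', hα'⟩ := exists_sroot (minusQF F (2 * m - 1) a b) hndm h2
      (by rw [hcm]; exact ⟨2 * m, by ring⟩) δ
    obtain ⟨φ', hφ'⟩ := hα'.model_even h2 hndm m hm hcm
      (by
        intro U hU
        apply noTS_minus h2 (2 * m - 1) a b hab U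
        rw [hU]
        omega) a₀ c₀ hac
    obtain ⟨ψ, hψ⟩ := hφ.iso hφ'
    exact not_iso_minus h2 Q (2 * m - 1) a b hab
      (by
        obtain ⟨U, hU, hU'⟩ := hts
        exact ⟨U, by rw [hU]; omega, hU'⟩) ψ hψ

/-- the odd case for a space of maximal Witt index -/
theorem SRoot.model_odd_plus (h : SRoot Q α δ) (h2 : (2 : F) ≠ 0)
    (hnd : (QuadraticMap.polarBilin Q).Nondegenerate) (m : ℕ)
    (hcard : Fintype.card n = 2 * (2 * m + 1))
    (hts : ∃ U : Submodule F (n → F), finrank F U = 2 * m + 1 ∧ ∀ u ∈ U, Q u = 0) :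
    ∃ φ : (n → F) ≃ₗ[F] (Unit ⊕ (Fin m ⊕ Fin m) → EE F δ),
      Model Q α δ (fun w => (ω : EE F δ) * Cfsg.quadFormOdd m (EE F δ) w) φ := by
  have hchE : ringChar (EE F δ) ≠ 2 := by
    intro hc
    have h0 : ((2 : ℕ) : EE F δ) = 0 := by
      rw [← hc]
      exact ringChar.Nat.cast_ringChar
    have := congrArg QuadraticAlgebra.re h0
    apply h2
    simpa using this
  obtain ⟨ν, hν⟩ := FiniteField.exists_nonsquare hchE
  rcases h.model_odd_dich h2 hnd m hcard ν hν with h1 | ⟨φ, hφ⟩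
  · exact h1
  · exfalso
    obtain ⟨a, b, hab⟩ := Cfsg.Agent.Lib.H12.OrdO.exists_aniso (F := F)
    have hndm := Cfsg.Agent.S0288.nondeg a b hab (2 * m)
    have hcm : Fintype.card (IM (2 * m)) = 2 * (2 * m + 1) := card_IM (2 * m)
    obtain ⟨α', hα'⟩ := exists_sroot (minusQF F (2 * m) a b) hndm h2
      (by rw [hcm]; exact ⟨2 * m + 1, by ring⟩) δ
    obtain ⟨φ', hφ'⟩ := hα'.model_odd h2 hndm m hcm
      (by
        intro U hU
        exact noTS_minus h2 (2 * m) a b hab U hU) ν hν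
    obtain ⟨ψ, hψ⟩ := hφ.iso hφ'
    exact not_iso_minus h2 Q (2 * m) a b hab hts ψ hψ

end plus

end Cfsg.Agent.Lib.H23.OrF
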