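import Mathlib
import Cfsg.Agent.Lib.H23.OrFG
import Cfsg.Agent.Lib.H23.OrFP

set_option autoImplicit false
set_option linter.style.haveILetI false

/-!
# The primes dividing the index of the normalizer of `K` in `Ω⁺_{2d}(q)` (helper23)
-/

namespace Cfsg.Agent.Lib.H23.OrF

open Module Matrix QuadraticAlgebra
open Cfsg.Agent.Lib.H23.SpU Cfsg.Agent.Lib.H23.SpF Cfsg.Agent.Lib.H13
open Cfsg.Agent.Lib.H13.MinusClass

/-- the order formula for even `d = 2 m`, plus type -/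
theorem card_even_plus (q m : ℕ) (hm : 1 ≤ m) :
    2 * q ^ (2 * m * (2 * m - 1)) * (q ^ (2 * m) - 1) * PP q (2 * m - 1) =
      (2 * (q ^ 2) ^ (m * (m - 1)) * ((q ^ 2) ^ m - 1) * PP (q ^ 2) (m - 1)) *
        (q ^ (2 * m ^ 2) * PO q m) := by
  obtain ⟨k, rfl⟩ : ∃ k, m = k + 1 := ⟨m - 1, by omega⟩
  have h1 : 2 * (k + 1) - 1 = 2 * k + 1 := by omega
  have h3 : k + 1 - 1 = k := by omega
  rw [h1, h3, PP_two_mul_add_one, ← pow_mul, ← pow_mul]
  have e : q ^ (2 * (k + 1) * (2 * k + 1)) = q ^ (2 * ((k + 1) * k)) * q ^ (2 * (k + 1) ^ 2) := by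
    rw [← pow_add]
    congr 1
    ring
  rw [e]
  ring

/-- the order formula for odd `d = 2 m + 1`, plus type -/
theorem card_odd_plus (q m : ℕ) :
    2 * q ^ ((2 * m + 1) * (2 * m + 1 - 1)) * (q ^ (2 * m + 1) - 1) * PP q (2 * m + 1 - 1) =
      (2 * (q ^ 2) ^ (m ^ 2) * PP (q ^ 2) m) *
        (q ^ (2 * m ^ 2 + 2 * m) * (q ^ (2 * m + 1) - 1) * PO q m) := by
  have h1 : 2 * m + 1 - 1 = 2 * m := by omega
  rw [h1, PP_two_mul, ← pow_mul]
  have e : q ^ ((2 * m + 1) * (2 * m)) = q ^ (2 * m ^ 2) * q ^ (2 * m ^ 2 + 2 * m) := by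
    rw [← pow_add]
    congr 1
    ring
  rw [e]
  ring

theorem dvd_cases_odd_plus (q m r : ℕ) (hr : r.Prime)
    (h : r ∣ q ^ (2 * m ^ 2 + 2 * m) * (q ^ (2 * m + 1) - 1) * PO q m) :
    r ∣ q ∨ r ∣ q ^ (2 * m + 1) - 1 ∨ ∃ k < m, r ∣ q ^ (2 * (2 * k + 1)) - 1 := by
  rcases (Nat.Prime.dvd_mul hr).mp h with h' | h'
  · rcases (Nat.Prime.dvd_mul hr).mp h' with h'' | h''
    · left; exact hr.dvd_of_dvd_pow h''
    · right; left; exact h''
  · right; right; exact dvd_PO q m r hr h'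

/-- `r ∣ q^j − 1`, `j` odd -/
theorem ord_cases_sub_odd {r : ℕ} [Fact r.Prime] (q j : ℕ) (hq : 1 ≤ q) (hj : Odd j)
    (h : r ∣ q ^ j - 1) :
    Odd (orderOf (q : ZMod r)) ∧ orderOf (q : ZMod r) ≤ j := by
  have h1 : 1 ≤ q ^ j := Nat.one_le_pow _ _ hq
  have hpow : (q : ZMod r) ^ j = 1 := by
    rw [← ZMod.natCast_eq_zero_iff, Nat.cast_sub h1, Nat.cast_pow, Nat.cast_one, sub_eq_zero] at h
    exact h
  have hdvd : orderOf (q : ZMod r) ∣ j := orderOf_dvd_of_pow_eq_one hpow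
  refine ⟨?_, Nat.le_of_dvd hj.pos hdvd⟩
  obtain ⟨t, ht⟩ := hdvd
  rw [ht] at hj
  exact (Nat.odd_mul.mp hj).1

section index

variable {F : Type*} [Field F] [Fintype F] {q : ℕ}

attribute [local instance] fintypeEE

/-- the primes dividing the index, plus type -/
theorem index_cases_plus (hq : Fintype.card F = q) (hodd : Odd q) (d : ℕ) (hd : 1 ≤ d)
    (K : Subalgebra F (Matrix (Fin d ⊕ Fin d) (Fin d ⊕ Fin d) F))
    (α : Matrix (Fin d ⊕ Fin d) (Fin d ⊕ Fin d) F)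
    (δ : F) (hK : QData K α δ) (hsa : SRoot (plusQF F d) α δ)
    (r : ℕ) (hr : r.Prime)
    (hΩ : r ∣ (Cfsg.Geo.subalgebraNormalizer K).relIndex
      (Cfsg.Geo.omegaGL (Cfsg.quadFormPlus d F))) :
    r ∣ q ∨ ∃ j, Odd j ∧ ((j ≤ d - 1 ∧ r ∣ q ^ (2 * j) - 1) ∨ (j = d ∧ r ∣ q ^ d - 1)) := by
  have h2 : (2 : F) ≠ 0 := by
    intro h0
    have hchar : ringChar F = 2 := by
      apply (CharP.ringChar_of_prime_eq_zero Nat.prime_two _)
      exact_mod_cast h0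
    have := FiniteField.even_card_of_char_two hchar
    rw [hq] at this
    exact (Nat.not_even_iff_odd.mpr hodd) (Nat.even_iff.mpr this)
  haveI : Fact (∀ r : F, r ^ 2 ≠ δ + 0 * r) := fact_of_nsq δ hK.nsq
  have hnd := Cfsg.Agent.S0287.nondeg (F := F) d
  have hcardn : Fintype.card (Fin d ⊕ Fin d) = 2 * d := by
    rw [Fintype.card_sum, Fintype.card_fin]
    omega
  have hts := hasTS_plus (F := F) d
  have hcE : Fintype.card (EE F δ) = q ^ 2 := by rw [card_EE, hq]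
  have hcardO : Nat.card ↥(Cfsg.isometryGroup F ⇑(plusQF F d)) =
      2 * q ^ (d * (d - 1)) * (q ^ d - 1) * PP q (d - 1) := by
    rw [Cfsg.Agent.S0287.coe_plusQF, Cfsg.Agent.S0287.result hq d hd]
    rfl
  rw [← Cfsg.Agent.S0287.coe_plusQF] at hΩ
  rcases Nat.even_or_odd d with ⟨m, hm⟩ | ⟨m, hm⟩
  · -- even
    have hd2 : d = 2 * m := by omega
    have hm1 : 1 ≤ m := by omega
    obtain ⟨φ, hφ⟩ := hsa.model_even_plus h2 hnd m hm1 (by rw [hcardn, hd2])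
      (by rw [← hd2]; exact hts)
    obtain ⟨t, ht⟩ := hφ.relIndex_mul K hK
    rw [hcardO, Cfsg.Agent.S0287.result hcE m hm1] at ht
    have hpos : 0 < 2 * (q ^ 2) ^ (m * (m - 1)) * ((q ^ 2) ^ m - 1) *
        ∏ i ∈ Finset.range (m - 1), ((q ^ 2) ^ (2 * (i + 1)) - 1) := by
      rw [← Cfsg.Agent.S0287.result hcE m hm1]
      exact Nat.card_pos
    have hid := card_even_plus q m hm1
    rw [← hd2] at hid
    have heq : (Cfsg.Geo.subalgebraNormalizer K).relIndex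
        (Cfsg.Geo.omegaGL ⇑(plusQF F d)) * t = q ^ (2 * m ^ 2) * PO q m := by
      have : (2 * (q ^ 2) ^ (m * (m - 1)) * ((q ^ 2) ^ m - 1) *
          ∏ i ∈ Finset.range (m - 1), ((q ^ 2) ^ (2 * (i + 1)) - 1)) *
          ((Cfsg.Geo.subalgebraNormalizer K).relIndex
            (Cfsg.Geo.omegaGL ⇑(plusQF F d)) * t) =
          (2 * (q ^ 2) ^ (m * (m - 1)) * ((q ^ 2) ^ m - 1) *
          ∏ i ∈ Finset.range (m - 1), ((q ^ 2) ^ (2 * (i + 1)) - 1)) *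
            (q ^ (2 * m ^ 2) * PO q m) := by
        have e : (2 * (q ^ 2) ^ (m * (m - 1)) * ((q ^ 2) ^ m - 1) *
            ∏ i ∈ Finset.range (m - 1), ((q ^ 2) ^ (2 * (i + 1)) - 1)) =
            2 * (q ^ 2) ^ (m * (m - 1)) * ((q ^ 2) ^ m - 1) * PP (q ^ 2) (m - 1) := rfl
        rw [e, ← hid, ← ht, e]
        ring
      exact Nat.eq_of_mul_eq_mul_left hpos this
    have hdvd : r ∣ q ^ (2 * m ^ 2) * PO q m := by
      rw [← heq]
      exact Dvd.dvd.mul_right hΩ t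
    rcases dvd_cases_even q m r hr hdvd with h' | ⟨k, hk, hkd⟩
    · left; exact h'
    · right
      exact ⟨2 * k + 1, ⟨k, rfl⟩, Or.inl ⟨by omega, hkd⟩⟩
  · -- odd
    obtain ⟨φ, hφ⟩ := hsa.model_odd_plus h2 hnd m (by rw [hcardn, hm])
      (by rw [← hm]; exact hts)
    obtain ⟨t, ht⟩ := hφ.relIndex_mul K hK
    have hω : (ω : EE F δ) ≠ 0 := by
      intro h0
      have := congrArg QuadraticAlgebra.im h0
      simp at this
    have hoddE : Odd (q ^ 2) := hodd.pow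
    rw [hcardO, iso_smul _ hω, Cfsg.Agent.S0286.result hcE hoddE m] at ht
    have hpos : 0 < 2 * (q ^ 2) ^ (m ^ 2) *
        ∏ i ∈ Finset.range m, ((q ^ 2) ^ (2 * (i + 1)) - 1) := by
      rw [← Cfsg.Agent.S0286.result hcE hoddE m]
      exact Nat.card_pos
    have hid := card_odd_plus q m
    rw [← hm] at hid
    have heq : (Cfsg.Geo.subalgebraNormalizer K).relIndex
        (Cfsg.Geo.omegaGL ⇑(plusQF F d)) * t =
        q ^ (2 * m ^ 2 + 2 * m) * (q ^ d - 1) * PO q m := by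
      have : (2 * (q ^ 2) ^ (m ^ 2) * ∏ i ∈ Finset.range m, ((q ^ 2) ^ (2 * (i + 1)) - 1)) *
          ((Cfsg.Geo.subalgebraNormalizer K).relIndex
            (Cfsg.Geo.omegaGL ⇑(plusQF F d)) * t) =
          (2 * (q ^ 2) ^ (m ^ 2) * ∏ i ∈ Finset.range m, ((q ^ 2) ^ (2 * (i + 1)) - 1)) *
            (q ^ (2 * m ^ 2 + 2 * m) * (q ^ d - 1) * PO q m) := by
        have e : (2 * (q ^ 2) ^ (m ^ 2) * ∏ i ∈ Finset.range m, ((q ^ 2) ^ (2 * (i + 1)) - 1)) =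
            2 * (q ^ 2) ^ (m ^ 2) * PP (q ^ 2) m := rfl
        rw [e, ← hid, ← ht, e]
        ring
      exact Nat.eq_of_mul_eq_mul_left hpos this
    have hdvd : r ∣ q ^ (2 * m ^ 2 + 2 * m) * (q ^ (2 * m + 1) - 1) * PO q m := by
      have h3 : q ^ (2 * m + 1) = q ^ d := by rw [hm]
      rw [h3, ← heq]
      exact Dvd.dvd.mul_right hΩ t
    rcases dvd_cases_odd_plus q m r hr hdvd with h' | h' | ⟨k, hk, hkd⟩
    · left; exact h'
    · right
      refine ⟨d, ⟨m, hm⟩, Or.inr ⟨rfl, ?_⟩⟩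
      rw [hm]; exact h'
    · right
      exact ⟨2 * k + 1, ⟨k, rfl⟩, Or.inl ⟨by omega, hkd⟩⟩

end index

end Cfsg.Agent.Lib.H23.OrF
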