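import Mathlib
import Cfsg.Agent.Lib.H23.OrFJ
import Cfsg.Agent.Lib.H23.OrFQ

set_option autoImplicit false
set_option linter.style.haveILetI false

/-!
# `Ω⁺_{2d}(q)` on the cosets of the normalizer of a self-adjoint quadratic field: test elements and
derangements of odd prime order (helper23)
-/

namespace Cfsg.Agent.Lib.H23.OrF

open Module Matrix Polynomial
open Cfsg.Agent.Lib.H13 Cfsg.Agent.Lib.H13.MinusClass Cfsg.Agent.Lib.H11.IsoReindex
open Cfsg.Agent.Lib.H11.Jordan
open Cfsg.Agent.Lib.H12.OrdO Cfsg.Agent.Lib.H12.RootCnt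

section test

variable {F : Type*} [Field F] [Fintype F] {p : ℕ} [Fact p.Prime] [CharP F p] {q : ℕ} {r : ℕ}
  [Fact r.Prime]

theorem exists_test_even_plus (hF : Fintype.card F = q) (hr2 : r ≠ 2) (hrp : r ≠ p) (d : ℕ)
    (hd : 1 ≤ d)
    (b₀ : ℕ) (hb : orderOf (q : ZMod r) = 2 * b₀) (hbd : b₀ + 1 ≤ d) :
    ∃ g : GL (Fin d ⊕ Fin d) F,
      g ∈ Cfsg.isometryGroup F (Cfsg.quadFormPlus d F) ∧ g ^ r = 1 ∧
      finrank F (LinearMap.ker (Matrix.toLin' g.1 - 1)) + 2 * b₀ = 2 * d := by
  classical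
  have hr : r.Prime := Fact.out
  have : NeZero r := ⟨hr.ne_zero⟩
  have hp : p.Prime := Fact.out
  have hrF : (r : F) ≠ 0 := by
    rw [Ne, CharP.cast_eq_zero_iff F p]
    intro hdv
    exact hrp ((Nat.prime_dvd_prime_iff_eq hp hr).mp hdv).symm
  have : NeZero (r : F) := ⟨hrF⟩
  obtain ⟨ζ, hζ⟩ := HasEnoughRootsOfUnity.exists_primitiveRoot (AlgebraicClosure F) r
  have : CharP (AlgebraicClosure F) p :=
    charP_of_injective_algebraMap (algebraMap F (AlgebraicClosure F)).injective p
  have : ExpChar (AlgebraicClosure F) p := ExpChar.prime hp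
  obtain ⟨f, -, hf⟩ := FiniteField.card F p
  have hφ : ∀ x : AlgebraicClosure F,
      iterateFrobenius (AlgebraicClosure F) p f x = x ^ Fintype.card F := by
    intro x
    rw [iterateFrobenius_def, hf]
  have hq0 : (q : ZMod r) ≠ 0 := by
    intro h0
    have h2 : r ∣ q := (ZMod.natCast_eq_zero_iff q r).mp h0
    rw [← hF, hf] at h2
    have h3 := hr.dvd_of_dvd_pow h2
    exact hrp ((Nat.prime_dvd_prime_iff_eq hr hp).mp h3)
  set u : (ZMod r)ˣ := Units.mk0 (q : ZMod r) hq0 with hu
  have huv : (u : ZMod r) = (Fintype.card F : ZMod r) := by rw [hF]; rfl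
  have hordu : orderOf u = 2 * b₀ := by
    rw [← hb, ← orderOf_units]
    rfl
  have hub : (u : ZMod r) ^ b₀ = (-1) ^ 1 := by
    rw [← Units.val_pow_eq_pow_val, pow_half_eq_neg_one r u b₀ hordu]
    simp
  have h10 : (1 : ZMod r) ≠ 0 := by
    have : Fact (1 < r) := ⟨hr.one_lt⟩
    exact one_ne_zero
  obtain ⟨a₀, c₀, hac⟩ := Cfsg.Agent.Lib.H12.OrdO.exists_aniso (F := F)
  set a : ZMod r → ℕ := ind u 1 + zf r (2 * (d - b₀)) with ha
  have hsum : ∑ j, a j = 2 * d := by
    rw [ha]
    simp only [Pi.add_apply]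
    rw [Finset.sum_add_distrib, sum_ind u 1 h10, sum_zf, hordu]
    omega
  have hinv : ∀ j, a ((u : ZMod r) * j) = a j := by
    intro j
    rw [ha]
    simp only [Pi.add_apply]
    rw [ind_invariant, zf_inv]
  have ha0 : a 0 = 2 * (d - b₀) := by
    rw [ha]
    simp only [Pi.add_apply]
    rw [ind_zero u 1 h10, zero_add]
    unfold zf
    rw [if_pos rfl]
  have hcond : a 0 ≠ 0 ∨ (u : ZMod r) ^ d = (-1) ^ 0 := by
    left
    rw [ha0]
    omega
  obtain ⟨k', hk', hRz⟩ := exists_Rz hζ hr2 u u b₀ 1 hordu hub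
    (fun j₀ hj₀ => atoms_even p hrp hζ (iterateFrobenius (AlgebraicClosure F) p f) hφ u huv b₀
      hordu j₀ hj₀) a₀ c₀ hac d 0 a hsum hinv hcond
  have hk'even : Even k' := hk'.mpr ⟨0, rfl⟩
  obtain ⟨g, hgO, hgr, hga⟩ := hRz.to_plus hd hk'even
  refine ⟨g, hgO, hgr, ?_⟩
  rw [finrank_fix_eq_mf ζ g hrF hgr, hga, ha0]
  omega

theorem exists_test_odd_plus (hF : Fintype.card F = q) (hr2 : r ≠ 2) (hrp : r ≠ p) (d : ℕ)
    (hd : 1 ≤ d)
    (hodd : Odd (orderOf (q : ZMod r))) (hid : orderOf (q : ZMod r) ≤ d) :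
    ∃ g : GL (Fin d ⊕ Fin d) F,
      g ∈ Cfsg.isometryGroup F (Cfsg.quadFormPlus d F) ∧ g ^ r = 1 ∧
      finrank F (LinearMap.ker (Matrix.toLin' g.1 - 1)) + 2 * orderOf (q : ZMod r) = 2 * d := by
  classical
  have hr : r.Prime := Fact.out
  have : NeZero r := ⟨hr.ne_zero⟩
  have hp : p.Prime := Fact.out
  have hrF : (r : F) ≠ 0 := by
    rw [Ne, CharP.cast_eq_zero_iff F p]
    intro hdv
    exact hrp ((Nat.prime_dvd_prime_iff_eq hp hr).mp hdv).symm
  have : NeZero (r : F) := ⟨hrF⟩
  obtain ⟨ζ, hζ⟩ := HasEnoughRootsOfUnity.exists_primitiveRoot (AlgebraicClosure F) r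
  have : CharP (AlgebraicClosure F) p :=
    charP_of_injective_algebraMap (algebraMap F (AlgebraicClosure F)).injective p
  have : ExpChar (AlgebraicClosure F) p := ExpChar.prime hp
  obtain ⟨f, -, hf⟩ := FiniteField.card F p
  have hφ : ∀ x : AlgebraicClosure F,
      iterateFrobenius (AlgebraicClosure F) p f x = x ^ Fintype.card F := by
    intro x
    rw [iterateFrobenius_def, hf]
  have hq0 : (q : ZMod r) ≠ 0 := by
    intro h0
    have h2 : r ∣ q := (ZMod.natCast_eq_zero_iff q r).mp h0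
    rw [← hF, hf] at h2
    have h3 := hr.dvd_of_dvd_pow h2
    exact hrp ((Nat.prime_dvd_prime_iff_eq hr hp).mp h3)
  set u : (ZMod r)ˣ := Units.mk0 (q : ZMod r) hq0 with hu
  have huv : (u : ZMod r) = (Fintype.card F : ZMod r) := by rw [hF]; rfl
  set i := orderOf (q : ZMod r) with hi
  have hordu : orderOf u = i := by
    rw [hi, ← orderOf_units]
    rfl
  obtain ⟨h2i, -⟩ := twist_odd r hr2 u i hordu hodd
  have hub : (u : ZMod r) ^ i = (-1) ^ 0 := by
    rw [← Units.val_pow_eq_pow_val, ← hordu, pow_orderOf_eq_one]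
    simp
  have h10 : (1 : ZMod r) ≠ 0 := by
    have : Fact (1 < r) := ⟨hr.one_lt⟩
    exact one_ne_zero
  obtain ⟨a₀, c₀, hac⟩ := Cfsg.Agent.Lib.H12.OrdO.exists_aniso (F := F)
  set a : ZMod r → ℕ := ind (-u) 1 + zf r (2 * (d - i)) with ha
  have hsum : ∑ j, a j = 2 * d := by
    rw [ha]
    simp only [Pi.add_apply]
    rw [Finset.sum_add_distrib, sum_ind (-u) 1 h10, sum_zf, h2i]
    omega
  have hinv : ∀ j, a (((-u : (ZMod r)ˣ) : ZMod r) * j) = a j := by
    intro j
    rw [ha]
    simp only [Pi.add_apply]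
    rw [ind_invariant, zf_inv]
  have ha0 : a 0 = 2 * (d - i) := by
    rw [ha]
    simp only [Pi.add_apply]
    rw [ind_zero (-u) 1 h10, zero_add]
    unfold zf
    rw [if_pos rfl]
  have hcond : a 0 ≠ 0 ∨ (u : ZMod r) ^ d = (-1) ^ 0 := by
    by_cases hlt : i < d
    · left
      rw [ha0]
      omega
    · right
      have : i = d := by omega
      rw [← this]
      exact hub
  obtain ⟨k', hk', hRz⟩ := exists_Rz hζ hr2 u (-u) i 0 h2i hub
    (fun j₀ hj₀ => atoms_odd p hr2 hrp hζ (iterateFrobenius (AlgebraicClosure F) p f) hφ u huv i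
      hordu hodd j₀ hj₀) a₀ c₀ hac d 0 a hsum hinv hcond
  have hk'even : Even k' := hk'.mpr ⟨0, rfl⟩
  obtain ⟨g, hgO, hgr, hga⟩ := hRz.to_plus hd hk'even
  refine ⟨g, hgO, hgr, ?_⟩
  rw [finrank_fix_eq_mf ζ g hrF hgr, hga, ha0]
  omega

end test

section forward

variable {F : Type*} [Field F] [Fintype F] {q : ℕ}

omit [Fintype F] in
theorem exists_Q_ne_plus (d : ℕ) (hd : 1 ≤ d) : ∃ v, plusQF F d v ≠ 0 := by
  refine ⟨Pi.single (Sum.inl ⟨0, hd⟩) 1 + Pi.single (Sum.inr ⟨0, hd⟩) 1, ?_⟩
  rw [Cfsg.Agent.S0287.coe_plusQF]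
  unfold Cfsg.quadFormPlus
  rw [Finset.sum_eq_single (⟨0, hd⟩ : Fin d)]
  · simp
  · intro b _ hb
    simp [hb]
  · intro h
    exact absurd (Finset.mem_univ _) h

/-- derangements of odd prime order -/
theorem exists_derangement_plus (p : ℕ) [Fact p.Prime] [CharP F p] (hq : Fintype.card F = q) (hodd : Odd q) (d : ℕ) (hd : 3 ≤ d)
    (K : Subalgebra F (Matrix (Fin d ⊕ Fin d) (Fin d ⊕ Fin d) F)) (α : Matrix (Fin d ⊕ Fin d) (Fin d ⊕ Fin d) F)
    (δ : F) (hK : QData K α δ) (hsa : SRoot (plusQF F d) α δ)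
    (r : ℕ) [Fact r.Prime] (hr2 : r ≠ 2)
    (hΩ : r ∣ (Cfsg.Geo.subalgebraNormalizer K).relIndex
      (Cfsg.Geo.omegaGL (Cfsg.quadFormPlus d F))) :
    ∃ x : GL (Fin d ⊕ Fin d) F, x ∈ Cfsg.Geo.omegaGL (Cfsg.quadFormPlus d F) ∧ x ^ r = 1 ∧
      (∀ z : F, (x : Matrix (Fin d ⊕ Fin d) (Fin d ⊕ Fin d) F) ≠ z • 1) ∧
      ∀ g ∈ Cfsg.Geo.omegaGL (Cfsg.quadFormPlus d F),
        g⁻¹ * x * g ∉ Cfsg.Geo.subalgebraNormalizer K := by
  classical
  have hr : r.Prime := Fact.out
  have hp : p.Prime := Fact.out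
  have hrodd : Odd r := hr.odd_of_ne_two hr2
  have h2 : (2 : F) ≠ 0 := two_ne_zero_of_odd' hq hodd
  have hq1 : 1 ≤ q := hodd.pos
  have hnd := Cfsg.Agent.S0287.nondeg (F := F) d
  have hndB : ∀ v, (∀ w, QuadraticMap.polarBilin (plusQF F d) v w = 0) → v = 0 :=
    fun v hv => hnd.1 v hv
  have hcardn : Fintype.card (Fin d ⊕ Fin d) = 2 * d := by
    rw [Fintype.card_sum, Fintype.card_fin]
    omega
  have hfrV : finrank F (Fin d ⊕ Fin d → F) = 2 * d := by
    rw [Module.finrank_fintype_fun_eq_card, hcardn]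
  haveI : Nonempty (Fin d ⊕ Fin d) := ⟨Sum.inr ⟨0, by omega⟩⟩
  have hQne := exists_Q_ne_plus (F := F) d (by omega)
  have hcoe := Cfsg.Agent.S0287.coe_plusQF (F := F) d
  -- the common frame: a test isometry of odd order `r` gives a derangement as soon as no conjugate
  -- commutes with `α`
  have frame : ∀ x : GL (Fin d ⊕ Fin d) F, x ∈ Cfsg.isometryGroup F ⇑(plusQF F d) →
      x ^ r = 1 → x ≠ 1 →
      (∀ g : GL (Fin d ⊕ Fin d) F, g ∈ Cfsg.isometryGroup F ⇑(plusQF F d) →
        ((g⁻¹ * x * g : GL (Fin d ⊕ Fin d) F) : Matrix _ _ F) * α =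
          α * ((g⁻¹ * x * g : GL (Fin d ⊕ Fin d) F) : Matrix _ _ F) → False) →
      ∃ x : GL (Fin d ⊕ Fin d) F, x ∈ Cfsg.Geo.omegaGL (Cfsg.quadFormPlus d F) ∧
        x ^ r = 1 ∧ (∀ z : F, (x : Matrix (Fin d ⊕ Fin d) (Fin d ⊕ Fin d) F) ≠ z • 1) ∧
        ∀ g ∈ Cfsg.Geo.omegaGL (Cfsg.quadFormPlus d F),
          g⁻¹ * x * g ∉ Cfsg.Geo.subalgebraNormalizer K := by
    intro x hxO hxr hx1 hno
    refine ⟨x, ?_, hxr, ?_, ?_⟩
    · rw [← hcoe]
      exact Cfsg.Agent.Lib.H11.OrthReal.mem_omegaGL_of_odd_order _ hnd h2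
        (by rw [hcardn]; omega) x hxO r hrodd hxr
    · intro z hz
      exact hx1 (scalar_eq_one hQne x hxO r hrodd hxr z hz)
    · intro g hg hmem
      rw [← hcoe] at hg
      have hgO := Cfsg.Agent.Lib.H11.ConfOrth.omegaGL_le_iso _ hg
      have hyr := conj_pow_eq_one x g r hxr
      have hcomm := hK.comm_of_odd h2 (g⁻¹ * x * g) hmem r hrodd 1 (by rw [hyr, one_smul]; rfl)
      exact hno g hgO hcomm
  -- the operator attached to `α`
  have hAsq : ∀ v, Matrix.toLin' α (Matrix.toLin' α v) = δ • v := by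
    intro v
    rw [Matrix.toLin'_apply, Matrix.toLin'_apply, Matrix.mulVec_mulVec, hsa.sq,
      Matrix.smul_mulVec, Matrix.one_mulVec]
  have hAsa : ∀ u v, QuadraticMap.polarBilin (plusQF F d) (Matrix.toLin' α u) v =
      QuadraticMap.polarBilin (plusQF F d) u (Matrix.toLin' α v) := by
    intro u v
    rw [Matrix.toLin'_apply, Matrix.toLin'_apply]
    exact hsa.sa u v
  have hAy : ∀ y : GL (Fin d ⊕ Fin d) F, y.1 * α = α * y.1 →
      ∀ v, Matrix.toLin' α (Matrix.toLin' y.1 v) = Matrix.toLin' y.1 (Matrix.toLin' α v) := by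
    intro y hy v
    rw [Matrix.toLin'_apply, Matrix.toLin'_apply, Matrix.toLin'_apply, Matrix.toLin'_apply,
      Matrix.mulVec_mulVec, Matrix.mulVec_mulVec, hy]
  rcases index_cases_plus hq hodd d (by omega) K α δ hK hsa r hr hΩ with hrq | ⟨j, hjodd, hj⟩
  · -- `r = p`: a unipotent element
    obtain ⟨f, -, hf⟩ := FiniteField.card F p
    have hrp : r = p := by
      rw [← hq, hf] at hrq
      exact (Nat.prime_dvd_prime_iff_eq hr hp).mp (hr.dvd_of_dvd_pow hrq)
    set μ : Multiset ℕ := Multiset.replicate 2 2 + Multiset.replicate (2 * d - 4) 1 with hμ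
    have hmem : ∀ t ∈ μ, t = 2 ∨ t = 1 := by
      intro t ht
      rw [hμ, Multiset.mem_add] at ht
      rcases ht with ht | ht
      · left; exact Multiset.eq_of_mem_replicate ht
      · right; exact Multiset.eq_of_mem_replicate ht
    have hsumμ : μ.sum = 2 * d := by
      rw [hμ, Multiset.sum_add, Multiset.sum_replicate, Multiset.sum_replicate]
      simp only [smul_eq_mul]
      omega
    obtain ⟨x, hxO, hT⟩ := Cfsg.Agent.Lib.H11.OrthReal.exists_plus h2 d μ
      (by
        intro t ht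
        rcases hmem t ht with h | h <;> omega)
      (by
        intro t ht
        rw [hμ, Multiset.count_add, Multiset.count_replicate, Multiset.count_replicate]
        have ht1 : ¬ (1 = t) := by
          rintro rfl
          exact absurd ht (by decide)
        rw [if_neg ht1, add_zero]
        split_ifs
        · exact ⟨1, rfl⟩
        · exact ⟨0, rfl⟩)
      hsumμ
    rw [← hcoe] at hxO
    have hp2 : 2 ≤ p := hp.two_le
    have hxr : x ^ r = 1 := by
      rw [hrp]
      apply Cfsg.Agent.Lib.H11.OrthReal.pow_eq_one_of_rankType x hT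
      intro t ht
      rcases hmem t ht with h | h <;> omega
    have hrank : ∀ y : Matrix (Fin d ⊕ Fin d) (Fin d ⊕ Fin d) F, RankType y μ →
        (y - 1).rank = 2 ∧ (y - 1) * (y - 1) = 0 := by
      intro y hy
      constructor
      · have := hy 1
        rw [pow_one, hμ, Multiset.map_add, Multiset.map_replicate, Multiset.map_replicate,
          Multiset.sum_add, Multiset.sum_replicate, Multiset.sum_replicate] at this
        rw [this]
        simp
      · have := hy 2
        rw [hμ, Multiset.map_add, Multiset.map_replicate, Multiset.map_replicate,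
          Multiset.sum_add, Multiset.sum_replicate, Multiset.sum_replicate] at this
        have h0 : ((y - 1) ^ 2).rank = 0 := by
          rw [this]
          simp
        have := eq_zero_of_rank_eq_zero _ h0
        rwa [pow_two] at this
    apply frame x hxO hxr
    · intro h1
      have := (hrank x.1 hT).1
      rw [h1, Units.val_one, sub_self, Matrix.rank_zero] at this
      omega
    · intro g hgO hcomm
      set y := g⁻¹ * x * g with hy
      have hyO : y ∈ Cfsg.isometryGroup F ⇑(plusQF F d) :=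
        mul_mem (mul_mem (inv_mem hgO) hxO) hgO
      have hTy : RankType y.1 μ := by
        have := Cfsg.Agent.Lib.H11.OrthReal.RankType.conj (g⁻¹).1 g.1 (gim g) (gmi g) hT
        rwa [hy, Units.val_mul, Units.val_mul]
      obtain ⟨hr2', hsq0⟩ := hrank y.1 hTy
      have hN : Matrix.toLin' (y.1 - 1) = Matrix.toLin' y.1 - 1 := by
        rw [map_sub, Matrix.toLin'_one]
        rfl
      apply unip_no_root (QuadraticMap.polarBilin (plusQF F d))
        (fun u v => by
          rw [QuadraticMap.polarBilin_apply_apply, QuadraticMap.polarBilin_apply_apply,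
            QuadraticMap.polar_comm])
        hndB h2 (Matrix.toLin' (y.1 - 1))
        (fun v => by
          rw [Matrix.toLin'_apply, Matrix.toLin'_apply, Matrix.mulVec_mulVec, hsq0,
            Matrix.zero_mulVec])
        (by
          have : LinearMap.range (Matrix.toLin' (y.1 - 1)) =
              LinearMap.range (y.1 - 1).mulVecLin := by
            rw [Matrix.toLin'_apply']
          rw [this]
          exact hr2')
        (fun u v => by
          have e : ∀ w, w + Matrix.toLin' (y.1 - 1) w = Matrix.toLin' y.1 w := by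
            intro w
            rw [hN, LinearMap.sub_apply, Module.End.one_apply]
            abel
          rw [e, e]
          exact polar_iso y hyO u v)
        (Matrix.toLin' α) δ hK.nsq hAsq hAsa
        (fun v => by
          rw [hN, LinearMap.sub_apply, LinearMap.sub_apply, Module.End.one_apply,
            Module.End.one_apply, map_sub, hAy y hcomm])
  · -- `r ≠ p`: semisimple elements
    have hrp : r ≠ p := by
      rintro rfl
      -- `p ∣ q` and `p ∣ q ^ k ± 1`
      have hpq : r ∣ q := by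
        obtain ⟨f, hf0, hf⟩ := FiniteField.card F r
        rw [← hq, hf]
        exact dvd_pow_self r (by
          have : 0 < (f : ℕ) := f.pos
          omega)
      rcases hj with ⟨-, hdv⟩ | ⟨-, hdv⟩
      · have h1 : r ∣ q ^ (2 * j) := dvd_pow hpq (by have := hjodd.pos; omega)
        have h3 : 1 ≤ q ^ (2 * j) := Nat.one_le_pow _ _ hq1
        have h4 : r ∣ q ^ (2 * j) - (q ^ (2 * j) - 1) := Nat.dvd_sub h1 hdv
        have h5 : q ^ (2 * j) - (q ^ (2 * j) - 1) = 1 := by omega
        rw [h5] at h4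
        exact hr.one_lt.ne' (Nat.dvd_one.mp h4)
      · have h1 : r ∣ q ^ d := dvd_pow hpq (by omega)
        have h3 : 1 ≤ q ^ d := Nat.one_le_pow _ _ hq1
        have h4 : r ∣ q ^ d - (q ^ d - 1) := Nat.dvd_sub h1 hdv
        have h5 : q ^ d - (q ^ d - 1) = 1 := by omega
        rw [h5] at h4
        exact hr.one_lt.ne' (Nat.dvd_one.mp h4)
    have hcases : (Odd (orderOf (q : ZMod r)) ∧ orderOf (q : ZMod r) ≤ d) ∨
        ∃ c, orderOf (q : ZMod r) = 2 * c ∧ Odd c ∧ c + 1 ≤ d := by
      rcases hj with ⟨hjd, hdv⟩ | ⟨hjd, hdv⟩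
      · rcases ord_cases_sub q j hq1 hjodd hdv with ⟨h1, h3⟩ | ⟨c, h1, h3, h4⟩
        · left
          exact ⟨h1, by omega⟩
        · right
          exact ⟨c, h1, h3, by omega⟩
      · left
        rw [← hjd] at hdv
        obtain ⟨h1, h3⟩ := ord_cases_sub_odd q j hq1 hjodd hdv
        exact ⟨h1, by omega⟩
    rcases hcases with ⟨hiodd, hid⟩ | ⟨c, hic, hcodd, hcd⟩
    · -- odd order
      obtain ⟨x, hxO, hxr, hxfix⟩ := exists_test_odd_plus hq hr2 hrp d (by omega) hiodd hid
      rw [← hcoe] at hxO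
      have hipos : 0 < orderOf (q : ZMod r) := hiodd.pos
      apply frame x hxO hxr
      · intro h1
        rw [h1, Units.val_one, Matrix.toLin'_one] at hxfix
        have : LinearMap.ker ((LinearMap.id : (Fin d ⊕ Fin d → F) →ₗ[F] _) - 1) = ⊤ := by
          rw [LinearMap.ker_eq_top]
          apply LinearMap.ext
          intro v
          simp
        rw [this, finrank_top, hfrV] at hxfix
        omega
      · intro g hgO hcomm
        set y := g⁻¹ * x * g with hy
        have hyO : y ∈ Cfsg.isometryGroup F ⇑(plusQF F d) :=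
          mul_mem (mul_mem (inv_mem hgO) hxO) hgO
        exact ss_no_root_odd (B := QuadraticMap.polarBilin (plusQF F d))
          (y := Matrix.toLin' y.1) hq hrp hr2 hndB (polar_iso y hyO)
          (toLin'_pow_one y r (conj_pow_eq_one x g r hxr)) hiodd
          (by rw [hy, finrank_fix_conj, hxfix, hfrV])
          (Matrix.toLin' α) δ hK.nsq hAsq (hAy y hcomm)
    · -- even order
      obtain ⟨x, hxO, hxr, hxfix⟩ := exists_test_even_plus hq hr2 hrp d (by omega) c hic hcd
      rw [← hcoe] at hxO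
      have hcpos : 0 < c := hcodd.pos
      apply frame x hxO hxr
      · intro h1
        rw [h1, Units.val_one, Matrix.toLin'_one] at hxfix
        have : LinearMap.ker ((LinearMap.id : (Fin d ⊕ Fin d → F) →ₗ[F] _) - 1) = ⊤ := by
          rw [LinearMap.ker_eq_top]
          apply LinearMap.ext
          intro v
          simp
        rw [this, finrank_top, hfrV] at hxfix
        omega
      · intro g hgO hcomm
        set y := g⁻¹ * x * g with hy
        have hyO : y ∈ Cfsg.isometryGroup F ⇑(plusQF F d) :=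
          mul_mem (mul_mem (inv_mem hgO) hxO) hgO
        exact ss_no_root_even (B := QuadraticMap.polarBilin (plusQF F d))
          (y := Matrix.toLin' y.1) hq hrp hndB (polar_iso y hyO)
          (toLin'_pow_one y r (conj_pow_eq_one x g r hxr)) c hic.symm hcodd
          (by rw [hy, finrank_fix_conj, hxfix, hfrV])
          (Matrix.toLin' α) δ hK.nsq h2 hAsq hAsa (hAy y hcomm)

end forward

end Cfsg.Agent.Lib.H23.OrF
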