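import Cfsg.Agent.Lib.H2.OrMaxLow

/-!
# `GO(Q) ∩ SL` in `SL_n(F)`, `q` odd, small `n` (helper23): Step B for `6 ≤ n`

From ONE transvection `x ↦ x + P a₀ x • u₀` (`Q a₀ ≠ 0`, `u₀ ≠ 0`) in an overgroup `M` of
`N = GO(Q) ∩ SL` to `SL ≤ M`, for `6 ≤ n`.  No commutator rule is needed:
* `six_move`: Witt (two vectors) moves the centre inside `a₀^⊥` keeping its norm;
* `six_sing`: some singular centre occurs (`w = u₀ + (w - u₀)`, `w ⟂ a₀, u₀` singular);
* `six_left`: every vector of `a₀^⊥` is a sum of three singular vectors of `a₀^⊥`;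
* `six_level`: Witt (one vector) moves the axis vector keeping its norm;
* `six_all`: the vectors of norm `Q a₀` in `u^⊥` span `u^⊥` (one hyperbolic pair).
-/

set_option autoImplicit false
set_option linter.unusedSimpArgs false
set_option linter.unusedSectionVars false
set_option linter.unusedVariables false

namespace Cfsg.Agent.Lib.H23.OrMaxSix

open Matrix Module
open Cfsg.Agent.Lib.H28 Cfsg.Agent.Lib.H11.SubspMax
open Cfsg.Agent.Lib.H11.CD Cfsg.Agent.Lib.H11.SiegelGen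
open Cfsg.Agent.Lib.H11.OrMax Cfsg.Agent.Lib.H2.OrMaxLow

variable {F : Type*} [Field F] {n : ℕ} (Q : QuadraticForm F (Fin n → F))

set_option quotPrecheck false in
local notation "P" => QuadraticMap.polar (⇑Q)

/-- a non-zero singular vector orthogonal to two given vectors (`5 ≤ n`) -/
theorem exists_sing_perp2 [Fintype F] (hn : 5 ≤ n) (x y : Fin n → F) :
    ∃ w : Fin n → F, w ≠ 0 ∧ Q w = 0 ∧ P x w = 0 ∧ P y w = 0 := by
  have h1 := finrank_ker_pi ![fr Q x, fr Q y]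
  obtain ⟨v, hv0, hv⟩ := Cfsg.Agent.Lib.H13.exists_singular_of_three_le
    (V := ↥(LinearMap.ker (LinearMap.pi ![fr Q x, fr Q y])))
    (Q.comp (LinearMap.ker (LinearMap.pi ![fr Q x, fr Q y])).subtype) (by omega)
  have hmem := (mem_ker_pi ![fr Q x, fr Q y] (v : Fin n → F)).1 v.2
  refine ⟨(v : Fin n → F), ?_, hv, ?_, ?_⟩
  · intro h0
    exact hv0 (Subtype.ext h0)
  · have := hmem 0
    simpa [fr_apply] using this
  · have := hmem 1
    simpa [fr_apply] using this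

section main
variable [Fintype F] (hQ : (QuadraticMap.polarBilin Q).Nondegenerate) (h2 : (2 : F) ≠ 0)
  (hn : 6 ≤ n) (M : Subgroup (GL (Fin n) F))
  (hNM : Cfsg.Geo.quadSimilarityGroup (⇑Q) ⊓ Cfsg.Geo.specialLinear (Fin n) F ≤ M)
include hQ h2 hn hNM

/-- moving the centre inside `a₀^⊥` by an isometry of determinant one fixing `a₀` -/
theorem six_move (u a₀ : Fin n → F) (hT : TT Q M u a₀) (hu : u ≠ 0) (ha₀ : Q a₀ ≠ 0)
    (u' : Fin n → F) (hu' : u' ≠ 0) (hau' : P a₀ u' = 0) (hQu' : Q u' = Q u) :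
    TT Q M u' a₀ := by
  obtain ⟨g0, hdet, hg0⟩ := witt_det_one Q hQ 2 ![u, a₀] ![u', a₀]
    (li_pair' Q h2 u a₀ hu ha₀ hT.1) (li_pair' Q h2 u' a₀ hu' ha₀ hau')
    (Cfsg.Agent.Lib.H11.OmegaTrans.Q_pair Q u a₀ u' a₀ hQu' rfl)
    (Cfsg.Agent.Lib.H11.OmegaTrans.gram_pair Q u a₀ u' a₀ hQu' rfl
      (by rw [P_comm Q u' a₀, hau', P_comm Q u a₀, hT.1])) (by omega)
  have h0 : act Q g0 u = u' := hg0 0
  have h1 : act Q g0 a₀ = a₀ := hg0 1
  have hg0M : (g0 : GL (Fin n) F) ∈ M := hNM (iso_mem_N Q g0 hdet)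
  have hT' := TT_conj Q M hT g0 hg0M
  rwa [h0, h1] at hT'

/-- a singular centre occurs -/
theorem six_sing (u₀ a₀ : Fin n → F) (hT : TT Q M u₀ a₀) (hu₀ : u₀ ≠ 0) (ha₀ : Q a₀ ≠ 0) :
    ∃ w : Fin n → F, w ≠ 0 ∧ Q w = 0 ∧ P a₀ w = 0 ∧ TT Q M w a₀ := by
  by_cases hs : Q u₀ = 0
  · exact ⟨u₀, hu₀, hs, hT.1, hT⟩
  · obtain ⟨w, hw0, hQw, haw, huw⟩ := exists_sing_perp2 Q (by omega) a₀ u₀
    have hv2 : Q (w - u₀) = Q u₀ := by
      rw [Q_sub', hQw, P_comm Q w u₀, huw]; ring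
    have hv2ne : w - u₀ ≠ 0 := by
      intro h
      rw [h, QuadraticMap.map_zero] at hv2
      exact hs hv2.symm
    have hav2 : P a₀ (w - u₀) = 0 := by
      rw [QuadraticMap.polar_sub_right, haw, hT.1, sub_zero]
    have hT2 := six_move Q hQ h2 hn M hNM u₀ a₀ hT hu₀ ha₀ (w - u₀) hv2ne hav2 hv2
    have h3 := TT_add_left Q M hT hT2
    rw [add_sub_cancel] at h3
    exact ⟨w, hw0, hQw, haw, h3⟩

/-- Claim 2: all centres in `a₀^⊥` -/
theorem six_left (u₀ a₀ : Fin n → F) (hT : TT Q M u₀ a₀) (hu₀ : u₀ ≠ 0) (ha₀ : Q a₀ ≠ 0)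
    (u : Fin n → F) (hau : P a₀ u = 0) : TT Q M u a₀ := by
  obtain ⟨w, hw0, hQw, haw, hTw⟩ := six_sing Q hQ h2 hn M hNM u₀ a₀ hT hu₀ ha₀
  -- all singular vectors of `a₀^⊥`
  have hsing : ∀ s : Fin n → F, Q s = 0 → P a₀ s = 0 → TT Q M s a₀ := by
    intro s hQs has
    by_cases hs0 : s = 0
    · rw [hs0]; exact TT_zero_left Q M a₀
    · exact six_move Q hQ h2 hn M hNM w a₀ hTw hw0 ha₀ s hs0 has (by rw [hQs, hQw])
  obtain ⟨e, f, hQe, hQf, hef, hve, hvf⟩ := exists_hyp_perp Q hQ ![a₀] (by omega)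
  have ae : P a₀ e = 0 := hve 0
  have af : P a₀ f = 0 := hvf 0
  have fe : P f e = 1 := by rw [P_comm]; exact hef
  obtain ⟨β, hβ⟩ : ∃ β : F, β = P u f := ⟨_, rfl⟩
  obtain ⟨γ, hγ⟩ : ∃ γ : F, γ = P u e := ⟨_, rfl⟩
  obtain ⟨u', hu'⟩ : ∃ u' : Fin n → F, u' = u - β • e - γ • f := ⟨_, rfl⟩
  have hu'e : P u' e = 0 := by
    rw [hu', QuadraticMap.polar_sub_left, QuadraticMap.polar_sub_left,
      QuadraticMap.polar_smul_left, QuadraticMap.polar_smul_left, P_self, hQe, fe, ← hγ]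
    simp
  have hu'f : P u' f = 0 := by
    rw [hu', QuadraticMap.polar_sub_left, QuadraticMap.polar_sub_left,
      QuadraticMap.polar_smul_left, QuadraticMap.polar_smul_left, P_self, hQf, hef, ← hβ]
    simp
  have hau' : P a₀ u' = 0 := by
    rw [hu', QuadraticMap.polar_sub_right, QuadraticMap.polar_sub_right,
      QuadraticMap.polar_smul_right, QuadraticMap.polar_smul_right, hau, ae, af]
    simp
  -- the three singular summands
  have hs1 : Q (u' + e - Q u' • f) = 0 := by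
    rw [Q_sub', Q_add, QuadraticMap.map_smul, hQe, hQf, QuadraticMap.polar_smul_right,
      QuadraticMap.polar_add_left, hu'e, hu'f, hef]
    simp
  have has1 : P a₀ (u' + e - Q u' • f) = 0 := by
    rw [QuadraticMap.polar_sub_right, QuadraticMap.polar_add_right,
      QuadraticMap.polar_smul_right, hau', ae, af]
    simp
  have hs2 : Q ((β - 1) • e) = 0 := by rw [QuadraticMap.map_smul, hQe, smul_zero]
  have has2 : P a₀ ((β - 1) • e) = 0 := by rw [QuadraticMap.polar_smul_right, ae, smul_zero]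
  have hs3 : Q ((γ + Q u') • f) = 0 := by rw [QuadraticMap.map_smul, hQf, smul_zero]
  have has3 : P a₀ ((γ + Q u') • f) = 0 := by rw [QuadraticMap.polar_smul_right, af, smul_zero]
  have hsum : u = (u' + e - Q u' • f) + (β - 1) • e + (γ + Q u') • f := by
    rw [hu']; module
  rw [hsum]
  exact TT_add_left Q M (TT_add_left Q M (hsing _ hs1 has1) (hsing _ hs2 has2)) (hsing _ hs3 has3)

/-- Claim 3: all axis vectors of the norm of `a₀` -/
theorem six_level (u₀ a₀ : Fin n → F) (hT : TT Q M u₀ a₀) (hu₀ : u₀ ≠ 0) (ha₀ : Q a₀ ≠ 0)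
    (a : Fin n → F) (hQa : Q a = Q a₀) (u : Fin n → F) (hau : P a u = 0) : TT Q M u a := by
  have ha0 : a₀ ≠ 0 := by
    rintro rfl
    exact ha₀ (QuadraticMap.map_zero _)
  have ha0' : a ≠ 0 := by
    rintro rfl
    rw [QuadraticMap.map_zero] at hQa
    exact ha₀ hQa.symm
  obtain ⟨g0, hdet, hg0⟩ := witt_det_one Q hQ 1 (fun _ => a₀) (fun _ => a)
    (linearIndependent_unique_iff.2 ha0) (linearIndependent_unique_iff.2 ha0')
    (fun _ => hQa) (fun _ _ => by rw [P_self, P_self, hQa]) (by omega)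
  have h0 : act Q g0 a₀ = a := hg0 0
  have hg0M : (g0 : GL (Fin n) F) ∈ M := hNM (iso_mem_N Q g0 hdet)
  have h1 : P a₀ (act Q g0⁻¹ u) = 0 := by
    rw [← polar_act Q g0, h0, Cfsg.Agent.Lib.H11.OmegaTrans.act_inv_act]
    exact hau
  have hT' := six_left Q hQ h2 hn M hNM u₀ a₀ hT hu₀ ha₀ _ h1
  have := TT_conj Q M hT' g0 hg0M
  rwa [h0, Cfsg.Agent.Lib.H11.OmegaTrans.act_inv_act] at this

/-- Claim 4: all transvections of orthogonal type -/
theorem TT_all_six (u₀ a₀ : Fin n → F) (hT : TT Q M u₀ a₀) (hu₀ : u₀ ≠ 0) (ha₀ : Q a₀ ≠ 0)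
    (u z : Fin n → F) (hzu : P z u = 0) : TT Q M u z := by
  obtain ⟨Z, hZ⟩ : ∃ Z : Submodule F (Fin n → F),
      ∀ v, v ∈ Z ↔ (P v u = 0 ∧ ∀ lam : F, TT Q M (lam • u) v) := by
    refine ⟨{ carrier := {v | P v u = 0 ∧ ∀ lam : F, TT Q M (lam • u) v}
              add_mem' := ?_
              zero_mem' := ?_
              smul_mem' := ?_ }, fun v => Iff.rfl⟩
    · rintro v w ⟨hv1, hv2⟩ ⟨hw1, hw2⟩
      refine ⟨by rw [QuadraticMap.polar_add_left, hv1, hw1, add_zero], fun lam => ?_⟩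
      exact TT_add_right Q M (hv2 lam) (hw2 lam)
    · refine ⟨by simp, fun lam => ?_⟩
      exact TT_zero_right Q M _
    · rintro c v ⟨hv1, hv2⟩
      refine ⟨by rw [QuadraticMap.polar_smul_left, hv1, smul_zero], fun lam => ?_⟩
      rw [← TT_smul_swap, smul_smul]
      exact hv2 _
  obtain ⟨α, hα⟩ : ∃ α : F, α = Q a₀ := ⟨_, rfl⟩
  -- the vectors of norm `α` in `u^⊥`
  have hlev : ∀ v : Fin n → F, Q v = α → P v u = 0 → v ∈ Z := by
    intro v hv1 hv2
    refine (hZ v).2 ⟨hv2, fun lam => ?_⟩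
    exact six_level Q hQ h2 hn M hNM u₀ a₀ hT hu₀ ha₀ v (by rw [hv1, hα]) (lam • u)
      (by rw [QuadraticMap.polar_smul_right, hv2, smul_zero])
  obtain ⟨e, f, hQe, hQf, hef, hve, hvf⟩ := exists_hyp_perp Q hQ ![u] (by omega)
  have ue : P u e = 0 := hve 0
  have uf : P u f = 0 := hvf 0
  have eu : P e u = 0 := by rw [P_comm]; exact ue
  have fu : P f u = 0 := by rw [P_comm]; exact uf
  have fe : P f e = 1 := by rw [P_comm]; exact hef
  have L : ∀ y : Fin n → F, P y e = 0 → P y f = 0 → P y u = 0 → y + e + (α - Q y) • f ∈ Z := by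
    intro y hye hyf hyu
    apply hlev
    · rw [add_assoc, Q_add, Q_add, QuadraticMap.map_smul, hQe, hQf, QuadraticMap.polar_smul_right,
        hef, QuadraticMap.polar_add_right, QuadraticMap.polar_smul_right, hye, hyf]
      simp
    · rw [QuadraticMap.polar_add_left, QuadraticMap.polar_add_left,
        QuadraticMap.polar_smul_left, hyu, eu, fu]
      simp
  have hB : e + α • f ∈ Z := by
    have := L 0 (by simp) (by simp) (by simp)
    simpa using this
  -- every `y ⟂ e, f, u` lies in `Z`, and `Q y • f` too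
  have hy : ∀ y : Fin n → F, P y e = 0 → P y f = 0 → P y u = 0 → y ∈ Z ∧ Q y • f ∈ Z := by
    intro y hye hyf hyu
    have h1 := L y hye hyf hyu
    have h2' := L (-y) (by rw [QuadraticMap.polar_neg_left, hye, neg_zero])
      (by rw [QuadraticMap.polar_neg_left, hyf, neg_zero])
      (by rw [QuadraticMap.polar_neg_left, hyu, neg_zero])
    rw [QuadraticMap.map_neg] at h2'
    have d1 : y - Q y • f ∈ Z := by
      have : y - Q y • f = (y + e + (α - Q y) • f) - (e + α • f) := by module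
      rw [this]; exact Z.sub_mem h1 hB
    have d2 : -y - Q y • f ∈ Z := by
      have : -y - Q y • f = (-y + e + (α - Q y) • f) - (e + α • f) := by module
      rw [this]; exact Z.sub_mem h2' hB
    have hy2 : (2 : F) • y ∈ Z := by
      have : (2 : F) • y = (y - Q y • f) - (-y - Q y • f) := by module
      rw [this]; exact Z.sub_mem d1 d2
    have hf2 : (2 : F) • (Q y • f) ∈ Z := by
      have : (2 : F) • (Q y • f) = -((y - Q y • f) + (-y - Q y • f)) := by module
      rw [this]; exact Z.neg_mem (Z.add_mem d1 d2)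
    refine ⟨?_, ?_⟩
    · have := Z.smul_mem (2 : F)⁻¹ hy2
      rwa [smul_smul, inv_mul_cancel₀ h2, one_smul] at this
    · have := Z.smul_mem (2 : F)⁻¹ hf2
      rwa [smul_smul, inv_mul_cancel₀ h2, one_smul] at this
  -- a non-singular vector orthogonal to `e, f, u`
  have hQef : Q (e + f) ≠ 0 := by
    rw [Q_add, hQe, hQf, hef]; simp
  obtain ⟨y₀, hy₀, hQy₀⟩ := exists_nonsing_ker' Q hQ ![fr Q (e + f), fr Q (e - f), fr Q u] (e + f)
    hQef 0 rfl (by omega)
  have k0 : P (e + f) y₀ = 0 := by simpa [fr_apply] using hy₀ 0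
  have k1 : P (e - f) y₀ = 0 := by simpa [fr_apply] using hy₀ 1
  have k2 : P u y₀ = 0 := by simpa [fr_apply] using hy₀ 2
  rw [QuadraticMap.polar_add_left] at k0
  rw [QuadraticMap.polar_sub_left] at k1
  have ey₀ : P e y₀ = 0 := by
    have : (2 : F) * P e y₀ = 0 := by linear_combination k0 + k1
    exact (mul_eq_zero.1 this).resolve_left h2
  have fy₀ : P f y₀ = 0 := by
    have : (2 : F) * P f y₀ = 0 := by linear_combination k0 - k1
    exact (mul_eq_zero.1 this).resolve_left h2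
  have hfZ : f ∈ Z := by
    have := (hy y₀ (by rw [P_comm]; exact ey₀) (by rw [P_comm]; exact fy₀)
      (by rw [P_comm]; exact k2)).2
    have h3 := Z.smul_mem (Q y₀)⁻¹ this
    rwa [smul_smul, inv_mul_cancel₀ hQy₀, one_smul] at h3
  have heZ : e ∈ Z := by
    have : e = (e + α • f) - α • f := by module
    rw [this]; exact Z.sub_mem hB (Z.smul_mem _ hfZ)
  -- decompose `z`
  obtain ⟨z', hz'⟩ : ∃ z' : Fin n → F, z' = z - P z f • e - P z e • f := ⟨_, rfl⟩
  have hz'e : P z' e = 0 := by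
    rw [hz', QuadraticMap.polar_sub_left, QuadraticMap.polar_sub_left,
      QuadraticMap.polar_smul_left, QuadraticMap.polar_smul_left, P_self, hQe, fe]
    simp
  have hz'f : P z' f = 0 := by
    rw [hz', QuadraticMap.polar_sub_left, QuadraticMap.polar_sub_left,
      QuadraticMap.polar_smul_left, QuadraticMap.polar_smul_left, P_self, hQf, hef]
    simp
  have hz'u : P z' u = 0 := by
    rw [hz', QuadraticMap.polar_sub_left, QuadraticMap.polar_sub_left,
      QuadraticMap.polar_smul_left, QuadraticMap.polar_smul_left, hzu, eu, fu]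
    simp
  have hz'Z := (hy z' hz'e hz'f hz'u).1
  have hzZ : z ∈ Z := by
    have : z = z' + P z f • e + P z e • f := by rw [hz']; module
    rw [this]
    exact Z.add_mem (Z.add_mem hz'Z (Z.smul_mem _ heZ)) (Z.smul_mem _ hfZ)
  have h3 := ((hZ z).1 hzZ).2 1
  rwa [one_smul] at h3

/-- one transvection of orthogonal type gives `SL ≤ M` -/
theorem sl_le_of_TT_six (u₀ a₀ : Fin n → F) (hT : TT Q M u₀ a₀) (hu₀ : u₀ ≠ 0)
    (ha₀ : Q a₀ ≠ 0) : Cfsg.Geo.specialLinear (Fin n) F ≤ M := by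
  have : Nontrivial (Fin n) := by
    rw [← Fintype.one_lt_card_iff_nontrivial, Fintype.card_fin]; omega
  apply sl_le_of_tvGL
  intro φ u hφ
  obtain ⟨z, rfl⟩ := exists_fr Q hQ φ
  obtain ⟨-, g, hg, hgx⟩ := TT_all_six Q hQ h2 hn M hNM u₀ a₀ hT hu₀ ha₀ u z hφ
  have : tvGL (fr Q z) u hφ = g := gl_ext (fun x => by rw [tvGL_mulVec, hgx, fr_apply])
  rw [this]
  exact hg

end main

/-- the similarity group of a quadratic form meets `SL` in a proper subgroup (`5 ≤ n`) -/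
theorem sim_lt_six [Fintype F] (hQ : (QuadraticMap.polarBilin Q).Nondegenerate)
    (h2 : (2 : F) ≠ 0) (hn : 5 ≤ n) :
    Cfsg.Geo.quadSimilarityGroup (⇑Q) ⊓ Cfsg.Geo.specialLinear (Fin n) F <
      Cfsg.Geo.specialLinear (Fin n) F := by
  refine lt_of_le_of_ne inf_le_right ?_
  intro heq
  obtain ⟨e, f, hQe, hQf, hef, -, -⟩ :=
    exists_hyp_perp Q hQ (k := 0) (fun i => i.elim0) (by omega)
  obtain ⟨w, hw, hQw⟩ := exists_nonsing_ker Q hQ ![fr Q e, fr Q f] (by omega)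
  have ew : P e w = 0 := hw 0
  have fw : P f w = 0 := hw 1
  have we : P w e = 0 := by rw [P_comm]; exact ew
  have wf : P w f = 0 := by rw [P_comm]; exact fw
  have fe : P f e = 1 := by rw [P_comm]; exact hef
  have h0 : fr Q w e = 0 := by rw [fr_apply]; exact we
  have hmem : tvGL (fr Q w) e h0 ∈
      Cfsg.Geo.quadSimilarityGroup (⇑Q) ⊓ Cfsg.Geo.specialLinear (Fin n) F := by
    rw [heq]; exact tvGL_mem_specialLinear _ _ _
  obtain ⟨c, hc⟩ := hmem.1
  have h1 := hc w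
  have h3 := hc (w + f)
  rw [tvGL_mulVec, fr_apply] at h1 h3
  have e1 : Q (w + P w w • e) = Q w := by
    rw [Q_add, QuadraticMap.map_smul, hQe, QuadraticMap.polar_smul_right, we]
    simp
  have e2 : Q (w + f + P w (w + f) • e) = 3 * Q w := by
    rw [QuadraticMap.polar_add_right, P_self, wf, add_zero, Q_add, Q_add, hQf,
      QuadraticMap.map_smul, hQe, wf, QuadraticMap.polar_smul_right,
      QuadraticMap.polar_add_left, we, fe]
    simp
    ring
  have e3 : Q (w + f) = Q w := by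
    rw [Q_add, hQf, wf]; ring
  rw [e1] at h1
  rw [e2, e3] at h3
  have : (2 : F) * Q w = 0 := by linear_combination h3 - h1
  rcases mul_eq_zero.1 this with h | h
  · exact h2 h
  · exact hQw h

/-- maximality from Step A (one transvection of orthogonal type in every overgroup containing a
non-similarity), `6 ≤ n` -/
theorem quad_sim_maximal_of_stepA [Fintype F] (hQ : (QuadraticMap.polarBilin Q).Nondegenerate)
    (h2 : (2 : F) ≠ 0) (hn : 6 ≤ n)
    (hA : ∀ M : Subgroup (GL (Fin n) F),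
      Cfsg.Geo.quadSimilarityGroup (⇑Q) ⊓ Cfsg.Geo.specialLinear (Fin n) F ≤ M →
      ∀ h : GL (Fin n) F, h ∈ M → h ∉ Cfsg.Geo.quadSimilarityGroup (⇑Q) →
      ∃ u a : Fin n → F, u ≠ 0 ∧ Q a ≠ 0 ∧ TT Q M u a) :
    Cfsg.Geo.IsMaximalIn (Cfsg.Geo.specialLinear (Fin n) F)
      (Cfsg.Geo.quadSimilarityGroup (⇑Q) ⊓ Cfsg.Geo.specialLinear (Fin n) F) := by
  refine ⟨sim_lt_six Q hQ h2 (by omega), ?_⟩
  intro M hNM hMS
  by_cases hMN : M = Cfsg.Geo.quadSimilarityGroup (⇑Q) ⊓ Cfsg.Geo.specialLinear (Fin n) F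
  · left; exact hMN
  right
  apply le_antisymm hMS
  obtain ⟨h, hhM, hhN⟩ : ∃ h ∈ M, h ∉ Cfsg.Geo.quadSimilarityGroup (⇑Q) := by
    by_contra hcon
    push Not at hcon
    apply hMN
    apply le_antisymm _ hNM
    intro g hg
    exact ⟨hcon g hg, hMS hg⟩
  obtain ⟨u₀, a₀, hu₀, ha₀, hT⟩ := hA M hNM h hhM hhN
  exact sl_le_of_TT_six Q hQ h2 hn M hNM u₀ a₀ hT hu₀ ha₀

end Cfsg.Agent.Lib.H23.OrMaxSix
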