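import Mathlib
import Cfsg.Agent.Lib.H26.PPearlDefs
import Cfsg.Agent.Lib.H22.SuzukiMaxClass

/-!
# S5238 piece BASE (architect helper26): maximal class from a self-centralizing subgroup of order `p²`
-/

set_option autoImplicit false
set_option linter.style.haveILetI false
set_option linter.unusedSectionVars false

namespace Cfsg.Agent.Lib.H23.PPearl

open Cfsg.Agent.Lib.H22.Pearl Cfsg.Agent.Lib.H26.PPearl

section

variable {p : ℕ} [Fact p.Prime] {G : Type*} [Group G] [Finite G] {n : ℕ} {e : G}

/-- **BASE**.  `A = C_G(e)` has order `p²`, is abelian and self-centralizing, so Suzuki's lemma gives class `n - 1`. -/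
theorem PP.lcs_ne_bot (h : PP p G n e) (hn : 3 ≤ n) : L G (n - 2) ≠ ⊥ := by
  set A : Subgroup G := Subgroup.centralizer ({e} : Set G) with hA
  have hcA : Nat.card ↥A = p ^ 2 := h.hC
  have hcomm : IsMulCommutative ↥A := IsPGroup.isMulCommutative_of_card_eq_prime_sq hcA
  have hle : A ≤ Subgroup.centralizer (A : Set G) := Subgroup.le_centralizer A
  have heA : e ∈ A := by
    rw [hA, Subgroup.mem_centralizer_iff]
    intro x hx
    rw [Set.mem_singleton_iff] at hx
    rw [hx]
  have hge : Subgroup.centralizer (A : Set G) ≤ A := by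
    rw [hA]
    apply Subgroup.centralizer_le
    intro x hx
    rw [Set.mem_singleton_iff] at hx
    rw [hx]
    exact heA
  have hself : Subgroup.centralizer (A : Set G) = A := le_antisymm hge hle
  have hclass : Group.nilpotencyClass G = n - 1 :=
    Cfsg.Agent.Lib.H22.nilpotencyClass_of_selfCentralizing_sq (p := p) n G h.card ⟨A, hcA, hself⟩
  have hp : IsPGroup p G := IsPGroup.of_card h.card
  haveI : Group.IsNilpotent G := hp.isNilpotent
  intro hbot
  have := (Subgroup.lowerCentralSeries_eq_bot_iff_nilpotencyClass_le (G := G) (n := n - 2)).mp hbot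
  omega

omit [Fact p.Prime] [Finite G] in
/-- `C_G(g e g⁻¹) = g C_G(e) g⁻¹`, as an equivalence of the underlying types. -/
theorem base_card_centralizer_conj (e g : G) :
    Nat.card ↥(Subgroup.centralizer ({g * e * g⁻¹} : Set G)) =
      Nat.card ↥(Subgroup.centralizer ({e} : Set G)) := by
  apply Nat.card_congr
  refine ⟨fun x => ⟨g⁻¹ * x.1 * g, ?_⟩, fun x => ⟨g * x.1 * g⁻¹, ?_⟩, ?_, ?_⟩
  · have hx := x.2
    rw [Subgroup.mem_centralizer_singleton_iff] at hx ⊢
    calc g⁻¹ * x.1 * g * e = g⁻¹ * (x.1 * (g * e * g⁻¹)) * g := by group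
      _ = g⁻¹ * ((g * e * g⁻¹) * x.1) * g := by rw [hx]
      _ = e * (g⁻¹ * x.1 * g) := by group
  · have hx := x.2
    rw [Subgroup.mem_centralizer_singleton_iff] at hx ⊢
    calc g * x.1 * g⁻¹ * (g * e * g⁻¹) = g * (x.1 * e) * g⁻¹ := by group
      _ = g * (e * x.1) * g⁻¹ := by rw [hx]
      _ = g * e * g⁻¹ * (g * x.1 * g⁻¹) := by group
  · intro x
    apply Subtype.ext
    simp only
    group
  · intro x
    apply Subtype.ext
    simp only
    group

/-- **BASE**.  Conjugates of `e` satisfy the same hypotheses. -/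
theorem PP.conj (h : PP p G n e) (g : G) : PP p G n (g * e * g⁻¹) := by
  refine ⟨h.card, ?_, ?_⟩
  · rw [conj_pow, h.he, mul_one, mul_inv_cancel]
  · rw [base_card_centralizer_conj]
    exact h.hC

end

end Cfsg.Agent.Lib.H23.PPearl
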