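import Mathlib

/-!
# S5238 piece IDX (architect helper26): a normal subgroup of index `p`
-/

set_option autoImplicit false
set_option linter.style.haveILetI false

namespace Cfsg.Agent.Lib.H23.PPearl

/-- **IDX**.  `K ⊴ H`, `|H| = p|K|`: `H/K` is cyclic of order `p` generated by any `w ∉ K`. -/
theorem exists_mul_pow_mem {p : ℕ} [Fact p.Prime] {G : Type*} [Group G] [Finite G] (H K : Subgroup G) (hKH : K ≤ H)
    (hN : ∀ h ∈ H, ∀ k ∈ K, h * k * h⁻¹ ∈ K) (hc : Nat.card ↥H = p * Nat.card ↥K) :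
    ∀ g ∈ H, ∀ w ∈ H, w ∉ K → ∃ j : ℕ, g * w ^ j ∈ K := by
  intro g hg w hw hwK
  set K' : Subgroup ↥H := K.subgroupOf H with hK'
  haveI hK'n : K'.Normal := by
    constructor
    intro k hk h
    rw [hK', Subgroup.mem_subgroupOf] at hk ⊢
    have := hN h.1 h.2 k.1 hk
    simpa using this
  have hcardK' : Nat.card ↥K' = Nat.card ↥K :=
    Nat.card_congr (Subgroup.subgroupOfEquivOfLe hKH).toEquiv
  have hKpos : 0 < Nat.card ↥K := Nat.card_pos
  have hq : Nat.card (↥H ⧸ K') = p := by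
    have h1 := Subgroup.card_eq_card_quotient_mul_card_subgroup K'
    rw [hcardK', hc] at h1
    exact (Nat.eq_of_mul_eq_mul_right hKpos h1).symm
  set wq : ↥H ⧸ K' := QuotientGroup.mk ⟨w, hw⟩ with hwq
  set gq : ↥H ⧸ K' := QuotientGroup.mk ⟨g, hg⟩ with hgq
  have hwq1 : wq ≠ 1 := by
    intro h
    rw [hwq, QuotientGroup.eq_one_iff, hK', Subgroup.mem_subgroupOf] at h
    exact hwK h
  have htop : Subgroup.zpowers wq = ⊤ := zpowers_eq_top_of_prime_card hq hwq1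
  have hmem : gq⁻¹ ∈ Subgroup.zpowers wq := by rw [htop]; trivial
  haveI : Finite (↥H ⧸ K') := Nat.finite_of_card_ne_zero (by rw [hq]; exact (Fact.out : p.Prime).ne_zero)
  rw [← mem_powers_iff_mem_zpowers] at hmem
  obtain ⟨j, hj⟩ := hmem
  refine ⟨j, ?_⟩
  have h2 : gq * wq ^ j = 1 := by
    have : wq ^ j = gq⁻¹ := hj
    rw [this, mul_inv_cancel]
  have h3 : (QuotientGroup.mk (⟨g, hg⟩ * ⟨w, hw⟩ ^ j : ↥H) : ↥H ⧸ K') = 1 := by
    rw [QuotientGroup.mk_mul, QuotientGroup.mk_pow]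
    exact h2
  rw [QuotientGroup.eq_one_iff, hK', Subgroup.mem_subgroupOf] at h3
  simpa using h3

end Cfsg.Agent.Lib.H23.PPearl
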