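import Cfsg.Agent.Lib.L0.BlockSupport
import Cfsg.Agent.Lib.H23.BlockNilChar
import Cfsg.Agent.Lib.H23.BlockVanish
import Cfsg.Agent.Lib.H23.BlockIdem

/-!
# Groups with `C_G(O_p(G)) ≤ O_p(G)` have a unique `p`-block (helper23)
-/

set_option autoImplicit false

namespace Cfsg.Agent.Lib.H23.UniqueBlock

open Cfsg Cfsg.Agent.Lib.H23 Cfsg.Agent.Lib.H24 Cfsg.Agent.Lib.L0 MonoidAlgebra

variable {G : Type*} [Group G] [Fintype G] {p : ℕ} {M : Ideal AlgInt}

/-- If a normal `p`-subgroup `Q` contains its centralizer, `G` has only one `p`-block. -/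
theorem mem_blockOf_of_centralizer_le (hM : IsPModular p M) (Q : Subgroup G) [hQn : Q.Normal]
    (hQ : IsPGroup p Q) (hC : Subgroup.centralizer (Q : Set G) ≤ Q) (χ₀ ψ : IrrCharacter G) :
    ψ ∈ blockOf M (χ₀ : G → ℂ) := by
  classical
  haveI hPr := isPrime_of_isPModular hM
  have hp := prime_of_isPModular hM
  haveI : Fact p.Prime := ⟨hp⟩
  set B := blockOf M (χ₀ : G → ℂ) with hB
  haveI hCn : (Subgroup.centralizer (Q : Set G)).Normal := Subgroup.normal_centralizer
  haveI : Fintype (Subgroup.centralizer (Q : Set G)) := Fintype.ofFinite _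
  have hzero : ∀ g : G, g ≠ 1 → blockCoeff B g = 0 := by
    intro g hg
    by_cases hgC : g ∈ Subgroup.centralizer (Q : Set G)
    · apply blockCoeff_eq_zero_of_dvd_orderOf hM χ₀ g
      have hgQ : g ∈ Q := hC hgC
      obtain ⟨k, hk⟩ := (IsPGroup.iff_orderOf.1 hQ) ⟨g, hgQ⟩
      rw [Subgroup.orderOf_mk] at hk
      rw [hk]
      rcases Nat.eq_zero_or_pos k with h0 | h0
      · exfalso
        rw [h0, pow_zero] at hk
        exact hg (orderOf_eq_one_iff.1 hk)
      · exact dvd_pow_self p h0.ne'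
    · apply Cfsg.Agent.Lib.L0.BlockSupport.blockCoeff_eq_zero_of_regular hM
        (Subgroup.centralizer (Q : Set G)) ?_ χ₀ hgC
      intro g' hg' χ
      apply centralChar_memLocalIdeal_of_normal hM Q hQ g' ?_ χ
      intro x hx hxC
      apply hg'
      obtain ⟨t, rfl⟩ := isConj_iff.1 hx
      have := hCn.conj_mem _ hxC t⁻¹
      simpa [mul_assoc] using this
  have hom : ∀ φ : IrrCharacter G, omega (φ : G → ℂ) (blockIdem B) = blockCoeff B 1 := by
    intro φ
    rw [omega, blockIdem, charEval_ofFun, Finset.sum_eq_single (1 : G)]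
    · rw [mul_div_assoc, div_self (irr_one_ne_zero φ), mul_one]
    · intro g _ hg
      rw [hzero g hg, zero_mul]
    · intro h
      exact absurd (Finset.mem_univ _) h
  have h1 := omega_blockIdem B χ₀
  rw [if_pos (mem_blockOf_self χ₀), hom] at h1
  have h2 := omega_blockIdem B ψ
  rw [hom, h1] at h2
  by_contra hne
  rw [if_neg hne] at h2
  exact one_ne_zero h2

end Cfsg.Agent.Lib.H23.UniqueBlock
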