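import Mathlib
import Cfsg.Prelude.Def_Blocks
import Cfsg.Prelude.Def_Local
import Cfsg.Agent.Lib.H23.UniqueBlock
import Cfsg.Agent.Lib.L0.PrincipalQuot
import Cfsg.Agent.Lib.H9.PPrimeCore
import Cfsg.Agent.Lib.H10.PSolvable
import Cfsg.Agent.Lib.H10.PSolvable2
import Cfsg.Agent.Lib.H27.Basic

/-!
# S4885 piece FONGKER (helper23)

The principal `p`-block of a finite `p`-solvable group `G` is `Irr(G / O_{p'}(G))`.
-/

set_option autoImplicit false
set_option linter.style.haveILetI false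

namespace Cfsg.Agent.Lib.H23.PQ

open Cfsg Cfsg.Agent.Lib.H23 Cfsg.Agent.Lib.L0 Cfsg.Agent.Lib.H24 Cfsg.Agent.Lib.L0.PrincipalQuot

/-- FONGKER: the principal `p`-block of a `p`-solvable group is `Irr(G / O_{p'}(G))`. -/
theorem mem_principalBlock_iff_of_isPSolvable {G : Type*} [Group G] [Finite G] (p : ℕ)
    [Fact p.Prime] (M : Ideal AlgInt) (hM : IsPModular p M) (hps : IsPSolvable p G)
    (χ : IrrCharacter G) :
    χ ∈ principalBlock M G ↔ ∀ a ∈ pPrimeCore p G, (χ : G → ℂ) a = (χ : G → ℂ) 1 := by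
  classical
  haveI := Fintype.ofFinite G
  have hp : p.Prime := Fact.out
  set N := pPrimeCore p G with hNdef
  haveI hNn : N.Normal := Cfsg.Agent.Lib.H22.pPrimeCore_normal p
  have hN : ¬ p ∣ Nat.card N := Cfsg.Agent.Lib.H22.not_dvd_card_pPrimeCore hp
  haveI : Fintype (G ⧸ N) := Fintype.ofFinite _
  constructor
  · intro hχ
    exact Cfsg.Agent.Lib.H23.principalBlock_ker hM N hN χ hχ
  · intro hker
    have hsolvq : IsPSolvable p (G ⧸ N) := Cfsg.Agent.Lib.H10.isPSolvable_quotient hps N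
    have hOq : pPrimeCore p (G ⧸ N) = ⊥ := Cfsg.Agent.Lib.H9.pPrimeCore_quotient_eq_bot p
    have hHH := Cfsg.Agent.Lib.H10.centralizer_pCore_le_of_isPSolvable p hsolvq hOq
    obtain ⟨ψ, hψ⟩ := exists_deflation χ N hker
    have hχψ : χ = inflIrr N ψ := by
      apply Subtype.ext
      funext g
      rw [inflIrr_apply, hψ]
    haveI : (pCore p (G ⧸ N)).Normal := Cfsg.Agent.Lib.H27.pCore_normal'
    have h1 : ψ ∈ principalBlock M (G ⧸ N) :=
      Cfsg.Agent.Lib.H23.UniqueBlock.mem_blockOf_of_centralizer_le hM (pCore p (G ⧸ N))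
        Cfsg.Agent.Lib.H27.pCore_isPGroup hHH (trivialIrr (G ⧸ N)) ψ
    rw [hχψ]
    exact (inflIrr_mem_principalBlock_iff hM N hN ψ).2 h1

end Cfsg.Agent.Lib.H23.PQ
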