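import Mathlib
import Cfsg.Prelude.Def_Blocks
import Cfsg.Prelude.Def_Local
import Cfsg.Agent.Lib.H23.PQFONGKER
import Cfsg.Agent.Lib.H24.CharDefl
import Cfsg.Agent.Lib.H27.Basic

/-!
# S4886, the easy direction (helper23)

If a Sylow `p`-subgroup of the `p`-solvable group `G` commutes elementwise with a Sylow
`q`-subgroup `Q` (`q ≠ p`), then `Q ≤ O_{p'}(G)`, and every character in the principal `p`-block
has degree prime to `q`.
-/

set_option autoImplicit false
set_option linter.style.haveILetI false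

namespace Cfsg.Agent.Lib.H23.PQ

open Cfsg Cfsg.Agent.Lib.H24

/-- If `P ∈ Syl_p(G)` and `Q ∈ Syl_q(G)` commute elementwise, `G` `p`-solvable, `p ≠ q`, then
`Q ≤ O_{p'}(G)`. -/
theorem sylow_le_pPrimeCore_of_commute {G : Type*} [Group G] [Finite G] (p q : ℕ) [Fact p.Prime]
    [Fact q.Prime] (hpq : p ≠ q) (hps : IsPSolvable p G) (P : Sylow p G) (Q : Sylow q G)
    (hcomm : ∀ x ∈ (P : Subgroup G), ∀ y ∈ (Q : Subgroup G), x * y = y * x) :
    (Q : Subgroup G) ≤ pPrimeCore p G := by
  classical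
  have hpp : p.Prime := Fact.out
  have hqp : q.Prime := Fact.out
  set N := pPrimeCore p G with hNdef
  haveI hNn : N.Normal := Cfsg.Agent.Lib.H22.pPrimeCore_normal p
  have hsolvq : IsPSolvable p (G ⧸ N) := Cfsg.Agent.Lib.H10.isPSolvable_quotient hps N
  have hOq : pPrimeCore p (G ⧸ N) = ⊥ := Cfsg.Agent.Lib.H9.pPrimeCore_quotient_eq_bot p
  have hHH := Cfsg.Agent.Lib.H10.centralizer_pCore_le_of_isPSolvable p hsolvq hOq
  set π := QuotientGroup.mk' N with hπ
  have hπs : Function.Surjective π := QuotientGroup.mk'_surjective N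
  set Pq : Sylow p (G ⧸ N) := P.mapSurjective hπs with hPq
  have hPqc : (Pq : Subgroup (G ⧸ N)) = (P : Subgroup G).map π := Sylow.coe_mapSurjective hπs P
  have hle : pCore p (G ⧸ N) ≤ Pq := Cfsg.Agent.Lib.H27.pCore_le_sylow Pq
  intro y hy
  have h1 : π y ∈ Subgroup.centralizer (pCore p (G ⧸ N) : Set (G ⧸ N)) := by
    rw [Subgroup.mem_centralizer_iff]
    intro z hz
    have hz' : z ∈ (P : Subgroup G).map π := by
      rw [← hPqc]; exact hle hz
    obtain ⟨x, hx, rfl⟩ := hz'
    rw [← map_mul, ← map_mul, hcomm x hx y hy]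
  have h2 : π y ∈ pCore p (G ⧸ N) := hHH h1
  -- `π y` has `p`-power order and `q`-power order
  have h3 : IsPGroup p (pCore p (G ⧸ N)) := Cfsg.Agent.Lib.H27.pCore_isPGroup
  obtain ⟨k, hk⟩ := h3 ⟨π y, h2⟩
  have hk' : (π y) ^ p ^ k = 1 := by
    have := congrArg Subtype.val hk
    simpa using this
  obtain ⟨l, hl⟩ := Q.isPGroup' ⟨y, hy⟩
  have hl' : y ^ q ^ l = 1 := by
    have := congrArg Subtype.val hl
    simpa using this
  have hl'' : (π y) ^ q ^ l = 1 := by rw [← map_pow, hl', map_one]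
  have hcop : Nat.Coprime (p ^ k) (q ^ l) :=
    Nat.Coprime.pow k l ((Nat.coprime_primes hpp hqp).2 hpq)
  have h4 : (π y) ^ Nat.gcd (p ^ k) (q ^ l) = 1 := pow_gcd_eq_one.mpr ⟨hk', hl''⟩
  rw [hcop, pow_one] at h4
  have h5 : y ∈ N := by
    rw [← QuotientGroup.eq_one_iff]
    exact h4
  exact h5

/-- The easy direction of S4886, one side: if some Sylow `p`- and Sylow `q`-subgroups commute,
every character in the principal `p`-block of the `p`-solvable group `G` has `q'`-degree. -/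
theorem not_dvd_degree_of_commuting_sylows {G : Type*} [Group G] [Finite G] (p q : ℕ)
    [Fact p.Prime] [Fact q.Prime] (hpq : p ≠ q) (M : Ideal AlgInt) (hM : IsPModular p M)
    (hps : IsPSolvable p G) (P : Sylow p G) (Q : Sylow q G)
    (hcomm : ∀ x ∈ (P : Subgroup G), ∀ y ∈ (Q : Subgroup G), x * y = y * x)
    (χ : IrrCharacter G) (hχ : χ ∈ principalBlock M G) :
    ¬ q ∣ charDegree (χ : G → ℂ) := by
  classical
  haveI := Fintype.ofFinite G
  have hQA := sylow_le_pPrimeCore_of_commute p q hpq hps P Q hcomm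
  haveI hNn : (pPrimeCore p G).Normal := Cfsg.Agent.Lib.H22.pPrimeCore_normal p
  have hker := (mem_principalBlock_iff_of_isPSolvable p M hM hps χ).1 hχ
  have h1 : charDegree (χ : G → ℂ) ∣ (pPrimeCore p G).index :=
    charDegree_dvd_index χ (pPrimeCore p G) hker
  intro hq
  have h2 : q ∣ (pPrimeCore p G).index := hq.trans h1
  have h3 : (pPrimeCore p G).index ∣ (Q : Subgroup G).index := Subgroup.index_dvd_of_le hQA
  exact Q.not_dvd_index (h2.trans h3)

end Cfsg.Agent.Lib.H23.PQ
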