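import Mathlib
import Cfsg.Prelude.Def_Characters
import Cfsg.Agent.Lib.H24.CharDefl

/-!
# S4885 piece LINQ, parametric core (helper23)

`N ∩ P ≤ P'` relative to a normal `p'`-subgroup `A`, given the statement LIN for `G ⧸ A`.
-/

set_option autoImplicit false
set_option linter.style.haveILetI false

namespace Cfsg.Agent.Lib.H23.PQ

open Cfsg Cfsg.Agent.Lib.H24

/-- LINQ from LIN (as a hypothesis for the group `G ⧸ A`). -/
theorem inf_sylow_le_commutator_of_quot_aux {G : Type*} [Group G] [Finite G] (p : ℕ)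
    [Fact p.Prime] (A : Subgroup G) [A.Normal]
    (hLIN : ∀ (P : Sylow p (G ⧸ A)) (N : Subgroup (G ⧸ A)),
      (∀ ψ : IrrCharacter (G ⧸ A), ¬ p ∣ charDegree (ψ : G ⧸ A → ℂ) →
        ∀ n ∈ N, (ψ : G ⧸ A → ℂ) n = (ψ : G ⧸ A → ℂ) 1) →
      N ⊓ (P : Subgroup (G ⧸ A)) ≤ (commutator P).map (P : Subgroup (G ⧸ A)).subtype)
    (hA : (Nat.card A).Coprime p) (P : Sylow p G) (N : Subgroup G)
    (h : ∀ χ : IrrCharacter G, (∀ a ∈ A, (χ : G → ℂ) a = (χ : G → ℂ) 1) →
      ¬ p ∣ charDegree (χ : G → ℂ) → ∀ n ∈ N, (χ : G → ℂ) n = (χ : G → ℂ) 1) :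
    N ⊓ (P : Subgroup G) ≤ (commutator P).map (P : Subgroup G).subtype := by
  classical
  haveI := Fintype.ofFinite G
  set π := QuotientGroup.mk' A with hπ
  have hπs : Function.Surjective π := QuotientGroup.mk'_surjective A
  set Pq : Sylow p (G ⧸ A) := P.mapSurjective hπs with hPq
  have hPqc : (Pq : Subgroup (G ⧸ A)) = (P : Subgroup G).map π := Sylow.coe_mapSurjective hπs P
  have h1 := hLIN Pq (N.map π) (by
    intro ψ hψ n hn
    obtain ⟨g, hg, rfl⟩ := hn
    have h2 := h (inflIrr A ψ) (by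
      intro a ha
      rw [inflIrr_apply, inflIrr_apply]
      have : ((a : G) : G ⧸ A) = ((1 : G) : G ⧸ A) := by
        rw [QuotientGroup.mk_one, QuotientGroup.eq_one_iff]
        exact ha
      rw [this]) (by rwa [charDegree_inflIrr]) g hg
    rw [inflIrr_apply, inflIrr_apply, QuotientGroup.mk_one] at h2
    exact h2)
  have hc1 : (commutator P).map (P : Subgroup G).subtype = ⁅(P : Subgroup G), (P : Subgroup G)⁆ :=
    Subgroup.map_subtype_commutator _
  have hc2 : (commutator Pq).map (Pq : Subgroup (G ⧸ A)).subtype =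
      ⁅(P : Subgroup G), (P : Subgroup G)⁆.map π := by
    rw [Subgroup.map_subtype_commutator, Subgroup.map_commutator, hPqc]
  rw [hc1]
  rw [hc2] at h1
  intro x hx
  have hxN : x ∈ N := hx.1
  have hxP : x ∈ (P : Subgroup G) := hx.2
  have h3 : π x ∈ N.map π ⊓ (Pq : Subgroup (G ⧸ A)) := by
    refine ⟨Subgroup.mem_map_of_mem _ hxN, ?_⟩
    rw [hPqc]
    exact Subgroup.mem_map_of_mem _ hxP
  obtain ⟨y, hy, hyx⟩ := h1 h3
  have hyP : y ∈ (P : Subgroup G) := Subgroup.commutator_le_self _ hy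
  have h4 : y⁻¹ * x ∈ A := by
    have : π y = π x := hyx
    rw [hπ] at this
    exact QuotientGroup.eq.1 this
  have h5 : y⁻¹ * x ∈ (P : Subgroup G) :=
    (P : Subgroup G).mul_mem ((P : Subgroup G).inv_mem hyP) hxP
  have hPA : (P : Subgroup G) ⊓ A = ⊥ := by
    refine (Subgroup.disjoint_of_coprime_natCard ?_).eq_bot
    obtain ⟨m, hm⟩ := IsPGroup.iff_card.1 P.isPGroup'
    rw [hm]
    exact Nat.Coprime.pow_left m hA.symm
  have h6 : y⁻¹ * x ∈ (P : Subgroup G) ⊓ A := ⟨h5, h4⟩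
  rw [hPA, Subgroup.mem_bot] at h6
  have h7 : x = y := by
    have := congrArg (fun z => y * z) h6
    simpa using this
  rw [h7]
  exact hy

end Cfsg.Agent.Lib.H23.PQ
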