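import Mathlib
import Cfsg.Agent.Lib.H23.PQLINQ0
import Cfsg.Agent.Lib.H1.PQLIN

/-!
# S4885 piece LINQ (helper23): exact signature, from LIN (helper1) and the parametric core.
-/

set_option autoImplicit false

namespace Cfsg.Agent.Lib.H23.PQ

open Cfsg

/-- LINQ: `N ∩ P ≤ P'` relative to a normal `p'`-subgroup `A`. -/
theorem inf_sylow_le_commutator_of_quot {G : Type*} [Group G] [Finite G] (p : ℕ) [Fact p.Prime]
    (A : Subgroup G) [A.Normal] (hA : (Nat.card A).Coprime p) (P : Sylow p G) (N : Subgroup G)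
    (h : ∀ χ : IrrCharacter G, (∀ a ∈ A, (χ : G → ℂ) a = (χ : G → ℂ) 1) →
      ¬ p ∣ charDegree (χ : G → ℂ) → ∀ n ∈ N, (χ : G → ℂ) n = (χ : G → ℂ) 1) :
    N ⊓ (P : Subgroup G) ≤ (commutator P).map (P : Subgroup G).subtype :=
  inf_sylow_le_commutator_of_quot_aux p A
    (fun P' N' h' => Cfsg.Agent.Lib.H1.PQ.inf_sylow_le_commutator p P' N' h') hA P N h

end Cfsg.Agent.Lib.H23.PQ
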