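import Cfsg.Agent.Lib.H23.DefectZero

/-!
# `|G|_p` times the `p`-regular part of a character is a generalized character (helper23)

* `pRegPart_restrict_classInner`: on an elementary subgroup `E = P × K`, `|P| [χ°_E, ψ]` is a
  natural number.
* `pow_mul_pRegPart_isGeneralizedCharacter`.
* `pow_mul_classInner_pRegPart_int`: `p^a [χ°, ψ] ∈ ℤ`.
-/

set_option autoImplicit false

universe u

namespace Cfsg.Agent.Lib.H23

open Cfsg.Agent.Lib.L0 Cfsg.Agent.Lib.H8 Module
open scoped ComplexConjugate

section Main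

variable {G : Type u} [Group G] [Fintype G]

theorem smul_pRegPart_restrict_genChar {p : ℕ} (hp : p.Prime) {χ : G → ℂ}
    (hχ : Cfsg.IsCharacter G χ) (E : Subgroup G) (q : ℕ) (hq : q.Prime)
    (hE : Cfsg.IsElementary q E) :
    Cfsg.IsGeneralizedCharacter E
      (fun e : E => ((p ^ (Nat.card G).factorization p : ℕ) : ℂ) * pRegPart p χ e) := by
  classical
  have : Fintype E := Fintype.ofFinite E
  have hnil : Group.IsNilpotent E := isNilpotent_of_isElementary hq hE
  obtain ⟨P, K, ⟨a, ha⟩, hKcop, hcard, hcomm, hK⟩ := exists_hall_decomp E p hp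
  set θ : E → ℂ := fun e => pRegPart p χ e with hθ
  have hθK : ∀ e : E, θ e = if e ∈ K then χ e else 0 := by
    intro e
    simp only [hθ, pRegPart]
    rw [Subgroup.orderOf_coe]
    by_cases h : p ∣ orderOf e
    · rw [if_pos h, if_neg]
      rw [hK]
      exact not_not.mpr h
    · rw [if_neg h, if_pos ((hK e).mpr h)]
  have hP0 : Nat.card P ≠ 0 := (Nat.card_pos (α := P)).ne'
  have hK0 : Nat.card K ≠ 0 := (Nat.card_pos (α := K)).ne'
  have hcardC : (Nat.card E : ℂ) = (Nat.card P : ℂ) * (Nat.card K : ℂ) := by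
    rw [← hcard]; push_cast; rfl
  -- a ≤ ν_p |G|
  have hale : a ≤ (Nat.card G).factorization p := by
    have h1 : p ^ a ∣ Nat.card G := by
      rw [← ha]
      exact dvd_trans (dvd_trans (Subgroup.card_subgroup_dvd_card P)
        (dvd_refl _)) (Subgroup.card_subgroup_dvd_card E)
    exact (hp.pow_dvd_iff_le_factorization Nat.card_pos.ne').mp h1
  obtain ⟨m, hm⟩ : ∃ m, (Nat.card G).factorization p = a + m := ⟨_, (Nat.add_sub_cancel' hale).symm⟩
  apply isGeneralizedCharacter_of_classInner_int
  · intro e h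
    simp only
    have h0 : ((h * e * h⁻¹ : E) : G) = (h : G) * (e : G) * (h : G)⁻¹ := by simp
    rw [h0, pRegPart_isClassFunction p (isClassFunction_of_isCharacter hχ) (e : G) (h : G)]
  · intro ψ
    have hψ : Cfsg.IsCharacter E (ψ : E → ℂ) := isCharacter_of_irr ψ.2
    set r := Cfsg.classInner θ (ψ : E → ℂ) with hr
    have hsum : ∑ e : E, θ e * conj ((ψ : E → ℂ) e) =
        ∑ e : E, (if e ∈ K then χ e * conj ((ψ : E → ℂ) e) else 0) := by
      refine Finset.sum_congr rfl fun e _ => ?_
      rw [hθK]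
      split_ifs <;> simp
    have hi : ∃ n : ℕ, (Nat.card P : ℂ) * r = n := by
      obtain ⟨n, hn⟩ := classInner_char_char_nat
        (isCharacter_restrict K (isCharacter_restrict E hχ)) (isCharacter_restrict K hψ)
      refine ⟨n, ?_⟩
      rw [← hn, hr]
      unfold Cfsg.classInner
      rw [hsum, sum_ite_mem_subgroup K (fun e => χ e * conj ((ψ : E → ℂ) e)), hcardC]
      have h1 : (Nat.card P : ℂ) ≠ 0 := Nat.cast_ne_zero.mpr hP0
      have h2 : (Nat.card K : ℂ) ≠ 0 := Nat.cast_ne_zero.mpr hK0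
      field_simp
    obtain ⟨n, hn⟩ := hi
    refine ⟨((p ^ m * n : ℕ) : ℤ), ?_⟩
    have h1 : Cfsg.classInner (fun e : E => ((p ^ (Nat.card G).factorization p : ℕ) : ℂ) *
        pRegPart p χ e) (ψ : E → ℂ) = ((p ^ (Nat.card G).factorization p : ℕ) : ℂ) * r := by
      rw [hr, ← classInner_smul_left]
      rfl
    rw [h1, hm, pow_add, ← ha]
    push_cast
    rw [mul_comm (Nat.card P : ℂ), mul_assoc, hn]

/-- `|G|_p` times the `p`-regular part of a character is a generalized character. -/
theorem pow_mul_pRegPart_isGeneralizedCharacter {p : ℕ} (hp : p.Prime) {χ : G → ℂ}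
    (hχ : Cfsg.IsCharacter G χ) :
    Cfsg.IsGeneralizedCharacter G
      (fun x : G => ((p ^ (Nat.card G).factorization p : ℕ) : ℂ) * pRegPart p χ x) := by
  refine brauer_characterization ?_ (fun E q hq hE => smul_pRegPart_restrict_genChar hp hχ E q hq hE)
  intro g h
  simp only
  rw [pRegPart_isClassFunction p (isClassFunction_of_isCharacter hχ) g h]

end Main

end Cfsg.Agent.Lib.H23
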