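import Mathlib
import Cfsg.Agent.Lib.H4.SLKDefs

/-!
# S2479 piece P15 (helper4 architect), hypothesis form: `k(SL_n(q)) ≤ ∑_τ wt τ`

`card_conjClasses_SL_le_of` takes the three inputs (`det_eq_Dt`, `exists_commute_det`, `card_fiber_SL_le` of the
blueprint `tools/blueprints/S2479_sigs.lean`) as hypotheses.
-/

set_option autoImplicit false
open Polynomial

namespace Cfsg.Agent.Lib.H23.SLK

open Cfsg.Agent.Lib.H12.Cls Cfsg.Agent.Lib.H4.SLK

universe u
variable {F : Type u} [Field F]

/-- helper12's injective map from classes of `GL_n` to tuples. -/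
noncomputable def tupleMap [Fintype F] (n : ℕ) :
    ConjClasses (GL (Fin n) F) → TSet F n n := fun C =>
  ⟨tupleOf (Quotient.out C), fun j => ⟨tupleOf_monic _ j, tupleOf_coeff_zero _ j⟩, tupleOf_sum _⟩

theorem tupleMap_injective [Fintype F] (n : ℕ) : Function.Injective (tupleMap (F := F) n) := by
  intro C C' h
  have h1 : tupleOf (Quotient.out C) = tupleOf (Quotient.out C') := congrArg Subtype.val h
  have h2 := isConj_of_tupleOf_eq _ _ h1
  have h3 : ConjClasses.mk (Quotient.out C) = ConjClasses.mk (Quotient.out C') :=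
    ConjClasses.mk_eq_mk_iff_isConj.mpr h2
  have h4 : ∀ D : ConjClasses (GL (Fin n) F), ConjClasses.mk (Quotient.out D) = D :=
    fun D => Quotient.out_eq D
  rw [h4, h4] at h3
  exact h3

/-- **UP1**, hypothesis form. -/
theorem card_conjClasses_SL_le_of [Fintype F] (n : ℕ)
    (hdet : ∀ A : GL (Fin n) F, (A : Matrix (Fin n) (Fin n) F).det = Dt (tupleOf A))
    (hcomm : ∀ (A : GL (Fin n) F) (j : Fin n), tupleOf A j ≠ 1 → ∀ a : Fˣ,
      ∃ y : GL (Fin n) F, Commute y A ∧ Matrix.GeneralLinearGroup.det y = a ^ ((j : ℕ) + 1))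
    (hfib : ∀ (x : Matrix.SpecialLinearGroup (Fin n) F) (J : Finset ℕ),
      (∀ j ∈ J, ∀ a : Fˣ, ∃ y : GL (Fin n) F,
        Commute y (Matrix.SpecialLinearGroup.toGL x) ∧ Matrix.GeneralLinearGroup.det y = a ^ j) →
      Nat.card {c : ConjClasses (Matrix.SpecialLinearGroup (Fin n) F) //
        ConjClasses.map (Matrix.SpecialLinearGroup.toGL (n := Fin n) (R := F)) c =
          ConjClasses.mk (Matrix.SpecialLinearGroup.toGL x)} ≤
        Nat.gcd (Fintype.card F - 1) (J.gcd id)) :
    Nat.card (ConjClasses (Matrix.SpecialLinearGroup (Fin n) F)) ≤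
      ∑ τ : TSet F n n, wt τ.1 := by
  classical
  let toGL := (Matrix.SpecialLinearGroup.toGL (n := Fin n) (R := F))
  let Ψ : ConjClasses (Matrix.SpecialLinearGroup (Fin n) F) → TSet F n n :=
    fun c => tupleMap n (ConjClasses.map toGL c)
  have hcard : Nat.card (ConjClasses (Matrix.SpecialLinearGroup (Fin n) F)) =
      ∑ τ : TSet F n n, Nat.card {c // Ψ c = τ} := by
    rw [← Nat.card_congr (Equiv.sigmaFiberEquiv Ψ), Nat.card_sigma]
  rw [hcard]
  apply Finset.sum_le_sum
  intro τ _
  by_cases hne : Nonempty {c // Ψ c = τ}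
  swap
  · rw [not_nonempty_iff] at hne
    rw [Nat.card_of_isEmpty]
    exact Nat.zero_le _
  obtain ⟨⟨c0, hc0⟩⟩ := hne
  obtain ⟨x, rfl⟩ := ConjClasses.mk_surjective c0
  set C0 : ConjClasses (GL (Fin n) F) := ConjClasses.mk (toGL x) with hC0
  have hmap : ConjClasses.map toGL (ConjClasses.mk x) = C0 := rfl
  set B : GL (Fin n) F := Quotient.out C0 with hB
  have hτ : τ.1 = tupleOf B := by
    rw [← hc0]
    rfl
  -- `B` is conjugate to `toGL x`
  have hconj : IsConj B (toGL x) := by
    apply ConjClasses.mk_eq_mk_iff_isConj.mp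
    exact Quotient.out_eq C0
  obtain ⟨g, hg⟩ := isConj_iff.mp hconj
  -- the fibre lies in one fibre of `ConjClasses.map toGL`
  have hle1 : Nat.card {c // Ψ c = τ} ≤
      Nat.card {c : ConjClasses (Matrix.SpecialLinearGroup (Fin n) F) //
        ConjClasses.map toGL c = ConjClasses.mk (toGL x)} := by
    apply Nat.card_le_card_of_injective
      (fun c : {c // Ψ c = τ} => (⟨c.1, by
        have h1 : tupleMap n (ConjClasses.map toGL c.1) = tupleMap n C0 := by
          have := c.2
          show Ψ c.1 = Ψ (ConjClasses.mk x)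
          rw [this, hc0]
        exact tupleMap_injective n h1⟩ :
        {c : ConjClasses (Matrix.SpecialLinearGroup (Fin n) F) //
          ConjClasses.map toGL c = ConjClasses.mk (toGL x)}))
    intro c c' h
    apply Subtype.ext
    have h' := congrArg (fun z => z.1) h
    exact h'
  -- the centraliser elements
  set J : Finset ℕ := (supp τ.1).image (fun j : Fin n => (j : ℕ) + 1) with hJ
  have hJc : ∀ k ∈ J, ∀ a : Fˣ, ∃ y : GL (Fin n) F,
      Commute y (toGL x) ∧ Matrix.GeneralLinearGroup.det y = a ^ k := by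
    intro k hk a
    rw [hJ, Finset.mem_image] at hk
    obtain ⟨j, hj, rfl⟩ := hk
    have hj1 : tupleOf B j ≠ 1 := by
      rw [← hτ]
      exact (mem_supp _ _).mp hj
    obtain ⟨y, hy, hdy⟩ := hcomm B j hj1 a
    refine ⟨g * y * g⁻¹, ?_, ?_⟩
    · rw [← hg]
      show g * y * g⁻¹ * (g * B * g⁻¹) = g * B * g⁻¹ * (g * y * g⁻¹)
      have e1 : g * y * g⁻¹ * (g * B * g⁻¹) = g * (y * B) * g⁻¹ := by group
      have e2 : g * B * g⁻¹ * (g * y * g⁻¹) = g * (B * y) * g⁻¹ := by group
      rw [e1, e2, hy.eq]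
    · rw [map_mul, map_mul, map_inv, mul_comm, inv_mul_cancel_left, hdy]
  have hle2 := hfib x J hJc
  have hgcd : J.gcd id = dg τ.1 := by
    rw [hJ, Finset.gcd_image]
    rfl
  -- the determinant
  have hDt : Dt τ.1 = 1 := by
    rw [hτ, ← hdet B]
    have h1 : Matrix.GeneralLinearGroup.det B = Matrix.GeneralLinearGroup.det (toGL x) := by
      rw [← hg, map_mul, map_mul, map_inv, mul_comm, inv_mul_cancel_left]
    have h2 : ((Matrix.GeneralLinearGroup.det B : Fˣ) : F) =
        ((Matrix.GeneralLinearGroup.det (toGL x) : Fˣ) : F) := by rw [h1]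
    rw [Matrix.GeneralLinearGroup.val_det_apply, Matrix.GeneralLinearGroup.val_det_apply] at h2
    rw [h2]
    show (Matrix.SpecialLinearGroup.toGL x : Matrix (Fin n) (Fin n) F).det = 1
    exact x.det_coe
  rw [wt_of_eq _ hDt]
  unfold idx
  rw [← hgcd]
  exact hle1.trans hle2

end Cfsg.Agent.Lib.H23.SLK
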