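import Mathlib
import Cfsg.Agent.Lib.H4.SLKDefs
import Cfsg.Agent.Lib.H23.SLKP15of
import Cfsg.Agent.Lib.H21.SLKP09
import Cfsg.Agent.Lib.H21.SLKP11
import Cfsg.Agent.Lib.H21.SLKP14
import Cfsg.Agent.Lib.H8.ClsUniq

/-!
# Generalised P15 (for S2480): the fibre bound tuple by tuple

`tupleSL n c` is the tuple of the `SL_n`-class `c`; `card_fiber_tupleSL_le` : at most `wt τ` classes of `SL_n(q)`
have tuple `τ`; `card_le_sum_wt` : a set of classes whose tuples lie in a finset `S` has at most `∑_{τ ∈ S} wt τ`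
elements.
-/

set_option autoImplicit false
open Polynomial

namespace Cfsg.Agent.Lib.H23.SLK

open Cfsg.Agent.Lib.H12.Cls Cfsg.Agent.Lib.H4.SLK

universe u
variable {F : Type u} [Field F]

/-- the tuple of an element of `SL_n` -/
noncomputable def tupSL [Fintype F] (n : ℕ) (x : Matrix.SpecialLinearGroup (Fin n) F) : TSet F n n :=
  ⟨tupleOf (Matrix.SpecialLinearGroup.toGL x),
    fun j => ⟨tupleOf_monic _ j, tupleOf_coeff_zero _ j⟩, tupleOf_sum _⟩

theorem tupSL_val [Fintype F] (n : ℕ) (x : Matrix.SpecialLinearGroup (Fin n) F) :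
    (tupSL n x).1 = tupleOf (Matrix.SpecialLinearGroup.toGL x) := rfl

/-- the tuple of a class of `SL_n` -/
noncomputable def tupleSL [Fintype F] (n : ℕ) :
    ConjClasses (Matrix.SpecialLinearGroup (Fin n) F) → TSet F n n :=
  fun c => tupleMap n (ConjClasses.map (Matrix.SpecialLinearGroup.toGL (n := Fin n) (R := F)) c)

theorem tupleSL_mk [Fintype F] (n : ℕ) (x : Matrix.SpecialLinearGroup (Fin n) F) :
    tupleSL n (ConjClasses.mk x) = tupSL n x := by
  apply Subtype.ext
  show tupleOf (Quotient.out (ConjClasses.mk (Matrix.SpecialLinearGroup.toGL x))) =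
    tupleOf (Matrix.SpecialLinearGroup.toGL x)
  apply Cfsg.Agent.Lib.H8.ClsUniq.tupleOf_eq_of_isConj
  apply ConjClasses.mk_eq_mk_iff_isConj.mp
  exact Quotient.out_eq _

theorem tupSL_eq_of_isConj [Fintype F] (n : ℕ) {x y : Matrix.SpecialLinearGroup (Fin n) F}
    (h : IsConj x y) : tupSL n x = tupSL n y := by
  rw [← tupleSL_mk, ← tupleSL_mk, ConjClasses.mk_eq_mk_iff_isConj.mpr h]

/-- the tuple of an element of `SL_n` has determinant `1` -/
theorem Dt_tupSL [Fintype F] (n : ℕ) (x : Matrix.SpecialLinearGroup (Fin n) F) :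
    Dt (tupSL n x).1 = 1 := by
  rw [tupSL_val, ← Cfsg.Agent.Lib.H21.SLK.det_eq_Dt]
  exact x.det_coe

/-- **fibre bound, tuple by tuple** -/
theorem card_fiber_tupleSL_le [Fintype F] (n : ℕ) (τ : TSet F n n) :
    Nat.card {c : ConjClasses (Matrix.SpecialLinearGroup (Fin n) F) // tupleSL n c = τ} ≤ wt τ.1 := by
  classical
  by_cases hne : Nonempty {c : ConjClasses (Matrix.SpecialLinearGroup (Fin n) F) // tupleSL n c = τ}
  swap
  · rw [not_nonempty_iff] at hne
    rw [Nat.card_of_isEmpty]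
    exact Nat.zero_le _
  obtain ⟨⟨c0, hc0⟩⟩ := hne
  obtain ⟨x, rfl⟩ := ConjClasses.mk_surjective c0
  have hτ : τ = tupSL n x := by rw [← hc0, tupleSL_mk]
  have hle1 : Nat.card {c : ConjClasses (Matrix.SpecialLinearGroup (Fin n) F) // tupleSL n c = τ} ≤
      Nat.card {c : ConjClasses (Matrix.SpecialLinearGroup (Fin n) F) //
        ConjClasses.map (Matrix.SpecialLinearGroup.toGL (n := Fin n) (R := F)) c =
          ConjClasses.mk (Matrix.SpecialLinearGroup.toGL x)} := by
    apply Nat.card_le_card_of_injective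
      (fun c : {c : ConjClasses (Matrix.SpecialLinearGroup (Fin n) F) // tupleSL n c = τ} => (⟨c.1, by
        have h1 : tupleSL n c.1 = tupleSL n (ConjClasses.mk x) := by rw [c.2, hc0]
        exact tupleMap_injective n h1⟩ :
        {c : ConjClasses (Matrix.SpecialLinearGroup (Fin n) F) //
          ConjClasses.map (Matrix.SpecialLinearGroup.toGL (n := Fin n) (R := F)) c =
            ConjClasses.mk (Matrix.SpecialLinearGroup.toGL x)}))
    intro c c' h
    apply Subtype.ext
    exact congrArg (fun z => z.1) h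
  set J : Finset ℕ := (supp τ.1).image (fun j : Fin n => (j : ℕ) + 1) with hJ
  have hJc : ∀ k ∈ J, ∀ a : Fˣ, ∃ y : GL (Fin n) F,
      Commute y (Matrix.SpecialLinearGroup.toGL x) ∧ Matrix.GeneralLinearGroup.det y = a ^ k := by
    intro k hk a
    rw [hJ, Finset.mem_image] at hk
    obtain ⟨j, hj, rfl⟩ := hk
    have hj1 : tupleOf (Matrix.SpecialLinearGroup.toGL x) j ≠ 1 := by
      have := (mem_supp _ _).mp hj
      rwa [hτ] at this
    exact Cfsg.Agent.Lib.H21.SLK.exists_commute_det _ j hj1 a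
  have hle2 := Cfsg.Agent.Lib.H21.SLK.card_fiber_SL_le x J hJc
  have hgcd : J.gcd id = dg τ.1 := by
    rw [hJ, Finset.gcd_image]
    rfl
  have hDt : Dt τ.1 = 1 := by rw [hτ]; exact Dt_tupSL n x
  rw [wt_of_eq _ hDt]
  unfold idx
  rw [← hgcd]
  exact hle1.trans hle2

/-- a set of classes of `SL_n(q)` whose tuples lie in `S` has at most `∑_{τ ∈ S} wt τ` elements -/
theorem card_le_sum_wt [Fintype F] (n : ℕ)
    (X : Set (ConjClasses (Matrix.SpecialLinearGroup (Fin n) F))) (S : Finset (TSet F n n))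
    (hX : ∀ c ∈ X, tupleSL n c ∈ S) : Nat.card X ≤ ∑ τ ∈ S, wt τ.1 := by
  classical
  let Ψ : X → S := fun c => ⟨tupleSL n c.1, hX c.1 c.2⟩
  have hcard : Nat.card X = ∑ τ : S, Nat.card {c // Ψ c = τ} := by
    rw [← Nat.card_congr (Equiv.sigmaFiberEquiv Ψ), Nat.card_sigma]
  rw [hcard, ← Finset.sum_coe_sort S (fun τ => wt τ.1)]
  apply Finset.sum_le_sum
  intro τ _
  refine le_trans ?_ (card_fiber_tupleSL_le n τ.1)
  apply Nat.card_le_card_of_injective
    (fun c : {c // Ψ c = τ} => (⟨c.1.1, by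
      have := c.2
      exact congrArg (fun z : S => z.1) this⟩ :
      {c : ConjClasses (Matrix.SpecialLinearGroup (Fin n) F) // tupleSL n c = τ.1}))
  intro c c' h
  apply Subtype.ext
  apply Subtype.ext
  exact congrArg (fun z => z.1) h

end Cfsg.Agent.Lib.H23.SLK
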