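import Mathlib
import Cfsg.Agent.Lib.H4.SLKDefs
import Cfsg.Agent.Lib.H9.SLKP16
import Cfsg.Agent.Lib.H7.SLKP18

/-!
# S2479 piece P19 (helper4 architect): `sum_idx_eq`

`(q - 1) · ∑_τ wt τ = ∑_τ idx τ ²` by double counting over the torus `(F^*)^n` acting on tuples by rescaling
constant terms.
-/

set_option autoImplicit false
open Polynomial

namespace Cfsg.Agent.Lib.H23.SLK

open Cfsg.Agent.Lib.H12.Cls Cfsg.Agent.Lib.H4.SLK

universe u
variable {F : Type u} [Field F]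

/-- the torus action on tuples -/
noncomputable def sclT {n : ℕ} (a : Fin n → Fˣ) (τ : TSet F n n) : TSet F n n :=
  ⟨scl a τ.1, (Cfsg.Agent.Lib.H9.SLK.scl_props a τ.1 τ.2.1).1,
    (Finset.sum_congr rfl (fun j _ => by
      rw [(Cfsg.Agent.Lib.H9.SLK.scl_props a τ.1 τ.2.1).2.1 j])).trans τ.2.2⟩

theorem sclT_one {n : ℕ} (τ : TSet F n n) : sclT 1 τ = τ :=
  Subtype.ext (Cfsg.Agent.Lib.H9.SLK.scl_one_mul τ.1 (fun j => (τ.2.1 j).1)).1

theorem sclT_mul {n : ℕ} (a b : Fin n → Fˣ) (τ : TSet F n n) : sclT a (sclT b τ) = sclT (a * b) τ :=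
  Subtype.ext ((Cfsg.Agent.Lib.H9.SLK.scl_one_mul τ.1 (fun j => (τ.2.1 j).1)).2 a b)

/-- the torus action as a permutation of the tuples -/
noncomputable def sclEquiv {n : ℕ} (a : Fin n → Fˣ) : TSet F n n ≃ TSet F n n where
  toFun := sclT a
  invFun := sclT a⁻¹
  left_inv τ := by rw [sclT_mul, inv_mul_cancel, sclT_one]
  right_inv τ := by rw [sclT_mul, mul_inv_cancel, sclT_one]

theorem idx_scl [Fintype F] {n : ℕ} (a : Fin n → Fˣ) (τ : TSet F n n) :
    idx (scl a τ.1) = idx τ.1 := by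
  unfold idx dg
  rw [(Cfsg.Agent.Lib.H9.SLK.scl_props a τ.1 τ.2.1).2.2]

/-- the inner count for one tuple -/
theorem card_mul_sum_wt_scl [Fintype F] [DecidableEq F] {n : ℕ} (τ : TSet F n n) :
    (Fintype.card F - 1) * ∑ a : Fin n → Fˣ, wt (scl a τ.1) =
      idx τ.1 ^ 2 * (Fintype.card F - 1) ^ n := by
  classical
  set g := τ.1 with hg
  have hgm : ∀ j, (g j).Monic := fun j => (τ.2.1 j).1
  obtain ⟨c, hc⟩ := Cfsg.Agent.Lib.H9.SLK.Dt_eq_chi g τ.2.1
  have hNc : Fintype.card Fˣ = Fintype.card F - 1 := by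
    rw [← Nat.card_eq_fintype_card, ← Nat.card_eq_fintype_card, Nat.card_units]
  -- each summand
  have hsum : ∀ a : Fin n → Fˣ, wt (scl a g) =
      if (∏ j ∈ supp g, c j ^ ((j : ℕ) + 1)) * (∏ j ∈ supp g, a j ^ ((j : ℕ) + 1)) = 1
        then idx g else 0 := by
    intro a
    unfold wt
    rw [idx_scl a τ, Cfsg.Agent.Lib.H9.SLK.Dt_scl a g hgm, hc]
    have hiff : ((chi g c : F) * (chi g a : F) = 1) ↔
        ((∏ j ∈ supp g, c j ^ ((j : ℕ) + 1)) * (∏ j ∈ supp g, a j ^ ((j : ℕ) + 1)) = 1) := by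
      rw [← Units.val_mul, Units.val_eq_one]
      rfl
    by_cases h : (chi g c : F) * (chi g a : F) = 1
    · rw [if_pos h, if_pos (hiff.mp h)]
    · rw [if_neg h, if_neg (fun h' => h (hiff.mpr h'))]
  have hcyc := Cfsg.Agent.Lib.H7.SLK.card_fiber_prod_pow (A := Fˣ) (J := n) (supp g)
    (fun j => (j : ℕ) + 1) c
  rw [hNc] at hcyc
  have hcnt : Nat.card {a : Fin n → Fˣ //
      (∏ j ∈ supp g, c j ^ ((j : ℕ) + 1)) * (∏ j ∈ supp g, a j ^ ((j : ℕ) + 1)) = 1} =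
      (Finset.univ.filter (fun a : Fin n → Fˣ =>
        (∏ j ∈ supp g, c j ^ ((j : ℕ) + 1)) * (∏ j ∈ supp g, a j ^ ((j : ℕ) + 1)) = 1)).card := by
    rw [Nat.card_eq_fintype_card, Fintype.card_subtype]
  rw [hcnt] at hcyc
  have hidx : idx g = Nat.gcd (Fintype.card F - 1) ((supp g).gcd (fun j => (j : ℕ) + 1)) := rfl
  rw [← hidx] at hcyc
  rw [Finset.sum_congr rfl (fun a _ => hsum a), Finset.sum_ite, Finset.sum_const_zero, add_zero,
    Finset.sum_const, smul_eq_mul]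
  calc (Fintype.card F - 1) * ((Finset.univ.filter (fun a : Fin n → Fˣ =>
        (∏ j ∈ supp g, c j ^ ((j : ℕ) + 1)) * (∏ j ∈ supp g, a j ^ ((j : ℕ) + 1)) = 1)).card * idx g)
      = ((Fintype.card F - 1) * (Finset.univ.filter (fun a : Fin n → Fˣ =>
        (∏ j ∈ supp g, c j ^ ((j : ℕ) + 1)) * (∏ j ∈ supp g, a j ^ ((j : ℕ) + 1)) = 1)).card) * idx g := by
        ring
    _ = (idx g * (Fintype.card F - 1) ^ n) * idx g := by rw [hcyc]
    _ = idx g ^ 2 * (Fintype.card F - 1) ^ n := by ring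

/-- **UP2** -/
theorem sum_idx_eq [Fintype F] (n : ℕ) :
    (Fintype.card F - 1) * ∑ τ : TSet F n n, wt τ.1 =
      ∑ τ : TSet F n n, idx τ.1 ^ 2 := by
  classical
  have hNc : Fintype.card Fˣ = Fintype.card F - 1 := by
    rw [← Nat.card_eq_fintype_card, ← Nat.card_eq_fintype_card, Nat.card_units]
  have hN1 : 1 ≤ Fintype.card F - 1 := by
    have : 1 < Fintype.card F := Fintype.one_lt_card
    omega
  have hpos : 0 < (Fintype.card F - 1) ^ n := Nat.pow_pos hN1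
  -- invariance of the sum under the torus
  have hinv : ∀ a : Fin n → Fˣ, ∑ τ : TSet F n n, wt (scl a τ.1) = ∑ τ : TSet F n n, wt τ.1 := by
    intro a
    exact Fintype.sum_equiv (sclEquiv a) (fun τ => wt (scl a τ.1)) (fun τ => wt τ.1) (fun τ => rfl)
  have hcardT : Fintype.card (Fin n → Fˣ) = (Fintype.card F - 1) ^ n := by
    rw [Fintype.card_fun, hNc, Fintype.card_fin]
  have h1 : (Fintype.card F - 1) ^ n * ∑ τ : TSet F n n, wt τ.1 =
      ∑ τ : TSet F n n, ∑ a : Fin n → Fˣ, wt (scl a τ.1) := by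
    rw [Finset.sum_comm, Finset.sum_congr rfl (fun a _ => hinv a), Finset.sum_const, smul_eq_mul,
      Finset.card_univ, hcardT]
  apply Nat.eq_of_mul_eq_mul_right hpos
  calc ((Fintype.card F - 1) * ∑ τ : TSet F n n, wt τ.1) * (Fintype.card F - 1) ^ n
      = (Fintype.card F - 1) * ((Fintype.card F - 1) ^ n * ∑ τ : TSet F n n, wt τ.1) := by ring
    _ = (Fintype.card F - 1) * ∑ τ : TSet F n n, ∑ a : Fin n → Fˣ, wt (scl a τ.1) := by rw [h1]
    _ = ∑ τ : TSet F n n, (Fintype.card F - 1) * ∑ a : Fin n → Fˣ, wt (scl a τ.1) := by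
        rw [Finset.mul_sum]
    _ = ∑ τ : TSet F n n, idx τ.1 ^ 2 * (Fintype.card F - 1) ^ n :=
        Finset.sum_congr rfl (fun τ _ => card_mul_sum_wt_scl τ)
    _ = (∑ τ : TSet F n n, idx τ.1 ^ 2) * (Fintype.card F - 1) ^ n := by rw [Finset.sum_mul]

end Cfsg.Agent.Lib.H23.SLK
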