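import Mathlib
import Cfsg.Agent.Lib.H4.SLKDefs
import Cfsg.Agent.Lib.H23.SLKP19

/-!
# Generalised `sum_idx_eq` (for S2480): restricted to a torus-invariant set of tuples

`(q - 1) · ∑_{τ ∈ S} wt τ = ∑_{τ ∈ S} idx τ ²` for every finset `S` of tuples stable under the rescaling
action `sclT` of the torus `(F^*)^n`.
-/

set_option autoImplicit false
open Polynomial

namespace Cfsg.Agent.Lib.H23.SLK

open Cfsg.Agent.Lib.H12.Cls Cfsg.Agent.Lib.H4.SLK

universe u
variable {F : Type u} [Field F]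

/-- **UP2 on an invariant finset** -/
theorem sum_idx_eq_on [Fintype F] (n : ℕ) (S : Finset (TSet F n n))
    (hS : ∀ (a : Fin n → Fˣ) (τ : TSet F n n), sclT a τ ∈ S ↔ τ ∈ S) :
    (Fintype.card F - 1) * ∑ τ ∈ S, wt τ.1 = ∑ τ ∈ S, idx τ.1 ^ 2 := by
  classical
  have hNc : Fintype.card Fˣ = Fintype.card F - 1 := by
    rw [← Nat.card_eq_fintype_card, ← Nat.card_eq_fintype_card, Nat.card_units]
  have hN1 : 1 ≤ Fintype.card F - 1 := by
    have : 1 < Fintype.card F := Fintype.one_lt_card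
    omega
  have hpos : 0 < (Fintype.card F - 1) ^ n := Nat.pow_pos hN1
  have hinv : ∀ a : Fin n → Fˣ, ∑ τ ∈ S, wt (scl a τ.1) = ∑ τ ∈ S, wt τ.1 := by
    intro a
    exact Finset.sum_equiv (sclEquiv a) (fun τ => (hS a τ).symm) (fun τ _ => rfl)
  have hcardT : Fintype.card (Fin n → Fˣ) = (Fintype.card F - 1) ^ n := by
    rw [Fintype.card_fun, hNc, Fintype.card_fin]
  have h1 : (Fintype.card F - 1) ^ n * ∑ τ ∈ S, wt τ.1 =
      ∑ τ ∈ S, ∑ a : Fin n → Fˣ, wt (scl a τ.1) := by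
    rw [Finset.sum_comm, Finset.sum_congr rfl (fun a _ => hinv a), Finset.sum_const, smul_eq_mul,
      Finset.card_univ, hcardT]
  apply Nat.eq_of_mul_eq_mul_right hpos
  calc ((Fintype.card F - 1) * ∑ τ ∈ S, wt τ.1) * (Fintype.card F - 1) ^ n
      = (Fintype.card F - 1) * ((Fintype.card F - 1) ^ n * ∑ τ ∈ S, wt τ.1) := by ring
    _ = (Fintype.card F - 1) * ∑ τ ∈ S, ∑ a : Fin n → Fˣ, wt (scl a τ.1) := by rw [h1]
    _ = ∑ τ ∈ S, (Fintype.card F - 1) * ∑ a : Fin n → Fˣ, wt (scl a τ.1) := by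
        rw [Finset.mul_sum]
    _ = ∑ τ ∈ S, idx τ.1 ^ 2 * (Fintype.card F - 1) ^ n :=
        Finset.sum_congr rfl (fun τ _ => card_mul_sum_wt_scl τ)
    _ = (∑ τ ∈ S, idx τ.1 ^ 2) * (Fintype.card F - 1) ^ n := by rw [Finset.sum_mul]

/-- **UP2 for an invariant predicate** (sum over `filter`) -/
theorem sum_idx_eq_filter [Fintype F] (n : ℕ) (P : TSet F n n → Prop) [DecidablePred P]
    (hP : ∀ (a : Fin n → Fˣ) (τ : TSet F n n), P (sclT a τ) ↔ P τ) :
    (Fintype.card F - 1) * ∑ τ ∈ Finset.univ.filter P, wt τ.1 =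
      ∑ τ ∈ Finset.univ.filter P, idx τ.1 ^ 2 :=
  sum_idx_eq_on n _ (fun a τ => by simp only [Finset.mem_filter, Finset.mem_univ, true_and]; exact hP a τ)

/-- `sclT` on the underlying tuples. -/
theorem sclT_val {n : ℕ} (a : Fin n → Fˣ) (τ : TSet F n n) : (sclT a τ).1 = scl a τ.1 := rfl

/-- rescaling only changes constant terms -/
theorem coeff_scl_of_ne_zero {J : ℕ} (a : Fin J → Fˣ) (g : Fin J → F[X]) (j : Fin J) (k : ℕ)
    (hk : k ≠ 0) : (scl a g j).coeff k = (g j).coeff k := by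
  by_cases h : g j = 1
  · rw [Cfsg.Agent.Lib.H9.SLK.scl_of_eq a g j h, h]
  · rw [Cfsg.Agent.Lib.H9.SLK.scl_of_ne a g j h, coeff_add, coeff_C, if_neg hk, add_zero]

/-- a coefficient-support condition away from degree `0` is torus-invariant -/
theorem coeff_scl_eq_zero_iff {J : ℕ} (a : Fin J → Fˣ) (g : Fin J → F[X]) (j : Fin J) (k : ℕ)
    (hk : k ≠ 0) : (scl a g j).coeff k = 0 ↔ (g j).coeff k = 0 := by
  rw [coeff_scl_of_ne_zero a g j k hk]

end Cfsg.Agent.Lib.H23.SLK
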