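import Mathlib
import Cfsg.Agent.Lib.H4.SLKDefs
import Cfsg.Agent.Lib.H23.SLKP15gen
import Cfsg.Agent.Lib.H23.SLKP19gen
import Cfsg.Agent.Lib.H8.ClsTwist
import Cfsg.Agent.Lib.H8.CentralClassCount
import Cfsg.Agent.Lib.H11.SLKP22

/-!
# S2480 pieces (helper22 architect): the contraction injection and the bound for `fix(z)`

* `InvP m p` : all coefficients of `p` are supported on multiples of `m`; `InvM m τ` the same for all entries
  of a tuple.
* `red` : `{τ : TSet F n n // InvM m τ} → TSet F (n/m) (n/m)` by `Polynomial.contract`; injective and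
  `idx`-preserving, hence `sum_idx_sq_inv_le`.
* `card_fix_mul_le` : `(q - 1) · fix(z) ≤ Rn (q - 1) (n / orderOf z)` for central `z` of `SL_n(q)`.
-/

set_option autoImplicit false
open Polynomial

namespace Cfsg.Agent.Lib.H23.PSLK

open Cfsg.Agent.Lib.H12.Cls Cfsg.Agent.Lib.H4.SLK Cfsg.Agent.Lib.H23.SLK

universe u
variable {F : Type u} [Field F]

/-- all coefficients of `p` are supported on multiples of `m` -/
def InvP (m : ℕ) (p : F[X]) : Prop := ∀ k, p.coeff k ≠ 0 → m ∣ k

theorem expand_contract_of_invP {m : ℕ} (hm : 0 < m) {p : F[X]} (h : InvP m p) :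
    expand F m (contract m p) = p := by
  ext k
  rw [coeff_expand hm]
  split_ifs with hd
  · rw [coeff_contract hm.ne', Nat.div_mul_cancel hd]
  · by_contra hne
    exact hd (h k (Ne.symm hne))

theorem natDegree_contract_mul {m : ℕ} (hm : 0 < m) {p : F[X]} (h : InvP m p) :
    (contract m p).natDegree * m = p.natDegree := by
  conv_rhs => rw [← expand_contract_of_invP hm h]
  rw [natDegree_expand]

theorem monic_contract {m : ℕ} (hm : 0 < m) {p : F[X]} (h : InvP m p) (hp : p.Monic) :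
    (contract m p).Monic := by
  rw [← monic_expand_iff hm, expand_contract_of_invP hm h]
  exact hp

theorem contract_eq_one_iff {m : ℕ} (hm : 0 < m) {p : F[X]} (h : InvP m p) :
    contract m p = 1 ↔ p = 1 := by
  constructor
  · intro h1
    rw [← expand_contract_of_invP hm h, h1, map_one]
  · rintro rfl
    rw [← C_1, contract_C]

theorem contract_injOn {m : ℕ} (hm : 0 < m) {p p' : F[X]} (h : InvP m p) (h' : InvP m p')
    (he : contract m p = contract m p') : p = p' := by
  rw [← expand_contract_of_invP hm h, he, expand_contract_of_invP hm h']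

/-- all entries of the tuple have coefficients supported on multiples of `m` -/
def InvM {J n : ℕ} (m : ℕ) (τ : TSet F J n) : Prop := ∀ j, InvP m (τ.1 j)

theorem invP_scl {J : ℕ} (m : ℕ) (a : Fin J → Fˣ) (g : Fin J → F[X]) (j : Fin J) :
    InvP m (scl a g j) ↔ InvP m (g j) := by
  constructor
  · intro h k hk
    rcases Nat.eq_zero_or_pos k with rfl | hk0
    · exact dvd_zero m
    · exact h k (by rwa [coeff_scl_of_ne_zero a g j k hk0.ne'])
  · intro h k hk
    rcases Nat.eq_zero_or_pos k with rfl | hk0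
    · exact dvd_zero m
    · exact h k (by rwa [coeff_scl_of_ne_zero a g j k hk0.ne'] at hk)

theorem invM_sclT {n : ℕ} (m : ℕ) (a : Fin n → Fˣ) (τ : TSet F n n) :
    InvM m (sclT a τ) ↔ InvM m τ := by
  unfold InvM
  constructor
  · intro h j
    exact (invP_scl m a τ.1 j).mp (h j)
  · intro h j
    exact (invP_scl m a τ.1 j).mpr (h j)

/-- the index embedding -/
def emb (n m : ℕ) (k : Fin (n / m)) : Fin n := Fin.castLE (Nat.div_le_self n m) k

theorem emb_val (n m : ℕ) (k : Fin (n / m)) : ((emb n m k : Fin n) : ℕ) = k := rfl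

theorem emb_injective (n m : ℕ) : Function.Injective (emb n m) := by
  intro k k' h
  apply Fin.ext
  have := congrArg (fun j : Fin n => (j : ℕ)) h
  exact this

theorem m_dvd_natDegree {m : ℕ} {p : F[X]} (h : InvP m p) (hp : p.Monic) : m ∣ p.natDegree := by
  apply h
  rw [hp.coeff_natDegree]
  exact one_ne_zero

/-- the entries beyond `n / m` are trivial -/
theorem eq_one_of_le {n m : ℕ} (hm : 0 < m) (τ : TSet F n n) (h : InvM m τ) (j : Fin n)
    (hj : n / m ≤ (j : ℕ)) : τ.1 j = 1 := by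
  by_contra hne
  have hpos : 0 < (τ.1 j).natDegree :=
    Cfsg.Agent.Lib.H9.SLK.natDegree_pos_of_monic_ne_one _ (τ.2.1 j).1 hne
  have hdvd : m ∣ (τ.1 j).natDegree := m_dvd_natDegree (h j) (τ.2.1 j).1
  have hle : m ≤ (τ.1 j).natDegree := Nat.le_of_dvd hpos hdvd
  have hterm : ((j : ℕ) + 1) * (τ.1 j).natDegree ≤ n := by
    have := Finset.single_le_sum (f := fun j : Fin n => ((j : ℕ) + 1) * (τ.1 j).natDegree)
      (fun i _ => Nat.zero_le _) (Finset.mem_univ j)
    rw [τ.2.2] at this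
    exact this
  have h1 : ((j : ℕ) + 1) * m ≤ n := (Nat.mul_le_mul_left _ hle).trans hterm
  have h2 : (j : ℕ) + 1 ≤ n / m := (Nat.le_div_iff_mul_le hm).mpr h1
  omega

theorem exists_emb {n m : ℕ} (hm : 0 < m) (τ : TSet F n n) (h : InvM m τ) (j : Fin n)
    (hj : τ.1 j ≠ 1) : ∃ k, emb n m k = j := by
  have h1 : (j : ℕ) < n / m := by
    by_contra hlt
    exact hj (eq_one_of_le hm τ h j (not_lt.mp hlt))
  exact ⟨⟨j, h1⟩, Fin.ext rfl⟩

theorem sum_red {n m : ℕ} (hm : 0 < m) (hmn : m ∣ n) (τ : TSet F n n) (h : InvM m τ) :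
    ∑ k : Fin (n / m), ((k : ℕ) + 1) * (contract m (τ.1 (emb n m k))).natDegree = n / m := by
  classical
  have h1 : ∑ j : Fin n, ((j : ℕ) + 1) * (τ.1 j).natDegree =
      ∑ k : Fin (n / m), ((emb n m k : ℕ) + 1) * (τ.1 (emb n m k)).natDegree := by
    rw [← Finset.sum_image (s := Finset.univ) (g := emb n m)
      (f := fun j : Fin n => ((j : ℕ) + 1) * (τ.1 j).natDegree)
      (fun a _ b _ hab => emb_injective n m hab)]
    symm
    apply Finset.sum_subset (Finset.subset_univ _)
    intro j _ hj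
    have h2 : τ.1 j = 1 := by
      by_contra hne
      obtain ⟨k, hk⟩ := exists_emb hm τ h j hne
      exact hj (Finset.mem_image.2 ⟨k, Finset.mem_univ _, hk⟩)
    rw [h2, natDegree_one, mul_zero]
  have h2 : ∑ k : Fin (n / m), ((emb n m k : ℕ) + 1) * (τ.1 (emb n m k)).natDegree =
      m * ∑ k : Fin (n / m), ((k : ℕ) + 1) * (contract m (τ.1 (emb n m k))).natDegree := by
    rw [Finset.mul_sum]
    apply Finset.sum_congr rfl
    intro k _
    rw [emb_val, ← natDegree_contract_mul hm (h (emb n m k))]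
    ring
  have h3 := τ.2.2
  rw [h1, h2] at h3
  exact (Nat.div_eq_of_eq_mul_right hm h3.symm).symm

/-- the contracted tuple -/
noncomputable def red (n m : ℕ) (hm : 0 < m) (hmn : m ∣ n) (τ : {τ : TSet F n n // InvM m τ}) :
    TSet F (n / m) (n / m) :=
  ⟨fun k => contract m (τ.1.1 (emb n m k)),
    fun k => ⟨monic_contract hm (τ.2 _) (τ.1.2.1 _).1, by
      rw [coeff_contract hm.ne', zero_mul]
      exact (τ.1.2.1 _).2⟩,
    sum_red hm hmn τ.1 τ.2⟩

theorem red_val (n m : ℕ) (hm : 0 < m) (hmn : m ∣ n) (τ : {τ : TSet F n n // InvM m τ})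
    (k : Fin (n / m)) : (red n m hm hmn τ).1 k = contract m (τ.1.1 (emb n m k)) := rfl

theorem red_injective (n m : ℕ) (hm : 0 < m) (hmn : m ∣ n) :
    Function.Injective (red (F := F) n m hm hmn) := by
  intro τ τ' h
  apply Subtype.ext
  apply Subtype.ext
  funext j
  by_cases hj : (j : ℕ) < n / m
  · have h1 := congrArg (fun σ : TSet F (n / m) (n / m) => σ.1 ⟨j, hj⟩) h
    have h2 : contract m (τ.1.1 (emb n m ⟨j, hj⟩)) = contract m (τ'.1.1 (emb n m ⟨j, hj⟩)) := h1
    have h3 : emb n m ⟨j, hj⟩ = j := Fin.ext rfl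
    rw [h3] at h2
    exact contract_injOn hm (τ.2 j) (τ'.2 j) h2
  · rw [eq_one_of_le hm τ.1 τ.2 j (not_lt.mp hj), eq_one_of_le hm τ'.1 τ'.2 j (not_lt.mp hj)]

theorem supp_red (n m : ℕ) (hm : 0 < m) (hmn : m ∣ n) (τ : {τ : TSet F n n // InvM m τ}) :
    supp τ.1.1 = (supp (red n m hm hmn τ).1).image (emb n m) := by
  classical
  ext j
  rw [mem_supp, Finset.mem_image]
  constructor
  · intro hj
    obtain ⟨k, rfl⟩ := exists_emb hm τ.1 τ.2 j hj
    refine ⟨k, ?_, rfl⟩
    rw [mem_supp, red_val]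
    intro h1
    exact hj ((contract_eq_one_iff hm (τ.2 _)).mp h1)
  · rintro ⟨k, hk, rfl⟩
    rw [mem_supp, red_val] at hk
    intro h1
    exact hk ((contract_eq_one_iff hm (τ.2 _)).mpr h1)

theorem dg_red (n m : ℕ) (hm : 0 < m) (hmn : m ∣ n) (τ : {τ : TSet F n n // InvM m τ}) :
    dg (red n m hm hmn τ).1 = dg τ.1.1 := by
  classical
  unfold dg
  rw [supp_red n m hm hmn τ, Finset.gcd_image]
  rfl

theorem idx_red [Fintype F] (n m : ℕ) (hm : 0 < m) (hmn : m ∣ n)
    (τ : {τ : TSet F n n // InvM m τ}) : idx (red n m hm hmn τ).1 = idx τ.1.1 := by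
  unfold idx
  rw [dg_red]

/-- **(C3)** -/
theorem sum_idx_sq_inv_le [Fintype F] (n m : ℕ) (hm : 0 < m) (hmn : m ∣ n)
    [DecidablePred (fun τ : TSet F n n => InvM m τ)] :
    ∑ τ ∈ Finset.univ.filter (fun τ : TSet F n n => InvM m τ), idx τ.1 ^ 2 ≤
      Rn (Fintype.card F - 1) (n / m) := by
  classical
  refine le_trans ?_ (Cfsg.Agent.Lib.H11.SLK.sum_idx_sq_le (F := F) (n / m))
  have h1 : ∑ τ ∈ Finset.univ.filter (fun τ : TSet F n n => InvM m τ), idx τ.1 ^ 2 =
      ∑ τ : {τ : TSet F n n // InvM m τ}, idx (red n m hm hmn τ).1 ^ 2 := by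
    rw [Finset.sum_subtype (Finset.univ.filter (fun τ : TSet F n n => InvM m τ))
      (p := fun τ : TSet F n n => InvM m τ) (fun τ => by simp)]
    apply Finset.sum_congr rfl
    intro τ _
    rw [idx_red]
  rw [h1, ← Finset.sum_image (s := Finset.univ) (g := red (F := F) n m hm hmn)
    (f := fun σ : TSet F (n / m) (n / m) => idx σ.1 ^ 2)
    (fun a _ b _ hab => red_injective n m hm hmn hab)]
  exact Finset.sum_le_sum_of_subset (Finset.subset_univ _)

open Cfsg.Agent.Lib.H8.CentralClassCount Cfsg.Agent.Lib.H8.ClsTwist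

/-- the scalar of a central element of `SL_n` and its order -/
theorem exists_scalar_of_mem_center (n : ℕ) (hn : 1 ≤ n) (z : Matrix.SpecialLinearGroup (Fin n) F)
    (hz : z ∈ Subgroup.center (Matrix.SpecialLinearGroup (Fin n) F)) :
    ∃ l : F, l ≠ 0 ∧ l ^ n = 1 ∧ (∀ k : ℕ, l ^ k = 1 → orderOf z ∣ k) ∧
      ∀ x : Matrix.SpecialLinearGroup (Fin n) F,
        ((z * x : Matrix.SpecialLinearGroup (Fin n) F) : Matrix (Fin n) (Fin n) F) =
          l • (x : Matrix (Fin n) (Fin n) F) := by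
  obtain ⟨l, hl, hlz⟩ := Matrix.SpecialLinearGroup.mem_center_iff.mp hz
  rw [Fintype.card_fin] at hl
  have hl0 : l ≠ 0 := by
    rintro rfl
    rw [zero_pow (by omega)] at hl
    exact zero_ne_one hl
  refine ⟨l, hl0, hl, ?_, ?_⟩
  · intro k hk
    apply orderOf_dvd_of_pow_eq_one
    apply Subtype.ext
    rw [Matrix.SpecialLinearGroup.coe_pow, ← hlz, ← map_pow, hk, map_one]
    rfl
  · intro x
    rw [Matrix.SpecialLinearGroup.coe_mul, ← hlz, Matrix.scalar_apply, Matrix.smul_eq_diagonal_mul]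

/-- a class fixed by the central element `z` has its tuple in `InvM (orderOf z)` -/
theorem invM_of_fix [Fintype F] (n : ℕ) (hn : 1 ≤ n) (z : Matrix.SpecialLinearGroup (Fin n) F)
    (hz : z ∈ Subgroup.center (Matrix.SpecialLinearGroup (Fin n) F))
    (C : ConjClasses (Matrix.SpecialLinearGroup (Fin n) F)) (hC : mulClass z hz C = C) :
    InvM (orderOf z) (tupleSL n C) := by
  obtain ⟨x, rfl⟩ := ConjClasses.mk_surjective C
  rw [mulClass_mk] at hC
  have hconj : IsConj (z * x) x := ConjClasses.mk_eq_mk_iff_isConj.mp hC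
  obtain ⟨l, hl0, -, hord, hsm⟩ := exists_scalar_of_mem_center n hn z hz
  rw [tupleSL_mk]
  intro j
  have hconjGL : IsConj (Matrix.SpecialLinearGroup.toGL (z * x)) (Matrix.SpecialLinearGroup.toGL x) :=
    (Matrix.SpecialLinearGroup.toGL (n := Fin n) (R := F)).map_isConj hconj
  have htup := Cfsg.Agent.Lib.H8.ClsUniq.tupleOf_eq_of_isConj hconjGL
  have h1 := tupleOf_smul l hl0 (Matrix.SpecialLinearGroup.toGL x)
    (Matrix.SpecialLinearGroup.toGL (z * x)) (hsm x) j
  have h2 : tw l (tupleOf (Matrix.SpecialLinearGroup.toGL x) j) =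
      tupleOf (Matrix.SpecialLinearGroup.toGL x) j := by rw [← h1, htup]
  exact fun k hk => dvd_of_tw_eq l hl0 _ (orderOf z) hord h2 (tupleOf_coeff_zero _ j) k hk

theorem orderOf_dvd_of_mem_center [Finite F] (n : ℕ) (hn : 1 ≤ n)
    (z : Matrix.SpecialLinearGroup (Fin n) F)
    (hz : z ∈ Subgroup.center (Matrix.SpecialLinearGroup (Fin n) F)) : orderOf z ∣ n := by
  obtain ⟨l, -, hl, hord, -⟩ := exists_scalar_of_mem_center n hn z hz
  exact hord n hl

/-- **(FIXZ)** `(q - 1) · fix(z) ≤ Rn (q - 1) (n / orderOf z)` -/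
theorem card_fix_mul_le [Fintype F] (n : ℕ) (hn : 1 ≤ n) (z : Matrix.SpecialLinearGroup (Fin n) F)
    (hz : z ∈ Subgroup.center (Matrix.SpecialLinearGroup (Fin n) F)) :
    (Fintype.card F - 1) *
        Nat.card {C : ConjClasses (Matrix.SpecialLinearGroup (Fin n) F) // mulClass z hz C = C} ≤
      Rn (Fintype.card F - 1) (n / orderOf z) := by
  classical
  have hm : 0 < orderOf z := orderOf_pos z
  have hmn : orderOf z ∣ n := orderOf_dvd_of_mem_center n hn z hz
  have h1 : Nat.card {C : ConjClasses (Matrix.SpecialLinearGroup (Fin n) F) // mulClass z hz C = C} ≤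
      ∑ τ ∈ Finset.univ.filter (fun τ : TSet F n n => InvM (orderOf z) τ), wt τ.1 :=
    card_le_sum_wt n {C | mulClass z hz C = C} _ (fun C hC => by
      rw [Finset.mem_filter]
      exact ⟨Finset.mem_univ _, invM_of_fix n hn z hz C hC⟩)
  calc (Fintype.card F - 1) *
        Nat.card {C : ConjClasses (Matrix.SpecialLinearGroup (Fin n) F) // mulClass z hz C = C}
      ≤ (Fintype.card F - 1) *
          ∑ τ ∈ Finset.univ.filter (fun τ : TSet F n n => InvM (orderOf z) τ), wt τ.1 :=
        Nat.mul_le_mul_left _ h1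
    _ = ∑ τ ∈ Finset.univ.filter (fun τ : TSet F n n => InvM (orderOf z) τ), idx τ.1 ^ 2 :=
        sum_idx_eq_filter n _ (fun a τ => invM_sclT _ a τ)
    _ ≤ Rn (Fintype.card F - 1) (n / orderOf z) := sum_idx_sq_inv_le n _ hm hmn

end Cfsg.Agent.Lib.H23.PSLK
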