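import Cfsg.Agent.Lib.L0.CharPerm
import Mathlib.GroupTheory.GroupAction.Quotient

/-!
# Permutation characters (helper23)

* `permChar X g`: the number of fixed points of `g` on the finite `G`-set `X`, as a complex number;
* `permChar_eq_sum_orbits`: the permutation character is the sum over the orbits of the characters
  induced from the trivial characters of the stabilizers of arbitrary orbit representatives;
* `indFun_one_eq_permChar`: `(1_H)^G` is the permutation character of `G ⧸ H`;
* `permChar_prod`: the permutation character of a product is the product;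
* `indFun_one_mul_indFun_one`: Mackey product formula `(1_H)^G (1_K)^G = ∑ a(U) (1_U)^G` with
  `a U ≠ 0 → U ≤ H`.
-/

set_option autoImplicit false

namespace Cfsg.Agent.Lib.H23

open Cfsg.Agent.Lib.L0 MulAction

section

variable {G : Type*} [Group G]

/-- The permutation character of a `G`-set. -/
noncomputable def permChar (X : Type*) [MulAction G X] (g : G) : ℂ :=
  (Nat.card (fixedBy X g) : ℂ)

theorem permChar_prod (X Y : Type*) [MulAction G X] [MulAction G Y] [Finite X] [Finite Y]
    (g : G) : permChar (X × Y) g = permChar X g * permChar Y g := by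
  unfold permChar
  rw [← Nat.cast_mul, ← Nat.card_prod]
  congr 1
  refine Nat.card_congr ⟨fun z => (⟨z.1.1, ?_⟩, ⟨z.1.2, ?_⟩), fun z => ⟨(z.1.1, z.2.1), ?_⟩, ?_, ?_⟩
  · have := z.2
    rw [mem_fixedBy] at this ⊢
    exact congrArg Prod.fst this
  · have := z.2
    rw [mem_fixedBy] at this ⊢
    exact congrArg Prod.snd this
  · rw [mem_fixedBy]
    exact Prod.ext z.1.2 z.2.2
  · intro z; rfl
  · intro z; rfl

variable [Fintype G]

/-- The permutation character of an orbit. -/
theorem permChar_orbit (X : Type*) [MulAction G X] [Finite X] (x : X) :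
    (fun g : G => permChar (orbit G x) g) = Cfsg.indFun (stabilizer G x) (fun _ => 1) := by
  have h := fixedPoints_eq_indFun (G := G) (orbit G x) ⟨x, mem_orbit_self x⟩
  have hs : stabilizer G (⟨x, mem_orbit_self x⟩ : orbit G x) = stabilizer G x := by
    ext g
    rw [mem_stabilizer_iff, mem_stabilizer_iff, Subtype.ext_iff]
    rfl
  unfold permChar
  rw [h]
  exact congrArg (fun S : Subgroup G => Cfsg.indFun S (fun _ => (1 : ℂ))) hs

/-- The permutation character decomposes along the orbits. -/
theorem permChar_eq_sum_orbits (X : Type*) [MulAction G X] [Fintype X]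
    [Fintype (orbitRel.Quotient G X)] (r : orbitRel.Quotient G X → X)
    (hr : ∀ ω, (Quotient.mk'' (r ω) : orbitRel.Quotient G X) = ω) :
    (fun g : G => permChar X g) =
      ∑ ω : orbitRel.Quotient G X, Cfsg.indFun (stabilizer G (r ω)) (fun _ => 1) := by
  classical
  funext g
  rw [Finset.sum_apply]
  have h1 : ∀ ω : orbitRel.Quotient G X,
      Cfsg.indFun (stabilizer G (r ω)) (fun _ => 1) g = permChar (orbit G (r ω)) g := by
    intro ω
    exact (congrFun (permChar_orbit X (r ω)) g).symm
  rw [Finset.sum_congr rfl fun ω _ => h1 ω]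
  unfold permChar
  rw [← Nat.cast_sum]
  congr 1
  -- count the fixed points orbit by orbit
  have h2 : Nat.card (fixedBy X g) = (Finset.univ.filter fun z : X => g • z = z).card := by
    rw [Nat.card_eq_fintype_card, ← Fintype.card_subtype]
    rfl
  rw [h2, Finset.card_eq_sum_card_fiberwise
    (f := fun z : X => (Quotient.mk'' z : orbitRel.Quotient G X)) (t := Finset.univ)
    (fun z _ => Finset.mem_univ _)]
  refine Finset.sum_congr rfl fun ω _ => ?_
  rw [← Nat.card_eq_finsetCard]
  refine Nat.card_congr ⟨fun z => ⟨⟨z.1, ?_⟩, ?_⟩, fun z => ⟨z.1.1, ?_⟩, ?_, ?_⟩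
  · have h3 : (Quotient.mk'' z.1 : orbitRel.Quotient G X) = Quotient.mk'' (r ω) :=
      ((Finset.mem_filter.mp z.2).2).trans (hr ω).symm
    exact (orbitRel_apply).mp (Quotient.exact h3)
  · rw [mem_fixedBy, Subtype.ext_iff]
    have := (Finset.mem_filter.mp z.2).1
    simp only [Finset.mem_filter, Finset.mem_univ, true_and] at this
    exact this
  · rw [Finset.mem_filter]
    refine ⟨?_, ?_⟩
    · simp only [Finset.mem_filter, Finset.mem_univ, true_and]
      have := z.2
      rw [mem_fixedBy, Subtype.ext_iff] at this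
      exact this
    · refine Eq.trans ?_ (hr ω)
      apply Quotient.sound
      exact (orbitRel_apply).mpr z.1.2
  · intro z; rfl
  · intro z; rfl


/-- `(1_H)^G` is the permutation character of `G ⧸ H`. -/
theorem indFun_one_eq_permChar (H : Subgroup G) :
    Cfsg.indFun H (fun _ => 1) = fun g : G => permChar (G ⧸ H) g := by
  have h := fixedPoints_eq_indFun (G := G) (G ⧸ H) ((1 : G) : G ⧸ H)
  have hs : stabilizer G (((1 : G) : G ⧸ H)) = H := MulAction.stabilizer_quotient H
  unfold permChar
  rw [h]
  exact (congrArg (fun S : Subgroup G => Cfsg.indFun S (fun _ => (1 : ℂ))) hs).symm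

/-- **Mackey product formula** for permutation characters. -/
theorem indFun_one_mul_indFun_one [Fintype (Subgroup G)] (H K : Subgroup G) :
    ∃ a : Subgroup G → ℕ, (∀ U, a U ≠ 0 → U ≤ H) ∧
      Cfsg.indFun H (fun _ => 1) * Cfsg.indFun K (fun _ => 1) =
        ∑ U : Subgroup G, (a U : ℂ) • Cfsg.indFun U (fun _ => 1) := by
  classical
  let X := (G ⧸ H) × (G ⧸ K)
  have : Fintype X := Fintype.ofFinite X
  have : Fintype (orbitRel.Quotient G X) := Fintype.ofFinite _
  have hex : ∀ ω : orbitRel.Quotient G X, ∃ z : X,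
      (Quotient.mk'' z : orbitRel.Quotient G X) = ω ∧ z.1 = ((1 : G) : G ⧸ H) := by
    intro ω
    obtain ⟨z, rfl⟩ := Quotient.exists_rep ω
    obtain ⟨y, hy⟩ := QuotientGroup.mk_surjective z.1
    refine ⟨y⁻¹ • z, ?_, ?_⟩
    · apply Quotient.sound
      exact (orbitRel_apply).mpr (mem_orbit z y⁻¹)
    · show y⁻¹ • z.1 = _
      rw [← hy]
      show ((y⁻¹ * y : G) : G ⧸ H) = _
      rw [inv_mul_cancel]
  choose r hr1 hr2 using hex
  refine ⟨fun U => (Finset.univ.filter fun ω => stabilizer G (r ω) = U).card, ?_, ?_⟩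
  · intro U hU
    obtain ⟨ω, hω⟩ := Finset.card_pos.mp (Nat.pos_of_ne_zero hU)
    rw [Finset.mem_filter] at hω
    rw [← hω.2]
    intro g hg
    rw [mem_stabilizer_iff] at hg
    have h1 : g • (r ω).1 = (r ω).1 := congrArg Prod.fst hg
    rw [hr2 ω] at h1
    have h2 : g ∈ stabilizer G (((1 : G) : G ⧸ H)) := h1
    rwa [MulAction.stabilizer_quotient] at h2
  · rw [indFun_one_eq_permChar, indFun_one_eq_permChar]
    have h1 : ((fun g : G => permChar (G ⧸ H) g) * fun g : G => permChar (G ⧸ K) g) =
        fun g : G => permChar X g := by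
      funext g
      exact (permChar_prod (G ⧸ H) (G ⧸ K) g).symm
    rw [h1, permChar_eq_sum_orbits X r hr1]
    have h2 : ∀ U : Subgroup G,
        (((Finset.univ.filter fun ω => stabilizer G (r ω) = U).card : ℕ) : ℂ) •
          Cfsg.indFun U (fun _ => (1 : ℂ)) =
        ∑ ω ∈ Finset.univ.filter (fun ω => stabilizer G (r ω) = U),
          Cfsg.indFun (stabilizer G (r ω)) (fun _ => (1 : ℂ)) := by
      intro U
      rw [Finset.sum_congr rfl (g := fun _ => Cfsg.indFun U (fun _ => (1 : ℂ)))]
      · rw [Finset.sum_const, Nat.cast_smul_eq_nsmul]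
      · intro ω hω
        rw [(Finset.mem_filter.mp hω).2]
    rw [Finset.sum_congr rfl fun U _ => h2 U]
    exact (Finset.sum_fiberwise Finset.univ (fun ω => stabilizer G (r ω))
      (fun ω => Cfsg.indFun (stabilizer G (r ω)) (fun _ => (1 : ℂ)))).symm

end

end Cfsg.Agent.Lib.H23
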