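import Mathlib
import Cfsg.Agent.Lib.H23.PermIrrA

/-!
# Four-fold transitivity in elementary form; ordered and unordered pairs (helper23)
-/

set_option autoImplicit false

namespace Cfsg.Agent.Lib.H23.PermIrr

open MulAction
open scoped Pointwise

/-- transitivity on tuples of at most four distinct points, in elementary form, together with
four distinct points -/
structure T4 (H Ω : Type*) [Group H] [MulAction H Ω] : Prop where
  t1 : ∀ x y : Ω, ∃ h : H, h • x = y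
  t2 : ∀ x₁ x₂ y₁ y₂ : Ω, x₁ ≠ x₂ → y₁ ≠ y₂ → ∃ h : H, h • x₁ = y₁ ∧ h • x₂ = y₂
  t3 : ∀ x₁ x₂ x₃ y₁ y₂ y₃ : Ω, x₁ ≠ x₂ → x₁ ≠ x₃ → x₂ ≠ x₃ → y₁ ≠ y₂ → y₁ ≠ y₃ → y₂ ≠ y₃ →
    ∃ h : H, h • x₁ = y₁ ∧ h • x₂ = y₂ ∧ h • x₃ = y₃
  t4 : ∀ x₁ x₂ x₃ x₄ y₁ y₂ y₃ y₄ : Ω, x₁ ≠ x₂ → x₁ ≠ x₃ → x₁ ≠ x₄ → x₂ ≠ x₃ → x₂ ≠ x₄ →
    x₃ ≠ x₄ → y₁ ≠ y₂ → y₁ ≠ y₃ → y₁ ≠ y₄ → y₂ ≠ y₃ → y₂ ≠ y₄ → y₃ ≠ y₄ →
    ∃ h : H, h • x₁ = y₁ ∧ h • x₂ = y₂ ∧ h • x₃ = y₃ ∧ h • x₄ = y₄
  pts : ∃ p₀ p₁ p₂ p₃ : Ω, p₀ ≠ p₁ ∧ p₀ ≠ p₂ ∧ p₀ ≠ p₃ ∧ p₁ ≠ p₂ ∧ p₁ ≠ p₃ ∧ p₂ ≠ p₃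
  ker : ∀ w w' : Fin 4 → Ω, (∀ i j, w i = w j ↔ w' i = w' j) → ∃ h : H, ∀ i, h • w i = w' i

section T4

variable {H Ω : Type*} [Group H] [MulAction H Ω]

/-- two tuples with the same kernel are conjugate under a multiply transitive group -/
theorem exists_smul_of_ker [Finite Ω] {m : ℕ}
    (hmt : ∀ k ≤ m, IsMultiplyPretransitive H Ω k) (w w' : Fin m → Ω)
    (hk : ∀ i j, w i = w j ↔ w' i = w' j) : ∃ h : H, ∀ i, h • w i = w' i := by
  classical
  let S : Finset Ω := Finset.univ.image w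
  have hS : S.card ≤ m := by
    refine (Finset.card_image_le).trans ?_
    simp
  have hmem : ∀ s : S, ∃ i, w i = s.1 := by
    intro s
    have := s.2
    simp only [S, Finset.mem_image, Finset.mem_univ, true_and] at this
    exact this
  choose idx hidx using hmem
  let f : S ≃ Fin S.card := S.equivFin
  have e₁inj : Function.Injective (fun i : Fin S.card => (f.symm i).1) :=
    Subtype.val_injective.comp f.symm.injective
  have e₂inj : Function.Injective (fun i : Fin S.card => w' (idx (f.symm i))) := by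
    intro a b hab
    have h1 : w (idx (f.symm a)) = w (idx (f.symm b)) := (hk _ _).mpr hab
    rw [hidx, hidx] at h1
    exact f.symm.injective (Subtype.ext h1)
  haveI := hmt S.card hS
  obtain ⟨g, hg⟩ := MulAction.exists_smul_eq H
    (⟨_, e₁inj⟩ : Fin S.card ↪ Ω) (⟨_, e₂inj⟩ : Fin S.card ↪ Ω)
  refine ⟨g, fun j => ?_⟩
  have hj : w j ∈ S := Finset.mem_image_of_mem w (Finset.mem_univ j)
  have h2 := congrArg (fun e : Fin S.card ↪ Ω => e (f ⟨w j, hj⟩)) hg
  simp only [Function.Embedding.smul_apply, Function.Embedding.coeFn_mk,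
    Equiv.symm_apply_apply] at h2
  rw [h2]
  exact (hk _ _).mp (hidx ⟨w j, hj⟩)

theorem t4_of_isMultiplyPretransitive [Finite Ω] (h4 : IsMultiplyPretransitive H Ω 4)
    (hc : 4 ≤ Nat.card Ω) : T4 H Ω := by
  haveI := h4
  have h3 : IsMultiplyPretransitive H Ω 3 := isMultiplyPretransitive_of_le (n := 4) (by norm_num) hc
  have h2 : IsMultiplyPretransitive H Ω 2 := isMultiplyPretransitive_of_le (n := 4) (by norm_num) hc
  have h1 : IsMultiplyPretransitive H Ω 1 := isMultiplyPretransitive_of_le (n := 4) (by norm_num) hc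
  refine ⟨?_, ?_, ?_, ?_, ?_, ?_⟩
  rotate_left 5
  · refine exists_smul_of_ker (m := 4) (fun k hk => ?_)
    exact isMultiplyPretransitive_of_le (n := 4) hk hc
  · intro x y
    have ex : Function.Injective ![x] := fun i j _ => Subsingleton.elim i j
    have ey : Function.Injective ![y] := fun i j _ => Subsingleton.elim i j
    obtain ⟨g, hg⟩ := h1.exists_smul_eq ⟨![x], ex⟩ ⟨![y], ey⟩
    refine ⟨g, ?_⟩
    have := congrArg (fun e : Fin 1 ↪ Ω => e 0) hg
    simpa [Function.Embedding.smul_apply] using this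
  · intro x₁ x₂ y₁ y₂ hx hy
    have ex : Function.Injective ![x₁, x₂] := by
      intro i j hij
      fin_cases i <;> fin_cases j <;> simp_all
    have ey : Function.Injective ![y₁, y₂] := by
      intro i j hij
      fin_cases i <;> fin_cases j <;> simp_all
    obtain ⟨g, hg⟩ := h2.exists_smul_eq ⟨![x₁, x₂], ex⟩ ⟨![y₁, y₂], ey⟩
    refine ⟨g, ?_, ?_⟩
    · have := congrArg (fun e : Fin 2 ↪ Ω => e 0) hg
      simpa [Function.Embedding.smul_apply] using this
    · have := congrArg (fun e : Fin 2 ↪ Ω => e 1) hg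
      simpa [Function.Embedding.smul_apply] using this
  · intro x₁ x₂ x₃ y₁ y₂ y₃ hx12 hx13 hx23 hy12 hy13 hy23
    have ex : Function.Injective ![x₁, x₂, x₃] := by
      intro i j hij
      fin_cases i <;> fin_cases j <;> simp_all
    have ey : Function.Injective ![y₁, y₂, y₃] := by
      intro i j hij
      fin_cases i <;> fin_cases j <;> simp_all
    obtain ⟨g, hg⟩ := h3.exists_smul_eq ⟨![x₁, x₂, x₃], ex⟩ ⟨![y₁, y₂, y₃], ey⟩
    refine ⟨g, ?_, ?_, ?_⟩
    · have := congrArg (fun e : Fin 3 ↪ Ω => e 0) hg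
      simpa [Function.Embedding.smul_apply] using this
    · have := congrArg (fun e : Fin 3 ↪ Ω => e 1) hg
      simpa [Function.Embedding.smul_apply] using this
    · have := congrArg (fun e : Fin 3 ↪ Ω => e 2) hg
      simpa [Function.Embedding.smul_apply] using this
  · intro x₁ x₂ x₃ x₄ y₁ y₂ y₃ y₄ hx12 hx13 hx14 hx23 hx24 hx34 hy12 hy13 hy14 hy23 hy24 hy34
    have ex : Function.Injective ![x₁, x₂, x₃, x₄] := by
      intro i j hij
      fin_cases i <;> fin_cases j <;> simp_all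
    have ey : Function.Injective ![y₁, y₂, y₃, y₄] := by
      intro i j hij
      fin_cases i <;> fin_cases j <;> simp_all
    obtain ⟨g, hg⟩ := h4.exists_smul_eq ⟨![x₁, x₂, x₃, x₄], ex⟩ ⟨![y₁, y₂, y₃, y₄], ey⟩
    refine ⟨g, ?_, ?_, ?_, ?_⟩
    · have := congrArg (fun e : Fin 4 ↪ Ω => e 0) hg
      simpa [Function.Embedding.smul_apply] using this
    · have := congrArg (fun e : Fin 4 ↪ Ω => e 1) hg
      simpa [Function.Embedding.smul_apply] using this
    · have := congrArg (fun e : Fin 4 ↪ Ω => e 2) hg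
      simpa [Function.Embedding.smul_apply] using this
    · have := congrArg (fun e : Fin 4 ↪ Ω => e 3) hg
      simpa [Function.Embedding.smul_apply] using this
  · haveI := Fintype.ofFinite Ω
    rw [Nat.card_eq_fintype_card] at hc
    obtain ⟨e⟩ : Nonempty (Fin 4 ↪ Ω) :=
      Function.Embedding.nonempty_of_card_le (by simpa using hc)
    refine ⟨e 0, e 1, e 2, e 3, ?_, ?_, ?_, ?_, ?_, ?_⟩ <;>
    · intro h
      have := e.injective h
      revert this
      decide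

end T4

end Cfsg.Agent.Lib.H23.PermIrr
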