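import Mathlib
import Cfsg.Agent.Lib.H23.PermIrrB

/-!
# Ordered and unordered pairs as `H`-sets (helper23)
-/

set_option autoImplicit false

namespace Cfsg.Agent.Lib.H23.PermIrr

open MulAction
open scoped Pointwise

/-- ordered pairs of distinct points -/
@[ext] structure OP (Ω : Type*) where
  /-- first point -/
  fst : Ω
  /-- second point -/
  snd : Ω
  ne : fst ≠ snd

/-- unordered pairs of distinct points -/
@[ext] structure P2 (Ω : Type*) where
  /-- the underlying finset -/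
  val : Finset Ω
  card_eq : val.card = 2

section Types

variable {H Ω : Type*} [Group H] [MulAction H Ω]

/-- `OP Ω` as a subtype -/
def OP.equivSubtype : OP Ω ≃ {p : Ω × Ω // p.1 ≠ p.2} where
  toFun q := ⟨(q.fst, q.snd), q.ne⟩
  invFun p := ⟨p.1.1, p.1.2, p.2⟩
  left_inv _ := rfl
  right_inv _ := rfl

/-- `P2 Ω` as a subtype -/
def P2.equivSubtype : P2 Ω ≃ {s : Finset Ω // s.card = 2} where
  toFun q := ⟨q.val, q.card_eq⟩
  invFun p := ⟨p.1, p.2⟩
  left_inv _ := rfl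
  right_inv _ := rfl

instance [Fintype Ω] [DecidableEq Ω] : Fintype (OP Ω) :=
  Fintype.ofEquiv _ OP.equivSubtype.symm

instance [Fintype Ω] [DecidableEq Ω] : Fintype (P2 Ω) :=
  Fintype.ofEquiv _ P2.equivSubtype.symm

instance [DecidableEq Ω] : DecidableEq (P2 Ω) := fun a b =>
  decidable_of_iff (a.val = b.val) ⟨fun h => P2.ext h, fun h => congrArg P2.val h⟩

/-- constructor -/
def OP.mk' (x y : Ω) (h : x ≠ y) : OP Ω := ⟨x, y, h⟩

@[simp] theorem OP.mk'_fst (x y : Ω) (h : x ≠ y) : (OP.mk' x y h).fst = x := rfl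
@[simp] theorem OP.mk'_snd (x y : Ω) (h : x ≠ y) : (OP.mk' x y h).snd = y := rfl

instance : SMul H (OP Ω) :=
  ⟨fun h p => ⟨h • p.fst, h • p.snd, fun e => p.ne (MulAction.injective h e)⟩⟩

@[simp] theorem OP.smul_fst (h : H) (p : OP Ω) : (h • p).fst = h • p.fst := rfl
@[simp] theorem OP.smul_snd (h : H) (p : OP Ω) : (h • p).snd = h • p.snd := rfl

instance : MulAction H (OP Ω) where
  one_smul p := by
    apply OP.ext
    · rw [OP.smul_fst, one_smul]
    · rw [OP.smul_snd, one_smul]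
  mul_smul a b p := by
    apply OP.ext
    · rw [OP.smul_fst, OP.smul_fst, OP.smul_fst, mul_smul]
    · rw [OP.smul_snd, OP.smul_snd, OP.smul_snd, mul_smul]

theorem OP.smul_mk' (g : H) (x y : Ω) (h : x ≠ y) :
    g • OP.mk' x y h = OP.mk' (g • x) (g • y) (fun e => h (MulAction.injective g e)) := rfl

theorem OP.exists_eq (p : OP Ω) : ∃ (x y : Ω) (h : x ≠ y), p = OP.mk' x y h :=
  ⟨p.fst, p.snd, p.ne, rfl⟩

theorem OP.mk'_eq_iff {x y x' y' : Ω} {h : x ≠ y} {h' : x' ≠ y'} :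
    OP.mk' x y h = OP.mk' x' y' h' ↔ x = x' ∧ y = y' := by
  constructor
  · intro e
    exact ⟨congrArg OP.fst e, congrArg OP.snd e⟩
  · rintro ⟨rfl, rfl⟩
    rfl

variable [DecidableEq Ω]

/-- constructor -/
def P2.mk' (u v : Ω) (h : u ≠ v) : P2 Ω := ⟨{u, v}, Finset.card_pair h⟩

@[simp] theorem P2.mk'_val (u v : Ω) (h : u ≠ v) : (P2.mk' u v h).val = {u, v} := rfl

instance : SMul H (P2 Ω) :=
  ⟨fun h s => ⟨h • s.val, by rw [Finset.card_smul_finset]; exact s.card_eq⟩⟩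

@[simp] theorem P2.smul_val (h : H) (s : P2 Ω) : (h • s).val = h • s.val := rfl

instance : MulAction H (P2 Ω) where
  one_smul s := by
    apply P2.ext
    rw [P2.smul_val, one_smul]
  mul_smul a b s := by
    apply P2.ext
    rw [P2.smul_val, P2.smul_val, P2.smul_val, mul_smul]

theorem P2.smul_mk' (g : H) (u v : Ω) (h : u ≠ v) :
    g • P2.mk' u v h = P2.mk' (g • u) (g • v) (fun e => h (MulAction.injective g e)) := by
  apply P2.ext
  rw [P2.smul_val, P2.mk'_val, P2.mk'_val]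
  simp only [Finset.smul_finset_insert, Finset.smul_finset_singleton]

theorem P2.mem_mk' {z u v : Ω} {h : u ≠ v} : z ∈ (P2.mk' u v h).val ↔ z = u ∨ z = v := by
  rw [P2.mk'_val]
  simp only [Finset.mem_insert, Finset.mem_singleton]

theorem P2.exists_eq (s : P2 Ω) : ∃ (u v : Ω) (h : u ≠ v), s = P2.mk' u v h := by
  obtain ⟨u, v, huv, hs⟩ := Finset.card_eq_two.mp s.card_eq
  exact ⟨u, v, huv, P2.ext hs⟩

theorem P2.mk'_comm (u v : Ω) (h : u ≠ v) : P2.mk' u v h = P2.mk' v u h.symm := by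
  apply P2.ext
  rw [P2.mk'_val, P2.mk'_val]
  exact Finset.pair_comm u v

theorem P2.exists_eq_of_mem (s : P2 Ω) {x : Ω} (hx : x ∈ s.val) :
    ∃ (u : Ω) (h : x ≠ u), s = P2.mk' x u h := by
  obtain ⟨u, v, huv, rfl⟩ := P2.exists_eq s
  rcases P2.mem_mk'.mp hx with rfl | rfl
  · exact ⟨v, huv, rfl⟩
  · exact ⟨u, huv.symm, P2.mk'_comm u x huv⟩

theorem P2.smul_mem_smul_iff (g : H) (z : Ω) (s : P2 Ω) :
    g • z ∈ (g • s).val ↔ z ∈ s.val := by
  rw [P2.smul_val, Finset.smul_mem_smul_finset_iff]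

theorem P2.mk'_eq_of {u v u' v' : Ω} {h : u ≠ v} (hu : u = u') (hv : v = v') :
    P2.mk' u v h = P2.mk' u' v' (by rw [← hu, ← hv]; exact h) := by
  subst hu; subst hv; rfl

theorem P2.mk'_eq_mk'_iff {u v u' v' : Ω} {h : u ≠ v} {h' : u' ≠ v'} :
    P2.mk' u v h = P2.mk' u' v' h' ↔ (u = u' ∧ v = v') ∨ (u = v' ∧ v = u') := by
  constructor
  · intro e
    have e1 : ({u, v} : Finset Ω) = {u', v'} := congrArg P2.val e
    have hu : u ∈ ({u', v'} : Finset Ω) := by rw [← e1]; simp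
    have hv : v ∈ ({u', v'} : Finset Ω) := by rw [← e1]; simp
    simp only [Finset.mem_insert, Finset.mem_singleton] at hu hv
    grind
  · rintro (⟨rfl, rfl⟩ | ⟨rfl, rfl⟩)
    · rfl
    · exact P2.mk'_comm _ _ _

theorem P2.inter_nonempty_iff {u v u' v' : Ω} {h : u ≠ v} {h' : u' ≠ v'} :
    ((P2.mk' u v h).val ∩ (P2.mk' u' v' h').val).Nonempty ↔
      u = u' ∨ u = v' ∨ v = u' ∨ v = v' := by
  rw [P2.mk'_val, P2.mk'_val]
  unfold Finset.Nonempty
  simp only [Finset.mem_inter, Finset.mem_insert, Finset.mem_singleton]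
  constructor
  · rintro ⟨z, hz1, hz2⟩
    grind
  · rintro (rfl | rfl | rfl | rfl)
    · exact ⟨u, Or.inl rfl, Or.inl rfl⟩
    · exact ⟨u, Or.inl rfl, Or.inr rfl⟩
    · exact ⟨v, Or.inr rfl, Or.inl rfl⟩
    · exact ⟨v, Or.inr rfl, Or.inr rfl⟩

end Types

/-- kernel criterion for 4-tuples -/
theorem ker4 {Ω : Type*} (x y u v x' y' u' v' : Ω)
    (h01 : x = y ↔ x' = y') (h02 : x = u ↔ x' = u') (h03 : x = v ↔ x' = v')
    (h12 : y = u ↔ y' = u') (h13 : y = v ↔ y' = v') (h23 : u = v ↔ u' = v') :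
    ∀ i j, ![x, y, u, v] i = ![x, y, u, v] j ↔ ![x', y', u', v'] i = ![x', y', u', v'] j := by
  intro i j
  fin_cases i <;> fin_cases j <;> simp <;> grind

end Cfsg.Agent.Lib.H23.PermIrr
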