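import Mathlib
import Cfsg.Agent.Lib.H23.PermIrrC

/-!
# Orbit counts for 4-transitive groups (helper23)

For a group `H` acting on `Ω` with `T4 H Ω`: the numbers of orbits on
`Ω`, `OP Ω`, `P2 Ω` (one each), `Ω × Ω` (2), `OP Ω × Ω` (3), `OP Ω × OP Ω` (7),
`P2 Ω × Ω` (2), `P2 Ω × P2 Ω` (3), `OP Ω × P2 Ω` (4).
-/

set_option autoImplicit false

namespace Cfsg.Agent.Lib.H23.PermIrr

open MulAction
open scoped Pointwise

variable {H Ω : Type*} [Group H] [MulAction H Ω]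

theorem orb_pt (hT : T4 H Ω) : Nat.card (orbitRel.Quotient H Ω) = 1 := by
  obtain ⟨p₀, p₁, p₂, p₃, h01, h02, h03, h12, h13, h23⟩ := hT.pts
  rw [card_orbits_eq (T := Unit) (fun _ : Ω => ()) ?_ ?_ ?_]
  · rfl
  · intro h z; rfl
  · intro x x' _
    exact hT.t1 x x'
  · intro b; exact ⟨p₀, rfl⟩

theorem orb_OP (hT : T4 H Ω) : Nat.card (orbitRel.Quotient H (OP Ω)) = 1 := by
  obtain ⟨p₀, p₁, p₂, p₃, h01, h02, h03, h12, h13, h23⟩ := hT.pts
  rw [card_orbits_eq (T := Unit) (fun _ : OP Ω => ()) ?_ ?_ ?_]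
  · rfl
  · intro h z; rfl
  · intro p p' _
    obtain ⟨x, y, hxy, rfl⟩ := OP.exists_eq p
    obtain ⟨x', y', hxy', rfl⟩ := OP.exists_eq p'
    obtain ⟨g, h1, h2⟩ := hT.t2 x y x' y' hxy hxy'
    exact ⟨g, by rw [OP.smul_mk']; exact OP.mk'_eq_iff.mpr ⟨h1, h2⟩⟩
  · intro b; exact ⟨OP.mk' p₀ p₁ h01, rfl⟩

theorem orb_pt_pt (hT : T4 H Ω) [DecidableEq Ω] :
    Nat.card (orbitRel.Quotient H (Ω × Ω)) = 2 := by
  obtain ⟨p₀, p₁, p₂, p₃, h01, h02, h03, h12, h13, h23⟩ := hT.pts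
  rw [card_orbits_eq (T := Bool) (fun z : Ω × Ω => decide (z.1 = z.2)) ?_ ?_ ?_]
  · rfl
  · intro h z
    simp only [Prod.smul_fst, Prod.smul_snd, decide_eq_decide]
    exact smul_left_cancel_iff h
  · rintro ⟨x, y⟩ ⟨x', y'⟩ hpat
    simp only [decide_eq_decide] at hpat
    obtain ⟨g, hg⟩ := hT.ker ![x, y, y, y] ![x', y', y', y'] (by apply ker4 <;> grind)
    exact ⟨g, Prod.ext (hg 0) (hg 1)⟩
  · intro b
    cases b
    · exact ⟨(p₀, p₁), by simp [h01]⟩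
    · exact ⟨(p₀, p₀), by simp⟩

theorem orb_OP_pt (hT : T4 H Ω) [DecidableEq Ω] :
    Nat.card (orbitRel.Quotient H (OP Ω × Ω)) = 3 := by
  obtain ⟨p₀, p₁, p₂, p₃, h01, h02, h03, h12, h13, h23⟩ := hT.pts
  rw [card_orbits_eq (T := Fin 3)
    (fun z : OP Ω × Ω => if z.2 = z.1.fst then 0 else if z.2 = z.1.snd then 1 else 2) ?_ ?_ ?_]
  · rfl
  · intro h z
    simp only [Prod.smul_fst, Prod.smul_snd, OP.smul_fst, OP.smul_snd, smul_left_cancel_iff]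
  · rintro ⟨p, z⟩ ⟨p', z'⟩ hpat
    obtain ⟨x, y, hxy, rfl⟩ := OP.exists_eq p
    obtain ⟨x', y', hxy', rfl⟩ := OP.exists_eq p'
    simp only [OP.mk'_fst, OP.mk'_snd] at hpat
    obtain ⟨g, hg⟩ := hT.ker ![x, y, z, z] ![x', y', z', z'] (by
      apply ker4 <;> grind)
    refine ⟨g, Prod.ext ?_ (hg 2)⟩
    rw [Prod.smul_fst, OP.smul_mk']
    exact OP.mk'_eq_iff.mpr ⟨hg 0, hg 1⟩
  · intro b
    fin_cases b
    · exact ⟨(OP.mk' p₀ p₁ h01, p₀), by simp⟩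
    · exact ⟨(OP.mk' p₀ p₁ h01, p₁), by simp [h01.symm]⟩
    · exact ⟨(OP.mk' p₀ p₁ h01, p₂), by simp [h02.symm, h12.symm]⟩

theorem orb_OP_OP (hT : T4 H Ω) [DecidableEq Ω] :
    Nat.card (orbitRel.Quotient H (OP Ω × OP Ω)) = 7 := by
  obtain ⟨p₀, p₁, p₂, p₃, h01, h02, h03, h12, h13, h23⟩ := hT.pts
  rw [card_orbits_eq (T := Fin 7)
    (fun z : OP Ω × OP Ω =>
      if z.2.fst = z.1.fst then (if z.2.snd = z.1.snd then 0 else 2)
      else if z.2.fst = z.1.snd then (if z.2.snd = z.1.fst then 1 else 4)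
      else (if z.2.snd = z.1.snd then 3 else if z.2.snd = z.1.fst then 5 else 6)) ?_ ?_ ?_]
  · rfl
  · intro h z
    simp only [Prod.smul_fst, Prod.smul_snd, OP.smul_fst, OP.smul_snd, smul_left_cancel_iff]
  · rintro ⟨p, q⟩ ⟨p', q'⟩ hpat
    obtain ⟨x, y, hxy, rfl⟩ := OP.exists_eq p
    obtain ⟨x', y', hxy', rfl⟩ := OP.exists_eq p'
    obtain ⟨u, v, huv, rfl⟩ := OP.exists_eq q
    obtain ⟨u', v', huv', rfl⟩ := OP.exists_eq q'
    simp only [OP.mk'_fst, OP.mk'_snd] at hpat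
    obtain ⟨g, hg⟩ := hT.ker ![x, y, u, v] ![x', y', u', v'] (by
      apply ker4 <;> grind)
    refine ⟨g, Prod.ext ?_ ?_⟩
    · rw [Prod.smul_fst, OP.smul_mk']
      exact OP.mk'_eq_iff.mpr ⟨hg 0, hg 1⟩
    · rw [Prod.smul_snd, OP.smul_mk']
      exact OP.mk'_eq_iff.mpr ⟨hg 2, hg 3⟩
  · intro b
    fin_cases b
    · exact ⟨(OP.mk' p₀ p₁ h01, OP.mk' p₀ p₁ h01), by simp⟩
    · exact ⟨(OP.mk' p₀ p₁ h01, OP.mk' p₁ p₀ h01.symm), by simp [h01.symm]⟩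
    · exact ⟨(OP.mk' p₀ p₁ h01, OP.mk' p₀ p₂ h02), by simp [h12.symm]⟩
    · exact ⟨(OP.mk' p₀ p₁ h01, OP.mk' p₂ p₁ h12.symm), by simp [h02.symm, h12.symm]⟩
    · exact ⟨(OP.mk' p₀ p₁ h01, OP.mk' p₁ p₂ h12), by simp [h01.symm, h02.symm]⟩
    · exact ⟨(OP.mk' p₀ p₁ h01, OP.mk' p₂ p₀ h02.symm), by simp [h02.symm, h12.symm, h01]⟩
    · exact ⟨(OP.mk' p₀ p₁ h01, OP.mk' p₂ p₃ h23), by
        simp [h02.symm, h12.symm, h03.symm, h13.symm]⟩

theorem orb_P2 (hT : T4 H Ω) [DecidableEq Ω] : Nat.card (orbitRel.Quotient H (P2 Ω)) = 1 := by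
  obtain ⟨p₀, p₁, p₂, p₃, h01, h02, h03, h12, h13, h23⟩ := hT.pts
  rw [card_orbits_eq (T := Unit) (fun _ : P2 Ω => ()) ?_ ?_ ?_]
  · rfl
  · intro h z; rfl
  · intro s s' _
    obtain ⟨u, v, huv, rfl⟩ := P2.exists_eq s
    obtain ⟨u', v', huv', rfl⟩ := P2.exists_eq s'
    obtain ⟨g, h1, h2⟩ := hT.t2 u v u' v' huv huv'
    exact ⟨g, by rw [P2.smul_mk']; exact P2.mk'_eq_of h1 h2⟩
  · intro b; exact ⟨P2.mk' p₀ p₁ h01, rfl⟩

theorem orb_P2_pt (hT : T4 H Ω) [DecidableEq Ω] :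
    Nat.card (orbitRel.Quotient H (P2 Ω × Ω)) = 2 := by
  obtain ⟨p₀, p₁, p₂, p₃, h01, h02, h03, h12, h13, h23⟩ := hT.pts
  rw [card_orbits_eq (T := Bool) (fun z : P2 Ω × Ω => decide (z.2 ∈ z.1.val)) ?_ ?_ ?_]
  · rfl
  · intro h z
    simp only [Prod.smul_fst, Prod.smul_snd, decide_eq_decide]
    exact P2.smul_mem_smul_iff h z.2 z.1
  · rintro ⟨s, z⟩ ⟨s', z'⟩ hpat
    simp only [decide_eq_decide] at hpat
    by_cases hz : z ∈ s.val
    · have hz' := hpat.mp hz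
      obtain ⟨u, hzu, rfl⟩ := P2.exists_eq_of_mem s hz
      obtain ⟨u', hzu', rfl⟩ := P2.exists_eq_of_mem s' hz'
      obtain ⟨g, hg⟩ := hT.ker ![z, u, z, z] ![z', u', z', z'] (by apply ker4 <;> grind)
      refine ⟨g, Prod.ext ?_ (hg 0)⟩
      rw [Prod.smul_fst, P2.smul_mk']
      exact P2.mk'_eq_of (hg 0) (hg 1)
    · have hz' : z' ∉ s'.val := fun h => hz (hpat.mpr h)
      obtain ⟨u, v, huv, rfl⟩ := P2.exists_eq s
      obtain ⟨u', v', huv', rfl⟩ := P2.exists_eq s'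
      rw [P2.mem_mk'] at hz hz'
      obtain ⟨g, hg⟩ := hT.ker ![u, v, z, z] ![u', v', z', z'] (by apply ker4 <;> grind)
      refine ⟨g, Prod.ext ?_ (hg 2)⟩
      rw [Prod.smul_fst, P2.smul_mk']
      exact P2.mk'_eq_of (hg 0) (hg 1)
  · intro b
    cases b
    · refine ⟨(P2.mk' p₀ p₁ h01, p₂), ?_⟩
      simp only [decide_eq_false_iff_not, P2.mem_mk']
      grind
    · refine ⟨(P2.mk' p₀ p₁ h01, p₀), ?_⟩
      simp only [decide_eq_true_eq, P2.mem_mk']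
      grind

theorem orb_OP_P2 (hT : T4 H Ω) [DecidableEq Ω] :
    Nat.card (orbitRel.Quotient H (OP Ω × P2 Ω)) = 4 := by
  obtain ⟨p₀, p₁, p₂, p₃, h01, h02, h03, h12, h13, h23⟩ := hT.pts
  rw [card_orbits_eq (T := Bool × Bool)
    (fun z : OP Ω × P2 Ω => (decide (z.1.fst ∈ z.2.val), decide (z.1.snd ∈ z.2.val))) ?_ ?_ ?_]
  · rfl
  · intro h z
    simp only [Prod.smul_fst, Prod.smul_snd, OP.smul_fst, OP.smul_snd, Prod.mk.injEq,
      decide_eq_decide]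
    exact ⟨P2.smul_mem_smul_iff h _ z.2, P2.smul_mem_smul_iff h _ z.2⟩
  · rintro ⟨p, s⟩ ⟨p', s'⟩ hpat
    obtain ⟨x, y, hxy, rfl⟩ := OP.exists_eq p
    obtain ⟨x', y', hxy', rfl⟩ := OP.exists_eq p'
    have hp1 : x ∈ s.val ↔ x' ∈ s'.val := decide_eq_decide.mp (congrArg Prod.fst hpat)
    have hp2 : y ∈ s.val ↔ y' ∈ s'.val := decide_eq_decide.mp (congrArg Prod.snd hpat)
    by_cases hx : x ∈ s.val
    · have hx' := hp1.mp hx
      obtain ⟨u, hxu, rfl⟩ := P2.exists_eq_of_mem s hx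
      obtain ⟨u', hxu', rfl⟩ := P2.exists_eq_of_mem s' hx'
      rw [P2.mem_mk', P2.mem_mk'] at hp2
      obtain ⟨g, hg⟩ := hT.ker ![x, y, u, u] ![x', y', u', u'] (by apply ker4 <;> grind)
      refine ⟨g, Prod.ext ?_ ?_⟩
      · rw [Prod.smul_fst, OP.smul_mk']
        exact OP.mk'_eq_iff.mpr ⟨hg 0, hg 1⟩
      · rw [Prod.smul_snd, P2.smul_mk']
        exact P2.mk'_eq_of (hg 0) (hg 2)
    · have hx' : x' ∉ s'.val := fun h => hx (hp1.mpr h)
      by_cases hy : y ∈ s.val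
      · have hy' := hp2.mp hy
        obtain ⟨u, hyu, rfl⟩ := P2.exists_eq_of_mem s hy
        obtain ⟨u', hyu', rfl⟩ := P2.exists_eq_of_mem s' hy'
        rw [P2.mem_mk'] at hx hx'
        obtain ⟨g, hg⟩ := hT.ker ![x, y, u, u] ![x', y', u', u'] (by apply ker4 <;> grind)
        refine ⟨g, Prod.ext ?_ ?_⟩
        · rw [Prod.smul_fst, OP.smul_mk']
          exact OP.mk'_eq_iff.mpr ⟨hg 0, hg 1⟩
        · rw [Prod.smul_snd, P2.smul_mk']
          exact P2.mk'_eq_of (hg 1) (hg 2)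
      · have hy' : y' ∉ s'.val := fun h => hy (hp2.mpr h)
        obtain ⟨u, v, huv, rfl⟩ := P2.exists_eq s
        obtain ⟨u', v', huv', rfl⟩ := P2.exists_eq s'
        rw [P2.mem_mk'] at hx hx' hy hy'
        obtain ⟨g, hg⟩ := hT.ker ![x, y, u, v] ![x', y', u', v'] (by apply ker4 <;> grind)
        refine ⟨g, Prod.ext ?_ ?_⟩
        · rw [Prod.smul_fst, OP.smul_mk']
          exact OP.mk'_eq_iff.mpr ⟨hg 0, hg 1⟩
        · rw [Prod.smul_snd, P2.smul_mk']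
          exact P2.mk'_eq_of (hg 2) (hg 3)
  · rintro ⟨a, b⟩
    cases a <;> cases b
    · refine ⟨(OP.mk' p₀ p₁ h01, P2.mk' p₂ p₃ h23), ?_⟩
      simp only [OP.mk'_fst, OP.mk'_snd, Prod.mk.injEq, decide_eq_false_iff_not, P2.mem_mk']
      grind
    · refine ⟨(OP.mk' p₀ p₁ h01, P2.mk' p₁ p₂ h12), ?_⟩
      simp only [OP.mk'_fst, OP.mk'_snd, Prod.mk.injEq, decide_eq_false_iff_not,
        decide_eq_true_eq, P2.mem_mk']
      grind
    · refine ⟨(OP.mk' p₀ p₁ h01, P2.mk' p₀ p₂ h02), ?_⟩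
      simp only [OP.mk'_fst, OP.mk'_snd, Prod.mk.injEq, decide_eq_false_iff_not,
        decide_eq_true_eq, P2.mem_mk']
      grind
    · refine ⟨(OP.mk' p₀ p₁ h01, P2.mk' p₀ p₁ h01), ?_⟩
      simp only [OP.mk'_fst, OP.mk'_snd, Prod.mk.injEq, decide_eq_true_eq, P2.mem_mk']
      grind

theorem orb_P2_P2 (hT : T4 H Ω) [DecidableEq Ω] :
    Nat.card (orbitRel.Quotient H (P2 Ω × P2 Ω)) = 3 := by
  obtain ⟨p₀, p₁, p₂, p₃, h01, h02, h03, h12, h13, h23⟩ := hT.pts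
  rw [card_orbits_eq (T := Fin 3)
    (fun z : P2 Ω × P2 Ω =>
      if z.1 = z.2 then 0 else if (z.1.val ∩ z.2.val).Nonempty then 1 else 2) ?_ ?_ ?_]
  · rfl
  · intro h z
    simp only [Prod.smul_fst, Prod.smul_snd, smul_left_cancel_iff, P2.smul_val,
      ← Finset.smul_finset_inter, Finset.smul_finset_nonempty]
  · rintro ⟨s, t⟩ ⟨s', t'⟩ hpat
    dsimp only at hpat
    by_cases hst : s = t
    · have hst' : s' = t' := by
        by_contra hne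
        rw [if_pos hst, if_neg hne] at hpat
        split_ifs at hpat <;> exact absurd hpat (by decide)
      subst hst
      subst hst'
      obtain ⟨u, v, huv, rfl⟩ := P2.exists_eq s
      obtain ⟨u', v', huv', rfl⟩ := P2.exists_eq s'
      obtain ⟨g, h1, h2⟩ := hT.t2 u v u' v' huv huv'
      refine ⟨g, Prod.ext ?_ ?_⟩
      · rw [Prod.smul_fst, P2.smul_mk']
        exact P2.mk'_eq_of h1 h2
      · rw [Prod.smul_snd, P2.smul_mk']
        exact P2.mk'_eq_of h1 h2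
    · have hst' : s' ≠ t' := by
        intro h
        rw [if_neg hst, if_pos h] at hpat
        split_ifs at hpat <;> exact absurd hpat (by decide)
      rw [if_neg hst, if_neg hst'] at hpat
      by_cases hne : (s.val ∩ t.val).Nonempty
      · have hne' : (s'.val ∩ t'.val).Nonempty := by
          by_contra h
          rw [if_pos hne, if_neg h] at hpat
          exact absurd hpat (by decide)
        obtain ⟨w, hw⟩ := hne
        obtain ⟨w', hw'⟩ := hne'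
        rw [Finset.mem_inter] at hw hw'
        obtain ⟨u, hwu, rfl⟩ := P2.exists_eq_of_mem s hw.1
        obtain ⟨v, hwv, rfl⟩ := P2.exists_eq_of_mem t hw.2
        obtain ⟨u', hwu', rfl⟩ := P2.exists_eq_of_mem s' hw'.1
        obtain ⟨v', hwv', rfl⟩ := P2.exists_eq_of_mem t' hw'.2
        have huv : u ≠ v := by
          rintro rfl
          exact hst rfl
        have huv' : u' ≠ v' := by
          rintro rfl
          exact hst' rfl
        obtain ⟨g, hg⟩ := hT.ker ![w, u, v, v] ![w', u', v', v'] (by apply ker4 <;> grind)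
        refine ⟨g, Prod.ext ?_ ?_⟩
        · rw [Prod.smul_fst, P2.smul_mk']
          exact P2.mk'_eq_of (hg 0) (hg 1)
        · rw [Prod.smul_snd, P2.smul_mk']
          exact P2.mk'_eq_of (hg 0) (hg 2)
      · have hne' : ¬ (s'.val ∩ t'.val).Nonempty := by
          intro h
          rw [if_neg hne, if_pos h] at hpat
          exact absurd hpat (by decide)
        obtain ⟨a, b, hab, rfl⟩ := P2.exists_eq s
        obtain ⟨a', b', hab', rfl⟩ := P2.exists_eq s'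
        obtain ⟨c, d, hcd, rfl⟩ := P2.exists_eq t
        obtain ⟨c', d', hcd', rfl⟩ := P2.exists_eq t'
        rw [P2.inter_nonempty_iff] at hne hne'
        obtain ⟨g, hg⟩ := hT.ker ![a, b, c, d] ![a', b', c', d'] (by apply ker4 <;> grind)
        refine ⟨g, Prod.ext ?_ ?_⟩
        · rw [Prod.smul_fst, P2.smul_mk']
          exact P2.mk'_eq_of (hg 0) (hg 1)
        · rw [Prod.smul_snd, P2.smul_mk']
          exact P2.mk'_eq_of (hg 2) (hg 3)
  · intro b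
    fin_cases b
    · refine ⟨(P2.mk' p₀ p₁ h01, P2.mk' p₀ p₁ h01), ?_⟩
      simp
    · refine ⟨(P2.mk' p₀ p₁ h01, P2.mk' p₀ p₂ h02), ?_⟩
      simp only [P2.mk'_eq_mk'_iff, P2.inter_nonempty_iff]
      grind
    · refine ⟨(P2.mk' p₀ p₁ h01, P2.mk' p₂ p₃ h23), ?_⟩
      simp only [P2.mk'_eq_mk'_iff, P2.inter_nonempty_iff]
      grind

end Cfsg.Agent.Lib.H23.PermIrr
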