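import Mathlib
import Cfsg.Agent.Lib.H23.PermIrrD

/-!
# Three irreducible characters of a 4-transitive group (helper23)

For a finite group `H` acting on a finite set `Ω` with `T4 H Ω` (e.g. `S_n`, `A_n` for `n ≥ 6`):
* `chA = π - 1` (degree `n - 1`),
* `chB = π₂ - π` (degree `n (n - 3) / 2`),
* `chC = π_O - π₂ - π + 1` (degree `(n - 1) (n - 2) / 2`)
are irreducible characters, where `π`, `π₂`, `π_O` are the permutation characters on points,
unordered pairs and ordered pairs.
-/

set_option autoImplicit false

namespace Cfsg.Agent.Lib.H23.PermIrr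

open MulAction Cfsg.Agent.Lib.L0 Cfsg.Agent.Lib.H8 Cfsg.Agent.Lib.H23
open scoped Pointwise ComplexConjugate

variable (H Ω : Type*) [Group H] [MulAction H Ω]

/-- permutation character on points -/
noncomputable def piP : H → ℂ := fun g => permChar Ω g
/-- permutation character on ordered pairs -/
noncomputable def piO : H → ℂ := fun g => permChar (OP Ω) g
/-- permutation character on unordered pairs -/
noncomputable def piT [DecidableEq Ω] : H → ℂ := fun g => permChar (P2 Ω) g

/-- `χ^(n-1,1)` -/
noncomputable def chA : H → ℂ := piP H Ω - 1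
/-- `χ^(n-2,2)` -/
noncomputable def chB [DecidableEq Ω] : H → ℂ := piT H Ω - piP H Ω
/-- `χ^(n-2,1,1)` -/
noncomputable def chC [DecidableEq Ω] : H → ℂ := piO H Ω - piT H Ω - piP H Ω + 1

variable {H Ω}
variable [Fintype H] [Fintype Ω] [DecidableEq Ω]

theorem isCharacter_piP : Cfsg.IsCharacter H (piP H Ω) := isCharacter_permChar Ω
theorem isCharacter_piO : Cfsg.IsCharacter H (piO H Ω) := isCharacter_permChar (OP Ω)
theorem isCharacter_piT : Cfsg.IsCharacter H (piT H Ω) := isCharacter_permChar (P2 Ω)

theorem isCharacter_one' : Cfsg.IsCharacter H (1 : H → ℂ) := isCharacter_of_irr isIrrCharacter_one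

section inner

variable (hT : T4 H Ω)
include hT

theorem in_11 : Cfsg.classInner (1 : H → ℂ) (1 : H → ℂ) = 1 := by
  have := irr_classInner_self (G := H) isIrrCharacter_one
  exact this

theorem in_P1 : Cfsg.classInner (piP H Ω) 1 = 1 := by
  unfold piP
  rw [classInner_permChar_one, orb_pt hT]; norm_num
theorem in_1P : Cfsg.classInner 1 (piP H Ω) = 1 := by
  unfold piP
  rw [classInner_one_permChar, orb_pt hT]; norm_num
theorem in_O1 : Cfsg.classInner (piO H Ω) 1 = 1 := by
  unfold piO
  rw [classInner_permChar_one, orb_OP hT]; norm_num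
theorem in_1O : Cfsg.classInner 1 (piO H Ω) = 1 := by
  unfold piO
  rw [classInner_one_permChar, orb_OP hT]; norm_num
theorem in_T1 : Cfsg.classInner (piT H Ω) 1 = 1 := by
  unfold piT
  rw [classInner_permChar_one, orb_P2 hT]; norm_num
theorem in_1T : Cfsg.classInner 1 (piT H Ω) = 1 := by
  unfold piT
  rw [classInner_one_permChar, orb_P2 hT]; norm_num
theorem in_PP : Cfsg.classInner (piP H Ω) (piP H Ω) = 2 := by
  unfold piP
  rw [classInner_permChar_permChar, orb_pt_pt hT]; norm_num
theorem in_OP : Cfsg.classInner (piO H Ω) (piP H Ω) = 3 := by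
  unfold piO piP
  rw [classInner_permChar_permChar, orb_OP_pt hT]; norm_num
theorem in_PO : Cfsg.classInner (piP H Ω) (piO H Ω) = 3 := by
  rw [← classInner_conj_symm, in_OP hT]; exact map_ofNat _ 3
theorem in_OO : Cfsg.classInner (piO H Ω) (piO H Ω) = 7 := by
  unfold piO
  rw [classInner_permChar_permChar, orb_OP_OP hT]; norm_num
theorem in_TP : Cfsg.classInner (piT H Ω) (piP H Ω) = 2 := by
  unfold piT piP
  rw [classInner_permChar_permChar, orb_P2_pt hT]; norm_num
theorem in_PT : Cfsg.classInner (piP H Ω) (piT H Ω) = 2 := by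
  rw [← classInner_conj_symm, in_TP hT]; exact map_ofNat _ 2
theorem in_TT : Cfsg.classInner (piT H Ω) (piT H Ω) = 3 := by
  unfold piT
  rw [classInner_permChar_permChar, orb_P2_P2 hT]; norm_num
theorem in_OT : Cfsg.classInner (piO H Ω) (piT H Ω) = 4 := by
  unfold piO piT
  rw [classInner_permChar_permChar, orb_OP_P2 hT]; norm_num
theorem in_TO : Cfsg.classInner (piT H Ω) (piO H Ω) = 4 := by
  rw [← classInner_conj_symm, in_OT hT]; exact map_ofNat _ 4

/-- `π - 1` is irreducible -/
theorem chA_irr : Cfsg.IsIrrCharacter H (chA H Ω) := by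
  have hgen : Cfsg.IsGeneralizedCharacter H (chA H Ω) :=
    isGeneralizedCharacter_sub (isGeneralizedCharacter_of_isCharacter isCharacter_piP)
      (isGeneralizedCharacter_of_isCharacter isCharacter_one')
  have hnorm : Cfsg.classInner (chA H Ω) (chA H Ω) = 1 := by
    unfold chA
    simp only [classInner_sub_left, classInner_sub_right, in_PP hT, in_P1 hT, in_1P hT, in_11 hT]
    norm_num
  rcases genChar_norm_one hgen hnorm with h | h
  · exact h
  · exfalso
    obtain ⟨n, hn⟩ := classInner_char_char_nat (isCharacter_of_irr h) (isCharacter_piP (H := H) (Ω := Ω))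
    unfold chA at hn
    simp only [classInner_neg_left, classInner_sub_left, in_PP hT, in_1P hT] at hn
    have h2 : ((-1 : ℤ) : ℂ) = ((n : ℤ) : ℂ) := by push_cast; rw [← hn]; norm_num
    have h3 : (-1 : ℤ) = (n : ℤ) := by exact_mod_cast h2
    omega

/-- `π₂ - π` is irreducible -/
theorem chB_irr : Cfsg.IsIrrCharacter H (chB H Ω) := by
  have hgen : Cfsg.IsGeneralizedCharacter H (chB H Ω) :=
    isGeneralizedCharacter_sub (isGeneralizedCharacter_of_isCharacter isCharacter_piT)
      (isGeneralizedCharacter_of_isCharacter isCharacter_piP)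
  have hnorm : Cfsg.classInner (chB H Ω) (chB H Ω) = 1 := by
    unfold chB
    simp only [classInner_sub_left, classInner_sub_right, in_TT hT, in_TP hT, in_PT hT, in_PP hT]
    norm_num
  rcases genChar_norm_one hgen hnorm with h | h
  · exact h
  · exfalso
    obtain ⟨n, hn⟩ := classInner_char_char_nat (isCharacter_of_irr h) (isCharacter_piT (H := H) (Ω := Ω))
    unfold chB at hn
    simp only [classInner_neg_left, classInner_sub_left, in_TT hT, in_PT hT] at hn
    have h2 : ((-1 : ℤ) : ℂ) = ((n : ℤ) : ℂ) := by push_cast; rw [← hn]; norm_num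
    have h3 : (-1 : ℤ) = (n : ℤ) := by exact_mod_cast h2
    omega

/-- `π_O - π₂ - π + 1` is irreducible -/
theorem chC_irr : Cfsg.IsIrrCharacter H (chC H Ω) := by
  have hgen : Cfsg.IsGeneralizedCharacter H (chC H Ω) :=
    isGeneralizedCharacter_add
      (isGeneralizedCharacter_sub
        (isGeneralizedCharacter_sub (isGeneralizedCharacter_of_isCharacter isCharacter_piO)
          (isGeneralizedCharacter_of_isCharacter isCharacter_piT))
        (isGeneralizedCharacter_of_isCharacter isCharacter_piP))
      (isGeneralizedCharacter_of_isCharacter isCharacter_one')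
  have hnorm : Cfsg.classInner (chC H Ω) (chC H Ω) = 1 := by
    unfold chC
    simp only [classInner_sub_left, classInner_sub_right, classInner_add_left,
      classInner_add_right, in_TT hT, in_TP hT, in_PT hT, in_PP hT, in_OO hT, in_OT hT, in_TO hT,
      in_OP hT, in_PO hT, in_O1 hT, in_1O hT, in_T1 hT, in_1T hT, in_P1 hT, in_1P hT, in_11 hT]
    norm_num
  rcases genChar_norm_one hgen hnorm with h | h
  · exact h
  · exfalso
    obtain ⟨n, hn⟩ := classInner_char_char_nat (isCharacter_of_irr h) (isCharacter_piO (H := H) (Ω := Ω))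
    unfold chC at hn
    simp only [classInner_neg_left, classInner_sub_left, classInner_add_left, in_OO hT, in_TO hT,
      in_PO hT, in_1O hT] at hn
    have h2 : ((-1 : ℤ) : ℂ) = ((n : ℤ) : ℂ) := by push_cast; rw [← hn]; norm_num
    have h3 : (-1 : ℤ) = (n : ℤ) := by exact_mod_cast h2
    omega

end inner

end Cfsg.Agent.Lib.H23.PermIrr
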