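import Mathlib
import Cfsg.Agent.Lib.H23.PermIrrE

/-!
# Values of the permutation characters on points, ordered pairs, unordered pairs (helper23)
-/

set_option autoImplicit false

namespace Cfsg.Agent.Lib.H23.PermIrr

open MulAction Cfsg.Agent.Lib.H23
open scoped Pointwise

variable {H Ω : Type*} [Group H] [MulAction H Ω] [Fintype Ω] [DecidableEq Ω]

/-- the set of fixed points of `g` -/
def fixF (g : H) : Finset Ω := Finset.univ.filter fun x => g • x = x

theorem mem_fixF {g : H} {x : Ω} : x ∈ fixF g ↔ g • x = x := by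
  unfold fixF
  simp only [Finset.mem_filter, Finset.mem_univ, true_and]

theorem piP_eq (g : H) : piP H Ω g = ((fixF (Ω := Ω) g).card : ℂ) := by
  unfold piP permChar
  congr 1
  rw [← Nat.card_eq_finsetCard]
  refine Nat.card_congr ⟨fun z => ⟨z.1, mem_fixF.mpr z.2⟩, fun z => ⟨z.1, mem_fixF.mp z.2⟩, ?_, ?_⟩
  · intro z; rfl
  · intro z; rfl

theorem piO_eq (g : H) :
    piO H Ω g = ((fixF (Ω := Ω) g).card * (fixF (Ω := Ω) g).card - (fixF (Ω := Ω) g).card : ℕ) := by
  unfold piO permChar
  congr 1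
  rw [← Finset.offDiag_card, ← Nat.card_eq_finsetCard]
  refine Nat.card_congr ⟨fun z => ⟨(z.1.fst, z.1.snd), ?_⟩, fun z => ⟨⟨z.1.1, z.1.2, ?_⟩, ?_⟩, ?_, ?_⟩
  · have h := z.2
    rw [mem_fixedBy] at h
    rw [Finset.mem_offDiag]
    refine ⟨mem_fixF.mpr ?_, mem_fixF.mpr ?_, z.1.ne⟩
    · have := congrArg OP.fst h
      rwa [OP.smul_fst] at this
    · have := congrArg OP.snd h
      rwa [OP.smul_snd] at this
  · exact (Finset.mem_offDiag.mp z.2).2.2
  · rw [mem_fixedBy]
    have h := Finset.mem_offDiag.mp z.2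
    apply OP.ext
    · rw [OP.smul_fst]; exact mem_fixF.mp h.1
    · rw [OP.smul_snd]; exact mem_fixF.mp h.2.1
  · intro z; rfl
  · intro z; rfl

/-- `g` has no 2-cycles -/
def N2 (g : H) : Prop := ∀ x : Ω, g • (g • x) = x → g • x = x

theorem piT_eq (g : H) (hN : N2 (Ω := Ω) g) :
    piT H Ω g = (((fixF (Ω := Ω) g).card.choose 2 : ℕ) : ℂ) := by
  unfold piT permChar
  congr 1
  rw [← Finset.card_powersetCard, ← Nat.card_eq_finsetCard]
  refine Nat.card_congr ⟨fun z => ⟨z.1.val, ?_⟩, fun z => ⟨⟨z.1, ?_⟩, ?_⟩, ?_, ?_⟩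
  · have h := z.2
    rw [mem_fixedBy] at h
    have h1 : g • z.1.val = z.1.val := by
      have := congrArg P2.val h
      rwa [P2.smul_val] at this
    rw [Finset.mem_powersetCard]
    refine ⟨?_, z.1.card_eq⟩
    obtain ⟨u, v, huv, hz⟩ := P2.exists_eq z.1
    rw [hz, P2.mk'_val] at h1 ⊢
    have hu : g • u ∈ ({u, v} : Finset Ω) := by
      rw [← h1]; exact Finset.smul_mem_smul_finset (Finset.mem_insert_self u _)
    have hv : g • v ∈ ({u, v} : Finset Ω) := by
      rw [← h1]
      exact Finset.smul_mem_smul_finset (Finset.mem_insert_of_mem (Finset.mem_singleton_self v))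
    simp only [Finset.mem_insert, Finset.mem_singleton] at hu hv
    have hinj : g • u ≠ g • v := fun e => huv (MulAction.injective g e)
    have hu' : g • u = u := by
      rcases hu with hu | hu
      · exact hu
      · have hv' : g • v = u := by
          rcases hv with hv | hv
          · exact hv
          · exact absurd (hu.trans hv.symm) hinj
        have := hN u (by rw [hu, hv'])
        exact this
    have hv' : g • v = v := by
      rcases hv with hv | hv
      · exact absurd (hu'.trans hv.symm) hinj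
      · exact hv
    intro w hw
    simp only [Finset.mem_insert, Finset.mem_singleton] at hw
    rcases hw with rfl | rfl
    · exact mem_fixF.mpr hu'
    · exact mem_fixF.mpr hv'
  · exact (Finset.mem_powersetCard.mp z.2).2
  · rw [mem_fixedBy]
    apply P2.ext
    rw [P2.smul_val]
    have hsub := (Finset.mem_powersetCard.mp z.2).1
    ext w
    constructor
    · intro hw
      obtain ⟨y, hy, rfl⟩ := Finset.mem_smul_finset.mp hw
      rw [mem_fixF.mp (hsub hy)]
      exact hy
    · intro hw
      have := mem_fixF.mp (hsub hw)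
      rw [← this]
      exact Finset.smul_mem_smul_finset hw
  · intro z; rfl
  · intro z; rfl

theorem chA_eq_zero (g : H) (hf : (fixF (Ω := Ω) g).card = 1) : chA H Ω g = 0 := by
  unfold chA
  rw [Pi.sub_apply, piP_eq, hf]
  simp

theorem chB_eq_zero_of_zero (g : H) (hN : N2 (Ω := Ω) g) (hf : (fixF (Ω := Ω) g).card = 0) :
    chB H Ω g = 0 := by
  unfold chB
  rw [Pi.sub_apply, piP_eq, piT_eq g hN, hf]
  simp

theorem chB_eq_zero_of_three (g : H) (hN : N2 (Ω := Ω) g) (hf : (fixF (Ω := Ω) g).card = 3) :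
    chB H Ω g = 0 := by
  unfold chB
  rw [Pi.sub_apply, piP_eq, piT_eq g hN, hf]
  norm_num [Nat.choose]

theorem chC_eq_zero (g : H) (hN : N2 (Ω := Ω) g) (hf : (fixF (Ω := Ω) g).card = 2) :
    chC H Ω g = 0 := by
  unfold chC
  rw [Pi.add_apply, Pi.sub_apply, Pi.sub_apply, piP_eq, piT_eq g hN, piO_eq, hf]
  norm_num [Nat.choose]

end Cfsg.Agent.Lib.H23.PermIrr
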