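import Mathlib
import Cfsg.Agent.Lib.H23.PermIrrF

/-!
# Even permutations with prescribed cycle type (helper23)
-/

set_option autoImplicit false

namespace Cfsg.Agent.Lib.H23.PermIrr

open MulAction Equiv Equiv.Perm
open scoped Pointwise

variable {α : Type*} [Fintype α] [DecidableEq α]

theorem card_fixF_perm (g : Perm α) :
    (fixF (H := Perm α) (Ω := α) g).card = Fintype.card α - g.cycleType.sum := by
  rw [← Equiv.Perm.card_fixedPoints, ← Nat.card_eq_fintype_card, ← Nat.card_eq_finsetCard]
  refine Nat.card_congr ⟨fun z => ⟨z.1, ?_⟩, fun z => ⟨z.1, ?_⟩, ?_, ?_⟩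
  · have := mem_fixF.mp z.2
    exact this
  · exact mem_fixF.mpr z.2
  · intro z; rfl
  · intro z; rfl

theorem n2_of_not_mem (g : Perm α) (h2 : 2 ∉ g.cycleType) :
    N2 (H := Perm α) (Ω := α) g := by
  intro x hx
  by_contra hne
  apply h2
  have hx' : g (g x) = x := hx
  have hne' : g x ≠ x := hne
  rw [Equiv.Perm.mem_cycleType_iff]
  refine ⟨swap x (g x), swap x (g x) * g, ?_, ?_, Equiv.Perm.isCycle_swap (Ne.symm hne'),
    Equiv.Perm.card_support_swap (Ne.symm hne')⟩
  · rw [← mul_assoc, Equiv.swap_mul_self, one_mul]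
  · intro z
    by_cases hzx : z = x
    · right
      rw [hzx, Equiv.Perm.mul_apply, Equiv.swap_apply_right]
    · by_cases hzg : z = g x
      · right
        rw [hzg, Equiv.Perm.mul_apply, hx', Equiv.swap_apply_left]
      · left
        exact Equiv.swap_apply_of_ne_of_ne hzx hzg

theorem exists_even_perm (M : Multiset ℕ) (hM : ∀ a ∈ M, 2 ≤ a) (hs : M.sum ≤ Fintype.card α)
    (he : Even (M.sum + Multiset.card M)) :
    ∃ g : Perm α, g.cycleType = M ∧ g ∈ alternatingGroup α := by
  obtain ⟨g, hg⟩ := (Equiv.Perm.exists_with_cycleType_iff α).mpr ⟨hs, hM⟩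
  refine ⟨g, hg, ?_⟩
  rw [Equiv.Perm.mem_alternatingGroup, Equiv.Perm.sign_of_cycleType, hg]
  exact he.neg_one_pow

theorem orderOf_dvd_of_cycleType (g : Perm α) (k : ℕ) (h : ∀ a ∈ g.cycleType, a ∣ k) :
    orderOf g ∣ k := by
  rw [← Equiv.Perm.lcm_cycleType]
  exact Multiset.lcm_dvd.mpr h

end Cfsg.Agent.Lib.H23.PermIrr

namespace Cfsg.Agent.Lib.H23.PermIrr

open MulAction Equiv Equiv.Perm
open scoped Pointwise

theorem exists_pow_two_of_dvd {d : ℕ} (h : d ∣ 8) : ∃ j : ℕ, d = 2 ^ j := by
  have h8 : (8 : ℕ) = 2 ^ 3 := by norm_num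
  rw [h8] at h
  obtain ⟨j, -, hj⟩ := (Nat.dvd_prime_pow Nat.prime_two).mp h
  exact ⟨j, hj⟩

/-- an even 2-element without 2-cycles moving exactly `4 m` points -/
theorem exists_two_elt_aux (n m : ℕ) (hm : 2 ≤ m) (hle : 4 * m ≤ n) :
    ∃ g : Perm (Fin n), g ∈ alternatingGroup (Fin n) ∧ (∃ j : ℕ, orderOf g = 2 ^ j) ∧
      N2 (H := Perm (Fin n)) (Ω := Fin n) g ∧
      (fixF (H := Perm (Fin n)) (Ω := Fin n) g).card = n - 4 * m := by
  rcases Nat.even_or_odd m with he | ho
  · obtain ⟨g, hg, hA⟩ := exists_even_perm (α := Fin n) (Multiset.replicate m 4)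
      (by intro a ha; rw [Multiset.eq_of_mem_replicate ha]; norm_num)
      (by rw [Multiset.sum_replicate, Fintype.card_fin, smul_eq_mul]; omega)
      (by
        rw [Multiset.sum_replicate, Multiset.card_replicate, smul_eq_mul]
        obtain ⟨k, hk⟩ := he
        exact ⟨5 * k, by omega⟩)
    refine ⟨g, hA, ?_, ?_, ?_⟩
    · apply exists_pow_two_of_dvd
      apply orderOf_dvd_of_cycleType
      intro a ha
      rw [hg] at ha
      rw [Multiset.eq_of_mem_replicate ha]
      norm_num
    · apply n2_of_not_mem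
      rw [hg]
      intro h2
      have := Multiset.eq_of_mem_replicate h2
      omega
    · rw [card_fixF_perm, hg, Multiset.sum_replicate, Fintype.card_fin, smul_eq_mul]
      omega
  · obtain ⟨k, hk⟩ := ho
    obtain ⟨g, hg, hA⟩ := exists_even_perm (α := Fin n) (8 ::ₘ Multiset.replicate (m - 2) 4)
      (by
        intro a ha
        rcases Multiset.mem_cons.mp ha with rfl | ha
        · norm_num
        · rw [Multiset.eq_of_mem_replicate ha]; norm_num)
      (by
        rw [Multiset.sum_cons, Multiset.sum_replicate, Fintype.card_fin, smul_eq_mul]; omega)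
      (by
        rw [Multiset.sum_cons, Multiset.card_cons, Multiset.sum_replicate,
          Multiset.card_replicate, smul_eq_mul]
        exact ⟨5 * k + 2, by omega⟩)
    refine ⟨g, hA, ?_, ?_, ?_⟩
    · apply exists_pow_two_of_dvd
      apply orderOf_dvd_of_cycleType
      intro a ha
      rw [hg] at ha
      rcases Multiset.mem_cons.mp ha with rfl | ha
      · norm_num
      · rw [Multiset.eq_of_mem_replicate ha]
        norm_num
    · apply n2_of_not_mem
      rw [hg]
      intro h2
      rcases Multiset.mem_cons.mp h2 with h2 | h2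
      · omega
      · have := Multiset.eq_of_mem_replicate h2
        omega
    · rw [card_fixF_perm, hg, Multiset.sum_cons, Multiset.sum_replicate, Fintype.card_fin,
        smul_eq_mul]
      omega

/-- an even 2-element with exactly one fixed point, in odd degree -/
theorem exists_two_elt_odd (n m : ℕ) (hm : 3 ≤ m) (hn : n = 2 * m + 1) :
    ∃ g : Perm (Fin n), g ∈ alternatingGroup (Fin n) ∧ (∃ j : ℕ, orderOf g = 2 ^ j) ∧
      (fixF (H := Perm (Fin n)) (Ω := Fin n) g).card = 1 := by
  rcases Nat.even_or_odd m with he | ho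
  · obtain ⟨g, hg, hA⟩ := exists_even_perm (α := Fin n) (Multiset.replicate m 2)
      (by intro a ha; rw [Multiset.eq_of_mem_replicate ha])
      (by rw [Multiset.sum_replicate, Fintype.card_fin, smul_eq_mul]; omega)
      (by
        rw [Multiset.sum_replicate, Multiset.card_replicate, smul_eq_mul]
        obtain ⟨k, hk⟩ := he
        exact ⟨3 * k, by omega⟩)
    refine ⟨g, hA, ?_, ?_⟩
    · apply exists_pow_two_of_dvd
      apply orderOf_dvd_of_cycleType
      intro a ha
      rw [hg] at ha
      rw [Multiset.eq_of_mem_replicate ha]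
      norm_num
    · rw [card_fixF_perm, hg, Multiset.sum_replicate, Fintype.card_fin, smul_eq_mul]
      omega
  · obtain ⟨k, hk⟩ := ho
    obtain ⟨g, hg, hA⟩ := exists_even_perm (α := Fin n) (4 ::ₘ Multiset.replicate (m - 2) 2)
      (by
        intro a ha
        rcases Multiset.mem_cons.mp ha with rfl | ha
        · norm_num
        · rw [Multiset.eq_of_mem_replicate ha])
      (by
        rw [Multiset.sum_cons, Multiset.sum_replicate, Fintype.card_fin, smul_eq_mul]; omega)
      (by
        rw [Multiset.sum_cons, Multiset.card_cons, Multiset.sum_replicate,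
          Multiset.card_replicate, smul_eq_mul]
        exact ⟨3 * k + 1, by omega⟩)
    refine ⟨g, hA, ?_, ?_⟩
    · apply exists_pow_two_of_dvd
      apply orderOf_dvd_of_cycleType
      intro a ha
      rw [hg] at ha
      rcases Multiset.mem_cons.mp ha with rfl | ha
      · norm_num
      · rw [Multiset.eq_of_mem_replicate ha]
        norm_num
    · rw [card_fixF_perm, hg, Multiset.sum_cons, Multiset.sum_replicate, Fintype.card_fin,
        smul_eq_mul]
      omega

/-- an element of order 3 with `n - 3 k` fixed points -/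
theorem exists_three_elt_aux (n k : ℕ) (hk : 1 ≤ k) (hle : 3 * k ≤ n) :
    ∃ g : Perm (Fin n), g ∈ alternatingGroup (Fin n) ∧ orderOf g = 3 ∧
      N2 (H := Perm (Fin n)) (Ω := Fin n) g ∧
      (fixF (H := Perm (Fin n)) (Ω := Fin n) g).card = n - 3 * k := by
  obtain ⟨g, hg, hA⟩ := exists_even_perm (α := Fin n) (Multiset.replicate k 3)
    (by intro a ha; rw [Multiset.eq_of_mem_replicate ha]; norm_num)
    (by rw [Multiset.sum_replicate, Fintype.card_fin, smul_eq_mul]; omega)
    (by
      rw [Multiset.sum_replicate, Multiset.card_replicate, smul_eq_mul]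
      exact ⟨2 * k, by omega⟩)
  refine ⟨g, hA, ?_, ?_, ?_⟩
  · have hd : orderOf g ∣ 3 := by
      apply orderOf_dvd_of_cycleType
      intro a ha
      rw [hg] at ha
      rw [Multiset.eq_of_mem_replicate ha]
    rcases (Nat.dvd_prime Nat.prime_three).mp hd with h1 | h3
    · exfalso
      rw [orderOf_eq_one_iff] at h1
      rw [h1, Equiv.Perm.cycleType_one] at hg
      have := congrArg Multiset.card hg
      rw [Multiset.card_replicate, Multiset.card_zero] at this
      omega
    · exact h3
  · apply n2_of_not_mem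
    rw [hg]
    intro h2
    have := Multiset.eq_of_mem_replicate h2
    omega
  · rw [card_fixF_perm, hg, Multiset.sum_replicate, Fintype.card_fin, smul_eq_mul]
    omega

end Cfsg.Agent.Lib.H23.PermIrr
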