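import Mathlib
import Cfsg.Agent.Lib.H23.PermIrrG

/-!
# The characters `chA`, `chB`, `chC` for symmetric and alternating groups (helper23)
-/

set_option autoImplicit false

namespace Cfsg.Agent.Lib.H23.PermIrr

open MulAction Equiv Equiv.Perm
open scoped Pointwise

section Sub

variable {G Ω : Type*} [Group G] [MulAction G Ω]

theorem piP_subgroup (A : Subgroup G) (x : A) : piP A Ω x = piP G Ω (x : G) := rfl

theorem piO_subgroup (A : Subgroup G) (x : A) : piO A Ω x = piO G Ω (x : G) := rfl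

theorem piT_subgroup [DecidableEq Ω] (A : Subgroup G) (x : A) :
    piT A Ω x = piT G Ω (x : G) := rfl

theorem chA_subgroup (A : Subgroup G) (x : A) : chA A Ω x = chA G Ω (x : G) := rfl

theorem chB_subgroup [DecidableEq Ω] (A : Subgroup G) (x : A) :
    chB A Ω x = chB G Ω (x : G) := rfl

theorem chC_subgroup [DecidableEq Ω] (A : Subgroup G) (x : A) :
    chC A Ω x = chC G Ω (x : G) := rfl

end Sub

theorem t4_perm (n : ℕ) (hn : 4 ≤ n) : T4 (Perm (Fin n)) (Fin n) := by
  apply t4_of_isMultiplyPretransitive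
  · exact Equiv.Perm.isMultiplyPretransitive (Fin n) 4
  · simpa using hn

theorem t4_alt (n : ℕ) (hn : 6 ≤ n) : T4 (alternatingGroup (Fin n)) (Fin n) := by
  apply t4_of_isMultiplyPretransitive
  · haveI := alternatingGroup.isMultiplyPretransitive (Fin n)
    exact isMultiplyPretransitive_of_le (n := Nat.card (Fin n) - 2)
      (by simp only [Nat.card_eq_fintype_card, Fintype.card_fin]; omega)
      (by simp only [Nat.card_eq_fintype_card, Fintype.card_fin]; omega)
  · simpa using (by omega : 4 ≤ n)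

end Cfsg.Agent.Lib.H23.PermIrr

namespace Cfsg.Agent.Lib.H23.PermIrr

open MulAction Equiv Equiv.Perm
open scoped Pointwise

/-- an even permutation with one fixed point, or without 2-cycles and with 0, 2 or 3 fixed points,
is a zero of an irreducible character of `A_n` that extends to `S_n` -/
theorem exists_irr_vanishing (n : ℕ) (hn : 6 ≤ n) (g : Perm (Fin n))
    (hA : g ∈ alternatingGroup (Fin n))
    (h : (fixF (H := Perm (Fin n)) (Ω := Fin n) g).card = 1 ∨
      (N2 (H := Perm (Fin n)) (Ω := Fin n) g ∧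
        ((fixF (H := Perm (Fin n)) (Ω := Fin n) g).card = 0 ∨
         (fixF (H := Perm (Fin n)) (Ω := Fin n) g).card = 2 ∨
         (fixF (H := Perm (Fin n)) (Ω := Fin n) g).card = 3))) :
    ∃ χ : Cfsg.IrrCharacter (alternatingGroup (Fin n)),
      (χ : alternatingGroup (Fin n) → ℂ) ⟨g, hA⟩ = 0 ∧
      ∃ ψ : Cfsg.IrrCharacter (Perm (Fin n)), ∀ x : alternatingGroup (Fin n),
        (ψ : Perm (Fin n) → ℂ) x = (χ : alternatingGroup (Fin n) → ℂ) x := by
  have hTA := t4_alt n hn
  have hTS := t4_perm n (by omega)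
  rcases h with h1 | ⟨hN, h0 | h2 | h3⟩
  · refine ⟨⟨chA (alternatingGroup (Fin n)) (Fin n), chA_irr hTA⟩, ?_,
      ⟨chA (Perm (Fin n)) (Fin n), chA_irr hTS⟩, fun x => (chA_subgroup _ x).symm⟩
    change chA (alternatingGroup (Fin n)) (Fin n) ⟨g, hA⟩ = 0
    rw [chA_subgroup]
    exact chA_eq_zero g h1
  · refine ⟨⟨chB (alternatingGroup (Fin n)) (Fin n), chB_irr hTA⟩, ?_,
      ⟨chB (Perm (Fin n)) (Fin n), chB_irr hTS⟩, fun x => (chB_subgroup _ x).symm⟩
    change chB (alternatingGroup (Fin n)) (Fin n) ⟨g, hA⟩ = 0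
    rw [chB_subgroup]
    exact chB_eq_zero_of_zero g hN h0
  · refine ⟨⟨chC (alternatingGroup (Fin n)) (Fin n), chC_irr hTA⟩, ?_,
      ⟨chC (Perm (Fin n)) (Fin n), chC_irr hTS⟩, fun x => (chC_subgroup _ x).symm⟩
    change chC (alternatingGroup (Fin n)) (Fin n) ⟨g, hA⟩ = 0
    rw [chC_subgroup]
    exact chC_eq_zero g hN h2
  · refine ⟨⟨chB (alternatingGroup (Fin n)) (Fin n), chB_irr hTA⟩, ?_,
      ⟨chB (Perm (Fin n)) (Fin n), chB_irr hTS⟩, fun x => (chB_subgroup _ x).symm⟩
    change chB (alternatingGroup (Fin n)) (Fin n) ⟨g, hA⟩ = 0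
    rw [chB_subgroup]
    exact chB_eq_zero_of_three g hN h3

end Cfsg.Agent.Lib.H23.PermIrr
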