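import Mathlib
import Cfsg.Prelude.Def_BrauerPairs
import Cfsg.Prelude.Def_OddOrderLocal
import Cfsg.Agent.Lib.L0.BlockKer
import Cfsg.Agent.Lib.L0.BrauerRelative
import Cfsg.Agent.Lib.H19.PiCore

/-!
# `π'`-cores in the kernels of blocks of Brauer pairs, part A (helper23)

For a set of primes `π ∋ p` write `O_{π'}(X)` for `piCore {q | q ∉ π} X`.

* `resAlg_avg`: the truncation to `C` of the averaging element of a subgroup `L`;
* `pair_iff`: for a Brauer pair `(P, e)` of `B`, a normal `p'`-subgroup `L`, `χ ∈ B`, `ξ ∈ e`: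
  `L ≤ ker χ ↔ L ∩ C_G(P) ≤ ker ξ`;
* `step_iff`: for a normal step `(Q, f) ⊴ (P, e)`, a `p'`-subgroup `L` normalized by `C_G(Q)` and
  `P`, `ψ ∈ f`, `ξ ∈ e`: `L ∩ C_G(Q) ≤ ker ψ ↔ L ∩ C_G(P) ≤ ker ξ`;
* `KerTriv π k` (`O_{π'}` lies in the kernel of every member of `k`), `HallCond π A` (every
  `π'`-element lies in `O_{π'}(A)`), and their transport along isomorphisms.
-/

set_option autoImplicit false

namespace Cfsg.Agent.Lib.H23.PiKernel

open Cfsg MonoidAlgebra Cfsg.Agent.Lib.H23 Cfsg.Agent.Lib.H24 Cfsg.Agent.Lib.L0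
  Cfsg.Agent.Lib.L0.BrauerPairHom Cfsg.Agent.Lib.L0.BrauerLam
  Cfsg.Agent.Lib.L0.BrauerNormal Cfsg.Agent.Lib.L0.BrauerSubpair Cfsg.Agent.Lib.L0.BrauerConj
  Cfsg.Agent.Lib.L0.BlockKer Cfsg.Agent.Lib.H19
open scoped ComplexConjugate

section Avg

variable {G : Type*} [Group G] [Fintype G]

/-- The truncation to `C` of the averaging element of `L`. -/
theorem resAlg_avg (L C : Subgroup G) [Fintype C] :
    resAlg C (avg L) =
      ((Nat.card (L.subgroupOf C) : ℂ) / (Nat.card L : ℂ)) • avg (L.subgroupOf C) := by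
  classical
  apply MonoidAlgebra.ext
  ext c
  rw [coeff_resAlg, MonoidAlgebra.coeff_smul, Finsupp.coe_smul, Pi.smul_apply, smul_eq_mul]
  simp only [avg, coeff_ofFun]
  have h0 : (Nat.card (L.subgroupOf C) : ℂ) ≠ 0 := by
    exact_mod_cast (Nat.card_pos (α := L.subgroupOf C)).ne'
  have h1 : (Nat.card L : ℂ) ≠ 0 := by
    exact_mod_cast (Nat.card_pos (α := L)).ne'
  by_cases hc : (c : G) ∈ L
  · rw [if_pos hc, if_pos (Subgroup.mem_subgroupOf.2 hc)]
    field_simp
  · rw [if_neg hc, if_neg (fun h => hc (Subgroup.mem_subgroupOf.1 h)), mul_zero]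

theorem invUnder_avg (L : Subgroup G) {x : G} (hx : x ∈ Subgroup.normalizer (L : Set G)) :
    InvUnder x (avg L) := by
  classical
  intro k
  simp only [avg, coeff_ofFun]
  have := (Subgroup.mem_normalizer_iff.1 hx k)
  rw [if_congr this.symm rfl rfl]

omit [Fintype G] in
theorem card_subgroupOf_dvd (L C : Subgroup G) : Nat.card (L.subgroupOf C) ∣ Nat.card L := by
  rw [← Subgroup.inf_subgroupOf_right,
    Nat.card_congr (Subgroup.subgroupOfEquivOfLe (inf_le_right : L ⊓ C ≤ C)).toEquiv]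
  exact Subgroup.card_dvd_of_le inf_le_left

end Avg

section Dich

variable {p : ℕ} {M : Ideal AlgInt}

/-- The abstract dichotomy: a congruence between unit multiples of the central character values of
two averaging elements forces the two kernel conditions to be equivalent. -/
theorem ker_iff_of_congr [hPr : M.IsPrime] {A B : Type*} [Group A] [Group B] [Fintype A]
    [Fintype B] (ψ : IrrCharacter A) (ξ : IrrCharacter B) (NA : Subgroup A) [NA.Normal]
    (NB : Subgroup B) [NB.Normal] {u v : ℂ} (hu : ¬ MemLocalIdeal M u) (hv : ¬ MemLocalIdeal M v)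
    (h : MemLocalIdeal M (u * omega (ψ : A → ℂ) (avg NA) - v * omega (ξ : B → ℂ) (avg NB))) :
    (∀ n ∈ NA, (ψ : A → ℂ) n = (ψ : A → ℂ) 1) ↔ (∀ n ∈ NB, (ξ : B → ℂ) n = (ξ : B → ℂ) 1) := by
  rcases omega_avg ψ NA with ⟨h1, h1'⟩ | ⟨h1, h1'⟩ <;>
    rcases omega_avg ξ NB with ⟨h2, h2'⟩ | ⟨h2, h2'⟩
  · exact ⟨fun _ => h2, fun _ => h1⟩
  · rw [h1', h2', mul_one, mul_zero, sub_zero] at h
    exact absurd h hu
  · rw [h1', h2', mul_one, mul_zero, zero_sub] at h
    have h' := memLocalIdeal_neg h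
    rw [neg_neg] at h'
    exact absurd h' hv
  · exact ⟨fun h' => absurd h' h1, fun h' => absurd h' h2⟩

theorem ratio_not_memLocalIdeal (hM : IsPModular p M) {a b : ℕ} (ha : ¬ p ∣ a) (hb : b ≠ 0) :
    ¬ MemLocalIdeal M ((a : ℂ) / (b : ℂ)) := by
  haveI := isPrime_of_isPModular hM
  intro h
  apply ha
  rw [← natCast_memLocalIdeal_iff hM]
  have h1 := memLocalIdeal_mul_right h (natCast_mem_localRing (M := M) b)
  have hb0 : (b : ℂ) ≠ 0 := Nat.cast_ne_zero.2 hb
  rwa [div_mul_cancel₀ _ hb0] at h1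

end Dich

section Pair

variable {G : Type*} [Group G] [Fintype G] {p : ℕ} {M : Ideal AlgInt}

theorem ratio_unit (hM : IsPModular p M) (L C : Subgroup G) (hLp : ¬ p ∣ Nat.card L) :
    ¬ MemLocalIdeal M ((Nat.card (L.subgroupOf C) : ℂ) / (Nat.card L : ℂ)) :=
  ratio_not_memLocalIdeal hM (fun h => hLp (h.trans (card_subgroupOf_dvd L C)))
    (Nat.card_pos (α := L)).ne'

/-- For a Brauer pair `(P, e)` of `B` and a normal `p'`-subgroup `L`: `L ≤ ker χ` for `χ ∈ B` iff
`L ∩ C_G(P) ≤ ker ξ` for `ξ ∈ e`. -/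
theorem pair_iff (hM : IsPModular p M) {B : Set (IrrCharacter G)} {P : Subgroup G}
    {e : Set (IrrCharacter (Subgroup.centralizer (P : Set G)))}
    (h : IsBrauerPairOf p M B P e) (L : Subgroup G) [L.Normal] (hLp : ¬ p ∣ Nat.card L)
    {χ : IrrCharacter G} (hχ : χ ∈ B)
    {ξ : IrrCharacter (Subgroup.centralizer (P : Set G))} (hξ : ξ ∈ e) :
    (∀ x ∈ L, (χ : G → ℂ) x = (χ : G → ℂ) 1) ↔
      (∀ x : Subgroup.centralizer (P : Set G), (x : G) ∈ L →
        (ξ : Subgroup.centralizer (P : Set G) → ℂ) x =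
          (ξ : Subgroup.centralizer (P : Set G) → ℂ) 1) := by
  classical
  haveI hPr := isPrime_of_isPModular hM
  haveI : Fintype (Subgroup.centralizer (P : Set G)) := Fintype.ofFinite _
  have key := omega_resAlg_sub_of_isBrauerPairOf P hM h hξ hχ (avg_mem_center L)
    (avg_mem_intCoeff hM L hLp)
  rw [resAlg_avg, omega_smul] at key
  have key' : MemLocalIdeal M
      ((Nat.card (L.subgroupOf (Subgroup.centralizer (P : Set G))) : ℂ) / (Nat.card L : ℂ) *
        omega (ξ : Subgroup.centralizer (P : Set G) → ℂ)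
          (avg (L.subgroupOf (Subgroup.centralizer (P : Set G)))) -
        1 * omega (χ : G → ℂ) (avg L)) := by
    rwa [one_mul]
  have := ker_iff_of_congr (M := M) ξ χ (L.subgroupOf (Subgroup.centralizer (P : Set G))) L
    (ratio_unit hM L _ hLp) not_memLocalIdeal_one key'
  rw [← this]
  constructor
  · intro h1 x hx
    exact h1 x (Subgroup.mem_subgroupOf.2 hx)
  · intro h1 x hx
    exact h1 x (Subgroup.mem_subgroupOf.1 hx)

/-- For a normal step `(Q, f) ⊴ (P, e)` and a `p'`-subgroup `L` normalized by `C_G(Q)` and `P`: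
`L ∩ C_G(Q) ≤ ker ψ` for `ψ ∈ f` iff `L ∩ C_G(P) ≤ ker ξ` for `ξ ∈ e`. -/
theorem step_iff (hM : IsPModular p M) {Q P : Subgroup G}
    {f : Set (IrrCharacter (Subgroup.centralizer (Q : Set G)))}
    {e : Set (IrrCharacter (Subgroup.centralizer (P : Set G)))}
    (h : IsNormalSubpair p M Q f P e) (L : Subgroup G) (hLp : ¬ p ∣ Nat.card L)
    (hLC : Subgroup.centralizer (Q : Set G) ≤ Subgroup.normalizer (L : Set G))
    (hLP : P ≤ Subgroup.normalizer (L : Set G))
    {ψ : IrrCharacter (Subgroup.centralizer (Q : Set G))} (hψ : ψ ∈ f)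
    {ξ : IrrCharacter (Subgroup.centralizer (P : Set G))} (hξ : ξ ∈ e) :
    (∀ x : Subgroup.centralizer (Q : Set G), (x : G) ∈ L →
        (ψ : Subgroup.centralizer (Q : Set G) → ℂ) x =
          (ψ : Subgroup.centralizer (Q : Set G) → ℂ) 1) ↔
      (∀ x : Subgroup.centralizer (P : Set G), (x : G) ∈ L →
        (ξ : Subgroup.centralizer (P : Set G) → ℂ) x =
          (ξ : Subgroup.centralizer (P : Set G) → ℂ) 1) := by
  classical
  haveI hPr := isPrime_of_isPModular hM
  haveI : Fintype (Subgroup.centralizer (P : Set G)) := Fintype.ofFinite _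
  haveI : Fintype (Subgroup.centralizer (Q : Set G)) := Fintype.ofFinite _
  obtain ⟨ξ₀, he⟩ := h.2.1.2
  subst he
  obtain ⟨hQ, hP, hQP, hPN, hf, hst, h1⟩ := (isNormalSubpair_iff_lam hM P Q ξ₀ f).1 h
  have hCPQ : Subgroup.centralizer (P : Set G) ≤ Subgroup.centralizer (Q : Set G) :=
    Subgroup.centralizer_le hQP
  have hzi : avg L ∈ intCoeff (G := G) M := avg_mem_intCoeff hM L hLp
  have hzC : ∀ c ∈ Subgroup.centralizer (Q : Set G), InvUnder c (avg L) :=
    fun c hc => invUnder_avg L (hLC hc)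
  have hzP : ∀ q ∈ P, InvUnder q (avg L) := fun q hq => invUnder_avg L (hLP hq)
  have hgood : Good M P (avg L) := ⟨hzi, hzP, fun c hc => hzC c (hCPQ hc)⟩
  have key := lam_sub_omega_of_stable hM P Q hP hQP hPN ξ₀ hf hst h1 hzi hzC hzP hψ
  have h2 := lam_congr P hξ hgood
  have h3 := memLocalIdeal_sub key h2
  rw [sub_sub_sub_cancel_left] at h3
  unfold lam at h3
  rw [resAlg_avg, resAlg_avg, omega_smul, omega_smul] at h3
  haveI : (L.subgroupOf (Subgroup.centralizer (Q : Set G))).Normal :=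
    Subgroup.normal_subgroupOf_of_le_normalizer hLC
  haveI : (L.subgroupOf (Subgroup.centralizer (P : Set G))).Normal :=
    Subgroup.normal_subgroupOf_of_le_normalizer (hCPQ.trans hLC)
  have := ker_iff_of_congr (M := M) ξ ψ (L.subgroupOf (Subgroup.centralizer (P : Set G)))
    (L.subgroupOf (Subgroup.centralizer (Q : Set G)))
    (ratio_unit hM L _ hLp) (ratio_unit hM L _ hLp) h3
  constructor
  · intro h4 x hx
    exact this.2 (fun n hn => h4 n (Subgroup.mem_subgroupOf.1 hn)) x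
      (Subgroup.mem_subgroupOf.2 hx)
  · intro h4 x hx
    exact this.1 (fun n hn => h4 n (Subgroup.mem_subgroupOf.1 hn)) x
      (Subgroup.mem_subgroupOf.2 hx)

end Pair

section Defs

/-- `O_{π'}(A)` lies in the kernel of every member of `k`. -/
def KerTriv (π : Set ℕ) {A : Type*} [Group A] (k : Set (IrrCharacter A)) : Prop :=
  ∀ x : A, x ∈ piCore {q | q ∉ π} A → x ∈ blockKer k

/-- Every `π'`-element of `A` lies in `O_{π'}(A)`. -/
def HallCond (π : Set ℕ) (A : Type*) [Group A] : Prop :=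
  ∀ x : A, (∀ q : ℕ, q.Prime → q ∣ orderOf x → q ∉ π) → x ∈ piCore {q | q ∉ π} A

variable {π : Set ℕ} {A B : Type*} [Group A] [Group B]

theorem mem_piCore_equiv (σ : Set ℕ) (e : A ≃* B) {x : A} :
    e x ∈ piCore σ B ↔ x ∈ piCore σ A := by
  rw [← piCore_map_equiv σ e]
  constructor
  · rintro ⟨y, hy, hxy⟩
    have : y = x := e.injective hxy
    rwa [← this]
  · intro hx
    exact ⟨x, hx, rfl⟩

theorem kerTriv_irrEquiv_image (e : A ≃* B) (k : Set (IrrCharacter B)) :
    KerTriv π (irrEquiv e '' k) ↔ KerTriv π k := by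
  constructor
  · intro h x hx θ hθ
    have h1 := h (e.symm x) ((mem_piCore_equiv _ e).1 (by rwa [e.apply_symm_apply]))
      (irrEquiv e θ) ⟨θ, hθ, rfl⟩
    rw [irrEquiv_apply, irrEquiv_apply, e.apply_symm_apply, map_one] at h1
    exact h1
  · rintro h x hx _ ⟨θ, hθ, rfl⟩
    have h1 := h (e x) ((mem_piCore_equiv _ e).2 hx) θ hθ
    rw [irrEquiv_apply, irrEquiv_apply, map_one]
    exact h1

theorem hallCond_equiv (e : A ≃* B) (h : HallCond π A) : HallCond π B := by
  intro x hx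
  have h1 := h (e.symm x) (by rwa [MulEquiv.orderOf_eq])
  have h2 := (mem_piCore_equiv {q | q ∉ π} e).2 h1
  rwa [e.apply_symm_apply] at h2

end Defs

end Cfsg.Agent.Lib.H23.PiKernel
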