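import Mathlib
import Cfsg.Prelude.Def_BrauerPairs
import Cfsg.Prelude.Def_OddOrderLocal
import Cfsg.Agent.Lib.H23.PiKernelA

/-!
# `π'`-cores in the kernels of blocks of Brauer pairs, part B (helper23)

* `KG π Q`: the image in `G` of `O_{π'}(C_G(Q))`;
* `kerTriv_down`: if `(Q, f) ⊴ (P, e)` and `O_{π'}(C_G(P)) ≤ ker e` then `O_{π'}(C_G(Q)) ≤ ker f`;
* `kerTriv_up`: the converse under the Hall condition on `C_G(Q)`;
* chains, conjugation, and lifting from a subgroup (`isBrauerPairOf_up`).
-/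

set_option autoImplicit false

namespace Cfsg.Agent.Lib.H23.PiKernel

open Cfsg MonoidAlgebra Cfsg.Agent.Lib.H23 Cfsg.Agent.Lib.H24 Cfsg.Agent.Lib.L0
  Cfsg.Agent.Lib.L0.BrauerPairHom Cfsg.Agent.Lib.L0.BrauerLam
  Cfsg.Agent.Lib.L0.BrauerNormal Cfsg.Agent.Lib.L0.BrauerSubpair Cfsg.Agent.Lib.L0.BrauerConj
  Cfsg.Agent.Lib.L0.BrauerRelative
  Cfsg.Agent.Lib.L0.BlockKer Cfsg.Agent.Lib.H19
open scoped ComplexConjugate

section Char

variable {G : Type*} [Group G]

/-- An element normalizing `H` normalizes the image of every characteristic subgroup of `H`. -/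
theorem mem_normalizer_map_of_characteristic (H : Subgroup G) (N : Subgroup H)
    [hN : N.Characteristic] {x : G} (hx : x ∈ Subgroup.normalizer (H : Set G)) :
    x ∈ Subgroup.normalizer ((N.map H.subtype : Subgroup G) : Set G) := by
  have key : ∀ y : G, y ∈ Subgroup.normalizer (H : Set G) → ∀ g ∈ N.map H.subtype,
      y * g * y⁻¹ ∈ N.map H.subtype := by
    rintro y hy _ ⟨n, hn, rfl⟩
    have hmem : y * (n : G) * y⁻¹ ∈ H := (Subgroup.mem_normalizer_iff.1 hy n).1 n.2
    let σ : H ≃* H :=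
      { toFun := fun c => ⟨y * c * y⁻¹, (Subgroup.mem_normalizer_iff.1 hy c).1 c.2⟩
        invFun := fun c => ⟨y⁻¹ * c * y, by
          have h := (Subgroup.mem_normalizer_iff.1 (Subgroup.inv_mem _ hy) c).1 c.2
          rwa [inv_inv] at h⟩
        left_inv := fun c => by
          apply Subtype.ext
          simp only
          group
        right_inv := fun c => by
          apply Subtype.ext
          simp only
          group
        map_mul' := fun a b => by
          apply Subtype.ext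
          simp only [Subgroup.coe_mul]
          group }
    have h1 : σ n ∈ N := by
      have := (Subgroup.characteristic_iff_le_comap.1 hN σ) hn
      exact this
    exact ⟨σ n, h1, rfl⟩
  rw [Subgroup.mem_normalizer_iff]
  intro g
  constructor
  · exact key x hx g
  · intro h
    have := key x⁻¹ (Subgroup.inv_mem _ hx) _ h
    rw [inv_inv] at this
    have e : x⁻¹ * (x * g * x⁻¹) * x = g := by group
    rwa [e] at this

end Char

section KG

variable {G : Type*} [Group G]

/-- The image in `G` of `O_{π'}(C_G(Q))`. -/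
def KG (π : Set ℕ) (Q : Subgroup G) : Subgroup G :=
  (piCore {q | q ∉ π} ↥(Subgroup.centralizer (Q : Set G))).map
    (Subgroup.centralizer (Q : Set G)).subtype

theorem mem_KG_iff (π : Set ℕ) (Q : Subgroup G) (x : Subgroup.centralizer (Q : Set G)) :
    (x : G) ∈ KG π Q ↔ x ∈ piCore {q | q ∉ π} ↥(Subgroup.centralizer (Q : Set G)) := by
  constructor
  · rintro ⟨y, hy, hxy⟩
    have : y = x := Subtype.ext hxy
    rwa [← this]
  · intro hx
    exact ⟨x, hx, rfl⟩

theorem KG_le (π : Set ℕ) (Q : Subgroup G) : KG π Q ≤ Subgroup.centralizer (Q : Set G) := by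
  rintro _ ⟨y, -, rfl⟩
  exact y.2

theorem card_KG (π : Set ℕ) (Q : Subgroup G) :
    Nat.card (KG π Q) = Nat.card (piCore {q | q ∉ π} ↥(Subgroup.centralizer (Q : Set G))) :=
  (Nat.card_congr ((piCore {q | q ∉ π} ↥(Subgroup.centralizer (Q : Set G))).equivMapOfInjective
    (Subgroup.centralizer (Q : Set G)).subtype (Subgroup.subtype_injective _)).toEquiv).symm

theorem isPiCard_KG [Finite G] (π : Set ℕ) (Q : Subgroup G) :
    IsPiCard {q | q ∉ π} (Nat.card (KG π Q)) := by
  rw [card_KG]
  exact piCore_isPiCard _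

theorem not_dvd_card_KG [Finite G] {π : Set ℕ} {p : ℕ} (hp : p.Prime) (hpπ : p ∈ π)
    (Q : Subgroup G) : ¬ p ∣ Nat.card (KG π Q) :=
  fun h => (isPiCard_KG π Q p hp h) hpπ

theorem centralizer_le_normalizer_KG (π : Set ℕ) (Q : Subgroup G) :
    Subgroup.centralizer (Q : Set G) ≤ Subgroup.normalizer ((KG π Q : Subgroup G) : Set G) :=
  fun _ hx => mem_normalizer_map_of_characteristic _ _ (Subgroup.le_normalizer hx)

theorem normalizer_le_normalizer_KG (π : Set ℕ) (Q : Subgroup G) :
    Subgroup.normalizer (Q : Set G) ≤ Subgroup.normalizer ((KG π Q : Subgroup G) : Set G) :=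
  fun _ hx => mem_normalizer_map_of_characteristic _ _
    (normalizer_le_normalizer_centralizer Q hx)

/-- For `Q ≤ P`, `O_{π'}(C_G(Q)) ∩ C_G(P) ≤ O_{π'}(C_G(P))`. -/
theorem mem_piCore_of_mem_KG [Finite G] (π : Set ℕ) {Q P : Subgroup G} (hQP : Q ≤ P)
    (x : Subgroup.centralizer (P : Set G)) (hx : (x : G) ∈ KG π Q) :
    x ∈ piCore {q | q ∉ π} ↥(Subgroup.centralizer (P : Set G)) := by
  have hCPQ : Subgroup.centralizer (P : Set G) ≤ Subgroup.centralizer (Q : Set G) :=
    Subgroup.centralizer_le hQP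
  haveI : ((KG π Q).subgroupOf (Subgroup.centralizer (P : Set G))).Normal :=
    Subgroup.normal_subgroupOf_of_le_normalizer (hCPQ.trans (centralizer_le_normalizer_KG π Q))
  have hle : (KG π Q).subgroupOf (Subgroup.centralizer (P : Set G)) ≤
      piCore {q | q ∉ π} ↥(Subgroup.centralizer (P : Set G)) := by
    apply le_piCore inferInstance
    intro q hq hdvd
    exact isPiCard_KG π Q q hq (hdvd.trans (card_subgroupOf_dvd _ _))
  exact hle (Subgroup.mem_subgroupOf.2 hx)

end KG

section Steps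

variable {G : Type*} [Group G] [Fintype G] {p : ℕ} {M : Ideal AlgInt} {π : Set ℕ}

/-- Downwards: if `(Q, f) ⊴ (P, e)` and `O_{π'}(C_G(P)) ≤ ker e` then `O_{π'}(C_G(Q)) ≤ ker f`. -/
theorem kerTriv_down (hM : IsPModular p M) (hpπ : p ∈ π) {Q P : Subgroup G}
    {f : Set (IrrCharacter (Subgroup.centralizer (Q : Set G)))}
    {e : Set (IrrCharacter (Subgroup.centralizer (P : Set G)))}
    (h : IsNormalSubpair p M Q f P e) (ht : KerTriv π e) : KerTriv π f := by
  classical
  haveI hPr := isPrime_of_isPModular hM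
  haveI : Fintype (Subgroup.centralizer (P : Set G)) := Fintype.ofFinite _
  haveI : Fintype (Subgroup.centralizer (Q : Set G)) := Fintype.ofFinite _
  intro x hx ψ hψ
  obtain ⟨ξ, hξ⟩ := block_nonempty h.2.1.2
  have hQP : Q ≤ P := h.2.2.1
  have key := step_iff hM h (KG π Q) (not_dvd_card_KG (prime_of_isPModular hM) hpπ Q)
    (centralizer_le_normalizer_KG π Q) (h.2.2.2.1.trans (normalizer_le_normalizer_KG π Q)) hψ hξ
  refine key.2 (fun y hy => ?_) x ((mem_KG_iff π Q x).2 hx)
  exact ht y (mem_piCore_of_mem_KG π hQP y hy) ξ hξ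

/-- Upwards: if `(Q, f) ⊴ (P, e)`, `O_{π'}(C_G(Q)) ≤ ker f` and `O_{π'}(C_G(Q))` contains every
`π'`-element of `C_G(Q)`, then the same holds for `(P, e)`. -/
theorem kerTriv_up (hM : IsPModular p M) (hpπ : p ∈ π) {Q P : Subgroup G}
    {f : Set (IrrCharacter (Subgroup.centralizer (Q : Set G)))}
    {e : Set (IrrCharacter (Subgroup.centralizer (P : Set G)))}
    (h : IsNormalSubpair p M Q f P e) (ht : KerTriv π f)
    (hH : HallCond π ↥(Subgroup.centralizer (Q : Set G))) :
    KerTriv π e ∧ HallCond π ↥(Subgroup.centralizer (P : Set G)) := by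
  classical
  haveI hPr := isPrime_of_isPModular hM
  haveI : Fintype (Subgroup.centralizer (P : Set G)) := Fintype.ofFinite _
  haveI : Fintype (Subgroup.centralizer (Q : Set G)) := Fintype.ofFinite _
  have hQP : Q ≤ P := h.2.2.1
  have hCPQ : Subgroup.centralizer (P : Set G) ≤ Subgroup.centralizer (Q : Set G) :=
    Subgroup.centralizer_le hQP
  have hmem : ∀ x : Subgroup.centralizer (P : Set G),
      (∀ q : ℕ, q.Prime → q ∣ orderOf x → q ∉ π) → (x : G) ∈ KG π Q := by
    intro x hx
    have h1 : (⟨(x : G), hCPQ x.2⟩ : Subgroup.centralizer (Q : Set G)) ∈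
        piCore {q | q ∉ π} ↥(Subgroup.centralizer (Q : Set G)) := by
      apply hH
      intro q hq hdvd
      apply hx q hq
      rw [← Subgroup.orderOf_coe] at hdvd ⊢
      exact hdvd
    exact (mem_KG_iff π Q ⟨(x : G), hCPQ x.2⟩).2 h1
  have hHP : HallCond π ↥(Subgroup.centralizer (P : Set G)) :=
    fun x hx => mem_piCore_of_mem_KG π hQP x (hmem x hx)
  refine ⟨?_, hHP⟩
  intro x hx ξ hξ
  obtain ⟨ψ, hψ⟩ := block_nonempty h.1.2
  have key := step_iff hM h (KG π Q) (not_dvd_card_KG (prime_of_isPModular hM) hpπ Q)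
    (centralizer_le_normalizer_KG π Q) (h.2.2.2.1.trans (normalizer_le_normalizer_KG π Q)) hψ hξ
  refine key.1 (fun y hy => ht y ((mem_KG_iff π Q y).1 hy) ψ hψ) x (hmem x ?_)
  intro q hq hdvd
  have h1 : orderOf x ∣ Nat.card (piCore {q | q ∉ π} ↥(Subgroup.centralizer (P : Set G))) := by
    have := orderOf_dvd_natCard (⟨x, hx⟩ :
      piCore {q | q ∉ π} ↥(Subgroup.centralizer (P : Set G)))
    rwa [← Subgroup.orderOf_coe] at this
  exact piCore_isPiCard {q | q ∉ π} q hq (hdvd.trans h1)

theorem kerTriv_of_reflTransGen (hM : IsPModular p M) (hpπ : p ∈ π) {a b : BrauerPairIdx G}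
    (hab : Relation.ReflTransGen (NormalSubpairRel p M) a b) :
    KerTriv π b.2 → KerTriv π a.2 := by
  induction hab with
  | refl => exact id
  | tail _ hcb ih => exact fun h => ih (kerTriv_down hM hpπ hcb h)

theorem kerTriv_up_of_reflTransGen (hM : IsPModular p M) (hpπ : p ∈ π) {a b : BrauerPairIdx G}
    (hab : Relation.ReflTransGen (NormalSubpairRel p M) a b) :
    KerTriv π a.2 ∧ HallCond π ↥(Subgroup.centralizer (a.1 : Set G)) →
      KerTriv π b.2 ∧ HallCond π ↥(Subgroup.centralizer (b.1 : Set G)) := by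
  induction hab with
  | refl => exact id
  | tail _ hcb ih => exact fun h => kerTriv_up hM hpπ hcb (ih h).1 (ih h).2

end Steps

end Cfsg.Agent.Lib.H23.PiKernel
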