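import Mathlib
import Cfsg.Prelude.Def_BrauerPairs
import Cfsg.Prelude.Def_OddOrderLocal
import Cfsg.Agent.Lib.H23.PiKernelB
import Cfsg.Agent.Lib.H23.MaxPairD

/-!
# `π'`-cores in the kernels of blocks of Brauer pairs, part C (helper23)

* `kerTriv_conjBlock`, `hallCond_conj`: invariance under conjugation;
* `kerTriv_upBlock`, `hallCond_up`: lifting from a subgroup `H` with `C_G(S') ≤ H`;
* `isBrauerPairOf_up`: a Brauer pair of a block `B'` of `H` inducing `B` lifts to a Brauer pair
  of `B`.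
-/

set_option autoImplicit false

namespace Cfsg.Agent.Lib.H23.PiKernel

open Cfsg MonoidAlgebra Cfsg.Agent.Lib.H23 Cfsg.Agent.Lib.H24 Cfsg.Agent.Lib.L0
  Cfsg.Agent.Lib.L0.BrauerPairHom Cfsg.Agent.Lib.L0.BrauerLam
  Cfsg.Agent.Lib.L0.BrauerNormal Cfsg.Agent.Lib.L0.BrauerSubpair Cfsg.Agent.Lib.L0.BrauerConj
  Cfsg.Agent.Lib.L0.BrauerRelative
  Cfsg.Agent.Lib.L0.BlockKer Cfsg.Agent.Lib.H19
open scoped ComplexConjugate

section Conj

variable {G : Type*} [Group G] {π : Set ℕ}

theorem conjBlock_eq_image (x : G) (Q : Subgroup G)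
    (f : Set (IrrCharacter (Subgroup.centralizer (Q : Set G)))) :
    conjBlock Q x f = irrEquiv (centEquiv x Q).symm '' f := by
  ext ξ'
  rw [mem_conjBlock_iff]
  constructor
  · intro h
    refine ⟨_, h, ?_⟩
    apply Subtype.ext
    funext c
    rw [irrEquiv_apply, irrEquiv_apply, MulEquiv.apply_symm_apply]
  · rintro ⟨ξ, hξ, rfl⟩
    have h2 : irrEquiv (centEquiv x Q) (irrEquiv (centEquiv x Q).symm ξ) = ξ := by
      apply Subtype.ext
      funext c
      rw [irrEquiv_apply, irrEquiv_apply, MulEquiv.symm_apply_apply]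
    rw [h2]
    exact hξ

theorem kerTriv_conjBlock (x : G) (Q : Subgroup G)
    (f : Set (IrrCharacter (Subgroup.centralizer (Q : Set G)))) :
    KerTriv π (conjBlock Q x f) ↔ KerTriv π f := by
  rw [conjBlock_eq_image]
  exact kerTriv_irrEquiv_image _ f

theorem hallCond_conj (x : G) (Q : Subgroup G) :
    HallCond π ↥(Subgroup.centralizer ((Q.map (MulAut.conj x).toMonoidHom : Subgroup G) : Set G)) ↔
      HallCond π ↥(Subgroup.centralizer (Q : Set G)) :=
  ⟨hallCond_equiv (centEquiv x Q).symm, hallCond_equiv (centEquiv x Q)⟩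

end Conj

section Up

variable {G : Type*} [Group G] (H : Subgroup G) {π : Set ℕ}

theorem kerTriv_upBlock (S' : Subgroup H)
    (hC : Subgroup.centralizer ((upSub H S' : Subgroup G) : Set G) ≤ H)
    (k' : Set (IrrCharacter (Subgroup.centralizer (S' : Set H)))) :
    KerTriv π (upBlock H S' k') ↔ KerTriv π k' := by
  rw [upBlock_eq_image H S' hC]
  exact kerTriv_irrEquiv_image _ k'

theorem hallCond_up (S' : Subgroup H)
    (hC : Subgroup.centralizer ((upSub H S' : Subgroup G) : Set G) ≤ H) :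
    HallCond π ↥(Subgroup.centralizer ((upSub H S' : Subgroup G) : Set G)) ↔
      HallCond π ↥(Subgroup.centralizer (S' : Set H)) :=
  ⟨hallCond_equiv (centUp H S' hC).symm, hallCond_equiv (centUp H S' hC)⟩

variable [Fintype G] {p : ℕ} {M : Ideal AlgInt}

/-- A Brauer pair of a block `B'` of `H` with `B'^G = B`, on a subgroup `S'` with `C_G(S') ≤ H`,
lifts to a Brauer pair of `B`. -/
theorem isBrauerPairOf_up (hM : IsPModular p M) {B' : Set (IrrCharacter H)}
    {B : Set (IrrCharacter G)} (hind : IsInducedBlock M H B' B) {S' : Subgroup H}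
    (hC : Subgroup.centralizer ((upSub H S' : Subgroup G) : Set G) ≤ H)
    {k' : Set (IrrCharacter (Subgroup.centralizer (S' : Set H)))}
    (h : IsBrauerPairOf p M B' S' k') :
    IsBrauerPairOf p M B (upSub H S') (upBlock H S' k') := by
  classical
  haveI hPr := isPrime_of_isPModular hM
  haveI : Fintype H := Fintype.ofFinite _
  haveI : Fintype (Subgroup.centralizer (S' : Set H)) := Fintype.ofFinite _
  haveI : Fintype (Subgroup.centralizer ((upSub H S' : Subgroup G) : Set G)) :=
    Fintype.ofFinite _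
  refine ⟨isBrauerPair_up H hC h.1, hind.2.1, ?_⟩
  rw [upBlock_eq_image H S' hC]
  rintro _ ⟨ξ₁, hξ₁, rfl⟩
  rw [brauerOmega_blockCoeff]
  obtain ⟨χ', hχ'⟩ := block_nonempty hind.1
  obtain ⟨χ, hχ⟩ := block_nonempty hind.2.1
  obtain ⟨χ₁, hB⟩ := hind.2.1
  have hec : blockIdem B ∈ Subalgebra.center ℂ (MonoidAlgebra ℂ G) := blockIdem_mem_center B
  have hei : blockIdem B ∈ intCoeff (G := G) M := by
    rw [hB]
    exact fun g => blockIdem_memLocalRing hM χ₁ g
  have hkey : omega (ξ₁ : Subgroup.centralizer (S' : Set H) → ℂ)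
        (resAlg (Subgroup.centralizer (S' : Set H)) (resAlg H (blockIdem B))) =
      omega (irrEquiv (centUp H S' hC).symm ξ₁ :
          Subgroup.centralizer ((upSub H S' : Subgroup G) : Set G) → ℂ)
        (resAlg (Subgroup.centralizer ((upSub H S' : Subgroup G) : Set G)) (blockIdem B)) := by
    unfold omega charEval
    congr 1
    · refine Fintype.sum_equiv (centUp H S' hC).toEquiv _ _ (fun c' => ?_)
      simp only [coeff_resAlg]
      rw [irrEquiv_apply]
      have h1 : (centUp H S' hC).symm ((centUp H S' hC).toEquiv c') = c' :=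
        (centUp H S' hC).symm_apply_apply c'
      rw [h1]
      rfl
  have h1 := omega_resAlg_sub_of_isBrauerPairOf S' hM h hξ₁ hχ'
    (resAlg_mem_center H hec) (resAlg_mem_intCoeff H hei)
  have h2 := omega_resAlg_sub_memLocalIdeal H hind hχ' hχ hec hei
  rw [hkey] at h1
  have h3 := memLocalIdeal_add h1 h2
  rw [sub_add_sub_cancel, omega_blockIdem, if_pos hχ] at h3
  exact h3

end Up

end Cfsg.Agent.Lib.H23.PiKernel
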