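import Mathlib
import Cfsg.Prelude.Def_BrauerPairs
import Cfsg.Prelude.Def_OddOrderLocal
import Cfsg.Agent.Lib.H23.PiKernelC

/-!
# `π'`-cores in the kernels of blocks: descent from the Brauer correspondent (helper23)

* `kerTriv_pair_of_block`, `kerTriv_block_of_pair`: passing between a block and a Brauer pair;
* `descends`: if `O_{π'}(N_G(D)) ≤ ker B₁` for the Brauer correspondent `B₁` of `B`, then
  `O_{π'}(G₀) ≤ ker B₀` for every block `B₀` of a subgroup `G₀` with `B₀^G = B` and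
  `C_G(D₀) ≤ G₀` (S4734).
-/

set_option autoImplicit false

namespace Cfsg.Agent.Lib.H23.PiKernel

open Cfsg MonoidAlgebra Cfsg.Agent.Lib.H23 Cfsg.Agent.Lib.H24 Cfsg.Agent.Lib.L0
  Cfsg.Agent.Lib.L0.BrauerPairHom Cfsg.Agent.Lib.L0.BrauerLam
  Cfsg.Agent.Lib.L0.BrauerNormal Cfsg.Agent.Lib.L0.BrauerSubpair Cfsg.Agent.Lib.L0.BrauerConj
  Cfsg.Agent.Lib.L0.BrauerRelative Cfsg.Agent.Lib.L0.BrauerSylow
  Cfsg.Agent.Lib.L0.BlockKer Cfsg.Agent.Lib.H19 Cfsg.Agent.Lib.H23.MaxPair
open scoped ComplexConjugate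

section Block

variable {X : Type*} [Group X] [Fintype X] {p : ℕ} {M : Ideal AlgInt} {π : Set ℕ}

theorem not_dvd_card_piCore (hp : p.Prime) (hpπ : p ∈ π) :
    ¬ p ∣ Nat.card (piCore {q | q ∉ π} X) :=
  fun h => (piCore_isPiCard {q | q ∉ π} p hp h) hpπ

/-- From a block to a Brauer pair on a subgroup with subnormal centralizer. -/
theorem kerTriv_pair_of_block (hM : IsPModular p M) (hpπ : p ∈ π) {B : Set (IrrCharacter X)}
    {P : Subgroup X} {e : Set (IrrCharacter (Subgroup.centralizer (P : Set X)))}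
    (h : IsBrauerPairOf p M B P e) (hsub : (Subgroup.centralizer (P : Set X)).IsSubnormal)
    (ht : KerTriv π B) : KerTriv π e := by
  classical
  haveI hPr := isPrime_of_isPModular hM
  intro x hx ξ hξ
  obtain ⟨χ, hχ⟩ := block_nonempty h.2.1
  have key := pair_iff hM h (piCore {q | q ∉ π} X)
    (not_dvd_card_piCore (prime_of_isPModular hM) hpπ) hχ hξ
  refine key.1 (fun y hy => ht y hy χ hχ) x ?_
  exact piCore_subnormal_le {q | q ∉ π} hsub ⟨x, hx, rfl⟩

/-- From a Brauer pair to its block. -/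
theorem kerTriv_block_of_pair (hM : IsPModular p M) (hpπ : p ∈ π) {B : Set (IrrCharacter X)}
    {P : Subgroup X} {e : Set (IrrCharacter (Subgroup.centralizer (P : Set X)))}
    (h : IsBrauerPairOf p M B P e) (ht : KerTriv π e) : KerTriv π B := by
  classical
  haveI hPr := isPrime_of_isPModular hM
  haveI : Fintype (Subgroup.centralizer (P : Set X)) := Fintype.ofFinite _
  intro x hx χ hχ
  obtain ⟨ξ, hξ⟩ := block_nonempty h.1.2
  have key := pair_iff hM h (piCore {q | q ∉ π} X)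
    (not_dvd_card_piCore (prime_of_isPModular hM) hpπ) hχ hξ
  refine key.2 (fun y hy => ?_) x hx
  have hle : (piCore {q | q ∉ π} X).subgroupOf (Subgroup.centralizer (P : Set X)) ≤
      piCore {q | q ∉ π} ↥(Subgroup.centralizer (P : Set X)) := by
    apply le_piCore inferInstance
    intro q hq hdvd
    exact piCore_isPiCard {q | q ∉ π} q hq (hdvd.trans (card_subgroupOf_dvd _ _))
  exact ht y (hle (Subgroup.mem_subgroupOf.2 hy)) ξ hξ

end Block

section Main

variable {G : Type*} [Group G] [Fintype G] {p : ℕ} [Fact p.Prime] {M : Ideal AlgInt} {π : Set ℕ}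

/-- The Brauer correspondent gives a maximal Brauer pair of `B` on `D` with the kernel
condition. -/
theorem exists_maximal_kerTriv (hM : IsPModular p M) (hpπ : p ∈ π)
    {B : Set (IrrCharacter G)} {D : Subgroup G} (hBD : IsDefectGroup p M B D)
    {B₁ : Set (IrrCharacter ↥(Subgroup.normalizer (D : Set G)))}
    (hB₁ : IsInducedBlock M (Subgroup.normalizer (D : Set G)) B₁ B)
    (hB₁D : IsDefectGroup p M B₁ (D.subgroupOf (Subgroup.normalizer (D : Set G))))
    (hker : KerTriv π B₁) :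
    ∃ a : BrauerPairIdx G, a.1 = D ∧ IsMaximalBrauerPair p M B a.1 a.2 ∧ KerTriv π a.2 := by
  classical
  haveI hPr := isPrime_of_isPModular hM
  set N := Subgroup.normalizer (D : Set G) with hN
  haveI : Fintype N := Fintype.ofFinite _
  have hDN : D ≤ N := Subgroup.le_normalizer
  obtain ⟨χ₁', hB₁eq⟩ := hB₁.1
  subst hB₁eq
  obtain ⟨θN, hmaxN⟩ := exists_root_pair hM χ₁' (D.subgroupOf N) hB₁D
  have hup : upSub N (D.subgroupOf N) = D := upSub_subgroupOf N hDN
  have hCN : Subgroup.centralizer ((upSub N (D.subgroupOf N) : Subgroup G) : Set G) ≤ N := by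
    rw [hup]
    exact Subgroup.centralizer_le_normalizer _
  haveI : (D.subgroupOf N).Normal := Subgroup.normal_in_normalizer
  have hsub : (Subgroup.centralizer ((D.subgroupOf N : Subgroup N) : Set N)).IsSubnormal :=
    Subgroup.Normal.isSubnormal inferInstance
  have ht1 := kerTriv_pair_of_block hM hpπ hmaxN.1 hsub hker
  refine ⟨up N ⟨D.subgroupOf N, blockOf M (θN : _ → ℂ)⟩, hup, ?_, ?_⟩
  · refine isMaximal_of_defectGroup hM (isBrauerPairOf_up N hM hB₁ hCN hmaxN.1) ?_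
    show IsDefectGroup p M B (upSub N (D.subgroupOf N))
    rw [hup]
    exact hBD
  · exact (kerTriv_upBlock N (D.subgroupOf N) hCN _).2 ht1

/-- **Descent** (S4734). -/
theorem descends (hM : IsPModular p M) (hpπ : p ∈ π)
    {B : Set (IrrCharacter G)} {D : Subgroup G} (hBD : IsDefectGroup p M B D)
    {B₁ : Set (IrrCharacter ↥(Subgroup.normalizer (D : Set G)))}
    (hB₁ : IsInducedBlock M (Subgroup.normalizer (D : Set G)) B₁ B)
    (hB₁D : IsDefectGroup p M B₁ (D.subgroupOf (Subgroup.normalizer (D : Set G))))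
    (hker : KerTriv π B₁) (G₀ : Subgroup G) {B₀ : Set (IrrCharacter ↥G₀)}
    (hB₀ : IsInducedBlock M G₀ B₀ B) {D₀ : Subgroup ↥G₀} (hD₀ : IsDefectGroup p M B₀ D₀)
    (hC : Subgroup.centralizer ((D₀.map G₀.subtype : Subgroup G) : Set G) ≤ G₀) :
    KerTriv π B₀ := by
  classical
  haveI hPr := isPrime_of_isPModular hM
  haveI : Fintype G₀ := Fintype.ofFinite _
  obtain ⟨⟨P₁, e₁⟩, -, hmax₁, ht₁⟩ := exists_maximal_kerTriv hM hpπ hBD hB₁ hB₁D hker
  simp only at hmax₁ ht₁
  obtain ⟨χ₀', hB₀eq⟩ := hB₀.1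
  subst hB₀eq
  obtain ⟨θ₀, hmax₀⟩ := exists_root_pair hM χ₀' D₀ hD₀
  have ha₀ := isBrauerPairOf_up G₀ hM hB₀ hC hmax₀.1
  obtain ⟨x, hx⟩ := exists_conj_le_of_maximal hM hmax₁ ha₀
  have hx' : Relation.ReflTransGen (NormalSubpairRel p M)
      (⟨(upSub G₀ D₀).map (MulAut.conj x).toMonoidHom,
        conjBlock (upSub G₀ D₀) x (upBlock G₀ D₀ (blockOf M (θ₀ : _ → ℂ)))⟩ : BrauerPairIdx G)
      ⟨P₁, e₁⟩ := hx
  have h1 := kerTriv_of_reflTransGen hM hpπ hx' ht₁
  have h2 := (kerTriv_conjBlock x _ _).1 h1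
  have h3 := (kerTriv_upBlock G₀ D₀ hC _).1 h2
  exact kerTriv_block_of_pair hM hpπ hmax₀.1 h3

end Main

end Cfsg.Agent.Lib.H23.PiKernel
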