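import Mathlib
import Cfsg.Prelude.Def_BrauerPairs
import Cfsg.Prelude.Def_OddOrderLocal
import Cfsg.Agent.Lib.H23.PiKernelD
import Cfsg.Agent.Lib.H23.BlockVanishP

/-!
# `π'`-cores in the kernels of blocks: ascent to the Brauer correspondent (helper23)

* `exists_pair_of_normal`: a normal `p`-subgroup carries a Brauer pair of every block;
* `ascends`: if `b` is a block of `D₀ C_G(D₀)` with `b^G = B`, `O_{π'}(C_G(D₀))` is a normal Hall
  `π'`-subgroup of `C_G(D₀)` lying in the kernel of `b`, then `O_{π'}(N_G(D)) ≤ ker B₁` for the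
  Brauer correspondent `B₁` of `B` (S4728).
-/

set_option autoImplicit false

namespace Cfsg.Agent.Lib.H23.PiKernel

open Cfsg MonoidAlgebra Cfsg.Agent.Lib.H23 Cfsg.Agent.Lib.H24 Cfsg.Agent.Lib.L0
  Cfsg.Agent.Lib.L0.BrauerPairHom Cfsg.Agent.Lib.L0.BrauerLam
  Cfsg.Agent.Lib.L0.BrauerNormal Cfsg.Agent.Lib.L0.BrauerSubpair Cfsg.Agent.Lib.L0.BrauerConj
  Cfsg.Agent.Lib.L0.BrauerRelative Cfsg.Agent.Lib.L0.BrauerSylow
  Cfsg.Agent.Lib.L0.BlockKer Cfsg.Agent.Lib.H19 Cfsg.Agent.Lib.H23.MaxPair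
open scoped ComplexConjugate

section Normal

variable {X : Type*} [Group X] [Fintype X] {p : ℕ} [Fact p.Prime] {M : Ideal AlgInt}

/-- A normal `p`-subgroup carries a Brauer pair of every block. -/
theorem exists_pair_of_normal (hM : IsPModular p M) (χ₀ : IrrCharacter X) (Q : Subgroup X)
    [Q.Normal] (hQ : IsPGroup p Q) :
    ∃ f : Set (IrrCharacter (Subgroup.centralizer (Q : Set X))),
      IsBrauerPairOf p M (blockOf M (χ₀ : X → ℂ)) Q f := by
  obtain ⟨D', hD'⟩ := exists_isDefectGroup hM χ₀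
  obtain ⟨θ, hmax⟩ := exists_root_pair hM χ₀ D' hD'
  have hQD : Q ≤ D' := normal_le_defectGroup hM χ₀ Q hQ D' hD'
  obtain ⟨f, -, hle⟩ := exists_subpairLE hM _ D' _ rfl hmax.1.1 Q hQD
  exact ⟨f, (isBrauerPairOf_iff_of_reflTransGen hM (a := ⟨Q, f⟩) (b := ⟨D', _⟩) hle _).2 hmax.1⟩

end Normal

section Main

variable {G : Type*} [Group G] [Fintype G] {p : ℕ} [Fact p.Prime] {M : Ideal AlgInt} {π : Set ℕ}

/-- **Ascent** (S4728). -/
theorem ascends (hM : IsPModular p M) (hpπ : p ∈ π)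
    {B : Set (IrrCharacter G)} {D : Subgroup G} (hBD : IsDefectGroup p M B D)
    {B₁ : Set (IrrCharacter ↥(Subgroup.normalizer (D : Set G)))}
    (hB₁ : IsInducedBlock M (Subgroup.normalizer (D : Set G)) B₁ B)
    (hB₁D : IsDefectGroup p M B₁ (D.subgroupOf (Subgroup.normalizer (D : Set G))))
    (D₀ : Subgroup G) (hD₀ : IsPGroup p D₀) (H₀ : Subgroup G)
    (hH₀ : H₀ = D₀ ⊔ Subgroup.centralizer (D₀ : Set G))
    {b : Set (IrrCharacter ↥H₀)} (hb : IsInducedBlock M H₀ b B)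
    (hcompl : HallCond π ↥(Subgroup.centralizer (D₀ : Set G)))
    (hkerb : ∀ x : ↥(Subgroup.centralizer (D₀ : Set G)),
      x ∈ piCore {q | q ∉ π} ↥(Subgroup.centralizer (D₀ : Set G)) → ∀ θ ∈ b, ∀ h : ↥H₀,
        (h : G) = (x : G) → (θ : ↥H₀ → ℂ) h = (θ : ↥H₀ → ℂ) 1) :
    KerTriv π B₁ := by
  classical
  haveI hPr := isPrime_of_isPModular hM
  have hp := prime_of_isPModular hM
  haveI : Fintype H₀ := Fintype.ofFinite _
  -- the pair on `D₀` inside `H₀`
  have hD₀H : D₀ ≤ H₀ := by rw [hH₀]; exact le_sup_left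
  have hCH : Subgroup.centralizer (D₀ : Set G) ≤ H₀ := by rw [hH₀]; exact le_sup_right
  have hHN : H₀ ≤ Subgroup.normalizer (D₀ : Set G) := by
    rw [hH₀]
    exact sup_le Subgroup.le_normalizer (Subgroup.centralizer_le_normalizer _)
  haveI hD₀n : (D₀.subgroupOf H₀).Normal := Subgroup.normal_subgroupOf_of_le_normalizer hHN
  obtain ⟨χb, hbeq⟩ := hb.1
  subst hbeq
  obtain ⟨f', hf'⟩ := exists_pair_of_normal hM χb (D₀.subgroupOf H₀) hD₀.comap_subtype
  have hup : upSub H₀ (D₀.subgroupOf H₀) = D₀ := upSub_subgroupOf H₀ hD₀H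
  have hC : Subgroup.centralizer ((upSub H₀ (D₀.subgroupOf H₀) : Subgroup G) : Set G) ≤ H₀ := by
    rw [hup]; exact hCH
  have ha := isBrauerPairOf_up H₀ hM hb hC hf'
  -- the kernel condition for `f'`
  have hLn : ((KG π D₀).subgroupOf H₀).Normal :=
    Subgroup.normal_subgroupOf_of_le_normalizer (hHN.trans (normalizer_le_normalizer_KG π D₀))
  have hLp : ¬ p ∣ Nat.card ((KG π D₀).subgroupOf H₀) :=
    fun h => not_dvd_card_KG hp hpπ D₀ (h.trans (card_subgroupOf_dvd _ _))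
  have htf' : KerTriv π f' := by
    intro y hy ξ hξ
    have key := pair_iff hM hf' ((KG π D₀).subgroupOf H₀) hLp (mem_blockOf_self χb) hξ
    refine key.1 (fun h hh => ?_) y ?_
    · obtain ⟨x, hx, hxh⟩ := Subgroup.mem_subgroupOf.1 hh
      exact hkerb x hx χb (mem_blockOf_self χb) h hxh.symm
    · rw [Subgroup.mem_subgroupOf]
      have hyC : ((y : H₀) : G) ∈ Subgroup.centralizer (D₀ : Set G) :=
        coe_mem_centralizer_of_subgroupOf H₀ hD₀H y.2
      refine (mem_KG_iff π D₀ ⟨((y : H₀) : G), hyC⟩).2 (hcompl _ ?_)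
      intro q hq hdvd
      have h1 : orderOf (⟨((y : H₀) : G), hyC⟩ : Subgroup.centralizer (D₀ : Set G)) =
          orderOf y := by
        rw [← Subgroup.orderOf_coe, ← Subgroup.orderOf_coe y, ← Subgroup.orderOf_coe (y : H₀)]
      rw [h1] at hdvd
      have h2 : orderOf y ∣ Nat.card (piCore {q | q ∉ π}
          ↥(Subgroup.centralizer ((D₀.subgroupOf H₀ : Subgroup H₀) : Set H₀))) := by
        have := orderOf_dvd_natCard (⟨y, hy⟩ : piCore {q | q ∉ π}
          ↥(Subgroup.centralizer ((D₀.subgroupOf H₀ : Subgroup H₀) : Set H₀)))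
        rwa [← Subgroup.orderOf_coe] at this
      exact piCore_isPiCard {q | q ∉ π} q hq (hdvd.trans h2)
  have hta : KerTriv π (upBlock H₀ (D₀.subgroupOf H₀) f') :=
    (kerTriv_upBlock H₀ _ hC f').2 htf'
  have hHa : HallCond π
      ↥(Subgroup.centralizer ((upSub H₀ (D₀.subgroupOf H₀) : Subgroup G) : Set G)) := by
    rw [hup]; exact hcompl
  -- the maximal pair coming from `B₁`
  set N := Subgroup.normalizer (D : Set G) with hN
  haveI : Fintype N := Fintype.ofFinite _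
  have hDN : D ≤ N := Subgroup.le_normalizer
  obtain ⟨χ₁', hB₁eq⟩ := hB₁.1
  subst hB₁eq
  obtain ⟨θN, hmaxN⟩ := exists_root_pair hM χ₁' (D.subgroupOf N) hB₁D
  have hupN : upSub N (D.subgroupOf N) = D := upSub_subgroupOf N hDN
  have hCN : Subgroup.centralizer ((upSub N (D.subgroupOf N) : Subgroup G) : Set G) ≤ N := by
    rw [hupN]
    exact Subgroup.centralizer_le_normalizer _
  have hmax₁ : IsMaximalBrauerPair p M B (upSub N (D.subgroupOf N))
      (upBlock N (D.subgroupOf N) (blockOf M (θN : _ → ℂ))) := by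
    refine isMaximal_of_defectGroup hM (isBrauerPairOf_up N hM hB₁ hCN hmaxN.1) ?_
    rw [hupN]
    exact hBD
  obtain ⟨x, hx⟩ := exists_conj_le_of_maximal hM hmax₁ ha
  have hx' : Relation.ReflTransGen (NormalSubpairRel p M)
      (⟨(upSub H₀ (D₀.subgroupOf H₀)).map (MulAut.conj x).toMonoidHom,
        conjBlock (upSub H₀ (D₀.subgroupOf H₀)) x (upBlock H₀ (D₀.subgroupOf H₀) f')⟩ :
          BrauerPairIdx G)
      ⟨upSub N (D.subgroupOf N), upBlock N (D.subgroupOf N) (blockOf M (θN : _ → ℂ))⟩ := hx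
  have h1 := kerTriv_up_of_reflTransGen hM hpπ hx'
    ⟨(kerTriv_conjBlock x _ _).2 hta, (hallCond_conj x _).2 hHa⟩
  have h2 := (kerTriv_upBlock N (D.subgroupOf N) hCN _).1 h1.1
  exact kerTriv_block_of_pair hM hpπ hmaxN.1 h2

end Main

end Cfsg.Agent.Lib.H23.PiKernel
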