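import Mathlib
import Cfsg.Prelude.Def_BrauerPairs
import Cfsg.Prelude.Def_OddOrderLocal
import Cfsg.Agent.Lib.H23.PiKernelD
import Cfsg.Agent.Lib.H23.BlockVanishP
import Cfsg.Agent.Lib.H23.BlockPrincipalLocal

/-!
# `π'`-cores in the kernels of blocks: constancy on cosets (helper23)

* `irr_eq_sum_blockCoeff`: `χ(g) = ∑_b ∑_{k ∈ C} e_b(k) χ(k g)`;
* `const_on_cosets` (S4727): under the hypothesis of `descends`, if `y` is a `p`-element and
  `O_{π'}(C_G(y))` contains every `π'`-element of `C_G(y)`, then `χ(y x) = χ(y)` for `χ ∈ B` and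
  every `π'`-element `x` of `C_G(y)`.
-/

set_option autoImplicit false

namespace Cfsg.Agent.Lib.H23.PiKernel

open Cfsg MonoidAlgebra Cfsg.Agent.Lib.H23 Cfsg.Agent.Lib.H24 Cfsg.Agent.Lib.L0
  Cfsg.Agent.Lib.L0.BrauerNormal Cfsg.Agent.Lib.H19
open scoped ComplexConjugate

section Sum

variable {G : Type*} [Group G] [Fintype G] {M : Ideal AlgInt}

open scoped Classical in
theorem irr_eq_sum_blockCoeff [hPr : M.IsPrime] (C : Subgroup G) [Fintype C]
    [Fintype (IrrCharacter C)] (χ : G → ℂ) (g : G) :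
    χ g = ∑ B' ∈ (Finset.univ.image (fun ξ : IrrCharacter C => blockOf M (ξ : C → ℂ))),
      ∑ k : C, blockCoeff B' k * χ ((k : G) * g) := by
  have h1 := sum_blockIdem_eq_one (G := C) (M := M)
  have h2 : χ g = ∑ k : C, (1 : MonoidAlgebra ℂ C).coeff k * χ ((k : G) * g) := by
    rw [MonoidAlgebra.one_def]
    simp only [MonoidAlgebra.coeff_single, Finsupp.single_apply, ite_mul, one_mul, zero_mul]
    rw [Finset.sum_ite_eq]
    simp
  rw [h2, ← h1]
  simp only [MonoidAlgebra.coeff_sum, Finsupp.finsetSum_apply, Finset.sum_mul]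
  rw [Finset.sum_comm]
  refine Finset.sum_congr rfl (fun B' _ => ?_)
  simp only [coeff_blockIdem]

end Sum

section Main

variable {G : Type*} [Group G] [Fintype G] {p : ℕ} [Fact p.Prime] {M : Ideal AlgInt} {π : Set ℕ}

/-- **Constancy on cosets** (S4727). -/
theorem const_on_cosets (hM : IsPModular p M) (hpπ : p ∈ π)
    {B : Set (IrrCharacter G)} (hB : IsPBlock M B) {D : Subgroup G}
    (hBD : IsDefectGroup p M B D)
    {B₁ : Set (IrrCharacter ↥(Subgroup.normalizer (D : Set G)))}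
    (hB₁ : IsInducedBlock M (Subgroup.normalizer (D : Set G)) B₁ B)
    (hB₁D : IsDefectGroup p M B₁ (D.subgroupOf (Subgroup.normalizer (D : Set G))))
    (hker : KerTriv π B₁) (y : G) (hy : ∃ k : ℕ, orderOf y = p ^ k)
    (hC : HallCond π ↥(Subgroup.centralizer ({y} : Set G))) :
    ∀ χ ∈ B, ∀ x : G, x ∈ Subgroup.centralizer ({y} : Set G) →
      (∀ q : ℕ, q.Prime → q ∣ orderOf x → q ∉ π) → (χ : G → ℂ) (y * x) = (χ : G → ℂ) y := by
  classical
  haveI hPr := isPrime_of_isPModular hM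
  have hp := prime_of_isPModular hM
  set C := Subgroup.centralizer ({y} : Set G) with hCdef
  haveI : Fintype C := Fintype.ofFinite _
  haveI : Fintype (IrrCharacter C) := Fintype.ofFinite _
  intro χ hχ x hxC hxπ
  have hyC : y ∈ C := zpowers_le_centralizer_self y (Subgroup.mem_zpowers y)
  have hcomm : Commute y x := (Subgroup.mem_centralizer_iff.1 hxC y (Set.mem_singleton y))
  have hxcore : (⟨x, hxC⟩ : C) ∈ piCore {q | q ∉ π} ↥C := by
    apply hC
    intro q hq hdvd
    apply hxπ q hq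
    rwa [← Subgroup.orderOf_coe] at hdvd
  have hxreg : ¬ p ∣ orderOf x := fun h => hxπ p hp h hpπ
  -- vanishing of the contributions of the blocks not inducing `B`
  have hvan : ∀ (ξ₀ : IrrCharacter C) (χ₁ : IrrCharacter G),
      IsInducedBlock M C (blockOf M (ξ₀ : C → ℂ)) (blockOf M (χ₁ : G → ℂ)) →
      χ ∉ blockOf M (χ₁ : G → ℂ) → ∀ xr : C, ¬ p ∣ orderOf xr →
      ∑ k : C, blockCoeff (blockOf M (ξ₀ : C → ℂ)) k * (χ : G → ℂ) ((k : G) * (y * (xr : G))) =
        0 := by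
    intro ξ₀ χ₁ hind hnot xr hxr
    have hxr' : ¬ p ∣ orderOf (xr : G) := by rwa [Subgroup.orderOf_coe]
    have hcomm' : Commute y (xr : G) :=
      (Subgroup.mem_centralizer_iff.1 xr.2 y (Set.mem_singleton y))
    exact second_main C hM hind (⟨y, hyC⟩ * xr) (by
      intro z hz
      have h1 : IsPPart p (y * (xr : G)) y := isPPart_mul hcomm' hy hxr'
      have h2 : z = y := IsPPart.unique hp hz h1
      rw [h2]) χ hnot
  have key : ∀ ξ₀ : IrrCharacter C,
      ∑ k : C, blockCoeff (blockOf M (ξ₀ : C → ℂ)) k * (χ : G → ℂ) ((k : G) * (y * x)) =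
      ∑ k : C, blockCoeff (blockOf M (ξ₀ : C → ℂ)) k * (χ : G → ℂ) ((k : G) * y) := by
    intro ξ₀
    obtain ⟨χ₁, hind⟩ := exists_isInducedBlock_centralizer hM hy ξ₀
    by_cases hχ₁ : χ ∈ blockOf M (χ₁ : G → ℂ)
    · have hBeq : blockOf M (χ₁ : G → ℂ) = B := block_eq_of_mem ⟨χ₁, rfl⟩ hB hχ₁ hχ
      rw [hBeq] at hind
      obtain ⟨D₀, hD₀⟩ := exists_isDefectGroup hM ξ₀
      have hC' : Subgroup.centralizer ((D₀.map C.subtype : Subgroup G) : Set G) ≤ C := by
        haveI hzn : (Subgroup.zpowers (⟨y, hyC⟩ : C)).Normal := by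
          refine ⟨fun n hn c => ?_⟩
          have h1 : c * n * c⁻¹ = n := by
            obtain ⟨i, rfl⟩ := Subgroup.mem_zpowers_iff.1 hn
            have h2 : Commute c (⟨y, hyC⟩ : C) := by
              apply Subtype.ext
              exact (Subgroup.mem_centralizer_iff.1 c.2 y (Set.mem_singleton y)).symm
            rw [(h2.zpow_right i).eq, mul_inv_cancel_right]
          rw [h1]
          exact hn
        have hzp : IsPGroup p (Subgroup.zpowers (⟨y, hyC⟩ : C)) := by
          apply zpowers_isPGroup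
          obtain ⟨k, hk⟩ := hy
          exact ⟨k, by rw [← Subgroup.orderOf_coe]; exact hk⟩
        have hle := normal_le_defectGroup hM ξ₀ (Subgroup.zpowers (⟨y, hyC⟩ : C)) hzp D₀ hD₀
        intro c hc
        rw [hCdef, Subgroup.mem_centralizer_iff]
        intro z hz
        rw [Set.mem_singleton_iff] at hz
        subst hz
        exact Subgroup.mem_centralizer_iff.1 hc z
          ⟨⟨z, hyC⟩, hle (Subgroup.mem_zpowers _), rfl⟩
      have hk := descends hM hpπ hBD hB₁ hB₁D hker C hind hD₀ hC'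
      have hxinv : ∀ ψ ∈ blockOf M (ξ₀ : C → ℂ),
          (ψ : C → ℂ) (⟨x, hxC⟩ : C)⁻¹ = (ψ : C → ℂ) 1 :=
        fun ψ hψ => hk _ (Subgroup.inv_mem _ hxcore) ψ hψ
      refine (Fintype.sum_equiv (Equiv.mulRight (⟨x, hxC⟩ : C)⁻¹) _ _ (fun k => ?_)).symm
      simp only [Equiv.coe_mulRight]
      rw [blockCoeff_mul_of_ker _ hxinv]
      congr 2
      simp only [Subgroup.coe_mul, Subgroup.coe_inv]
      rw [mul_assoc, hcomm.eq, inv_mul_cancel_left]
    · have h1 := hvan ξ₀ χ₁ hind hχ₁ ⟨x, hxC⟩ (by rw [← Subgroup.orderOf_coe]; exact hxreg)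
      have h2 := hvan ξ₀ χ₁ hind hχ₁ 1 (by rw [orderOf_one]; exact hp.not_dvd_one)
      simp only [Subgroup.coe_one, mul_one] at h2
      rw [h1, h2]
  rw [irr_eq_sum_blockCoeff (M := M) C (χ : G → ℂ) (y * x),
    irr_eq_sum_blockCoeff (M := M) C (χ : G → ℂ) y]
  refine Finset.sum_congr rfl (fun B' hB' => ?_)
  obtain ⟨ξ₀, -, rfl⟩ := Finset.mem_image.1 hB'
  exact key ξ₀

end Main

end Cfsg.Agent.Lib.H23.PiKernel
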