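import Mathlib
import Cfsg.Agent.Lib.H22.KleinGroup
import Cfsg.Agent.Lib.L0.CyclicSylowTwo

/-!
# Groups with quaternion Sylow 2-subgroups of order 8: group theory (helper23)

* `q8_*`: decidable facts on `QuaternionGroup 2`;
* `normal_le_sylow`: a normal `p`-subgroup lies in every Sylow `p`-subgroup;
* `le_zpowers_of_comm`: a 2-subgroup containing and centralizing a noncentral 2-element `t` is
  inside `⟨t⟩`, and `t ^ 4 = 1`;
* `quotient_klein`: `|S| = 8`, `|Z(G)| = 2`, `O(G) = 1`, `S ≠ G`: `G / Z(G)` has Klein four Sylow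
  2-subgroups and one class of involutions.
-/

set_option autoImplicit false

namespace Cfsg.Agent.Lib.H23.QuatBlock

theorem q8_pow_four : ∀ x : QuaternionGroup 2, x ^ 4 = 1 := by decide

theorem q8_involution_unique : ∀ s t : QuaternionGroup 2, s ≠ 1 → s * s = 1 → t ≠ 1 →
    t * t = 1 → s = t := by decide

theorem q8_comm_mem : ∀ a b : QuaternionGroup 2, a * a ≠ 1 → a * b = b * a →
    (b = 1 ∨ b = a ∨ b = a * a ∨ b = a * a * a) := by decide

section

variable {G : Type*} [Group G]

theorem mem_sylow_smul_iff {p : ℕ} (P : Sylow p G) (g x : G) :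
    x ∈ ((g • P : Sylow p G) : Subgroup G) ↔ g⁻¹ * x * g ∈ (P : Subgroup G) := by
  rw [Sylow.coe_subgroup_smul, Subgroup.mem_pointwise_smul_iff_inv_smul_mem]
  simp only [MulAut.smul_def, ← map_inv, MulAut.conj_apply, inv_inv]

theorem normal_le_sylow [Finite G] {p : ℕ} [Fact p.Prime] (N : Subgroup G) [hN : N.Normal]
    (hNp : IsPGroup p N) (P : Sylow p G) : N ≤ (P : Subgroup G) := by
  obtain ⟨Q, hQ⟩ := hNp.exists_le_sylow
  obtain ⟨g, hg⟩ := MulAction.exists_smul_eq G Q P
  intro x hx
  rw [← hg, mem_sylow_smul_iff]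
  apply hQ
  have := hN.conj_mem x hx g⁻¹
  rwa [inv_inv] at this

theorem le_zpowers_of_comm [Finite G] (S : Sylow 2 G) (e : (S : Subgroup G) ≃* QuaternionGroup 2) (z : G)
    (hzS : z ∈ (S : Subgroup G)) (hz1 : z ≠ 1) (hzz : z * z = 1) (hzc : ∀ g : G, g * z = z * g)
    {t : G} (ht1 : t ≠ 1) (htz : t ≠ z) (R : Subgroup G) (hR : IsPGroup 2 R) (htR : t ∈ R)
    (hRc : ∀ b ∈ R, b * t = t * b) : R ≤ Subgroup.zpowers t ∧ t ^ 4 = 1 := by
  haveI : Fact (Nat.Prime 2) := ⟨Nat.prime_two⟩
  obtain ⟨Q, hQ⟩ := hR.exists_le_sylow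
  obtain ⟨g, hg⟩ := MulAction.exists_smul_eq G S Q
  have hconj : ∀ b ∈ R, g⁻¹ * b * g ∈ (S : Subgroup G) := by
    intro b hb
    rw [← mem_sylow_smul_iff, hg]
    exact hQ hb
  set t' : G := g⁻¹ * t * g with ht'
  have ht'S : t' ∈ (S : Subgroup G) := hconj t htR
  have hback : ∀ x : G, x = g * (g⁻¹ * x * g) * g⁻¹ := fun x => by group
  set a : QuaternionGroup 2 := e ⟨t', ht'S⟩ with ha
  set ζ : QuaternionGroup 2 := e ⟨z, hzS⟩ with hζ
  have hζ1 : ζ ≠ 1 := by
    intro h
    rw [hζ, MulEquiv.map_eq_one_iff] at h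
    exact hz1 (congrArg Subtype.val h)
  have hζζ : ζ * ζ = 1 := by
    rw [hζ, ← map_mul, MulEquiv.map_eq_one_iff]
    exact Subtype.ext hzz
  have haa : a * a ≠ 1 := by
    intro h
    by_cases ha1 : a = 1
    · rw [ha, MulEquiv.map_eq_one_iff] at ha1
      have h1 : t' = 1 := congrArg Subtype.val ha1
      apply ht1
      rw [hback t, ← ht', h1]
      group
    · have h2 := q8_involution_unique a ζ ha1 h hζ1 hζζ
      have h3 : (⟨t', ht'S⟩ : (S : Subgroup G)) = ⟨z, hzS⟩ := e.injective h2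
      have h4 : t' = z := congrArg Subtype.val h3
      apply htz
      rw [hback t, ← ht', h4, hzc g, mul_inv_cancel_right]
  constructor
  · intro b hb
    have hb'S := hconj b hb
    set b' : G := g⁻¹ * b * g with hb'
    have hcomm : t' * b' = b' * t' := by
      have h1 := hRc b hb
      rw [ht', hb']
      have e1 : g⁻¹ * t * g * (g⁻¹ * b * g) = g⁻¹ * (t * b) * g := by group
      have e2 : g⁻¹ * b * g * (g⁻¹ * t * g) = g⁻¹ * (b * t) * g := by group
      rw [e1, e2, h1]
    have hcomm' : a * e ⟨b', hb'S⟩ = e ⟨b', hb'S⟩ * a := by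
      rw [ha, ← map_mul, ← map_mul]
      congr 1
      exact Subtype.ext hcomm
    have hpow : ∀ n : ℕ, g * t' ^ n * g⁻¹ = t ^ n := by
      intro n
      rw [← conj_pow, ht']
      congr 1
      group
    have hmem : ∀ n : ℕ, b' = t' ^ n → b ∈ Subgroup.zpowers t := by
      intro n hn
      rw [hback b, ← hb', hn, hpow]
      exact Subgroup.pow_mem _ (Subgroup.mem_zpowers t) n
    rcases q8_comm_mem a (e ⟨b', hb'S⟩) haa hcomm' with h | h | h | h
    · apply hmem 0
      rw [pow_zero]
      rw [MulEquiv.map_eq_one_iff] at h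
      exact congrArg Subtype.val h
    · apply hmem 1
      rw [pow_one]
      exact congrArg Subtype.val (e.injective h)
    · apply hmem 2
      rw [pow_two]
      rw [ha, ← map_mul] at h
      exact congrArg Subtype.val (e.injective h)
    · apply hmem 3
      rw [ha, ← map_mul, ← map_mul] at h
      have := congrArg Subtype.val (e.injective h)
      simp only [Subgroup.coe_mul] at this
      rw [this]
      simp only [pow_succ, pow_zero, one_mul]
  · have h1 := q8_pow_four a
    rw [ha, ← map_pow, MulEquiv.map_eq_one_iff] at h1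
    have h2 : t' ^ 4 = 1 := by
      have := congrArg Subtype.val h1
      simpa using this
    rw [hback t, ← ht', conj_pow, h2]
    group

end

end Cfsg.Agent.Lib.H23.QuatBlock
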