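import Cfsg.Agent.Lib.H23.QuatBlockA

/-!
# `G / Z(G)` for quaternion Sylow 2-subgroups of order 8 (helper23)

`quotient_klein`: `|S| = 8`, `|Z(G)| = 2`, `O(G) = 1`, `S ≠ G`: `G / Z(G)` has Klein four Sylow
2-subgroups and one class of involutions.
-/

set_option autoImplicit false

namespace Cfsg.Agent.Lib.H23.QuatBlock

section

variable {G : Type*} [Group G] [Finite G]

theorem no_normal_odd (S : Sylow 2 G) (hS : Nat.card (S : Subgroup G) = 8)
    (hZ : Nat.card (Subgroup.center G) = 2)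
    (hO : ∀ N : Subgroup G, N.Normal → Odd (Nat.card N) → N = ⊥)
    (hG : (S : Subgroup G) ≠ ⊤) :
    ¬ ∃ N : Subgroup (G ⧸ Subgroup.center G), N.Normal ∧ Nat.card N = (S : Subgroup G).index := by
  haveI : Fact (Nat.Prime 2) := ⟨Nat.prime_two⟩
  set m := (S : Subgroup G).index with hm
  have hmodd : ¬ 2 ∣ m := S.not_dvd_index
  have hmpos : 0 < m := Nat.pos_of_ne_zero (by
    rw [hm]
    exact Subgroup.index_ne_zero_of_finite)
  have hGcard : Nat.card G = 8 * m := by rw [← hS, Subgroup.card_mul_index]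
  have hQcard : Nat.card (G ⧸ Subgroup.center G) = 4 * m := by
    have h1 := Subgroup.card_eq_card_quotient_mul_card_subgroup (Subgroup.center G)
    rw [hZ, hGcard] at h1
    omega
  rintro ⟨Nb, hNbn, hNbc⟩
  set N : Subgroup G := Nb.comap (QuotientGroup.mk' (Subgroup.center G)) with hN
  haveI hNn : N.Normal := hNbn.comap _
  have hidx : N.index = Nb.index :=
    Subgroup.index_comap_of_surjective Nb (QuotientGroup.mk'_surjective _)
  have hNbidx : Nb.index = 4 := by
    have h1 := Subgroup.index_mul_card Nb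
    rw [hNbc, hQcard] at h1
    exact Nat.eq_of_mul_eq_mul_right hmpos h1
  have hNcard : Nat.card N = 2 * m := by
    have h1 := Subgroup.index_mul_card N
    rw [hidx, hNbidx, hGcard] at h1
    omega
  obtain ⟨Q⟩ : Nonempty (Sylow 2 N) := inferInstance
  have hfac : (2 * m).factorization 2 = 1 := by
    rw [Nat.factorization_mul (by norm_num) hmpos.ne', Finsupp.add_apply,
      Nat.Prime.factorization_self Nat.prime_two,
      Nat.factorization_eq_zero_of_not_dvd hmodd]
  have hQ2 : Nat.card (Q : Subgroup N) = 2 := by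
    rw [Q.card_eq_multiplicity, hNcard, hfac, pow_one]
  have hcyc : IsCyclic (Q : Subgroup N) := isCyclic_of_prime_card hQ2
  obtain ⟨K, hKn, hKc, hKmem⟩ := Cfsg.Agent.Lib.L0.exists_odd_normal_complement_of_cyclic_sylow
    Q hcyc (by rw [hNcard]; exact dvd_mul_right 2 m)
  have hKcard : Nat.card K = m := by
    have h1 := hKc.card_mul_card
    rw [hQ2, hNcard] at h1
    omega
  set K' : Subgroup G := K.map N.subtype with hK'
  have hK'card : Nat.card K' = m := by
    rw [hK', Subgroup.card_map_of_injective (Subgroup.subtype_injective N), hKcard]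
  have hK'n : K'.Normal := by
    constructor
    intro x hx g
    obtain ⟨k, hk, rfl⟩ := hx
    have hmemN : g * (k : G) * g⁻¹ ∈ N := hNn.conj_mem k k.2 g
    refine ⟨⟨g * (k : G) * g⁻¹, hmemN⟩, ?_, rfl⟩
    show (⟨g * (k : G) * g⁻¹, hmemN⟩ : N) ∈ K
    rw [hKmem]
    have h1 := (hKmem k).1 hk
    have h2 : orderOf (⟨g * (k : G) * g⁻¹, hmemN⟩ : N) = orderOf k := by
      rw [← Subgroup.orderOf_coe, ← Subgroup.orderOf_coe]
      simp only
      have := (MulAut.conj g).orderOf_eq (k : G)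
      rw [MulAut.conj_apply] at this
      exact this
    rw [h2]
    exact h1
  have hK'bot := hO K' hK'n (by
    rw [hK'card, ← Nat.not_even_iff_odd, even_iff_two_dvd]
    exact hmodd)
  have hm1 : m = 1 := by
    rw [← hK'card, hK'bot]
    exact Subgroup.card_bot
  apply hG
  rw [← Subgroup.index_eq_one]
  exact hm1

theorem quotient_klein (S : Sylow 2 G) (hS : Nat.card (S : Subgroup G) = 8)
    (hZ : Nat.card (Subgroup.center G) = 2)
    (hO : ∀ N : Subgroup G, N.Normal → Odd (Nat.card N) → N = ⊥)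
    (hG : (S : Subgroup G) ≠ ⊤) (P : Sylow 2 (G ⧸ Subgroup.center G)) :
    IsKleinFour (P : Subgroup (G ⧸ Subgroup.center G)) ∧
      ∀ s t : G ⧸ Subgroup.center G, orderOf s = 2 → orderOf t = 2 → IsConj s t := by
  haveI : Fact (Nat.Prime 2) := ⟨Nat.prime_two⟩
  set m := (S : Subgroup G).index with hm
  have hmodd : ¬ 2 ∣ m := S.not_dvd_index
  have hmodd' : Odd m := by
    rw [← Nat.not_even_iff_odd, even_iff_two_dvd]
    exact hmodd
  have hGcard : Nat.card G = 8 * m := by rw [← hS, Subgroup.card_mul_index]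
  have hQcard : Nat.card (G ⧸ Subgroup.center G) = 4 * m := by
    have h1 := Subgroup.card_eq_card_quotient_mul_card_subgroup (Subgroup.center G)
    rw [hZ, hGcard] at h1
    omega
  have hnc := no_normal_odd S hS hZ hO hG
  obtain ⟨hcard, hcomm, hfus⟩ := Cfsg.Agent.Lib.H22.KleinGroup.fusion hmodd' hQcard hnc P
  -- an involution of P
  obtain ⟨x₀, hx₀⟩ := exists_prime_orderOf_dvd_card' (G := (P : Subgroup (G ⧸ Subgroup.center G))) 2
    (by rw [hcard]; norm_num)
  have hx₀1 : (x₀ : G ⧸ Subgroup.center G) ≠ 1 := by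
    intro h
    have : x₀ = 1 := Subtype.ext h
    rw [this, orderOf_one] at hx₀
    norm_num at hx₀
  have hx₀sq : (x₀ : G ⧸ Subgroup.center G) * x₀ = 1 := by
    have := pow_orderOf_eq_one x₀
    rw [hx₀, pow_two] at this
    exact congrArg Subtype.val this
  have hsq : ∀ x ∈ (P : Subgroup (G ⧸ Subgroup.center G)), x * x = 1 := by
    intro x hx
    by_cases hx1 : x = 1
    · rw [hx1, one_mul]
    · obtain ⟨h, hh⟩ := hfus x₀ x₀.2 hx₀1 x hx hx1
      rw [← hh]
      have : h * ↑x₀ * h⁻¹ * (h * ↑x₀ * h⁻¹) = h * (↑x₀ * ↑x₀) * h⁻¹ := by group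
      rw [this, hx₀sq]
      group
  refine ⟨⟨hcard, ?_⟩, ?_⟩
  · have h1 : Monoid.exponent (P : Subgroup (G ⧸ Subgroup.center G)) ∣ 2 := by
      apply Monoid.exponent_dvd_of_forall_pow_eq_one
      intro x
      rw [pow_two]
      exact Subtype.ext (hsq x x.2)
    rcases (Nat.dvd_prime Nat.prime_two).1 h1 with h | h
    · exfalso
      rw [Monoid.exp_eq_one_iff] at h
      have : x₀ = 1 := Subsingleton.elim _ _
      exact hx₀1 (congrArg Subtype.val this)
    · exact h
  · have key : ∀ s : G ⧸ Subgroup.center G, orderOf s = 2 →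
        ∃ g : G ⧸ Subgroup.center G, g⁻¹ * s * g ∈ (P : Subgroup (G ⧸ Subgroup.center G)) ∧
          g⁻¹ * s * g ≠ 1 := by
      intro s hs
      have hs2 : s ^ (2 ^ 1) = 1 := by rw [pow_one, ← hs, pow_orderOf_eq_one]
      obtain ⟨g, hg⟩ := Cfsg.Agent.Lib.H22.KleinGroup.exists_conj_mem_sylow P hs2
      refine ⟨g, hg, ?_⟩
      intro h
      have h1 : s = 1 := by
        have : s = g * (g⁻¹ * s * g) * g⁻¹ := by group
        rw [this, h]
        group
      rw [h1, orderOf_one] at hs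
      norm_num at hs
    intro s t hs ht
    obtain ⟨a, ha, ha1⟩ := key s hs
    obtain ⟨b, hb, hb1⟩ := key t ht
    obtain ⟨h, hh⟩ := hfus _ ha ha1 _ hb hb1
    rw [isConj_iff]
    refine ⟨b * h * a⁻¹, ?_⟩
    have e1 : b * h * a⁻¹ * s * (b * h * a⁻¹)⁻¹ = b * (h * (a⁻¹ * s * a) * h⁻¹) * b⁻¹ := by group
    rw [e1, hh]
    group

end

end Cfsg.Agent.Lib.H23.QuatBlock
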