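import Cfsg.Agent.Lib.H23.QuatBlockB
import Cfsg.Agent.Lib.H23.KleinBlockD
import Cfsg.Agent.Lib.H23.BlockQuotientP
import Cfsg.Agent.Lib.L0.PrincipalQuot

/-!
# Quaternion Sylow 2-subgroups of order 8: sections (helper23)

* `mem_principal_infl_iff`: inflation through a central `p`-subgroup preserves membership in the
  principal block;
* `sum_sq_section`: `∑_{χ ∈ B₀(G)} |χ(x)|² = 2^k ≤ 4` when the image of `x` in `G/Z(G)` is
  2-singular.
-/

set_option autoImplicit false

namespace Cfsg.Agent.Lib.H23.QuatBlock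

open Cfsg MonoidAlgebra Cfsg.Agent.Lib.H23 Cfsg.Agent.Lib.H24
open scoped ComplexConjugate

section

variable {G : Type*} [Group G] [Fintype G] {p : ℕ} {M : Ideal AlgInt}

theorem mem_principal_infl_iff (hM : IsPModular p M) (Z : Subgroup G) [Z.Normal]
    (hZp : IsPGroup p Z) (hZc : Z ≤ Subgroup.center G) (ψ : IrrCharacter (G ⧸ Z)) :
    inflIrr Z ψ ∈ principalBlock M G ↔ ψ ∈ principalBlock M (G ⧸ Z) := by
  have hidx : (Subgroup.centralizer (Z : Set G)).index = p ^ 0 := by
    rw [pow_zero, Subgroup.index_eq_one, eq_top_iff]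
    intro g _
    rw [Subgroup.mem_centralizer_iff]
    intro n hn
    exact (Subgroup.mem_center_iff.1 (hZc hn) g).symm
  exact (sameBlock_infl_iff Z hM hZp hidx (trivialIrr (G ⧸ Z)) ψ).symm

end

section Quat

variable {G : Type*} [Group G] [Fintype G] {M : Ideal AlgInt}

open scoped Classical in
theorem sum_sq_section [Fintype (IrrCharacter G)] (hM : IsPModular 2 M) (S : Sylow 2 G)
    (e : (S : Subgroup G) ≃* QuaternionGroup 2) (z : G)
    (hzS : z ∈ (S : Subgroup G)) (hz1 : z ≠ 1) (hzz : z * z = 1)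
    (hzc : z ∈ Subgroup.center G) (x : G)
    (hx : 2 ∣ orderOf (x : G ⧸ Subgroup.center G)) :
    ∃ k : ℕ, k ≤ 2 ∧ ∑ χ : IrrCharacter G, (if χ ∈ principalBlock M G then
      (χ : G → ℂ) x * conj ((χ : G → ℂ) x) else 0) = ((2 ^ k : ℕ) : ℂ) := by
  haveI : Fact (Nat.Prime 2) := ⟨Nat.prime_two⟩
  have hp2 : Nat.Prime 2 := Nat.prime_two
  obtain ⟨t, y, hty, hcomm, ⟨j, hj⟩, hy⟩ := exists_isPPart hp2 x (isOfFinOrder_of_finite x)
  have htc : t ∉ Subgroup.center G := by
    intro h
    apply hy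
    have h1 : ((x : G) : G ⧸ Subgroup.center G) = (y : G ⧸ Subgroup.center G) := by
      rw [← hty, QuotientGroup.mk_mul, (QuotientGroup.eq_one_iff t).2 h, one_mul]
    rw [h1] at hx
    exact hx.trans (orderOf_map_dvd (QuotientGroup.mk' (Subgroup.center G)) y)
  have ht1 : t ≠ 1 := fun h => htc (h ▸ Subgroup.one_mem _)
  have htz : t ≠ z := fun h => htc (h ▸ hzc)
  have hzc' : ∀ g : G, g * z = z * g := fun g => Subgroup.mem_center_iff.1 hzc g
  set H : Subgroup G := Subgroup.centralizer ({t} : Set G) with hH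
  haveI : Fintype (IrrCharacter H) := Fintype.ofFinite _
  have htH : t ∈ H := Subgroup.mem_centralizer_singleton_iff.2 rfl
  set tH : H := ⟨t, htH⟩ with htHdef
  have htHc : tH ∈ Subgroup.center H := by
    refine Subgroup.mem_center_iff.2 ?_
    intro g
    apply Subtype.ext
    simp only [Subgroup.coe_mul, htHdef]
    exact Subgroup.mem_centralizer_singleton_iff.1 g.2
  obtain ⟨T⟩ : Nonempty (Sylow 2 H) := inferInstance
  have hzpn : (Subgroup.zpowers tH).Normal := by
    constructor
    intro n hn g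
    have hnc : n ∈ Subgroup.center H := by
      obtain ⟨i, rfl⟩ := Subgroup.mem_zpowers_iff.1 hn
      exact Subgroup.zpow_mem _ htHc i
    have : g * n * g⁻¹ = n := by
      rw [Subgroup.mem_center_iff.1 hnc g, mul_inv_cancel_right]
    rw [this]
    exact hn
  have hzpp : IsPGroup 2 (Subgroup.zpowers tH) := by
    apply IsPGroup.of_card (n := j)
    rw [Nat.card_zpowers, ← hj, htHdef, Subgroup.orderOf_mk]
  have htT : tH ∈ (T : Subgroup H) :=
    normal_le_sylow (Subgroup.zpowers tH) hzpp T (Subgroup.mem_zpowers tH)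
  set R : Subgroup G := (T : Subgroup H).map H.subtype with hR
  have hRp : IsPGroup 2 R := T.isPGroup'.map _
  have htR : t ∈ R := ⟨tH, htT, rfl⟩
  have hRc : ∀ b ∈ R, b * t = t * b := by
    rintro b ⟨b', _, rfl⟩
    exact Subgroup.mem_centralizer_singleton_iff.1 b'.2
  obtain ⟨hRle, ht4⟩ := le_zpowers_of_comm S e z hzS hz1 hzz hzc' ht1 htz R hRp htR hRc
  have hRcard : Nat.card R = Nat.card (T : Subgroup H) :=
    Subgroup.card_map_of_injective (Subgroup.subtype_injective H)
  have hT4 : Nat.card (T : Subgroup H) ≤ 4 := by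
    rw [← hRcard]
    refine (Subgroup.card_le_of_le hRle).trans ?_
    rw [Nat.card_zpowers]
    exact orderOf_le_of_pow_eq_one (by norm_num) ht4
  have hcyc : IsCyclic (T : Subgroup H) := by
    let f : (T : Subgroup H) →* Subgroup.zpowers t :=
      { toFun := fun u => ⟨((u : H) : G), hRle ⟨(u : H), u.2, rfl⟩⟩
        map_one' := rfl
        map_mul' := fun _ _ => rfl }
    have hf : Function.Injective f := by
      intro u v huv
      have h1 := congrArg Subtype.val huv
      exact Subtype.ext (Subtype.ext h1)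
    exact isCyclic_of_injective f hf
  have h2H : 2 ∣ Nat.card H := by
    have h1 : orderOf tH ∣ Nat.card H := orderOf_dvd_natCard tH
    rw [htHdef, Subgroup.orderOf_mk, hj] at h1
    rcases j with _ | j
    · exfalso
      rw [pow_zero, orderOf_eq_one_iff] at hj
      exact ht1 hj
    · exact (dvd_pow_self 2 (Nat.succ_ne_zero j)).trans h1
  obtain ⟨K, hKn, hKc, -⟩ :=
    Cfsg.Agent.Lib.L0.exists_odd_normal_complement_of_cyclic_sylow T hcyc h2H
  haveI := hKn
  obtain ⟨k, hk⟩ := T.2.exists_card_eq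
  have hidx : K.index = 2 ^ k := by
    rw [← hk]
    exact hKc.symm.index_eq_card
  have hKN : ¬ 2 ∣ Nat.card K := by
    rw [← hKc.index_eq_card]
    exact T.not_dvd_index
  have hk2 : k ≤ 2 := by
    by_contra hcon
    have h3 : 3 ≤ k := by omega
    have h1 : 2 ^ 3 ≤ 2 ^ k := Nat.pow_le_pow_right (by norm_num) h3
    rw [← hk] at h1
    omega
  have hyH : y ∈ H := Subgroup.mem_centralizer_singleton_iff.2 hcomm.eq.symm
  have hyord : ¬ 2 ∣ orderOf (⟨y, hyH⟩ : H) := by
    rw [Subgroup.orderOf_mk]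
    exact hy
  refine ⟨k, hk2, ?_⟩
  have h1 := section_sum_principal hM t ⟨j, hj⟩ H rfl ⟨y, hyH⟩ hyord
  simp only [hty] at h1
  rw [h1, sum_principal_sq hM K hKN hidx hyord]

end Quat

end Cfsg.Agent.Lib.H23.QuatBlock
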