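import Cfsg.Agent.Lib.H23.MaxPairA
import Cfsg.Agent.Lib.H23.BlockVanishP
import Cfsg.Agent.Lib.H23.Isaacs1129
import Cfsg.Agent.Lib.H24.CharOrth
import Cfsg.Agent.Lib.H23.BlockIdem

set_option autoImplicit false

namespace Cfsg.Agent.Lib.H23.WeightCore

open Cfsg Cfsg.Agent.Lib.H23 Cfsg.Agent.Lib.H24 Cfsg.Agent.Lib.L0 Cfsg.Agent.Lib.H23.MaxPair
open scoped ComplexConjugate

section Surj

variable {A B : Type*} [Group A] [Group B] [Fintype A] [Fintype B]

theorem sum_comp_surjective (π : A →* B) (hπ : Function.Surjective π) (F : B → ℂ) :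
    ∑ a : A, F (π a) = (Nat.card π.ker : ℂ) * ∑ b : B, F b := by
  classical
  rw [← Finset.sum_fiberwise (s := Finset.univ) (g := π) (f := fun a => F (π a)), Finset.mul_sum]
  refine Finset.sum_congr rfl (fun b _ => ?_)
  have h1 : ∀ a ∈ Finset.univ.filter (fun a => π a = b), F (π a) = F b := by
    intro a ha; rw [(Finset.mem_filter.1 ha).2]
  rw [Finset.sum_congr rfl h1, Finset.sum_const, nsmul_eq_mul]
  congr 1
  have h2 := MonoidHom.card_fiber_eq_of_mem_range π (x := b) (y := 1) (hπ b) ⟨1, map_one _⟩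
  rw [h2]
  have h3 : Nat.card π.ker = (Finset.univ.filter (fun a => π a = 1)).card := by
    rw [Nat.card_eq_fintype_card]
    exact Fintype.card_of_subtype _ (fun x => by simp [MonoidHom.mem_ker])
  rw [h3]

theorem classInner_comp_surjective (π : A →* B) (hπ : Function.Surjective π) (f g : B → ℂ) :
    classInner (f ∘ π) (g ∘ π) = classInner f g := by
  unfold classInner
  have h := sum_comp_surjective π hπ (fun b => f b * conj (g b))
  simp only [Function.comp_apply]
  rw [h]
  have h1 : Nat.card A = Nat.card π.ker * Nat.card B := by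
    have h2 := Subgroup.index_ker π
    have h3 : Nat.card π.range = Nat.card B := by
      rw [MonoidHom.range_eq_top.2 hπ]
      exact Nat.card_congr Subgroup.topEquiv.toEquiv
    rw [← h3, ← h2, mul_comm]
    exact (Subgroup.index_mul_card π.ker).symm
  rw [h1]
  have h4 : (Nat.card π.ker : ℂ) ≠ 0 := Nat.cast_ne_zero.2 Nat.card_pos.ne'
  have h5 : (Nat.card B : ℂ) ≠ 0 := Nat.cast_ne_zero.2 Nat.card_pos.ne'
  push_cast
  field_simp

end Surj

section Idem

variable {C : Type*} [Group C] [Fintype C]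

/-- If the block idempotent of `e` acts as the identity on the character `α`, then all irreducible
constituents of `α` lie in `e`. -/
theorem constituent_mem_of_sum_blockCoeff (e : Set (IrrCharacter C)) (α : C → ℂ)
    (hα : IsCharacter C α) (h : ∑ c : C, blockCoeff e c * α c = α 1)
    (θ : IrrCharacter C) (hθ : classInner α (θ : C → ℂ) ≠ 0) : θ ∈ e := by
  classical
  haveI := Fintype.ofFinite (IrrCharacter C)
  have hm : ∀ χ : IrrCharacter C, ∃ k : ℕ, classInner α (χ : C → ℂ) = k := fun χ =>
    classInner_char_irr_nat hα χ.2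
  choose m hm using hm
  have hexp := classFunction_expansion α (isClassFunction_of_isCharacter hα)
  have hval : ∀ c : C, α c = ∑ χ : IrrCharacter C, (m χ : ℂ) * (χ : C → ℂ) c := by
    intro c
    have := congrFun hexp c
    rw [Finset.sum_apply] at this
    rw [this]
    refine Finset.sum_congr rfl (fun χ _ => ?_)
    rw [Pi.smul_apply, smul_eq_mul, hm χ]
  have hcE : ∀ χ : IrrCharacter C, ∑ c : C, blockCoeff e c * (χ : C → ℂ) c =
      if χ ∈ e then (χ : C → ℂ) 1 else 0 := by
    intro χ
    have h1 := omega_blockIdem e χ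
    rw [omega, blockIdem, charEval_ofFun] at h1
    have h2 := irr_one_ne_zero χ
    split_ifs with hχ
    · rw [if_pos hχ] at h1
      exact (div_eq_one_iff_eq h2).1 h1
    · rw [if_neg hχ] at h1
      rcases div_eq_zero_iff.1 h1 with h3 | h3
      · exact h3
      · exact absurd h3 h2
  have hL : ∑ c : C, blockCoeff e c * α c =
      ∑ χ : IrrCharacter C, (m χ : ℂ) * (if χ ∈ e then (χ : C → ℂ) 1 else 0) := by
    simp only [hval, Finset.mul_sum]
    rw [Finset.sum_comm]
    refine Finset.sum_congr rfl (fun χ _ => ?_)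
    rw [← hcE χ, Finset.mul_sum]
    refine Finset.sum_congr rfl (fun c _ => ?_)
    ring
  rw [hL, hval 1] at h
  by_contra hne
  have h3 : ∑ χ : IrrCharacter C, (m χ * (if χ ∈ e then 0 else charDegree (χ : C → ℂ)) : ℕ) = 0 := by
    have h4 : ((∑ χ : IrrCharacter C, (m χ * (if χ ∈ e then 0 else charDegree (χ : C → ℂ)) : ℕ) : ℕ) : ℂ)
        = 0 := by
      rw [Nat.cast_sum]
      have h5 : ∀ χ : IrrCharacter C, ((m χ * (if χ ∈ e then 0 else charDegree (χ : C → ℂ)) : ℕ) : ℂ) =
          (m χ : ℂ) * (χ : C → ℂ) 1 - (m χ : ℂ) * (if χ ∈ e then (χ : C → ℂ) 1 else 0) := by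
        intro χ
        split_ifs
        · simp
        · rw [Nat.cast_mul, Cfsg.Agent.Lib.H24.charDegree_irr]; simp
      rw [Finset.sum_congr rfl (fun χ _ => h5 χ), Finset.sum_sub_distrib, h, sub_self]
    exact_mod_cast h4
  have h6 := (Finset.sum_eq_zero_iff.1 h3) θ (Finset.mem_univ _)
  rw [if_neg hne] at h6
  rcases Nat.mul_eq_zero.1 h6 with h7 | h7
  · apply hθ
    rw [hm θ, h7]; simp
  · exact (Cfsg.Agent.Lib.H24.charDegree_pos θ).ne' h7

end Idem

end Cfsg.Agent.Lib.H23.WeightCore
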