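import Cfsg.Agent.Lib.H23.QuatBlockC
import Cfsg.Agent.Lib.H23.WeightCoreA
import Cfsg.Agent.Lib.H23.BlockGenDecomp

/-!
# The principal 2-block for quaternion Sylow 2-subgroups of order 8 (helper23)

`quat_main`: `S ≅ Q₈`, `|Z(G)| = 2`, `O(G) = 1`, `S ≠ G` ⟹ `|B₀(G)| = 7`.
-/

set_option autoImplicit false

namespace Cfsg.Agent.Lib.H23.QuatBlock

open Cfsg MonoidAlgebra Cfsg.Agent.Lib.H23 Cfsg.Agent.Lib.H24
open scoped ComplexConjugate

section Quat

variable {G : Type*} [Group G] [Fintype G] {M : Ideal AlgInt}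

open scoped Classical in
theorem quat_main (hM : IsPModular 2 M) (S : Sylow 2 G)
    (e : (S : Subgroup G) ≃* QuaternionGroup 2)
    (hZ : Nat.card (Subgroup.center G) = 2)
    (hO : ∀ N : Subgroup G, N.Normal → Odd (Nat.card N) → N = ⊥)
    (hG : (S : Subgroup G) ≠ ⊤) :
    Nat.card (principalBlock M G) = 7 := by
  haveI : Fact (Nat.Prime 2) := ⟨Nat.prime_two⟩
  haveI hPr := isPrime_of_isPModular hM
  haveI := Fintype.ofFinite (IrrCharacter G)
  haveI : Fintype (G ⧸ Subgroup.center G) := Fintype.ofFinite _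
  haveI := Fintype.ofFinite (IrrCharacter (G ⧸ Subgroup.center G))
  have hScard : Nat.card (S : Subgroup G) = 8 := by
    rw [Nat.card_congr e.toEquiv, Nat.card_eq_fintype_card, QuaternionGroup.card]
  -- the central involution
  obtain ⟨z, hzZ, hz1⟩ : ∃ z ∈ Subgroup.center G, z ≠ 1 := by
    haveI : Nontrivial (Subgroup.center G) :=
      Finite.one_lt_card_iff_nontrivial.1 (by rw [hZ]; norm_num)
    obtain ⟨c, hc⟩ := exists_ne (1 : Subgroup.center G)
    exact ⟨c, c.2, fun h => hc (Subtype.ext h)⟩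
  have hZall : ∀ c ∈ Subgroup.center G, c = 1 ∨ c = z := by
    intro c hc
    obtain ⟨w, -, huniq⟩ := (Nat.card_eq_two_iff' (1 : Subgroup.center G)).1 hZ
    by_cases hc1 : c = 1
    · exact Or.inl hc1
    · right
      have h1 := huniq ⟨c, hc⟩ (fun h => hc1 (congrArg Subtype.val h))
      have h2 := huniq ⟨z, hzZ⟩ (fun h => hz1 (congrArg Subtype.val h))
      exact congrArg Subtype.val (h1.trans h2.symm)
  have hzz : z * z = 1 := by
    rcases hZall (z * z) (Subgroup.mul_mem _ hzZ hzZ) with h | h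
    · exact h
    · exfalso
      apply hz1
      have : z * z = z * 1 := by rw [mul_one]; exact h
      exact mul_left_cancel this
  have hZp : IsPGroup 2 (Subgroup.center G) := IsPGroup.of_card (n := 1) (by rw [hZ, pow_one])
  have hzS : z ∈ (S : Subgroup G) := normal_le_sylow (Subgroup.center G) hZp S hzZ
  obtain ⟨Pb⟩ : Nonempty (Sylow 2 (G ⧸ Subgroup.center G)) := inferInstance
  obtain ⟨hKlein, hone⟩ := quotient_klein S hScard hZ hO hG Pb
  obtain ⟨hc4, hsing4, hreg3⟩ := Cfsg.Agent.Lib.H23.KleinBlock.klein_counts hM Pb hKlein hone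
  -- the finsets
  set B : Finset (IrrCharacter G) := Finset.univ.filter (· ∈ principalBlock M G) with hB
  set Bb : Finset (IrrCharacter (G ⧸ Subgroup.center G)) :=
    Finset.univ.filter (· ∈ principalBlock M (G ⧸ Subgroup.center G)) with hBb
  have hcardB : Nat.card (principalBlock M G) = B.card := by
    rw [Nat.card_coe_set_eq, ← Set.ncard_coe_finset B]
    congr 1
    ext χ
    simp [hB]
  rw [hcardB]
  set U := B.filter (fun χ : IrrCharacter G => (χ : G → ℂ) z = (χ : G → ℂ) 1) with hU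
  set F := B.filter (fun χ : IrrCharacter G => ¬ (χ : G → ℂ) z = (χ : G → ℂ) 1) with hF
  have hUF : U.card + F.card = B.card := by
    rw [hU, hF]
    exact Finset.card_filter_add_card_filter_not (s := B)
      (fun χ : IrrCharacter G => (χ : G → ℂ) z = (χ : G → ℂ) 1)
  -- signs
  have hsign : ∀ χ : IrrCharacter G, ∀ x : G, (χ : G → ℂ) (z * x) =
      (χ : G → ℂ) z / (χ : G → ℂ) 1 * (χ : G → ℂ) x := fun χ x => irr_central_mul χ hzZ x
  have hsq : ∀ χ : IrrCharacter G, ((χ : G → ℂ) z / (χ : G → ℂ) 1) *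
      ((χ : G → ℂ) z / (χ : G → ℂ) 1) = 1 := by
    intro χ
    have h0 := irr_one_ne_zero χ
    have h1 := hsign χ z
    rw [hzz] at h1
    have h2 : (χ : G → ℂ) z / (χ : G → ℂ) 1 * ((χ : G → ℂ) z / (χ : G → ℂ) 1) =
        ((χ : G → ℂ) z / (χ : G → ℂ) 1 * (χ : G → ℂ) z) / (χ : G → ℂ) 1 := by ring
    rw [h2, ← h1, div_self h0]
  have hsU : ∀ χ ∈ U, (χ : G → ℂ) z / (χ : G → ℂ) 1 = 1 := by
    intro χ hχ
    rw [(Finset.mem_filter.1 hχ).2]
    exact div_self (irr_one_ne_zero χ)
  have hsF : ∀ χ ∈ F, (χ : G → ℂ) z / (χ : G → ℂ) 1 = -1 := by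
    intro χ hχ
    have h0 := irr_one_ne_zero χ
    have h1 := hsq χ
    have h2 : ((χ : G → ℂ) z / (χ : G → ℂ) 1 - 1) * ((χ : G → ℂ) z / (χ : G → ℂ) 1 + 1) = 0 := by
      linear_combination h1
    rcases mul_eq_zero.1 h2 with h | h
    · exfalso
      apply (Finset.mem_filter.1 hχ).2
      have : (χ : G → ℂ) z / (χ : G → ℂ) 1 = 1 := by linear_combination h
      rw [div_eq_one_iff_eq h0] at this
      exact this
    · linear_combination h
  -- U is the image of Bb under inflation
  have hUimg : U = Bb.image (inflIrr (Subgroup.center G)) := by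
    ext χ
    rw [Finset.mem_image]
    constructor
    · intro hχ
      obtain ⟨hχB, hχz⟩ := Finset.mem_filter.1 hχ
      have hker : ∀ n ∈ Subgroup.center G, (χ : G → ℂ) n = (χ : G → ℂ) 1 := by
        intro n hn
        rcases hZall n hn with h | h
        · rw [h]
        · rw [h, hχz]
      obtain ⟨ψ, hψ⟩ := exists_deflation χ (Subgroup.center G) hker
      have hχψ : inflIrr (Subgroup.center G) ψ = χ := by
        apply Subtype.ext
        funext g
        rw [inflIrr_apply, hψ]
      refine ⟨ψ, ?_, hχψ⟩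
      rw [hBb, Finset.mem_filter]
      refine ⟨Finset.mem_univ _, ?_⟩
      rw [← mem_principal_infl_iff hM (Subgroup.center G) hZp le_rfl, hχψ]
      exact (Finset.mem_filter.1 hχB).2
    · rintro ⟨ψ, hψ, rfl⟩
      rw [hU, Finset.mem_filter, hB, Finset.mem_filter]
      refine ⟨⟨Finset.mem_univ _, ?_⟩, ?_⟩
      · rw [mem_principal_infl_iff hM (Subgroup.center G) hZp le_rfl]
        exact (Finset.mem_filter.1 hψ).2
      · rw [inflIrr_apply, inflIrr_apply, (QuotientGroup.eq_one_iff z).2 hzZ, QuotientGroup.mk_one]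
  have hUcard : U.card = 4 := by
    rw [hUimg, Finset.card_image_of_injective _ (Cfsg.Agent.Lib.L0.PrincipalQuot.inflIrr_injective _)]
    exact hc4
  have hUsum : ∀ x : G, ∑ χ ∈ U, (χ : G → ℂ) x * conj ((χ : G → ℂ) x) =
      ∑ ψ : IrrCharacter (G ⧸ Subgroup.center G),
        (if ψ ∈ principalBlock M (G ⧸ Subgroup.center G) then
          (ψ : G ⧸ Subgroup.center G → ℂ) (x : G ⧸ Subgroup.center G) *
            conj ((ψ : G ⧸ Subgroup.center G → ℂ) (x : G ⧸ Subgroup.center G)) else 0) := by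
    intro x
    rw [hUimg, Finset.sum_image (fun a _ b _ h => Cfsg.Agent.Lib.L0.PrincipalQuot.inflIrr_injective _ h),
      ← Finset.sum_filter]
    rfl
  have hBsplit : ∀ x : G, ∑ χ : IrrCharacter G, (if χ ∈ principalBlock M G then
      (χ : G → ℂ) x * conj ((χ : G → ℂ) x) else 0) =
      ∑ χ ∈ U, (χ : G → ℂ) x * conj ((χ : G → ℂ) x) +
      ∑ χ ∈ F, (χ : G → ℂ) x * conj ((χ : G → ℂ) x) := by
    intro x
    rw [← Finset.sum_filter, hU, hF, Finset.sum_filter_add_sum_filter_not]
  -- Claim C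
  have hFvan : ∀ x : G, 2 ∣ orderOf (x : G ⧸ Subgroup.center G) → ∀ χ ∈ F,
      (χ : G → ℂ) x = 0 := by
    intro x hx
    obtain ⟨k, hk2, hk⟩ := sum_sq_section hM S e z hzS hz1 hzz hzZ x hx
    rw [hBsplit x, hUsum x, hsing4 _ hx] at hk
    have h1 : ∑ χ ∈ F, (χ : G → ℂ) x * conj ((χ : G → ℂ) x) = ((2 ^ k : ℕ) : ℂ) - 4 := by
      linear_combination hk
    have h2 : ∑ χ ∈ F, Complex.normSq ((χ : G → ℂ) x) = ((2 ^ k : ℕ) : ℝ) - 4 := by
      apply Complex.ofReal_injective
      push_cast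
      push_cast at h1
      rw [← h1]
      refine Finset.sum_congr rfl (fun χ _ => ?_)
      rw [Complex.mul_conj]
    have h3 : ((2 ^ k : ℕ) : ℝ) ≤ 4 := by
      have : 2 ^ k ≤ 2 ^ 2 := Nat.pow_le_pow_right (by norm_num) hk2
      exact_mod_cast this
    have h4 : ∑ χ ∈ F, Complex.normSq ((χ : G → ℂ) x) = 0 := by
      apply le_antisymm
      · rw [h2]
        linarith
      · exact Finset.sum_nonneg (fun χ _ => Complex.normSq_nonneg _)
    intro χ hχ
    have h5 := (Finset.sum_eq_zero_iff_of_nonneg (fun χ _ => Complex.normSq_nonneg _)).1 h4 χ hχ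
    exact Complex.normSq_eq_zero.1 h5
  -- Claim D
  have hUFeq : ∀ x : G, ¬ 2 ∣ orderOf (x : G ⧸ Subgroup.center G) →
      ∑ χ ∈ F, (χ : G → ℂ) x * conj ((χ : G → ℂ) x) =
      ∑ χ ∈ U, (χ : G → ℂ) x * conj ((χ : G → ℂ) x) := by
    intro x hx
    -- the signed sum vanishes
    have hkey : ∑ χ : IrrCharacter G, (if χ ∈ principalBlock M G then
        ((χ : G → ℂ) z / (χ : G → ℂ) 1) * ((χ : G → ℂ) x * conj ((χ : G → ℂ) x)) else 0) = 0 := by
      have hconjs : ∀ χ : IrrCharacter G, conj ((χ : G → ℂ) z / (χ : G → ℂ) 1) =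
          (χ : G → ℂ) z / (χ : G → ℂ) 1 := by
        intro χ
        have h1 := hsq χ
        have h2 : ((χ : G → ℂ) z / (χ : G → ℂ) 1 - 1) *
            ((χ : G → ℂ) z / (χ : G → ℂ) 1 + 1) = 0 := by
          linear_combination h1
        rcases mul_eq_zero.1 h2 with h | h
        · have : (χ : G → ℂ) z / (χ : G → ℂ) 1 = 1 := by linear_combination h
          rw [this, map_one]
        · have : (χ : G → ℂ) z / (χ : G → ℂ) 1 = -1 := by linear_combination h
          rw [this, map_neg, map_one]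
      set m := orderOf (x : G ⧸ Subgroup.center G) with hm
      have hxm : x ^ m ∈ Subgroup.center G := by
        rw [← QuotientGroup.eq_one_iff, QuotientGroup.mk_pow, hm, pow_orderOf_eq_one]
      have hzx : ∀ i : ℕ, (z * x) ^ i = z ^ i * x ^ i := by
        intro i
        exact (Commute.mul_pow ((Subgroup.mem_center_iff.1 hzZ x).symm) i)
      have hmodd : Odd m := by
        rw [← Nat.not_even_iff_odd, even_iff_two_dvd]
        exact hx
      have hzm : z ^ m = z := by
        obtain ⟨i, hi⟩ := hmodd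
        rw [hi, pow_succ, pow_mul, pow_two, hzz, one_pow, one_mul]
      have htriv : blockOf M ((trivialIrr G : IrrCharacter G) : G → ℂ) = principalBlock M G :=
        principalBlock_eq_blockOf trivialIrr_mem_principalBlock
      have hsing_of : ∀ r : G, ¬ 2 ∣ orderOf r → 2 ∣ orderOf (z * r) := by
        intro r hr
        by_contra hcon
        have hpart : IsPPart 2 (z * r) z :=
          isPPart_mul ((Subgroup.mem_center_iff.1 hzZ r).symm)
            ⟨1, by rw [pow_one]; exact orderOf_eq_prime (by rw [pow_two]; exact hzz) hz1⟩ hr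
        have hpart1 : IsPPart 2 (z * r) 1 := isPPart_one_of_pRegular hcon
        exact hz1 (IsPPart.unique Nat.prime_two hpart hpart1)
      rcases hZall _ hxm with h1 | h1
      · -- x is 2-regular
        have hxreg : ¬ 2 ∣ orderOf x := by
          intro h2
          have h3 : orderOf x ∣ m := orderOf_dvd_of_pow_eq_one h1
          exact hx (h2.trans h3)
        have h4 := weak_block_orthogonality hM (trivialIrr G) x (z * x) hxreg (hsing_of x hxreg)
        refine Eq.trans ?_ h4
        refine Finset.sum_congr rfl (fun χ _ => ?_)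
        rw [htriv]
        split_ifs
        · rw [hsign χ x, map_mul, hconjs]
          ring
        · rfl
      · -- z * x is 2-regular
        have hzxreg : ¬ 2 ∣ orderOf (z * x) := by
          intro h2
          have h3 : orderOf (z * x) ∣ m := by
            apply orderOf_dvd_of_pow_eq_one
            rw [hzx, hzm, h1, hzz]
          exact hx (h2.trans h3)
        have hzzx : z * (z * x) = x := by rw [← mul_assoc, hzz, one_mul]
        have h4 := weak_block_orthogonality hM (trivialIrr G) (z * x) x hzxreg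
          (by have := hsing_of (z * x) hzxreg; rwa [hzzx] at this)
        refine Eq.trans ?_ h4
        refine Finset.sum_congr rfl (fun χ _ => ?_)
        rw [htriv]
        split_ifs
        · rw [hsign χ x]
          ring
        · rfl
    rw [← Finset.sum_filter, ← hB] at hkey
    rw [← Finset.sum_filter_add_sum_filter_not B
      (fun χ : IrrCharacter G => (χ : G → ℂ) z = (χ : G → ℂ) 1)] at hkey
    rw [← hU, ← hF] at hkey
    have e1 : ∑ χ ∈ U, ((χ : G → ℂ) z / (χ : G → ℂ) 1) *
        ((χ : G → ℂ) x * conj ((χ : G → ℂ) x)) =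
        ∑ χ ∈ U, (χ : G → ℂ) x * conj ((χ : G → ℂ) x) := by
      refine Finset.sum_congr rfl (fun χ hχ => ?_)
      rw [hsU χ hχ, one_mul]
    have e2 : ∑ χ ∈ F, ((χ : G → ℂ) z / (χ : G → ℂ) 1) *
        ((χ : G → ℂ) x * conj ((χ : G → ℂ) x)) =
        - ∑ χ ∈ F, (χ : G → ℂ) x * conj ((χ : G → ℂ) x) := by
      rw [← Finset.sum_neg_distrib]
      refine Finset.sum_congr rfl (fun χ hχ => ?_)
      rw [hsF χ hχ]
      ring
    rw [e1, e2] at hkey
    linear_combination -hkey
  -- final count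
  have hGcard : (Nat.card G : ℂ) = 2 * (Nat.card (G ⧸ Subgroup.center G) : ℂ) := by
    have h1 := Subgroup.card_eq_card_quotient_mul_card_subgroup (Subgroup.center G)
    rw [hZ] at h1
    rw [h1]
    push_cast
    ring
  have hG0 : (Nat.card G : ℂ) ≠ 0 := Nat.cast_ne_zero.2 Nat.card_pos.ne'
  have hFcount : (F.card : ℂ) * (Nat.card G : ℂ) = 3 * (Nat.card G : ℂ) := by
    have h0 : ∀ χ ∈ F, ∑ x : G, (χ : G → ℂ) x * conj ((χ : G → ℂ) x) = (Nat.card G : ℂ) := by
      intro χ _
      rw [sum_mul_conj_irr χ χ, if_pos rfl]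
    have h1 : (F.card : ℂ) * (Nat.card G : ℂ) =
        ∑ χ ∈ F, ∑ x : G, (χ : G → ℂ) x * conj ((χ : G → ℂ) x) := by
      rw [Finset.sum_congr rfl h0, Finset.sum_const, nsmul_eq_mul]
    rw [h1, Finset.sum_comm]
    set Φ : G ⧸ Subgroup.center G → ℂ := fun q => if 2 ∣ orderOf q then (0 : ℂ) else
          ∑ ψ : IrrCharacter (G ⧸ Subgroup.center G),
          (if ψ ∈ principalBlock M (G ⧸ Subgroup.center G) then
            (ψ : G ⧸ Subgroup.center G → ℂ) q * conj ((ψ : G ⧸ Subgroup.center G → ℂ) q) else 0)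
      with hΦ
    have h2 : ∀ x : G, ∑ χ ∈ F, (χ : G → ℂ) x * conj ((χ : G → ℂ) x) =
        Φ (QuotientGroup.mk' (Subgroup.center G) x) := by
      intro x
      simp only [hΦ, QuotientGroup.mk'_apply]
      by_cases hx : 2 ∣ orderOf (x : G ⧸ Subgroup.center G)
      · rw [if_pos hx]
        refine Finset.sum_eq_zero (fun χ hχ => ?_)
        rw [hFvan x hx χ hχ, zero_mul]
      · rw [if_neg hx, hUFeq x hx, hUsum x]
    rw [Finset.sum_congr rfl (fun x _ => h2 x),
      Cfsg.Agent.Lib.H23.WeightCore.sum_comp_surjective (QuotientGroup.mk' (Subgroup.center G))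
        (QuotientGroup.mk'_surjective _) Φ]
    have h3 : ∑ b : G ⧸ Subgroup.center G, Φ b =
        3 * (Nat.card (G ⧸ Subgroup.center G) : ℂ) := hreg3
    rw [h3, QuotientGroup.ker_mk', hZ, hGcard]
    push_cast
    ring
  have hF3 : F.card = 3 := by
    have h1 : (F.card : ℂ) = 3 := mul_right_cancel₀ hG0 hFcount
    exact_mod_cast h1
  rw [← hUF, hUcard, hF3]

end Quat

end Cfsg.Agent.Lib.H23.QuatBlock
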