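import Cfsg.Agent.Lib.H23.RVOBR
import Cfsg.Agent.Lib.H23.PRegGenChar

/-!
# S4959, piece THMI (helper23)

`oInt_div_fixCard`: for a `p'`-group `H` acting on a finite `ZMod p`-module `W` and a class function
`Ψ` on `H`: if `Ψ|_K / |C_W(K)|` is `O`-integral on every subgroup `K ≤ H`, then `Ψ / |C_W(·)|` is
`O`-integral on `H`.  Proof: Brauer's characterization (`oInt_of_elementary`) on the semidirect
product `Aff ρ = W ⋊ H` for the class function `γ ↦ [γ p-regular] Ψ(γ̄)`.
-/

set_option autoImplicit false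
set_option linter.unusedSectionVars false

universe u v

namespace Cfsg.Agent.Lib.H23.RV

open Cfsg Cfsg.Agent.Lib.L0 Cfsg.Agent.Lib.H8 Cfsg.Agent.Lib.H23
open scoped ComplexConjugate

section aff

variable {p : ℕ} {H : Type u} [Group H] {W : Type v} [AddCommGroup W] [Module (ZMod p) W]

/-- The semidirect product `W ⋊ H` attached to a representation. -/
@[ext] structure Aff (ρ : Representation (ZMod p) H W) : Type (max u v) where
  w : W
  h : H

variable {ρ : Representation (ZMod p) H W}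

instance : Mul (Aff ρ) := ⟨fun a b => ⟨a.w + ρ a.h b.w, a.h * b.h⟩⟩
instance : One (Aff ρ) := ⟨⟨0, 1⟩⟩
instance : Inv (Aff ρ) := ⟨fun a => ⟨-(ρ a.h⁻¹ a.w), a.h⁻¹⟩⟩

@[simp] theorem Aff.mul_w (a b : Aff ρ) : (a * b).w = a.w + ρ a.h b.w := rfl
@[simp] theorem Aff.mul_h (a b : Aff ρ) : (a * b).h = a.h * b.h := rfl
@[simp] theorem Aff.one_w : (1 : Aff ρ).w = 0 := rfl
@[simp] theorem Aff.one_h : (1 : Aff ρ).h = 1 := rfl
@[simp] theorem Aff.inv_w (a : Aff ρ) : (a⁻¹).w = -(ρ a.h⁻¹ a.w) := rfl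
@[simp] theorem Aff.inv_h (a : Aff ρ) : (a⁻¹).h = a.h⁻¹ := rfl

instance : Group (Aff ρ) where
  mul_assoc a b c := by
    ext
    · simp [map_mul, add_assoc]
    · simp [mul_assoc]
  one_mul a := by
    ext <;> simp
  mul_one a := by
    ext <;> simp
  inv_mul_cancel a := by
    ext
    · simp
    · simp

/-- projection to `H` -/
def Aff.toH (ρ : Representation (ZMod p) H W) : Aff ρ →* H where
  toFun a := a.h
  map_one' := rfl
  map_mul' _ _ := rfl

@[simp] theorem Aff.toH_apply (a : Aff ρ) : Aff.toH ρ a = a.h := rfl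

def Aff.equivProd (ρ : Representation (ZMod p) H W) : Aff ρ ≃ W × H where
  toFun a := (a.w, a.h)
  invFun x := ⟨x.1, x.2⟩
  left_inv _ := rfl
  right_inv _ := rfl

instance [Finite W] [Finite H] : Finite (Aff ρ) := Finite.of_equiv _ (Aff.equivProd ρ).symm

theorem Aff.card [Finite W] [Finite H] : Nat.card (Aff ρ) = Nat.card W * Nat.card H := by
  rw [Nat.card_congr (Aff.equivProd ρ), Nat.card_prod]

/-- powers of an element with fixed translation part -/
theorem Aff.pow_of_fixed (c : W) (h : H) (hc : ρ h c = c) (n : ℕ) :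
    (⟨c, h⟩ : Aff ρ) ^ n = ⟨n • c, h ^ n⟩ := by
  induction n with
  | zero => ext <;> simp
  | succ n ih =>
    rw [pow_succ, ih]
    have hn : (ρ h ^ n) c = c := by
      clear ih
      induction n with
      | zero => simp
      | succ n ih => rw [pow_succ, Module.End.mul_apply, hc, ih]
    ext
    · simp [hn, succ_nsmul]
    · simp [pow_succ]

/-- conjugating `(c, h)` by the translation `x` -/
theorem Aff.conj_translation (c x : W) (h : H) :
    (⟨x, 1⟩ : Aff ρ) * ⟨c, h⟩ * (⟨x, 1⟩ : Aff ρ)⁻¹ = ⟨c + (x - ρ h x), h⟩ := by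
  ext
  · simp
    abel
  · simp

end aff

section dec

variable {p : ℕ} [Fact p.Prime] {H : Type u} [Group H] {W : Type v} [AddCommGroup W]
  [Module (ZMod p) W]

/-- coprime decomposition `w = c + (x - h x)` with `c` fixed by `h` -/
theorem exists_fixed_add_comm [Finite H] (hcop : ¬ p ∣ Nat.card H)
    (ρ : Representation (ZMod p) H W) (h : H) (w : W) :
    ∃ c x : W, ρ h c = c ∧ w = c + (x - ρ h x) := by
  classical
  set o := orderOf h with ho
  have hopos : 0 < o := orderOf_pos h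
  have hpo : ¬ p ∣ o := fun hd => hcop (dvd_trans hd (orderOf_dvd_natCard h))
  have hunit : ((o : ℕ) : ZMod p) ≠ 0 := by
    intro h0
    exact hpo ((ZMod.natCast_eq_zero_iff o p).mp h0)
  set T : Module.End (ZMod p) W := ρ h with hT
  have hTo : T ^ o = 1 := by
    rw [hT, ← map_pow, ho, pow_orderOf_eq_one, map_one]
  set N : Module.End (ZMod p) W := ∑ i ∈ Finset.range o, T ^ i with hN
  have hTN : T * N = N := by
    have h1 : (T - 1) * N = 0 := by
      rw [hN, mul_geom_sum, hTo, sub_self]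
    have h2 : T * N - N = 0 := by
      rw [← h1, sub_mul, one_mul]
    exact sub_eq_zero.mp h2
  set u : ZMod p := ((o : ℕ) : ZMod p)⁻¹ with hu
  -- c = u • N w
  refine ⟨u • N w, u • ∑ i ∈ Finset.range o, (∑ j ∈ Finset.range i, T ^ j) w, ?_, ?_⟩
  · rw [map_smul]
    congr 1
    have := congrArg (fun f : Module.End (ZMod p) W => f w) hTN
    simpa [Module.End.mul_apply] using this
  · have h1 : ∀ i : ℕ, (1 - T) * (∑ j ∈ Finset.range i, T ^ j) = 1 - T ^ i := fun i =>
      mul_neg_geom_sum T i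
    have h1' : ∀ i : ℕ, (∑ j ∈ Finset.range i, T ^ j) w - T ((∑ j ∈ Finset.range i, T ^ j) w) =
        w - (T ^ i) w := by
      intro i
      have := congrArg (fun f : Module.End (ZMod p) W => f w) (h1 i)
      simpa [Module.End.mul_apply] using this
    have h4 : ∑ i ∈ Finset.range o, (T ^ i) w = N w := by
      rw [hN, LinearMap.sum_apply]
    have hx : u • ∑ i ∈ Finset.range o, (∑ j ∈ Finset.range i, T ^ j) w -
        T (u • ∑ i ∈ Finset.range o, (∑ j ∈ Finset.range i, T ^ j) w) = w - u • N w := by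
      rw [map_smul, ← smul_sub, map_sum, ← Finset.sum_sub_distrib]
      simp only [h1']
      rw [Finset.sum_sub_distrib, Finset.sum_const, Finset.card_range, h4, smul_sub,
        ← Nat.cast_smul_eq_nsmul (ZMod p) o w, smul_smul, hu, inv_mul_cancel₀ hunit, one_smul]
    rw [hx]
    abel

end dec

section preg

variable {p : ℕ} [Fact p.Prime] {H : Type u} [Group H] {W : Type v} [AddCommGroup W]
  [Module (ZMod p) W] {ρ : Representation (ZMod p) H W}

/-- the embedding of `H` -/
def Aff.inr (ρ : Representation (ZMod p) H W) : H →* Aff ρ where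
  toFun h := ⟨0, h⟩
  map_one' := rfl
  map_mul' a b := by
    ext <;> simp

theorem Aff.inr_injective : Function.Injective (Aff.inr ρ) := by
  intro a b hab
  exact congrArg Aff.h hab

theorem Aff.orderOf_inr (h : H) : orderOf (⟨0, h⟩ : Aff ρ) = orderOf h :=
  orderOf_injective (Aff.inr ρ) Aff.inr_injective h

theorem Aff.orderOf_conj (a g : Aff ρ) : orderOf (g * a * g⁻¹) = orderOf a := by
  have := (MulAut.conj g).orderOf_eq a
  simpa using this

theorem Aff.preg_iff [Finite H] (hcop : ¬ p ∣ Nat.card H) (a : Aff ρ) :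
    ¬ p ∣ orderOf a ↔ ∃ x : W, a.w = x - ρ a.h x := by
  have hp : p.Prime := Fact.out
  obtain ⟨w0, h0⟩ := a
  show ¬ p ∣ orderOf (⟨w0, h0⟩ : Aff ρ) ↔ ∃ x : W, w0 = x - ρ h0 x
  constructor
  · intro hreg
    obtain ⟨c, x, hc, hw⟩ := exists_fixed_add_comm hcop ρ h0 w0
    have ha : (⟨w0, h0⟩ : Aff ρ) = (⟨x, 1⟩ : Aff ρ) * ⟨c, h0⟩ * (⟨x, 1⟩ : Aff ρ)⁻¹ := by
      rw [Aff.conj_translation]
      ext
      · exact hw
      · rfl
    have hord : orderOf (⟨c, h0⟩ : Aff ρ) = orderOf (⟨w0, h0⟩ : Aff ρ) := by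
      rw [ha, Aff.orderOf_conj]
    set n := orderOf (⟨c, h0⟩ : Aff ρ) with hn
    have hpow : (⟨c, h0⟩ : Aff ρ) ^ n = 1 := pow_orderOf_eq_one _
    rw [Aff.pow_of_fixed c h0 hc] at hpow
    have hnc : n • c = 0 := congrArg Aff.w hpow
    have hpn : ¬ p ∣ n := by rw [hord]; exact hreg
    have hunit : ((n : ℕ) : ZMod p) ≠ 0 := fun h0 => hpn ((ZMod.natCast_eq_zero_iff n p).mp h0)
    have hc0 : c = 0 := by
      rw [← Nat.cast_smul_eq_nsmul (ZMod p) n c] at hnc
      exact (smul_eq_zero.mp hnc).resolve_left hunit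
    refine ⟨x, ?_⟩
    rw [hw, hc0, zero_add]
  · rintro ⟨x, hx⟩
    have ha : (⟨w0, h0⟩ : Aff ρ) = (⟨x, 1⟩ : Aff ρ) * ⟨0, h0⟩ * (⟨x, 1⟩ : Aff ρ)⁻¹ := by
      rw [Aff.conj_translation]
      ext
      · simpa using hx
      · rfl
    rw [ha, Aff.orderOf_conj, Aff.orderOf_inr]
    intro hd
    exact hcop (dvd_trans hd (orderOf_dvd_natCard _))

theorem Aff.card_preg_fiber [Finite W] [Finite H] (hcop : ¬ p ∣ Nat.card H) (h : H) :
    Nat.card {w : W // ¬ p ∣ orderOf (⟨w, h⟩ : Aff ρ)} * fixCard ρ h = Nat.card W := by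
  set D : W →ₗ[ZMod p] W := LinearMap.id - ρ h with hD
  have h1 : Nat.card {w : W // ¬ p ∣ orderOf (⟨w, h⟩ : Aff ρ)} = Nat.card (LinearMap.range D) := by
    apply Nat.card_congr
    refine Equiv.subtypeEquivRight fun w => ?_
    rw [Aff.preg_iff hcop, LinearMap.mem_range]
    constructor
    · rintro ⟨x, hx⟩
      exact ⟨x, by simpa [hD] using hx.symm⟩
    · rintro ⟨x, hx⟩
      exact ⟨x, by simpa [hD] using hx.symm⟩
  have h2 : fixCard ρ h = Nat.card (LinearMap.ker D) := by
    unfold fixCard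
    apply Nat.card_congr
    refine Equiv.subtypeEquivRight fun w => ?_
    rw [LinearMap.mem_ker, hD, LinearMap.sub_apply, LinearMap.id_apply, sub_eq_zero]
    exact eq_comm
  rw [h1, h2, Submodule.card_eq_card_quotient_mul_card (LinearMap.ker D),
    Nat.card_congr (D.quotKerEquivRange).toEquiv, mul_comm]

end preg

section main

variable {p : ℕ} [Fact p.Prime] {H : Type u} [Group H] [Finite H] {W : Type v} [AddCommGroup W]
  [Module (ZMod p) W] [Finite W]

theorem fixCardK_pos (ρ : Representation (ZMod p) H W) (K : Subgroup H) : 0 < fixCardK ρ K := by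
  unfold fixCardK
  have : Nonempty {w : W // ∀ g ∈ K, ρ g w = w} := ⟨⟨0, fun g _ => map_zero _⟩⟩
  exact Nat.card_pos

theorem fixCard_pos (ρ : Representation (ZMod p) H W) (h : H) : 0 < fixCard ρ h := by
  unfold fixCard
  have : Nonempty {w : W // ρ h w = w} := ⟨⟨0, map_zero _⟩⟩
  exact Nat.card_pos

/-- the number of common fixed points is a power of `p` -/
theorem fixCardK_eq_pow (ρ : Representation (ZMod p) H W) (K : Subgroup H) :
    ∃ d : ℕ, fixCardK ρ K = p ^ d := by
  let F : Submodule (ZMod p) W :=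
    { carrier := {w | ∀ g ∈ K, ρ g w = w}
      add_mem' := fun {a b} ha hb g hg => by rw [map_add, ha g hg, hb g hg]
      zero_mem' := fun g _ => map_zero _
      smul_mem' := fun c x hx g hg => by rw [map_smul, hx g hg] }
  have h1 : fixCardK ρ K = Nat.card F := rfl
  have h2 := Module.natCard_eq_pow_finrank (K := ZMod p) (V := F)
  rw [Nat.card_zmod] at h2
  exact ⟨_, h1.trans h2⟩

theorem elem_step (hcop : ¬ p ∣ Nat.card H) (ρ : Representation (ZMod p) H W) (Ψ : H → ℂ)
    (hK : ∀ K : Subgroup H, OInt K (fun g : K => Ψ (g : H) / (fixCardK ρ K : ℂ)))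
    (E : Subgroup (Aff ρ)) (q : ℕ) (hq : q.Prime) (hE : IsElementary q E) :
    OInt E (fun e : E => if p ∣ orderOf (e : Aff ρ) then 0 else Ψ (e : Aff ρ).h) := by
  classical
  have hp : p.Prime := Fact.out
  have : Fintype E := Fintype.ofFinite E
  have hnil : Group.IsNilpotent E := isNilpotent_of_isElementary hq hE
  obtain ⟨P, KE, ⟨a, ha⟩, hKcop, hcard, hcomm, hKmem⟩ := exists_hall_decomp E p hp
  rw [oInt_iff]
  intro η hη
  have : Fintype KE := Fintype.ofFinite KE
  -- the projection of `KE` to `H`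
  let π : KE →* H := (Aff.toH ρ).comp (E.subtype.comp KE.subtype)
  have hπ : ∀ k : KE, π k = ((k : E) : Aff ρ).h := fun k => rfl
  have hπinj : Function.Injective π := by
    rw [injective_iff_map_eq_one]
    intro k hk
    have hk1 : ((k : E) : Aff ρ).h = 1 := hk
    have hkp : ((k : E) : Aff ρ) ^ p = 1 := by
      have e1 : ((k : E) : Aff ρ) = ⟨((k : E) : Aff ρ).w, 1⟩ := by
        ext
        · rfl
        · exact hk1
      rw [e1, Aff.pow_of_fixed _ _ (by simp)]
      ext
      · have : (p : ZMod p) • ((k : E) : Aff ρ).w = 0 := by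
          rw [ZMod.natCast_self, zero_smul]
        rw [Nat.cast_smul_eq_nsmul] at this
        exact this
      · simp
    have hord : orderOf (k : E) ∣ p := by
      rw [← Subgroup.orderOf_coe]
      exact orderOf_dvd_of_pow_eq_one hkp
    have hreg : ¬ p ∣ orderOf (k : E) := (hKmem (k : E)).mp k.2
    rcases (Nat.dvd_prime hp).mp hord with h1 | h1
    · have : (k : E) = 1 := orderOf_eq_one_iff.mp h1
      exact Subtype.ext this
    · exact absurd (by rw [h1]) hreg
  let K : Subgroup H := π.range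
  let f : KE ≃* K := MonoidHom.ofInjective hπinj
  have hf : ∀ k : KE, ((f k : K) : H) = ((k : E) : Aff ρ).h := fun k => rfl
  have : Fintype K := Fintype.ofFinite K
  let η' : K → ℂ := fun g => η ((f.symm g : KE) : E)
  have hη' : IsCharacter K η' :=
    isCharacter_comp (KE.subtype.comp f.symm.toMonoidHom) hη
  have hint := (oInt_iff _).mp (hK K) η' hη'
  -- `|P|` divides the number of `K`-fixed points
  have hPle : Nat.card P ≤ fixCardK ρ K := by
    unfold fixCardK
    have hPh : ∀ u : P, ((u : E) : Aff ρ).h = 1 := by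
      intro u
      have h1 : orderOf ((u : E) : Aff ρ).h ∣ orderOf ((u : E) : Aff ρ) :=
        orderOf_map_dvd (Aff.toH ρ) _
      have h2 : orderOf ((u : E) : Aff ρ) ∣ p ^ a := by
        rw [Subgroup.orderOf_coe, Subgroup.orderOf_coe, ← ha]
        exact orderOf_dvd_natCard u
      have h3 : orderOf ((u : E) : Aff ρ).h ∣ Nat.card H := orderOf_dvd_natCard _
      have hcop' : Nat.Coprime (p ^ a) (Nat.card H) :=
        Nat.Coprime.pow_left a ((Nat.Prime.coprime_iff_not_dvd hp).mpr hcop)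
      have h4 : orderOf ((u : E) : Aff ρ).h = 1 :=
        Nat.eq_one_of_dvd_coprimes hcop' (dvd_trans h1 h2) h3
      exact orderOf_eq_one_iff.mp h4
    let j : P → {w : W // ∀ g ∈ K, ρ g w = w} := fun u => ⟨((u : E) : Aff ρ).w, by
      rintro g ⟨k, rfl⟩
      have h1 := hcomm (u : E) u.2 (k : E) k.2
      have h2 := congrArg (fun e : E => (e : Aff ρ).w) h1
      simp only [Subgroup.coe_mul, Aff.mul_w, hPh u, map_one, Module.End.one_apply] at h2
      rw [hπ]
      have h3 : ((k : E) : Aff ρ).w + ρ ((k : E) : Aff ρ).h ((u : E) : Aff ρ).w =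
          ((u : E) : Aff ρ).w + ((k : E) : Aff ρ).w := h2.symm
      have h4 := add_left_cancel (a := ((k : E) : Aff ρ).w) (h3.trans (add_comm _ _))
      exact h4⟩
    have hj : Function.Injective j := by
      intro u u' huu
      have h1 : ((u : E) : Aff ρ).w = ((u' : E) : Aff ρ).w := congrArg Subtype.val huu
      apply Subtype.ext
      apply Subtype.ext
      ext
      · exact h1
      · rw [hPh u, hPh u']
    exact Nat.card_le_card_of_injective j hj
  obtain ⟨d, hd⟩ := fixCardK_eq_pow ρ K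
  obtain ⟨r, hr⟩ : ∃ r : ℕ, fixCardK ρ K = Nat.card P * r := by
    rw [hd, ha] at hPle ⊢
    have had : a ≤ d := (Nat.pow_le_pow_iff_right hp.one_lt).mp hPle
    exact ⟨p ^ (d - a), by rw [← pow_add, Nat.add_sub_cancel' had]⟩
  have hfixpos := fixCardK_pos ρ K
  have hr0 : r ≠ 0 := by
    rintro rfl
    rw [mul_zero] at hr
    omega
  have hP0 : Nat.card P ≠ 0 := (Nat.card_pos (α := P)).ne'
  have hKE0 : Nat.card KE ≠ 0 := (Nat.card_pos (α := KE)).ne'
  -- the relation between the two inner products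
  have hrel : Cfsg.classInner
      (fun e : E => if p ∣ orderOf (e : Aff ρ) then 0 else Ψ (e : Aff ρ).h) η =
      (r : ℂ) * Cfsg.classInner (fun g : K => Ψ (g : H) / (fixCardK ρ K : ℂ)) η' := by
    unfold Cfsg.classInner
    have hsum1 : ∑ e : E, (if p ∣ orderOf (e : Aff ρ) then 0 else Ψ (e : Aff ρ).h) * conj (η e) =
        ∑ e : E, (if e ∈ KE then Ψ (e : Aff ρ).h * conj (η e) else 0) := by
      refine Finset.sum_congr rfl fun e _ => ?_
      rw [Subgroup.orderOf_coe]
      by_cases h : p ∣ orderOf e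
      · rw [if_pos h, if_neg (fun h' => ((hKmem e).mp h') h), zero_mul]
      · rw [if_neg h, if_pos ((hKmem e).mpr h)]
    have hsum2 : ∑ k : KE, Ψ ((k : E) : Aff ρ).h * conj (η (k : E)) =
        ∑ g : K, Ψ (g : H) * conj (η' g) := by
      refine Fintype.sum_equiv f.toEquiv _ _ fun k => ?_
      show _ = Ψ ((f k : K) : H) * conj (η ((f.symm (f k) : KE) : E))
      rw [hf, MulEquiv.symm_apply_apply]
    have hsum3 : ∑ g : K, Ψ (g : H) / (fixCardK ρ K : ℂ) * conj (η' g) =
        (fixCardK ρ K : ℂ)⁻¹ * ∑ g : K, Ψ (g : H) * conj (η' g) := by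
      rw [Finset.mul_sum]
      refine Finset.sum_congr rfl fun g _ => ?_
      ring
    rw [hsum1, Cfsg.Agent.Lib.H23.sum_ite_mem_subgroup KE
      (fun e => Ψ (e : Aff ρ).h * conj (η e)), hsum2, hsum3]
    have hcK : Nat.card K = Nat.card KE := (Nat.card_congr f.toEquiv).symm
    rw [hcK, ← hcard, hr]
    have h1 : (Nat.card P : ℂ) ≠ 0 := Nat.cast_ne_zero.mpr hP0
    have h2 : (Nat.card KE : ℂ) ≠ 0 := Nat.cast_ne_zero.mpr hKE0
    have h3 : (r : ℂ) ≠ 0 := Nat.cast_ne_zero.mpr hr0
    push_cast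
    field_simp
  rw [hrel]
  have hrint : IsIntegral ℤ (r : ℂ) := by
    have := isIntegral_algebraMap (R := ℤ) (A := ℂ) (x := (r : ℤ))
    simpa using this
  exact hrint.mul hint

/-- **THMI**: if `Ψ|_K / |C_W(K)|` is `O`-integral on every subgroup `K`, then `Ψ / |C_W(·)|` is
`O`-integral on `H`. -/
theorem oInt_div_fixCard (hcop : ¬ p ∣ Nat.card H) (ρ : Representation (ZMod p) H W) (Ψ : H → ℂ)
    (hΨ : IsClassFunction H Ψ)
    (hK : ∀ K : Subgroup H, OInt K (fun g : K => Ψ (g : H) / (fixCardK ρ K : ℂ))) :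
    OInt H (fun h => Ψ h / (fixCard ρ h : ℂ)) := by
  classical
  have hp : p.Prime := Fact.out
  have : Fintype H := Fintype.ofFinite H
  have : Fintype W := Fintype.ofFinite W
  have : Fintype (Aff ρ) := Fintype.ofFinite _
  set Z : Aff ρ → ℂ := fun γ => if p ∣ orderOf γ then 0 else Ψ γ.h with hZ
  have hZc : IsClassFunction (Aff ρ) Z := by
    intro g k
    show (if p ∣ orderOf (k * g * k⁻¹) then 0 else Ψ (k * g * k⁻¹).h) =
      if p ∣ orderOf g then 0 else Ψ g.h
    rw [Aff.orderOf_conj]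
    have h1 : (k * g * k⁻¹).h = k.h * g.h * k.h⁻¹ := rfl
    rw [h1, hΨ]
  have hZO : OInt (Aff ρ) Z :=
    oInt_of_elementary hZc (fun E q hq hE => elem_step hcop ρ Ψ hK E q hq hE)
  rw [oInt_iff]
  intro η hη
  have hη' : IsCharacter (Aff ρ) (η ∘ Aff.toH ρ) := isCharacter_comp (Aff.toH ρ) hη
  have h1 := (oInt_iff Z).mp hZO _ hη'
  have heq : Cfsg.classInner Z (η ∘ Aff.toH ρ) =
      Cfsg.classInner (fun h => Ψ h / (fixCard ρ h : ℂ)) η := by
    unfold Cfsg.classInner
    rw [Aff.card]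
    have hsum : ∑ γ : Aff ρ, Z γ * conj ((η ∘ Aff.toH ρ) γ) =
        ∑ h : H, ∑ w : W, Z ⟨w, h⟩ * conj (η h) := by
      rw [← (Aff.equivProd ρ).symm.sum_comp, Fintype.sum_prod_type, Finset.sum_comm]
      rfl
    rw [hsum]
    have hinner : ∀ h : H, ∑ w : W, Z ⟨w, h⟩ * conj (η h) =
        (Nat.card W : ℂ) * (Ψ h / (fixCard ρ h : ℂ) * conj (η h)) := by
      intro h
      have hc := Aff.card_preg_fiber (ρ := ρ) hcop h
      have hfp : (fixCard ρ h : ℂ) ≠ 0 := Nat.cast_ne_zero.mpr (fixCard_pos ρ h).ne'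
      have hcnt : ∑ w : W, Z ⟨w, h⟩ * conj (η h) =
          (Nat.card {w : W // ¬ p ∣ orderOf (⟨w, h⟩ : Aff ρ)} : ℂ) * (Ψ h * conj (η h)) := by
        rw [Nat.card_eq_fintype_card, Fintype.card_subtype, ← nsmul_eq_mul,
          ← Finset.sum_const, Finset.sum_filter]
        refine Finset.sum_congr rfl fun w _ => ?_
        show (if p ∣ orderOf (⟨w, h⟩ : Aff ρ) then 0 else Ψ h) * conj (η h) = _
        by_cases hd : p ∣ orderOf (⟨w, h⟩ : Aff ρ)
        · rw [if_pos hd, if_neg (not_not.mpr hd), zero_mul]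
        · rw [if_neg hd, if_pos hd]
      rw [hcnt, ← hc]
      push_cast
      field_simp
    simp only [hinner]
    rw [← Finset.mul_sum]
    have hW0 : (Nat.card W : ℂ) ≠ 0 := Nat.cast_ne_zero.mpr (Nat.card_pos (α := W)).ne'
    have hH0 : (Nat.card H : ℂ) ≠ 0 := Nat.cast_ne_zero.mpr (Nat.card_pos (α := H)).ne'
    push_cast
    field_simp
  rwa [heq] at h1

end main

end Cfsg.Agent.Lib.H23.RV
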