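import Mathlib
import Cfsg.Agent.Lib.H23.RVDefs
import Cfsg.Agent.Lib.H23.RVTHMI
import Cfsg.Agent.Lib.H24.RVSYMD
import Cfsg.Agent.Lib.H2.RVWEILC
import Cfsg.Agent.Lib.H27.RVPROD
import Cfsg.Agent.Lib.H27.RVGLUE
import Cfsg.Agent.Lib.H6.RVINT
import Cfsg.Agent.Lib.H6.RVNONVAN
import Cfsg.Agent.Lib.H26.RVCRIT
import Cfsg.Agent.S4966

/-!
# S4959 (Robinson–Thompson real-vector criterion `k(GV) ≤ |V|`): the assembly (helper23)

Blueprint `tools/blueprints/S4959.md`.  Pieces: GLUE + PROD (helper27), S4966 split (helper24),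
SYM-A/D + OINT + TRINT (helper24), SYM-B/C (helper11), WEIL-A/B (helper5), WEIL-C (helper2),
INT + NONVAN (helper6), CRIT (helper26), OBR + THMI (helper23).
-/

set_option autoImplicit false

universe u

namespace Cfsg.Agent.Lib.H23.RV

open Cfsg Cfsg.Agent.Lib.H23 Cfsg.Agent.Lib.H23.RV
open scoped ComplexConjugate

namespace Main


section aux

variable {G : Type*} [Group G]

/-- `|H ⊓ K| · |K : H ⊓ K| = |K|` -/
theorem card_inf_mul_relIndex [Finite G] (H K : Subgroup G) :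
    Nat.card ↥(H ⊓ K) * H.relIndex K = Nat.card K := by
  have h1 := ((H ⊓ K).subgroupOf K).card_mul_index
  rw [Subgroup.inf_subgroupOf_right] at h1
  have h2 : Nat.card (H.subgroupOf K) = Nat.card ↥(H ⊓ K) := by
    rw [← Subgroup.inf_subgroupOf_right]
    exact Nat.card_congr (Subgroup.subgroupOfEquivOfLe (inf_le_right : H ⊓ K ≤ K)).toEquiv
  rw [h2] at h1
  exact h1

/-- `|A| |U| ≤ |V| |A ⊓ U|` for subgroups `A, U ≤ V`. -/
theorem card_mul_card_le [Finite G] (A U V : Subgroup G) (hA : A ≤ V) (hU : U ≤ V) :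
    Nat.card A * Nat.card U ≤ Nat.card V * Nat.card ↥(U ⊓ A) := by
  have h1 := card_inf_mul_relIndex U A
  have h2 := card_inf_mul_relIndex U V
  rw [inf_eq_left.mpr hU] at h2
  have h0 : U.relIndex V ≠ 0 := by
    intro h0
    rw [h0, mul_zero] at h2
    exact (Nat.card_pos (α := V)).ne' h2.symm
  have h3 : U.relIndex A ≤ U.relIndex V := Subgroup.relIndex_le_of_le_right hA h0
  calc Nat.card A * Nat.card U = Nat.card ↥(U ⊓ A) * U.relIndex A * Nat.card U := by rw [h1]
    _ ≤ Nat.card ↥(U ⊓ A) * U.relIndex V * Nat.card U := by gcongr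
    _ = Nat.card V * Nat.card ↥(U ⊓ A) := by rw [← h2]; ring

end aux

section fix

variable {k : Type*} [CommRing k] {H : Type*} [Group H] {W : Type*} [AddCommGroup W] [Module k W]

theorem fix_conj_aux (ρ : Representation k H W) (h g : H) (w : W) (hw : ρ h w = w) :
    ρ (g * h * g⁻¹) (ρ g w) = ρ g w := by
  rw [map_mul, map_mul, Module.End.mul_apply, Module.End.mul_apply,
    ← Module.End.mul_apply (ρ g⁻¹), ← map_mul, inv_mul_cancel, map_one, Module.End.one_apply, hw]

theorem fixCard_conj (ρ : Representation k H W) (h g : H) :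
    fixCard ρ (g * h * g⁻¹) = fixCard ρ h := by
  unfold fixCard
  symm
  apply Nat.card_congr
  refine
    { toFun := fun w => ⟨ρ g w.1, fix_conj_aux ρ h g w.1 w.2⟩
      invFun := fun w => ⟨ρ g⁻¹ w.1, ?_⟩
      left_inv := ?_
      right_inv := ?_ }
  · have h1 := fix_conj_aux ρ (g * h * g⁻¹) g⁻¹ w.1 w.2
    have h2 : g⁻¹ * (g * h * g⁻¹) * g⁻¹⁻¹ = h := by group
    rw [h2] at h1
    exact h1
  · intro w
    apply Subtype.ext
    show ρ g⁻¹ (ρ g w.1) = w.1
    rw [← Module.End.mul_apply, ← map_mul, inv_mul_cancel, map_one, Module.End.one_apply]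
  · intro w
    apply Subtype.ext
    show ρ g (ρ g⁻¹ w.1) = w.1
    rw [← Module.End.mul_apply, ← map_mul, mul_inv_cancel, map_one, Module.End.one_apply]

end fix

section main

variable {X : Type u} [Group X] [Finite X]

theorem main (p : ℕ) [Fact p.Prime] (V : Subgroup X) [V.Normal]
    (hVexp : ∀ v ∈ V, v ^ p = 1) (hidx : ¬ p ∣ V.index)
    (hself : Subgroup.centralizer (V : Set X) = V) (G : Subgroup X)
    (hGV : Subgroup.IsComplement' V G) (v : X) (hv : v ∈ V) (U : Subgroup X) (hUV : U ≤ V)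
    (hUinv : ∀ h ∈ G, h * v * h⁻¹ = v → ∀ u ∈ U, h * u * h⁻¹ ∈ U)
    (hUfaith : ∀ h ∈ G, h * v * h⁻¹ = v → (∀ u ∈ U, h * u * h⁻¹ = u) → h = 1)
    (β : X → X → ZMod p)
    (hβl : ∀ u ∈ U, ∀ u' ∈ U, ∀ w ∈ U, β (u * u') w = β u w + β u' w)
    (hβr : ∀ u ∈ U, ∀ w ∈ U, ∀ w' ∈ U, β u (w * w') = β u w + β u w')
    (hβinv : ∀ h ∈ G, h * v * h⁻¹ = v → ∀ u ∈ U, ∀ w ∈ U,
      β (h * u * h⁻¹) (h * w * h⁻¹) = β u w)
    (hβnd : ∀ u ∈ U, (∀ w ∈ U, β u w = 0) → u = 1) :
    Nat.card (ConjClasses X) ≤ Nat.card V := by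
  classical
  have hp : p.Prime := Fact.out
  -- the order of `H = C_G(v)` is prime to `p`
  have hcopH : ¬ p ∣ Nat.card ↥(G ⊓ Subgroup.centralizer ({v} : Set X)) := by
    intro hd
    apply hidx
    rw [hGV.symm.index_eq_card]
    exact dvd_trans hd (Subgroup.card_dvd_of_le inf_le_left)
  -- the cyclotomic level
  set m : ℕ := p * Nat.card X with hmdef
  have : NeZero m := ⟨Nat.mul_ne_zero hp.ne_zero (Nat.card_pos (α := X)).ne'⟩
  have hm : ∀ x : X, x ^ m = 1 := fun x => by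
    rw [hmdef, mul_comm, pow_mul, pow_card_eq_one', one_pow]
  have hpm : p ∣ m := Dvd.intro _ rfl
  have hHm : ∀ h : ↥(G ⊓ Subgroup.centralizer ({v} : Set X)), h ^ m = 1 := fun h => by
    apply Subtype.ext
    rw [Subgroup.coe_pow, hm, Subgroup.coe_one]
  -- membership facts about `H`
  have hHG : ∀ h : ↥(G ⊓ Subgroup.centralizer ({v} : Set X)), (h : X) ∈ G := fun h => h.2.1
  have hHv : ∀ h : ↥(G ⊓ Subgroup.centralizer ({v} : Set X)), (h : X) * v * (h : X)⁻¹ = v := by
    intro h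
    have h1 := Subgroup.mem_centralizer_iff.mp h.2.2 v (Set.mem_singleton v)
    rw [← h1, mul_inv_cancel_right]
  -- the module
  obtain ⟨W, iA, iM, iF, ρ, B, e, heq, hBnd, hBinv⟩ :=
    Cfsg.Agent.Lib.H27.RV.exists_module p V hVexp hself G v U hUV hUinv β hβl hβr hβinv hβnd
  -- the splitting (S4966)
  obtain ⟨P, Q, hc, hP, hQ, ⟨A, hAalt, hAinv, hAnd⟩, ⟨S, hSsym, hSinv, hSnd⟩, -⟩ :=
    Cfsg.Agent.S4966.result p hcopH ρ B hBnd hBinv
  -- the symmetric part
  obtain ⟨Y₂, hY₂⟩ := Cfsg.Agent.Lib.H24.RV.exists_kdata_symm m hpm hcopH (subRep ρ Q hQ) (S.domRestrict₁₂ Q Q)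
    (fun x y => hSsym x y) (fun g x y => hSinv g x x.2 y y.2)
    (fun x hx => Subtype.ext (hSnd x x.2 (fun y hy => hx ⟨y, hy⟩)))
  -- the alternating part
  obtain ⟨Y₁, hY₁⟩ : ∃ Y₁ : ↥(G ⊓ Subgroup.centralizer ({v} : Set X)) → CyclotomicField m ℚ,
      IsKData p m (subRep ρ P hP) Y₁ := by
    by_cases hp2 : p = 2
    · -- alternating forms are symmetric in characteristic two
      have hsym : ∀ x y : W, A x y = A y x := by
        intro x y
        have h1 := hAalt (x + y)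
        simp only [map_add, LinearMap.add_apply, hAalt, zero_add, add_zero] at h1
        have h2 : A x y = - A y x := by linear_combination h1
        have h3 : ∀ z : ZMod p, -z = z := by
          subst hp2
          intro z
          exact ZMod.neg_eq_self_mod_two z
        rw [h2, h3]
      exact Cfsg.Agent.Lib.H24.RV.exists_kdata_symm m hpm hcopH (subRep ρ P hP) (A.domRestrict₁₂ P P)
        (fun x y => hsym x y) (fun g x y => hAinv g x x.2 y y.2)
        (fun x hx => Subtype.ext (hAnd x x.2 (fun y hy => hx ⟨y, hy⟩)))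
    · exact Cfsg.Agent.Lib.H2.RV.exists_kdata_alt hp2 m hpm hHm hcopH (subRep ρ P hP) (A.domRestrict₁₂ P P)
        (fun x => hAalt x) (fun g x y => hAinv g x x.2 y y.2)
        (fun x hx => Subtype.ext (hAnd x x.2 (fun y hy => hx ⟨y, hy⟩)))
  have hY := Cfsg.Agent.Lib.H27.RV.isKData_mul m ρ P Q hc hP hQ hY₁ hY₂
  set Y : ↥(G ⊓ Subgroup.centralizer ({v} : Set X)) → CyclotomicField m ℚ :=
    fun h => Y₁ h * Y₂ h with hYdef
  -- fixed points of `h` on `W` correspond to `C_U(h)`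
  have hfixU : ∀ h : ↥(G ⊓ Subgroup.centralizer ({v} : Set X)),
      fixCard ρ h = Nat.card ↥(U ⊓ Subgroup.centralizer ({(h : X)} : Set X)) := by
    intro h
    unfold fixCard
    apply Nat.card_congr
    refine
      { toFun := fun w => ⟨((e w.1 : ↥U) : X), (e w.1).2, ?_⟩
        invFun := fun u => ⟨e.symm ⟨u.1, u.2.1⟩, ?_⟩
        left_inv := ?_
        right_inv := ?_ }
    · show ((e w.1 : ↥U) : X) ∈ Subgroup.centralizer ({(h : X)} : Set X)
      rw [Subgroup.mem_centralizer_iff]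
      intro x hx
      rw [Set.mem_singleton_iff] at hx
      subst hx
      have h1 := heq h w.1
      rw [w.2] at h1
      have h2 : (h : X) * ((e w.1 : ↥U) : X) =
          (h : X) * ((e w.1 : ↥U) : X) * (h : X)⁻¹ * (h : X) := by group
      rw [h2, ← h1]
    · apply e.injective
      apply Subtype.ext
      rw [heq, Equiv.apply_symm_apply]
      have h1 := Subgroup.mem_centralizer_iff.mp u.2.2 (h : X) (Set.mem_singleton _)
      show (h : X) * u.1 * (h : X)⁻¹ = u.1
      rw [h1, mul_inv_cancel_right]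
    · intro w
      apply Subtype.ext
      show e.symm ⟨((e w.1 : ↥U) : X), _⟩ = w.1
      simp
    · intro u
      apply Subtype.ext
      show ((e (e.symm ⟨u.1, u.2.1⟩) : ↥U) : X) = u.1
      simp
  have hfixpos : ∀ h, (0 : ℝ) < (fixCard ρ h : ℝ) := fun h => by
    exact_mod_cast fixCard_pos ρ h
  have hWU : Nat.card W = Nat.card U := Nat.card_congr e
  -- the datum for the criterion
  set y : ↥(G ⊓ Subgroup.centralizer ({v} : Set X)) → CyclotomicField m ℚ :=
    fun h => Y h * ((fixCard ρ h : ℕ) : CyclotomicField m ℚ)⁻¹ with hydef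
  have hyemb : ∀ (σ : Gal(CyclotomicField m ℚ/ℚ)) h,
      cycEmb m (σ (y h)) = cycEmb m (σ (Y h)) / (fixCard ρ h : ℂ) := by
    intro σ h
    rw [hydef]
    simp only [map_mul, map_inv₀, map_natCast]
    rw [div_eq_mul_inv]
  have hyemb1 : ∀ h, cycEmb m (y h) = cycEmb m (Y h) / (fixCard ρ h : ℂ) := by
    intro h
    have := hyemb 1 h
    simpa using this
  -- faithfulness
  have hfaith : ∀ h : ↥(G ⊓ Subgroup.centralizer ({v} : Set X)), h ≠ 1 → ρ h ≠ 1 := by
    intro h hne h1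
    apply hne
    apply Subtype.ext
    rw [Subgroup.coe_one]
    apply hUfaith (h : X) (hHG h) (hHv h)
    intro u hu
    have h2 := heq h (e.symm ⟨u, hu⟩)
    rw [h1, Module.End.one_apply, Equiv.apply_symm_apply] at h2
    exact h2.symm
  -- the hypotheses of the criterion
  apply Cfsg.Agent.Lib.H26.RV.class_number_le p V hVexp hidx hself G hGV v hv m hm y
  · intro h g
    rw [hydef]
    simp only
    rw [hY.conj_inv, fixCard_conj]
  · intro σ h
    rw [hyemb, norm_div, div_pow, hY.norm_sq σ h, Complex.norm_natCast]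
    have hA : Nat.card {w : X // w ∈ V ∧ (h : X) * w = w * (h : X)} =
        Nat.card ↥(V ⊓ Subgroup.centralizer ({(h : X)} : Set X)) := by
      apply Nat.card_congr
      refine Equiv.subtypeEquivRight fun w => ?_
      rw [Subgroup.mem_inf, Subgroup.mem_centralizer_iff]
      constructor
      · rintro ⟨h1, h2⟩
        refine ⟨h1, fun x hx => ?_⟩
        rw [Set.mem_singleton_iff] at hx
        subst hx
        exact h2
      · rintro ⟨h1, h2⟩
        exact ⟨h1, h2 _ (Set.mem_singleton _)⟩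
    rw [hA]
    have hineq := card_mul_card_le (V ⊓ Subgroup.centralizer ({(h : X)} : Set X)) U V inf_le_left hUV
    have hUA : U ⊓ (V ⊓ Subgroup.centralizer ({(h : X)} : Set X)) =
        U ⊓ Subgroup.centralizer ({(h : X)} : Set X) := by
      rw [← inf_assoc, inf_eq_left.mpr hUV]
    rw [hUA, ← hfixU h, ← hWU] at hineq
    have hf := hfixpos h
    have hineqR : (Nat.card ↥(V ⊓ Subgroup.centralizer ({(h : X)} : Set X)) : ℝ) * (Nat.card W : ℝ) ≤
        (Nat.card V : ℝ) * (fixCard ρ h : ℝ) := by exact_mod_cast hineq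
    rw [div_mul_eq_mul_div, div_le_iff₀ (by positivity)]
    calc (Nat.card W : ℝ) * (fixCard ρ h : ℝ) *
          (Nat.card ↥(V ⊓ Subgroup.centralizer ({(h : X)} : Set X)) : ℝ)
        = ((Nat.card ↥(V ⊓ Subgroup.centralizer ({(h : X)} : Set X)) : ℝ) * (Nat.card W : ℝ)) *
          (fixCard ρ h : ℝ) := by ring
      _ ≤ ((Nat.card V : ℝ) * (fixCard ρ h : ℝ)) * (fixCard ρ h : ℝ) := by gcongr
      _ = (Nat.card V : ℝ) * (fixCard ρ h : ℝ) ^ 2 := by ring
  · intro χ hχ
    set ψ : ↥(G ⊓ Subgroup.centralizer ({v} : Set X)) → ℂ :=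
      fun h => cycEmb m (Y h) / (fixCard ρ h : ℂ) with hψdef
    have hψy : ∀ h, cycEmb m (y h) = ψ h := hyemb1
    simp only [hψy]
    have hΨc : IsClassFunction ↥(G ⊓ Subgroup.centralizer ({v} : Set X))
        (fun h => cycEmb m (Y h)) := fun h g => by
      show cycEmb m (Y (g * h * g⁻¹)) = cycEmb m (Y h)
      rw [hY.conj_inv]
    have hψc : IsClassFunction ↥(G ⊓ Subgroup.centralizer ({v} : Set X)) ψ := fun h g => by
      show cycEmb m (Y (g * h * g⁻¹)) / (fixCard ρ (g * h * g⁻¹) : ℂ) = _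
      rw [hY.conj_inv, fixCard_conj]
    have hψO : OInt ↥(G ⊓ Subgroup.centralizer ({v} : Set X)) ψ :=
      Cfsg.Agent.Lib.H23.RV.oInt_div_fixCard hcopH ρ (fun h => cycEmb m (Y h)) hΨc hY.oint
    have hψ1 : ψ 1 = 1 := by
      rw [hψdef]
      simp only
      rw [hY.triv 1 (map_one ρ)]
      have h1 : fixCard ρ 1 = Nat.card W := by
        unfold fixCard
        rw [map_one]
        exact Nat.card_congr (Equiv.subtypeUnivEquiv (fun w => rfl))
      rw [h1]
      have : (Nat.card W : ℂ) ≠ 0 := Nat.cast_ne_zero.mpr (Nat.card_pos (α := W)).ne'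
      exact div_self this
    have hψdiv : ∀ h : ↥(G ⊓ Subgroup.centralizer ({v} : Set X)), h ≠ 1 →
        ∃ ζ a b : ℂ, ζ ^ p = 1 ∧ IsIntegral ℤ a ∧ IsIntegral ℤ b ∧
          ψ h = (1 - ζ) * a + (p : ℂ) * b := by
      intro h hne
      obtain ⟨ζ, a, b, hζ, ha, hb, hab⟩ := hY.div h (hfaith h hne)
      refine ⟨ζ, a, b, hζ, ha, hb, ?_⟩
      rw [hψdef]
      simp only
      rw [hab]
      have : (fixCard ρ h : ℂ) ≠ 0 := Nat.cast_ne_zero.mpr (fixCard_pos ρ h).ne'
      field_simp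
    exact ⟨Cfsg.Agent.Lib.H6.RV.achi_ne_zero p V hVexp hidx hself G hGV v hv ψ hψ1 hψdiv χ hχ,
      Cfsg.Agent.Lib.H6.RV.achi_isIntegral G v ψ hψc hψO χ (Cfsg.Agent.Lib.L0.isCharacter_of_irr hχ)⟩

end main

end Main

end Cfsg.Agent.Lib.H23.RV
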