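import Cfsg.Agent.Lib.H23.RVDefs
import Cfsg.Agent.Lib.H23.BrauerThm

/-!
# S4959, piece OBR: Brauer's characterization with algebraic-integer coefficients (helper23)

`oInt_of_elementary`: a class function whose restrictions to all elementary subgroups are
`O`-integral is `O`-integral.
-/

set_option autoImplicit false

universe u

namespace Cfsg.Agent.Lib.H23.RV

open Cfsg Cfsg.Agent.Lib.L0 Cfsg.Agent.Lib.H8 Cfsg.Agent.Lib.H23
open scoped ComplexConjugate

theorem oInt_of_elementary {Γ : Type u} [Group Γ] [Finite Γ] {Z : Γ → ℂ}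
    (hZ : IsClassFunction Γ Z)
    (hE : ∀ (E : Subgroup Γ) (q : ℕ), q.Prime → IsElementary q E → OInt E (fun e : E => Z e)) :
    OInt Γ Z := by
  classical
  have : Fintype Γ := Fintype.ofFinite Γ
  rw [oInt_iff]
  intro η hη
  have key : ∀ f : Γ → ℂ, f ∈ linSpan Γ → IsIntegral ℤ (Cfsg.classInner Z (f * η)) := by
    intro f hf
    induction hf using AddSubgroup.closure_induction with
    | mem f hf =>
      obtain ⟨E, lam, ⟨q, hq, hEl⟩, rfl⟩ := hf
      have : Fintype E := Fintype.ofFinite E
      rw [← indFun_mul_restrict' E _ η (isClassFunction_of_isCharacter hη)]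
      rw [← classInner_conj_symm, Cfsg.Agent.Lib.L0.frobenius_reciprocity E _ Z hZ, classInner_conj_symm]
      have hlam : Cfsg.IsCharacter E (fun e => (lam e : ℂ)) :=
        isCharacter_of_irr (isIrrCharacter_of_hom lam)
      have h1 := (oInt_iff (K := E) (fun e : E => Z e)).mp (hE E q hq hEl) _
        (isCharacter_mul hlam (isCharacter_restrict E hη))
      exact h1
    | zero =>
      rw [zero_mul, classInner_zero_right]
      exact isIntegral_zero
    | add f₁ f₂ _ _ h₁ h₂ =>
      rw [add_mul, classInner_add_right]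
      exact h₁.add h₂
    | neg f _ h =>
      rw [neg_mul, classInner_neg_right]
      exact h.neg
  have h := key _ one_mem_linSpan
  have h2 : (fun _ : Γ => (1 : ℂ)) * η = η := by
    funext g
    simp
  rwa [h2] at h

end Cfsg.Agent.Lib.H23.RV
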