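import Cfsg.Agent.Lib.H23.RelMGroup
import Cfsg.Agent.Lib.H23.DadeExt
import Cfsg.Agent.Lib.H3.PrimSolv
import Cfsg.Agent.Lib.H3.Wielandt

/-!
# Relative M-groups with abelian Sylow subgroups are M-groups (Isaacs 6.23), helper23
-/

set_option autoImplicit false

namespace Cfsg.Agent.Lib.H23

open Cfsg Cfsg.Agent.Lib.L0
open scoped ComplexConjugate

universe u

section LemmaR

variable {G : Type*} [Group G] [Fintype G]

omit [Fintype G] in
/-- Inner product of a character of `D ≤ T` with the restriction of a sum of irreducible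
characters of `T` is a natural number. -/
theorem exists_nat_classInner_restrict_list_sum (T : Subgroup G) [Fintype T] (D : Subgroup T)
    [Fintype D] (α : D → ℂ) (hα : IsCharacter D α) (l : List (T → ℂ))
    (hl : ∀ ξ ∈ l, IsIrrCharacter T ξ) :
    ∃ j : ℕ, classInner α (fun x : D => l.sum x) = j := by
  have h1 : IsCharacter T l.sum := isCharacter_list_sum (fun ξ hξ => isCharacter_of_irr (hl ξ hξ))
  exact classInner_char_char_nat hα (isCharacter_restrict D h1)

/-- If `ψ = η^G` is irreducible with irreducible restriction to the normal subgroup `N`, then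
`η` restricts irreducibly to `N ∩ T`. -/
theorem isIrrCharacter_restrict_of_indFun (N : Subgroup G) [hN : N.Normal] (T : Subgroup G)
    (η : T → ℂ) (hη : IsIrrCharacter T η) (hψ : IsIrrCharacter G (indFun T η))
    (hψN : IsIrrCharacter N (fun n : N => indFun T η n)) :
    IsIrrCharacter (N.subgroupOf T) (fun x : N.subgroupOf T => η x) := by
  classical
  have : Fintype N := Fintype.ofFinite N
  have : Fintype T := Fintype.ofFinite T
  have : Fintype (N.subgroupOf T) := Fintype.ofFinite _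
  have hψcl := isClassFunction_of_isCharacter (isCharacter_of_irr hψ)
  have hinv : ∀ (g : G) (n : N), (fun n : N => indFun T η n)
      ⟨g * n * g⁻¹, hN.conj_mem (n : G) n.2 g⟩ = (fun n : N => indFun T η n) n := by
    intro g n
    exact hψcl n g
  have h1 := classInner_restrict_indFun_invariant N (fun n : N => indFun T η n) hinv T η
  rw [irr_classInner_self hψN] at h1
  have hηD : IsCharacter (N.subgroupOf T) (fun x : N.subgroupOf T => η x) :=
    isCharacter_restrict _ (isCharacter_of_irr hη)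
  -- `ψ_T = η + Δ`
  have hψT : IsCharacter T (fun t : T => indFun T η t) :=
    isCharacter_restrict T (isCharacter_of_irr hψ)
  obtain ⟨l, hl, hlsum⟩ := isCharacter_exists_irr_decomp hψT
  have hfrob := frobenius_reciprocity T η (indFun T η) hψcl
  rw [irr_classInner_self hψ] at hfrob
  have hcount : (l.count η : ℂ) = 1 := by
    rw [← classInner_irr_list_sum hl hη, ← hlsum, ← classInner_conj_symm, ← hfrob, map_one]
  have hmem : η ∈ l := by
    rw [← List.count_pos_iff]
    have : l.count η = 1 := by exact_mod_cast hcount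
    omega
  have hperm := List.perm_cons_erase hmem
  have hsum : l.sum = η + (l.erase η).sum := by
    rw [hperm.sum_eq, List.sum_cons]
  obtain ⟨j, hj⟩ := exists_nat_classInner_restrict_list_sum T (N.subgroupOf T)
    (fun x : N.subgroupOf T => η x) hηD (l.erase η)
    (fun ξ hξ => hl ξ (List.mem_of_mem_erase hξ))
  obtain ⟨k, hk⟩ := classInner_char_char_nat hηD hηD
  have hsplit : classInner (fun x : N.subgroupOf T => η x)
      (fun x : N.subgroupOf T => (fun n : N => indFun T η n) ⟨((x : T) : G), x.2⟩) =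
      (k : ℂ) + j := by
    rw [← hk, ← hj, ← classInner_add_right]
    congr 1
    funext x
    have h5 : indFun T η ((x : T) : G) = l.sum (x : T) := congrFun hlsum (x : T)
    rw [hsum] at h5
    exact h5
  rw [hsplit] at h1
  have hk0 : k ≠ 0 := by
    rintro rfl
    rw [Nat.cast_zero] at hk
    have h0 := congrFun (classInner_self_eq_zero hk) 1
    have h3 : η 1 ≠ 0 := Cfsg.Agent.Lib.H24.irr_one_ne_zero ⟨η, hη⟩
    exact h3 h0
  have h2 : (T ⊔ N).index * (k + j) = 1 := by exact_mod_cast h1.symm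
  have h3 : k + j = 1 := Nat.eq_one_of_mul_eq_one_left h2
  have hk1 : k = 1 := by omega
  apply isIrrCharacter_of_classInner_self_eq_one hηD
  rw [hk, hk1, Nat.cast_one]

end LemmaR

section LemmaP

/-- A normal subgroup `A` with commutative, not entirely scalar image under the irreducible
representation `ρ` carries an irreducible constituent of `χ_A` with proper inertia group. -/
theorem exists_proper_inertia_of_comm {G : Type u} [Group G] [Fintype G] {m : ℕ}
    (ρ : Representation ℂ G (Fin m → ℂ)) (hirr : ρ.IsIrreducible) (A : Subgroup G)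
    (hA : A.Normal) (hAcomm : ∀ a ∈ A, ∀ b ∈ A, ρ (a * b) = ρ (b * a))
    (hns : ¬ ∀ a ∈ A, ∃ c : ℂ, ρ a = c • 1) :
    ∃ ϑ : A → ℂ, IsIrrCharacter A ϑ ∧
      @classInner A _ (Fintype.ofFinite A) (fun n : A => ρ.character n) ϑ ≠ 0 ∧
      @inertia G _ A hA ϑ ≠ ⊤ := by
  classical
  have := hirr
  have hχ : IsIrrCharacter G ρ.character := ⟨m, ρ, hirr, rfl⟩
  have hKmem : ∀ g : G, g ∈ MonoidHom.ker ρ ↔ ρ g = 1 := fun g => MonoidHom.mem_ker
  have : Fintype A := Fintype.ofFinite A
  have hχA : IsCharacter A (fun n : A => ρ.character n) :=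
    isCharacter_restrict A (isCharacter_of_irr hχ)
  have hχ1 : ρ.character 1 ≠ 0 := Cfsg.Agent.Lib.H24.irr_one_ne_zero ⟨ρ.character, hχ⟩
  obtain ⟨ϑ, hϑ, hcon⟩ := exists_irr_constituent hχA (by simpa using hχ1)
  refine ⟨ϑ, hϑ, ?_, ?_⟩
  · convert hcon
  intro hT
  have hinv : ∀ (g : G) (n : A), ϑ ⟨g * n * g⁻¹, hA.conj_mem (n : G) n.2 g⟩ = ϑ n := by
    intro g
    have : g ∈ @inertia G _ A hA ϑ := by rw [hT]; trivial
    exact this
  have hres := @restrict_eq_smul_of_invariant G _ _ A hA _ ρ.character hχ ϑ hϑ hcon hinv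
  set e := classInner (fun n : A => ρ.character n) ϑ with he
  have hval : ∀ a : A, ρ.character a = e * ϑ a := by
    intro a
    have := congrFun hres a
    simpa using this
  obtain ⟨k, σ, hσirr, hσ⟩ := hϑ
  have := hσirr
  -- `ker ρ` acts trivially under `σ`
  have hσK : ∀ a : A, ρ (a : G) = 1 → σ a = 1 := by
    intro a ha
    have h2 : ρ.character a = ρ.character 1 := (char_eq_char_one_iff ρ a).mpr ha
    have h3 : ϑ a = ϑ 1 := by
      have h4 := hval a
      have h5 := hval 1
      rw [OneMemClass.coe_one] at h5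
      rw [h2, h5] at h4
      exact (mul_left_cancel₀ hcon h4).symm
    rw [← hσ] at h3
    exact (char_eq_char_one_iff σ a).mp h3
  have hσcomm : ∀ a b : A, σ (a * b) = σ (b * a) := by
    intro a b
    have hc : ρ (((a * b)⁻¹ * (b * a) : A) : G) = 1 := by
      push_cast
      rw [map_mul, ← hAcomm a a.2 b b.2, ← map_mul, inv_mul_cancel, map_one]
    have := hσK _ hc
    calc σ (a * b) = σ (a * b) * σ ((a * b)⁻¹ * (b * a)) := by rw [this, mul_one]
      _ = σ (b * a) := by rw [← map_mul]; congr 1; group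
  have hnorm : ∀ a : A, ‖ρ.character a‖ = ‖e‖ := by
    intro a
    rw [hval a, norm_mul, ← hσ, norm_char_eq_one_of_rep_comm σ hσcomm a, mul_one]
  apply hns
  intro a ha
  apply (norm_char_eq_finrank_iff ρ a).mp
  have h2 := hnorm ⟨a, ha⟩
  have h3 := hnorm 1
  rw [OneMemClass.coe_one] at h3
  have h4 : ‖ρ.character 1‖ = Module.finrank ℂ (Fin m → ℂ) := by
    rw [Representation.char_one]
    simp
  rw [← h4, h3]
  exact h2

end LemmaP

section LemmaG

/-- All `p`-subgroups of `N` are abelian, for every prime `p`. -/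
def AbelianPSubgroups {G : Type*} [Group G] (N : Subgroup G) : Prop :=
  ∀ (p : ℕ) [Fact p.Prime] (Q : Subgroup G), Q ≤ N → IsPGroup p Q →
    ∀ a ∈ Q, ∀ b ∈ Q, a * b = b * a

theorem abelianPSubgroups_of_sylow {G : Type*} [Group G] [Finite G] (N : Subgroup G)
    (hab : ∀ (p : ℕ) [Fact p.Prime] (P : Sylow p N), ∀ a ∈ P, ∀ b ∈ P, a * b = b * a) :
    AbelianPSubgroups N := by
  intro p _ Q hQN hQ a ha b hb
  have hQ' : IsPGroup p (Q.subgroupOf N) := hQ.comap_subtype
  obtain ⟨P, hP⟩ := hQ'.exists_le_sylow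
  have h1 := hab p P ⟨a, hQN ha⟩ (hP (Subgroup.mem_subgroupOf.mpr ha)) ⟨b, hQN hb⟩
    (hP (Subgroup.mem_subgroupOf.mpr hb))
  exact congrArg Subtype.val h1

theorem AbelianPSubgroups.mono {G : Type*} [Group G] {N N' : Subgroup G}
    (h : AbelianPSubgroups N) (hle : N' ≤ N) : AbelianPSubgroups N' :=
  fun p _ Q hQ hp => h p Q (hQ.trans hle) hp

theorem AbelianPSubgroups.subgroupOf {G : Type*} [Group G] {N : Subgroup G}
    (h : AbelianPSubgroups N) (T : Subgroup G) : AbelianPSubgroups (N.subgroupOf T) := by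
  intro p _ Q hQN hQ a ha b hb
  have h1 := h p (Q.map T.subtype) ?_ (hQ.map _) a ⟨a, ha, rfl⟩ b ⟨b, hb, rfl⟩
  · exact Subtype.ext h1
  · rintro _ ⟨x, hx, rfl⟩
    exact Subgroup.mem_subgroupOf.mp (hQN hx)

/-- In a solvable group `H` with normal subgroups `Z < N`, all `p`-subgroups of `N` abelian,
there is a normal subgroup `B ≤ N` of `H`, not in `Z`, which is abelian modulo `Z`-factors. -/
theorem exists_normal_sylow_decomp {H : Type*} [Group H] [Finite H] [Group.IsSolvable H]
    (N Z : Subgroup H) [hNn : N.Normal] [hZn : Z.Normal] (hZN : Z ≤ N) (hne : ¬ N ≤ Z)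
    (hab : AbelianPSubgroups N) :
    ∃ B : Subgroup H, B.Normal ∧ B ≤ N ∧ ¬ B ≤ Z ∧ ∀ b₁ ∈ B, ∀ b₂ ∈ B,
      ∃ q₁ q₂ z₁ z₂ : H, z₁ ∈ Z ∧ z₂ ∈ Z ∧ b₁ = q₁ * z₁ ∧ b₂ = q₂ * z₂ ∧ q₁ * q₂ = q₂ * q₁ := by
  classical
  have hker : (QuotientGroup.mk' Z).ker = Z := QuotientGroup.ker_mk' Z
  have hsurj : Function.Surjective (QuotientGroup.mk' Z) := QuotientGroup.mk'_surjective Z
  have hNbar : (N.map (QuotientGroup.mk' Z)).Normal := hNn.map _ hsurj
  have hNbar1 : N.map (QuotientGroup.mk' Z) ≠ ⊥ := by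
    intro h
    rw [Subgroup.map_eq_bot_iff, hker] at h
    exact hne h
  obtain ⟨M, ⟨hMn, hM1, hMmin⟩, hMN⟩ :=
    Cfsg.Agent.Lib.H3.exists_isMinNormal_le (N.map (QuotientGroup.mk' Z)) hNbar hNbar1
  have hcomm := Cfsg.Agent.Lib.H3.minNormal_comm_of_isSolvable M hM1 hMmin
  obtain ⟨p, d, hp, -, hcard, -⟩ :=
    Cfsg.Agent.Lib.H3.minNormal_exists_prime_pow M hM1 hMmin hcomm
  have : Fact p.Prime := ⟨hp⟩
  have hBn : (M.comap (QuotientGroup.mk' Z)).Normal := hMn.comap _
  have hBN : M.comap (QuotientGroup.mk' Z) ≤ N := by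
    intro b hb
    obtain ⟨n, hn, hnb⟩ := hMN (Subgroup.mem_comap.mp hb)
    have h1 : n⁻¹ * b ∈ Z := by
      rw [← hker, MonoidHom.mem_ker, map_mul, map_inv, hnb, inv_mul_cancel]
    have h2 : b = n * (n⁻¹ * b) := by group
    rw [h2]
    exact N.mul_mem hn (hZN h1)
  have hZB : Z ≤ M.comap (QuotientGroup.mk' Z) := by
    intro z hz
    rw [Subgroup.mem_comap]
    have : (QuotientGroup.mk' Z) z = 1 := by
      rw [← MonoidHom.mem_ker, hker]
      exact hz
    rw [this]
    exact M.one_mem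
  have hmapB : (M.comap (QuotientGroup.mk' Z)).map (QuotientGroup.mk' Z) = M :=
    Subgroup.map_comap_eq_self_of_surjective hsurj M
  have hBZ : ¬ M.comap (QuotientGroup.mk' Z) ≤ Z := by
    intro h
    apply hM1
    rw [← hmapB, Subgroup.map_eq_bot_iff, hker]
    exact h
  refine ⟨M.comap (QuotientGroup.mk' Z), hBn, hBN, hBZ, ?_⟩
  obtain ⟨Q⟩ := (inferInstance : Nonempty (Sylow p (M.comap (QuotientGroup.mk' Z))))
  have hidx : (Z.subgroupOf (M.comap (QuotientGroup.mk' Z))).index = p ^ d := by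
    have h1 := Subgroup.relIndex_comap (H := (⊥ : Subgroup (H ⧸ Z))) (QuotientGroup.mk' Z)
      (M.comap (QuotientGroup.mk' Z))
    rw [MonoidHom.comap_bot, hker, hmapB, Subgroup.relIndex_bot_left, hcard] at h1
    exact h1
  have htop : (Q : Subgroup (M.comap (QuotientGroup.mk' Z))) ⊔
      Z.subgroupOf (M.comap (QuotientGroup.mk' Z)) = ⊤ := by
    rw [← Subgroup.index_eq_one]
    have h1 := Subgroup.index_dvd_of_le (le_sup_left :
      (Q : Subgroup (M.comap (QuotientGroup.mk' Z))) ≤ (Q : Subgroup _) ⊔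
        Z.subgroupOf (M.comap (QuotientGroup.mk' Z)))
    have h2 := Subgroup.index_dvd_of_le (le_sup_right :
      Z.subgroupOf (M.comap (QuotientGroup.mk' Z)) ≤ (Q : Subgroup _) ⊔
        Z.subgroupOf (M.comap (QuotientGroup.mk' Z)))
    rw [hidx] at h2
    obtain ⟨i, -, hi⟩ := (Nat.dvd_prime_pow hp).mp h2
    rcases Nat.eq_zero_or_pos i with h0 | h0
    · rw [hi, h0, pow_zero]
    · exfalso
      apply Q.not_dvd_index
      exact dvd_trans (hi ▸ dvd_pow_self p h0.ne') h1
  have hQab : ∀ a ∈ (Q : Subgroup (M.comap (QuotientGroup.mk' Z))),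
      ∀ b ∈ (Q : Subgroup (M.comap (QuotientGroup.mk' Z))), (a : H) * b = b * a := by
    intro a ha b hb
    refine hab p ((Q : Subgroup (M.comap (QuotientGroup.mk' Z))).map (Subgroup.subtype _)) ?_
      (Q.isPGroup'.map _) a ⟨a, ha, rfl⟩ b ⟨b, hb, rfl⟩
    rintro _ ⟨x, -, rfl⟩
    exact hBN x.2
  have hdecomp : ∀ b : M.comap (QuotientGroup.mk' Z),
      ∃ q ∈ (Q : Subgroup (M.comap (QuotientGroup.mk' Z))),
        ∃ z ∈ Z.subgroupOf (M.comap (QuotientGroup.mk' Z)), b = q * z := by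
    intro b
    have hb : b ∈ (Q : Subgroup (M.comap (QuotientGroup.mk' Z))) ⊔
        Z.subgroupOf (M.comap (QuotientGroup.mk' Z)) := by
      rw [htop]; trivial
    rw [← SetLike.mem_coe, Subgroup.mul_normal, Set.mem_mul] at hb
    obtain ⟨q, hq, z, hz, hqz⟩ := hb
    exact ⟨q, hq, z, hz, hqz.symm⟩
  intro b₁ hb₁ b₂ hb₂
  obtain ⟨q₁, hq₁, z₁, hz₁, h1⟩ := hdecomp ⟨b₁, hb₁⟩
  obtain ⟨q₂, hq₂, z₂, hz₂, h2⟩ := hdecomp ⟨b₂, hb₂⟩
  refine ⟨q₁, q₂, z₁, z₂, Subgroup.mem_subgroupOf.mp hz₁, Subgroup.mem_subgroupOf.mp hz₂, ?_, ?_,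
    hQab q₁ hq₁ q₂ hq₂⟩
  · exact congrArg Subtype.val h1
  · exact congrArg Subtype.val h2

end LemmaG

section Scalar

variable {G : Type*} [Group G] {V : Type*} [AddCommGroup V] [Module ℂ V]

/-- The elements acting by scalars under `ρ`. -/
def scalarSubgroup (ρ : Representation ℂ G V) : Subgroup G where
  carrier := {g | ∃ c : ℂ, ρ g = c • 1}
  mul_mem' := by
    rintro a b ⟨c, hc⟩ ⟨d, hd⟩
    refine ⟨c * d, ?_⟩
    rw [map_mul, hc, hd, smul_mul_smul_comm, mul_one]
  one_mem' := ⟨1, by rw [map_one, one_smul]⟩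
  inv_mem' := by
    rintro a ⟨c, hc⟩
    have h1 : ρ a * ρ a⁻¹ = 1 := by rw [← map_mul, mul_inv_cancel, map_one]
    rw [hc, smul_mul_assoc, one_mul] at h1
    refine ⟨c⁻¹, ?_⟩
    by_cases hc0 : c = 0
    · rw [hc0, zero_smul] at h1
      rw [← mul_one (ρ a⁻¹), ← h1, mul_zero, hc0, inv_zero, zero_smul]
    · rw [← h1, smul_smul, inv_mul_cancel₀ hc0, one_smul]

theorem mem_scalarSubgroup (ρ : Representation ℂ G V) (g : G) :
    g ∈ scalarSubgroup ρ ↔ ∃ c : ℂ, ρ g = c • 1 := Iff.rfl

instance scalarSubgroup_normal (ρ : Representation ℂ G V) : (scalarSubgroup ρ).Normal := by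
  constructor
  rintro a ⟨c, hc⟩ g
  refine ⟨c, ?_⟩
  rw [map_mul, map_mul, hc, mul_smul_comm, mul_one, smul_mul_assoc, ← map_mul, mul_inv_cancel,
    map_one]

end Scalar

section Main

/-- Core of **Isaacs 6.23**: an irreducible character of a solvable group restricting irreducibly
to a normal subgroup with abelian Sylow subgroups is monomial. -/
theorem monomial_of_restrict_irr_aux : ∀ (n : ℕ) (H : Type u) [Group H] [Fintype H]
    [Group.IsSolvable H] (N : Subgroup H) [N.Normal],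
    Nat.card H = n → AbelianPSubgroups N → ∀ ψ : H → ℂ, IsIrrCharacter H ψ →
    IsIrrCharacter N (fun x : N => ψ x) →
    ∃ (U : Subgroup H) (lam : U → ℂ), IsCharacter U lam ∧ lam 1 = 1 ∧ indFun U lam = ψ := by
  intro n
  induction n using Nat.strong_induction_on with
  | _ n ih =>
    intro H _ _ _ N hNn hcard hab ψ hψ hψN
    classical
    have hψc := isCharacter_of_irr hψ
    have hψcl := isClassFunction_of_isCharacter hψc
    by_cases h1 : ψ 1 = 1
    · exact ⟨⊤, fun h => ψ h, isCharacter_restrict ⊤ hψc, h1, indFun_top hψcl⟩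
    · obtain ⟨m, ρ, hirr, rfl⟩ := id hψ
      have := hirr
      -- `N` is not scalar
      have hNZ : ¬ N ≤ N ⊓ scalarSubgroup ρ := by
        intro hle
        apply h1
        obtain ⟨k, σ, hσirr, hσ⟩ := hψN
        have := hσirr
        have hdeg : (Module.finrank ℂ (Fin k → ℂ) : ℂ) = Module.finrank ℂ (Fin m → ℂ) := by
          have := congrFun hσ 1
          rw [Representation.char_one] at this
          rw [this, OneMemClass.coe_one, Representation.char_one]
        have hdeg' : Module.finrank ℂ (Fin k → ℂ) = Module.finrank ℂ (Fin m → ℂ) := by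
          exact_mod_cast hdeg
        have hsc : ∀ x : N, ∃ c : ℂ, σ x = c • 1 := by
          intro x
          apply (norm_char_eq_finrank_iff σ x).mp
          rw [hσ, hdeg']
          exact (norm_char_eq_finrank_iff ρ x).mpr (hle x.2).2
        have hk := Cfsg.Agent.Lib.H23.finrank_eq_one_of_forall_smul σ hsc
        rw [Representation.char_one, ← hdeg', hk, Nat.cast_one]
      obtain ⟨B, hBn, hBN, hBZ, hBdec⟩ :=
        exists_normal_sylow_decomp N (N ⊓ scalarSubgroup ρ) inf_le_left hNZ hab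
      have hBcomm : ∀ a ∈ B, ∀ b ∈ B, ρ (a * b) = ρ (b * a) := by
        intro a ha b hb
        obtain ⟨q₁, q₂, z₁, z₂, hz₁, hz₂, rfl, rfl, hq⟩ := hBdec a ha b hb
        obtain ⟨c₁, hc₁⟩ := hz₁.2
        obtain ⟨c₂, hc₂⟩ := hz₂.2
        simp only [map_mul, hc₁, hc₂, mul_smul_comm, smul_mul_assoc, mul_one]
        rw [← map_mul, ← map_mul, hq, smul_comm]
      have hBns : ¬ ∀ a ∈ B, ∃ c : ℂ, ρ a = c • 1 := by
        intro h
        exact hBZ (fun b hb => ⟨hBN hb, h b hb⟩)
      obtain ⟨ϑ, hϑ, hcon, hT⟩ := exists_proper_inertia_of_comm ρ hirr B hBn hBcomm hBns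
      have : Fintype B := Fintype.ofFinite B
      have : Fintype (@inertia H _ B hBn ϑ) := Fintype.ofFinite _
      have hBT : B ≤ @inertia H _ B hBn ϑ :=
        @le_inertia H _ B hBn ϑ (isClassFunction_of_isCharacter (isCharacter_of_irr hϑ))
      obtain ⟨η, hη, hind, -⟩ :=
        @clifford_correspondence H _ _ B (@inertia H _ B hBn ϑ) hBn _ _ hBT ϑ hϑ
          (fun g => Iff.rfl) ρ.character hψ (by convert hcon)
      have hlt : Nat.card (@inertia H _ B hBn ϑ) < n := by
        rw [← hcard]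
        exact lt_of_le_of_ne (Subgroup.card_le_card_group _)
          (fun h => hT (Subgroup.eq_top_of_card_eq _ h))
      have hηN : IsIrrCharacter (N.subgroupOf (@inertia H _ B hBn ϑ))
          (fun x : N.subgroupOf (@inertia H _ B hBn ϑ) => η x) := by
        apply isIrrCharacter_restrict_of_indFun N (@inertia H _ B hBn ϑ) η hη
        · rw [hind]; exact hψ
        · rw [hind]; exact hψN
      obtain ⟨U', lam, hlam, hlam1, hlamind⟩ := ih _ hlt (@inertia H _ B hBn ϑ)
        (N.subgroupOf (@inertia H _ B hBn ϑ)) rfl (hab.subgroupOf _) η hη hηN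
      refine ⟨U'.map (Subgroup.subtype _),
        lam ∘ (U'.equivMapOfInjective _ (Subgroup.subtype_injective _)).symm,
        isCharacter_comp (U'.equivMapOfInjective _
          (Subgroup.subtype_injective _)).symm.toMonoidHom hlam, ?_, ?_⟩
      · simp only [Function.comp, map_one]
        exact hlam1
      · rw [← hind, ← hlamind, indFun_trans_map]
        rfl

/-- **Isaacs 6.23**. -/
theorem mGroup_of_relM {G : Type u} [Group G] [Fintype G] [Group.IsSolvable G] (N : Subgroup G)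
    [N.Normal]
    (hab : ∀ (p : ℕ) [Fact p.Prime] (P : Sylow p N), ∀ a ∈ P, ∀ b ∈ P, a * b = b * a)
    (hrel : ∀ χ : G → ℂ, IsIrrCharacter G χ → ∃ (H : Subgroup G) (hNH : N ≤ H) (ψ : H → ℂ),
      IsIrrCharacter H ψ ∧ indFun H ψ = χ ∧
        IsIrrCharacter N (fun n : N => ψ ⟨(n : G), hNH n.2⟩))
    (χ : G → ℂ) (hχ : IsIrrCharacter G χ) :
    ∃ (U : Subgroup G) (lam : U → ℂ), IsCharacter U lam ∧ lam 1 = 1 ∧ indFun U lam = χ := by
  classical
  obtain ⟨H, hNH, ψ, hψ, hind, hψN⟩ := hrel χ hχ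
  have : Fintype H := Fintype.ofFinite H
  have hab' : AbelianPSubgroups (N.subgroupOf H) :=
    (abelianPSubgroups_of_sylow N hab).subgroupOf H
  have hψN' : IsIrrCharacter (N.subgroupOf H) (fun x : N.subgroupOf H => ψ x) :=
    isIrrCharacter_comp_mulEquiv (Subgroup.subgroupOfEquivOfLe hNH) hψN
  obtain ⟨U', lam, hlam, hlam1, hlamind⟩ :=
    monomial_of_restrict_irr_aux _ H (N.subgroupOf H) rfl hab' ψ hψ hψN'
  refine ⟨U'.map H.subtype,
    lam ∘ (U'.equivMapOfInjective _ H.subtype_injective).symm,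
    isCharacter_comp (U'.equivMapOfInjective _ H.subtype_injective).symm.toMonoidHom hlam, ?_, ?_⟩
  · simp only [Function.comp, map_one]
    exact hlam1
  · rw [← hind, ← hlamind, indFun_trans_map]
    rfl

end Main

end Cfsg.Agent.Lib.H23
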