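/-
S2524 (Tiep-Zalesskii gap for `Sp_2n(q)`, `q` odd; architect helper19, route U = tools/blueprints/S2524_U.md).
Piece **(r3)** : for a representation `ρ` of `Sp_{2(m+1)}(F)` with the rank-one property (R1), the group
`R⁻ = {rmEl u}` acts trivially on the `Q`-eigenspace of `Y0 = a E_**`.

Self-contained on `Lib/H11/S2524G0` (group side definitions) and `Lib/H8/TZBasic`, `TZDim` (eigenprojections, `R1`, `Y0`):
the two matrix identities `w1 * tEl X = tEl X * w1` (`X` with zero last row/column) and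
`w1 * tEl (e_* xᵀ + x e_*ᵀ) = rmEl x * w1` are proved here.
-/
import Cfsg.Agent.Lib.H11.S2524G0
import Cfsg.Agent.Lib.H8.TZDim

set_option autoImplicit false
set_option linter.unusedSectionVars false
set_option linter.unusedSimpArgs false

namespace Cfsg.Agent.Lib.H23.SpR3

open Matrix Module Cfsg.Agent.Lib.H12.LS2 Cfsg.Agent.Lib.H5.LS2 Cfsg.Agent.Lib.H4
open Cfsg.Agent.Lib.H11 Cfsg.Agent.Lib.H8

variable {F : Type*} [Field F] {m : ℕ}

/-! ### matrix identities -/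

theorem single_last_eq :
    Matrix.single (Fin.last m) (Fin.last m) (1 : F) = vecMulVec (SpU.estar m F) (SpU.estar m F) := by
  ext i j
  rw [Matrix.vecMulVec_apply, Matrix.single_apply, SpU.estar, Pi.single_apply, Pi.single_apply]
  by_cases hi : i = Fin.last m
  · by_cases hj : j = Fin.last m
    · subst hi; subst hj; simp
    · subst hi
      have hj' : ¬ (Fin.last m = j) := fun h => hj h.symm
      simp [hj, hj']
  · have hi' : ¬ (Fin.last m = i) := fun h => hi h.symm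
    simp [hi, hi']

theorem estar_dot_estar : SpU.estar m F ⬝ᵥ SpU.estar m F = 1 := by
  simp [SpU.estar]

/-- `E_** X = 0` for `X` with zero last row -/
theorem single_mul_symPP {X : Symm (m + 1) F} (hX : X ∈ SpU.symPP m F) :
    Matrix.single (Fin.last m) (Fin.last m) (1 : F) * (X : Matrix (Fin (m + 1)) (Fin (m + 1)) F) = 0 := by
  ext i j
  by_cases hi : i = Fin.last m
  · subst hi
    rw [Matrix.single_mul_apply_same, SpU.symPP_row hX j, mul_zero, Matrix.zero_apply]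
  · rw [Matrix.single_mul_apply_of_ne (h := hi), Matrix.zero_apply]

/-- `X E_** = 0` for `X` with zero last column -/
theorem symPP_mul_single {X : Symm (m + 1) F} (hX : X ∈ SpU.symPP m F) :
    (X : Matrix (Fin (m + 1)) (Fin (m + 1)) F) * Matrix.single (Fin.last m) (Fin.last m) (1 : F) = 0 := by
  ext i j
  by_cases hj : j = Fin.last m
  · subst hj
    rw [Matrix.mul_single_apply_same, SpU.mem_symPP.1 hX i, zero_mul, Matrix.zero_apply]
  · rw [Matrix.mul_single_apply_of_ne (hbj := hj), Matrix.zero_apply]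

/-- `w1` commutes with `Q'' = {tEl X : X_i* = 0}` -/
theorem w1_comm_tEl {X : Symm (m + 1) F} (hX : X ∈ SpU.symPP m F) :
    SpU.w1 m F * tEl X = tEl X * SpU.w1 m F := by
  apply Subtype.ext
  rw [Submonoid.coe_mul, Submonoid.coe_mul, SpU.w1_val, tEl_val, Matrix.fromBlocks_multiply,
    Matrix.fromBlocks_multiply]
  simp only [Matrix.mul_one, Matrix.one_mul, Matrix.mul_zero, Matrix.zero_mul, add_zero, zero_add,
    Matrix.sub_mul, Matrix.mul_sub, Matrix.neg_mul, Matrix.mul_neg, single_mul_symPP hX,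
    symPP_mul_single hX, sub_zero, neg_zero]
  congr 1
  abel

/-- `w1 t(e_* xᵀ + x e_*ᵀ) = l(1 + x e_*ᵀ) w1` -/
theorem w1_mul_tEl_symX (x : Fin m → F) :
    SpU.w1 m F * tEl (SpU.symX (Fin.last m) (SpU.ext0 x)) = SpU.rmEl x * SpU.w1 m F := by
  apply Subtype.ext
  have he : (Pi.single (Fin.last m) (1 : F) : Fin (m + 1) → F) = SpU.estar m F := rfl
  have h1 : SpU.estar m F ⬝ᵥ SpU.ext0 x = 0 := SpU.estar_dot_ext0 x
  have h2 : SpU.ext0 x ⬝ᵥ SpU.estar m F = 0 := SpU.ext0_dot_estar x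
  have h3 : SpU.estar m F ⬝ᵥ SpU.estar m F = 1 := estar_dot_estar
  rw [Submonoid.coe_mul, Submonoid.coe_mul, SpU.w1_val, tEl_val, SpU.rmEl, lEl_val, SpU.glTv_val,
    SpU.glTv_inv_val, SpU.symX_val, Matrix.fromBlocks_multiply, Matrix.fromBlocks_multiply, single_last_eq, he]
  simp only [Matrix.mul_one, Matrix.one_mul, Matrix.mul_zero, Matrix.zero_mul, add_zero, zero_add,
    Matrix.sub_mul, Matrix.mul_sub, Matrix.neg_mul, Matrix.mul_neg, Matrix.add_mul, Matrix.mul_add,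
    Matrix.transpose_sub, Matrix.transpose_one, Matrix.transpose_vecMulVec,
    Matrix.vecMulVec_mul_vecMulVec, h1, h2, h3, zero_smul, one_smul, Matrix.vecMulVec_zero,
    sub_zero, neg_zero]
  congr 1 <;> abel

/-! ### linear algebra of rank one symmetric matrices -/

/-- `tr(E_ii(c) Y) = c Y_ii` -/
theorem trace_symE_mul (i : Fin (m + 1)) (c : F) (Y : Symm (m + 1) F) :
    Matrix.trace (((SpU.symE i c : Symm (m + 1) F) : Matrix (Fin (m + 1)) (Fin (m + 1)) F) *
      (Y : Matrix (Fin (m + 1)) (Fin (m + 1)) F)) =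
      c * (Y : Matrix (Fin (m + 1)) (Fin (m + 1)) F) i i := by
  rw [SpU.symE_val, Matrix.trace_single_mul, smul_eq_mul]

theorem symE_castSucc_mem_symPP (i : Fin m) (c : F) :
    (SpU.symE (Fin.castSucc i) c : Symm (m + 1) F) ∈ SpU.symPP m F := by
  intro j
  rw [SpU.symE_val, Matrix.single_apply_of_ne]
  intro h
  exact Fin.castSucc_ne_last i h.2

/-- for a rank one `Y = c v vᵀ` with vanishing diagonal outside `*`: `tr((e_* xᵀ + x e_*ᵀ) Y) = 0` -/
theorem trace_symX_mul_eq_zero (Y : Symm (m + 1) F) (c : F) (v : Fin (m + 1) → F)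
    (hY : (Y : Matrix (Fin (m + 1)) (Fin (m + 1)) F) = c • vecMulVec v v)
    (hd : ∀ i : Fin m, (Y : Matrix (Fin (m + 1)) (Fin (m + 1)) F) (Fin.castSucc i) (Fin.castSucc i) = 0)
    (x : Fin m → F) :
    Matrix.trace (((SpU.symX (Fin.last m) (SpU.ext0 x) : Symm (m + 1) F) :
      Matrix (Fin (m + 1)) (Fin (m + 1)) F) * (Y : Matrix (Fin (m + 1)) (Fin (m + 1)) F)) = 0 := by
  have hcv : ∀ i : Fin m, c * v (Fin.castSucc i) = 0 := by
    intro i
    have h := hd i
    rw [hY, Matrix.smul_apply, Matrix.vecMulVec_apply, smul_eq_mul] at h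
    rcases mul_eq_zero.1 h with h | h
    · rw [h, zero_mul]
    · rcases mul_self_eq_zero.1 h with h
      rw [h, mul_zero]
  have hxv : c * (SpU.ext0 x ⬝ᵥ v) = 0 := by
    rw [dotProduct, Fin.sum_univ_castSucc, SpU.ext0_last, zero_mul, add_zero, Finset.mul_sum]
    apply Finset.sum_eq_zero
    intro i _
    rw [SpU.ext0_castSucc, mul_left_comm, hcv i, mul_zero]
  rw [SpU.symX_val, hY, Matrix.mul_smul, Matrix.trace_smul, Matrix.add_mul,
    Matrix.vecMulVec_mul_vecMulVec, Matrix.vecMulVec_mul_vecMulVec, Matrix.trace_add,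
    Matrix.trace_vecMulVec, Matrix.trace_vecMulVec, dotProduct_smul, dotProduct_smul, smul_eq_mul,
    smul_eq_mul, smul_eq_mul]
  have : c * (SpU.ext0 x ⬝ᵥ v * (Pi.single (Fin.last m) 1 ⬝ᵥ v) +
      Pi.single (Fin.last m) 1 ⬝ᵥ v * (SpU.ext0 x ⬝ᵥ v)) =
      (c * (SpU.ext0 x ⬝ᵥ v)) * (Pi.single (Fin.last m) 1 ⬝ᵥ v) +
      (Pi.single (Fin.last m) 1 ⬝ᵥ v) * (c * (SpU.ext0 x ⬝ᵥ v)) := by ring
  rw [this, hxv, zero_mul, mul_zero, add_zero]

/-! ### the representation-theoretic argument -/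

variable [Fintype F] [Fintype (Symm (m + 1) F)]
  {V : Type*} [AddCommGroup V] [Module ℂ V] [FiniteDimensional ℂ V]
  (χ : AddChar F ℂ) (Φ : Symm (m + 1) F ≃ AddChar (Symm (m + 1) F) ℂ)
  (hΦ : ∀ Y X : Symm (m + 1) F, Φ Y X =
    χ (Matrix.trace ((X : Matrix (Fin (m + 1)) (Fin (m + 1)) F) * (Y : Matrix (Fin (m + 1)) (Fin (m + 1)) F))))
  (ρ : Matrix.symplecticGroup (Fin (m + 1)) F →* Module.End ℂ V)

include hΦ in
/-- a non-trivial additive character `χ` with `χ (c y) = 1` for all `c` forces `y = 0` -/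
theorem diag_zero_of_trivial (hχ : χ ≠ 1) (Y : Symm (m + 1) F) (i : Fin m)
    (h : ∀ c : F, Φ Y (SpU.symE (Fin.castSucc i) c) = 1) :
    (Y : Matrix (Fin (m + 1)) (Fin (m + 1)) F) (Fin.castSucc i) (Fin.castSucc i) = 0 := by
  by_contra hne
  apply hχ
  apply DFunLike.ext
  intro b
  have h1 := h (b / (Y : Matrix (Fin (m + 1)) (Fin (m + 1)) F) (Fin.castSucc i) (Fin.castSucc i))
  rw [hΦ, trace_symE_mul, div_mul_cancel₀ _ hne] at h1
  rw [h1, AddChar.one_apply]

include hΦ in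
/-- **(r3)** : `R⁻` acts trivially on the `Q`-eigenvectors for `Y0 = a E_**`. -/
theorem rm_fix (hχ : χ ≠ 1) (hR : TZ.R1 Φ ρ) (a : F) (v : V)
    (hv : ∀ X, ρ (tEl X) v = Φ (TZ.Y0 (Fin.last m) a) X • v) (u : Fin m → F) :
    ρ (SpU.rmEl u) v = v := by
  classical
  -- `Q''` fixes `v`
  have hQv : ∀ X ∈ SpU.symPP m F, ρ (tEl X) v = v := by
    intro X hX
    rw [hv X, hΦ, TZ.Y0_val_single, Matrix.mul_smul, Matrix.trace_smul, Matrix.trace_mul_single,
      SpU.mem_symPP.1 hX (Fin.last m)]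
    simp
  set v' : V := ρ (SpU.w1 m F)⁻¹ v with hv'
  have hvv' : ρ (SpU.w1 m F) v' = v := by
    rw [hv', ← Module.End.mul_apply, ← map_mul, mul_inv_cancel, map_one, Module.End.one_apply]
  -- `Q''` fixes `v'`
  have hQv' : ∀ X ∈ SpU.symPP m F, ρ (tEl X) v' = v' := by
    intro X hX
    have hc : tEl X * (SpU.w1 m F)⁻¹ = (SpU.w1 m F)⁻¹ * tEl X := by
      rw [eq_inv_mul_iff_mul_eq, ← mul_assoc, w1_comm_tEl hX, mul_assoc, mul_inv_cancel, mul_one]
    rw [hv', ← Module.End.mul_apply, ← map_mul, hc, map_mul, Module.End.mul_apply, hQv X hX]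
  -- every `Q`-component of `v'` is fixed by `A'`
  have hcomp : ∀ (Y : Symm (m + 1) F) (x : Fin m → F),
      ρ (tEl (SpU.symX (Fin.last m) (SpU.ext0 x))) (TZ.PY Φ ρ Y v') = TZ.PY Φ ρ Y v' := by
    intro Y x
    by_cases h0 : TZ.PY Φ ρ Y v' = 0
    · rw [h0, map_zero]
    have hPY : TZ.PY Φ ρ Y ≠ 0 := by
      intro h
      apply h0
      rw [h, LinearMap.zero_apply]
    obtain ⟨c, w, hYcw⟩ := hR Y hPY
    have heig : ∀ X, ρ (tEl X) (TZ.PY Φ ρ Y v') = Φ Y X • TZ.PY Φ ρ Y v' :=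
      (TZ.mem_range_PY_iff Φ ρ Y _).1 ⟨v', rfl⟩
    -- the character `Φ Y` is trivial on `Q''`
    have htriv : ∀ X ∈ SpU.symPP m F, Φ Y X = 1 := by
      intro X hX
      have hcomm : ρ (tEl X) * TZ.PY Φ ρ Y = TZ.PY Φ ρ Y * ρ (tEl X) :=
        RepChar.commute_proj ρ tEl (Φ Y) (fun X' => by
          rw [← TZ.tEl_add, ← TZ.tEl_add, add_comm X X'])
      have h1 : ρ (tEl X) (TZ.PY Φ ρ Y v') = TZ.PY Φ ρ Y v' := by
        rw [← Module.End.mul_apply, hcomm, Module.End.mul_apply, hQv' X hX]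
      rw [heig X] at h1
      by_contra hne
      apply h0
      have h2 : (Φ Y X - 1) • TZ.PY Φ ρ Y v' = 0 := by
        rw [sub_smul, one_smul, h1, sub_self]
      rcases smul_eq_zero.1 h2 with h3 | h3
      · exact absurd (sub_eq_zero.1 h3) hne
      · exact h3
    have hd : ∀ i : Fin m,
        (Y : Matrix (Fin (m + 1)) (Fin (m + 1)) F) (Fin.castSucc i) (Fin.castSucc i) = 0 := by
      intro i
      exact diag_zero_of_trivial χ Φ hΦ hχ Y i
        (fun c => htriv _ (symE_castSucc_mem_symPP i c))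
    rw [heig, hΦ, trace_symX_mul_eq_zero Y c w hYcw hd x, AddChar.map_zero_eq_one, one_smul]
  -- hence `A'` fixes `v'`
  have hA : ∀ x : Fin m → F, ρ (tEl (SpU.symX (Fin.last m) (SpU.ext0 x))) v' = v' := by
    intro x
    have hsum : v' = ∑ Y : Symm (m + 1) F, TZ.PY Φ ρ Y v' := by
      have h1 := RepChar.sum_proj ρ tEl TZ.tEl_add (V := V)
      have h2 : (∑ ψ : AddChar (Symm (m + 1) F) ℂ, RepChar.proj ρ tEl ψ) v' = v' := by
        rw [h1, Module.End.one_apply]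
      rw [LinearMap.sum_apply] at h2
      rw [← Equiv.sum_comp Φ (fun ψ => RepChar.proj ρ tEl ψ v')] at h2
      exact h2.symm
    calc ρ (tEl (SpU.symX (Fin.last m) (SpU.ext0 x))) v'
        = ρ (tEl (SpU.symX (Fin.last m) (SpU.ext0 x))) (∑ Y : Symm (m + 1) F, TZ.PY Φ ρ Y v') := by
          rw [← hsum]
      _ = ∑ Y : Symm (m + 1) F, ρ (tEl (SpU.symX (Fin.last m) (SpU.ext0 x))) (TZ.PY Φ ρ Y v') :=
          map_sum _ _ _
      _ = ∑ Y : Symm (m + 1) F, TZ.PY Φ ρ Y v' :=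
          Finset.sum_congr rfl (fun Y _ => hcomp Y x)
      _ = v' := hsum.symm
  -- conclusion
  calc ρ (SpU.rmEl u) v = ρ (SpU.rmEl u) (ρ (SpU.w1 m F) v') := by rw [hvv']
    _ = ρ (SpU.rmEl u * SpU.w1 m F) v' := by rw [map_mul, Module.End.mul_apply]
    _ = ρ (SpU.w1 m F * tEl (SpU.symX (Fin.last m) (SpU.ext0 u))) v' := by rw [w1_mul_tEl_symX]
    _ = ρ (SpU.w1 m F) (ρ (tEl (SpU.symX (Fin.last m) (SpU.ext0 u))) v') := by
        rw [map_mul, Module.End.mul_apply]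
    _ = v := by rw [hA u, hvv']

end Cfsg.Agent.Lib.H23.SpR3
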