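import Cfsg.Agent.Lib.H9.S3571Defs

/-!
helper23: S3571, group block, piece (C3): a transitive imprimitive subgroup of `Sym(m)` has no
element of prime order `p' > m/2`.
-/

set_option autoImplicit false

namespace Cfsg.Agent.Lib.H23.S3571C3

open Cfsg.Agent.Lib.H9.S3571 MulAction
open scoped Pointwise

/-- A group of prime order `p` fixes every point whose orbit lies in a set with fewer than `p`
elements. -/
theorem smul_eq_of_small {C X : Type*} [Group C] [MulAction C X] (p : ℕ) (hp : p.Prime)
    (hC : Nat.card C = p) (x : X) (s : Set X) (hs : s.Finite) (hsub : orbit C x ⊆ s)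
    (hlt : s.ncard < p) (c : C) : c • x = x := by
  have hfin : Finite C := Nat.finite_of_card_ne_zero (by rw [hC]; exact hp.ne_zero)
  have h1 : (orbit C x).ncard ∣ p := by
    rw [← index_stabilizer, ← hC]
    exact Subgroup.index_dvd_card _
  have h2 : (orbit C x).ncard ≤ s.ncard := Set.ncard_le_ncard hsub hs
  have h3 : (orbit C x).ncard = 1 := by
    rcases (Nat.dvd_prime hp).1 h1 with h | h
    · exact h
    · omega
  obtain ⟨a, ha⟩ := Set.ncard_eq_one.1 h3
  have hx : x ∈ orbit C x := mem_orbit_self x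
  have hcx : c • x ∈ orbit C x := mem_orbit x c
  rw [ha] at hx hcx
  rw [Set.mem_singleton_iff] at hx hcx
  rw [hcx, hx]

/-- (C3). -/
theorem c3 : C3Stmt := by
  intro m H htr hnp p' hp' hmp hdvd
  have : Fact p'.Prime := ⟨hp'⟩
  -- an element of order `p'`
  obtain ⟨σ, hσ⟩ := exists_prime_orderOf_dvd_card' p' hdvd
  -- a nontrivial block
  have hB : ∃ B : Set (Fin m), IsBlock ↥H B ∧ ¬ IsTrivialBlock B := by
    by_contra hcon
    push Not at hcon
    exact hnp { toIsPretransitive := htr, isTrivialBlock_of_isBlock := fun {B} hB => hcon B hB }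
  obtain ⟨B, hBb, hBt⟩ := hB
  have hBsub : ¬ B.Subsingleton := fun h => hBt (Or.inl h)
  have hBuniv : B ≠ Set.univ := fun h => hBt (Or.inr h)
  have hBne : B.Nonempty := by
    rw [Set.nonempty_iff_ne_empty]
    rintro rfl
    exact hBsub Set.subsingleton_empty
  have hcard := hBb.ncard_block_mul_ncard_orbit_eq hBne
  rw [Nat.card_eq_fintype_card, Fintype.card_fin] at hcard
  -- `2 ≤ |B|`
  have hB2 : 2 ≤ B.ncard := by
    by_contra h
    exact hBsub (Set.ncard_le_one_iff_subsingleton.1 (by omega))
  -- at least two translates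
  have hq2 : 2 ≤ (orbit ↥H B).ncard := by
    by_contra h
    have hq : (orbit ↥H B).ncard = 0 ∨ (orbit ↥H B).ncard = 1 := by omega
    rcases hq with hq | hq
    · rw [hq, mul_zero] at hcard
      obtain ⟨x, _⟩ := hBne
      subst hcard
      exact x.elim0
    · rw [hq, mul_one] at hcard
      apply hBuniv
      apply Set.eq_of_subset_of_ncard_le (Set.subset_univ B)
      rw [Set.ncard_univ, Nat.card_eq_fintype_card, Fintype.card_fin, hcard]
  have hBlt : B.ncard < p' := by nlinarith
  have hqlt : (orbit ↥H B).ncard < p' := by nlinarith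
  -- a point moved by `σ`
  have hσ1 : σ ≠ 1 := by
    rintro rfl
    rw [orderOf_one] at hσ
    exact hp'.one_lt.ne hσ
  obtain ⟨x, hx⟩ : ∃ x : Fin m, σ • x ≠ x := by
    by_contra hcon
    push Not at hcon
    apply hσ1
    apply Subtype.ext
    apply Equiv.Perm.ext
    intro x
    exact hcon x
  -- the translate of `B` through `x`
  obtain ⟨x₀, hx₀⟩ := hBne
  obtain ⟨g, hg⟩ := htr.exists_smul_eq x₀ x
  have hxB' : x ∈ g • B := by
    rw [← hg]
    exact Set.smul_mem_smul_set hx₀
  have hB'b : IsBlock ↥H (g • B) := hBb.translate g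
  have hB'card : (g • B).ncard = B.ncard := Set.ncard_smul_set g B
  have hB'orb : orbit ↥H (g • B) = orbit ↥H B := orbit_smul g B
  -- the cyclic group generated by `σ`
  have hCcard : Nat.card ↥(Subgroup.zpowers σ) = p' := by
    rw [Nat.card_zpowers, hσ]
  -- `σ` fixes the translate
  have hfixB : ∀ c : ↥(Subgroup.zpowers σ), c • (g • B) = g • B := by
    intro c
    refine smul_eq_of_small p' hp' hCcard (g • B) (orbit ↥H (g • B)) (Set.toFinite _) ?_ ?_ c
    · rintro _ ⟨d, rfl⟩
      exact ⟨(d : ↥H), rfl⟩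
    · rw [hB'orb]
      exact hqlt
  -- `σ` fixes `x`
  have hfixx : ∀ c : ↥(Subgroup.zpowers σ), c • x = x := by
    intro c
    refine smul_eq_of_small p' hp' hCcard x (g • B) (Set.toFinite _) ?_ ?_ c
    · rintro _ ⟨d, rfl⟩
      have : d • x ∈ d • (g • B) := Set.smul_mem_smul_set hxB'
      rw [hfixB d] at this
      exact this
    · rw [hB'card]
      exact hBlt
  exact hx (hfixx ⟨σ, Subgroup.mem_zpowers σ⟩)

end Cfsg.Agent.Lib.H23.S3571C3
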