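import Cfsg.Agent.Lib.H9.S3571Defs

/-!
helper23: S3571, group block, piece (M6C): inside `A_6`, the sub-cases `r = 5` and `r = 2`, and the
assembly of `M6CoreStmt` from the sub-case `r = 3`.
-/

set_option autoImplicit false

namespace Cfsg.Agent.Lib.H23.S3571M6C

open Cfsg.Agent.Lib.H9.S3571 Equiv

theorem card_A6 : Nat.card ↥(alternatingGroup (Fin 6)) = 360 := by
  rw [nat_card_alternatingGroup, Nat.card_eq_fintype_card, Fintype.card_fin]
  decide

theorem card_mul_index (K : Subgroup ↥(alternatingGroup (Fin 6))) :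
    Nat.card ↥K * K.index = 360 := by
  rw [Subgroup.card_mul_index, card_A6]

/-- If the prime `r` does not divide `|K|`, no conjugate of an element of order `r` lies in `K`. -/
theorem no_conj_of_not_dvd {G : Type*} [Group G] [Finite G] (K : Subgroup G) (r : ℕ)
    (hrK : ¬ r ∣ Nat.card ↥K) (t : G) (ht : orderOf t = r) : ∀ g : G, g⁻¹ * t * g ∉ K := by
  intro g hg
  apply hrK
  have h0 : orderOf (g⁻¹ * t * g) = orderOf t := by
    have := MulEquiv.orderOf_eq (MulAut.conj g⁻¹) t
    rw [MulAut.conj_apply, inv_inv] at this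
    exact this
  have h1 : orderOf (⟨g⁻¹ * t * g, hg⟩ : ↥K) = r := by
    rw [← Subgroup.orderOf_coe, h0, ht]
  rw [← h1]
  exact orderOf_dvd_natCard _

/-- Sub-case `r = 5`. -/
theorem m6c5 (K : Subgroup ↥(alternatingGroup (Fin 6))) (h5 : 5 ∣ K.index) :
    ∃ t : ↥(alternatingGroup (Fin 6)), orderOf t = 5 ∧ ∀ g, g⁻¹ * t * g ∉ K := by
  have hcard := card_mul_index K
  have h5K : ¬ 5 ∣ Nat.card ↥K := by
    intro h
    have h25 : 5 * 5 ∣ Nat.card ↥K * K.index := Nat.mul_dvd_mul h h5
    rw [hcard] at h25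
    omega
  have : Fact (Nat.Prime 5) := ⟨by norm_num⟩
  obtain ⟨t, ht⟩ := exists_prime_orderOf_dvd_card' (G := ↥(alternatingGroup (Fin 6))) 5
    (by rw [card_A6]; norm_num)
  exact ⟨t, ht, no_conj_of_not_dvd K 5 h5K t ht⟩

/-- Sub-case `r = 2`. -/
theorem m6c2 (K : Subgroup ↥(alternatingGroup (Fin 6))) (hK : K ≠ ⊤) (h2 : 2 ∣ K.index)
    (hmax : ∀ s : ℕ, s.Prime → s ∣ K.index → s ≤ 2) :
    ∃ t : ↥(alternatingGroup (Fin 6)), orderOf t = 2 ∧ ∀ g, g⁻¹ * t * g ∉ K := by
  have hcard := card_mul_index K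
  have hidx : K.index ∣ 360 := Dvd.intro_left _ hcard
  -- the index divides `8`
  have h3 : ¬ 3 ∣ K.index := fun h => by
    have := hmax 3 (by norm_num) h
    omega
  have h5 : ¬ 5 ∣ K.index := fun h => by
    have := hmax 5 (by norm_num) h
    omega
  have hc3 : Nat.Coprime K.index 3 :=
    (Nat.Coprime.symm ((Nat.Prime.coprime_iff_not_dvd (by norm_num)).2 h3))
  have hc5 : Nat.Coprime K.index 5 :=
    (Nat.Coprime.symm ((Nat.Prime.coprime_iff_not_dvd (by norm_num)).2 h5))
  have hc45 : Nat.Coprime K.index 45 := by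
    have : (45 : ℕ) = 3 * 3 * 5 := by norm_num
    rw [this]
    exact Nat.Coprime.mul_right (Nat.Coprime.mul_right hc3 hc3) hc5
  have h8 : K.index ∣ 8 := by
    have : K.index ∣ 8 * 45 := by norm_num; exact hidx
    exact Nat.Coprime.dvd_of_dvd_mul_right hc45 this
  have hle : K.index ≤ 8 := Nat.le_of_dvd (by norm_num) h8
  -- the normal core is trivial
  have hsimple : IsSimpleGroup ↥(alternatingGroup (Fin 6)) :=
    alternatingGroup.isSimpleGroup (by rw [Nat.card_eq_fintype_card, Fintype.card_fin]; norm_num)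
  have hcore : K.normalCore = ⊥ := by
    rcases (K.normalCore_normal).eq_bot_or_eq_top with h | h
    · exact h
    · exfalso
      apply hK
      rw [eq_top_iff, ← h]
      exact K.normalCore_le
  have hfact : 360 ∣ (K.index).factorial := by
    have h : K.normalCore.index ∣ (K.index).factorial := by
      rw [Subgroup.normalCore_eq_ker, Subgroup.index_ker, Subgroup.index_eq_card, ← Nat.card_perm]
      exact Subgroup.card_subgroup_dvd_card (MulAction.toPermHom _ _).range
    rw [hcore, Subgroup.index_bot, card_A6] at h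
    exact h
  -- so the index is `8`
  have hidx8 : K.index = 8 := by
    have hpos : 0 < K.index := Nat.pos_of_dvd_of_pos h8 (by norm_num)
    interval_cases hi : K.index
    · omega
    · exfalso; revert hfact; decide
    · omega
    · exfalso; revert hfact; decide
    · omega
    · omega
    · omega
    · rfl
  have h2K : ¬ 2 ∣ Nat.card ↥K := by
    rw [hidx8] at hcard
    have : Nat.card ↥K = 45 := by omega
    rw [this]
    norm_num
  have : Fact (Nat.Prime 2) := ⟨by norm_num⟩
  obtain ⟨t, ht⟩ := exists_prime_orderOf_dvd_card' (G := ↥(alternatingGroup (Fin 6))) 2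
    (by rw [card_A6]; norm_num)
  exact ⟨t, ht, no_conj_of_not_dvd K 2 h2K t ht⟩

/-- `M6CoreStmt` from the sub-case `r = 3`. -/
theorem m6core_of
    (h3 : ∀ K : Subgroup ↥(alternatingGroup (Fin 6)), K ≠ ⊤ → 3 ∣ K.index →
      ∃ t : ↥(alternatingGroup (Fin 6)), orderOf t = 3 ∧ ∀ g, g⁻¹ * t * g ∉ K) :
    M6CoreStmt := by
  intro K r hK hr hrd hmax
  have hcard := card_mul_index K
  have hidx : K.index ∣ 360 := Dvd.intro_left _ hcard
  have hr360 : r ∣ 2 ^ 3 * 3 ^ 2 * 5 := by
    have : (2 ^ 3 * 3 ^ 2 * 5 : ℕ) = 360 := by norm_num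
    rw [this]
    exact dvd_trans hrd hidx
  have hcases : r = 2 ∨ r = 3 ∨ r = 5 := by
    rcases (Nat.Prime.dvd_mul hr).1 hr360 with h | h
    · rcases (Nat.Prime.dvd_mul hr).1 h with h | h
      · left
        exact (Nat.prime_dvd_prime_iff_eq hr (by norm_num)).1 (hr.dvd_of_dvd_pow h)
      · right; left
        exact (Nat.prime_dvd_prime_iff_eq hr (by norm_num)).1 (hr.dvd_of_dvd_pow h)
    · right; right
      exact (Nat.prime_dvd_prime_iff_eq hr (by norm_num)).1 h
  rcases hcases with rfl | rfl | rfl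
  · exact m6c2 K hK hrd hmax
  · exact h3 K hK hrd
  · exact m6c5 K hrd

end Cfsg.Agent.Lib.H23.S3571M6C
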