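import Cfsg.Agent.Lib.H8.S3571SSDefs

/-!
helper23: S3571, block NT (Sylvester–Schur), pieces SS4 + SS5: the three-level upper bound for a
binomial coefficient all of whose prime factors are `≤ m`.
-/

set_option autoImplicit false

namespace Cfsg.Agent.Lib.H23.S3571SS45

open Cfsg.Agent.Lib.H8.S3571SS
open scoped Nat

/-- The general three-level bound: if all prime factors of `C(n,k)` are `≤ m` and `n < (t+1)³`
then `C(n,k) ≤ 4^(m + √n) * n^t`. -/
theorem choose_le_three (n k m t : ℕ) (hn : 1 ≤ n) (hkn : k ≤ n)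
    (hm : ∀ p : ℕ, p.Prime → p ∣ n.choose k → p ≤ m) (ht : n < (t + 1) ^ 3) :
    n.choose k ≤ 4 ^ (m + Nat.sqrt n) * n ^ t := by
  have hC : n.choose k ≠ 0 := (Nat.choose_pos hkn).ne'
  set P := (n.choose k).primeFactors with hP
  set f : ℕ → ℕ := fun p => p ^ (n.choose k).factorization p with hf
  have hprod : n.choose k = ∏ p ∈ P, f p := by
    have h := Nat.prod_factorization_pow_eq_self hC
    rw [Finsupp.prod, Nat.support_factorization] at h
    exact h.symm
  have hPmem : ∀ p ∈ P, p.Prime ∧ p ≤ m ∧ 1 ≤ p := by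
    intro p hp
    have hp' := Nat.prime_of_mem_primeFactors hp
    exact ⟨hp', hm p hp' (Nat.dvd_of_mem_primeFactors hp), hp'.one_lt.le⟩
  rw [hprod, ← Finset.prod_filter_mul_prod_filter_not P (· ≤ t), mul_comm]
  apply Nat.mul_le_mul
  · -- the primes `> t`
    have hstep : ∀ p ∈ P.filter (fun p => ¬ p ≤ t),
        f p ≤ p * (if p ≤ Nat.sqrt n then p else 1) := by
      intro p hp
      obtain ⟨hpP, hpt⟩ := Finset.mem_filter.1 hp
      obtain ⟨hpp, _, hp1⟩ := hPmem p hpP
      have hpt' : t + 1 ≤ p := by omega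
      have hn3 : n < p ^ 3 := lt_of_lt_of_le ht (Nat.pow_le_pow_left hpt' 3)
      have hfac2 : (n.choose k).factorization p ≤ 2 := by
        have h1 := Nat.factorization_choose_le_log (p := p) (n := n) (k := k)
        have h2 : Nat.log p n < 3 := Nat.log_lt_of_lt_pow (by omega) hn3
        omega
      split_ifs with hs
      · calc f p ≤ p ^ 2 := Nat.pow_le_pow_right hp1 hfac2
          _ = p * p := sq p
      · have hlt : n < p ^ 2 := Nat.sqrt_lt'.mp (not_le.1 hs)
        have hfac1 : (n.choose k).factorization p ≤ 1 := Nat.factorization_choose_le_one hlt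
        calc f p ≤ p ^ 1 := Nat.pow_le_pow_right hp1 hfac1
          _ = p * 1 := by rw [pow_one, mul_one]
    refine (Finset.prod_le_prod' hstep).trans ?_
    rw [Finset.prod_mul_distrib, pow_add]
    apply Nat.mul_le_mul
    · refine le_trans ?_ (primorial_le_four_pow m)
      unfold primorial
      refine Finset.prod_le_prod_of_subset_of_one_le' ?_ ?_
      · intro p hp
        obtain ⟨hpP, _⟩ := Finset.mem_filter.1 hp
        obtain ⟨hpp, hpm, _⟩ := hPmem p hpP
        exact Finset.mem_filter.2 ⟨Finset.mem_range.2 (by omega), hpp⟩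
      · intro p hp _
        exact (Finset.mem_filter.1 hp).2.one_lt.le
    · refine le_trans ?_ (primorial_le_four_pow (Nat.sqrt n))
      unfold primorial
      rw [← Finset.prod_filter]
      refine Finset.prod_le_prod_of_subset_of_one_le' ?_ ?_
      · intro p hp
        obtain ⟨hp2, hps⟩ := Finset.mem_filter.1 hp
        obtain ⟨hpP, _⟩ := Finset.mem_filter.1 hp2
        obtain ⟨hpp, _, _⟩ := hPmem p hpP
        exact Finset.mem_filter.2 ⟨Finset.mem_range.2 (by omega), hpp⟩
      · intro p hp _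
        exact (Finset.mem_filter.1 hp).2.one_lt.le
  · -- the primes `≤ t`
    have hstep : ∀ p ∈ P.filter (fun p => p ≤ t), f p ≤ n := by
      intro p _
      exact Nat.pow_factorization_choose_le hn
    refine (Finset.prod_le_prod' hstep).trans ?_
    rw [Finset.prod_const]
    apply Nat.pow_le_pow_right hn
    have hsub : P.filter (fun p => p ≤ t) ⊆ Finset.Icc 1 t := by
      intro p hp
      obtain ⟨hpP, hpt⟩ := Finset.mem_filter.1 hp
      exact Finset.mem_Icc.2 ⟨(hPmem p hpP).2.2, hpt⟩
    calc (P.filter (fun p => p ≤ t)).card ≤ (Finset.Icc 1 t).card := Finset.card_le_card hsub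
      _ = t := by rw [Nat.card_Icc]; omega

/-- (SS4) with the hypothesis `1 ≤ n` (the statement `SS4Stmt` of the cut fails at `n = 0`,
`k = 0`, `t ≥ 1`). -/
theorem ss4' : ∀ n k t : ℕ, 1 ≤ n → 2 * k ≤ n → Smooth n k → n < (t + 1) ^ 3 →
    n.choose k ≤ 4 ^ (k + Nat.sqrt n) * n ^ t := by
  intro n k t hn h2k hsm ht
  exact choose_le_three n k k t hn (by omega) hsm ht

/-- The statement `SS4Stmt` of the cut is false. -/
theorem not_ss4 : ¬ SS4Stmt := by
  intro h
  have h1 := h 0 0 1 (by norm_num) (by intro p hp hd; simp at hd; exact absurd hd hp.one_lt.ne') (by norm_num)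
  simp at h1

/-- Under `2k ≤ n`, `6 ≤ n`, a prime factor `≤ k` of `C(n,k)` is `≤ n/3`. -/
theorem prime_le_third (n k p : ℕ) (h6 : 6 ≤ n) (h2k : 2 * k ≤ n) (hp : p.Prime) (hpk : p ≤ k)
    (hd : p ∣ n.choose k) : p ≤ n / 3 := by
  by_contra hlt
  have hlt' : n / 3 < p := not_le.1 hlt
  have hn3 : n < 3 * p := by
    have := Nat.lt_mul_of_div_lt hlt' (by norm_num : 0 < 3)
    omega
  have hp2 : p ≠ 2 := by
    rintro rfl
    omega
  have h0 := Nat.factorization_choose_of_lt_three_mul hp2 hpk (by omega : p ≤ n - k) hn3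
  have hC : n.choose k ≠ 0 := (Nat.choose_pos (by omega : k ≤ n)).ne'
  have h1 : 1 ≤ (n.choose k).factorization p :=
    (hp.dvd_iff_one_le_factorization hC).1 hd
  omega

/-- (SS5). -/
theorem ss5 : SS5Stmt := by
  intro n k t h6 h2k hsm ht
  refine choose_le_three n k (n / 3) t (by omega) (by omega) ?_ ht
  intro p hp hd
  exact prime_le_third n k p h6 h2k hp (hsm p hp hd) hd

end Cfsg.Agent.Lib.H23.S3571SS45
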