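import Cfsg.Agent.Lib.H5.S3777Defs

set_option autoImplicit false

/-! S3777, (P1)-step: the sub-pair `(K₀, A)`, `K₀ = A ⊔ zpowers y₀`, abstractly over `A`:
only `A ≤ M`, `A` normal and `C_M(y) ≤ A` for `y ∉ M` are used. -/

namespace Cfsg.Agent.Lib.H23.S3777K0

open Cfsg.Agent.Lib.H5.S3777

universe u

variable {G : Type u} [Group G]

/-- for `y ∉ M`, `M` normal of prime index `p`: `y ^ i ∈ M` forces `p ∣ i`. -/
theorem dvd_of_zpow_mem (p : ℕ) [hp : Fact p.Prime] (M : Subgroup G) [M.Normal]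
    (hidx : M.index = p) (y : G) (hy : y ∉ M) (i : ℤ) (hi : y ^ i ∈ M) : (p : ℤ) ∣ i := by
  have h1 : ((QuotientGroup.mk y : G ⧸ M)) ^ i = 1 := by
    rw [← QuotientGroup.mk_zpow, QuotientGroup.eq_one_iff]
    exact hi
  have h2 : (orderOf (QuotientGroup.mk y : G ⧸ M) : ℤ) ∣ i := orderOf_dvd_iff_zpow_eq_one.mpr h1
  have h3 : orderOf (QuotientGroup.mk y : G ⧸ M) ∣ p := by
    have := orderOf_dvd_natCard (QuotientGroup.mk y : G ⧸ M)
    rwa [← Subgroup.index_eq_card, hidx] at this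
  have h4 : orderOf (QuotientGroup.mk y : G ⧸ M) ≠ 1 := by
    intro h
    rw [orderOf_eq_one_iff, QuotientGroup.eq_one_iff] at h
    exact hy h
  have h5 : orderOf (QuotientGroup.mk y : G ⧸ M) = p := by
    rcases (Nat.dvd_prime hp.out).mp h3 with h | h
    · exact absurd h h4
    · exact h
  rwa [h5] at h2

/-- (k1) `y₀ ^ p ∈ A`. -/
theorem pow_mem (p : ℕ) (M A : Subgroup G) [M.Normal] (hidx : M.index = p)
    (hC : ∀ y, y ∉ M → Subgroup.centralizer {y} ⊓ M ≤ A) (y₀ : G) (hy₀ : y₀ ∉ M) :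
    y₀ ^ p ∈ A := by
  apply hC y₀ hy₀
  refine Subgroup.mem_inf.mpr ⟨?_, ?_⟩
  · rw [Subgroup.mem_centralizer_iff]
    intro x hx
    rw [Set.mem_singleton_iff.mp hx]
    exact (pow_mul_comm' y₀ p).symm
  · rw [← hidx]
    exact M.pow_index_mem y₀

/-- (k2) `K₀ ⊓ M = A`. -/
theorem inf_eq (p : ℕ) [Fact p.Prime] (M A : Subgroup G) [M.Normal] [A.Normal]
    (hidx : M.index = p) (hAM : A ≤ M)
    (hC : ∀ y, y ∉ M → Subgroup.centralizer {y} ⊓ M ≤ A) (y₀ : G) (hy₀ : y₀ ∉ M) :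
    (A ⊔ Subgroup.zpowers y₀) ⊓ M = A := by
  apply le_antisymm
  · intro g hg
    obtain ⟨hgK, hgM⟩ := Subgroup.mem_inf.mp hg
    rw [Subgroup.mem_sup_of_normal_left] at hgK
    obtain ⟨a, ha, z, hz, rfl⟩ := hgK
    obtain ⟨i, rfl⟩ := Subgroup.mem_zpowers_iff.mp hz
    have hzM : y₀ ^ i ∈ M := by
      have := M.mul_mem (M.inv_mem (hAM ha)) hgM
      simpa using this
    obtain ⟨j, rfl⟩ := dvd_of_zpow_mem p M hidx y₀ hy₀ i hzM
    have hp := pow_mem p M A hidx hC y₀ hy₀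
    have : y₀ ^ ((p : ℤ) * j) = (y₀ ^ p) ^ j := by
      rw [zpow_mul, zpow_natCast]
    rw [this]
    exact A.mul_mem ha (A.zpow_mem hp j)
  · exact le_inf le_sup_left hAM

/-- (k3) `|K₀ : A| = p`. -/
theorem relIndex_eq (p : ℕ) [hp : Fact p.Prime] (M A : Subgroup G) [M.Normal] [A.Normal]
    (hidx : M.index = p) (hAM : A ≤ M)
    (hC : ∀ y, y ∉ M → Subgroup.centralizer {y} ⊓ M ≤ A) (y₀ : G) (hy₀ : y₀ ∉ M) :
    A.relIndex (A ⊔ Subgroup.zpowers y₀) = p := by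
  have hinf := inf_eq p M A hidx hAM hC y₀ hy₀
  have h1 : A.relIndex (A ⊔ Subgroup.zpowers y₀) = M.relIndex (A ⊔ Subgroup.zpowers y₀) := by
    have : (M ⊓ (A ⊔ Subgroup.zpowers y₀)).relIndex (A ⊔ Subgroup.zpowers y₀) =
        M.relIndex (A ⊔ Subgroup.zpowers y₀) := Subgroup.inf_relIndex_right M _
    rw [inf_comm, hinf] at this
    exact this
  rw [h1]
  have h2 : M.relIndex (A ⊔ Subgroup.zpowers y₀) ∣ p := by
    rw [← hidx]
    exact Subgroup.relIndex_dvd_index_of_normal M _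
  have h3 : M.relIndex (A ⊔ Subgroup.zpowers y₀) ≠ 1 := by
    rw [Ne, Subgroup.relIndex_eq_one]
    intro h
    exact hy₀ (h (Subgroup.mem_sup_right (Subgroup.mem_zpowers y₀)))
  rcases (Nat.dvd_prime hp.out).mp h2 with h | h
  · exact absurd h h3
  · exact h

/-- (k4a) elements of `K₀` outside `A` are outside `M`. -/
theorem notMem_of_notMem (p : ℕ) [Fact p.Prime] (M A : Subgroup G) [M.Normal] [A.Normal]
    (hidx : M.index = p) (hAM : A ≤ M)
    (hC : ∀ y, y ∉ M → Subgroup.centralizer {y} ⊓ M ≤ A) (y₀ : G) (hy₀ : y₀ ∉ M)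
    (k : G) (hk : k ∈ A ⊔ Subgroup.zpowers y₀) (hkA : k ∉ A) : k ∉ M := by
  intro hkM
  apply hkA
  rw [← inf_eq p M A hidx hAM hC y₀ hy₀]
  exact ⟨hk, hkM⟩

/-- (k4b) general counting fact: `A ≤ K`, `|K : A| = p`, `A` normal, `C` a subgroup with
`C ⊓ K ≰ A`: then `|K : C ⊓ K| = |A : C ⊓ A|`. -/
theorem relIndex_eq_relIndex (p : ℕ) [hp : Fact p.Prime] (A K C : Subgroup G) [A.Normal]
    [Finite G] (hAK : A ≤ K) (hidx : A.relIndex K = p) (hC : ¬ C ⊓ K ≤ A) :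
    C.relIndex K = C.relIndex A := by
  have hpos : 0 < p := hp.out.pos
  -- X = C ⊓ A ≤ Y = C ⊓ K ≤ K, X ≤ A ≤ K
  have hXY : C ⊓ A ≤ C ⊓ K := inf_le_inf_left C hAK
  have e1 : (C ⊓ A).relIndex A * A.relIndex K = (C ⊓ A).relIndex K :=
    Subgroup.relIndex_mul_relIndex _ _ _ inf_le_right hAK
  have e2 : (C ⊓ A).relIndex (C ⊓ K) * (C ⊓ K).relIndex K = (C ⊓ A).relIndex K :=
    Subgroup.relIndex_mul_relIndex _ _ _ hXY inf_le_right
  have e3 : (C ⊓ A).relIndex (C ⊓ K) = A.relIndex (C ⊓ K) := by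
    have : (C ⊓ A) ⊓ (C ⊓ K) = A ⊓ (C ⊓ K) := by
      apply le_antisymm
      · exact le_inf (inf_le_left.trans inf_le_right) inf_le_right
      · exact le_inf (le_inf (inf_le_right.trans inf_le_left) inf_le_left) inf_le_right
    rw [← Subgroup.inf_relIndex_right (C ⊓ A) (C ⊓ K), this, Subgroup.inf_relIndex_right]
  have e4 : A.relIndex (C ⊓ K) = p := by
    have hd : A.relIndex (C ⊓ K) ∣ p := by
      have h := Subgroup.relIndex_dvd_index_of_normal (A.subgroupOf K) ((C ⊓ K).subgroupOf K)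
      rw [Subgroup.relIndex_subgroupOf inf_le_right] at h
      have : (A.subgroupOf K).index = p := hidx
      rwa [this] at h
    have hne : A.relIndex (C ⊓ K) ≠ 1 := by
      rw [Ne, Subgroup.relIndex_eq_one]
      exact hC
    rcases (Nat.dvd_prime hp.out).mp hd with h | h
    · exact absurd h hne
    · exact h
  rw [Subgroup.inf_relIndex_right, hidx] at e1
  rw [Subgroup.inf_relIndex_right, e3, e4] at e2
  have : C.relIndex A * p = p * C.relIndex K := e1.trans e2.symm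
  have h' : p * C.relIndex A = p * C.relIndex K := by rw [mul_comm]; exact this
  exact (Nat.eq_of_mul_eq_mul_left hpos h').symm

/-- (k5) the sub-pair `(K₀, A)`. -/
theorem k0_pair (p : ℕ) [hp : Fact p.Prime] [Finite G] (M A : Subgroup G) [M.Normal] [A.Normal]
    (hidx : M.index = p) (hAM : A ≤ M)
    (hC : ∀ y, y ∉ M → Subgroup.centralizer {y} ⊓ M ≤ A) (y₀ : G) (hy₀ : y₀ ∉ M)
    (d : ℕ) (hd : ∀ y, y ∉ M → (A ⊓ Subgroup.centralizer {y}).relIndex A ≤ p ^ d) :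
    IsPair p (A.subgroupOf (A ⊔ Subgroup.zpowers y₀)) d := by
  refine ⟨relIndex_eq p M A hidx hAM hC y₀ hy₀, ?_⟩
  rintro ⟨k, hk⟩ hkA
  rw [Subgroup.mem_subgroupOf] at hkA
  have hkM : k ∉ M := notMem_of_notMem p M A hidx hAM hC y₀ hy₀ k hk hkA
  have hcent : Subgroup.centralizer ({(⟨k, hk⟩ : ↥(A ⊔ Subgroup.zpowers y₀))} :
      Set ↥(A ⊔ Subgroup.zpowers y₀)) =
      (Subgroup.centralizer ({k} : Set G)).subgroupOf (A ⊔ Subgroup.zpowers y₀) := by
    ext g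
    simp only [Subgroup.mem_centralizer_iff, Set.mem_singleton_iff, forall_eq,
      Subgroup.mem_subgroupOf]
    constructor
    · intro h
      have := congrArg (Subtype.val) h
      simpa using this
    · intro h
      apply Subtype.ext
      simpa using h
  rw [hcent]
  show (Subgroup.centralizer ({k} : Set G)).relIndex (A ⊔ Subgroup.zpowers y₀) ≤ p ^ d
  have hnot : ¬ Subgroup.centralizer ({k} : Set G) ⊓ (A ⊔ Subgroup.zpowers y₀) ≤ A := by
    intro h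
    apply hkA
    apply h
    refine Subgroup.mem_inf.mpr ⟨?_, hk⟩
    show k ∈ Subgroup.centralizer ({k} : Set G)
    rw [Subgroup.mem_centralizer_iff]
    intro x hx
    rw [Set.mem_singleton_iff.mp hx]
  rw [relIndex_eq_relIndex p A (A ⊔ Subgroup.zpowers y₀) _ le_sup_left
    (relIndex_eq p M A hidx hAM hC y₀ hy₀) hnot]
  have := hd k hkM
  rwa [inf_comm, Subgroup.inf_relIndex_right] at this

/-- (k6) `K₀` is a proper subgroup when `A ≠ M`. -/
theorem k0_ne_top (p : ℕ) [Fact p.Prime] (M A : Subgroup G) [M.Normal] [A.Normal]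
    (hidx : M.index = p) (hAM : A ≤ M)
    (hC : ∀ y, y ∉ M → Subgroup.centralizer {y} ⊓ M ≤ A) (y₀ : G) (hy₀ : y₀ ∉ M)
    (hne : A ≠ M) : A ⊔ Subgroup.zpowers y₀ ≠ ⊤ := by
  intro h
  apply hne
  have := inf_eq p M A hidx hAM hC y₀ hy₀
  rw [h, top_inf_eq] at this
  exact this.symm

end Cfsg.Agent.Lib.H23.S3777K0
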