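import Mathlib

/-!
# S3814, Case 1: the eigenvector brick for (LCyc) (helper23)

`α` of prime order `t' ∣ t - 1` normalising, not centralising, an abelian subgroup `A` of
exponent `t` (`t` prime): some `g ∈ A` has `α g α⁻¹ ∈ ⟨g⟩` and `α g ≠ g α`.

Linear algebra: `A` is a `ZMod t`-module, conjugation by `α` an endomorphism `φ` with
`φ ^ t' = 1`, and `X ^ t' - 1 = ∏ (X - ζ)` over the `t'`-th roots of unity of `ZMod t`
(there is a primitive one since `t' ∣ t - 1`).  For `w = φ v - v ≠ 0` the product of the factors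
`φ - ζ`, `ζ ≠ 1`, kills `w`; the first partial product that kills it produces an eigenvector with
eigenvalue `≠ 1`.
-/

set_option autoImplicit false

namespace Cfsg.Agent.Lib.H23.S3814Eigen

open Polynomial

section linalg

variable {K : Type*} [Field K] {V : Type*} [AddCommGroup V] [Module K V]

/-- if a product of linear factors of `φ` kills `v ≠ 0`, some factor has an eigenvector -/
theorem exists_eigen_of_prod (φ : Module.End K V) (S : Finset K) :
    ∀ v : V, v ≠ 0 → aeval φ (∏ ζ ∈ S, (X - C ζ)) v = 0 →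
      ∃ ζ ∈ S, ∃ u : V, u ≠ 0 ∧ φ u = ζ • u := by
  classical
  induction S using Finset.induction_on with
  | empty =>
    intro v hv h
    simp at h
    exact absurd h hv
  | insert a S ha ih =>
    intro v hv h
    rw [Finset.prod_insert ha, map_mul, Module.End.mul_apply] at h
    by_cases hv' : aeval φ (∏ ζ ∈ S, (X - C ζ)) v = 0
    · obtain ⟨ζ, hζ, u, hu, hφ⟩ := ih v hv hv'
      exact ⟨ζ, Finset.mem_insert_of_mem hζ, u, hu, hφ⟩
    · refine ⟨a, Finset.mem_insert_self a S, _, hv', ?_⟩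
      have h2 : aeval φ (X - C a) (aeval φ (∏ ζ ∈ S, (X - C ζ)) v) = 0 := h
      simp only [map_sub, aeval_X, aeval_C, LinearMap.sub_apply, Module.algebraMap_end_apply]
        at h2
      exact sub_eq_zero.mp h2

/-- an endomorphism `φ ≠ 1` with `φ ^ n = 1`, the field containing a primitive `n`-th root of
unity, has an eigenvector with eigenvalue `≠ 1` -/
theorem exists_eigen_ne_one {n : ℕ} (hn : 0 < n) {ζ₀ : K} (hζ₀ : IsPrimitiveRoot ζ₀ n)
    (φ : Module.End K V) (hφn : φ ^ n = 1) {v₀ : V} (hv₀ : φ v₀ ≠ v₀) :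
    ∃ μ : K, μ ≠ 1 ∧ ∃ u : V, u ≠ 0 ∧ φ u = μ • u := by
  classical
  have hprod := X_pow_sub_one_eq_prod hn hζ₀
  have h1 : (1 : K) ∈ nthRootsFinset n (1 : K) := by
    rw [mem_nthRootsFinset hn]; exact one_pow n
  rw [← Finset.mul_prod_erase _ _ h1] at hprod
  have hw : φ v₀ - v₀ ≠ 0 := sub_ne_zero.mpr hv₀
  have hkill : aeval φ (∏ ζ ∈ (nthRootsFinset n (1 : K)).erase 1, (X - C ζ)) (φ v₀ - v₀) = 0 := by
    have e1 : φ v₀ - v₀ = aeval φ (X - C (1 : K)) v₀ := by
      simp [map_sub, aeval_X, LinearMap.sub_apply]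
    rw [e1, ← Module.End.mul_apply, ← map_mul, mul_comm, ← hprod]
    simp [map_sub, hφn]
  obtain ⟨μ, hμ, u, hu, hφu⟩ := exists_eigen_of_prod φ _ _ hw hkill
  exact ⟨μ, (Finset.mem_erase.mp hμ).1, u, hu, hφu⟩

end linalg

section group

/-- the eigenvector statement for a commutative group carrying a `ZMod t`-module structure -/
theorem eigen_mod {A : Type*} [CommGroup A] {t t' : ℕ} [Fact t.Prime]
    [Module (ZMod t) (Additive A)] (ht' : t'.Prime)
    (hdvd : t' ∣ t - 1) (f : A →* A) (hf : ∀ a, f^[t'] a = a)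
    (hnc : ∃ a, f a ≠ a) :
    ∃ g : A, (∃ k : ℕ, f g = g ^ k) ∧ f g ≠ g := by
  classical
  have ht : t.Prime := Fact.out
  let φ : Additive A →ₗ[ZMod t] Additive A := (MonoidHom.toAdditive f).toZModLinearMap t
  have hφ : ∀ x : Additive A, Additive.toMul (φ x) = f (Additive.toMul x) := fun x => rfl
  have hiter : ∀ (n : ℕ) (x : Additive A),
      Additive.toMul ((φ ^ n) x) = f^[n] (Additive.toMul x) := by
    intro n
    induction n with
    | zero => intro x; simp
    | succ n ih =>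
      intro x
      rw [pow_succ', Module.End.mul_apply, hφ, ih, Function.iterate_succ_apply']
  have hφn : φ ^ t' = 1 := by
    apply LinearMap.ext
    intro x
    apply Additive.toMul.injective
    rw [hiter, hf]
    rfl
  obtain ⟨x, hx⟩ : ∃ x : (ZMod t)ˣ, orderOf x = t' := by
    have : Fact t'.Prime := ⟨ht'⟩
    apply exists_prime_orderOf_dvd_card' t'
    rw [Nat.card_eq_fintype_card, ZMod.card_units_eq_totient, Nat.totient_prime ht]
    exact hdvd
  have hζ₀ : IsPrimitiveRoot ((x : ZMod t)) t' := by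
    have := IsPrimitiveRoot.orderOf ((x : ZMod t))
    rwa [orderOf_units, hx] at this
  obtain ⟨a, hne⟩ := hnc
  have hv₀ : φ (Additive.ofMul a) ≠ Additive.ofMul a := by
    intro h
    apply hne
    have h2 := congrArg Additive.toMul h
    rw [hφ] at h2
    exact h2
  obtain ⟨μ, hμ, u, hu, hφu⟩ := exists_eigen_ne_one ht'.pos hζ₀ φ hφn hv₀
  refine ⟨Additive.toMul u, ⟨μ.val, ?_⟩, ?_⟩
  · have h1 : μ • u = μ.val • u := by
      conv_lhs => rw [← ZMod.natCast_zmod_val μ]
      exact Nat.cast_smul_eq_nsmul _ _ _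
    rw [← hφ, hφu, h1, toMul_nsmul]
  · intro hcomm
    have h3 : φ u = u := by
      apply Additive.toMul.injective
      rw [hφ, hcomm]
    rw [hφu] at h3
    have h4 : (μ - 1) • u = 0 := by rw [sub_smul, h3, one_smul, sub_self]
    rcases smul_eq_zero.mp h4 with h5 | h5
    · exact hμ (sub_eq_zero.mp h5)
    · exact hu h5

/-- the eigenvector statement for a commutative group of prime exponent `t` with an endomorphism
`f`, `f ^ t' = id`, `t' ∣ t - 1` prime -/
theorem eigen_comm {A : Type*} [CommGroup A] {t t' : ℕ} (ht : t.Prime) (ht' : t'.Prime)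
    (hdvd : t' ∣ t - 1) (hAe : ∀ a : A, a ^ t = 1) (f : A →* A) (hf : ∀ a, f^[t'] a = a)
    (hnc : ∃ a, f a ≠ a) :
    ∃ g : A, (∃ k : ℕ, f g = g ^ k) ∧ f g ≠ g :=
  @eigen_mod A _ t t' ⟨ht⟩ (AddCommGroup.zmodModule (n := t) (fun x => by
    show Additive.ofMul ((Additive.toMul x) ^ t) = Additive.ofMul 1
    rw [hAe])) ht' hdvd f hf hnc

variable {G : Type*} [Group G]

/-- **Eigenvector brick**: `α` of prime order `t' ∣ t - 1` normalising and not centralising an
abelian subgroup `A` of prime exponent `t` normalises some `⟨g⟩ ≤ A` without centralising it. -/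
theorem eigen {t t' : ℕ} (ht : t.Prime) (ht' : t'.Prime) (hdvd : t' ∣ t - 1)
    (A : Subgroup G) (hAc : ∀ a ∈ A, ∀ b ∈ A, a * b = b * a) (hAe : ∀ a ∈ A, a ^ t = 1)
    (α : G) (hα : orderOf α = t') (hn : ∀ a ∈ A, α * a * α⁻¹ ∈ A)
    (hnc : ∃ a ∈ A, α * a ≠ a * α) :
    ∃ g ∈ A, α * g * α⁻¹ ∈ Subgroup.zpowers g ∧ α * g ≠ g * α := by
  classical
  let _ : CommGroup A :=
    { (inferInstance : Group A) with mul_comm := fun a b => Subtype.ext (hAc a a.2 b b.2) }
  let f : A →* A :=
    { toFun := fun a => ⟨α * a * α⁻¹, hn a a.2⟩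
      map_one' := by ext; simp
      map_mul' := fun a b => by ext; simp [mul_assoc] }
  have hfa : ∀ a : A, ((f a : A) : G) = α * a * α⁻¹ := fun a => rfl
  have hiter : ∀ (n : ℕ) (a : A), ((f^[n] a : A) : G) = α ^ n * a * (α ^ n)⁻¹ := by
    intro n
    induction n with
    | zero => intro a; simp
    | succ n ih =>
      intro a
      rw [Function.iterate_succ_apply', hfa, ih, pow_succ']
      group
  have hf : ∀ a : A, f^[t'] a = a := by
    intro a
    apply Subtype.ext
    rw [hiter, ← hα, pow_orderOf_eq_one]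
    simp
  obtain ⟨a, ha, hne⟩ := hnc
  have hnc' : ∃ a : A, f a ≠ a := by
    refine ⟨⟨a, ha⟩, fun h => hne ?_⟩
    have h2 := congrArg Subtype.val h
    rw [hfa] at h2
    have h3 : α * a * α⁻¹ = a := h2
    calc α * a = (α * a * α⁻¹) * α := by group
      _ = a * α := by rw [h3]
  obtain ⟨g, ⟨k, hk⟩, hg⟩ := eigen_comm ht ht' hdvd
    (fun a => Subtype.ext (by simpa using hAe a a.2)) f hf hnc'
  refine ⟨g, g.2, ?_, ?_⟩
  · have h2 := congrArg Subtype.val hk
    rw [hfa, Subgroup.coe_pow] at h2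
    rw [h2]
    exact Subgroup.pow_mem _ (Subgroup.mem_zpowers _) _
  · intro hcomm
    apply hg
    apply Subtype.ext
    rw [hfa, hcomm, mul_inv_cancel_right]

end group

end Cfsg.Agent.Lib.H23.S3814Eigen
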