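import Cfsg.Agent.Lib.H27.S3814C1Defs
import Cfsg.Agent.Lib.H23.S3814Eigen

/-!
# S3814, Case 1, piece (21) LCyc (helper23)

Type-level induction on the order of a finite `t`-group `P` with an endomorphism `φ`,
`φ^[t'] = id`, `φ ≠ id`, `t' ∣ t - 1`: there are `g ≠ 1` and `k` with `φ g = g ^ k` and
`k ≢ 1 mod t`.  With `Z = Ω₁(Z(P))`: if `φ` moves `Z` the eigenvector brick
(`S3814Eigen.eigen_comm`) applies to `Z`; otherwise `φ` induces a nonidentity endomorphism of
`P ⧸ Z` (coprimality), induction gives `ḡ`, and a lift `g` with `φ g = g ^ k z`, `z ∈ Z`, is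
corrected to `g z ^ j` with `j (k - 1) ≡ 1 mod t`.
-/

set_option autoImplicit false

namespace Cfsg.Agent.Lib.H23.S3814C1LCyc

universe u

section typelevel

variable {P : Type u} [Group P]

/-- `Ω₁(Z(P))` for the prime `t` -/
def omegaZ (P : Type u) [Group P] (t : ℕ) : Subgroup P where
  carrier := {z | z ∈ Subgroup.center P ∧ z ^ t = 1}
  one_mem' := ⟨one_mem _, one_pow _⟩
  mul_mem' := by
    rintro a b ⟨ha, ha'⟩ ⟨hb, hb'⟩
    refine ⟨mul_mem ha hb, ?_⟩
    have hc : Commute a b := (Subgroup.mem_center_iff.mp ha b).symm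
    rw [hc.mul_pow, ha', hb', one_mul]
  inv_mem' := by
    rintro a ⟨ha, ha'⟩
    exact ⟨inv_mem ha, by rw [inv_pow, ha', inv_one]⟩

theorem mem_omegaZ {t : ℕ} {z : P} : z ∈ omegaZ P t ↔ z ∈ Subgroup.center P ∧ z ^ t = 1 :=
  Iff.rfl

theorem omegaZ_comm {t : ℕ} {z : P} (hz : z ∈ omegaZ P t) (x : P) : x * z = z * x :=
  Subgroup.mem_center_iff.mp hz.1 x

instance omegaZ_normal (t : ℕ) : (omegaZ P t).Normal where
  conj_mem := by
    intro n hn g
    have : g * n * g⁻¹ = n := by rw [omegaZ_comm hn g, mul_inv_cancel_right]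
    rw [this]; exact hn

theorem omegaZ_ne_bot [Finite P] {t : ℕ} [Fact t.Prime] (hP : IsPGroup t P) [Nontrivial P] :
    omegaZ P t ≠ ⊥ := by
  have hc : Nontrivial (Subgroup.center P) := hP.center_nontrivial
  have hpc : IsPGroup t (Subgroup.center P) := hP.to_subgroup _
  have hdvd : t ∣ Nat.card (Subgroup.center P) := by
    rcases hpc.card_eq_or_dvd with h | h
    · exfalso
      have := (Nat.card_eq_one_iff_unique.mp h).1
      exact not_subsingleton _ this
    · exact h
  obtain ⟨z, hz⟩ := exists_prime_orderOf_dvd_card' t hdvd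
  intro hbot
  have hmem : (z : P) ∈ omegaZ P t := by
    refine ⟨z.2, ?_⟩
    have : z ^ t = 1 := by rw [← hz]; exact pow_orderOf_eq_one z
    have h2 := congrArg Subtype.val this
    simpa using h2
  rw [hbot, Subgroup.mem_bot] at hmem
  have hz1 : z = 1 := Subtype.ext hmem
  rw [hz1, orderOf_one] at hz
  exact (Fact.out : t.Prime).one_lt.ne hz

theorem surj_of_iter {φ : P →* P} {n : ℕ} (hn : 0 < n) (hf : ∀ x, φ^[n] x = x) :
    Function.Surjective φ := by
  obtain ⟨m, rfl⟩ : ∃ m, n = m + 1 := Nat.exists_eq_succ_of_ne_zero hn.ne'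
  intro x
  exact ⟨φ^[m] x, (Function.iterate_succ_apply' φ m x).symm.trans (hf x)⟩

theorem map_mem_omegaZ {t : ℕ} {φ : P →* P} (hs : Function.Surjective φ) {z : P}
    (hz : z ∈ omegaZ P t) : φ z ∈ omegaZ P t := by
  refine ⟨?_, by rw [← map_pow, hz.2, map_one]⟩
  rw [Subgroup.mem_center_iff]
  intro y
  obtain ⟨y', rfl⟩ := hs y
  rw [← map_mul, ← map_mul, omegaZ_comm hz y']

/-- **Type-level (LCyc)**, strengthened for the induction. -/
theorem main {t t' : ℕ} (ht : t.Prime) (ht' : t'.Prime) (hdvd : t' ∣ t - 1) :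
    ∀ (n : ℕ) (P : Type u) [Group P] [Finite P], Nat.card P = n → IsPGroup t P →
      ∀ φ : P →* P, (∀ x, φ^[t'] x = x) → (∃ x, φ x ≠ x) →
      ∃ g : P, g ≠ 1 ∧ ∃ k : ℕ, φ g = g ^ k ∧ (k : ZMod t) ≠ 1 := by
  intro n
  induction n using Nat.strong_induction_on with
  | _ n ih =>
    intro P _ _ hcard hP φ hf hnc
    have : Fact t.Prime := ⟨ht⟩
    have hcop : Nat.Coprime t' t := by
      rw [Nat.coprime_primes ht' ht]
      intro h
      have h1 : t' ≤ t - 1 := Nat.le_of_dvd (by have := ht.two_le; omega) hdvd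
      have := ht.two_le
      omega
    have hs := surj_of_iter ht'.pos hf
    have : Nontrivial P := by
      obtain ⟨x, hx⟩ := hnc
      exact ⟨⟨φ x, x, hx⟩⟩
    by_cases hE : ∃ z ∈ omegaZ P t, φ z ≠ z
    · -- the eigenvector case
      obtain ⟨z0, hz0, hz0ne⟩ := hE
      let _ : CommGroup (omegaZ P t) :=
        { (inferInstance : Group (omegaZ P t)) with
          mul_comm := fun a b => Subtype.ext (omegaZ_comm b.2 a) }
      let f : omegaZ P t →* omegaZ P t :=
        { toFun := fun z => ⟨φ z, map_mem_omegaZ hs z.2⟩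
          map_one' := by ext; simp
          map_mul' := fun a b => by ext; simp }
      have hfa : ∀ z : omegaZ P t, ((f z : omegaZ P t) : P) = φ z := fun z => rfl
      have hiter : ∀ (n : ℕ) (z : omegaZ P t), ((f^[n] z : omegaZ P t) : P) = φ^[n] z := by
        intro n
        induction n with
        | zero => intro z; rfl
        | succ n ih' =>
          intro z
          rw [Function.iterate_succ_apply', Function.iterate_succ_apply', hfa, ih']
      have hf' : ∀ z, f^[t'] z = z := fun z => Subtype.ext (by rw [hiter, hf])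
      have hnc' : ∃ z, f z ≠ z := ⟨⟨z0, hz0⟩, fun h => hz0ne (congrArg Subtype.val h)⟩
      obtain ⟨g, ⟨k, hk⟩, hg⟩ := Cfsg.Agent.Lib.H23.S3814Eigen.eigen_comm ht ht' hdvd
        (fun a => Subtype.ext (by simpa using a.2.2)) f hf' hnc'
      refine ⟨g, ?_, k, ?_, ?_⟩
      · intro h1
        apply hg
        have : g = 1 := Subtype.ext h1
        rw [this, map_one]
      · have := congrArg Subtype.val hk
        simpa [hfa] using this
      · intro hk1
        apply hg
        have hmod : k ≡ 1 [MOD t] := by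
          rw [← ZMod.natCast_eq_natCast_iff]; simpa using hk1
        rw [hk]
        have hgt : g ^ t = 1 := Subtype.ext (by simpa using g.2.2)
        have : g ^ k = g ^ 1 := by
          rw [pow_eq_pow_iff_modEq]
          exact hmod.of_dvd (orderOf_dvd_of_pow_eq_one hgt)
        rw [this, pow_one]
    · -- the lifting case
      push Not at hE
      have hZ : omegaZ P t ≠ ⊥ := omegaZ_ne_bot hP
      have hle : omegaZ P t ≤ (omegaZ P t).comap φ := fun z hz => map_mem_omegaZ hs hz
      let φb : P ⧸ omegaZ P t →* P ⧸ omegaZ P t := QuotientGroup.map _ _ φ hle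
      have hφb : ∀ x : P, φb (QuotientGroup.mk x) = QuotientGroup.mk (φ x) := fun x => rfl
      have hiterb : ∀ (n : ℕ) (x : P),
          φb^[n] (QuotientGroup.mk x) = QuotientGroup.mk (φ^[n] x) := by
        intro n
        induction n with
        | zero => intro x; rfl
        | succ n ih' =>
          intro x
          rw [Function.iterate_succ_apply', Function.iterate_succ_apply', ih', hφb]
      have hfb : ∀ q, φb^[t'] q = q := by
        intro q
        induction q using QuotientGroup.induction_on with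
        | H x => rw [hiterb, hf]
      have hncb : ∃ q, φb q ≠ q := by
        by_contra hall
        push Not at hall
        obtain ⟨x, hx⟩ := hnc
        apply hx
        have h1 : (QuotientGroup.mk x : P ⧸ omegaZ P t) = QuotientGroup.mk (φ x) :=
          (hall (QuotientGroup.mk x)).symm
        rw [QuotientGroup.eq] at h1
        set w := x⁻¹ * φ x with hw
        have hwfix : φ w = w := hE w h1
        have hφx : φ x = x * w := by rw [hw]; group
        have hit : ∀ n : ℕ, φ^[n] x = x * w ^ n := by
          intro n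
          induction n with
          | zero => simp
          | succ n ih' =>
            rw [Function.iterate_succ_apply', ih', map_mul, map_pow, hwfix, hφx, mul_assoc,
              ← pow_succ']
        have h2 := hit t'
        rw [hf] at h2
        have hwt' : w ^ t' = 1 := by
          have := mul_left_cancel (a := x) (b := 1) (c := w ^ t') (by rw [mul_one]; exact h2)
          exact this.symm
        have hwt : w ^ t = 1 := h1.2
        have hw1 : w = 1 := by
          rw [← orderOf_eq_one_iff]
          have hd := Nat.dvd_gcd (orderOf_dvd_of_pow_eq_one hwt') (orderOf_dvd_of_pow_eq_one hwt)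
          rw [hcop] at hd
          exact Nat.dvd_one.mp hd
        rw [hφx, hw1, mul_one]
      have hPq : IsPGroup t (P ⧸ omegaZ P t) := hP.to_quotient _
      have hlt : Nat.card (P ⧸ omegaZ P t) < n := by
        rw [← hcard, Subgroup.card_eq_card_quotient_mul_card_subgroup (omegaZ P t)]
        have h1 : 1 < Nat.card (omegaZ P t) := (Subgroup.one_lt_card_iff_ne_bot _).mpr hZ
        have h2 : 0 < Nat.card (P ⧸ omegaZ P t) := Nat.card_pos
        nlinarith
      obtain ⟨gb, hgb1, k, hk, hk1⟩ := ih _ hlt (P ⧸ omegaZ P t) rfl hPq φb hfb hncb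
      obtain ⟨g, rfl⟩ := QuotientGroup.mk_surjective gb
      have h1 : (QuotientGroup.mk (g ^ k) : P ⧸ omegaZ P t) = QuotientGroup.mk (φ g) := by
        rw [QuotientGroup.mk_pow, ← hk, hφb]
      rw [QuotientGroup.eq] at h1
      set z := (g ^ k)⁻¹ * φ g with hzdef
      have hzZ : z ∈ omegaZ P t := h1
      have hφg : φ g = g ^ k * z := by rw [hzdef]; group
      have hzfix : φ z = z := hE z hzZ
      set j : ℕ := (((k : ZMod t) - 1)⁻¹).val with hj
      have hjk : ((1 + j : ℕ) : ZMod t) = ((j * k : ℕ) : ZMod t) := by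
        have hne : (k : ZMod t) - 1 ≠ 0 := sub_ne_zero.mpr hk1
        have hjc : ((j : ℕ) : ZMod t) = ((k : ZMod t) - 1)⁻¹ := by
          rw [hj, ZMod.natCast_zmod_val]
        push_cast
        rw [hjc]
        field_simp
        ring
      have hmod : 1 + j ≡ j * k [MOD t] := (ZMod.natCast_eq_natCast_iff _ _ _).mp hjk
      have hzpow : z ^ (1 + j) = z ^ (j * k) := by
        rw [pow_eq_pow_iff_modEq]
        exact hmod.of_dvd (orderOf_dvd_of_pow_eq_one hzZ.2)
      refine ⟨g * z ^ j, ?_, k, ?_, hk1⟩
      · intro h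
        apply hgb1
        have hmk : (QuotientGroup.mk (g * z ^ j) : P ⧸ omegaZ P t) = QuotientGroup.mk g := by
          rw [QuotientGroup.mk_mul,
            (QuotientGroup.eq_one_iff _).mpr ((omegaZ P t).pow_mem hzZ j), mul_one]
        rw [← hmk, h, QuotientGroup.mk_one]
      · have hc : Commute g (z ^ j) := omegaZ_comm ((omegaZ P t).pow_mem hzZ j) g
        rw [map_mul, map_pow, hzfix, hφg, hc.mul_pow, ← pow_mul, mul_assoc]
        congr 1
        rw [← hzpow, pow_add, pow_one]

end typelevel

section wrapper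

open Cfsg.Agent.H27.S3814C1

/-- PIECE (21) LCyc of helper27's Case 1 sub-cut. -/
theorem lcyc : LCycStmt.{u} := by
  intro G _ _ P t t' ht ht' hdvd hP α hα hn hnc
  have : Fact t.Prime := ⟨ht⟩
  let f : P →* P :=
    { toFun := fun a => ⟨α * a * α⁻¹, hn a a.2⟩
      map_one' := by ext; simp
      map_mul' := fun a b => by ext; simp [mul_assoc] }
  have hfa : ∀ a : P, ((f a : P) : G) = α * a * α⁻¹ := fun a => rfl
  have hiter : ∀ (n : ℕ) (a : P), ((f^[n] a : P) : G) = α ^ n * a * (α ^ n)⁻¹ := by
    intro n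
    induction n with
    | zero => intro a; simp
    | succ n ih =>
      intro a
      rw [Function.iterate_succ_apply', hfa, ih, pow_succ']
      group
  have hf : ∀ a : P, f^[t'] a = a := by
    intro a
    apply Subtype.ext
    rw [hiter, ← hα, pow_orderOf_eq_one]
    simp
  obtain ⟨a, ha, hne⟩ := hnc
  have hnc' : ∃ a : P, f a ≠ a := by
    refine ⟨⟨a, ha⟩, fun h => hne ?_⟩
    have h2 := congrArg Subtype.val h
    rw [hfa] at h2
    have h3 : α * a * α⁻¹ = a := h2
    calc α * a = (α * a * α⁻¹) * α := by group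
      _ = a * α := by rw [h3]
  obtain ⟨g, hg1, k, hk, hk1⟩ := main ht ht' hdvd _ P rfl hP f hf hnc'
  have hk' : α * (g : G) * α⁻¹ = (g : G) ^ k := by
    have h2 := congrArg Subtype.val hk
    rw [hfa, Subgroup.coe_pow] at h2
    exact h2
  refine ⟨g, g.2, ?_, ?_⟩
  · rw [hk']
    exact Subgroup.pow_mem _ (Subgroup.mem_zpowers _) _
  · intro hcomm
    apply hk1
    have h3 : (g : G) ^ k = (g : G) ^ 1 := by
      rw [← hk', hcomm, mul_inv_cancel_right, pow_one]
    rw [pow_eq_pow_iff_modEq] at h3
    obtain ⟨m, hm⟩ := (IsPGroup.iff_orderOf.mp hP) g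
    have hm0 : m ≠ 0 := by
      intro h0
      rw [h0, pow_zero, orderOf_eq_one_iff] at hm
      exact hg1 hm
    have hdv : t ∣ orderOf (g : G) := by
      rw [Subgroup.orderOf_coe, hm]
      exact dvd_pow_self t hm0
    have hmod : k ≡ 1 [MOD t] := h3.of_dvd hdv
    have := (ZMod.natCast_eq_natCast_iff _ _ _).mpr hmod
    simpa using this

example : LCycStmt.{0} := lcyc

end wrapper

end Cfsg.Agent.Lib.H23.S3814C1LCyc
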