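import Cfsg.Agent.Lib.H8.S3814MPDefs
import Cfsg.Agent.Lib.H24.S3814F2E
import Cfsg.Agent.S0058

/-!
# S3814, block (MP), piece (K3c) (helper23)

`T = C_s × C_s` normalising `A = C_r × C_r` (`r ≠ s` primes) such that every nonidentity element
of `T` centralises a nonidentity element of `A` is not faithful on `A`.

Proof without eigenvalues: assume faithful.  For `1 ≠ y ∈ T` the fixed points `C_A(y)` form a
subgroup of order exactly `r`.  Two different ones `L₁ = C_A(y₁)`, `L₂ = C_A(y₂)` meet trivially,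
so `A = L₁ L₂` and `y₁ y₂` has no nontrivial fixed point on `A`, hence `y₁ y₂ = 1` and `L₁ = L₂`.
So all `C_A(y)` coincide with one subgroup `L` of order `r`; coprime generation (landed S0058)
gives `A = L`, against `|A| = r²`.
-/

set_option autoImplicit false

namespace Cfsg.Agent.Lib.H23.S3814MPK3c

open Cfsg.Agent.H7.S3814Defs Cfsg.Agent.Lib.H8.S3814MP

universe u

variable {G : Type u} [Group G]

theorem mem_fix {A : Subgroup G} {y e : G} :
    e ∈ A ⊓ Subgroup.centralizer {y} ↔ e ∈ A ∧ y * e = e * y := by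
  rw [Subgroup.mem_inf, Subgroup.mem_centralizer_singleton_iff]
  exact and_congr_right fun _ => eq_comm

/-- conjugation by a product of two commuting elements, on a fixed point of the first -/
theorem conj_mul_of_commute {y1 y2 x : G} (h12 : Commute y1 y2) (h1 : Commute y1 x) :
    (y1 * y2) * x * (y1 * y2)⁻¹ = y2 * x * y2⁻¹ := by
  have hc : Commute y1 (y2 * x * y2⁻¹) := (h12.mul_right h1).mul_right h12.inv_right
  calc (y1 * y2) * x * (y1 * y2)⁻¹ = y1 * (y2 * x * y2⁻¹) * y1⁻¹ := by group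
    _ = y2 * x * y2⁻¹ := by rw [hc.eq, mul_inv_cancel_right]

/-- the pure group-theoretic core of (K3c) -/
theorem not_faithful [Finite G] {r s : ℕ} (hr : r.Prime) (hs : s.Prime) (hrs : r ≠ s)
    (A T : Subgroup G) (hAcard : Nat.card A = r ^ 2)
    (hTcard : Nat.card T = s ^ 2) [IsMulCommutative T] (hTnc : ¬ IsCyclic T)
    (hnorm : ∀ y ∈ T, ∀ e ∈ A, y * e * y⁻¹ ∈ A)
    (hfix : ∀ y ∈ T, y ≠ 1 → ∃ e ∈ A, e ≠ 1 ∧ y * e = e * y) :
    ∃ y ∈ T, y ≠ 1 ∧ ∀ e ∈ A, y * e = e * y := by
  classical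
  by_contra hcon
  push Not at hcon
  -- (a) all fixed-point subgroups have order `r`
  have hcard : ∀ y ∈ T, y ≠ 1 →
      Nat.card (A ⊓ Subgroup.centralizer {y} : Subgroup G) = r := by
    intro y hy hy1
    have hdvd : Nat.card (A ⊓ Subgroup.centralizer {y} : Subgroup G) ∣ r ^ 2 := by
      rw [← hAcard]; exact Subgroup.card_dvd_of_le inf_le_left
    obtain ⟨k, hk, hkc⟩ := (Nat.dvd_prime_pow hr).mp hdvd
    interval_cases k
    · exfalso
      obtain ⟨e, heA, he1, hey⟩ := hfix y hy hy1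
      have hbot : (A ⊓ Subgroup.centralizer {y} : Subgroup G) = ⊥ :=
        Subgroup.card_eq_one.mp (by simpa using hkc)
      have hmem : e ∈ (A ⊓ Subgroup.centralizer {y} : Subgroup G) := mem_fix.mpr ⟨heA, hey⟩
      rw [hbot, Subgroup.mem_bot] at hmem
      exact he1 hmem
    · simpa using hkc
    · exfalso
      obtain ⟨e, heA, hey⟩ := hcon y hy hy1
      have htop : (A ⊓ Subgroup.centralizer {y} : Subgroup G) = A :=
        Subgroup.eq_of_le_of_card_ge inf_le_left (by rw [hkc, hAcard])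
      have hmem : e ∈ (A ⊓ Subgroup.centralizer {y} : Subgroup G) := by rw [htop]; exact heA
      exact hey (mem_fix.mp hmem).2
  -- (b) all fixed-point subgroups coincide
  have hsame : ∀ y1 ∈ T, y1 ≠ 1 → ∀ y2 ∈ T, y2 ≠ 1 →
      (A ⊓ Subgroup.centralizer {y1} : Subgroup G) = A ⊓ Subgroup.centralizer {y2} := by
    intro y1 hy1 hy11 y2 hy2 hy21
    by_contra hne
    have hc1 := hcard y1 hy1 hy11
    have hc2 := hcard y2 hy2 hy21
    have hinf : (A ⊓ Subgroup.centralizer {y1} : Subgroup G) ⊓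
        (A ⊓ Subgroup.centralizer {y2}) = ⊥ := by
      have hd : Nat.card ((A ⊓ Subgroup.centralizer {y1} : Subgroup G) ⊓
          (A ⊓ Subgroup.centralizer {y2}) : Subgroup G) ∣ r := by
        rw [← hc1]; exact Subgroup.card_dvd_of_le inf_le_left
      rcases (Nat.dvd_prime hr).mp hd with h | h
      · exact Subgroup.card_eq_one.mp h
      · exfalso
        apply hne
        have e1 := Subgroup.eq_of_le_of_card_ge
          (inf_le_left : (A ⊓ Subgroup.centralizer {y1} : Subgroup G) ⊓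
            (A ⊓ Subgroup.centralizer {y2}) ≤ _) (by rw [h, hc1])
        have e2 := Subgroup.eq_of_le_of_card_ge
          (inf_le_right : (A ⊓ Subgroup.centralizer {y1} : Subgroup G) ⊓
            (A ⊓ Subgroup.centralizer {y2}) ≤ _) (by rw [h, hc2])
        rw [← e1]
        exact e2
    have h12 : Commute y1 y2 := by
      have := IsMulCommutative.is_comm.comm (⟨y1, hy1⟩ : T) ⟨y2, hy2⟩
      exact congrArg Subtype.val this
    -- uniqueness of the decomposition
    have huniq : ∀ x ∈ (A ⊓ Subgroup.centralizer {y1} : Subgroup G),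
        ∀ z ∈ (A ⊓ Subgroup.centralizer {y2} : Subgroup G),
        ∀ x' ∈ (A ⊓ Subgroup.centralizer {y1} : Subgroup G),
        ∀ z' ∈ (A ⊓ Subgroup.centralizer {y2} : Subgroup G),
        x * z = x' * z' → x = x' ∧ z = z' := by
      intro x hx z hz x' hx' z' hz' h
      have hm : x'⁻¹ * x ∈ (A ⊓ Subgroup.centralizer {y1} : Subgroup G) ⊓
          (A ⊓ Subgroup.centralizer {y2}) := by
        refine Subgroup.mem_inf.mpr ⟨Subgroup.mul_mem _ (Subgroup.inv_mem _ hx') hx, ?_⟩
        have : x'⁻¹ * x = z' * z⁻¹ := by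
          rw [inv_mul_eq_iff_eq_mul, ← mul_assoc, ← h, mul_inv_cancel_right]
        rw [this]
        exact Subgroup.mul_mem _ hz' (Subgroup.inv_mem _ hz)
      rw [hinf, Subgroup.mem_bot] at hm
      have hxx : x = x' := (inv_mul_eq_one.mp hm).symm
      refine ⟨hxx, ?_⟩
      rw [hxx] at h
      exact mul_left_cancel h
    -- existence of the decomposition
    have hdec : ∀ e ∈ A, ∃ x ∈ (A ⊓ Subgroup.centralizer {y1} : Subgroup G),
        ∃ z ∈ (A ⊓ Subgroup.centralizer {y2} : Subgroup G), e = x * z := by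
      let f : (A ⊓ Subgroup.centralizer {y1} : Subgroup G) ×
          (A ⊓ Subgroup.centralizer {y2} : Subgroup G) → A :=
        fun q => ⟨(q.1 : G) * (q.2 : G),
          A.mul_mem (Subgroup.mem_inf.mp q.1.2).1 (Subgroup.mem_inf.mp q.2.2).1⟩
      have hinj : Function.Injective f := by
        rintro ⟨x, z⟩ ⟨x', z'⟩ h
        have h' : (x : G) * z = x' * z' := congrArg Subtype.val h
        obtain ⟨h1, h2⟩ := huniq x x.2 z z.2 x' x'.2 z' z'.2 h'
        exact Prod.ext (Subtype.ext h1) (Subtype.ext h2)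
      have hbij : Function.Bijective f := by
        rw [Nat.bijective_iff_injective_and_card]
        refine ⟨hinj, ?_⟩
        rw [Nat.card_prod, hc1, hc2, hAcard, sq]
      intro e he
      obtain ⟨⟨x, z⟩, hxz⟩ := hbij.2 ⟨e, he⟩
      exact ⟨x, x.2, z, z.2, (congrArg Subtype.val hxz).symm⟩
    by_cases hy : y1 * y2 = 1
    · -- `y2 = y1⁻¹`: same fixed points
      apply hne
      have hy2' : y2 = y1⁻¹ := (eq_inv_of_mul_eq_one_right hy)
      ext e
      rw [mem_fix, mem_fix, hy2']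
      constructor
      · rintro ⟨heA, hc⟩
        refine ⟨heA, ?_⟩
        have : Commute y1 e := hc
        exact this.inv_left.eq
      · rintro ⟨heA, hc⟩
        refine ⟨heA, ?_⟩
        have : Commute y1⁻¹ e := hc
        simpa using this.inv_left.eq
    · obtain ⟨e, heA, he1, hey⟩ := hfix (y1 * y2) (T.mul_mem hy1 hy2) hy
      obtain ⟨x, hx, z, hz, rfl⟩ := hdec e heA
      have hx1 : Commute y1 x := (mem_fix.mp hx).2
      have hz2 : Commute y2 z := (mem_fix.mp hz).2
      have hxA : x ∈ A := (mem_fix.mp hx).1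
      have hzA : z ∈ A := (mem_fix.mp hz).1
      -- the conjugates
      have ex : (y1 * y2) * x * (y1 * y2)⁻¹ = y2 * x * y2⁻¹ := conj_mul_of_commute h12 hx1
      have ez : (y1 * y2) * z * (y1 * y2)⁻¹ = y1 * z * y1⁻¹ := by
        rw [h12.eq]; exact conj_mul_of_commute h12.symm hz2
      have hx' : y2 * x * y2⁻¹ ∈ (A ⊓ Subgroup.centralizer {y1} : Subgroup G) := by
        refine mem_fix.mpr ⟨hnorm y2 hy2 x hxA, ?_⟩
        exact ((h12.mul_right hx1).mul_right h12.inv_right).eq
      have hz' : y1 * z * y1⁻¹ ∈ (A ⊓ Subgroup.centralizer {y2} : Subgroup G) := by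
        refine mem_fix.mpr ⟨hnorm y1 hy1 z hzA, ?_⟩
        exact ((h12.symm.mul_right hz2).mul_right h12.symm.inv_right).eq
      have hconj : (y1 * y2) * (x * z) * (y1 * y2)⁻¹ = x * z := by
        rw [hey, mul_inv_cancel_right]
      have hsplit : (y1 * y2) * (x * z) * (y1 * y2)⁻¹ =
          ((y1 * y2) * x * (y1 * y2)⁻¹) * ((y1 * y2) * z * (y1 * y2)⁻¹) := by group
      rw [hsplit, ex, ez] at hconj
      obtain ⟨h1, h2⟩ := huniq _ hx' _ hz' x hx z hz hconj
      -- so `x` is fixed by `y2` and `z` by `y1`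
      have hx2 : x ∈ (A ⊓ Subgroup.centralizer {y2} : Subgroup G) := by
        refine mem_fix.mpr ⟨hxA, ?_⟩
        rw [← mul_inv_eq_iff_eq_mul]; exact h1
      have hz1 : z ∈ (A ⊓ Subgroup.centralizer {y1} : Subgroup G) := by
        refine mem_fix.mpr ⟨hzA, ?_⟩
        rw [← mul_inv_eq_iff_eq_mul]; exact h2
      have hxb : x ∈ (A ⊓ Subgroup.centralizer {y1} : Subgroup G) ⊓
          (A ⊓ Subgroup.centralizer {y2}) := Subgroup.mem_inf.mpr ⟨hx, hx2⟩
      have hzb : z ∈ (A ⊓ Subgroup.centralizer {y1} : Subgroup G) ⊓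
          (A ⊓ Subgroup.centralizer {y2}) := Subgroup.mem_inf.mpr ⟨hz1, hz⟩
      rw [hinf, Subgroup.mem_bot] at hxb hzb
      apply he1
      rw [hxb, hzb, one_mul]
  -- (c) coprime generation
  have hTne : ∃ y0 ∈ T, y0 ≠ 1 := by
    by_contra hno
    push Not at hno
    have hbot : T = ⊥ := (Subgroup.eq_bot_iff_forall T).mpr hno
    have h1 : Nat.card T = 1 := by rw [hbot]; exact Subgroup.card_bot
    rw [hTcard] at h1
    have h2 : 1 < s ^ 2 := Nat.one_lt_pow (by norm_num) hs.one_lt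
    omega
  obtain ⟨y0, hy0, hy01⟩ := hTne
  have hTA : T ≤ Subgroup.normalizer (A : Set G) := by
    intro y hy
    rw [Subgroup.mem_normalizer_iff]
    intro e
    constructor
    · exact hnorm y hy e
    · intro h
      have := hnorm y⁻¹ (T.inv_mem hy) _ h
      simpa [mul_assoc] using this
  have hcop : (Nat.card T).Coprime (Nat.card A) := by
    rw [hTcard, hAcard]
    exact Nat.Coprime.pow _ _ ((Nat.coprime_primes hs hr).mpr (Ne.symm hrs))
  have hgen := Cfsg.Agent.S0058.result T A hTnc hTA hcop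
  have hle : A ≤ A ⊓ Subgroup.centralizer {y0} := by
    conv_lhs => rw [← hgen]
    refine iSup₂_le ?_
    rintro y ⟨hyT, hy1⟩
    exact (hsame y hyT hy1 y0 hy0 hy01).le
  have hcle := Subgroup.card_le_of_le hle
  rw [hcard y0 hy0 hy01, hAcard] at hcle
  have := hr.one_lt
  nlinarith

/-- `closure {a, b}` of a rank-2 pair is the `C_t × C_t` of helper24's `exists_subgroup`. -/
theorem closure_pair_eq [Finite G] {t : ℕ} (ht : t.Prime) {a b : G} (h : IsRank2Pair t a b) :
    ∃ E : Subgroup G, Subgroup.closure ({a, b} : Set G) = E ∧ Cfsg.IsElementaryAbelian t E ∧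
      Nat.card E = t ^ 2 ∧ ¬ IsCyclic E ∧ ∀ e ∈ E, ∃ i j : ℕ, e = b ^ i * a ^ j := by
  obtain ⟨ha, hb, hab, hnot⟩ := h
  obtain ⟨E, hEA, hcard, hnc, hbE, haE, hrep⟩ :=
    Cfsg.Agent.Lib.H24.S3814F2E.exists_subgroup ht b a hb ha (show Commute b a from hab.symm) hnot
  refine ⟨E, ?_, hEA, hcard, hnc, hrep⟩
  apply le_antisymm
  · rw [Subgroup.closure_le]
    rintro x (rfl | rfl)
    · exact haE
    · exact hbE
  · intro e he
    obtain ⟨i, j, rfl⟩ := hrep e he
    exact Subgroup.mul_mem _ (Subgroup.pow_mem _ (Subgroup.subset_closure (by simp)) i)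
      (Subgroup.pow_mem _ (Subgroup.subset_closure (by simp)) j)

/-- PIECE K3C of helper8's (MP) cut. -/
theorem k3c : K3cStmt.{u} := by
  intro G _ _ r s V W X h a b c d ctx hfix
  obtain ⟨A, hA, hAE, hAcard, -, hArep⟩ := closure_pair_eq h.hr ctx.pab
  obtain ⟨T, hT, hTE, hTcard, hTnc, hTrep⟩ := closure_pair_eq h.hs ctx.pcd
  have nca := ctx.nca
  have ncb := ctx.ncb
  have nda := ctx.nda
  have ndb := ctx.ndb
  rw [hA] at nca ncb nda ndb
  rw [hA, hT] at hfix
  rw [hA, hT]
  have : IsMulCommutative T := hTE.1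
  have hconjA : ∀ y : G, y * a * y⁻¹ ∈ A → y * b * y⁻¹ ∈ A → ∀ e ∈ A, y * e * y⁻¹ ∈ A := by
    intro y hya hyb e he
    obtain ⟨i, j, rfl⟩ := hArep e he
    have : y * (b ^ i * a ^ j) * y⁻¹ = (y * b * y⁻¹) ^ i * (y * a * y⁻¹) ^ j := by
      rw [conj_pow, conj_pow]; group
    rw [this]
    exact A.mul_mem (A.pow_mem hyb i) (A.pow_mem hya j)
  have hc := hconjA c nca ncb
  have hd := hconjA d nda ndb
  have hpow : ∀ (y : G), (∀ e ∈ A, y * e * y⁻¹ ∈ A) →
      ∀ n : ℕ, ∀ e ∈ A, y ^ n * e * (y ^ n)⁻¹ ∈ A := by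
    intro y hy n
    induction n with
    | zero => intro e he; simpa using he
    | succ n ih =>
      intro e he
      have : y ^ (n + 1) * e * (y ^ (n + 1))⁻¹ = y * (y ^ n * e * (y ^ n)⁻¹) * y⁻¹ := by
        rw [pow_succ']; group
      rw [this]
      exact hy _ (ih e he)
  have hnorm : ∀ y ∈ T, ∀ e ∈ A, y * e * y⁻¹ ∈ A := by
    intro y hy e he
    obtain ⟨i, j, rfl⟩ := hTrep y hy
    have : (d ^ i * c ^ j) * e * (d ^ i * c ^ j)⁻¹ =
        d ^ i * (c ^ j * e * (c ^ j)⁻¹) * (d ^ i)⁻¹ := by group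
    rw [this]
    exact hpow d hd i _ (hpow c hc j e he)
  exact not_faithful h.hr h.hs h.hrs A T hAcard hTcard hTnc hnorm hfix

example : K3cStmt.{0} := k3c

end Cfsg.Agent.Lib.H23.S3814MPK3c
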