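import Cfsg.Agent.Lib.H10.S4415BadDefs

/-!
# S4415 (B10): `D⁺ = Q × ⟨z⟩` is elementary abelian of order `8` in `R` (helper23)
-/

set_option autoImplicit false

namespace Cfsg.Agent.Lib.H23.S4415B10

open Cfsg Cfsg.Agent.Lib.H10.S4415

/-- Elements of `⟨x⟩` for an involution `x`. -/
theorem mem_zpowers_of_sq {G : Type*} [Group G] (x : G) (hx : x * x = 1) (a : G)
    (ha : a ∈ Subgroup.zpowers x) : a = 1 ∨ a = x := by
  obtain ⟨k, rfl⟩ := Subgroup.mem_zpowers_iff.mp ha
  rcases Int.even_or_odd k with ⟨m, rfl⟩ | ⟨m, rfl⟩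
  · left
    rw [← two_mul, zpow_mul, zpow_two, hx, one_zpow]
  · right
    rw [zpow_add, zpow_mul, zpow_two, hx, one_zpow, one_mul, zpow_one]

theorem comm_zpowers {G : Type*} [Group G] (x : G) (hx : x * x = 1) (a : G)
    (ha : a ∈ Subgroup.zpowers x) (c : G) (hc : c ∈ Subgroup.zpowers x) : a * c = c * a := by
  rcases mem_zpowers_of_sq x hx a ha with h | h <;>
  rcases mem_zpowers_of_sq x hx c hc with h' | h' <;> rw [h, h'] <;> simp

/-- Pure group part: three pairwise commuting involutions such that the seven nontrivial products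
are `≠ 1` generate an elementary abelian subgroup of order `8`. -/
theorem exists_E8 {G : Type*} [Group G] [Finite G] (R : Subgroup G) (x y z : G)
    (hxR : x ∈ R) (hyR : y ∈ R) (hzR : z ∈ R)
    (hx : x * x = 1) (hy : y * y = 1) (hz : z * z = 1)
    (hxy : x * y = y * x) (hxz : x * z = z * x) (hyz : y * z = z * y)
    (h1 : x ≠ 1) (h2 : y ≠ 1) (h3 : x * y ≠ 1) (h4 : z ≠ 1) (h5 : x * z ≠ 1) (h6 : y * z ≠ 1)
    (h7 : x * y * z ≠ 1) :
    ∃ A : Subgroup G, A ≤ R ∧ Cfsg.IsElementaryAbelian 2 A ∧ Nat.card ↥A = 8 := by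
  have cxy : ∀ (m : ↥(Subgroup.zpowers x)) (n : ↥(Subgroup.zpowers y)),
      Commute ((Subgroup.zpowers x).subtype m) ((Subgroup.zpowers y).subtype n) := by
    intro m n
    rcases mem_zpowers_of_sq x hx m.1 m.2 with hm | hm <;>
    rcases mem_zpowers_of_sq y hy n.1 n.2 with hn | hn <;>
    simp only [Subgroup.coe_subtype, hm, hn, Commute, SemiconjBy, mul_one, one_mul, hxy]
  let ψ₁ := MonoidHom.noncommCoprod (Subgroup.zpowers x).subtype (Subgroup.zpowers y).subtype cxy
  have hψ₁ : ∀ m, ψ₁ m = (m.1 : G) * (m.2 : G) := fun m => rfl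
  have cz : ∀ (m : ↥(Subgroup.zpowers x) × ↥(Subgroup.zpowers y)) (n : ↥(Subgroup.zpowers z)),
      Commute (ψ₁ m) ((Subgroup.zpowers z).subtype n) := by
    intro m n
    rw [hψ₁]
    rcases mem_zpowers_of_sq x hx m.1.1 m.1.2 with hm | hm <;>
    rcases mem_zpowers_of_sq y hy m.2.1 m.2.2 with hm' | hm' <;>
    rcases mem_zpowers_of_sq z hz n.1 n.2 with hn | hn <;>
    simp only [Subgroup.coe_subtype, hm, hm', hn, Commute, SemiconjBy, mul_one, one_mul, hxz, hyz]
    rw [mul_assoc, hyz, ← mul_assoc, hxz, mul_assoc]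
  let ψ := MonoidHom.noncommCoprod ψ₁ (Subgroup.zpowers z).subtype cz
  have hψ : ∀ m, ψ m = (m.1.1 : G) * (m.1.2 : G) * (m.2 : G) := fun m => rfl
  have hinj : Function.Injective ψ := by
    rw [injective_iff_map_eq_one]
    rintro ⟨⟨⟨a, ha⟩, ⟨c, hc⟩⟩, ⟨d, hd⟩⟩ h
    rw [hψ] at h
    simp only at h
    have e : a = 1 ∧ c = 1 ∧ d = 1 := by
      rcases mem_zpowers_of_sq x hx a ha with rfl | rfl <;>
      rcases mem_zpowers_of_sq y hy c hc with rfl | rfl <;>
      rcases mem_zpowers_of_sq z hz d hd with rfl | rfl <;>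
      (try simp only [mul_one, one_mul] at h) <;>
      first
        | exact ⟨rfl, rfl, rfl⟩
        | exact absurd h h1
        | exact absurd h h2
        | exact absurd h h3
        | exact absurd h h4
        | exact absurd h h5
        | exact absurd h h6
        | exact absurd h h7
    obtain ⟨rfl, rfl, rfl⟩ := e
    rfl
  refine ⟨ψ.range, ?_, ⟨?_, ?_⟩, ?_⟩
  · rintro _ ⟨m, rfl⟩
    rw [hψ]
    have hxR' : Subgroup.zpowers x ≤ R := by rw [Subgroup.zpowers_le]; exact hxR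
    have hyR' : Subgroup.zpowers y ≤ R := by rw [Subgroup.zpowers_le]; exact hyR
    have hzR' : Subgroup.zpowers z ≤ R := by rw [Subgroup.zpowers_le]; exact hzR
    exact R.mul_mem (R.mul_mem (hxR' m.1.1.2) (hyR' m.1.2.2)) (hzR' m.2.2)
  · -- commutative
    constructor
    constructor
    rintro ⟨_, ⟨m, rfl⟩⟩ ⟨_, ⟨n, rfl⟩⟩
    apply Subtype.ext
    show ψ m * ψ n = ψ n * ψ m
    rw [← map_mul, ← map_mul]
    congr 1
    ext
    · exact comm_zpowers x hx _ m.1.1.2 _ n.1.1.2
    · exact comm_zpowers y hy _ m.1.2.2 _ n.1.2.2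
    · exact comm_zpowers z hz _ m.2.2 _ n.2.2
  · rintro _ ⟨m, rfl⟩
    rw [← map_pow]
    have : m ^ 2 = 1 := by
      obtain ⟨⟨⟨a, ha⟩, ⟨c, hc⟩⟩, ⟨d, hd⟩⟩ := m
      ext
      · show a ^ 2 = 1
        rcases mem_zpowers_of_sq x hx a ha with rfl | rfl
        · exact one_pow 2
        · rw [pow_two]; exact hx
      · show c ^ 2 = 1
        rcases mem_zpowers_of_sq y hy c hc with rfl | rfl
        · exact one_pow 2
        · rw [pow_two]; exact hy
      · show d ^ 2 = 1
        rcases mem_zpowers_of_sq z hz d hd with rfl | rfl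
        · exact one_pow 2
        · rw [pow_two]; exact hz
    rw [this, map_one]
  · rw [← Nat.card_congr (MonoidHom.ofInjective hinj).toEquiv, Nat.card_prod, Nat.card_prod,
      Nat.card_zpowers, Nat.card_zpowers, Nat.card_zpowers,
      orderOf_eq_prime (by rw [pow_two]; exact hx) h1,
      orderOf_eq_prime (by rw [pow_two]; exact hy) h2,
      orderOf_eq_prime (by rw [pow_two]; exact hz) h4]

theorem b10 : B10Stmt := by
  intro S _ _ E _ _ _ ρ R b W x₁ x₂ x₃ e₁ e₂ e₃ z hL hQ hzR hzW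
  have hRB : R ≤ RB R b := le_sup_left
  -- `z² = 1` and `z` commutes with `R`, by faithfulness
  have hzz : z * z = 1 := by
    apply hL.faithful _ ((RB R b).mul_mem (hRB hzR) (hRB hzR))
    intro w hw
    rw [map_mul, Module.End.mul_apply, hzW w hw, map_neg, hzW w hw, neg_neg]
  have hzinv : z⁻¹ = z := inv_eq_of_mul_eq_one_right hzz
  have hcomm_z : ∀ x ∈ R, x * z = z * x := by
    intro x hx
    have hxiW : ∀ w ∈ W, ρ x⁻¹ w ∈ W := hL.W_inv x⁻¹ (hRB (R.inv_mem hx))
    have h1 : x * z * x⁻¹ * z⁻¹ = 1 := by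
      apply hL.faithful
      · exact (RB R b).mul_mem ((RB R b).mul_mem ((RB R b).mul_mem (hRB hx) (hRB hzR))
          (hRB (R.inv_mem hx))) (hRB (R.inv_mem hzR))
      · intro w hw
        rw [hzinv]
        simp only [map_mul, Module.End.mul_apply]
        rw [hzW w hw, map_neg, map_neg, hzW _ (hxiW w hw), neg_neg, ← Module.End.mul_apply,
          ← map_mul, mul_inv_cancel, map_one]
        rfl
    calc x * z = (x * z * x⁻¹ * z⁻¹) * (z * x) := by group
      _ = z * x := by rw [h1, one_mul]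
  -- nonvanishing
  have hneg : ∀ e : E, e ≠ 0 → -e ≠ e := by
    intro e he h
    apply he
    have h2 : e + e = 0 := by
      nth_rewrite 1 [← h]
      exact neg_add_cancel e
    have h3 : e + e + e = 0 := by
      have : (3 : ZMod 3) • e = e + e + e := by
        rw [show (3 : ZMod 3) = 1 + 1 + 1 by decide, add_smul, add_smul, one_smul]
      rw [← this, show (3 : ZMod 3) = 0 by decide, zero_smul]
    rw [h2, zero_add] at h3
    exact h3
  have he₁ : e₁ ≠ 0 := hQ.e₁ne
  have he₂ : e₂ ≠ 0 := by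
    intro h
    apply he₁
    have := hQ.be₃
    rw [← hQ.be₂, h, map_zero, map_zero] at this
    exact this.symm
  have he₃ : e₃ ≠ 0 := by
    intro h
    apply he₁
    have := hQ.be₃
    rw [h, map_zero] at this
    exact this.symm
  have hone : ∀ g : S, g = 1 → ∀ e : E, ρ g e = e := by
    intro g hg e
    rw [hg, map_one]; rfl
  apply exists_E8 R x₁ x₂ z hQ.x₁R hQ.x₂R hzR hQ.x₁sq hQ.x₂sq hzz
    (by rw [hQ.x₁x₂, hQ.x₂x₁]) (hcomm_z x₁ hQ.x₁R) (hcomm_z x₂ hQ.x₂R)
  · intro h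
    have := hone _ h e₂
    rw [hQ.x₁e₂] at this
    exact hneg e₂ he₂ this
  · intro h
    have := hone _ h e₁
    rw [hQ.x₂e₁] at this
    exact hneg e₁ he₁ this
  · intro h
    have := hone _ h e₁
    rw [hQ.x₁x₂, hQ.x₃e₁] at this
    exact hneg e₁ he₁ this
  · intro h
    have := hone _ h e₁
    rw [hzW e₁ hQ.e₁W] at this
    exact hneg e₁ he₁ this
  · intro h
    have := hone _ h e₁
    rw [map_mul, Module.End.mul_apply, hzW e₁ hQ.e₁W, map_neg, hQ.x₁e₁] at this
    exact hneg e₁ he₁ this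
  · intro h
    have := hone _ h e₂
    rw [map_mul, Module.End.mul_apply, hzW e₂ hQ.e₂W, map_neg, hQ.x₂e₂] at this
    exact hneg e₂ he₂ this
  · intro h
    have := hone _ h e₃
    rw [hQ.x₁x₂, map_mul, Module.End.mul_apply, hzW e₃ hQ.e₃W, map_neg, hQ.x₃e₃] at this
    exact hneg e₃ he₃ this

end Cfsg.Agent.Lib.H23.S4415B10
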