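import Cfsg.Agent.Lib.H10.S4415BadDefs

/-!
# S4415 (B4'): `|X| ≡ 2 (mod 3)` (helper23)

`b` of order dividing `3` acts on `X` by conjugation with exactly the two fixed points `1, z`.
-/

set_option autoImplicit false

namespace Cfsg.Agent.Lib.H23.S4415B4p

open Cfsg Cfsg.Agent.Lib.H10.S4415

theorem b4' : B4'Stmt := by
  intro S _ _ b z X hb3 hXn hzX hz1 hbz hfix
  classical
  have : Fintype ↥X := Fintype.ofFinite _
  have : Fact (Nat.Prime 3) := ⟨Nat.prime_three⟩
  -- conjugation by `b` on `X`
  let f : Function.End ↥X := fun g => ⟨b * g * b⁻¹, hXn g g.2⟩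
  have hbinv : b⁻¹ = b * b := by
    apply inv_eq_of_mul_eq_one_right
    rw [← mul_assoc]; exact hb3
  have hf3 : f ^ 3 ^ 1 = 1 := by
    rw [pow_one]
    funext g
    apply Subtype.ext
    show b * (b * (b * g * b⁻¹) * b⁻¹) * b⁻¹ = g
    have h1 : b * (b * (b * g * b⁻¹) * b⁻¹) * b⁻¹ = (b * b * b) * g * (b * b * b)⁻¹ := by group
    rw [h1, hb3, one_mul, inv_one, mul_one]
  have hmod := Equiv.Perm.card_fixedPoints_modEq (p := 3) (n := 1) hf3
  -- the fixed points are `1` and `z`
  have hfp : Function.fixedPoints f = {⟨1, X.one_mem⟩, ⟨z, hzX⟩} := by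
    ext g
    rw [Function.mem_fixedPoints, Function.IsFixedPt, Set.mem_insert_iff, Set.mem_singleton_iff]
    constructor
    · intro h
      have h1 : b * g * b⁻¹ = g := congrArg Subtype.val h
      have h2 : b * (g : S) = g * b := by
        calc b * (g : S) = (b * g * b⁻¹) * b := by group
          _ = g * b := by rw [h1]
      rcases hfix g g.2 h2 with h3 | h3
      · left; exact Subtype.ext h3
      · right; exact Subtype.ext h3
    · rintro (rfl | rfl)
      · apply Subtype.ext
        show b * 1 * b⁻¹ = 1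
        group
      · apply Subtype.ext
        show b * z * b⁻¹ = z
        rw [hbz]; group
  have hne : (⟨1, X.one_mem⟩ : ↥X) ≠ ⟨z, hzX⟩ := by
    intro h
    exact hz1 (congrArg Subtype.val h).symm
  have hcard : Fintype.card ↥(Function.fixedPoints f) = 2 := by
    rw [← Nat.card_eq_fintype_card, Nat.card_coe_set_eq, hfp, Set.ncard_pair hne]
  rw [hcard, ← Nat.card_eq_fintype_card] at hmod
  exact hmod

end Cfsg.Agent.Lib.H23.S4415B4p
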