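import Mathlib
import Cfsg.Prelude

/-!
# S4415 (B5): elements of an extraspecial-type group are linearly independent modulo the centre
(helper23)

`X` a group, `z ∈ X` central with `z² = 1`, `ρ : X →* End_K(W)` with `ρ z = -1`, `2 ≠ 0` in `K`,
`W ≠ 0`, such that every conjugate of `x` is `x` or `z x`, and every `x ∉ {1, z}` is conjugate to
`z x`.  Then any finite set of elements of `X`, pairwise distinct modulo `⟨z⟩`, has linearly
independent image in `End_K(W)` (`coeff_eq_zero`, `linearIndependent`); hence its cardinality is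
at most `(dim W)²` (`card_le`).
-/

set_option autoImplicit false

namespace Cfsg.Agent.Lib.H23.S4415B5

open Module

variable {K : Type*} [Field K] {W : Type*} [AddCommGroup W] [Module K W] [Nontrivial W]
variable {X : Type*} [Group X]

omit [Nontrivial W] in
theorem rho_conj (ρ : X →* Module.End K W) (x y : X) :
    ρ (y * x * y⁻¹) * ρ y = ρ y * ρ x := by
  rw [← map_mul, ← map_mul]
  congr 1
  group

/-- `c • ρ x = 0` forces `c = 0`. -/
theorem smul_rho_eq_zero (ρ : X →* Module.End K W) (x : X) (c : K) (hc : c • ρ x = 0) : c = 0 := by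
  have h1 : (c • ρ x) * ρ x⁻¹ = 0 := by rw [hc, zero_mul]
  rw [smul_mul_assoc, ← map_mul, mul_inv_cancel, map_one] at h1
  by_contra hc0
  have h3 : (1 : Module.End K W) = 0 := by
    have h4 := congrArg (fun f => c⁻¹ • f) h1
    simp only [smul_smul, inv_mul_cancel₀ hc0, one_smul, smul_zero] at h4
    exact h4
  obtain ⟨w, hw⟩ := exists_ne (0 : W)
  apply hw
  have := congrArg (fun f : Module.End K W => f w) h3
  simpa using this

/-- The relation-shortening step, by induction on the size of the support. -/
theorem coeff_eq_zero (h2 : (2 : K) ≠ 0) (ρ : X →* Module.End K W) (z : X)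
    (hz : ρ z = -1) (hz2 : z * z = 1)
    (hab : ∀ x y : X, y * x * y⁻¹ = x ∨ y * x * y⁻¹ = z * x)
    (hX : ∀ x : X, x ≠ 1 → x ≠ z → ∃ y : X, y * x * y⁻¹ = z * x)
    (hzc : ∀ x : X, z * x = x * z) :
    ∀ (k : ℕ) (s : Finset X), s.card = k → (∀ x ∈ s, ∀ y ∈ s, x ≠ y → x ≠ z * y) →
      ∀ a : X → K, ∑ x ∈ s, a x • ρ x = 0 → ∀ x ∈ s, a x = 0 := by
  classical
  have hz1 : z ≠ 1 := by
    intro h
    rw [h, map_one] at hz
    -- 1 = -1 in End, so 2 • 1 = 0
    have h3 : (2 : K) • (1 : Module.End K W) = 0 := by
      rw [two_smul]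
      nth_rewrite 1 [hz]
      exact neg_add_cancel 1
    have := smul_rho_eq_zero ρ 1 2 (by rw [map_one]; exact h3)
    exact h2 this
  intro k
  induction k with
  | zero =>
    intro s hs _ a _ x hx
    rw [Finset.card_eq_zero] at hs
    rw [hs] at hx
    exact absurd hx (Finset.notMem_empty x)
  | succ k ih =>
    intro s hs hdist a hrel x0 hx0
    by_contra ha0
    -- every other coefficient vanishes
    have hother : ∀ x1 ∈ s, x1 ≠ x0 → a x1 = 0 := by
      intro x1 hx1 hne
      have ht1 : x0⁻¹ * x1 ≠ 1 := by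
        intro h
        apply hne
        have := congrArg (fun u => x0 * u) h
        simpa using this
      have htz : x0⁻¹ * x1 ≠ z := by
        intro h
        apply hdist x1 hx1 x0 hx0 hne
        have := congrArg (fun u => x0 * u) h
        simp only [mul_inv_cancel_left] at this
        rw [this, hzc]
      obtain ⟨y, hy⟩ := hX _ ht1 htz
      -- the sign function
      obtain ⟨ε, hε⟩ : ∃ ε : X → K, ∀ x, ε x = if y * x * y⁻¹ = x then 1 else -1 :=
        ⟨fun x => if y * x * y⁻¹ = x then 1 else -1, fun _ => rfl⟩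
      have hρε : ∀ x, ρ (y * x * y⁻¹) = ε x • ρ x := by
        intro x
        rw [hε]
        by_cases h : y * x * y⁻¹ = x
        · rw [if_pos h, h, one_smul]
        · rw [if_neg h]
          rcases hab x y with h' | h'
          · exact absurd h' h
          · rw [h', map_mul, hz, neg_one_mul, neg_smul, one_smul]
      -- conjugated relation
      have hrel2 : ∑ x ∈ s, (a x * ε x) • ρ x = 0 := by
        have h1 : ρ y * (∑ x ∈ s, a x • ρ x) * ρ y⁻¹ = 0 := by rw [hrel, mul_zero, zero_mul]
        rw [Finset.mul_sum, Finset.sum_mul] at h1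
        rw [← h1]
        refine Finset.sum_congr rfl (fun x _ => ?_)
        rw [mul_smul_comm, smul_mul_assoc, ← map_mul, ← map_mul, hρε, smul_smul]
      -- signs at x0 and x1 are opposite
      have hsign : ε x1 = - ε x0 := by
        have hx1eq : x1 = x0 * (x0⁻¹ * x1) := by group
        have hconj : y * x1 * y⁻¹ = (y * x0 * y⁻¹) * (z * (x0⁻¹ * x1)) := by
          rw [← hy]; group
        rw [hε x1, hε x0]
        by_cases h : y * x0 * y⁻¹ = x0
        · rw [if_pos h]
          have : y * x1 * y⁻¹ ≠ x1 := by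
            rw [hconj, h]
            intro h'
            apply hz1
            have h'' : x0 * (z * (x0⁻¹ * x1)) = z * x1 := by
              rw [← mul_assoc, ← hzc x0, mul_assoc]
              congr 1; group
            rw [h''] at h'
            have := congrArg (fun u => u * x1⁻¹) h'
            simpa using this
          rw [if_neg this]
        · rw [if_neg h]
          have h0 : y * x0 * y⁻¹ = z * x0 := by
            rcases hab x0 y with h' | h'
            · exact absurd h' h
            · exact h'
          have : y * x1 * y⁻¹ = x1 := by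
            rw [hconj, h0]
            calc z * x0 * (z * (x0⁻¹ * x1)) = z * (x0 * z) * (x0⁻¹ * x1) := by group
              _ = z * (z * x0) * (x0⁻¹ * x1) := by rw [hzc x0]
              _ = (z * z) * x1 := by group
              _ = x1 := by rw [hz2, one_mul]
          rw [if_pos this, neg_neg]
      have hε0 : ε x0 ≠ 0 := by
        rw [hε]
        split_ifs
        · exact one_ne_zero
        · exact neg_ne_zero.mpr one_ne_zero
      -- the difference relation on s.erase x0
      have hrel3 : ∑ x ∈ s.erase x0, (a x * (ε x0 - ε x)) • ρ x = 0 := by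
        have h1 : ∑ x ∈ s, (a x * (ε x0 - ε x)) • ρ x = 0 := by
          have : ∀ x ∈ s, (a x * (ε x0 - ε x)) • ρ x =
              ε x0 • (a x • ρ x) - (a x * ε x) • ρ x := by
            intro x _
            rw [mul_sub, sub_smul, smul_smul, mul_comm (ε x0)]
          rw [Finset.sum_congr rfl this, Finset.sum_sub_distrib, ← Finset.smul_sum, hrel, hrel2,
            smul_zero, sub_zero]
        rw [← Finset.add_sum_erase s _ hx0] at h1
        rwa [sub_self, mul_zero, zero_smul, zero_add] at h1
      have hcard : (s.erase x0).card = k := by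
        rw [Finset.card_erase_of_mem hx0, hs]; rfl
      have hdist' : ∀ x ∈ s.erase x0, ∀ y ∈ s.erase x0, x ≠ y → x ≠ z * y := by
        intro x hx y hy hxy
        exact hdist x (Finset.mem_of_mem_erase hx) y (Finset.mem_of_mem_erase hy) hxy
      have h5 := ih (s.erase x0) hcard hdist' _ hrel3 x1 (Finset.mem_erase.mpr ⟨hne, hx1⟩)
      rw [hsign, sub_neg_eq_add] at h5
      rcases mul_eq_zero.mp h5 with h6 | h6
      · exact h6
      · exfalso
        have : (2 : K) * ε x0 = 0 := by rw [two_mul]; exact h6
        rcases mul_eq_zero.mp this with h7 | h7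
        · exact h2 h7
        · exact hε0 h7
    -- so the relation is `a x0 • ρ x0 = 0`
    have h6 : ∑ x ∈ s, a x • ρ x = a x0 • ρ x0 := by
      apply Finset.sum_eq_single_of_mem x0 hx0
      intro x hx hne
      rw [hother x hx hne, zero_smul]
    rw [h6] at hrel
    exact ha0 (smul_rho_eq_zero ρ x0 _ hrel)

/-- Linear independence of the images. -/
theorem linearIndependent (h2 : (2 : K) ≠ 0) (ρ : X →* Module.End K W) (z : X)
    (hz : ρ z = -1) (hz2 : z * z = 1)
    (hab : ∀ x y : X, y * x * y⁻¹ = x ∨ y * x * y⁻¹ = z * x)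
    (hX : ∀ x : X, x ≠ 1 → x ≠ z → ∃ y : X, y * x * y⁻¹ = z * x)
    (hzc : ∀ x : X, z * x = x * z) (s : Finset X)
    (hdist : ∀ x ∈ s, ∀ y ∈ s, x ≠ y → x ≠ z * y) :
    LinearIndependent K (fun x : s => ρ (x : X)) := by
  classical
  rw [Fintype.linearIndependent_iff]
  intro g hg i
  have h1 : ∑ x ∈ s, (if h : x ∈ s then g ⟨x, h⟩ else 0) • ρ x = 0 := by
    rw [← hg, ← Finset.sum_coe_sort s]
    refine Finset.sum_congr rfl (fun x _ => ?_)
    rw [dif_pos x.2]
  have := coeff_eq_zero h2 ρ z hz hz2 hab hX hzc s.card s rfl hdist _ h1 i.1 i.2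
  rwa [dif_pos i.2] at this

/-- The cardinality bound `|s| ≤ (dim W)²`. -/
theorem card_le [FiniteDimensional K W] (h2 : (2 : K) ≠ 0) (ρ : X →* Module.End K W) (z : X)
    (hz : ρ z = -1) (hz2 : z * z = 1)
    (hab : ∀ x y : X, y * x * y⁻¹ = x ∨ y * x * y⁻¹ = z * x)
    (hX : ∀ x : X, x ≠ 1 → x ≠ z → ∃ y : X, y * x * y⁻¹ = z * x)
    (hzc : ∀ x : X, z * x = x * z) (s : Finset X)
    (hdist : ∀ x ∈ s, ∀ y ∈ s, x ≠ y → x ≠ z * y) :
    s.card ≤ finrank K W * finrank K W := by
  have h := (linearIndependent h2 ρ z hz hz2 hab hX hzc s hdist).fintype_card_le_finrank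
  rw [Fintype.card_coe] at h
  have h3 : finrank K (Module.End K W) = finrank K W * finrank K W :=
    Module.finrank_linearMap K K W W
  rwa [h3] at h

end Cfsg.Agent.Lib.H23.S4415B5
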