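import Cfsg.Agent.Lib.H6.S4415G5P
import Cfsg.Agent.Lib.H16.S4415G5e
import Cfsg.Agent.Lib.H20.S4415G5D

/-!
helper23: S4415 GOOD block, `n = 4`: the conjugates of the nonscalar diagonal element give the
weak `hdiag` input and the element `z = -1` of `R`; with helper16's `xs_four`, helper6's
permutation part and helper20's endgame this closes `FourStmt`.
-/

set_option autoImplicit false

namespace Cfsg.Agent.Lib.H23.S4415G5Z

open Cfsg.Agent.Lib.H10.S4415 Cfsg.Agent.Lib.H24.S4415G Cfsg.Agent.Lib.H16.S4415G5e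

universe u v

variable {S : Type u} {E : Type v} [Group S] [AddCommGroup E] [Module (ZMod 3) E]
variable {ρ : Representation (ZMod 3) S E} {R : Subgroup S} {b : S}
  {W : Submodule (ZMod 3) E}

section general

variable {n : ℕ} {f : Fin n → E} {φ : ↥(RB R b) → Equiv.Perm (Fin n)}

/-- `φ` of a conjugate of a diagonal element is trivial. -/
theorem phi_conj (hM : MonoFrame ρ R b W f φ) (g a : ↥(RB R b)) (ha : φ a = 1) :
    φ (g * a * g⁻¹) = 1 := by
  rw [phi_mul hM, phi_mul hM, ha, mul_one, ← phi_mul hM, mul_inv_cancel, phi_one hM]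

/-- The signs of a conjugate of a diagonal element are the permuted signs. -/
theorem conj_apply (hM : MonoFrame ρ R b W f φ) (g a : ↥(RB R b)) (i : Fin n) (c : ZMod 3)
    (hc : ρ (a : S) (f i) = c • f i) :
    ρ ((g * a * g⁻¹ : ↥(RB R b)) : S) (f (φ g i)) = c • f (φ g i) := by
  have h1 := sgn_spec hM g i
  have h2 : f (φ g i) = sgn ρ f φ g i • ρ (g : S) (f i) := by
    rw [h1, smul_smul, sgn_sq, one_smul]
  have h3 : ρ ((g * a * g⁻¹ : ↥(RB R b)) : S) (ρ (g : S) (f i)) = ρ (g : S) (ρ (a : S) (f i)) := by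
    rw [← Module.End.mul_apply, ← Module.End.mul_apply, ← map_mul, ← map_mul]
    congr 2
    rw [Subgroup.coe_mul, Subgroup.coe_mul, Subgroup.coe_inv]
    group
  calc ρ ((g * a * g⁻¹ : ↥(RB R b)) : S) (f (φ g i))
      = ρ ((g * a * g⁻¹ : ↥(RB R b)) : S) (sgn ρ f φ g i • ρ (g : S) (f i)) := by rw [← h2]
    _ = sgn ρ f φ g i • ρ (g : S) (ρ (a : S) (f i)) := by rw [map_smul, h3]
    _ = sgn ρ f φ g i • (c • ρ (g : S) (f i)) := by rw [hc, map_smul]
    _ = c • (sgn ρ f φ g i • ρ (g : S) (f i)) := by rw [smul_comm]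
    _ = c • f (φ g i) := by rw [← h2]

/-- Conjugates of elements of `R` by `R<b>` stay in `R`. -/
theorem conj_mem [Finite S] (hL : LinCtx ρ R b W) (g a : ↥(RB R b)) (ha : (a : S) ∈ R) :
    ((g * a * g⁻¹ : ↥(RB R b)) : S) ∈ R := by
  rw [Subgroup.coe_mul, Subgroup.coe_mul, Subgroup.coe_inv]
  exact normBy_R hL.b_norm (g : S) g.2 (a : S) ha

end general

/-- Four pairwise distinct elements exhaust `Fin 4`. -/
theorem fin4_cases : ∀ i j k l : Fin 4, i ≠ j → i ≠ k → i ≠ l → j ≠ k → j ≠ l → k ≠ l →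
    ∀ x : Fin 4, x = i ∨ x = j ∨ x = k ∨ x = l := by
  decide

/-- A non-constant sign vector of product `1` on four points has exactly two minus signs. -/
theorem sign_arr : ∀ s : Fin 4 → ZMod 3, (∀ x, s x * s x = 1) →
    s 0 * s 1 * s 2 * s 3 = 1 → (∃ x, s x = 1) → (∃ x, s x = -1) →
    ∃ σ : Equiv.Perm (Fin 4), s (σ 0) = -1 ∧ s (σ 1) = -1 ∧ s (σ 2) = 1 ∧ s (σ 3) = 1 := by
  decide +kernel

section four

variable {f : Fin 4 → E} {φ : ↥(RB R b) → Equiv.Perm (Fin 4)}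

/-- The weak `hdiag` input of helper16's `xs_four`: conjugates of the nonscalar element. -/
theorem weak_diag [Finite S] (hL : LinCtx ρ R b W) (hM : MonoFrame ρ R b W f φ) :
    ∀ i j : Fin 4, i ≠ j → ∃ a : ↥(RB R b), (a : S) ∈ R ∧ φ a = 1 ∧
      ρ (a : S) (f i) = -f i ∧ ρ (a : S) (f j) = f j := by
  intro i j hij
  obtain ⟨a₀, ha₀R, hφa₀, i₀, j₀, hi₀, hj₀⟩ := hM.nonscalar
  have hne : j₀ ≠ i₀ := by
    rintro rfl
    rw [hi₀] at hj₀
    exact f_ne_zero hM j₀ (eq_zero_of_eq_neg hj₀)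
  obtain ⟨g, hg1, hg2⟩ := Cfsg.Agent.Lib.H6.S4415G5P.frame_two_transitive hL hM j₀ i₀ i j hne hij
  refine ⟨g * a₀ * g⁻¹, conj_mem hL g a₀ ha₀R, phi_conj hM g a₀ hφa₀, ?_, ?_⟩
  · have h := conj_apply hM g a₀ j₀ (-1) (by rw [hj₀, neg_smul, one_smul])
    rw [hg1, neg_smul, one_smul] at h
    exact h
  · have h := conj_apply hM g a₀ i₀ 1 (by rw [hi₀, one_smul])
    rw [hg2, one_smul] at h
    exact h

/-- The element `z = -1` of `R`. -/
theorem exists_neg [Finite S] (hL : LinCtx ρ R b W) (hM : MonoFrame ρ R b W f φ) :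
    ∃ z ∈ R, IsNeg ρ W z := by
  obtain ⟨a₀, ha₀R, hφa₀, i₀, j₀, hi₀, hj₀⟩ := hM.nonscalar
  -- the sign vector of `a₀`
  have hspec : ∀ x, ρ (a₀ : S) (f x) = sgn ρ f φ a₀ x • f x := by
    intro x
    have h := sgn_spec hM a₀ x
    rw [hφa₀, Equiv.Perm.one_apply] at h
    exact h
  have hsq : ∀ x, sgn ρ f φ a₀ x * sgn ρ f φ a₀ x = 1 := fun x => sgn_sq a₀ x
  have hprod : sgn ρ f φ a₀ 0 * sgn ρ f φ a₀ 1 * sgn ρ f φ a₀ 2 * sgn ρ f φ a₀ 3 = 1 := by
    have h := prodSgn_R hL hM a₀ ha₀R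
    unfold prodSgn at h
    rw [Fin.prod_univ_four] at h
    exact h
  have hone : sgn ρ f φ a₀ i₀ = 1 := by
    have h := hspec i₀
    rw [hi₀] at h
    have h' : (1 : ZMod 3) • f i₀ = sgn ρ f φ a₀ i₀ • f i₀ := by rw [one_smul]; exact h
    exact (smul_f_cancel hM h').symm
  have hneg : sgn ρ f φ a₀ j₀ = -1 := by
    have h := hspec j₀
    rw [hj₀] at h
    have h' : (-1 : ZMod 3) • f j₀ = sgn ρ f φ a₀ j₀ • f j₀ := by
      rw [neg_smul, one_smul]; exact h
    exact (smul_f_cancel hM h').symm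
  obtain ⟨σ, hi, hj, hk, hl⟩ := sign_arr (sgn ρ f φ a₀) hsq hprod ⟨i₀, hone⟩ ⟨j₀, hneg⟩
  obtain ⟨i, hiσ⟩ : ∃ i, i = σ 0 := ⟨_, rfl⟩
  obtain ⟨j, hjσ⟩ : ∃ j, j = σ 1 := ⟨_, rfl⟩
  obtain ⟨k, hkσ⟩ : ∃ k, k = σ 2 := ⟨_, rfl⟩
  obtain ⟨l, hlσ⟩ : ∃ l, l = σ 3 := ⟨_, rfl⟩
  rw [← hiσ] at hi
  rw [← hjσ] at hj
  rw [← hkσ] at hk
  rw [← hlσ] at hl
  have hij : i ≠ j := by rw [hiσ, hjσ]; exact σ.injective.ne (by decide)
  have hik : i ≠ k := by rw [hiσ, hkσ]; exact σ.injective.ne (by decide)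
  have hil : i ≠ l := by rw [hiσ, hlσ]; exact σ.injective.ne (by decide)
  have hjk : j ≠ k := by rw [hjσ, hkσ]; exact σ.injective.ne (by decide)
  have hjl : j ≠ l := by rw [hjσ, hlσ]; exact σ.injective.ne (by decide)
  have hkl : k ≠ l := by rw [hkσ, hlσ]; exact σ.injective.ne (by decide)
  clear hiσ hjσ hkσ hlσ
  obtain ⟨g, hg1, hg2⟩ := Cfsg.Agent.Lib.H6.S4415G5P.frame_two_transitive hL hM i j k l hij hkl
  -- the element `z`
  have hcR : ((g * a₀ * g⁻¹ : ↥(RB R b)) : S) ∈ R := conj_mem hL g a₀ ha₀R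
  refine ⟨(a₀ : S) * ((g * a₀ * g⁻¹ : ↥(RB R b)) : S), R.mul_mem ha₀R hcR, ?_⟩
  -- `z` negates every frame vector
  have hfr : ∀ x : Fin 4, ρ ((a₀ : S) * ((g * a₀ * g⁻¹ : ↥(RB R b)) : S)) (f (φ g x))
      = -f (φ g x) := by
    intro x
    have h1 := conj_apply hM g a₀ x _ (hspec x)
    rw [map_mul, Module.End.mul_apply, h1, map_smul, hspec (φ g x), smul_smul]
    have key : sgn ρ f φ a₀ x * sgn ρ f φ a₀ (φ g x) = -1 := by
      have hinj := (φ g).injective
      rcases fin4_cases i j k l hij hik hil hjk hjl hkl x with rfl | rfl | rfl | rfl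
      · rw [hg1, hi, hk]; decide
      · rw [hg2, hj, hl]; decide
      · -- `φ g x ∈ {i, j}`
        have hy1 : φ g x ≠ x := by
          intro h
          have h' : φ g x = φ g i := by rw [hg1]; exact h
          exact hik (hinj h').symm
        have hy2 : φ g x ≠ l := by
          intro h; rw [← hg2] at h; exact hjk (hinj h).symm
        rcases fin4_cases i j x l hij hik hil hjk hjl hkl (φ g x) with h | h | h | h
        · rw [h, hk, hi]; decide
        · rw [h, hk, hj]; decide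
        · exact absurd h hy1
        · exact absurd h hy2
      · have hy1 : φ g x ≠ k := by
          intro h; rw [← hg1] at h; exact hil (hinj h).symm
        have hy2 : φ g x ≠ x := by
          intro h
          have h' : φ g x = φ g j := by rw [hg2]; exact h
          exact hjl (hinj h').symm
        rcases fin4_cases i j k x hij hik hil hjk hjl hkl (φ g x) with h | h | h | h
        · rw [h, hl, hi]; decide
        · rw [h, hl, hj]; decide
        · exact absurd h hy1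
        · exact absurd h hy2
    rw [key, neg_smul, one_smul]
  intro w hw
  have hEq : Set.EqOn (ρ ((a₀ : S) * ((g * a₀ * g⁻¹ : ↥(RB R b)) : S)))
      (-LinearMap.id : E →ₗ[ZMod 3] E) (Set.range f) := by
    rintro _ ⟨y, rfl⟩
    obtain ⟨x, rfl⟩ := (φ g).surjective y
    rw [hfr x]
    simp
  have := LinearMap.eqOn_span hEq (hM.span w hw)
  rw [this]
  simp

end four

/-- `FourStmt` (G5): four lines give the extraspecial group of order `32`. -/
theorem four : FourStmt.{u, v} := by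
  intro S _ _ E _ _ _ ρ R b W x₁ x₂ x₃ e₁ e₂ e₃ f φ hL hQ hM
  obtain ⟨z, hzR, hz⟩ := exists_neg hL hM
  have hXS : XS z R := xs_four hL hM
    (fun r hr => Cfsg.Agent.Lib.H6.S4415G5P.frame_V4 hL hM r hr)
    (weak_diag hL hM)
    (fun i j => Cfsg.Agent.Lib.H6.S4415G5P.frame_R_transitive hL hM i j)
    z hzR hz
  exact Cfsg.Agent.Lib.H20.S4415G5D.four_of_frame_xs hL hQ hM z hz hXS

end Cfsg.Agent.Lib.H23.S4415G5Z
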