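import Mathlib
import Cfsg.Prelude

/-!
# Linear algebra for S4415 (helper23): the rank lemma P1 and the 3-cycle lemma

`K` a field, `V` a `K`-vector space, `N : Module.End K V`.

* `p1`: if `N ^ 3 = 0`, `rank N = 2`, `rank N² = 1` and `V = A ⊕ A'` with `A`, `A'` `N`-invariant,
  then `N` vanishes on `A` or on `A'` (only `A ⊓ A' = ⊥` is used).
* `sq_sub_one_char_three`: in characteristic 3, `(β - 1)² = β² + β + 1`.
* `three_cycle_inj`: in characteristic 3, if `U ⊓ (β U ⊔ β² U) = ⊥` then `(β - 1)²` is injective on `U`;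
  `three_cycle_finrank_le`: hence `dim U ≤ rank (β - 1)²`.
-/

set_option autoImplicit false

namespace Cfsg.Agent.Lib.H23.S4415LA

open Module

variable {K : Type*} [Field K] {V : Type*} [AddCommGroup V] [Module K V]

/-- **P1**: a nilpotent `N` with `N³ = 0`, `rank N = 2`, `rank N² = 1` vanishes on one summand of any
`N`-invariant decomposition `V = A ⊕ A'`. -/
theorem p1 (N : Module.End K V) (hN3 : N ^ 3 = 0)
    (h1 : finrank K (LinearMap.range N) = 2) (h2 : finrank K (LinearMap.range (N ^ 2)) = 1)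
    (A A' : Submodule K V) (hA : ∀ a ∈ A, N a ∈ A) (hA' : ∀ a ∈ A', N a ∈ A')
    (hd : A ⊓ A' = ⊥) :
    (∀ a ∈ A, N a = 0) ∨ (∀ a ∈ A', N a = 0) := by
  by_contra hcon
  rw [not_or] at hcon
  obtain ⟨hc1, hc2⟩ := hcon
  push Not at hc1 hc2
  obtain ⟨a, haA, hNa⟩ := hc1
  obtain ⟨a', haA', hNa'⟩ := hc2
  -- `N a`, `N a'` are independent
  have hdisj : ∀ x ∈ A, ∀ y ∈ A', x + y = 0 → x = 0 ∧ y = 0 := by
    intro x hx y hy hxy
    have hx' : x ∈ A' := by
      have : x = -y := eq_neg_of_add_eq_zero_left hxy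
      rw [this]; exact A'.neg_mem hy
    have hx0 : x = 0 := by
      have : x ∈ A ⊓ A' := ⟨hx, hx'⟩
      rw [hd] at this
      exact (Submodule.mem_bot K).mp this
    refine ⟨hx0, ?_⟩
    rw [hx0, zero_add] at hxy
    exact hxy
  have hli : LinearIndependent K ![N a, N a'] := by
    rw [LinearIndependent.pair_iff]
    intro s t hst
    have h := hdisj (s • N a) (A.smul_mem s (hA a haA)) (t • N a') (A'.smul_mem t (hA' a' haA')) hst
    constructor
    · rcases smul_eq_zero.mp h.1 with h0 | h0
      · exact h0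
      · exact absurd h0 hNa
    · rcases smul_eq_zero.mp h.2 with h0 | h0
      · exact h0
      · exact absurd h0 hNa'
  -- range N = span {N a, N a'}
  have hfin : FiniteDimensional K (LinearMap.range N) := by
    apply FiniteDimensional.of_finrank_pos
    rw [h1]; norm_num
  have hspan_le : Submodule.span K (Set.range ![N a, N a']) ≤ LinearMap.range N := by
    rw [Submodule.span_le]
    rintro _ ⟨i, rfl⟩
    fin_cases i
    · exact ⟨a, rfl⟩
    · exact ⟨a', rfl⟩
  have hspan_rank : finrank K (Submodule.span K (Set.range ![N a, N a'])) = 2 := by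
    rw [finrank_span_eq_card hli]; simp
  have hspan : Submodule.span K (Set.range ![N a, N a']) = LinearMap.range N := by
    apply Submodule.eq_of_le_of_finrank_eq hspan_le
    rw [hspan_rank, h1]
  -- N (N a) = 0
  have hdecomp : ∀ v, ∃ s t : K, N v = s • N a + t • N a' := by
    intro v
    have : N v ∈ Submodule.span K (Set.range ![N a, N a']) := by
      rw [hspan]; exact ⟨v, rfl⟩
    rw [Submodule.mem_span_range_iff_exists_fun] at this
    obtain ⟨c, hc⟩ := this
    refine ⟨c 0, c 1, ?_⟩
    rw [← hc, Fin.sum_univ_two]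
    simp
  have hNNa : N (N a) = 0 := by
    obtain ⟨s, t, hst⟩ := hdecomp (N a)
    -- N (N a) ∈ A so t • N a' = 0
    have h3 : (N (N a) - s • N a) + (-(t • N a')) = 0 := by rw [hst]; abel
    have h4 := hdisj _ (A.sub_mem (hA _ (hA a haA)) (A.smul_mem s (hA a haA))) _
      (A'.neg_mem (A'.smul_mem t (hA' a' haA'))) h3
    have h5 : N (N a) = s • N a := sub_eq_zero.mp h4.1
    -- N³ a = 0 gives s² • N a = 0
    have h6 : N (N (N a)) = 0 := by
      have := congrArg (fun f : Module.End K V => f a) hN3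
      simpa [pow_succ, Module.End.mul_apply] using this
    rw [h5, map_smul, h5, smul_smul] at h6
    rcases smul_eq_zero.mp h6 with h0 | h0
    · have : s = 0 := by simpa using h0
      rw [h5, this, zero_smul]
    · exact absurd h0 hNa
  have hNNa' : N (N a') = 0 := by
    obtain ⟨s, t, hst⟩ := hdecomp (N a')
    have h3 : (s • N a) + (t • N a' - N (N a')) = 0 := by rw [hst]; abel
    have h4 := hdisj _ (A.smul_mem s (hA a haA)) _
      (A'.sub_mem (A'.smul_mem t (hA' a' haA')) (hA' _ (hA' a' haA'))) h3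
    have h5 : N (N a') = t • N a' := (sub_eq_zero.mp h4.2).symm
    have h6 : N (N (N a')) = 0 := by
      have := congrArg (fun f : Module.End K V => f a') hN3
      simpa [pow_succ, Module.End.mul_apply] using this
    rw [h5, map_smul, h5, smul_smul] at h6
    rcases smul_eq_zero.mp h6 with h0 | h0
    · have : t = 0 := by simpa using h0
      rw [h5, this, zero_smul]
    · exact absurd h0 hNa'
  -- so N² = 0
  have hN2 : N ^ 2 = 0 := by
    apply LinearMap.ext
    intro v
    obtain ⟨s, t, hst⟩ := hdecomp v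
    rw [pow_two, Module.End.mul_apply, hst, map_add, map_smul, map_smul, hNNa, hNNa']
    simp
  rw [hN2, LinearMap.range_zero, finrank_bot] at h2
  exact absurd h2 (by norm_num)

/-- In characteristic 3, `(β - 1)² = β² + β + 1`. -/
theorem sq_sub_one_char_three [CharP K 3] (β : Module.End K V) :
    (β - 1) ^ 2 = β ^ 2 + β + 1 := by
  have h3 : (3 : K) = 0 := by
    have := CharP.cast_eq_zero K 3
    exact_mod_cast this
  have h : (β - 1) ^ 2 = β ^ 2 + β + 1 - (3 : K) • β := by
    have e : (3 : K) • β = β + β + β := by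
      rw [show (3 : K) = 1 + 1 + 1 by norm_num, add_smul, add_smul, one_smul]
    rw [e, pow_two, pow_two, sub_mul, mul_sub, mul_sub, mul_one, one_mul, mul_one]
    abel
  rw [h, h3, zero_smul, sub_zero]

/-- **3-cycle lemma**: if `U`, `β U`, `β² U` are independent, `(β - 1)²` is injective on `U`. -/
theorem three_cycle_inj [CharP K 3] (β : Module.End K V) (U : Submodule K V)
    (hU : U ⊓ (U.map β ⊔ U.map (β ^ 2)) = ⊥) (u : V) (hu : u ∈ U)
    (h0 : ((β - 1) ^ 2 : Module.End K V) u = 0) : u = 0 := by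
  rw [sq_sub_one_char_three] at h0
  have h1 : u = -(β u + (β ^ 2) u) := by
    have : (β ^ 2) u + β u + u = 0 := by
      simpa [LinearMap.add_apply] using h0
    apply eq_neg_of_add_eq_zero_left
    rw [← this]; abel
  have h2 : u ∈ U.map β ⊔ U.map (β ^ 2) := by
    rw [h1]
    apply Submodule.neg_mem
    exact Submodule.add_mem_sup (Submodule.mem_map_of_mem hu) (Submodule.mem_map_of_mem hu)
  have : u ∈ U ⊓ (U.map β ⊔ U.map (β ^ 2)) := ⟨hu, h2⟩
  rw [hU] at this
  exact (Submodule.mem_bot K).mp this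

/-- Hence `dim U ≤ rank (β - 1)²`. -/
theorem three_cycle_finrank_le [CharP K 3] [FiniteDimensional K V] (β : Module.End K V)
    (U : Submodule K V) (hU : U ⊓ (U.map β ⊔ U.map (β ^ 2)) = ⊥) :
    finrank K U ≤ finrank K (LinearMap.range ((β - 1) ^ 2)) := by
  have hinj : Function.Injective (((β - 1) ^ 2).domRestrict U) := by
    rw [← LinearMap.ker_eq_bot, LinearMap.ker_eq_bot']
    intro u hu
    apply Subtype.ext
    exact three_cycle_inj β U hU u.1 u.2 hu
  have h1 : finrank K U = finrank K (LinearMap.range (((β - 1) ^ 2).domRestrict U)) :=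
    (LinearMap.finrank_range_of_inj hinj).symm
  rw [h1]
  apply Submodule.finrank_mono
  rintro _ ⟨u, rfl⟩
  exact ⟨u.1, rfl⟩

end Cfsg.Agent.Lib.H23.S4415LA
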