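import Mathlib
import Cfsg.Prelude.Def_Transfer
import Cfsg.Agent.S1324

/-!
# S2924, piece GEN (step 6): the cores generate a commutative subgroup of odd order

`X` finite, `Y` an elementary abelian `2`-subgroup with `8 ≤ |Y|`, `θ : X → Subgroup X` such that for
`y, u ∈ Y ∖ {1}`: `θ y` has odd order, is normalized by `Y`, is commutative, and the balance condition
`θ y ⊓ C_X(u) ≤ θ u` holds.  Then `⨆ y, θ y` is commutative of odd order.

The proof: by the landed `S1324` each `θ y` is generated by the `θ y ⊓ C_X(B)`, `B` of index at most `2`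
in `Y`; two such `B, B'` share a non-identity element `b` (`|Y| ≥ 8`), and both generators then lie in the
commutative `θ b` by balance.
-/

set_option autoImplicit false

namespace Cfsg.Agent.Lib.H23.SG

variable {X : Type*} [Group X] [Finite X]

/-- Two subgroups of index at most `2` of a group of order at least `8` share a non-identity element. -/
theorem exists_ne_one_mem_of_relIndex_le_two (Y B B' : Subgroup X) (h8 : 8 ≤ Nat.card ↥Y)
    (hB : B.relIndex Y ≤ 2) (hB' : B'.relIndex Y ≤ 2) :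
    ∃ b : X, b ∈ Y ∧ b ∈ B ∧ b ∈ B' ∧ b ≠ 1 := by
  classical
  have hidx : (B ⊓ B').relIndex Y ≤ 4 := by
    calc (B ⊓ B').relIndex Y ≤ B.relIndex Y * B'.relIndex Y := Subgroup.relIndex_inf_le
      _ ≤ 2 * 2 := Nat.mul_le_mul hB hB'
  have hcard : Nat.card ↥((B ⊓ B').subgroupOf Y) * (B ⊓ B').relIndex Y = Nat.card ↥Y := by
    rw [Subgroup.relIndex]
    exact Subgroup.card_mul_index _
  have h2 : 2 ≤ Nat.card ↥((B ⊓ B').subgroupOf Y) := by
    by_contra hlt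
    rw [not_le] at hlt
    have : Nat.card ↥((B ⊓ B').subgroupOf Y) * (B ⊓ B').relIndex Y ≤ 1 * 4 :=
      Nat.mul_le_mul (by omega) hidx
    omega
  have hnt : Nontrivial ↥((B ⊓ B').subgroupOf Y) := by
    exact (Finite.one_lt_card_iff_nontrivial).mp (by omega)
  obtain ⟨⟨b, hb⟩, hb1⟩ := exists_ne (1 : ↥((B ⊓ B').subgroupOf Y))
  rw [Subgroup.mem_subgroupOf] at hb
  refine ⟨(b : X), b.2, hb.1, hb.2, ?_⟩
  intro h
  apply hb1
  ext
  simpa using h

/-- The generating set used for `⨆ y, θ y`. -/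
def genSet (Y : Subgroup X) (θ : X → Subgroup X) : Set X :=
  {g | ∃ y ∈ Y, y ≠ 1 ∧ ∃ B : Subgroup X, B ≤ Y ∧ B.relIndex Y ≤ 2 ∧
    g ∈ θ y ⊓ Subgroup.centralizer ((B : Subgroup X) : Set X)}

/-- Any two elements of the generating set commute. -/
theorem genSet_commute (Y : Subgroup X) (h8 : 8 ≤ Nat.card ↥Y) (θ : X → Subgroup X)
    (hbal : ∀ y ∈ Y, y ≠ 1 → ∀ u ∈ Y, u ≠ 1 →
      θ y ⊓ Subgroup.centralizer ({u} : Set X) ≤ θ u)
    (hab : ∀ y ∈ Y, y ≠ 1 → ∀ a ∈ θ y, ∀ b ∈ θ y, a * b = b * a)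
    (g : X) (hg : g ∈ genSet Y θ) (g' : X) (hg' : g' ∈ genSet Y θ) : g * g' = g' * g := by
  obtain ⟨y, hyY, hy1, B, -, hBi, hgB⟩ := hg
  obtain ⟨y', hy'Y, hy'1, B', -, hB'i, hg'B⟩ := hg'
  obtain ⟨b, hbY, hbB, hbB', hb1⟩ := exists_ne_one_mem_of_relIndex_le_two Y B B' h8 hBi hB'i
  have h1 : g ∈ θ b := by
    apply hbal y hyY hy1 b hbY hb1
    refine ⟨hgB.1, Subgroup.mem_centralizer_iff.mpr ?_⟩
    intro h hh
    rw [Set.mem_singleton_iff] at hh
    subst hh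
    exact (Subgroup.mem_centralizer_iff.mp hgB.2) h hbB
  have h2 : g' ∈ θ b := by
    apply hbal y' hy'Y hy'1 b hbY hb1
    refine ⟨hg'B.1, Subgroup.mem_centralizer_iff.mpr ?_⟩
    intro h hh
    rw [Set.mem_singleton_iff] at hh
    subst hh
    exact (Subgroup.mem_centralizer_iff.mp hg'B.2) h hbB'
  exact hab b hbY hb1 g h1 g' h2

/-- `⨆ y, θ y` is the closure of the generating set. -/
theorem iSup_eq_closure_genSet (Y : Subgroup X) (hY : Cfsg.IsElementaryAbelian 2 Y)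
    (h8 : 8 ≤ Nat.card ↥Y) (θ : X → Subgroup X)
    (hodd : ∀ y ∈ Y, y ≠ 1 → Odd (Nat.card ↥(θ y)))
    (hnorm : ∀ y ∈ Y, y ≠ 1 → Y ≤ Subgroup.normalizer ((θ y : Subgroup X) : Set X)) :
    (⨆ y : {y : X // y ∈ Y ∧ y ≠ 1}, θ (y : X)) = Subgroup.closure (genSet Y θ) := by
  apply le_antisymm
  · apply iSup_le
    rintro ⟨y, hyY, hy1⟩
    have h2 : ¬ 2 ∣ Nat.card ↥(θ y) := by
      have := hodd y hyY hy1
      rw [← Nat.not_even_iff_odd, even_iff_two_dvd] at this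
      exact this
    have hgen := Cfsg.Agent.S1324.result (H := X) 2 Y (θ y) hY (by omega) h2 (hnorm y hyY hy1)
    show θ y ≤ _
    rw [hgen]
    apply iSup_le
    rintro ⟨B, hBY, hBi⟩
    intro g hg
    apply Subgroup.subset_closure
    exact ⟨y, hyY, hy1, B, hBY, hBi, hg⟩
  · rw [Subgroup.closure_le]
    rintro g ⟨y, hyY, hy1, B, -, -, hgB⟩
    have hle : θ y ≤ ⨆ y : {y : X // y ∈ Y ∧ y ≠ 1}, θ (y : X) :=
      le_iSup (fun y : {y : X // y ∈ Y ∧ y ≠ 1} => θ (y : X)) ⟨y, hyY, hy1⟩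
    exact hle hgB.1

omit [Finite X] in
/-- Elements of the closure of a set of pairwise commuting elements of odd order have odd order. -/
theorem odd_orderOf_of_mem_closure (S : Set X) (hcomm : ∀ a ∈ S, ∀ b ∈ S, a * b = b * a)
    (hoddS : ∀ a ∈ S, Odd (orderOf a)) (w : X) (hw : w ∈ Subgroup.closure S) :
    Odd (orderOf w) := by
  have hC : IsMulCommutative ↥(Subgroup.closure S) := Subgroup.isMulCommutative_closure hcomm
  have key : ∀ v : ↥(Subgroup.closure S), Odd (orderOf (v : X)) := by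
    intro v
    obtain ⟨v, hv⟩ := v
    induction hv using Subgroup.closure_induction with
    | mem x hx => exact hoddS x hx
    | one => simp
    | mul a b ha hb iha ihb =>
      have hc : Commute a b := by
        have := hC.is_comm.comm (⟨a, ha⟩ : ↥(Subgroup.closure S)) ⟨b, hb⟩
        exact congrArg Subtype.val this
      have hdvd := hc.orderOf_mul_dvd_lcm
      have hl : Odd (Nat.lcm (orderOf a) (orderOf b)) := by
        rw [← Nat.not_even_iff_odd, even_iff_two_dvd]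
        intro h2
        have hp : Nat.Prime 2 := Nat.prime_two
        rcases (Nat.Prime.dvd_mul hp).mp (dvd_trans h2 (Nat.lcm_dvd_mul _ _)) with h | h
        · exact (Nat.not_even_iff_odd.mpr iha) (even_iff_two_dvd.mpr h)
        · exact (Nat.not_even_iff_odd.mpr ihb) (even_iff_two_dvd.mpr h)
      exact Odd.of_dvd_nat hl hdvd
    | inv a ha iha => simpa using iha
  exact key ⟨w, hw⟩

/-- **GEN core.** The subgroup generated by the `θ y` is commutative and has odd order. -/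
theorem gen_core (Y : Subgroup X) (hY : Cfsg.IsElementaryAbelian 2 Y) (h8 : 8 ≤ Nat.card ↥Y)
    (θ : X → Subgroup X)
    (hodd : ∀ y ∈ Y, y ≠ 1 → Odd (Nat.card ↥(θ y)))
    (hnorm : ∀ y ∈ Y, y ≠ 1 → Y ≤ Subgroup.normalizer ((θ y : Subgroup X) : Set X))
    (hbal : ∀ y ∈ Y, y ≠ 1 → ∀ u ∈ Y, u ≠ 1 →
      θ y ⊓ Subgroup.centralizer ({u} : Set X) ≤ θ u)
    (hab : ∀ y ∈ Y, y ≠ 1 → ∀ a ∈ θ y, ∀ b ∈ θ y, a * b = b * a) :
    (∀ a ∈ (⨆ y : {y : X // y ∈ Y ∧ y ≠ 1}, θ (y : X)),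
      ∀ b ∈ (⨆ y : {y : X // y ∈ Y ∧ y ≠ 1}, θ (y : X)), a * b = b * a) ∧
    Odd (Nat.card ↥(⨆ y : {y : X // y ∈ Y ∧ y ≠ 1}, θ (y : X))) := by
  classical
  have hW := iSup_eq_closure_genSet Y hY h8 θ hodd hnorm
  have hcomm := genSet_commute Y h8 θ hbal hab
  have hoddS : ∀ a ∈ genSet Y θ, Odd (orderOf a) := by
    rintro a ⟨y, hyY, hy1, B, -, -, haB⟩
    have hdvd : orderOf (⟨a, haB.1⟩ : ↥(θ y)) ∣ Nat.card ↥(θ y) := orderOf_dvd_natCard _
    have : orderOf (⟨a, haB.1⟩ : ↥(θ y)) = orderOf a := Subgroup.orderOf_mk a haB.1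
    rw [this] at hdvd
    exact Odd.of_dvd_nat (hodd y hyY hy1) hdvd
  refine ⟨?_, ?_⟩
  · rw [hW]
    intro a ha b hb
    have hC : IsMulCommutative ↥(Subgroup.closure (genSet Y θ)) :=
      Subgroup.isMulCommutative_closure hcomm
    have := hC.is_comm.comm (⟨a, ha⟩ : ↥(Subgroup.closure (genSet Y θ))) ⟨b, hb⟩
    exact congrArg Subtype.val this
  · rw [← Nat.not_even_iff_odd, even_iff_two_dvd]
    intro h2
    have : Fact (Nat.Prime 2) := ⟨Nat.prime_two⟩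
    obtain ⟨t, ht⟩ := exists_prime_orderOf_dvd_card' (G := ↥(⨆ y : {y : X // y ∈ Y ∧ y ≠ 1}, θ (y : X))) 2 h2
    have hmem : (t : X) ∈ Subgroup.closure (genSet Y θ) := by
      rw [← hW]; exact t.2
    have hto := odd_orderOf_of_mem_closure (genSet Y θ) hcomm hoddS (t : X) hmem
    rw [Subgroup.orderOf_coe, ht] at hto
    exact absurd hto (by decide)

/-- **GEN**, exact signature of `tools/blueprints/S2924_sigs.lean` (`Cfsg.Agent.Lib.H24.SG.Sigs.gen_odd`).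
(The hypotheses `z`, `θ z = ⊥` are not needed for this step.) -/
theorem gen_odd (Y : Subgroup X) (hY : Cfsg.IsElementaryAbelian 2 Y)
    (h8 : 8 ≤ Nat.card ↥Y) (θ : X → Subgroup X)
    (hodd : ∀ y ∈ Y, y ≠ 1 → Odd (Nat.card ↥(θ y)))
    (hnorm : ∀ y ∈ Y, y ≠ 1 → Y ≤ Subgroup.normalizer ((θ y : Subgroup X) : Set X))
    (hcomm : ∀ y ∈ Y, y ≠ 1 → ∀ a ∈ θ y, ∀ b ∈ θ y, a * b = b * a)
    (hbal : ∀ y ∈ Y, ∀ u ∈ Y, y ≠ 1 → u ≠ 1 → θ y ⊓ Subgroup.centralizer ({u} : Set X) ≤ θ u)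
    (z : X) (_hzY : z ∈ Y) (_hz1 : z ≠ 1) (_hθz : θ z = ⊥) :
    Odd (Nat.card ↥(⨆ y : {y : X // y ∈ Y ∧ y ≠ 1}, θ (y : X))) :=
  (gen_core Y hY h8 θ hodd hnorm (fun y hy hy1 u hu hu1 => hbal y hy u hu hy1 hu1) hcomm).2

end Cfsg.Agent.Lib.H23.SG
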