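import Cfsg.Agent.Lib.H23.SHCS
import Cfsg.Agent.Lib.H11.SHCSG
import Cfsg.Agent.Lib.H12.SHGLUEA
import Cfsg.Agent.Lib.H6.SHENDA

/-!
# S3017, CASE A (group side), twin seat (helper23)

`exists_nu_of_locData` : helper11's `LocData` gives a right-`N_G(H)`-equivariant `ν` (choose `ν` on representatives of
the left cosets of `N_G(H)`), so the landed core `SHCS` (EQUI / FUS / CS0 / ORTH) applies.
`caseA` : `N_G(H)` not transitive on `H#` ⟹ `N_G(H)` centralizes `H` (helper6's pure `H6.SH.enda` with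
`A := ↥H`, `N := ↥N_G(H)`, `φ :=` conjugation, `ι := ↥B₀`).
-/

set_option autoImplicit false
set_option linter.unusedSectionVars false
set_option linter.unusedVariables false
set_option linter.style.haveILetI false

namespace Cfsg.Agent.Lib.H23.SH

open Cfsg Cfsg.Agent.Lib.H24
open scoped ComplexConjugate

variable {G : Type*} [Group G]

/-- From `LocData` to the function form of LOC with an equivariant `ν`. -/
theorem exists_nu_of_locData {H : Subgroup G} {B : Set (IrrCharacter G)}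
    (hloc : Cfsg.Agent.Lib.H11.SH.LocData 2 H B) :
    ∃ ν : G → G, (∀ g, ν g ∈ Subgroup.normalizer (H : Set G)) ∧
      (∀ g, ∀ n ∈ Subgroup.normalizer (H : Set G), ν (g * n) = ν g * n) ∧
      (∀ g, ∀ a ∈ H, ∀ b ∈ H, a * (ν g * b * (ν g)⁻¹) ≠ 1 →
        ∀ χ ∈ B, (χ : G → ℂ) (a * (g * b * g⁻¹)) = (χ : G → ℂ) (a * (ν g * b * (ν g)⁻¹))) ∧
      (∀ g, ∀ a ∈ H, ∀ b ∈ H, a * (ν g * b * (ν g)⁻¹) = 1 →
        Odd (orderOf (a * (g * b * g⁻¹)))) := by
  classical
  choose ν0 hν0N hν0 using hloc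
  let r : G → G := fun g => (QuotientGroup.mk g : G ⧸ Subgroup.normalizer (H : Set G)).out
  have hr : ∀ g, (r g)⁻¹ * g ∈ Subgroup.normalizer (H : Set G) := by
    intro g
    have h1 : (QuotientGroup.mk (r g) : G ⧸ Subgroup.normalizer (H : Set G)) = QuotientGroup.mk g :=
      Quotient.out_eq' _
    exact QuotientGroup.eq.1 h1
  have hrmul : ∀ g, ∀ n ∈ Subgroup.normalizer (H : Set G), r (g * n) = r g := by
    intro g n hn
    show (QuotientGroup.mk (g * n) : G ⧸ Subgroup.normalizer (H : Set G)).out = _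
    rw [QuotientGroup.mk_mul_of_mem g hn]
  refine ⟨fun g => ν0 (r g) * ((r g)⁻¹ * g), ?_, ?_, ?_, ?_⟩
  · intro g
    exact Subgroup.mul_mem _ (hν0N (r g)) (hr g)
  · intro g n hn
    show ν0 (r (g * n)) * ((r (g * n))⁻¹ * (g * n)) = ν0 (r g) * ((r g)⁻¹ * g) * n
    rw [hrmul g n hn]
    group
  · intro g a ha b hb hne χ hχ
    have hb' : (r g)⁻¹ * g * b * ((r g)⁻¹ * g)⁻¹ ∈ H :=
      ((Subgroup.mem_normalizer_iff.1 (hr g)) b).1 hb
    have e1 : ν0 (r g) * ((r g)⁻¹ * g) * b * (ν0 (r g) * ((r g)⁻¹ * g))⁻¹ =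
        ν0 (r g) * ((r g)⁻¹ * g * b * ((r g)⁻¹ * g)⁻¹) * (ν0 (r g))⁻¹ := by group
    have e2 : g * b * g⁻¹ = r g * ((r g)⁻¹ * g * b * ((r g)⁻¹ * g)⁻¹) * (r g)⁻¹ := by group
    simp only [e1] at hne ⊢
    rw [e2]
    exact (hν0 (r g) a ha _ hb').1 hne χ hχ
  · intro g a ha b hb h1
    have hb' : (r g)⁻¹ * g * b * ((r g)⁻¹ * g)⁻¹ ∈ H :=
      ((Subgroup.mem_normalizer_iff.1 (hr g)) b).1 hb
    have e1 : ν0 (r g) * ((r g)⁻¹ * g) * b * (ν0 (r g) * ((r g)⁻¹ * g))⁻¹ =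
        ν0 (r g) * ((r g)⁻¹ * g * b * ((r g)⁻¹ * g)⁻¹) * (ν0 (r g))⁻¹ := by group
    have e2 : g * b * g⁻¹ = r g * ((r g)⁻¹ * g * b * ((r g)⁻¹ * g)⁻¹) * (r g)⁻¹ := by group
    simp only [e1] at h1
    rw [e2]
    have := (hν0 (r g) a ha _ hb').2 h1
    rw [Nat.odd_iff]
    have h2 := Nat.mod_two_eq_zero_or_one (orderOf (a * (r g * ((r g)⁻¹ * g * b * ((r g)⁻¹ * g)⁻¹) * (r g)⁻¹)))
    rcases h2 with h2 | h2
    · exact absurd (Nat.dvd_of_mod_eq_zero h2) this
    · exact h2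

/-- `γ_c = ∑_{B₀} |χ c|²` is real. -/
theorem gamma_real [Fintype G] (M : Ideal AlgInt) (c : G) :
    ∑ᶠ χ ∈ principalBlock M G, (χ : G → ℂ) c * conj ((χ : G → ℂ) c) =
      (((∑ᶠ χ ∈ principalBlock M G, (χ : G → ℂ) c * conj ((χ : G → ℂ) c)).re : ℝ) : ℂ) := by
  rw [finsum_b0_eq_sum]
  apply Complex.ext
  · simp
  · rw [Complex.ofReal_im, Complex.im_sum]
    apply Finset.sum_eq_zero
    intro χ _
    rw [Complex.mul_conj]
    exact Complex.ofReal_im _

/-- **CASE A**, group side (twin of helper12's seat, same statement). -/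
theorem caseA [Finite G] (M : Ideal AlgInt) (hM : IsPModular 2 M) (H : Subgroup G)
    (hH2 : IsPGroup 2 H) (hHab : ∀ a ∈ H, ∀ b ∈ H, a * b = b * a)
    (hloc : Cfsg.Agent.Lib.H11.SH.LocData 2 H (principalBlock M G))
    (hfus : ∀ h ∈ H, ∀ c ∈ H, IsConj h c →
      ∃ n ∈ Subgroup.normalizer (H : Set G), n * c * n⁻¹ = h)
    (hncl : Subgroup.normalClosure (H : Set G) = ⊤)
    (hnt : ¬ Cfsg.Agent.Lib.H12.SH.TransN H) :
    ∀ n ∈ Subgroup.normalizer (H : Set G), ∀ a ∈ H, n * a * n⁻¹ = a := by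
  classical
  haveI : Fintype G := Fintype.ofFinite G
  haveI hPr : M.IsPrime := Cfsg.Agent.Lib.H23.isPrime_of_isPModular hM
  obtain ⟨ν, hνN, hνmul, hloc1, hloc2⟩ := exists_nu_of_locData hloc
  letI : CommGroup ↥H :=
    { (inferInstance : Group ↥H) with
      mul_comm := fun a b => Subtype.ext (hHab a a.2 b b.2) }
  haveI : Fintype ↥(Subgroup.normalizer (H : Set G)) := Fintype.ofFinite _
  haveI : Fintype ↥H := Fintype.ofFinite _
  haveI : Fintype ↥(principalBlock M G) := Fintype.ofFinite _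
  have hN0 : (Nat.card ↥(Subgroup.normalizer (H : Set G)) : ℂ) ≠ 0 := by
    exact_mod_cast (Nat.card_pos (α := ↥(Subgroup.normalizer (H : Set G)))).ne'
  -- the action
  have hφ : ∀ (n : ↥(Subgroup.normalizer (H : Set G))) (a : ↥H),
      ((H.normalizerMonoidHom n a : ↥H) : G) = (n : G) * (a : G) * (n : G)⁻¹ := fun n a => rfl
  -- degrees
  have hdeg : ∀ i : ↥(principalBlock M G), ∃ n : ℕ, 0 < n ∧ ((i.1 : IrrCharacter G) : G → ℂ) 1 = n :=
    fun i => irr_one_eq i.1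
  choose f hf using hdeg
  -- sums over the block
  have hsumι : ∀ F : IrrCharacter G → ℂ,
      ∑ i : ↥(principalBlock M G), F i.1 = ∑ᶠ χ ∈ principalBlock M G, F χ := by
    intro F
    rw [← finsum_set_coe_eq_finsum_mem, finsum_eq_sum_of_fintype]
  -- the stabilizer counts
  have hstab : ∀ c : ↥H, 0 < (Finset.univ.filter
      (fun n' : ↥(Subgroup.normalizer (H : Set G)) => H.normalizerMonoidHom n' c = c)).card := by
    intro c
    apply Finset.card_pos.2
    exact ⟨1, by simp⟩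
  have key := Cfsg.Agent.Lib.H6.SH.enda (A := ↥H) (N := ↥(Subgroup.normalizer (H : Set G)))
    (ι := ↥(principalBlock M G)) H.normalizerMonoidHom
    (fun i a => ((i.1 : IrrCharacter G) : G → ℂ) (a : G)) f (fun i => hf i)
    ⟨trivialIrr G, Cfsg.Agent.Lib.H23.trivialIrr_mem_principalBlock⟩
    (fun a => trivialIrr_apply _) ?_ ?_
    (fun c => (∑ᶠ χ ∈ principalBlock M G, (χ : G → ℂ) (c : G) * conj ((χ : G → ℂ) (c : G))).re /
      ((Nat.card ↥(Subgroup.normalizer (H : Set G)) : ℝ) * ((Finset.univ.filter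
        (fun n' : ↥(Subgroup.normalizer (H : Set G)) => H.normalizerMonoidHom n' c = c)).card : ℝ)))
    ?_ ?_ ?_
  · intro n hn a ha
    have := key ⟨n, hn⟩ ⟨a, ha⟩
    exact congrArg Subtype.val this
  · -- hker
    intro i hi
    have h1 := Cfsg.Agent.Lib.H12.SH.ker (i.1 : IrrCharacter G).2 H hncl
      (fun a ha => hi ⟨a, ha⟩)
    apply Subtype.ext
    apply Subtype.ext
    rw [h1]
    funext g
    exact (trivialIrr_apply g).symm
  · -- hm
    intro i l
    exact Cfsg.Agent.Lib.H12.SH.mult (Cfsg.Agent.Lib.L0.isCharacter_of_irr (i.1 : IrrCharacter G).2) H l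
  · -- hORTH
    intro a b c hc1
    have hc1' : (c : G) ≠ 1 := fun h => hc1 (Subtype.ext h)
    have h1 := orth' hM H _ hH2 le_rfl ν hνN hνmul hloc1 hloc2 a.2 b.2 c.2 hc1'
    change ∑ i : ↥(principalBlock M G), (fun χ : IrrCharacter G =>
      (χ : G → ℂ) (a : G) * (χ : G → ℂ) (b : G) * conj ((χ : G → ℂ) (c : G)) /
      (χ : G → ℂ) 1) i.1 = _
    rw [hsumι (fun χ => (χ : G → ℂ) (a : G) * (χ : G → ℂ) (b : G) * conj ((χ : G → ℂ) (c : G)) /
      (χ : G → ℂ) 1), h1, Cfsg.Agent.Lib.H6.SH.card_pairs_eq]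
    have hcount : Nat.card {n : ↥(Subgroup.normalizer (H : Set G)) //
        ∃ n' ∈ Subgroup.normalizer (H : Set G),
          (a : G) * ((n : G) * (b : G) * (n : G)⁻¹) = n' * (c : G) * n'⁻¹} =
        (Finset.univ.filter (fun n : ↥(Subgroup.normalizer (H : Set G)) =>
          ∃ n' : ↥(Subgroup.normalizer (H : Set G)),
            a * H.normalizerMonoidHom n b = H.normalizerMonoidHom n' c)).card := by
      rw [Nat.card_eq_fintype_card, Fintype.card_subtype]
      congr 1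
      ext n
      simp only [Finset.mem_filter, Finset.mem_univ, true_and]
      constructor
      · rintro ⟨n', hn', h⟩
        exact ⟨⟨n', hn'⟩, Subtype.ext h⟩
      · rintro ⟨n', h⟩
        exact ⟨n'.1, n'.2, congrArg Subtype.val h⟩
    rw [hcount, gamma_real M (c : G)]
    have hs0 : ((Finset.univ.filter (fun n' : ↥(Subgroup.normalizer (H : Set G)) =>
        H.normalizerMonoidHom n' c = c)).card : ℂ) ≠ 0 := by
      exact_mod_cast (hstab c).ne'
    push_cast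
    field_simp
    rw [Complex.ofReal_re]
    ring
  · -- hCS0
    intro i a b hne
    have h1 := cs0 H _ ν hνN hνmul hloc1 i.1 i.2 a.2 b.2 (fun n hn h => hne ⟨n, hn⟩ (Subtype.ext h))
    rw [Nat.card_eq_fintype_card] at h1
    exact h1
  · -- hnt
    obtain ⟨a, ha, b, hb, ha1, hb1, hab⟩ := Cfsg.Agent.Lib.H12.SH.nt hnt
    refine ⟨⟨a, ha⟩, ⟨b, hb⟩, fun h => ha1 (congrArg Subtype.val h),
      fun h => hb1 (congrArg Subtype.val h), ?_⟩
    intro n h
    exact hab n.1 n.2 (congrArg Subtype.val h)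

end Cfsg.Agent.Lib.H23.SH
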