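import Cfsg.Agent.S0925
import Cfsg.Agent.S0942
import Cfsg.Agent.Lib.H24.CharSchur
import Cfsg.Agent.Lib.H23.BlockPrincipal
import Cfsg.Agent.Lib.L0.PrincipalBrauerPair
import Cfsg.Agent.Lib.H23.PPart2

/-!
# S3017 (Shult, extremely closed abelian 2-subgroups): the class-sum side (helper23)

`H` a `2`-subgroup of `G`, `N ≤ N_G(H)`, `B₀` the principal `2`-block.  INPUT (piece LOC, in function form):
`ν : G → G` with `ν g ∈ N`, `ν (g n) = ν g · n` (`n ∈ N`), and for `a b ∈ H`, `φ_g(b) := ν g · b · (ν g)⁻¹`: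
* `a φ_g(b) ≠ 1 → χ (a · g b g⁻¹) = χ (a φ_g(b))` for `χ ∈ B₀`,
* `a φ_g(b) = 1 → a · g b g⁻¹` has odd order.

OUTPUT: EQUI (`sum_comp_equivariant`), FUS (`fus`: `N` controls fusion in `H`), CS (`cs_formula`, `cs0`,
`card_I`), ORTH (`orth`), and the vanishing of the odd-order terms (`odd_term_zero`, `odd_term_zero'`).
-/

set_option autoImplicit false
set_option linter.unusedSectionVars false
set_option linter.unusedVariables false

namespace Cfsg.Agent.Lib.H23.SH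

open Cfsg Cfsg.Agent.Lib.H24
open scoped ComplexConjugate

variable {G : Type*} [Group G]

/-- EQUI.  A right-`N`-equivariant map `ν : G → N` has fibres of equal size. -/
theorem sum_comp_equivariant [Fintype G] (N : Subgroup G) [Fintype ↥N] (ν : G → G)
    (hνN : ∀ g, ν g ∈ N) (hνmul : ∀ g, ∀ n ∈ N, ν (g * n) = ν g * n) (F : G → ℂ) :
    (Nat.card ↥N : ℂ) * ∑ g : G, F (ν g) = (Nat.card G : ℂ) * ∑ n : ↥N, F (n : G) := by
  classical
  have hν1 : ∀ g, ν (g * (ν g)⁻¹) = 1 := fun g => by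
    rw [hνmul g _ (N.inv_mem (hνN g)), mul_inv_cancel]
  let e : {g : G // ν g = 1} × ↥N ≃ G :=
    { toFun := fun x => x.1.1 * x.2.1
      invFun := fun g => (⟨g * (ν g)⁻¹, hν1 g⟩, ⟨ν g, hνN g⟩)
      left_inv := by
        rintro ⟨⟨k, hk⟩, ⟨n, hn⟩⟩
        have h1 : ν (k * n) = n := by rw [hνmul k n hn, hk, one_mul]
        apply Prod.ext
        · apply Subtype.ext
          show k * n * (ν (k * n))⁻¹ = k
          rw [h1, mul_inv_cancel_right]
        · apply Subtype.ext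
          exact h1
      right_inv := fun g => by
        show g * (ν g)⁻¹ * ν g = g
        rw [inv_mul_cancel_right] }
  have hν_e : ∀ x : {g : G // ν g = 1} × ↥N, ν (e x) = x.2 := by
    rintro ⟨⟨k, hk⟩, ⟨n, hn⟩⟩
    show ν (k * n) = n
    rw [hνmul k n hn, hk, one_mul]
  have h1 : ∑ g : G, F (ν g) = ∑ x : {g : G // ν g = 1} × ↥N, F (x.2 : G) := by
    rw [← Equiv.sum_comp e]
    exact Finset.sum_congr rfl (fun x _ => by rw [hν_e])
  have hcard : Nat.card G = Nat.card {g : G // ν g = 1} * Nat.card ↥N := by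
    rw [← Nat.card_prod]
    exact (Nat.card_congr e).symm
  rw [h1, Fintype.sum_prod_type]
  simp only [Finset.sum_const, Finset.card_univ, nsmul_eq_mul]
  rw [hcard, Nat.card_eq_fintype_card (α := {g : G // ν g = 1})]
  push_cast
  ring

/-- The counting form of EQUI. -/
theorem card_comp_equivariant [Fintype G] (N : Subgroup G) (ν : G → G)
    (hνN : ∀ g, ν g ∈ N) (hνmul : ∀ g, ∀ n ∈ N, ν (g * n) = ν g * n) (Q : G → Prop) :
    Nat.card ↥N * Nat.card {g : G // Q (ν g)} = Nat.card G * Nat.card {n : ↥N // Q (n : G)} := by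
  classical
  have := sum_comp_equivariant N ν hνN hνmul (fun x => if Q x then (1 : ℂ) else 0)
  simp only [Finset.sum_boole] at this
  have h1 : (Finset.univ.filter (fun g : G => Q (ν g))).card = Nat.card {g : G // Q (ν g)} := by
    rw [Nat.card_eq_fintype_card, Fintype.card_subtype]
  have h2 : (Finset.univ.filter (fun n : ↥N => Q (n : G))).card = Nat.card {n : ↥N // Q (n : G)} := by
    rw [Nat.card_eq_fintype_card, Fintype.card_subtype]
  rw [h1, h2] at this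
  exact_mod_cast this

theorem irr_mul_comm (χ : IrrCharacter G) (u v : G) :
    (χ : G → ℂ) (u * v) = (χ : G → ℂ) (v * u) := by
  have h := irr_conj χ (u * v) v
  rw [← h]
  group

theorem isPPart_self_two {x : G} (hx : ∃ k : ℕ, orderOf x = 2 ^ k) : IsPPart 2 x x := by
  refine ⟨1, mul_one x, Commute.one_right x, hx, ?_⟩
  rw [orderOf_one]
  norm_num

theorem isPPart_one_of_odd {u : G} (hu : Odd (orderOf u)) : IsPPart 2 u 1 := by
  refine ⟨u, one_mul u, Commute.one_left u, ⟨0, by rw [orderOf_one, pow_zero]⟩, ?_⟩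
  intro h
  exact (Nat.not_even_iff_odd.2 hu) (even_iff_two_dvd.2 h)

theorem exists_orderOf_of_mem {H : Subgroup G} (hH2 : IsPGroup 2 H) {x : G} (hx : x ∈ H) :
    ∃ k : ℕ, orderOf x = 2 ^ k := by
  obtain ⟨k, hk⟩ := (IsPGroup.iff_orderOf.1 hH2) ⟨x, hx⟩
  exact ⟨k, by rw [← hk, Subgroup.orderOf_mk]⟩

variable [Fintype G] {M : Ideal AlgInt}

/-- Block orthogonality for the principal `2`-block, with complex conjugates. -/
theorem b0_orth (hM : IsPModular 2 M) {g h x y : G} (hx : IsPPart 2 g x) (hy : IsPPart 2 h y)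
    (hxy : ¬ IsConj x y) :
    ∑ᶠ χ ∈ principalBlock M G, (χ : G → ℂ) g * conj ((χ : G → ℂ) h) = 0 := by
  have h0 := (Cfsg.Agent.S0925.result 2 M hM).2 g h x y hx hy hxy _
    (Cfsg.Agent.Lib.L0.PrincipalBrauerPair.isPBlock_principalBlock M G)
  rw [← h0]
  refine finsum_mem_congr rfl (fun χ _ => ?_)
  rw [irr_inv]

/-- The finite set of characters in the principal block. -/
noncomputable def b0Finset (M : Ideal AlgInt) (G : Type*) [Group G] [Fintype G] :
    Finset (IrrCharacter G) :=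
  (Set.toFinite (principalBlock M G)).toFinset

theorem mem_b0Finset {χ : IrrCharacter G} : χ ∈ b0Finset M G ↔ χ ∈ principalBlock M G := by
  unfold b0Finset
  simp

theorem finsum_b0_eq_sum (f : IrrCharacter G → ℂ) :
    ∑ᶠ χ ∈ principalBlock M G, f χ = ∑ χ ∈ b0Finset M G, f χ :=
  finsum_mem_eq_finite_toFinset_sum f (Set.toFinite (principalBlock M G))

section Core

variable (hM : IsPModular 2 M) (H N : Subgroup G) (hH2 : IsPGroup 2 H)
  (hNH : N ≤ Subgroup.normalizer (H : Set G))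
  (ν : G → G) (hνN : ∀ g, ν g ∈ N) (hνmul : ∀ g, ∀ n ∈ N, ν (g * n) = ν g * n)
  (hloc1 : ∀ g, ∀ a ∈ H, ∀ b ∈ H, a * (ν g * b * (ν g)⁻¹) ≠ 1 →
    ∀ χ ∈ principalBlock M G,
      (χ : G → ℂ) (a * (g * b * g⁻¹)) = (χ : G → ℂ) (a * (ν g * b * (ν g)⁻¹)))
  (hloc2 : ∀ g, ∀ a ∈ H, ∀ b ∈ H, a * (ν g * b * (ν g)⁻¹) = 1 →
    Odd (orderOf (a * (g * b * g⁻¹))))

include hNH in
theorem sh_conj_mem {n b : G} (hn : n ∈ N) (hb : b ∈ H) : n * b * n⁻¹ ∈ H :=
  ((Subgroup.mem_normalizer_iff.1 (hNH hn)) b).1 hb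

include hNH in
theorem sh_mul_conj_mem {a n b : G} (ha : a ∈ H) (hn : n ∈ N) (hb : b ∈ H) :
    a * (n * b * n⁻¹) ∈ H :=
  H.mul_mem ha (sh_conj_mem H N hNH hn hb)

include hM hloc2 in
/-- The odd-order terms are orthogonal to the values at nontrivial elements of `H`. -/
theorem odd_term_zero {g a b c : G} (ha : a ∈ H) (hb : b ∈ H) (hc : c ∈ H) (hc1 : c ≠ 1)
    (hI : a * (ν g * b * (ν g)⁻¹) = 1) (hcH : ∃ k : ℕ, orderOf c = 2 ^ k) :
    ∑ᶠ χ ∈ principalBlock M G, (χ : G → ℂ) (a * (g * b * g⁻¹)) * conj ((χ : G → ℂ) c) = 0 := by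
  refine b0_orth hM (isPPart_one_of_odd (hloc2 g a ha b hb hI)) (isPPart_self_two hcH) ?_
  intro h
  exact hc1 (isConj_one_right.1 h)

include hM hloc2 in
/-- The same with the roles exchanged (the CASE B identity `∑ d R = 0`, termwise). -/
theorem odd_term_zero' {g a b c : G} (ha : a ∈ H) (hb : b ∈ H) (hc1 : c ≠ 1)
    (hI : a * (ν g * b * (ν g)⁻¹) = 1) (hcH : ∃ k : ℕ, orderOf c = 2 ^ k) :
    ∑ᶠ χ ∈ principalBlock M G, (χ : G → ℂ) c * conj ((χ : G → ℂ) (a * (g * b * g⁻¹))) = 0 := by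
  refine b0_orth hM (isPPart_self_two hcH) (isPPart_one_of_odd (hloc2 g a ha b hb hI)) ?_
  intro h
  exact hc1 (isConj_one_left.1 h)

include hM hH2 hNH hνN hloc1 in
/-- FUS.  `N` controls fusion in `H`. -/
theorem fus {h c : G} (hh : h ∈ H) (hc : c ∈ H) (hconj : IsConj c h) :
    ∃ n ∈ N, n * c * n⁻¹ = h := by
  classical
  obtain ⟨g, hg⟩ := isConj_iff.1 hconj
  by_cases hx : h⁻¹ * (ν g * c * (ν g)⁻¹) = 1
  · exact ⟨ν g, hνN g, (inv_mul_eq_one.1 hx).symm⟩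
  · exfalso
    have hxH : h⁻¹ * (ν g * c * (ν g)⁻¹) ∈ H := sh_mul_conj_mem H N hNH (H.inv_mem hh) (hνN g) hc
    have hval : ∀ χ ∈ principalBlock M G,
        (χ : G → ℂ) 1 = (χ : G → ℂ) (h⁻¹ * (ν g * c * (ν g)⁻¹)) := by
      intro χ hχ
      have := hloc1 g h⁻¹ (H.inv_mem hh) c hc hx χ hχ
      rw [hg, inv_mul_cancel] at this
      exact this
    have h1G : IsPPart 2 (1 : G) 1 := isPPart_self_two ⟨0, by rw [orderOf_one, pow_zero]⟩
    have h0 := b0_orth hM (isPPart_self_two (exists_orderOf_of_mem hH2 hxH)) h1G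
      (fun hcj => hx (isConj_one_left.1 hcj))
    rw [finsum_b0_eq_sum] at h0
    have h1 : ∑ χ ∈ b0Finset M G, (χ : G → ℂ) 1 * conj ((χ : G → ℂ) 1) = 0 := by
      rw [← h0]
      refine Finset.sum_congr rfl (fun χ hχ => ?_)
      rw [← hval χ (mem_b0Finset.1 hχ)]
    have h2 := congrArg Complex.re h1
    rw [Complex.re_sum, Complex.zero_re] at h2
    have hnn : ∀ χ ∈ b0Finset M G, 0 ≤ ((χ : G → ℂ) 1 * conj ((χ : G → ℂ) 1)).re := by
      intro χ _
      rw [Complex.mul_conj]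
      exact_mod_cast Complex.normSq_nonneg _
    have hPr : M.IsPrime := Cfsg.Agent.Lib.H23.isPrime_of_isPModular hM
    have h3 := (Finset.sum_eq_zero_iff_of_nonneg hnn).1 h2 (trivialIrr G)
      (mem_b0Finset.2 Cfsg.Agent.Lib.H23.trivialIrr_mem_principalBlock)
    rw [trivialIrr_apply] at h3
    simp at h3

/-- The class sum of `b` against `a`. -/
theorem sum_conj_eq (χ : IrrCharacter G) (a b : G) :
    ∑ g : G, (χ : G → ℂ) (a * (g * b * g⁻¹)) =
      (Nat.card G : ℂ) * (χ : G → ℂ) a * (χ : G → ℂ) b / (χ : G → ℂ) 1 := by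
  have h := irr_sum_conj_mul χ b a
  rw [show (Nat.card G : ℂ) * (χ : G → ℂ) a * (χ : G → ℂ) b =
    (Nat.card G : ℂ) * (χ : G → ℂ) b * (χ : G → ℂ) a by ring, ← h]
  refine Finset.sum_congr rfl (fun g _ => ?_)
  rw [irr_mul_comm]

open scoped Classical in
include hνN hνmul hloc1 in
/-- CS.  The class-sum formula on the principal block. -/
theorem cs_formula [Fintype ↥N] (χ : IrrCharacter G) (hχ : χ ∈ principalBlock M G) {a b : G}
    (ha : a ∈ H) (hb : b ∈ H) :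
    (Nat.card ↥N : ℂ) * ((Nat.card G : ℂ) * (χ : G → ℂ) a * (χ : G → ℂ) b / (χ : G → ℂ) 1) =
      (Nat.card G : ℂ) * (∑ n : ↥N, if a * ((n : G) * b * (n : G)⁻¹) = 1 then 0
        else (χ : G → ℂ) (a * ((n : G) * b * (n : G)⁻¹))) +
      (Nat.card ↥N : ℂ) * ∑ g : G, if a * (ν g * b * (ν g)⁻¹) = 1
        then (χ : G → ℂ) (a * (g * b * g⁻¹)) else 0 := by
  have hE := sum_comp_equivariant N ν hνN hνmul
    (fun x => if a * (x * b * x⁻¹) = 1 then 0 else (χ : G → ℂ) (a * (x * b * x⁻¹)))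
  rw [← hE, ← mul_add, ← Finset.sum_add_distrib, ← sum_conj_eq]
  congr 1
  refine Finset.sum_congr rfl (fun g _ => ?_)
  by_cases hI : a * (ν g * b * (ν g)⁻¹) = 1
  · simp only [if_pos hI, zero_add]
  · simp only [if_neg hI, add_zero]
    exact hloc1 g a ha b hb hI χ hχ

include hνN hνmul in
/-- The size of `I(a,b)`. -/
theorem card_I (a b : G) :
    Nat.card ↥N * Nat.card {g : G // a * (ν g * b * (ν g)⁻¹) = 1} =
      Nat.card G * Nat.card {n : ↥N // a * ((n : G) * b * (n : G)⁻¹) = 1} :=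
  card_comp_equivariant N ν hνN hνmul (fun x => a * (x * b * x⁻¹) = 1)

include hνN hνmul hloc1 in
/-- CS0.  When no `N`-conjugate of `b` is `a⁻¹`. -/
theorem cs0 [Fintype ↥N] (χ : IrrCharacter G) (hχ : χ ∈ principalBlock M G) {a b : G}
    (ha : a ∈ H) (hb : b ∈ H) (hne : ∀ n ∈ N, a * (n * b * n⁻¹) ≠ 1) :
    (χ : G → ℂ) a * (χ : G → ℂ) b / (χ : G → ℂ) 1 =
      (∑ n : ↥N, (χ : G → ℂ) (a * ((n : G) * b * (n : G)⁻¹))) / (Nat.card ↥N : ℂ) := by
  classical
  have h := cs_formula H N ν hνN hνmul hloc1 χ hχ ha hb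
  have h1 : ∀ n : ↥N, (if a * ((n : G) * b * (n : G)⁻¹) = 1 then (0 : ℂ)
      else (χ : G → ℂ) (a * ((n : G) * b * (n : G)⁻¹))) =
      (χ : G → ℂ) (a * ((n : G) * b * (n : G)⁻¹)) := fun n => if_neg (hne n n.2)
  have h2 : ∀ g : G, (if a * (ν g * b * (ν g)⁻¹) = 1
      then (χ : G → ℂ) (a * (g * b * g⁻¹)) else (0 : ℂ)) = 0 := fun g => if_neg (hne _ (hνN g))
  simp only [h1, h2, Finset.sum_const_zero, mul_zero, add_zero] at h
  have hN0 : (Nat.card ↥N : ℂ) ≠ 0 := by exact_mod_cast (Nat.card_pos (α := ↥N)).ne'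
  have hG0 : (Nat.card G : ℂ) ≠ 0 := by exact_mod_cast (Nat.card_pos (α := G)).ne'
  rw [eq_div_iff hN0]
  apply mul_left_cancel₀ hG0
  rw [← h]
  ring

include hM hH2 hNH hνN hνmul hloc1 hloc2 in
/-- ORTH. -/
theorem orth [Fintype ↥N] {a b c : G} (ha : a ∈ H) (hb : b ∈ H) (hc : c ∈ H) (hc1 : c ≠ 1) :
    ∑ᶠ χ ∈ principalBlock M G,
        (χ : G → ℂ) a * (χ : G → ℂ) b * conj ((χ : G → ℂ) c) / (χ : G → ℂ) 1 =
      (∑ᶠ χ ∈ principalBlock M G, (χ : G → ℂ) c * conj ((χ : G → ℂ) c)) / (Nat.card ↥N : ℂ) *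
        (Nat.card {n : ↥N // IsConj (a * ((n : G) * b * (n : G)⁻¹)) c} : ℂ) := by
  classical
  have hN0 : (Nat.card ↥N : ℂ) ≠ 0 := by exact_mod_cast (Nat.card_pos (α := ↥N)).ne'
  have hG0 : (Nat.card G : ℂ) ≠ 0 := by exact_mod_cast (Nat.card_pos (α := G)).ne'
  have hcH := exists_orderOf_of_mem hH2 hc
  set γ : ℂ := ∑ᶠ χ ∈ principalBlock M G, (χ : G → ℂ) c * conj ((χ : G → ℂ) c) with hγ
  -- termwise
  have hterm : ∀ χ : IrrCharacter G,
      (χ : G → ℂ) a * (χ : G → ℂ) b * conj ((χ : G → ℂ) c) / (χ : G → ℂ) 1 =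
      (Nat.card G : ℂ)⁻¹ * ∑ g : G, (χ : G → ℂ) (a * (g * b * g⁻¹)) * conj ((χ : G → ℂ) c) := by
    intro χ
    rw [← Finset.sum_mul, sum_conj_eq]
    field_simp
  -- per `g`
  have hg : ∀ g : G, ∑ χ ∈ b0Finset M G,
      (χ : G → ℂ) (a * (g * b * g⁻¹)) * conj ((χ : G → ℂ) c) =
      if IsConj (a * (ν g * b * (ν g)⁻¹)) c then γ else 0 := by
    intro g
    rw [← finsum_b0_eq_sum]
    by_cases hI : a * (ν g * b * (ν g)⁻¹) = 1
    · rw [odd_term_zero hM H ν hloc2 ha hb hc hc1 hI hcH, if_neg]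
      rw [hI]
      intro h
      exact hc1 (isConj_one_right.1 h)
    · have hxH : a * (ν g * b * (ν g)⁻¹) ∈ H := sh_mul_conj_mem H N hNH ha (hνN g) hb
      have hcongr : ∑ᶠ χ ∈ principalBlock M G,
          (χ : G → ℂ) (a * (g * b * g⁻¹)) * conj ((χ : G → ℂ) c) =
          ∑ᶠ χ ∈ principalBlock M G,
          (χ : G → ℂ) (a * (ν g * b * (ν g)⁻¹)) * conj ((χ : G → ℂ) c) :=
        finsum_mem_congr rfl (fun χ hχ => by rw [hloc1 g a ha b hb hI χ hχ])
      rw [hcongr]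
      by_cases hcj : IsConj (a * (ν g * b * (ν g)⁻¹)) c
      · rw [if_pos hcj, hγ]
        exact finsum_mem_congr rfl (fun χ _ => by rw [irr_eq_of_isConj χ hcj])
      · rw [if_neg hcj]
        exact b0_orth hM (isPPart_self_two (exists_orderOf_of_mem hH2 hxH)) (isPPart_self_two hcH) hcj
  have hE := sum_comp_equivariant N ν hνN hνmul
    (fun x => if IsConj (a * (x * b * x⁻¹)) c then γ else 0)
  rw [finsum_b0_eq_sum]
  simp only [hterm]
  rw [← Finset.mul_sum, Finset.sum_comm]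
  simp only [hg]
  have hcount : ∑ n : ↥N, (if IsConj (a * ((n : G) * b * (n : G)⁻¹)) c then γ else 0) =
      γ * (Nat.card {n : ↥N // IsConj (a * ((n : G) * b * (n : G)⁻¹)) c} : ℂ) := by
    rw [← Finset.sum_filter, Finset.sum_const, nsmul_eq_mul, Nat.card_eq_fintype_card,
      Fintype.card_subtype]
    ring
  rw [hcount] at hE
  have : ∑ g : G, (if IsConj (a * (ν g * b * (ν g)⁻¹)) c then γ else 0) =
      (Nat.card G : ℂ) * (γ * (Nat.card {n : ↥N // IsConj (a * ((n : G) * b * (n : G)⁻¹)) c} : ℂ)) /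
        (Nat.card ↥N : ℂ) := by
    rw [eq_div_iff hN0, ← hE]
    ring
  rw [this]
  field_simp

include hM hH2 hNH hνN hνmul hloc1 hloc2 in
/-- ORTH with `N`-conjugacy in the count (by FUS). -/
theorem orth' [Fintype ↥N] {a b c : G} (ha : a ∈ H) (hb : b ∈ H) (hc : c ∈ H) (hc1 : c ≠ 1) :
    ∑ᶠ χ ∈ principalBlock M G,
        (χ : G → ℂ) a * (χ : G → ℂ) b * conj ((χ : G → ℂ) c) / (χ : G → ℂ) 1 =
      (∑ᶠ χ ∈ principalBlock M G, (χ : G → ℂ) c * conj ((χ : G → ℂ) c)) / (Nat.card ↥N : ℂ) *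
        (Nat.card {n : ↥N // ∃ n' ∈ N, a * ((n : G) * b * (n : G)⁻¹) = n' * c * n'⁻¹} : ℂ) := by
  rw [orth hM H N hH2 hNH ν hνN hνmul hloc1 hloc2 ha hb hc hc1]
  congr 2
  apply Nat.card_congr
  refine Equiv.subtypeEquivRight (fun n => ?_)
  constructor
  · intro h
    obtain ⟨n', hn', hn'c⟩ := fus hM H N hH2 hNH ν hνN hloc1
      (sh_mul_conj_mem H N hNH ha n.2 hb) hc h.symm
    exact ⟨n', hn', hn'c.symm⟩
  · rintro ⟨n', -, hn'c⟩
    rw [hn'c]
    exact (isConj_iff.2 ⟨n', rfl⟩).symm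

end Core

/-- The S0942 step: an element conjugate to `h * w`, `h` a `2`-element, `w ∈ O(C_G(h))`, has the same values as `h`
under the characters of the principal `2`-block. -/
theorem apply_eq_of_conj_mul_core (hM : IsPModular 2 M) (χ : IrrCharacter G)
    (hχ : χ ∈ principalBlock M G) {h w x y : G} (hh : ∃ k : ℕ, orderOf h = 2 ^ k)
    (hw : w ∈ Cfsg.centralizerPPrimeCore 2 h) (hx : x * y * x⁻¹ = h * w) :
    (χ : G → ℂ) y = (χ : G → ℂ) h := by
  rw [← irr_conj χ y x, hx]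
  exact Cfsg.Agent.S0942.result 2 M hM h hh w hw χ hχ

end Cfsg.Agent.Lib.H23.SH
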