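import Cfsg.Agent.Lib.H23.SHCS
import Cfsg.Agent.Lib.H9.SHLOC

/-!
# S3017: the class-sum side on helper9's landed LOC (helper23)

`exists_nu` turns `H9.SH.loc_main` (+ uniqueness of `g = k ν`, `K_{g n} = K_g`, S0942) into the function-form input of
`SHCS`; then FUS / CS0 / ORTH / CS hold with `N = N_G(H)` under the hypotheses of the minimal configuration only:
`H` an abelian extremely closed `2`-subgroup and the induction hypothesis for the centralizers `C_G(h)`, `h ∈ H#`.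
-/

set_option autoImplicit false
set_option linter.unusedSectionVars false
set_option linter.unusedVariables false

namespace Cfsg.Agent.Lib.H23.SH

open Cfsg Cfsg.Agent.Lib.H24 Cfsg.Agent.Lib.H9.SH
open scoped ComplexConjugate

variable {G : Type*} [Group G] [Fintype G] {M : Ideal AlgInt}

section Loc

variable (hM : IsPModular 2 M) {H : Subgroup G} (hH2 : IsPGroup 2 H) (hHab : IsMulCommutative H)
  (hcl : Cfsg.IsExtremelyClosed H)
  (hIH : ∀ h ∈ H, h ≠ 1 → Subgroup.normalizer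
      ((H.subgroupOf (Subgroup.centralizer ({h} : Set G)) :
        Subgroup ↥(Subgroup.centralizer ({h} : Set G))) :
        Set ↥(Subgroup.centralizer ({h} : Set G))) ⊔
      Cfsg.oddCore ↥(Subgroup.centralizer ({h} : Set G)) = ⊤)

include hM hH2 hHab hcl hIH in
/-- LOC in function form. -/
theorem exists_nu :
    ∃ ν : G → G, (∀ g, ν g ∈ Subgroup.normalizer (H : Set G)) ∧
      (∀ g, ∀ n ∈ Subgroup.normalizer (H : Set G), ν (g * n) = ν g * n) ∧
      (∀ g, ∀ a ∈ H, ∀ b ∈ H, a * (ν g * b * (ν g)⁻¹) ≠ 1 →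
        ∀ χ ∈ principalBlock M G,
          (χ : G → ℂ) (a * (g * b * g⁻¹)) = (χ : G → ℂ) (a * (ν g * b * (ν g)⁻¹))) ∧
      (∀ g, ∀ a ∈ H, ∀ b ∈ H, a * (ν g * b * (ν g)⁻¹) = 1 →
        Odd (orderOf (a * (g * b * g⁻¹)))) := by
  choose k hk ν hν hg hprop using fun g => loc_main hH2 hHab hcl hIH g
  refine ⟨ν, hν, ?_, ?_, ?_⟩
  · intro g n hn
    have h1 : k (g * n) ∈ Kg H g := by
      have := hk (g * n)
      rwa [Kg_mul_normalizer H g hn] at this
    have h2 : k (g * n) * ν (g * n) = k g * (ν g * n) := by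
      rw [← hg (g * n), ← mul_assoc, ← hg g]
    exact (struct_unique hH2 hHab hcl g h1 (hk g) (hν _)
      (Subgroup.mul_mem _ (hν g) hn) h2).2
  · intro g a ha b hb hne χ hχ
    obtain ⟨x, w, hw, hx⟩ := (hprop g a ha b hb).1 hne
    have hmem : a * (ν g * b * (ν g)⁻¹) ∈ H :=
      sh_mul_conj_mem H (Subgroup.normalizer (H : Set G)) le_rfl ha (hν g) hb
    exact apply_eq_of_conj_mul_core hM χ hχ (exists_orderOf_of_mem hH2 hmem) hw hx
  · intro g a ha b hb h1
    exact (hprop g a ha b hb).2 h1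

include hM hH2 hHab hcl hIH in
/-- FUS on LOC: `N_G(H)` controls fusion in `H`. -/
theorem fus_of_loc {h c : G} (hh : h ∈ H) (hc : c ∈ H) (hconj : IsConj c h) :
    ∃ n ∈ Subgroup.normalizer (H : Set G), n * c * n⁻¹ = h := by
  obtain ⟨ν, hνN, hνmul, hloc1, hloc2⟩ := exists_nu hM hH2 hHab hcl hIH
  exact fus hM H _ hH2 le_rfl ν hνN hloc1 hh hc hconj

include hM hH2 hHab hcl hIH in
/-- CS0 on LOC. -/
theorem cs0_of_loc [Fintype ↥(Subgroup.normalizer (H : Set G))] (χ : IrrCharacter G)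
    (hχ : χ ∈ principalBlock M G) {a b : G} (ha : a ∈ H) (hb : b ∈ H)
    (hne : ∀ n ∈ Subgroup.normalizer (H : Set G), a * (n * b * n⁻¹) ≠ 1) :
    (χ : G → ℂ) a * (χ : G → ℂ) b / (χ : G → ℂ) 1 =
      (∑ n : ↥(Subgroup.normalizer (H : Set G)),
        (χ : G → ℂ) (a * ((n : G) * b * (n : G)⁻¹))) /
        (Nat.card ↥(Subgroup.normalizer (H : Set G)) : ℂ) := by
  obtain ⟨ν, hνN, hνmul, hloc1, hloc2⟩ := exists_nu hM hH2 hHab hcl hIH
  exact cs0 H _ ν hνN hνmul hloc1 χ hχ ha hb hne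

include hM hH2 hHab hcl hIH in
/-- ORTH on LOC (orbit-count form). -/
theorem orth_of_loc [Fintype ↥(Subgroup.normalizer (H : Set G))] {a b c : G}
    (ha : a ∈ H) (hb : b ∈ H) (hc : c ∈ H) (hc1 : c ≠ 1) :
    ∑ᶠ χ ∈ principalBlock M G,
        (χ : G → ℂ) a * (χ : G → ℂ) b * conj ((χ : G → ℂ) c) / (χ : G → ℂ) 1 =
      (∑ᶠ χ ∈ principalBlock M G, (χ : G → ℂ) c * conj ((χ : G → ℂ) c)) /
          (Nat.card ↥(Subgroup.normalizer (H : Set G)) : ℂ) *
        (Nat.card {n : ↥(Subgroup.normalizer (H : Set G)) //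
          ∃ n' ∈ Subgroup.normalizer (H : Set G),
            a * ((n : G) * b * (n : G)⁻¹) = n' * c * n'⁻¹} : ℂ) := by
  obtain ⟨ν, hνN, hνmul, hloc1, hloc2⟩ := exists_nu hM hH2 hHab hcl hIH
  exact orth' hM H _ hH2 le_rfl ν hνN hνmul hloc1 hloc2 ha hb hc hc1

open scoped Classical in
include hM hH2 hHab hcl hIH in
/-- CS on LOC, with the set `I(a,b)` described through `ν`. -/
theorem cs_of_loc [Fintype ↥(Subgroup.normalizer (H : Set G))] :
    ∃ ν : G → G, (∀ g, ν g ∈ Subgroup.normalizer (H : Set G)) ∧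
      (∀ g, ∀ a ∈ H, ∀ b ∈ H, a * (ν g * b * (ν g)⁻¹) = 1 →
        Odd (orderOf (a * (g * b * g⁻¹)))) ∧
      (∀ a b : G, Nat.card ↥(Subgroup.normalizer (H : Set G)) *
          Nat.card {g : G // a * (ν g * b * (ν g)⁻¹) = 1} =
        Nat.card G * Nat.card {n : ↥(Subgroup.normalizer (H : Set G)) //
          a * ((n : G) * b * (n : G)⁻¹) = 1}) ∧
      ∀ χ ∈ principalBlock M G, ∀ a ∈ H, ∀ b ∈ H,
        (Nat.card ↥(Subgroup.normalizer (H : Set G)) : ℂ) *
            ((Nat.card G : ℂ) * (χ : G → ℂ) a * (χ : G → ℂ) b / (χ : G → ℂ) 1) =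
          (Nat.card G : ℂ) * (∑ n : ↥(Subgroup.normalizer (H : Set G)),
            if a * ((n : G) * b * (n : G)⁻¹) = 1 then 0
            else (χ : G → ℂ) (a * ((n : G) * b * (n : G)⁻¹))) +
          (Nat.card ↥(Subgroup.normalizer (H : Set G)) : ℂ) *
            ∑ g : G, if a * (ν g * b * (ν g)⁻¹) = 1
              then (χ : G → ℂ) (a * (g * b * g⁻¹)) else 0 := by
  obtain ⟨ν, hνN, hνmul, hloc1, hloc2⟩ := exists_nu hM hH2 hHab hcl hIH
  refine ⟨ν, hνN, hloc2, fun a b => card_I _ ν hνN hνmul a b, ?_⟩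
  intro χ hχ a ha b hb
  exact cs_formula H _ ν hνN hνmul hloc1 χ hχ ha hb

end Loc

end Cfsg.Agent.Lib.H23.SH
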