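import Cfsg.Agent.Lib.H9.SHLOCp

/-!
# S3016 (Shult, odd `p`), CASE B with `|H| = p` (in particular `q = 3`): the glue Q3-GLUE (helper23)

`H` an extremely closed subgroup of prime order `p`, `a ∈ H#`, `b ∈ H`, `g : G`, `y := a * (g * b * g⁻¹)`.
If `y` is `p`-regular then `y` lies in `L := K_g = O_{p'}(⟨H, H^g⟩)`, `a` normalizes `L`, and every element
of the coset `a L` is conjugate to `a` (because `C_{K_g}(a) = C_{K_g}(H) ≤ K_g ⊓ N_G(H) = 1`).
This is the input of the pointwise bound `Re χ(y) ≥ 2 Re χ(a) - χ(1)` (helper26's Lemma Q3).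
-/

set_option autoImplicit false
set_option linter.unusedSectionVars false

namespace Cfsg.Agent.Lib.H23.SHQ3

open Cfsg Cfsg.Agent.Lib.H9.SHp

variable {G : Type*} [Group G] [Finite G]

/-- powers of `h * u`, `h ∈ H`, `u ∈ K_g`, stay in `h ^ n * K_g`. -/
theorem pow_mul_mem_Kg (p : ℕ) (H : Subgroup G) (g : G) {h u : G} (hh : h ∈ H)
    (hu : u ∈ Kg p H g) (n : ℕ) : ∃ z ∈ Kg p H g, (h * u) ^ n = h ^ n * z := by
  induction n with
  | zero => exact ⟨1, (Kg p H g).one_mem, by simp⟩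
  | succ n ih =>
    obtain ⟨z, hz, hzn⟩ := ih
    refine ⟨h⁻¹ * z * h * u, ?_, ?_⟩
    · refine (Kg p H g).mul_mem ?_ hu
      have := Kg_conj_mem p H g (H_le_Tg H g (H.inv_mem hh)) hz
      simpa using this
    · rw [pow_succ, hzn, pow_succ]; group

/-- in a subgroup of prime order every element is a power of a given nontrivial element. -/
theorem exists_zpow_of_card_prime {p : ℕ} [hp : Fact p.Prime] {H : Subgroup G}
    (hcard : Nat.card H = p) {a : G} (ha : a ∈ H) (ha1 : a ≠ 1) {h : G} (hh : h ∈ H) :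
    ∃ n : ℤ, a ^ n = h := by
  have htop : Subgroup.zpowers (⟨a, ha⟩ : ↥H) = ⊤ := by
    have hdvd : Nat.card (Subgroup.zpowers (⟨a, ha⟩ : ↥H)) ∣ p := by
      rw [← hcard]; exact Subgroup.card_subgroup_dvd_card _
    rcases (Nat.dvd_prime hp.out).1 hdvd with h1 | h1
    · exfalso
      have hbot : Subgroup.zpowers (⟨a, ha⟩ : ↥H) = ⊥ := Subgroup.card_eq_one.1 h1
      rw [Subgroup.zpowers_eq_bot] at hbot
      exact ha1 (congrArg Subtype.val hbot)
    · apply Subgroup.eq_top_of_card_eq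
      rw [h1, hcard]
  have hmem : (⟨h, hh⟩ : ↥H) ∈ Subgroup.zpowers (⟨a, ha⟩ : ↥H) := by
    rw [htop]; exact Subgroup.mem_top _
  obtain ⟨n, hn⟩ := Subgroup.mem_zpowers_iff.1 hmem
  refine ⟨n, ?_⟩
  have := congrArg Subtype.val hn
  simpa using this

/-- a nontrivial element of a subgroup of prime order `p` has order `p`. -/
theorem orderOf_eq_of_card_prime {p : ℕ} [hp : Fact p.Prime] {H : Subgroup G}
    (hcard : Nat.card H = p) {a : G} (ha : a ∈ H) (ha1 : a ≠ 1) : orderOf a = p := by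
  have h1 : orderOf (⟨a, ha⟩ : ↥H) ∣ p := by
    rw [← hcard]; exact orderOf_dvd_natCard _
  rw [Subgroup.orderOf_mk] at h1
  rcases (Nat.dvd_prime hp.out).1 h1 with h2 | h2
  · exact absurd (orderOf_eq_one_iff.1 h2) ha1
  · exact h2

section glue

variable {p : ℕ} [hp : Fact p.Prime] {H : Subgroup G} (hHp : IsPGroup p H)
  (hHab : IsMulCommutative H) (hcl : Cfsg.IsExtremelyClosed H) (hcard : Nat.card H = p)

include hHp hHab hcl hcard

/-- `C_{K_g}(a) = 1` for `a ∈ H#`, `|H| = p`. -/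
theorem eq_one_of_mem_Kg_of_commute (g : G) {a w : G} (ha : a ∈ H) (ha1 : a ≠ 1)
    (hw : w ∈ Kg p H g) (hwa : w * a = a * w) : w = 1 := by
  have hcomm : ∀ h ∈ H, w * h * w⁻¹ = h := by
    intro h hh
    obtain ⟨n, rfl⟩ := exists_zpow_of_card_prime hcard ha ha1 hh
    have hc : Commute w a := hwa
    have := (hc.zpow_right n).eq
    calc w * a ^ n * w⁻¹ = a ^ n * w * w⁻¹ := by rw [this]
      _ = a ^ n := by group
  have hN : w ∈ Subgroup.normalizer (H : Set G) := by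
    rw [Subgroup.mem_normalizer_iff]
    intro h
    constructor
    · intro hh
      rw [hcomm h hh]; exact hh
    · intro hh
      have h1 := hcomm _ hh
      have h2 : h = w⁻¹ * (w * h * w⁻¹) * w := by group
      have h3 : w⁻¹ * (w * h * w⁻¹) * w = w * h * w⁻¹ := by
        calc w⁻¹ * (w * h * w⁻¹) * w = w⁻¹ * (w * (w * h * w⁻¹) * w⁻¹) * w := by rw [h1]
          _ = w * h * w⁻¹ := by group
      rw [h2, h3]; exact hh
  have h2 : w ∈ Kg p H g ⊓ Subgroup.normalizer (H : Set G) := ⟨hw, hN⟩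
  rw [Kg_inf_normalizer hHp hHab hcl g, Subgroup.mem_bot] at h2
  exact h2

/-- every element of `a K_g` is conjugate to `a`. -/
theorem isConj_mul_of_mem_Kg (g : G) {a l : G} (ha : a ∈ H) (ha1 : a ≠ 1)
    (hl : l ∈ Kg p H g) : IsConj (a * l) a := by
  obtain ⟨k, -, w, hw, hwa, hkw⟩ := coset_conj_Kg hHp hHab hcl g ha hl
  have hw1 := eq_one_of_mem_Kg_of_commute hHp hHab hcl hcard g ha ha1 hw hwa
  rw [hw1, mul_one] at hkw
  exact isConj_iff.2 ⟨k, hkw⟩

/-- **Q3-GLUE.**  If `y = a * (g b g⁻¹)` is `p`-regular, it lies in `L = K_g`, which `a` normalizes and on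
whose coset `a L` everything is conjugate to `a`. -/
theorem q3_glue (g : G) {a b : G} (ha : a ∈ H) (ha1 : a ≠ 1) (hb : b ∈ H)
    (hreg : ¬ p ∣ orderOf (a * (g * b * g⁻¹))) :
    ∃ L : Subgroup G, a * (g * b * g⁻¹) ∈ L ∧ (∀ l ∈ L, a * l * a⁻¹ ∈ L) ∧
      (∀ l ∈ L, a⁻¹ * l * a ∈ L) ∧ ∀ l ∈ L, IsConj (a * l) a := by
  refine ⟨Kg p H g, ?_, ?_, ?_, ?_⟩
  · obtain ⟨k, hk, ν, hν, hg⟩ := exists_struct hHp hHab hcl g
    have hb' : ν * b * ν⁻¹ ∈ H := ((Subgroup.mem_normalizer_iff.1 hν) b).1 hb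
    have hab' : a * (ν * b * ν⁻¹) ∈ H := H.mul_mem ha hb'
    have hu : (ν * b * ν⁻¹)⁻¹ * k * (ν * b * ν⁻¹) * k⁻¹ ∈ Kg p H g := by
      refine (Kg p H g).mul_mem ?_ ((Kg p H g).inv_mem hk)
      have := Kg_conj_mem p H g (H_le_Tg H g (H.inv_mem hb')) hk
      simpa using this
    have hdec : a * (g * b * g⁻¹) =
        (a * (ν * b * ν⁻¹)) * ((ν * b * ν⁻¹)⁻¹ * k * (ν * b * ν⁻¹) * k⁻¹) := by
      rw [hg]; group
    by_cases he : a * (ν * b * ν⁻¹) = 1
    · rw [hdec, he, one_mul]; exact hu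
    · exfalso
      apply hreg
      obtain ⟨z, hz, hzn⟩ := pow_mul_mem_Kg p H g hab' hu (orderOf (a * (g * b * g⁻¹)))
      rw [← hdec, pow_orderOf_eq_one] at hzn
      have h1 : (a * (ν * b * ν⁻¹)) ^ orderOf (a * (g * b * g⁻¹)) = z⁻¹ :=
        eq_inv_of_mul_eq_one_left hzn.symm
      have h2 : (a * (ν * b * ν⁻¹)) ^ orderOf (a * (g * b * g⁻¹)) ∈ H ⊓ Kg p H g :=
        ⟨H.pow_mem hab' _, h1 ▸ (Kg p H g).inv_mem hz⟩
      rw [H_inf_Kg hHp hHab hcl g, Subgroup.mem_bot] at h2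
      have h3 := orderOf_dvd_of_pow_eq_one h2
      rwa [orderOf_eq_of_card_prime hcard hab' he] at h3
  · intro l hl
    exact Kg_conj_mem p H g (H_le_Tg H g ha) hl
  · intro l hl
    have := Kg_conj_mem p H g (H_le_Tg H g (H.inv_mem ha)) hl
    simpa using this
  · intro l hl
    exact isConj_mul_of_mem_Kg hHp hHab hcl hcard g ha ha1 hl

end glue

end Cfsg.Agent.Lib.H23.SHQ3
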