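import Mathlib
import Cfsg.Agent.S4072

/-!
# Tools for S4073: groups in which every non-abelian subgroup is self-normalizing (`SN`)

* `sn_of_equiv` : `SN` is invariant under isomorphism;
* `pgroup_comm_of_not_nilpotent` (L1) : in a solvable non-nilpotent `SN`-group all subgroups of
  prime power order are abelian;
* `eq_top_of_nonabelian_pgroup` (L2) : a non-simple `SN`-group containing a non-abelian `q`-subgroup
  `S` equals `S`;
* `minnonab_centralizer` (L3) : centralizers of non-central elements in minimal non-abelian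
  `p`-groups.
-/

set_option autoImplicit false
set_option linter.style.haveILetI false

namespace Cfsg.Agent.Lib.H23.SNS

open Cfsg.Agent.S4072 (SN)

/-- SN is invariant under isomorphism. -/
theorem sn_of_equiv {G H : Type*} [Group G] [Group H] (e : G ≃* H) (h : SN G) : SN H := by
  intro K hK
  have hsurj : Function.Surjective e.toMonoidHom := e.surjective
  have hK' : ¬ IsMulCommutative (K.comap e.toMonoidHom) := by
    intro hc
    apply hK
    refine ⟨⟨fun a b => ?_⟩⟩
    have ha : e.symm a.1 ∈ K.comap e.toMonoidHom := by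
      rw [Subgroup.mem_comap]; simp
    have hb : e.symm b.1 ∈ K.comap e.toMonoidHom := by
      rw [Subgroup.mem_comap]; simp
    have := Cfsg.Agent.S4071.comm_of_isMulCommutative hc _ ha _ hb
    apply Subtype.ext
    have h2 := congrArg e this
    simpa using h2
  have h1 := h _ hK'
  apply Subgroup.comap_injective hsurj
  rw [Subgroup.comap_normalizer_eq_of_surjective _ hsurj, h1]

/-- L1: in a solvable non-nilpotent SN-group every subgroup of prime power order is abelian. -/
theorem pgroup_comm_of_not_nilpotent {K : Type*} [Group K] [Finite K] (h : SN K)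
    (hsol : Group.IsSolvable K) (hnn : ¬ Group.IsNilpotent K) (q : ℕ) [Fact q.Prime]
    (Q : Subgroup K) (hQ : IsPGroup q Q) : ∀ a ∈ Q, ∀ b ∈ Q, a * b = b * a := by
  classical
  haveI := hsol
  obtain ⟨x, A, p, hp, hAn, hAc, ⟨k, hk⟩, hpA, hcompl, -, -⟩ := Cfsg.Agent.S4071.forward hnn h
  haveI := hAn
  have hAcomm := Cfsg.Agent.S4071.comm_of_isMulCommutative hAc
  -- decomposition
  have hdec : ∀ g : K, ∃ (i : ℤ) (a : K), a ∈ A ∧ g = x ^ i * a := by
    intro g
    obtain ⟨⟨⟨s, hs⟩, ⟨t, ht⟩⟩, hst⟩ := hcompl.2 g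
    obtain ⟨i, rfl⟩ := Subgroup.mem_zpowers_iff.mp hs
    exact ⟨i, t, ht, hst.symm⟩
  -- image in the quotient
  have hπ : ∀ g : K, ∃ i : ℤ, (QuotientGroup.mk' A) g = (QuotientGroup.mk' A x) ^ i := by
    intro g
    obtain ⟨i, a, ha, rfl⟩ := hdec g
    refine ⟨i, ?_⟩
    have h1 : (QuotientGroup.mk' A) a = 1 := by
      rw [QuotientGroup.mk'_apply]; exact (QuotientGroup.eq_one_iff a).mpr ha
    rw [map_mul, map_zpow, h1, mul_one]
  -- commutators lie in A
  have hcomA : ∀ a b : K, a * b * a⁻¹ * b⁻¹ ∈ A := by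
    intro a b
    obtain ⟨i, hi⟩ := hπ a
    obtain ⟨j, hj⟩ := hπ b
    rw [← QuotientGroup.eq_one_iff, ← QuotientGroup.mk'_apply, map_mul, map_mul, map_mul, map_inv,
      map_inv, hi, hj]
    rw [← zpow_add, ← zpow_neg, ← zpow_add, ← zpow_neg, ← zpow_add]
    have : i + j + -i + -j = 0 := by ring
    rw [this, zpow_zero]
  -- p^k-th powers lie in A
  have hpowA : ∀ g : K, g ^ (p ^ k) ∈ A := by
    intro g
    obtain ⟨i, hi⟩ := hπ g
    rw [← QuotientGroup.eq_one_iff, ← QuotientGroup.mk'_apply, map_pow, hi, ← zpow_natCast,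
      ← zpow_mul, mul_comm, zpow_mul, zpow_natCast, ← map_pow, ← hk, pow_orderOf_eq_one, map_one,
      one_zpow]
  intro a ha b hb
  by_cases hqp : q = p
  · -- the commutator is a p-element of A
    subst hqp
    have hc : a * b * a⁻¹ * b⁻¹ ∈ Q := Q.mul_mem (Q.mul_mem (Q.mul_mem ha hb) (Q.inv_mem ha)) (Q.inv_mem hb)
    obtain ⟨j, hj⟩ := hQ ⟨_, hc⟩
    have hj' : (a * b * a⁻¹ * b⁻¹) ^ (q ^ j) = 1 := by
      have := congrArg Subtype.val hj
      simpa using this
    have h3 : orderOf (a * b * a⁻¹ * b⁻¹) ∣ q ^ j := orderOf_dvd_of_pow_eq_one hj'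
    have h4 : orderOf (a * b * a⁻¹ * b⁻¹) ∣ Nat.card A := by
      have := orderOf_dvd_natCard (⟨_, hcomA a b⟩ : A)
      rwa [Subgroup.orderOf_mk] at this
    have h5 : Nat.Coprime (q ^ j) (Nat.card A) :=
      Nat.Coprime.pow_left j ((Nat.Prime.coprime_iff_not_dvd hp).mpr hpA)
    have h6 : orderOf (a * b * a⁻¹ * b⁻¹) = 1 := Nat.eq_one_of_dvd_coprimes h5 h3 h4
    have h7 : a * b * a⁻¹ * b⁻¹ = 1 := orderOf_eq_one_iff.mp h6
    calc a * b = (a * b * a⁻¹ * b⁻¹) * (b * a) := by group
      _ = b * a := by rw [h7, one_mul]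
  · -- Q ≤ A
    have hQA : ∀ g ∈ Q, g ∈ A := by
      intro g hg
      obtain ⟨j, hj⟩ := hQ ⟨g, hg⟩
      have hj' : g ^ (q ^ j) = 1 := by
        have := congrArg Subtype.val hj
        simpa using this
      have h3 : orderOf g ∣ q ^ j := orderOf_dvd_of_pow_eq_one hj'
      have hcop : Nat.Coprime (p ^ k) (orderOf g) := by
        apply Nat.Coprime.coprime_dvd_right h3
        apply Nat.Coprime.pow
        exact (Nat.coprime_primes hp (Fact.out : q.Prime)).mpr (Ne.symm hqp)
      obtain ⟨m, hm⟩ := exists_pow_eq_self_of_coprime hcop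
      rw [← hm]
      exact A.pow_mem (hpowA g) m
    exact hAcomm a (hQA a ha) b (hQA b hb)

/-- L2: an SN-group that is not simple and contains a non-abelian q-subgroup S equals S. -/
theorem eq_top_of_nonabelian_pgroup {K : Type*} [Group K] [Finite K] (h : SN K)
    (hns : ¬ IsSimpleGroup K) (q : ℕ) [Fact q.Prime] (S : Subgroup K) (hS : IsPGroup q S)
    (hSna : ¬ IsMulCommutative S) : S = ⊤ := by
  have hsol : Group.IsSolvable K := (Cfsg.Agent.S4072.result h).resolve_right hns
  by_cases hnil : Group.IsNilpotent K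
  · haveI := hnil
    rcases (Cfsg.Agent.S4075.result (G := K)).mp h with hc | ⟨-, -, hprop⟩
    · exfalso
      apply hSna
      exact ⟨⟨fun a b => Subtype.ext (hc.is_comm.comm a.1 b.1)⟩⟩
    · by_contra hne
      exact hSna (hprop S hne)
  · exfalso
    apply hSna
    have := pgroup_comm_of_not_nilpotent h hsol hnil q S hS
    exact ⟨⟨fun a b => Subtype.ext (this a.1 a.2 b.1 b.2)⟩⟩

/-- L3: in a minimal non-abelian p-group, `C_S(w)` (for non-central `w`) has index `p` and
contains every proper subgroup containing `w`. -/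
theorem minnonab_centralizer {S : Type*} [Group S] [Finite S] (p : ℕ) [Fact p.Prime]
    (hS : IsPGroup p S) (hmin : ∀ H : Subgroup S, H ≠ ⊤ → IsMulCommutative H) (w : S)
    (hw : w ∉ Subgroup.center S) :
    (Subgroup.centralizer ({w} : Set S)).index = p ∧
      ∀ H : Subgroup S, H ≠ ⊤ → w ∈ H → H ≤ Subgroup.centralizer ({w} : Set S) := by
  have hp : p.Prime := Fact.out
  have hsecond : ∀ H : Subgroup S, H ≠ ⊤ → w ∈ H → H ≤ Subgroup.centralizer ({w} : Set S) := by
    intro H hH hwH x hx
    rw [Subgroup.mem_centralizer_iff]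
    intro y hy
    rw [Set.mem_singleton_iff.mp hy]
    exact Cfsg.Agent.S4071.comm_of_isMulCommutative (hmin H hH) w hwH x hx
  refine ⟨?_, hsecond⟩
  set C := Subgroup.centralizer ({w} : Set S) with hC
  have hwC : w ∈ C := by
    rw [hC, Subgroup.mem_centralizer_iff]
    intro y hy
    rw [Set.mem_singleton_iff.mp hy]
  have hCtop : C ≠ ⊤ := by
    intro htop
    apply hw
    rw [Subgroup.mem_center_iff]
    intro g
    have hg : g ∈ C := by rw [htop]; trivial
    rw [hC, Subgroup.mem_centralizer_iff] at hg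
    exact (hg w (Set.mem_singleton w)).symm
  obtain ⟨N, hN⟩ := IsPGroup.iff_card.mp hS
  obtain ⟨n, hn⟩ := IsPGroup.iff_card.mp (hS.to_subgroup C)
  have hnN : n < N := by
    by_contra hcon
    push Not at hcon
    apply hCtop
    apply Subgroup.eq_top_of_card_eq
    apply le_antisymm (Subgroup.card_le_card_group C)
    rw [hN, hn]
    exact Nat.pow_le_pow_right hp.pos hcon
  obtain ⟨K, hKcard, hCK⟩ := Sylow.exists_subgroup_card_pow_prime_le p
    (show p ^ (N - 1) ∣ Nat.card S by rw [hN]; exact pow_dvd_pow p (Nat.sub_le N 1)) C hn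
    (by omega)
  have hKtop : K ≠ ⊤ := by
    intro htop
    rw [htop, Subgroup.card_top, hN] at hKcard
    have := Nat.pow_right_injective hp.two_le hKcard
    omega
  have hKC : K ≤ C := hsecond K hKtop (hCK hwC)
  have hCK' : C = K := le_antisymm hCK hKC
  have h1 := C.card_mul_index
  rw [hCK', hKcard, hN] at h1
  have h2 : p ^ N = p ^ (N - 1) * p := by
    rw [← pow_succ]; congr 1; omega
  rw [h2] at h1
  have h3 : 0 < p ^ (N - 1) := pow_pos hp.pos _
  rw [← hCK'] at h1
  exact Nat.eq_of_mul_eq_mul_left h3 h1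

end Cfsg.Agent.Lib.H23.SNS
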