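import Mathlib
import Cfsg.Agent.S4072
import Cfsg.Agent.S0077
import Cfsg.Agent.Lib.H23.SNSTools

/-!
# S4073, piece CA1: a nilpotent centralizer in a simple `SN`-group is abelian

If `C = C_G(x)` is nilpotent and non-abelian then it is a minimal non-abelian `p`-group and a Sylow
`p`-subgroup `S` of `G`; `C_G(z) = S` for all `z ∈ Z(S)#`, `Z(S)` is weakly closed in `S`, and Grün's
theorem (S0077) gives `S = G' ∩ S = S' < S`.
-/

set_option autoImplicit false
set_option linter.style.haveILetI false

namespace Cfsg.Agent.Lib.H23.SNS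

open Cfsg.Agent.S4072 (SN)

theorem not_comm_of_le {G : Type*} [Group G] {H K : Subgroup G} (hHK : H ≤ K)
    (hH : ¬ IsMulCommutative H) : ¬ IsMulCommutative K := by
  intro hc
  apply hH
  refine ⟨⟨fun a b => ?_⟩⟩
  exact Subtype.ext (Cfsg.Agent.S4071.comm_of_isMulCommutative hc a.1 (hHK a.2) b.1 (hHK b.2))

theorem not_comm_subgroupOf {G : Type*} [Group G] {H K : Subgroup G} (hHK : H ≤ K)
    (hH : ¬ IsMulCommutative H) : ¬ IsMulCommutative (H.subgroupOf K) := by
  intro hc
  apply hH
  refine ⟨⟨fun a b => ?_⟩⟩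
  have := hc.is_comm.comm ⟨⟨a.1, hHK a.2⟩, a.2⟩ ⟨⟨b.1, hHK b.2⟩, b.2⟩
  apply Subtype.ext
  have h2 := congrArg (fun z : H.subgroupOf K => ((z : K) : G)) this
  exact h2

theorem not_simple_of_normal {K : Type*} [Group K] (M : Subgroup K) (hM : M.Normal) (h1 : M ≠ ⊥)
    (h2 : M ≠ ⊤) : ¬ IsSimpleGroup K := by
  intro hs
  rcases hs.eq_bot_or_eq_top_of_normal M hM with h | h
  · exact h1 h
  · exact h2 h

/-- a subgroup `K ≥ T`, `T` a non-abelian `p`-subgroup, of an `SN`-group which is not simple equals `T` -/
theorem eq_of_le_of_not_simple {G : Type*} [Group G] [Finite G] (h : SN G) (p : ℕ) [Fact p.Prime]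
    (T K : Subgroup G) (hTK : T ≤ K) (hT : IsPGroup p T) (hTna : ¬ IsMulCommutative T)
    (hK : ¬ IsSimpleGroup ↥K) : K = T := by
  have h1 := eq_top_of_nonabelian_pgroup (h.subgroup K) hK p (T.subgroupOf K) hT.comap_subtype
    (not_comm_subgroupOf hTK hTna)
  exact le_antisymm (Subgroup.subgroupOf_eq_top.mp h1) hTK

/-- CA1 (nilpotent centralizer). -/
theorem ca1 {G : Type*} [Group G] [Finite G] [IsSimpleGroup G] (hna : ¬ IsMulCommutative G)
    (h : SN G) (x : G) (hx : x ≠ 1)
    (hnil : Group.IsNilpotent ↥(Subgroup.centralizer ({x} : Set G))) :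
    IsMulCommutative ↥(Subgroup.centralizer ({x} : Set G)) := by
  classical
  by_contra hCna
  have hSNC : SN ↥(Subgroup.centralizer ({x} : Set G)) := h.subgroup _
  haveI := hnil
  rcases (Cfsg.Agent.S4075.result (G := ↥(Subgroup.centralizer ({x} : Set G)))).mp hSNC with
    hc | ⟨hpp, -, -⟩
  · exact hCna hc
  obtain ⟨p, k, hp, -, hpk⟩ := (isPrimePow_nat_iff _).mp hpp
  haveI : Fact p.Prime := ⟨hp⟩
  have hCp : IsPGroup p ↥(Subgroup.centralizer ({x} : Set G)) := IsPGroup.of_card hpk.symm
  obtain ⟨S, hCS⟩ := hCp.exists_le_sylow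
  have hSna : ¬ IsMulCommutative ↥(S : Subgroup G) := not_comm_of_le hCS hCna
  have hSNS : SN ↥(S : Subgroup G) := h.subgroup _
  haveI : Group.IsNilpotent ↥(S : Subgroup G) := S.2.isNilpotent
  have hSmin : ∀ H : Subgroup ↥(S : Subgroup G), H ≠ ⊤ → IsMulCommutative H := by
    rcases (Cfsg.Agent.S4075.result (G := ↥(S : Subgroup G))).mp hSNS with hc | ⟨-, -, hmin⟩
    · exact absurd hc hSna
    · exact hmin
  -- the key consequence of L2
  have hL2 : ∀ K : Subgroup G, (S : Subgroup G) ≤ K → ¬ IsSimpleGroup ↥K → K = S :=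
    fun K hSK hK => eq_of_le_of_not_simple h p S K hSK S.2 hSna hK
  -- centralizers of central elements of S
  have hcent : ∀ z ∈ (S : Subgroup G), z ∈ Subgroup.centralizer ((S : Subgroup G) : Set G) → z ≠ 1 →
      Subgroup.centralizer ({z} : Set G) = S := by
    intro z hzS hzc hz1
    have hSK : (S : Subgroup G) ≤ Subgroup.centralizer ({z} : Set G) := by
      intro s hs
      rw [Subgroup.mem_centralizer_iff]
      intro y hy
      rw [Set.mem_singleton_iff.mp hy]
      exact ((Subgroup.mem_centralizer_iff.mp hzc) s hs).symm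
    apply hL2 _ hSK
    intro hsimp
    have hzK : z ∈ Subgroup.centralizer ({z} : Set G) := hSK hzS
    have hcen : (⟨z, hzK⟩ : ↥(Subgroup.centralizer ({z} : Set G))) ∈
        Subgroup.center ↥(Subgroup.centralizer ({z} : Set G)) := by
      rw [Subgroup.mem_center_iff]
      intro g
      apply Subtype.ext
      exact ((Subgroup.mem_centralizer_iff.mp g.2) z (Set.mem_singleton z)).symm
    have hne : Subgroup.center ↥(Subgroup.centralizer ({z} : Set G)) ≠ ⊥ := by
      intro hbot
      rw [hbot, Subgroup.mem_bot] at hcen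
      exact hz1 (congrArg Subtype.val hcen)
    have htop := (hsimp.eq_bot_or_eq_top_of_normal _ inferInstance).resolve_left hne
    apply not_comm_of_le hSK hSna
    refine ⟨⟨fun a b => ?_⟩⟩
    have ha : a ∈ Subgroup.center ↥(Subgroup.centralizer ({z} : Set G)) := by rw [htop]; trivial
    exact ((Subgroup.mem_center_iff.mp ha) b).symm
  -- a nontrivial central element
  haveI : Nontrivial ↥(S : Subgroup G) := by
    by_contra hcon
    rw [not_nontrivial_iff_subsingleton] at hcon
    exact hSna ⟨⟨fun a b => Subsingleton.elim _ _⟩⟩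
  haveI hcn : Nontrivial ↥(Subgroup.center ↥(S : Subgroup G)) := S.2.center_nontrivial
  obtain ⟨⟨z', hz'c⟩, hz'ne⟩ := exists_ne (1 : ↥(Subgroup.center ↥(S : Subgroup G)))
  obtain ⟨z0, hz0def⟩ : ∃ z0 : G, z0 = (z' : G) := ⟨_, rfl⟩
  have hz0S : z0 ∈ (S : Subgroup G) := by rw [hz0def]; exact z'.2
  have hz0c : z0 ∈ Subgroup.centralizer ((S : Subgroup G) : Set G) := by
    rw [Subgroup.mem_centralizer_iff]
    intro s hs
    have := (Subgroup.mem_center_iff.mp hz'c) ⟨s, hs⟩
    have h2 := congrArg Subtype.val this
    rw [hz0def]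
    exact h2
  have hz01 : z0 ≠ 1 := by
    intro h1
    apply hz'ne
    apply Subtype.ext
    apply Subtype.ext
    rw [← hz0def, h1]; rfl
  -- Z = Z(S) as a subgroup of G
  set Z : Subgroup G := (S : Subgroup G) ⊓ Subgroup.centralizer ((S : Subgroup G) : Set G) with hZ
  have hz0Z : z0 ∈ Z := ⟨hz0S, hz0c⟩
  have hZne : Z ≠ ⊥ := by
    intro hbot
    rw [hbot, Subgroup.mem_bot] at hz0Z
    exact hz01 hz0Z
  -- cardinality of S
  obtain ⟨N, hN⟩ := IsPGroup.iff_card.mp S.2
  have hN0 : N ≠ 0 := by
    intro h0
    rw [h0, pow_zero] at hN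
    have : Subsingleton ↥(S : Subgroup G) := (Nat.card_eq_one_iff_unique.mp hN).1
    exact not_subsingleton _ this
  -- weak closure
  have hW : Cfsg.IsWeaklyClosed Z (S : Subgroup G) := by
    refine ⟨inf_le_left, ?_⟩
    intro g hg
    have hinj : Function.Injective (MulAut.conj g).toMonoidHom := (MulAut.conj g).injective
    set T : Subgroup G := (S : Subgroup G).map (MulAut.conj g).toMonoidHom with hT
    have hmemT : ∀ y : G, y ∈ T ↔ g⁻¹ * y * g ∈ (S : Subgroup G) := by
      intro y
      rw [hT, Subgroup.mem_map_equiv, MulAut.conj_symm_apply]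
    have hcardT : Nat.card ↥T = Nat.card ↥(S : Subgroup G) := Subgroup.card_map_of_injective hinj
    set w : G := g * z0 * g⁻¹ with hw
    have hwmap : w ∈ Z.map (MulAut.conj g).toMonoidHom := ⟨z0, hz0Z, by simp [hw]⟩
    have hwS : w ∈ (S : Subgroup G) := hg hwmap
    have hw1 : w ≠ 1 := by
      intro h1
      apply hz01
      have : z0 = g⁻¹ * w * g := by rw [hw]; group
      rw [this, h1]; group
    -- centralizer of w
    have hcw : Subgroup.centralizer ({w} : Set G) = T := by
      ext y
      rw [hmemT, ← hcent z0 hz0S hz0c hz01, Subgroup.mem_centralizer_iff, Subgroup.mem_centralizer_iff]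
      constructor
      · intro hy a ha
        rw [Set.mem_singleton_iff.mp ha]
        have h1 := hy w (Set.mem_singleton w)
        rw [hw] at h1
        calc z0 * (g⁻¹ * y * g) = g⁻¹ * (g * z0 * g⁻¹ * y) * g := by group
          _ = g⁻¹ * (y * (g * z0 * g⁻¹)) * g := by rw [h1]
          _ = g⁻¹ * y * g * z0 := by group
      · intro hy a ha
        rw [Set.mem_singleton_iff.mp ha]
        have h1 := hy z0 (Set.mem_singleton z0)
        rw [hw]
        calc g * z0 * g⁻¹ * y = g * (z0 * (g⁻¹ * y * g)) * g⁻¹ := by group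
          _ = g * (g⁻¹ * y * g * z0) * g⁻¹ := by rw [h1]
          _ = y * (g * z0 * g⁻¹) := by group
    by_cases hwZ : w ∈ Subgroup.centralizer ((S : Subgroup G) : Set G)
    · -- T = S
      have hTS : T = S := by rw [← hcw]; exact hcent w hwS hwZ hw1
      apply Subgroup.eq_of_le_of_card_ge
      · rintro y ⟨z, hz, rfl⟩
        refine ⟨hg ⟨z, hz, rfl⟩, ?_⟩
        apply Subgroup.mem_centralizer_iff.mpr
        intro s hs
        have hs' : g⁻¹ * s * g ∈ (S : Subgroup G) := by
          rw [← hmemT, hTS]; exact hs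
        have h1 := (Subgroup.mem_centralizer_iff.mp hz.2) _ hs'
        show s * (g * z * g⁻¹) = g * z * g⁻¹ * s
        calc s * (g * z * g⁻¹) = g * (g⁻¹ * s * g * z) * g⁻¹ := by group
          _ = g * (z * (g⁻¹ * s * g)) * g⁻¹ := by rw [h1]
          _ = g * z * g⁻¹ * s := by group
      · rw [Subgroup.card_map_of_injective hinj]
    · exfalso
      -- w is a non-central element of S
      have hw' : (⟨w, hwS⟩ : ↥(S : Subgroup G)) ∉ Subgroup.center ↥(S : Subgroup G) := by
        intro hc
        apply hwZ
        rw [Subgroup.mem_centralizer_iff]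
        intro s hs
        have := (Subgroup.mem_center_iff.mp hc) ⟨s, hs⟩
        exact congrArg Subtype.val this
      obtain ⟨hidx, -⟩ := minnonab_centralizer p S.2 hSmin ⟨w, hwS⟩ hw'
      set M : Subgroup G := (S : Subgroup G) ⊓ Subgroup.centralizer ({w} : Set G) with hM
      have hMS : M ≤ S := inf_le_left
      have hMT : M ≤ T := by rw [← hcw]; exact inf_le_right
      have hMsub : M.subgroupOf S = Subgroup.centralizer ({(⟨w, hwS⟩ : ↥(S : Subgroup G))} : Set ↥(S : Subgroup G)) := by
        ext s
        rw [Subgroup.mem_subgroupOf, hM, Subgroup.mem_inf, Subgroup.mem_centralizer_iff,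
          Subgroup.mem_centralizer_iff]
        constructor
        · rintro ⟨-, h2⟩ a ha
          rw [Set.mem_singleton_iff.mp ha]
          apply Subtype.ext
          exact h2 w (Set.mem_singleton w)
        · intro h2
          refine ⟨s.2, ?_⟩
          intro a ha
          rw [Set.mem_singleton_iff.mp ha]
          have := h2 ⟨w, hwS⟩ (Set.mem_singleton _)
          exact congrArg Subtype.val this
      have hidxS : (M.subgroupOf S).index = p := by rw [hMsub]; exact hidx
      have hminfac : (Nat.card ↥(S : Subgroup G)).minFac = p := by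
        rw [hN]; exact hp.pow_minFac hN0
      have hnS : (M.subgroupOf S).Normal :=
        Subgroup.normal_of_index_eq_minFac_card (by rw [hidxS, hminfac])
      have hSN : (S : Subgroup G) ≤ Subgroup.normalizer (M : Set G) :=
        (Subgroup.normal_subgroupOf_iff_le_normalizer hMS).mp hnS
      -- the same for T
      have hcardM1 : Nat.card ↥(M.subgroupOf S) = Nat.card ↥M :=
        Nat.card_congr (Subgroup.subgroupOfEquivOfLe hMS).toEquiv
      have hcardM2 : Nat.card ↥(M.subgroupOf T) = Nat.card ↥M :=
        Nat.card_congr (Subgroup.subgroupOfEquivOfLe hMT).toEquiv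
      have hidxT : (M.subgroupOf T).index = p := by
        have h1 := (M.subgroupOf S).card_mul_index
        have h2 := (M.subgroupOf T).card_mul_index
        rw [hcardM1, hidxS] at h1
        rw [hcardM2, hcardT, ← h1] at h2
        have hpos : 0 < Nat.card ↥M := Nat.card_pos
        exact Nat.eq_of_mul_eq_mul_left hpos h2
      have hnT : (M.subgroupOf T).Normal :=
        Subgroup.normal_of_index_eq_minFac_card (by rw [hidxT, hcardT, hminfac])
      have hTN : T ≤ Subgroup.normalizer (M : Set G) :=
        (Subgroup.normal_subgroupOf_iff_le_normalizer hMT).mp hnT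
      -- the normalizer of M is not simple
      have hz0M : z0 ∈ M := by
        refine ⟨hz0S, ?_⟩
        apply Subgroup.mem_centralizer_iff.mpr
        intro a ha
        rw [Set.mem_singleton_iff.mp ha]
        exact (Subgroup.mem_centralizer_iff.mp hz0c) w hwS
      have hKns : ¬ IsSimpleGroup ↥(Subgroup.normalizer (M : Set G)) := by
        apply not_simple_of_normal (M.subgroupOf (Subgroup.normalizer (M : Set G)))
          Subgroup.normal_in_normalizer
        · intro hbot
          have : (⟨z0, Subgroup.le_normalizer hz0M⟩ : ↥(Subgroup.normalizer (M : Set G))) ∈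
              M.subgroupOf (Subgroup.normalizer (M : Set G)) := hz0M
          rw [hbot, Subgroup.mem_bot] at this
          exact hz01 (congrArg Subtype.val this)
        · intro htop
          have hle : Subgroup.normalizer (M : Set G) ≤ M := Subgroup.subgroupOf_eq_top.mp htop
          apply hwZ
          rw [Subgroup.mem_centralizer_iff]
          intro s hs
          have hsM : s ∈ M := hle (hSN hs)
          exact ((Subgroup.mem_centralizer_iff.mp hsM.2) w (Set.mem_singleton w)).symm
      have hKS : Subgroup.normalizer (M : Set G) = S := hL2 _ hSN hKns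
      have hTS : T = S := by
        apply Subgroup.eq_of_le_of_card_ge
        · rw [← hKS]; exact hTN
        · rw [hcardT]
      apply hwZ
      rw [Subgroup.mem_centralizer_iff]
      intro s hs
      have hsT : s ∈ Subgroup.centralizer ({w} : Set G) := by rw [hcw, hTS]; exact hs
      exact ((Subgroup.mem_centralizer_iff.mp hsT) w (Set.mem_singleton w)).symm
  -- Grün
  have hgruen := Cfsg.Agent.S0077.result S Z inf_le_right hW
  have hSNZ : (S : Subgroup G) ≤ Subgroup.normalizer (Z : Set G) := by
    intro s hs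
    rw [Subgroup.mem_normalizer_iff]
    intro n
    constructor
    · intro hn
      have : s * n * s⁻¹ = n := by
        have := (Subgroup.mem_centralizer_iff.mp hn.2) s hs
        calc s * n * s⁻¹ = n * s * s⁻¹ := by rw [this]
          _ = n := by group
      rw [this]; exact hn
    · intro hn
      have h1 : s * n * s⁻¹ = n := by
        have := (Subgroup.mem_centralizer_iff.mp hn.2) s hs
        have h2 : n = s⁻¹ * (s * n * s⁻¹) * s := by group
        calc s * n * s⁻¹ = s⁻¹ * (s * (s * n * s⁻¹)) := by group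
          _ = s⁻¹ * ((s * n * s⁻¹) * s) := by rw [this]
          _ = n := by group
      rw [← h1]; exact hn
  have hNZns : ¬ IsSimpleGroup ↥(Subgroup.normalizer (Z : Set G)) := by
    apply not_simple_of_normal (Z.subgroupOf (Subgroup.normalizer (Z : Set G)))
      Subgroup.normal_in_normalizer
    · intro hbot
      have : (⟨z0, Subgroup.le_normalizer hz0Z⟩ : ↥(Subgroup.normalizer (Z : Set G))) ∈
          Z.subgroupOf (Subgroup.normalizer (Z : Set G)) := hz0Z
      rw [hbot, Subgroup.mem_bot] at this
      exact hz01 (congrArg Subtype.val this)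
    · intro htop
      have hle : Subgroup.normalizer (Z : Set G) ≤ Z := Subgroup.subgroupOf_eq_top.mp htop
      apply hSna
      refine ⟨⟨fun a b => ?_⟩⟩
      have haZ : (a : G) ∈ Z := hle (hSNZ a.2)
      apply Subtype.ext
      exact ((Subgroup.mem_centralizer_iff.mp haZ.2) b.1 b.2).symm
  have hNZ : Subgroup.normalizer (Z : Set G) = S := hL2 _ hSNZ hNZns
  have hcomm : commutator G = ⊤ := by
    rcases IsSimpleGroup.eq_bot_or_eq_top_of_normal (commutator G) inferInstance with hb | ht
    · exfalso
      apply hna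
      have hcen := (commutator_eq_bot_iff_center_eq_top G).mp hb
      refine ⟨⟨fun a b => ?_⟩⟩
      have ha : a ∈ Subgroup.center G := by rw [hcen]; trivial
      exact ((Subgroup.mem_center_iff.mp ha) b).symm
    · exact ht
  rw [hcomm, hNZ, top_inf_eq] at hgruen
  have hSle : (S : Subgroup G) ≤ ⁅(S : Subgroup G), (S : Subgroup G)⁆ :=
    hgruen.le.trans inf_le_left
  rw [← Subgroup.map_subtype_commutator] at hSle
  haveI : Group.IsSolvable ↥(S : Subgroup G) := IsNilpotent.to_isSolvable
  have hlt := Group.IsSolvable.commutator_lt_top_of_nontrivial ↥(S : Subgroup G)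
  apply hlt.ne
  rw [eq_top_iff]
  intro s _
  obtain ⟨t, ht, hts⟩ := hSle s.2
  have : t = s := Subtype.ext hts
  rw [← this]; exact ht

end Cfsg.Agent.Lib.H23.SNS
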