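import Mathlib
import Cfsg.Agent.S4072
import Cfsg.Agent.S0799
import Cfsg.Agent.Lib.H23.SNSTools
import Cfsg.Agent.Lib.H23.SNSCA1
import Cfsg.Agent.Lib.H2.SNSDIH
import Cfsg.Agent.Lib.H2.SNSSMALL
import Cfsg.Agent.Lib.H25.SNSSUB
import Cfsg.Agent.Lib.H5.SNSBOREL

/-!
# S4073: assembly

* `commute_trans_of` : in a simple `SN`-group commuting is transitive on non-identity elements
  (given the two centralizer pieces CA1, CA2);
* `sn_psl2` : `PSL₂(F)`, `|F| = 2^n`, `2^n - 1` prime, is an `SN`-group (Dickson's theorem S0799 applied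
  to the normalizer of a non-abelian subgroup).
-/

set_option autoImplicit false
set_option linter.style.haveILetI false

namespace Cfsg.Agent.Lib.H23.SNS

open Cfsg.Agent.S4072 (SN)

/-- CA: commuting is transitive on non-identity elements (CA2 as a hypothesis). -/
theorem commute_trans_of {G : Type*} [Group G] [Finite G] [IsSimpleGroup G]
    (hna : ¬ IsMulCommutative G) (h : SN G)
    (hca2 : ∀ x : G, x ≠ 1 → Group.IsSolvable ↥(Subgroup.centralizer ({x} : Set G)) →
      ¬ Group.IsNilpotent ↥(Subgroup.centralizer ({x} : Set G)) → False) :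
    ∀ a b c : G, a ≠ 1 → b ≠ 1 → c ≠ 1 → Commute a b → Commute b c → Commute a c := by
  intro a b c _ hb _ hab hbc
  have hC : IsMulCommutative ↥(Subgroup.centralizer ({b} : Set G)) := by
    by_contra hCna
    have hSNC := h.subgroup (Subgroup.centralizer ({b} : Set G))
    rcases Cfsg.Agent.S4072.result hSNC with hsol | hsimp
    · by_cases hnil : Group.IsNilpotent ↥(Subgroup.centralizer ({b} : Set G))
      · exact hCna (ca1 hna h b hb hnil)
      · exact hca2 b hb hsol hnil
    · apply hCna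
      have hbC : b ∈ Subgroup.centralizer ({b} : Set G) := by
        rw [Subgroup.mem_centralizer_iff]; intro y hy; rw [Set.mem_singleton_iff.mp hy]
      have hcen : (⟨b, hbC⟩ : ↥(Subgroup.centralizer ({b} : Set G))) ∈
          Subgroup.center ↥(Subgroup.centralizer ({b} : Set G)) := by
        rw [Subgroup.mem_center_iff]
        intro g
        apply Subtype.ext
        have := (Subgroup.mem_centralizer_iff.mp g.2) b (Set.mem_singleton b)
        exact this.symm
      have hne : Subgroup.center ↥(Subgroup.centralizer ({b} : Set G)) ≠ ⊥ := by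
        intro hbot
        rw [hbot, Subgroup.mem_bot] at hcen
        exact hb (congrArg Subtype.val hcen)
      have htop := (hsimp.eq_bot_or_eq_top_of_normal _ inferInstance).resolve_left hne
      refine ⟨⟨fun x y => ?_⟩⟩
      have hx : x ∈ Subgroup.center ↥(Subgroup.centralizer ({b} : Set G)) := by
        rw [htop]; trivial
      exact ((Subgroup.mem_center_iff.mp hx) y).symm
  have haC : a ∈ Subgroup.centralizer ({b} : Set G) := by
    rw [Subgroup.mem_centralizer_iff]; intro y hy; rw [Set.mem_singleton_iff.mp hy]; exact hab.eq.symm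
  have hcC : c ∈ Subgroup.centralizer ({b} : Set G) := by
    rw [Subgroup.mem_centralizer_iff]; intro y hy; rw [Set.mem_singleton_iff.mp hy]; exact hbc.eq
  exact Cfsg.Agent.S4071.comm_of_isMulCommutative hC a haC c hcC

/-- CONV-ASM: PSL₂(F), |F| = 2^n, 2^n - 1 prime, commuting-transitive ⇒ SN. -/
theorem sn_psl2 {F : Type*} [Field F] [Fintype F] (n : ℕ) (hn : 2 ≤ n)
    (hF : Fintype.card F = 2 ^ n) (hp : (2 ^ n - 1).Prime)
    (hsimp : IsSimpleGroup (Matrix.ProjectiveSpecialLinearGroup (Fin 2) F))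
    (hct : ∀ a b c : Matrix.ProjectiveSpecialLinearGroup (Fin 2) F, a ≠ 1 → b ≠ 1 → c ≠ 1 →
      Commute a b → Commute b c → Commute a c) :
    SN (Matrix.ProjectiveSpecialLinearGroup (Fin 2) F) := by
  classical
  intro H hH
  haveI : Fact (Nat.Prime 2) := ⟨Nat.prime_two⟩
  haveI : CharP F 2 := by
    have h1 : ((2 ^ n : ℕ) : F) = 0 := by rw [← hF]; exact Nat.cast_card_eq_zero F
    have h2 : (2 : F) ^ n = 0 := by exact_mod_cast h1
    have h3 : (2 : F) = 0 := pow_eq_zero_iff (by omega) |>.mp h2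
    exact CharTwo.of_one_ne_zero_of_two_eq_zero one_ne_zero h3
  refine le_antisymm ?_ Subgroup.le_normalizer
  set K := Subgroup.normalizer (H : Set (Matrix.ProjectiveSpecialLinearGroup (Fin 2) F)) with hK
  have hHK : H ≤ K := Subgroup.le_normalizer
  have hH' : ¬ IsMulCommutative (H.subgroupOf K) := not_comm_subgroupOf hHK hH
  have hHn : (H.subgroupOf K).Normal := Subgroup.normal_in_normalizer
  suffices hsuff : H.subgroupOf K = ⊤ by
    intro x hx
    have : (⟨x, hx⟩ : K) ∈ H.subgroupOf K := by rw [hsuff]; trivial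
    exact this
  have hpow : 2 ^ n = 2 * 2 ^ (n - 1) := by
    rw [← pow_succ']; congr 1; omega
  have hpos : 0 < 2 ^ (n - 1) := Nat.pos_of_ne_zero (by positivity)
  obtain ⟨t, ht⟩ : ∃ t, t = 2 ^ (n - 1) := ⟨_, rfl⟩
  rw [← ht] at hpow hpos
  have hodd1 : Odd (2 ^ n - 1) := by
    rw [hpow, Nat.odd_iff]; omega
  have hodd2 : Odd (2 ^ n + 1) := by
    rw [hpow, Nat.odd_iff]; omega
  have hgcd : Nat.gcd 2 (2 ^ n - 1) = 1 := Nat.coprime_two_left.mpr hodd1
  rcases Cfsg.Agent.S0799.result hF 2 K with ⟨k, hk, hcase⟩ | ⟨P, K2, hK2, ⟨e⟩⟩ | ⟨⟨e⟩⟩ | ⟨⟨e⟩⟩ |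
      ⟨⟨e⟩⟩ | ⟨K', _, _, m, hm, hcase⟩
  · -- cyclic / dihedral
    rw [hgcd, Nat.div_one, Nat.div_one] at hk
    have hkodd : Odd k := by
      rcases hk with hk | hk
      · exact Odd.of_dvd_nat hodd2 hk
      · exact Odd.of_dvd_nat hodd1 hk
    rcases hcase with ⟨hcyc, _⟩ | ⟨⟨e⟩⟩
    · exfalso
      apply hH'
      haveI := hcyc
      obtain ⟨g, hg⟩ := IsCyclic.exists_generator (α := K)
      refine ⟨⟨fun a b => ?_⟩⟩
      obtain ⟨i, hi⟩ := Subgroup.mem_zpowers_iff.mp (hg a.1)
      obtain ⟨j, hj⟩ := Subgroup.mem_zpowers_iff.mp (hg b.1)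
      apply Subtype.ext
      show (a : K) * (b : K) = (b : K) * (a : K)
      rw [← hi, ← hj, ← zpow_add, ← zpow_add, add_comm]
    · exact Cfsg.Agent.Lib.H2.SNS.na_dihedral k hkodd e _ hHn hH'
  · -- Borel case
    have hSN1 := Cfsg.Agent.Lib.H5.SNS.sn_normalizer_sylow n hF hp P
    have hSN2 := hSN1.subgroup (K2.subgroupOf _)
    have e2 := (Subgroup.subgroupOfEquivOfLe hK2).trans e.symm
    have hSN3 : SN K := sn_of_equiv e2 hSN2
    have := hSN3 _ hH'
    rw [← this]
    exact Subgroup.normalizer_eq_top_iff.mpr hHn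
  · exact Cfsg.Agent.Lib.H2.SNS.na_A4 e _ hHn hH'
  · exact (Cfsg.Agent.Lib.H2.SNS.no_S4 hct K e).elim
  · exact Cfsg.Agent.Lib.H2.SNS.na_A5 e _ hHn hH'
  · exact Cfsg.Agent.Lib.H25.SNS.na_subfield n hn hF hp hsimp K K' m hm hcase _ hHn hH'

end Cfsg.Agent.Lib.H23.SNS
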