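import Mathlib
import Cfsg.Prelude.Def_CaseTheorems
import Cfsg.Agent.Lib.H1.NilpotentBasic

/-!
# S3153 piece ZS (helper23; architect helper15)

* `eq_one_or_eq_of_rank_one` (UNIQ): in a subgroup of 2-rank at most 1, an element of square 1
  commuting with an involution `t` is `1` or `t`.
* `commute_of_rank_one` (ZS): a 2-group `S` normalizing `K` (of 2-rank at most 1) centralizes every
  involution of `S ⊓ K`.
-/

set_option autoImplicit false
set_option linter.style.haveILetI false

namespace Cfsg.Agent.Lib.H23.STD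

open Cfsg

/-- The subgroup `{t ^ i * k ^ j}` generated by two commuting elements. -/
def pairSub {G : Type*} [Group G] (t k : G) (hc : Commute t k) : Subgroup G where
  carrier := {x | ∃ i j : ℤ, x = t ^ i * k ^ j}
  one_mem' := ⟨0, 0, by simp⟩
  mul_mem' := by
    rintro _ _ ⟨i, j, rfl⟩ ⟨i', j', rfl⟩
    refine ⟨i + i', j + j', ?_⟩
    have h1 : Commute (k ^ j) (t ^ i') := (hc.zpow_zpow i' j).symm
    calc t ^ i * k ^ j * (t ^ i' * k ^ j') = t ^ i * (k ^ j * t ^ i') * k ^ j' := by group
      _ = t ^ i * (t ^ i' * k ^ j) * k ^ j' := by rw [h1.eq]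
      _ = t ^ (i + i') * k ^ (j + j') := by rw [zpow_add, zpow_add]; group
  inv_mem' := by
    rintro _ ⟨i, j, rfl⟩
    refine ⟨-i, -j, ?_⟩
    have h1 : Commute (t ^ i) (k ^ j) := hc.zpow_zpow i j
    rw [mul_inv_rev, zpow_neg, zpow_neg]
    exact ((h1.inv_inv).eq).symm

theorem pairSub_le_set {G : Type*} [Group G] (t k : G) (hc : Commute t k) (ht : t ^ 2 = 1)
    (hk : k ^ 2 = 1) : ((pairSub t k hc : Subgroup G) : Set G) ⊆ {1, t, k, t * k} := by
  rintro _ ⟨i, j, rfl⟩
  have hti : t ^ i = 1 ∨ t ^ i = t := by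
    rcases Int.even_or_odd' i with ⟨m, hm | hm⟩
    · left
      rw [hm, zpow_mul, zpow_ofNat, ht, one_zpow]
    · right
      rw [hm, zpow_add, zpow_mul, zpow_ofNat, ht, one_zpow, one_mul, zpow_one]
  have hkj : k ^ j = 1 ∨ k ^ j = k := by
    rcases Int.even_or_odd' j with ⟨m, hm | hm⟩
    · left
      rw [hm, zpow_mul, zpow_ofNat, hk, one_zpow]
    · right
      rw [hm, zpow_add, zpow_mul, zpow_ofNat, hk, one_zpow, one_mul, zpow_one]
  rcases hti with h | h <;> rcases hkj with h' | h' <;> rw [h, h'] <;> simp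

/-- UNIQ: in a subgroup of 2-rank at most 1, an element of square 1 commuting with an involution
`t` is `1` or `t`. -/
theorem eq_one_or_eq_of_rank_one {X : Type*} [Group X] (K : Subgroup X)
    (hr : Cfsg.PRankLE 2 1 ↥K) (t k : X) (ht : orderOf t = 2) (htK : t ∈ K) (hkK : k ∈ K)
    (hk : k ^ 2 = 1) (hkt : k * t = t * k) : k = 1 ∨ k = t := by
  classical
  by_contra hcon
  push Not at hcon
  obtain ⟨hk1, hkt'⟩ := hcon
  have ht2 : t ^ 2 = 1 := by rw [← ht]; exact pow_orderOf_eq_one t
  have ht1 : t ≠ 1 := by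
    intro h
    rw [h, orderOf_one] at ht
    omega
  set t' : ↥K := ⟨t, htK⟩ with ht'
  set k' : ↥K := ⟨k, hkK⟩ with hk'
  have hc : Commute t' k' := by
    apply Subtype.ext
    exact hkt.symm
  have ht2' : t' ^ 2 = 1 := Subtype.ext (by simpa using ht2)
  have hk2' : k' ^ 2 = 1 := Subtype.ext (by simpa using hk)
  set A := pairSub t' k' hc with hA
  have hsub := pairSub_le_set t' k' hc ht2' hk2'
  have hfin : (A : Set ↥K).Finite := Set.Finite.subset (by simp) hsub
  haveI : Finite A := hfin
  have hcomm : IsMulCommutative A := by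
    refine ⟨⟨?_⟩⟩
    rintro ⟨_, i, j, rfl⟩ ⟨_, i', j', rfl⟩
    apply Subtype.ext
    simp only [Subgroup.coe_mul]
    have h1 : Commute (t' ^ i * k' ^ j) (t' ^ i' * k' ^ j') := by
      apply Commute.mul_left
      · apply Commute.mul_right
        · exact (Commute.refl t').zpow_zpow i i'
        · exact hc.zpow_zpow i j'
      · apply Commute.mul_right
        · exact (hc.zpow_zpow i' j).symm
        · exact (Commute.refl k').zpow_zpow j j'
    exact h1.eq
  have hexp : ∀ a ∈ A, a ^ 2 = 1 := by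
    intro a ha
    rcases hsub ha with h | h | h | h
    · rw [h]; simp
    · rw [h]; exact ht2'
    · rw [h]; exact hk2'
    · rw [h, hc.mul_pow, ht2', hk2', one_mul]
  have hcard := hr A hcomm hexp
  -- three distinct elements
  have h1A : (1 : ↥K) ∈ A := A.one_mem
  have htA : t' ∈ A := ⟨1, 0, by simp⟩
  have hkA : k' ∈ A := ⟨0, 1, by simp⟩
  have h3 : 3 ≤ Nat.card A := by
    have hinj : Function.Injective (fun i : Fin 3 =>
        (![⟨1, h1A⟩, ⟨t', htA⟩, ⟨k', hkA⟩] i : A)) := by
      intro i j hij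
      fin_cases i <;> fin_cases j <;> simp at hij ⊢
      · exact absurd (congrArg Subtype.val hij).symm ht1
      · exact absurd (congrArg Subtype.val hij).symm hk1
      · exact absurd (congrArg Subtype.val hij) ht1
      · exact absurd (congrArg Subtype.val hij).symm hkt'
      · exact absurd (congrArg Subtype.val hij) hk1
      · exact absurd (congrArg Subtype.val hij) hkt'
    have := Nat.card_le_card_of_injective _ hinj
    simpa using this
  omega

/-- ZS: a 2-group `S` normalizing `K` (of 2-rank at most 1) centralizes every involution of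
`S ⊓ K`. -/
theorem commute_of_rank_one {X : Type*} [Group X] [Finite X] (K S : Subgroup X)
    (hS : IsPGroup 2 ↥S) (hSK : S ≤ Subgroup.normalizer (K : Set X))
    (hr : Cfsg.PRankLE 2 1 ↥K) (t : X) (ht : orderOf t = 2) (htS : t ∈ S) (htK : t ∈ K) :
    ∀ s ∈ S, s * t = t * s := by
  classical
  haveI : Fact (Nat.Prime 2) := ⟨Nat.prime_two⟩
  have ht1 : t ≠ 1 := by
    intro h
    rw [h, orderOf_one] at ht
    omega
  haveI hnil : Group.IsNilpotent ↥S := hS.isNilpotent
  haveI hN : (K.subgroupOf S).Normal := Subgroup.normal_subgroupOf_of_le_normalizer hSK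
  have hNne : K.subgroupOf S ≠ ⊥ := by
    intro h
    have h1 : (⟨t, htS⟩ : ↥S) ∈ K.subgroupOf S := Subgroup.mem_subgroupOf.2 htK
    rw [h, Subgroup.mem_bot] at h1
    exact ht1 (congrArg Subtype.val h1)
  have hC := Cfsg.Agent.Lib.H1.normal_inf_center_ne_bot (K.subgroupOf S) hNne
  set C := K.subgroupOf S ⊓ Subgroup.center ↥S with hCdef
  have hCp : IsPGroup 2 C := hS.to_subgroup C
  have hCnt : Nontrivial C := (Subgroup.nontrivial_iff_ne_bot C).2 hC
  obtain ⟨n, hn0, hn⟩ := (hCp.nontrivial_iff_card).1 hCnt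
  have h2 : 2 ∣ Nat.card C := by
    rw [hn]
    exact dvd_pow_self 2 hn0.ne'
  obtain ⟨z, hz⟩ := exists_prime_orderOf_dvd_card' 2 h2
  have hzK : ((z : ↥S) : X) ∈ K := Subgroup.mem_subgroupOf.1 z.2.1
  have hzc : ∀ s : ↥S, s * (z : ↥S) = (z : ↥S) * s := fun s =>
    Subgroup.mem_center_iff.1 z.2.2 s
  have hz2 : ((z : ↥S) : X) ^ 2 = 1 := by
    have h1 : z ^ 2 = 1 := by rw [← hz]; exact pow_orderOf_eq_one z
    have := congrArg (fun c : C => ((c : ↥S) : X)) h1
    simpa using this
  have hz1 : ((z : ↥S) : X) ≠ 1 := by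
    intro h
    have : z = 1 := by
      apply Subtype.ext
      apply Subtype.ext
      simpa using h
    rw [this, orderOf_one] at hz
    omega
  have hzt : ((z : ↥S) : X) * t = t * ((z : ↥S) : X) := by
    have := hzc ⟨t, htS⟩
    have := congrArg Subtype.val this
    simpa using this.symm
  rcases eq_one_or_eq_of_rank_one K hr t _ ht htK hzK hz2 hzt with h | h
  · exact absurd h hz1
  · intro s hs
    have := hzc ⟨s, hs⟩
    have := congrArg Subtype.val this
    rw [← h]
    simpa using this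

end Cfsg.Agent.Lib.H23.STD
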