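import Mathlib
import Cfsg.Agent.Lib.H9.CoprimeGeneration
import Cfsg.Agent.Lib.H23.STDZS

/-!
# S3153 piece FOUR (helper23; architect helper15)

A normal subgroup `W` of odd order acted on by the four-group `⟨t, t'⟩` lies in any subgroup
containing `C_W(t)`, `C_W(t')` and `C_W(t t')`.
-/

set_option autoImplicit false
set_option linter.style.haveILetI false

namespace Cfsg.Agent.Lib.H23.STD

open Cfsg Cfsg.Agent.Lib.H1

/-- FOUR: a normal subgroup `W` of odd order acted on by the four-group `⟨t, t'⟩` lies in any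
subgroup containing `C_W(t)`, `C_W(t')` and `C_W(t t')`. -/
theorem le_of_four_group {X : Type*} [Group X] [Finite X] (W D : Subgroup X) [W.Normal]
    (hW : (Nat.card W).Coprime 2) (t t' : X) (ht : t ^ 2 = 1) (ht' : t' ^ 2 = 1)
    (hc : t * t' = t' * t)
    (h1 : W ⊓ Subgroup.centralizer {t} ≤ D) (h2 : W ⊓ Subgroup.centralizer {t'} ≤ D)
    (h3 : W ⊓ Subgroup.centralizer {t * t'} ≤ D) : W ≤ D := by
  classical
  haveI : Fact (Nat.Prime 2) := ⟨Nat.prime_two⟩
  have hcomm : Commute t t' := hc
  set A := pairSub t t' hcomm with hA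
  have hsub := pairSub_le_set t t' hcomm ht ht'
  have hexp : ∀ a ∈ A, a ^ 2 = 1 := by
    intro a ha
    rcases hsub ha with h | h | h | h
    · rw [h]; simp
    · rw [h]; exact ht
    · rw [h]; exact ht'
    · rw [h, hcomm.mul_pow, ht, ht', one_mul]
  have hAp : IsPGroup 2 A := by
    rintro ⟨a, ha⟩
    refine ⟨1, ?_⟩
    apply Subtype.ext
    simpa using hexp a ha
  have hAcomm : ∀ a b : A, a * b = b * a := by
    rintro ⟨_, i, j, rfl⟩ ⟨_, i', j', rfl⟩
    apply Subtype.ext
    simp only [Subgroup.coe_mul]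
    have h1 : Commute (t ^ i * t' ^ j) (t ^ i' * t' ^ j') := by
      apply Commute.mul_left
      · apply Commute.mul_right
        · exact (Commute.refl t).zpow_zpow i i'
        · exact hcomm.zpow_zpow i j'
      · apply Commute.mul_right
        · exact (hcomm.zpow_zpow i' j).symm
        · exact (Commute.refl t').zpow_zpow j j'
    exact h1.eq
  have hact : CoprimeAction A W := by
    refine ⟨?_, ?_, Or.inl (Group.isSolvable_of_comm hAcomm)⟩
    · rw [Subgroup.normalizer_eq_top]
      exact le_top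
    · obtain ⟨n, hn⟩ := (IsPGroup.iff_card).1 hAp
      rw [hn]
      exact (hW.symm).pow_left n
  have htA : t ∈ A := ⟨1, 0, by simp⟩
  have ht'A : t' ∈ A := ⟨0, 1, by simp⟩
  refine Cfsg.Agent.Lib.H9.le_of_centralizers_le (p := 2) hact hW htA ht'A hc ht ht' h1 ?_
  intro i
  rcases Nat.even_or_odd' i with ⟨m, hm | hm⟩
  · rw [hm, pow_mul, ht, one_pow, one_mul]
    exact h2
  · rw [hm, pow_add, pow_mul, ht, one_pow, one_mul, pow_one]
    exact h3

end Cfsg.Agent.Lib.H23.STD
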