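import Mathlib

/-!
# S3153 piece SYL (helper23; architect helper15)

An element of `N` normalizing (the image of) a Sylow 2-subgroup `S` of `N` whose square lies in `S`
lies in `S`.
-/

set_option autoImplicit false

namespace Cfsg.Agent.Lib.H23.STD

/-- SYL: an element of `N` normalizing (the image in `X` of) a Sylow 2-subgroup `S` of `N` whose
square lies in `S` lies in `S`. -/
theorem mem_sylow_of_sq_mem {X : Type*} [Group X] [Finite X] (N : Subgroup X) (S : Sylow 2 ↥N)
    (g : X) (hgN' : g ∈ N)
    (hgN : ∀ s ∈ (S : Subgroup ↥N).map N.subtype, g * s * g⁻¹ ∈ (S : Subgroup ↥N).map N.subtype)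
    (hg2 : g ^ 2 ∈ (S : Subgroup ↥N).map N.subtype) : g ∈ (S : Subgroup ↥N).map N.subtype := by
  set g' : ↥N := ⟨g, hgN'⟩ with hg'
  have hmem : ∀ x : ↥N, (x : X) ∈ (S : Subgroup ↥N).map N.subtype ↔ x ∈ (S : Subgroup ↥N) := by
    intro x
    constructor
    · rintro ⟨y, hy, hyx⟩
      have : y = x := Subtype.ext hyx
      rw [← this]; exact hy
    · intro hx
      exact ⟨x, hx, rfl⟩
  have hg2' : g' ^ 2 ∈ (S : Subgroup ↥N) := (hmem (g' ^ 2)).1 (by simpa [hg'] using hg2)
  have hnorm : ∀ s ∈ (S : Subgroup ↥N), g' * s * g'⁻¹ ∈ (S : Subgroup ↥N) := by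
    intro s hs
    apply (hmem _).1
    have := hgN (s : X) ((hmem s).2 hs)
    simpa [hg'] using this
  -- `g'` is a 2-element
  have hZ : IsPGroup 2 (Subgroup.zpowers g') := by
    obtain ⟨k, hk⟩ := S.isPGroup' ⟨g' ^ 2, hg2'⟩
    have hk' : (g' ^ 2) ^ 2 ^ k = 1 := by
      have := congrArg Subtype.val hk
      simpa using this
    have : g' ^ 2 ^ (k + 1) = 1 := by
      rw [pow_succ', pow_mul]; exact hk'
    rintro ⟨z, hz⟩
    obtain ⟨n, rfl⟩ := Subgroup.mem_zpowers_iff.1 hz
    refine ⟨k + 1, ?_⟩
    apply Subtype.ext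
    simp only [Subgroup.coe_pow, Subgroup.coe_one]
    rw [← zpow_natCast, ← zpow_mul, mul_comm, zpow_mul, zpow_natCast, this, one_zpow]
  have hle : Subgroup.zpowers g' ≤ Subgroup.normalizer ((S : Subgroup ↥N) : Set ↥N) := by
    rw [Subgroup.zpowers_le]
    rw [Subgroup.mem_normalizer_iff]
    intro s
    constructor
    · intro hs
      exact hnorm s hs
    · intro hs
      -- conjugation by `g'` is injective on the finite group `S`
      have hinj : Function.Injective
          (fun s : (S : Subgroup ↥N) => (⟨g' * s * g'⁻¹, hnorm s s.2⟩ : (S : Subgroup ↥N))) := by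
        intro a b hab
        have := congrArg Subtype.val hab
        simp only at this
        apply Subtype.ext
        exact mul_left_cancel (mul_right_cancel this)
      have hsurj := Finite.surjective_of_injective hinj
      obtain ⟨a, ha⟩ := hsurj ⟨g' * s * g'⁻¹, hs⟩
      have := congrArg Subtype.val ha
      simp only at this
      have : (a : ↥N) = s := mul_left_cancel (mul_right_cancel this)
      rw [← this]
      exact a.2
  have hsup : IsPGroup 2 ((S : Subgroup ↥N) ⊔ Subgroup.zpowers g' : Subgroup ↥N) :=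
    IsPGroup.to_sup_of_normal_left' S.isPGroup' hZ hle
  have heq := S.is_maximal' hsup le_sup_left
  have hgS : g' ∈ (S : Subgroup ↥N) := by
    rw [← heq]
    exact (le_sup_right : Subgroup.zpowers g' ≤ _) (Subgroup.mem_zpowers g')
  exact (hmem g').2 hgS

end Cfsg.Agent.Lib.H23.STD
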