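import Cfsg.Agent.Lib.H23.BrauerIntegral
import Cfsg.Agent.Lib.H23.HallPow
import Cfsg.Agent.Lib.L0.BlockKer

/-!
# The indicator of a `π'`-section is an integral combination of characters (helper23)
-/

set_option autoImplicit false

universe u

namespace Cfsg.Agent.Lib.H23.SectionIndicator

open Cfsg Cfsg.Agent.Lib.H23 Cfsg.Agent.Lib.H24 Cfsg.Agent.Lib.L0 Cfsg.Agent.Lib.L0.BlockKer
open Cfsg.Agent.Lib.H23.HallPow
open scoped ComplexConjugate

section abstract

variable {E : Type u} [Group E] [Fintype E]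

/-- coset sums of an irreducible character over a normal subgroup -/
theorem sum_coset (ψ : IrrCharacter E) (N : Subgroup E) [N.Normal] [Fintype N] (v : E) :
    ∑ u : N, (ψ : E → ℂ) ((u : E) * v) =
      (Nat.card N : ℂ) * omega (ψ : E → ℂ) (avg N) * (ψ : E → ℂ) v := by
  classical
  have h := charEval_mul_of_mem_center ψ.2 (avg_mem_center N) (MonoidAlgebra.single v 1)
  rw [charEval_single, one_mul] at h
  have hN0 : (Nat.card N : ℂ) ≠ 0 := by exact_mod_cast (Nat.card_pos (α := N)).ne'
  have h2 : charEval (ψ : E → ℂ) (avg N * MonoidAlgebra.single v 1) =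
      (Nat.card N : ℂ)⁻¹ * ∑ u : N, (ψ : E → ℂ) ((u : E) * v) := by
    unfold charEval
    simp only [MonoidAlgebra.coeff_mul_single_apply, mul_one, avg, coeff_ofFun]
    simp only [ite_mul, zero_mul]
    rw [← Finset.sum_filter, Finset.mul_sum]
    refine Finset.sum_bij' (fun g hg => (⟨g * v⁻¹, (Finset.mem_filter.mp hg).2⟩ : N))
      (fun u _ => (u : E) * v) (fun _ _ => Finset.mem_univ _)
      (fun u _ => Finset.mem_filter.mpr ⟨Finset.mem_univ _, by simp⟩)
      (fun g _ => by simp) (fun u _ => by apply Subtype.ext; simp) (fun g _ => by simp)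
  rw [h2] at h
  unfold omega
  field_simp at h ⊢
  linear_combination h

/-- decomposition of a sum along an idempotent endomorphism -/
theorem sum_idem (β : E →* E) (hβ : ∀ x, β (β x) = β x) [Fintype β.range] [Fintype β.ker]
    (f : E → ℂ) :
    ∑ x : E, f x = ∑ v : β.range, ∑ u : β.ker, f ((u : E) * (v : E)) := by
  classical
  rw [← Fintype.sum_prod_type']
  have hv : ∀ v : β.range, β (v : E) = v := by
    rintro ⟨v, y, rfl⟩
    exact hβ y
  symm
  refine Fintype.sum_bijective (fun q : β.range × β.ker => (q.2 : E) * (q.1 : E)) ⟨?_, ?_⟩ _ _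
    (fun _ => rfl)
  · rintro ⟨v, u⟩ ⟨v', u'⟩ h
    simp only at h
    have h1 := congrArg β h
    rw [map_mul, map_mul, MonoidHom.mem_ker.mp u.2, MonoidHom.mem_ker.mp u'.2, one_mul, one_mul,
      hv, hv] at h1
    have h2 : v = v' := Subtype.ext h1
    subst h2
    have h3 : u = u' := Subtype.ext (mul_right_cancel h)
    rw [h3]
  · intro x
    refine ⟨(⟨β x, x, rfl⟩, ⟨x * (β x)⁻¹, ?_⟩), ?_⟩
    · rw [MonoidHom.mem_ker, map_mul, map_inv, hβ, mul_inv_cancel]
    · simp

end abstract

section concrete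

variable {G : Type u} [Group G] [Fintype G] {m n a b : ℕ}

open Classical in
/-- the indicator (times `n`) of the `n`-section of `g` -/
noncomputable def secInd (n b : ℕ) (g : G) : G → ℂ :=
  fun x => if IsConj (x ^ b) g then (n : ℂ) else 0

theorem secInd_isClassFunction (g : G) : IsClassFunction G (secInd n b g) := by
  classical
  intro x h
  unfold secInd
  have h1 : (h * x * h⁻¹) ^ b = h * x ^ b * h⁻¹ := conj_pow
  have h2 : IsConj ((h * x * h⁻¹) ^ b) g ↔ IsConj (x ^ b) g := by
    rw [h1]
    constructor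
    · intro hc
      exact (isConj_iff.mpr ⟨h, rfl⟩ : IsConj (x ^ b) (h * x ^ b * h⁻¹)).trans hc
    · intro hc
      exact (isConj_iff.mpr ⟨h, rfl⟩ : IsConj (x ^ b) (h * x ^ b * h⁻¹)).symm.trans hc
  exact if_congr h2 rfl rfl

theorem secInd_elementary (hmn : Nat.card G = m * n) (hcop : Nat.Coprime m n)
    (hb1 : b ≡ 0 [MOD m]) (hb2 : b ≡ 1 [MOD n]) (g : G)
    (E : Subgroup G) [Fintype E] (p : ℕ) (hp : p.Prime) (hE : IsElementary p E)
    (ψ : IrrCharacter E) :
    IsIntegral ℤ (classInner (fun e : E => secInd n b g e) (ψ : E → ℂ)) := by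
  classical
  -- the power map on `E`
  have hb : (∀ s : E, (∃ j : ℕ, s ^ p ^ j = 1) → s ^ b = 1) ∨
      (∀ s : E, (∃ j : ℕ, s ^ p ^ j = 1) → s ^ b = s) := by
    by_cases hpm : p ∣ m
    · left
      rintro s ⟨j, hj⟩
      obtain ⟨i, _, hi⟩ := (Nat.dvd_prime_pow hp).mp (orderOf_dvd_of_pow_eq_one hj)
      have hpn : Nat.Coprime p n := Nat.Coprime.coprime_dvd_left hpm hcop
      have h1 : Nat.Coprime (orderOf (s : G)) n := by
        rw [Subgroup.orderOf_coe, hi]; exact Nat.Coprime.pow_left i hpn
      have h2 := pow_eq_one_of_modEq (orderOf_dvd_left hmn h1) hb1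
      apply Subtype.ext
      rw [Subgroup.coe_pow, h2]; rfl
    · right
      rintro s ⟨j, hj⟩
      obtain ⟨i, _, hi⟩ := (Nat.dvd_prime_pow hp).mp (orderOf_dvd_of_pow_eq_one hj)
      have hpm' : Nat.Coprime p m := (Nat.Prime.coprime_iff_not_dvd hp).mpr hpm
      have h1 : Nat.Coprime (orderOf (s : G)) m := by
        rw [Subgroup.orderOf_coe, hi]; exact Nat.Coprime.pow_left i hpm'
      have h2 := pow_eq_self_of_modEq (orderOf_dvd_right hmn h1) hb2
      apply Subtype.ext
      rw [Subgroup.coe_pow, h2]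
  let β : E →* E :=
    { toFun := fun x => x ^ b
      map_one' := one_pow b
      map_mul' := pow_mul_of_isElementary hE b hb }
  have hβapp : ∀ x : E, β x = x ^ b := fun _ => rfl
  have hβn : ∀ x : E, ((β x : E) : G) ^ n = 1 := by
    intro x
    rw [hβapp, Subgroup.coe_pow]
    exact pow_a_pow_n hmn hb1 (x : G)
  have hβ : ∀ x, β (β x) = β x := by
    intro x
    apply Subtype.ext
    have := pow_eq_self_of_modEq (orderOf_dvd_of_pow_eq_one (hβn x)) hb2
    rw [hβapp (β x), Subgroup.coe_pow]
    exact this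
  haveI : Fintype β.range := Fintype.ofFinite _
  haveI : Fintype β.ker := Fintype.ofFinite _
  haveI hkn : β.ker.Normal := MonoidHom.normal_ker β
  set ω := omega (ψ : E → ℂ) (avg β.ker) with hω
  have hωint : IsIntegral ℤ (conj ω) := by
    rcases omega_avg ψ β.ker with ⟨_, h⟩ | ⟨_, h⟩
    · rw [hω, h, map_one]; exact isIntegral_one
    · rw [hω, h, map_zero]; exact isIntegral_zero
  -- cardinalities
  have hcardE : Nat.card E = Nat.card β.ker * Nat.card β.range := by
    rw [← Subgroup.card_mul_index β.ker, Subgroup.index_ker]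
  have hrange_dvd : Nat.card β.range ∣ n := by
    have h1 : Nat.card β.range ∣ m * n := by
      rw [← hmn]
      exact (Dvd.intro_left _ hcardE.symm).trans (Subgroup.card_subgroup_dvd_card E)
    have h2 : Nat.Coprime (Nat.card β.range) m := by
      apply Nat.coprime_of_dvd
      intro q hq hq1 hq2
      haveI : Fact q.Prime := ⟨hq⟩
      obtain ⟨v, hv⟩ := exists_prime_orderOf_dvd_card' q hq1
      obtain ⟨x, hx⟩ := v.2
      have h3 : ((v : E) : G) ^ n = 1 := by rw [← hx]; exact hβn x
      have h4 : orderOf ((v : E) : G) = q := by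
        rw [Subgroup.orderOf_coe, Subgroup.orderOf_coe, hv]
      have h5 : q ∣ n := h4 ▸ orderOf_dvd_of_pow_eq_one h3
      exact (Nat.Prime.coprime_iff_not_dvd hq).mp
        (Nat.Coprime.coprime_dvd_left hq2 hcop) h5
    exact h2.dvd_of_dvd_mul_left h1
  obtain ⟨r, hr⟩ := hrange_dvd
  -- the sum
  have hsum : ∑ x : E, secInd n b g (x : G) * conj ((ψ : E → ℂ) x) =
      (Nat.card β.ker : ℂ) * conj ω *
        ∑ v : β.range, (if IsConj (((v : E) : G)) g then (n : ℂ) else 0) *
          conj ((ψ : E → ℂ) (v : E)) := by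
    rw [sum_idem β hβ, Finset.mul_sum]
    refine Finset.sum_congr rfl fun v _ => ?_
    have hv : β (v : E) = v := by
      obtain ⟨y, hy⟩ := v.2
      rw [← hy]; exact hβ y
    have h1 : ∀ u : β.ker, secInd n b g ((((u : E) * (v : E) : E)) : G) =
        if IsConj (((v : E) : G)) g then (n : ℂ) else 0 := by
      intro u
      unfold secInd
      have h2 : ((((u : E) * (v : E) : E)) : G) ^ b = ((v : E) : G) := by
        have h3 : β ((u : E) * (v : E)) = v := by
          rw [map_mul, MonoidHom.mem_ker.mp u.2, one_mul, hv]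
        have h4 := congrArg Subtype.val h3
        rw [hβapp, Subgroup.coe_pow] at h4
        exact h4
      rw [h2]
    simp only [h1]
    rw [← Finset.mul_sum, ← map_sum, sum_coset ψ β.ker (v : E), map_mul, map_mul,
      Complex.conj_natCast]
    ring
  unfold classInner
  rw [hsum, hcardE, hr]
  have hk0 : (Nat.card β.ker : ℂ) ≠ 0 := by exact_mod_cast (Nat.card_pos (α := β.ker)).ne'
  have hr0 : (Nat.card β.range : ℂ) ≠ 0 := by exact_mod_cast (Nat.card_pos (α := β.range)).ne'
  have hfinal : ((Nat.card β.ker * Nat.card β.range : ℕ) : ℂ)⁻¹ *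
      ((Nat.card β.ker : ℂ) * conj ω *
        ∑ v : β.range, (if IsConj (((v : E) : G)) g then ((Nat.card β.range * r : ℕ) : ℂ) else 0) *
          conj ((ψ : E → ℂ) (v : E))) =
      conj ω * ∑ v : β.range, (if IsConj (((v : E) : G)) g then (r : ℂ) else 0) *
          conj ((ψ : E → ℂ) (v : E)) := by
    have : ∀ v : β.range, (if IsConj (((v : E) : G)) g then ((Nat.card β.range * r : ℕ) : ℂ) else 0) *
          conj ((ψ : E → ℂ) (v : E)) = (Nat.card β.range : ℂ) *
        ((if IsConj (((v : E) : G)) g then (r : ℂ) else 0) * conj ((ψ : E → ℂ) (v : E))) := by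
      intro v
      split_ifs
      · push_cast; ring
      · simp
    simp only [this]
    rw [← Finset.mul_sum]
    push_cast
    field_simp
  rw [hfinal]
  apply hωint.mul
  apply IsIntegral.sum
  intro v _
  apply IsIntegral.mul
  · split_ifs
    · exact isIntegral_algebraMap (R := ℤ) (A := ℂ) (x := (r : ℤ)) |> fun h => by simpa using h
    · exact isIntegral_zero
  · exact isIntegral_conj (irr_isIntegral ψ (v : E))

end concrete

end Cfsg.Agent.Lib.H23.SectionIndicator
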