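import Mathlib
import Cfsg.Agent.Lib.H23.SimsL2Sig

set_option autoImplicit false

/-!
# S3685 piece L2, part A: the local `S₃`-structure

`P` finite, `Q ◁ P`, `Q ≤ T ≤ P`, `|P : T| = 3`, `|T : Q| = 2`, `T` a non-normal 2-group, `s ∈ T \ Q` an involution.
Then there is `t ∈ P` with `t³ = 1`, `t ∉ Q`, `s t s⁻¹ = t⁻¹` and `P = Q ⟨t⟩ ⟨s⟩`.
-/

namespace Cfsg.Agent.Lib.H23.SimsL2

variable {G : Type*} [Group G]

theorem idx2 {T Q : Subgroup G} [Finite ↥T] (hQT : Q ≤ T) (cardQ : Nat.card ↥T = 2 * Nat.card ↥Q)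
    {x y : G} (hx : x ∈ T) (hy : y ∈ T) : x * y ∈ Q ↔ (x ∈ Q ↔ y ∈ Q) := by
  have : Finite ↥Q := Finite.of_injective _ (Subgroup.inclusion_injective hQT)
  have h2 : (Q.subgroupOf T).index = 2 := by
    have h1 := Subgroup.card_mul_index (Q.subgroupOf T)
    rw [Nat.card_congr (Subgroup.subgroupOfEquivOfLe hQT).toEquiv, cardQ] at h1
    have hpos : 0 < Nat.card ↥Q := Nat.card_pos
    nlinarith
  have := Subgroup.mul_mem_iff_of_index_two h2 (a := ⟨x, hx⟩) (b := ⟨y, hy⟩)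
  simpa [Subgroup.mem_subgroupOf] using this

theorem exists_t (P T Q : Subgroup G) [Finite ↥P] (hTP : T ≤ P) (hQT : Q ≤ T)
    (hT2 : IsPGroup 2 ↥T) (cardP : Nat.card ↥P = 3 * Nat.card ↥T)
    (cardQ : Nat.card ↥T = 2 * Nat.card ↥Q)
    (hQn : ∀ g ∈ P, ∀ x ∈ Q, g * x * g⁻¹ ∈ Q)
    (hTn : ∃ g ∈ P, ∃ x ∈ T, g * x * g⁻¹ ∉ T)
    (s : G) (hsT : s ∈ T) (hsQ : s ∉ Q) (hs2 : s * s = 1) :
    ∃ t ∈ P, t ^ 3 = 1 ∧ t ∉ Q ∧ s * t * s⁻¹ = t⁻¹ ∧
      ∀ g ∈ P, ∃ q ∈ Q, ∃ i : ℕ, g = q * t ^ i ∨ g = q * t ^ i * s := by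
  classical
  have : Finite ↥T := Finite.of_injective _ (Subgroup.inclusion_injective hTP)
  have : Finite ↥Q := Finite.of_injective _ (Subgroup.inclusion_injective hQT)
  have : Fact (Nat.Prime 3) := ⟨Nat.prime_three⟩
  have hsinv : s⁻¹ = s := inv_eq_of_mul_eq_one_right hs2
  -- the conjugate s' ∉ T
  obtain ⟨g, hgP, x, hxT, hgx⟩ := hTn
  set s' : G := g * s * g⁻¹ with hs'
  have hs'P : s' ∈ P := P.mul_mem (P.mul_mem hgP (hTP hsT)) (P.inv_mem hgP)
  have hs'2 : s' * s' = 1 := by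
    rw [hs']; calc g * s * g⁻¹ * (g * s * g⁻¹) = g * (s * s) * g⁻¹ := by group
      _ = 1 := by rw [hs2]; group
  have hs'inv : s'⁻¹ = s' := inv_eq_of_mul_eq_one_right hs'2
  have hs'Q : s' ∉ Q := by
    intro h
    apply hsQ
    have := hQn g⁻¹ (P.inv_mem hgP) s' h
    rw [hs'] at this
    have e : g⁻¹ * (g * s * g⁻¹) * g⁻¹⁻¹ = s := by group
    rwa [e] at this
  have hs'T : s' ∉ T := by
    intro h
    apply hgx
    by_cases hxQ : x ∈ Q
    · exact hQT (hQn g hgP x hxQ)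
    · -- s⁻¹ * x ∈ Q
      have h1 : s * x ∈ Q := (idx2 hQT cardQ hsT hxT).mpr (by simp [hsQ, hxQ])
      have e : g * x * g⁻¹ = s' * (g * (s * x) * g⁻¹) := by
        rw [hs']
        calc g * x * g⁻¹ = g * ((s * s) * x) * g⁻¹ := by rw [hs2, one_mul]
          _ = g * s * g⁻¹ * (g * (s * x) * g⁻¹) := by group
      rw [e]
      exact T.mul_mem h (hQT (hQn g hgP _ h1))
  -- the quotient of order 6
  let N : Subgroup ↥P := Q.subgroupOf P
  have hN : N.Normal := ⟨fun x hx g => by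
    rw [Subgroup.mem_subgroupOf] at hx ⊢
    simpa using hQn g g.2 x hx⟩
  have hcardN : Nat.card ↥N = Nat.card ↥Q :=
    Nat.card_congr (Subgroup.subgroupOfEquivOfLe (hQT.trans hTP)).toEquiv
  have hcardH : Nat.card (↥P ⧸ N) = 6 := by
    have := Subgroup.card_eq_card_quotient_mul_card_subgroup N
    rw [hcardN, cardP, cardQ] at this
    have hpos : 0 < Nat.card ↥Q := Nat.card_pos
    nlinarith
  have : Finite (↥P ⧸ N) := Nat.finite_of_card_ne_zero (by rw [hcardH]; norm_num)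
  let π : ↥P →* ↥P ⧸ N := QuotientGroup.mk' N
  have hπ : ∀ y : ↥P, π y = 1 ↔ (y : G) ∈ Q := fun y => by
    rw [QuotientGroup.mk'_apply, QuotientGroup.eq_one_iff, Subgroup.mem_subgroupOf]
  let sP : ↥P := ⟨s, hTP hsT⟩
  let s'P : ↥P := ⟨s', hs'P⟩
  have hσ1 : π sP ≠ 1 := fun h => hsQ ((hπ sP).mp h)
  have hσ'1 : π s'P ≠ 1 := fun h => hs'Q ((hπ s'P).mp h)
  have hσ2 : π sP * π sP = 1 := by
    rw [← map_mul]; have : sP * sP = 1 := Subtype.ext hs2
    rw [this, map_one]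
  have hσ'2 : π s'P * π s'P = 1 := by
    rw [← map_mul]; have : s'P * s'P = 1 := Subtype.ext hs'2
    rw [this, map_one]
  -- an element of order 3 in the quotient
  obtain ⟨u, hu⟩ := exists_prime_orderOf_dvd_card' (G := ↥P ⧸ N) 3 (by rw [hcardH]; norm_num)
  have hcardU : Nat.card ↥(Subgroup.zpowers u) = 3 := by rw [Nat.card_zpowers, hu]
  have hidxU : (Subgroup.zpowers u).index = 2 := by
    have := Subgroup.card_mul_index (Subgroup.zpowers u)
    rw [hcardU, hcardH] at this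
    omega
  have hinv_notin : ∀ σ : ↥P ⧸ N, σ ≠ 1 → σ * σ = 1 → σ ∉ Subgroup.zpowers u := by
    intro σ h1 h2 hmem
    have h3 : σ ^ 3 = 1 := by
      have := pow_card_eq_one' (G := ↥(Subgroup.zpowers u)) (x := ⟨σ, hmem⟩)
      rw [hcardU] at this
      have := congrArg Subtype.val this
      simpa using this
    apply h1
    calc σ = σ ^ 3 * (σ * σ)⁻¹ := by group
      _ = 1 := by rw [h3, h2]; simp
  have hρmem : π sP * π s'P ∈ Subgroup.zpowers u := by
    rw [Subgroup.mul_mem_iff_of_index_two hidxU]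
    exact iff_of_false (hinv_notin _ hσ1 hσ2) (hinv_notin _ hσ'1 hσ'2)
  have hρ3 : (π sP * π s'P) ^ 3 = 1 := by
    have := pow_card_eq_one' (G := ↥(Subgroup.zpowers u)) (x := ⟨_, hρmem⟩)
    rw [hcardU] at this
    have := congrArg Subtype.val this
    simpa using this
  have hρ1 : π sP * π s'P ≠ 1 := by
    intro h
    -- then s' ∈ s Q ⊆ T
    have h1 : π (sP * s'P) = 1 := by rw [map_mul]; exact h
    have h2 : s * s' ∈ Q := (hπ _).mp h1
    apply hs'T
    have : s' = s * (s * s') := by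
      calc s' = (s * s) * s' := by rw [hs2, one_mul]
        _ = s * (s * s') := by group
    rw [this]
    exact T.mul_mem hsT (hQT h2)
  have hρord : orderOf (π sP * π s'P) = 3 := orderOf_eq_prime hρ3 hρ1
  -- ρ and t
  set ρ : G := s * s' with hρ
  have hρP : ρ ∈ P := P.mul_mem (hTP hsT) hs'P
  let ρP : ↥P := ⟨ρ, hρP⟩
  have hπρ : π ρP = π sP * π s'P := by rw [← map_mul]; rfl
  have hρ3Q : ρ ^ 3 ∈ Q := by
    have : π (ρP ^ 3) = 1 := by rw [map_pow, hπρ, hρ3]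
    simpa using (hπ _).mp this
  set n : ℕ := Nat.card ↥Q with hn
  obtain ⟨k, hk⟩ : ∃ k, n = 2 ^ k := by
    have hQ2 : IsPGroup 2 ↥Q := hT2.to_le hQT
    exact (IsPGroup.iff_card).mp hQ2
  refine ⟨ρ ^ n, P.pow_mem hρP n, ?_, ?_, ?_, ?_⟩
  · -- t^3 = 1
    have h1 : (⟨ρ ^ 3, hρ3Q⟩ : ↥Q) ^ n = 1 := pow_card_eq_one'
    have h2 := congrArg Subtype.val h1
    simp only [Subgroup.coe_pow, Subgroup.coe_one] at h2
    rw [← pow_mul, mul_comm, pow_mul]; exact h2
  · -- t ∉ Q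
    intro h
    have h1 : π (ρP ^ n) = 1 := (hπ _).mpr (by simpa using h)
    rw [map_pow, hπρ] at h1
    have h2 : 3 ∣ n := by rw [← hρord]; exact orderOf_dvd_of_pow_eq_one h1
    rw [hk] at h2
    have := Nat.Prime.dvd_of_dvd_pow Nat.prime_three h2
    omega
  · -- inversion
    have h1 : s * ρ * s⁻¹ = ρ⁻¹ := by
      rw [hρ, hsinv, mul_inv_rev, hsinv, hs'inv]
      calc s * (s * s') * s = (s * s) * s' * s := by group
        _ = s' * s := by rw [hs2, one_mul]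
    calc s * ρ ^ n * s⁻¹ = (s * ρ * s⁻¹) ^ n := by rw [conj_pow]
      _ = (ρ ^ n)⁻¹ := by rw [h1, inv_pow]
  · -- generation
    intro y hy
    let yP : ↥P := ⟨y, hy⟩
    let tP : ↥P := ρP ^ n
    have htP : (tP : G) = ρ ^ n := by simp [tP, ρP]
    have hπt : π tP = (π sP * π s'P) ^ n := by rw [map_pow, hπρ]
    have hπt1 : π tP ≠ 1 := by
      intro h1
      rw [hπt] at h1
      have h2 : 3 ∣ n := by rw [← hρord]; exact orderOf_dvd_of_pow_eq_one h1
      rw [hk] at h2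
      have := Nat.Prime.dvd_of_dvd_pow Nat.prime_three h2
      omega
    have hπt3 : π tP ^ 3 = 1 := by
      rw [hπt, ← pow_mul, mul_comm, pow_mul, hρ3, one_pow]
    have hordt : orderOf (π tP) = 3 := orderOf_eq_prime hπt3 hπt1
    have hcardt : Nat.card ↥(Subgroup.zpowers (π tP)) = 3 := by rw [Nat.card_zpowers, hordt]
    have hidxt : (Subgroup.zpowers (π tP)).index = 2 := by
      have := Subgroup.card_mul_index (Subgroup.zpowers (π tP))
      rw [hcardt, hcardH] at this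
      omega
    have hσnot : π sP ∉ Subgroup.zpowers (π tP) := by
      intro hmem
      have h3 : (π sP) ^ 3 = 1 := by
        have := pow_card_eq_one' (G := ↥(Subgroup.zpowers (π tP))) (x := ⟨_, hmem⟩)
        rw [hcardt] at this
        have := congrArg Subtype.val this
        simpa using this
      apply hσ1
      calc π sP = (π sP) ^ 3 * (π sP * π sP)⁻¹ := by group
        _ = 1 := by rw [h3, hσ2]; simp
    have key : ∀ z : ↥P, π z ∈ Subgroup.zpowers (π tP) → ∃ q ∈ Q, ∃ i : ℕ, (z : G) = q * (ρ ^ n) ^ i := by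
      intro z hz
      have hfin : IsOfFinOrder (π tP) := isOfFinOrder_of_finite _
      rw [← mem_powers_iff_mem_zpowers] at hz
      obtain ⟨i, hi⟩ := (Submonoid.mem_powers_iff _ _).mp hz
      refine ⟨(z : G) * ((ρ ^ n) ^ i)⁻¹, ?_, i, by group⟩
      have : π (z * (tP ^ i)⁻¹) = 1 := by rw [map_mul, map_inv, map_pow, hi]; group
      have := (hπ _).mp this
      simpa [htP] using this
    by_cases hy1 : π yP ∈ Subgroup.zpowers (π tP)
    · obtain ⟨q, hq, i, hi⟩ := key yP hy1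
      exact ⟨q, hq, i, Or.inl hi⟩
    · have h2 : π (yP * sP) ∈ Subgroup.zpowers (π tP) := by
        rw [map_mul, Subgroup.mul_mem_iff_of_index_two hidxt]
        exact iff_of_false hy1 hσnot
      obtain ⟨q, hq, i, hi⟩ := key (yP * sP) h2
      refine ⟨q, hq, i, Or.inr ?_⟩
      have hi' : y * s = q * (ρ ^ n) ^ i := by simpa [yP, sP] using hi
      calc y = y * s * s := by rw [mul_assoc, hs2, mul_one]
        _ = q * (ρ ^ n) ^ i * s := by rw [hi']

end Cfsg.Agent.Lib.H23.SimsL2
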