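import Mathlib
import Cfsg.Agent.Lib.H23.SimsL2A
import Cfsg.Agent.Lib.H5.KleinCount

set_option autoImplicit false

/-!
# S3685 piece L2, part B: one side — the four-group `W` and the complement `K = C_Q(t)`
-/

namespace Cfsg.Agent.Lib.H23.SimsL2

open Cfsg.Agent.Lib.H5.KleinCount

variable {G : Type*} [Group G]

/-- data on one side: `s ∈ T \ Q` an involution acting on `T` with commutators in `{1, r}`, `t` of order 3 inverted by `s`. -/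
structure Side (P T Q V : Subgroup G) (s t r : G) : Prop where
  hTP : T ≤ P
  hQT : Q ≤ T
  hVQ : V ≤ Q
  hQn : ∀ g ∈ P, ∀ x ∈ Q, g * x * g⁻¹ ∈ Q
  hVn : ∀ g ∈ P, ∀ x ∈ V, g * x * g⁻¹ ∈ V
  hVexp : ∀ x ∈ V, x * x = 1
  hQV : ∀ q ∈ Q, ∀ v ∈ V, q * v = v * q
  hCV : ∀ g ∈ P, (∀ v ∈ V, g * v = v * g) → g ∈ Q
  hsT : s ∈ T
  hsQ : s ∉ Q
  hs2 : s * s = 1
  htP : t ∈ P
  ht3 : t ^ 3 = 1
  htQ : t ∉ Q
  hst : s * t * s⁻¹ = t⁻¹
  hgen : ∀ g ∈ P, ∃ q ∈ Q, ∃ i : ℕ, g = q * t ^ i ∨ g = q * t ^ i * s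
  hr1 : r ≠ 1
  hrV : r ∈ V
  hrT : ∀ x ∈ T, x * r = r * x
  hcomm : ∀ x ∈ T, s * x * s⁻¹ = x ∨ s * x * s⁻¹ = x * r

namespace Side

variable {P T Q V : Subgroup G} {s t r : G}

theorem sinv (h : Side P T Q V s t r) : s⁻¹ = s := inv_eq_of_mul_eq_one_right h.hs2

theorem tinv (h : Side P T Q V s t r) : t⁻¹ = t * t := by
  have := h.ht3
  rw [pow_succ, pow_two] at this
  exact inv_eq_of_mul_eq_one_left this

theorem sP (h : Side P T Q V s t r) : s ∈ P := h.hTP h.hsT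

theorem VP (h : Side P T Q V s t r) : V ≤ P := h.hVQ.trans (h.hQT.trans h.hTP)

theorem Vcomm (h : Side P T Q V s t r) {x y : G} (hx : x ∈ V) (hy : y ∈ V) : x * y = y * x :=
  h.hQV x (h.hVQ hx) y hy

theorem Vinv (h : Side P T Q V s t r) {x : G} (hx : x ∈ V) : x⁻¹ = x :=
  inv_eq_of_mul_eq_one_right (h.hVexp x hx)

theorem r2 (h : Side P T Q V s t r) : r * r = 1 := h.hVexp r h.hrV

theorem sr (h : Side P T Q V s t r) : s * r * s⁻¹ = r := by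
  rw [h.hrT s h.hsT]; group

/-- conjugation by `t` maps `V` to `V` -/
theorem tV (h : Side P T Q V s t r) {x : G} (hx : x ∈ V) : t * x * t⁻¹ ∈ V := h.hVn t h.htP x hx

theorem tinvP (h : Side P T Q V s t r) : t⁻¹ ∈ P := P.inv_mem h.htP

theorem tV' (h : Side P T Q V s t r) {x : G} (hx : x ∈ V) : t⁻¹ * x * t ∈ V := by
  have := h.hVn t⁻¹ h.tinvP x hx
  simpa using this

theorem sV (h : Side P T Q V s t r) {x : G} (hx : x ∈ V) : s * x * s⁻¹ ∈ V := h.hVn s h.sP x hx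

/-- `s t⁻¹ s⁻¹ = t` -/
theorem hst' (h : Side P T Q V s t r) : s * t⁻¹ * s⁻¹ = t := by
  have := congrArg (fun z => z⁻¹) h.hst
  simp only [mul_inv_rev, inv_inv] at this
  rw [← mul_assoc] at this
  exact this

/-- conjugating a `t`-conjugate by `s` -/
theorem s_t_conj (h : Side P T Q V s t r) (x : G) :
    s * (t * x * t⁻¹) * s⁻¹ = t⁻¹ * (s * x * s⁻¹) * t := by
  calc s * (t * x * t⁻¹) * s⁻¹ = (s * t * s⁻¹) * (s * x * s⁻¹) * (s * t⁻¹ * s⁻¹) := by group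
    _ = t⁻¹ * (s * x * s⁻¹) * t := by rw [h.hst, h.hst']

theorem s_tinv_conj (h : Side P T Q V s t r) (x : G) :
    s * (t⁻¹ * x * t) * s⁻¹ = t * (s * x * s⁻¹) * t⁻¹ := by
  calc s * (t⁻¹ * x * t) * s⁻¹ = (s * t⁻¹ * s⁻¹) * (s * x * s⁻¹) * (s * t * s⁻¹) := by group
    _ = t * (s * x * s⁻¹) * t⁻¹ := by rw [h.hst, h.hst']

/-- `t⁻¹ x t = t (t x t⁻¹) t⁻¹` -/
theorem tinv_conj (h : Side P T Q V s t r) (x : G) : t⁻¹ * x * t = t * (t * x * t⁻¹) * t⁻¹ := by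
  have e : t⁻¹ = t * t := h.tinv
  have e2 : t = t⁻¹ * t⁻¹ := by
    have := congrArg (fun z => z⁻¹) e
    simpa using this
  calc t⁻¹ * x * t = (t * t) * x * (t⁻¹ * t⁻¹) := by rw [← e, ← e2]
    _ = t * (t * x * t⁻¹) * t⁻¹ := by group

/-- `t` does not centralize `r`. -/
theorem tr_ne (h : Side P T Q V s t r) : t * r * t⁻¹ ≠ r := by
  intro htr
  have htr' : t⁻¹ * r * t = r := by
    calc t⁻¹ * r * t = t⁻¹ * (t * r * t⁻¹) * t := by rw [htr]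
      _ = r := by group
  -- for v ∈ V : t⁻¹ v t ∈ {v, v r}
  have key : ∀ v ∈ V, t⁻¹ * v * t = v ∨ t⁻¹ * v * t = v * r := by
    intro v hv
    -- s (t v t⁻¹) s⁻¹ computed in two ways
    have h1 := h.s_t_conj v
    have hw : t * v * t⁻¹ ∈ V := h.tV hv
    have hrc : ∀ c : G, c = 1 ∨ c = r → t⁻¹ * c * t = c := by
      rintro c (rfl | rfl)
      · group
      · exact htr'
    -- s v s⁻¹ = v c1, s (t v t⁻¹) s⁻¹ = (t v t⁻¹) c2
    obtain ⟨c1, hc1, e1⟩ : ∃ c, (c = 1 ∨ c = r) ∧ s * v * s⁻¹ = v * c := by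
      rcases h.hcomm v (h.hQT (h.hVQ hv)) with e | e
      · exact ⟨1, Or.inl rfl, by rw [e, mul_one]⟩
      · exact ⟨r, Or.inr rfl, e⟩
    obtain ⟨c2, hc2, e2⟩ : ∃ c, (c = 1 ∨ c = r) ∧ s * (t * v * t⁻¹) * s⁻¹ = (t * v * t⁻¹) * c := by
      rcases h.hcomm _ (h.hQT (h.hVQ hw)) with e | e
      · exact ⟨1, Or.inl rfl, by rw [e, mul_one]⟩
      · exact ⟨r, Or.inr rfl, e⟩
    rw [e2, e1] at h1
    -- (t v t⁻¹) c2 = t⁻¹ (v c1) t = (t⁻¹ v t) c1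
    have h2 : t⁻¹ * (v * c1) * t = (t⁻¹ * v * t) * c1 := by
      calc t⁻¹ * (v * c1) * t = (t⁻¹ * v * t) * (t⁻¹ * c1 * t) := by group
        _ = (t⁻¹ * v * t) * c1 := by rw [hrc c1 hc1]
    rw [h2] at h1
    -- conjugate by t⁻¹: t⁻¹ (t v t⁻¹ c2) t = v c2 ; t⁻¹ (t⁻¹ v t c1) t
    have h3 : v * c2 = t⁻¹ * (t⁻¹ * v * t) * t * c1 := by
      have := congrArg (fun z => t⁻¹ * z * t) h1
      calc v * c2 = (t⁻¹ * (t * v * t⁻¹) * t) * (t⁻¹ * c2 * t) := by rw [hrc c2 hc2]; group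
        _ = t⁻¹ * (t * v * t⁻¹ * c2) * t := by group
        _ = t⁻¹ * (t⁻¹ * v * t * c1) * t := this
        _ = t⁻¹ * (t⁻¹ * v * t) * t * (t⁻¹ * c1 * t) := by group
        _ = t⁻¹ * (t⁻¹ * v * t) * t * c1 := by rw [hrc c1 hc1]
    -- t⁻¹ t⁻¹ = t
    have e4 : t⁻¹ * (t⁻¹ * v * t) * t = t * v * t⁻¹ := by
      have e : t⁻¹ = t * t := h.tinv
      have e' : t = t⁻¹ * t⁻¹ := by
        have := congrArg (fun z => z⁻¹) e
        simpa using this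
      calc t⁻¹ * (t⁻¹ * v * t) * t = (t⁻¹ * t⁻¹) * v * (t * t) := by group
        _ = t * v * t⁻¹ := by rw [← e, ← e']
    rw [e4] at h3
    -- so t v t⁻¹ = v c2 c1⁻¹
    have h5 : t * v * t⁻¹ = v * (c2 * c1⁻¹) := by rw [← mul_assoc, h3]; group
    -- now t⁻¹ v t = t (t v t⁻¹) t⁻¹ = t (v c) t⁻¹ = (t v t⁻¹) c = v c c
    have hcc : c2 * c1⁻¹ = 1 ∨ c2 * c1⁻¹ = r := by
      rcases hc1 with rfl | rfl <;> rcases hc2 with rfl | rfl
      · left; group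
      · right; group
      · right; rw [h.Vinv h.hrV]; group
      · left; group
    have hrc' : ∀ c : G, c = 1 ∨ c = r → t * c * t⁻¹ = c := by
      rintro c (rfl | rfl)
      · group
      · exact htr
    have h6 : t⁻¹ * v * t = v * ((c2 * c1⁻¹) * (c2 * c1⁻¹)) := by
      rw [h.tinv_conj, h5]
      calc t * (v * (c2 * c1⁻¹)) * t⁻¹ = (t * v * t⁻¹) * (t * (c2 * c1⁻¹) * t⁻¹) := by group
        _ = v * (c2 * c1⁻¹) * (c2 * c1⁻¹) := by rw [hrc' _ hcc, h5]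
        _ = v * ((c2 * c1⁻¹) * (c2 * c1⁻¹)) := by group
    left
    rw [h6]
    rcases hcc with e | e <;> rw [e]
    · group
    · rw [h.r2, mul_one]
  -- hence t⁻¹ centralizes V... (t⁻¹)² = t centralizes V
  have hcen : ∀ v ∈ V, t * v = v * t := by
    intro v hv
    have h1 : ∀ c : G, c = 1 ∨ c = r → t⁻¹ * c * t = c := by
      rintro c (rfl | rfl)
      · group
      · exact htr'
    obtain ⟨c, hc, e⟩ : ∃ c, (c = 1 ∨ c = r) ∧ t⁻¹ * v * t = v * c := by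
      rcases key v hv with e | e
      · exact ⟨1, Or.inl rfl, by rw [e, mul_one]⟩
      · exact ⟨r, Or.inr rfl, e⟩
    have h2 : t⁻¹ * (t⁻¹ * v * t) * t = v := by
      rw [e]
      calc t⁻¹ * (v * c) * t = (t⁻¹ * v * t) * (t⁻¹ * c * t) := by group
        _ = v * c * c := by rw [h1 c hc, e]
        _ = v := by
          rcases hc with rfl | rfl
          · group
          · rw [mul_assoc, h.r2, mul_one]
    have e' : t⁻¹ * (t⁻¹ * v * t) * t = t * v * t⁻¹ := by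
      have e : t⁻¹ = t * t := h.tinv
      have e'' : t = t⁻¹ * t⁻¹ := by
        have := congrArg (fun z => z⁻¹) e
        simpa using this
      calc t⁻¹ * (t⁻¹ * v * t) * t = (t⁻¹ * t⁻¹) * v * (t * t) := by group
        _ = t * v * t⁻¹ := by rw [← e, ← e'']
    rw [e'] at h2
    calc t * v = (t * v * t⁻¹) * t := by group
      _ = v * t := by rw [h2]
  exact h.htQ (h.hCV t h.htP hcen)


/-- rearranging a product of six elements of the abelian group `V` -/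
theorem V_mul6 (h : Side P T Q V s t r) {a b c d e f : G} (ha : a ∈ V) (hb : b ∈ V) (hc : c ∈ V)
    (hd : d ∈ V) (he : e ∈ V) (hf : f ∈ V) :
    (a * d) * (b * e) * (c * f) = (a * b * c) * (d * e * f) := by
  let _ : CommGroup ↥V :=
    { (inferInstance : Group ↥V) with mul_comm := fun x y => Subtype.ext (h.Vcomm x.2 y.2) }
  have : ((⟨a, ha⟩ : ↥V) * ⟨d, hd⟩) * (⟨b, hb⟩ * ⟨e, he⟩) * (⟨c, hc⟩ * ⟨f, hf⟩) =
      (⟨a, ha⟩ * ⟨b, hb⟩ * ⟨c, hc⟩) * (⟨d, hd⟩ * ⟨e, he⟩ * ⟨f, hf⟩) := by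
    simp only [mul_left_comm, mul_assoc]
  exact congrArg Subtype.val this

theorem V_mul3 (h : Side P T Q V s t r) {a b c : G} (ha : a ∈ V) (hb : b ∈ V) (hc : c ∈ V) :
    a * b * c = b * c * a := by
  rw [mul_assoc, h.Vcomm ha (V.mul_mem hb hc)]

/-- `s` centralizes `C_V(t)`. -/
theorem s_cent_fix (h : Side P T Q V s t r) {u : G} (hu : u ∈ V) (htu : t * u * t⁻¹ = u) :
    s * u * s⁻¹ = u := by
  rcases h.hcomm u (h.hQT (h.hVQ hu)) with e | e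
  · exact e
  · exfalso
    apply h.tr_ne
    have htu' : t⁻¹ * u * t = u := by
      calc t⁻¹ * u * t = t⁻¹ * (t * u * t⁻¹) * t := by rw [htu]
        _ = u := by group
    have h1 := h.s_tinv_conj u
    rw [htu', e] at h1
    -- u r = t (u r) t⁻¹ = u (t r t⁻¹)
    have h2 : t * (u * r) * t⁻¹ = u * (t * r * t⁻¹) := by
      calc t * (u * r) * t⁻¹ = (t * u * t⁻¹) * (t * r * t⁻¹) := by group
        _ = u * (t * r * t⁻¹) := by rw [htu]
    rw [h2] at h1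
    exact (mul_left_cancel h1).symm

/-- there is `v₀ ∈ V` with `s v₀ s⁻¹ = v₀ r`. -/
theorem exists_v0 (h : Side P T Q V s t r) : ∃ v ∈ V, s * v * s⁻¹ = v * r := by
  by_contra hcon
  push Not at hcon
  apply h.hsQ
  apply h.hCV s h.sP
  intro v hv
  rcases h.hcomm v (h.hQT (h.hVQ hv)) with e | e
  · calc s * v = (s * v * s⁻¹) * s := by group
      _ = v * s := by rw [e]
  · exact absurd e (hcon v hv)

/-- `r · r^t · r^(t⁻¹) = 1`. -/
theorem r_prod (h : Side P T Q V s t r) : r * (t * r * t⁻¹) * (t⁻¹ * r * t) = 1 := by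
  obtain ⟨v, hv, hsv⟩ := h.exists_v0
  have hv1 : t * v * t⁻¹ ∈ V := h.tV hv
  have hv2 : t⁻¹ * v * t ∈ V := h.tV' hv
  have hr1 : t * r * t⁻¹ ∈ V := h.tV h.hrV
  have hr2 : t⁻¹ * r * t ∈ V := h.tV' h.hrV
  set u : G := v * (t * v * t⁻¹) * (t⁻¹ * v * t) with hu
  have huV : u ∈ V := V.mul_mem (V.mul_mem hv hv1) hv2
  have e : t⁻¹ = t * t := h.tinv
  have e' : t = t⁻¹ * t⁻¹ := by
    have := congrArg (fun z => z⁻¹) e
    simpa using this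
  have htu : t * u * t⁻¹ = u := by
    have h1 : t * (t * v * t⁻¹) * t⁻¹ = t⁻¹ * v * t := by
      calc t * (t * v * t⁻¹) * t⁻¹ = (t * t) * v * (t⁻¹ * t⁻¹) := by group
        _ = t⁻¹ * v * t := by rw [← e, ← e']
    have h2 : t * (t⁻¹ * v * t) * t⁻¹ = v := by group
    calc t * u * t⁻¹ = (t * v * t⁻¹) * (t * (t * v * t⁻¹) * t⁻¹) * (t * (t⁻¹ * v * t) * t⁻¹) := by
          rw [hu]; group
      _ = (t * v * t⁻¹) * (t⁻¹ * v * t) * v := by rw [h1, h2]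
      _ = u := by rw [hu]; exact (h.V_mul3 hv hv1 hv2).symm
  have hsu : s * u * s⁻¹ = u := h.s_cent_fix huV htu
  have h3 : s * u * s⁻¹ = (v * r) * (t⁻¹ * (v * r) * t) * (t * (v * r) * t⁻¹) := by
    calc s * u * s⁻¹ = (s * v * s⁻¹) * (s * (t * v * t⁻¹) * s⁻¹) * (s * (t⁻¹ * v * t) * s⁻¹) := by
          rw [hu]; group
      _ = (v * r) * (t⁻¹ * (v * r) * t) * (t * (v * r) * t⁻¹) := by
          rw [h.s_t_conj, h.s_tinv_conj, hsv]
  have h4 : (v * r) * (t⁻¹ * (v * r) * t) * (t * (v * r) * t⁻¹) =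
      (v * (t⁻¹ * v * t) * (t * v * t⁻¹)) * (r * (t⁻¹ * r * t) * (t * r * t⁻¹)) := by
    have a1 : t⁻¹ * (v * r) * t = (t⁻¹ * v * t) * (t⁻¹ * r * t) := by group
    have a2 : t * (v * r) * t⁻¹ = (t * v * t⁻¹) * (t * r * t⁻¹) := by group
    rw [a1, a2]
    exact h.V_mul6 hv hv2 hv1 h.hrV hr2 hr1
  have h5 : v * (t⁻¹ * v * t) * (t * v * t⁻¹) = u := by
    rw [hu, mul_assoc v (t⁻¹ * v * t), mul_assoc v (t * v * t⁻¹), h.Vcomm hv2 hv1]
  have h6 : r * (t⁻¹ * r * t) * (t * r * t⁻¹) = r * (t * r * t⁻¹) * (t⁻¹ * r * t) := by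
    rw [mul_assoc r (t⁻¹ * r * t), mul_assoc r (t * r * t⁻¹), h.Vcomm hr2 hr1]
  rw [h3, h4, h5, h6] at hsu
  exact mul_left_cancel (a := u) (by rw [hsu, mul_one])


/-! ### the four-group `W` -/

theorem r1V (h : Side P T Q V s t r) : t * r * t⁻¹ ∈ V := h.tV h.hrV

theorem r1sq (h : Side P T Q V s t r) : (t * r * t⁻¹) * (t * r * t⁻¹) = 1 := h.hVexp _ h.r1V

theorem rr1comm (h : Side P T Q V s t r) : r * (t * r * t⁻¹) = (t * r * t⁻¹) * r := h.Vcomm h.hrV h.r1V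

/-- `r · r^t = r^(t⁻¹)` -/
theorem rr1 (h : Side P T Q V s t r) : r * (t * r * t⁻¹) = t⁻¹ * r * t := by
  have h1 := h.r_prod
  have h2 : (t⁻¹ * r * t) * (t⁻¹ * r * t) = 1 := h.hVexp _ (h.tV' h.hrV)
  calc r * (t * r * t⁻¹) = r * (t * r * t⁻¹) * ((t⁻¹ * r * t) * (t⁻¹ * r * t)) := by rw [h2, mul_one]
    _ = (r * (t * r * t⁻¹) * (t⁻¹ * r * t)) * (t⁻¹ * r * t) := by group
    _ = t⁻¹ * r * t := by rw [h1, one_mul]

/-- the four-group `W = {1, r, r^t, r r^t}` -/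
def W (h : Side P T Q V s t r) : Subgroup G := kleinSub r (t * r * t⁻¹) h.rr1comm h.r2 h.r1sq

theorem mem_W (h : Side P T Q V s t r) (x : G) :
    x ∈ h.W ↔ x = 1 ∨ x = r ∨ x = t * r * t⁻¹ ∨ x = r * (t * r * t⁻¹) :=
  mem_kleinSub _ _ _ x

theorem r_mem_W (h : Side P T Q V s t r) : r ∈ h.W := (h.mem_W r).mpr (Or.inr (Or.inl rfl))

theorem W_le_V (h : Side P T Q V s t r) : h.W ≤ V := by
  intro x hx
  rcases (h.mem_W x).mp hx with rfl | rfl | rfl | rfl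
  · exact V.one_mem
  · exact h.hrV
  · exact h.r1V
  · exact V.mul_mem h.hrV h.r1V

theorem W_sq (h : Side P T Q V s t r) {w : G} (hw : w ∈ h.W) : w * w = 1 := h.hVexp w (h.W_le_V hw)

theorem r1_ne_one (h : Side P T Q V s t r) : t * r * t⁻¹ ≠ 1 := by
  intro e
  apply h.hr1
  calc r = t⁻¹ * (t * r * t⁻¹) * t := by group
    _ = 1 := by rw [e]; group

/-- `t (r^t) t⁻¹ = r r^t` -/
theorem t_r1 (h : Side P T Q V s t r) : t * (t * r * t⁻¹) * t⁻¹ = r * (t * r * t⁻¹) := by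
  rw [h.rr1, h.tinv_conj]

/-- `t (r r^t) t⁻¹ = r` -/
theorem t_rr1 (h : Side P T Q V s t r) : t * (r * (t * r * t⁻¹)) * t⁻¹ = r := by
  rw [h.rr1]; group

theorem t_W (h : Side P T Q V s t r) {w : G} (hw : w ∈ h.W) : t * w * t⁻¹ ∈ h.W := by
  rcases (h.mem_W w).mp hw with rfl | rfl | rfl | rfl
  · simp
  · exact (h.mem_W _).mpr (Or.inr (Or.inr (Or.inl rfl)))
  · rw [h.t_r1]; exact (h.mem_W _).mpr (Or.inr (Or.inr (Or.inr rfl)))
  · rw [h.t_rr1]; exact h.r_mem_W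

/-- `s (r^t) s⁻¹ = r r^t` -/
theorem s_r1 (h : Side P T Q V s t r) : s * (t * r * t⁻¹) * s⁻¹ = r * (t * r * t⁻¹) := by
  rw [h.s_t_conj, h.sr, h.rr1]

theorem s_rr1 (h : Side P T Q V s t r) : s * (r * (t * r * t⁻¹)) * s⁻¹ = t * r * t⁻¹ := by
  calc s * (r * (t * r * t⁻¹)) * s⁻¹ = (s * r * s⁻¹) * (s * (t * r * t⁻¹) * s⁻¹) := by group
    _ = r * (r * (t * r * t⁻¹)) := by rw [h.sr, h.s_r1]
    _ = (r * r) * (t * r * t⁻¹) := by group
    _ = t * r * t⁻¹ := by rw [h.r2, one_mul]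

theorem s_W (h : Side P T Q V s t r) {w : G} (hw : w ∈ h.W) : s * w * s⁻¹ ∈ h.W := by
  rcases (h.mem_W w).mp hw with rfl | rfl | rfl | rfl
  · simp
  · rw [h.sr]; exact h.r_mem_W
  · rw [h.s_r1]; exact (h.mem_W _).mpr (Or.inr (Or.inr (Or.inr rfl)))
  · rw [h.s_rr1]; exact (h.mem_W _).mpr (Or.inr (Or.inr (Or.inl rfl)))

theorem q_W (h : Side P T Q V s t r) {q w : G} (hq : q ∈ Q) (hw : w ∈ h.W) : q * w * q⁻¹ = w := by
  rw [h.hQV q hq w (h.W_le_V hw)]; group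

theorem tpow_W (h : Side P T Q V s t r) (i : ℕ) {w : G} (hw : w ∈ h.W) :
    t ^ i * w * (t ^ i)⁻¹ ∈ h.W := by
  induction i generalizing w with
  | zero => simpa using hw
  | succ n ih =>
    have : t ^ (n + 1) * w * (t ^ (n + 1))⁻¹ = t ^ n * (t * w * t⁻¹) * (t ^ n)⁻¹ := by
      rw [pow_succ]; group
    rw [this]
    exact ih (h.t_W hw)

/-- `W` is normal in `P`. -/
theorem W_normal (h : Side P T Q V s t r) {g w : G} (hg : g ∈ P) (hw : w ∈ h.W) :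
    g * w * g⁻¹ ∈ h.W := by
  obtain ⟨q, hq, i, hgi | hgi⟩ := h.hgen g hg
  · have : g * w * g⁻¹ = q * (t ^ i * w * (t ^ i)⁻¹) * q⁻¹ := by rw [hgi]; group
    rw [this, h.q_W hq (h.tpow_W i hw)]
    exact h.tpow_W i hw
  · have : g * w * g⁻¹ = q * (t ^ i * (s * w * s⁻¹) * (t ^ i)⁻¹) * q⁻¹ := by rw [hgi]; group
    rw [this, h.q_W hq (h.tpow_W i (h.s_W hw))]
    exact h.tpow_W i (h.s_W hw)

/-- `t` has no nontrivial fixed point on `W`. -/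
theorem W_fix_t (h : Side P T Q V s t r) {w : G} (hw : w ∈ h.W) (hf : t * w * t⁻¹ = w) : w = 1 := by
  rcases (h.mem_W w).mp hw with rfl | rfl | rfl | rfl
  · rfl
  · exact absurd hf h.tr_ne
  · exfalso
    rw [h.t_r1] at hf
    -- r * r1 = r1 → r = 1
    exact h.hr1 (mul_right_cancel (b := t * r * t⁻¹) (by rw [hf, one_mul]))
  · exfalso
    rw [h.t_rr1] at hf
    -- r = r * r1 → r1 = 1
    apply h.r1_ne_one
    exact (mul_left_cancel (a := r) (by rw [← hf, mul_one])).symm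


/-! ### `[Q, t] ≤ W`, the complement `K = C_Q(t)` -/

theorem W_le_Q (h : Side P T Q V s t r) : h.W ≤ Q := h.W_le_V.trans h.hVQ

/-- `t = s · (t s t⁻¹)` -/
theorem t_eq (h : Side P T Q V s t r) : t = s * (t * s * t⁻¹) := by
  have h1 : s * t⁻¹ = t * s := by
    calc s * t⁻¹ = (s * t⁻¹ * s⁻¹) * s := by group
      _ = t * s := by rw [h.hst']
  have e : t⁻¹ = t * t := h.tinv
  have e' : t = t⁻¹ * t⁻¹ := by
    have := congrArg (fun z => z⁻¹) e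
    simpa using this
  calc t = (s * s) * t := by rw [h.hs2, one_mul]
    _ = s * (s * (t⁻¹ * t⁻¹)) := by rw [← e']; group
    _ = s * ((s * t⁻¹) * t⁻¹) := by group
    _ = s * (t * s * t⁻¹) := by rw [h1]

theorem c_mem_W (h : Side P T Q V s t r) {c : G} (hc : c = 1 ∨ c = r) : c ∈ h.W := by
  rcases hc with rfl | rfl
  · exact Subgroup.one_mem _
  · exact h.r_mem_W

/-- `s x s⁻¹ = x c` with `c ∈ {1, r}` for `x ∈ T` -/
theorem s_conj (h : Side P T Q V s t r) {x : G} (hx : x ∈ T) :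
    ∃ c, (c = 1 ∨ c = r) ∧ s * x * s⁻¹ = x * c := by
  rcases h.hcomm x hx with e | e
  · exact ⟨1, Or.inl rfl, by rw [e, mul_one]⟩
  · exact ⟨r, Or.inr rfl, e⟩

/-- `t` acts trivially on `Q / W`. -/
theorem t_Q (h : Side P T Q V s t r) {q : G} (hq : q ∈ Q) : ∃ w ∈ h.W, t * q * t⁻¹ = q * w := by
  have hq' : t⁻¹ * q * t ∈ Q := by
    have := h.hQn t⁻¹ h.tinvP q hq
    simpa using this
  obtain ⟨c, hc, e1⟩ := h.s_conj (h.hQT hq')
  obtain ⟨c2, hc2, e2⟩ := h.s_conj (h.hQT hq)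
  have hcW : t * c * t⁻¹ ∈ h.W := h.t_W (h.c_mem_W hc)
  refine ⟨c2 * (s * (t * c * t⁻¹) * s⁻¹), h.W.mul_mem (h.c_mem_W hc2) (h.s_W hcW), ?_⟩
  have h1 : t * q * t⁻¹ = s * (t * (s * (t⁻¹ * q * t) * s⁻¹) * t⁻¹) * s⁻¹ := by
    have h0 : t * q * t⁻¹ = (s * (t * s * t⁻¹)) * q * (s * (t * s * t⁻¹))⁻¹ := by rw [← h.t_eq]
    rw [h0]; group
  rw [h1, e1]
  calc s * (t * (t⁻¹ * q * t * c) * t⁻¹) * s⁻¹ = (s * q * s⁻¹) * (s * (t * c * t⁻¹) * s⁻¹) := by group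
    _ = q * c2 * (s * (t * c * t⁻¹) * s⁻¹) := by rw [e2]
    _ = q * (c2 * (s * (t * c * t⁻¹) * s⁻¹)) := by group

/-- `K = C_Q(t)` -/
def K (h : Side P T Q V s t r) : Subgroup G := Q ⊓ Subgroup.centralizer {t}

theorem mem_K (h : Side P T Q V s t r) (k : G) : k ∈ h.K ↔ k ∈ Q ∧ t * k = k * t := by
  unfold K
  rw [Subgroup.mem_inf, Subgroup.mem_centralizer_iff]
  simp

theorem K_le_Q (h : Side P T Q V s t r) : h.K ≤ Q := inf_le_left

theorem K_fix (h : Side P T Q V s t r) {k : G} (hk : k ∈ h.K) : t * k * t⁻¹ = k := by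
  rw [((h.mem_K k).mp hk).2]; group

theorem K_inf_W (h : Side P T Q V s t r) {k : G} (hk : k ∈ h.K) (hw : k ∈ h.W) : k = 1 :=
  h.W_fix_t hw (h.K_fix hk)

/-- `Q = K W` -/
theorem Q_eq_KW (h : Side P T Q V s t r) {q : G} (hq : q ∈ Q) : ∃ k ∈ h.K, ∃ w ∈ h.W, q = k * w := by
  obtain ⟨w0, hw0, e0⟩ := h.t_Q hq
  -- find w ∈ W with w0 * (t w t⁻¹) = w
  obtain ⟨w, hw, e1⟩ : ∃ w ∈ h.W, w0 * (t * w * t⁻¹) = w := by
    rcases (h.mem_W w0).mp hw0 with e | e | e | e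
    · exact ⟨1, Subgroup.one_mem _, by rw [e]; group⟩
    · refine ⟨t * r * t⁻¹, (h.mem_W _).mpr (Or.inr (Or.inr (Or.inl rfl))), ?_⟩
      rw [e, h.t_r1, ← mul_assoc, h.r2, one_mul]
    · refine ⟨r * (t * r * t⁻¹), (h.mem_W _).mpr (Or.inr (Or.inr (Or.inr rfl))), ?_⟩
      rw [e, h.t_rr1, h.rr1comm]
    · refine ⟨r, h.r_mem_W, ?_⟩
      rw [e, mul_assoc, h.r1sq, mul_one]
  have hkQ : q * w ∈ Q := Q.mul_mem hq (h.W_le_Q hw)
  refine ⟨q * w, (h.mem_K _).mpr ⟨hkQ, ?_⟩, w, hw, ?_⟩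
  · have : t * (q * w) * t⁻¹ = q * w := by
      calc t * (q * w) * t⁻¹ = (t * q * t⁻¹) * (t * w * t⁻¹) := by group
        _ = q * (w0 * (t * w * t⁻¹)) := by rw [e0]; group
        _ = q * w := by rw [e1]
    calc t * (q * w) = (t * (q * w) * t⁻¹) * t := by group
      _ = q * w * t := by rw [this]
  · rw [mul_assoc, h.W_sq hw, mul_one]

theorem s_K (h : Side P T Q V s t r) {k : G} (hk : k ∈ h.K) : s * k * s⁻¹ ∈ h.K := by
  rw [h.mem_K]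
  refine ⟨h.hQn s h.sP k (h.K_le_Q hk), ?_⟩
  have hk' : t⁻¹ * k * t = k := by
    calc t⁻¹ * k * t = t⁻¹ * (t * k * t⁻¹) * t := by rw [h.K_fix hk]
      _ = k := by group
  have h1 : t * (s * k * s⁻¹) * t⁻¹ = s * k * s⁻¹ := by
    have := h.s_tinv_conj k
    rw [hk'] at this
    exact this.symm
  calc t * (s * k * s⁻¹) = (t * (s * k * s⁻¹) * t⁻¹) * t := by group
    _ = s * k * s⁻¹ * t := by rw [h1]

/-- `s` centralizes `K`. -/
theorem s_cent_K (h : Side P T Q V s t r) {k : G} (hk : k ∈ h.K) : s * k * s⁻¹ = k := by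
  rcases h.hcomm k (h.hQT (h.K_le_Q hk)) with e | e
  · exact e
  · exfalso
    have h1 : k * r ∈ h.K := by rw [← e]; exact h.s_K hk
    have h2 : r ∈ h.K := by
      have := h.K.mul_mem (h.K.inv_mem hk) h1
      simpa using this
    exact h.hr1 (h.K_inf_W h2 h.r_mem_W)

theorem q_K (h : Side P T Q V s t r) {q k : G} (hq : q ∈ Q) (hk : k ∈ h.K) : q * k * q⁻¹ ∈ h.K := by
  obtain ⟨k', hk', w, hw, rfl⟩ := h.Q_eq_KW hq
  have hwk : w * k * w⁻¹ = k := by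
    have := h.hQV k (h.K_le_Q hk) w (h.W_le_V hw)
    rw [← this]; group
  have : k' * w * k * (k' * w)⁻¹ = k' * (w * k * w⁻¹) * k'⁻¹ := by group
  rw [this, hwk]
  exact h.K.mul_mem (h.K.mul_mem hk' hk) (h.K.inv_mem hk')

theorem tpow_K (h : Side P T Q V s t r) (i : ℕ) {k : G} (hk : k ∈ h.K) :
    t ^ i * k * (t ^ i)⁻¹ = k := by
  induction i with
  | zero => simp
  | succ n ih =>
    have : t ^ (n + 1) * k * (t ^ (n + 1))⁻¹ = t ^ n * (t * k * t⁻¹) * (t ^ n)⁻¹ := by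
      rw [pow_succ]; group
    rw [this, h.K_fix hk, ih]

/-- `K` is normal in `P`. -/
theorem K_normal (h : Side P T Q V s t r) {g k : G} (hg : g ∈ P) (hk : k ∈ h.K) :
    g * k * g⁻¹ ∈ h.K := by
  obtain ⟨q, hq, i, hgi | hgi⟩ := h.hgen g hg
  · have : g * k * g⁻¹ = q * (t ^ i * k * (t ^ i)⁻¹) * q⁻¹ := by rw [hgi]; group
    rw [this, h.tpow_K i hk]
    exact h.q_K hq hk
  · have : g * k * g⁻¹ = q * (t ^ i * (s * k * s⁻¹) * (t ^ i)⁻¹) * q⁻¹ := by rw [hgi]; group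
    rw [this, h.s_cent_K hk, h.tpow_K i hk]
    exact h.q_K hq hk

end Side

end Cfsg.Agent.Lib.H23.SimsL2
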