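import Mathlib
import Cfsg.Agent.Lib.H23.SimsL2B

set_option autoImplicit false

/-!
# S3685 piece L2, part C: the two sides together
-/

namespace Cfsg.Agent.Lib.H23.SimsL2

variable {G : Type*} [Group G]

namespace Hyp

variable {P P' T Q Q' V V' : Subgroup G}

theorem symm (h : Hyp P P' T Q Q' V V') : Hyp P' P T Q' Q V' V where
  hT := by rw [h.hT, inf_comm]
  finP := h.finP'
  finP' := h.finP
  hT2 := h.hT2
  cardP := h.cardP'
  cardP' := h.cardP
  hQT := h.hQ'T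
  hQ'T := h.hQT
  cardQ := h.cardQ'
  cardQ' := h.cardQ
  hQn := h.hQ'n
  hQ'n := h.hQn
  hTn := h.hTn'
  hTn' := h.hTn
  hVQ := h.hV'Q'
  hV'Q' := h.hVQ
  hVn := h.hV'n
  hV'n := h.hVn
  hVexp := h.hV'exp
  hV'exp := h.hVexp
  hQV := h.hQ'V'
  hQ'V' := h.hQV
  hCV := h.hCV'
  hCV' := h.hCV
  hZV := h.hZV'
  hZV' := h.hZV
  hcore := fun X hX h1 h2 => h.hcore X hX h2 h1
  hne := by
    obtain ⟨x, hx, y, hy, hxy⟩ := h.hne
    exact ⟨y, hy, x, hx, fun e => hxy e.symm⟩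

theorem TP (h : Hyp P P' T Q Q' V V') : T ≤ P := by rw [h.hT]; exact inf_le_left

theorem TP' (h : Hyp P P' T Q Q' V V') : T ≤ P' := by rw [h.hT]; exact inf_le_right

theorem finT (h : Hyp P P' T Q Q' V V') : Finite ↥T :=
  haveI := h.finP
  Finite.of_injective _ (Subgroup.inclusion_injective h.TP)

theorem V'T (h : Hyp P P' T Q Q' V V') : V' ≤ T := h.hV'Q'.trans h.hQ'T

theorem VT (h : Hyp P P' T Q Q' V V') : V ≤ T := h.hVQ.trans h.hQT

/-- the one-sided data attached to a non-commuting pair `x ∈ V`, `y ∈ V'` -/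
theorem side (h : Hyp P P' T Q Q' V V') {x y : G} (hx : x ∈ V) (hy : y ∈ V') (hxy : x * y ≠ y * x) :
    ∃ t, Side P T Q V y t (x * y * x⁻¹ * y⁻¹) := by
  have := h.finP
  have := h.finT
  have hxinv : x⁻¹ = x := inv_eq_of_mul_eq_one_right (h.hVexp x hx)
  have hyinv : y⁻¹ = y := inv_eq_of_mul_eq_one_right (h.hV'exp y hy)
  have hyT : y ∈ T := h.V'T hy
  have hxT : x ∈ T := h.VT hx
  have hyQ : y ∉ Q := fun hq => hxy (h.hQV y hq x hx).symm
  have hxQ' : x ∉ Q' := fun hq => hxy (h.hQ'V' x hq y hy)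
  set r : G := x * y * x⁻¹ * y⁻¹ with hr
  have hrV : r ∈ V := by
    have h1 : y * x⁻¹ * y⁻¹ ∈ V := h.hVn y (h.TP hyT) x⁻¹ (V.inv_mem hx)
    have : r = x * (y * x⁻¹ * y⁻¹) := by rw [hr]; group
    rw [this]; exact V.mul_mem hx h1
  have hrV' : r ∈ V' := by
    have h1 : x * y * x⁻¹ ∈ V' := h.hV'n x (h.TP' hxT) y hy
    exact V'.mul_mem h1 (V'.inv_mem hy)
  have hr1 : r ≠ 1 := by
    intro e
    apply hxy
    have : x * y = r * (y * x) := by rw [hr]; group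
    rw [this, e, one_mul]
  -- r is central in T
  have hry : y * r = r * y := h.hQ'V' y (h.hV'Q' hy) r hrV'
  have hrT : ∀ z ∈ T, z * r = r * z := by
    intro z hz
    by_cases hzQ : z ∈ Q
    · exact h.hQV z hzQ r hrV
    · have h1 : y * z ∈ Q := (idx2 h.hQT h.cardQ hyT hz).mpr (by simp [hyQ, hzQ])
      have h2 := h.hQV _ h1 r hrV
      -- z = y * (y * z)
      have e : z = y * (y * z) := by rw [← mul_assoc, h.hV'exp y hy, one_mul]
      rw [e, mul_assoc, h2, ← mul_assoc, hry, mul_assoc]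
  -- y x y⁻¹ = x r
  have hyx : y * x * y⁻¹ = x * r := by
    have hrinv : r⁻¹ = r := inv_eq_of_mul_eq_one_right (h.hVexp r hrV)
    have h1 : y * x * y⁻¹ = r⁻¹ * x := by
      rw [hr]; simp only [mul_inv_rev, inv_inv]
      rw [hxinv, hyinv]
      have hx2 := h.hVexp x hx
      have hy2 := h.hV'exp y hy
      calc y * x * y = y * x * y * (x * x) := by rw [hx2, mul_one]
        _ = y * (x * (y * x)) * x := by group
    rw [h1, hrinv]
    exact (hrT x hxT).symm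
  -- commutators of T with y
  have hcomm : ∀ z ∈ T, y * z * y⁻¹ = z ∨ y * z * y⁻¹ = z * r := by
    intro z hz
    by_cases hzQ' : z ∈ Q'
    · left
      rw [← h.hQ'V' z hzQ' y hy]; group
    · right
      have h1 : x * z ∈ Q' := (idx2 h.hQ'T h.cardQ' hxT hz).mpr (by simp [hxQ', hzQ'])
      have e : z = x * (x * z) := by rw [← mul_assoc, h.hVexp x hx, one_mul]
      have h2 : y * (x * z) * y⁻¹ = x * z := by
        rw [← h.hQ'V' _ h1 y hy]; group
      calc y * z * y⁻¹ = y * (x * (x * z)) * y⁻¹ := by rw [← e]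
        _ = (y * x * y⁻¹) * (y * (x * z) * y⁻¹) := by group
        _ = x * r * (x * z) := by rw [hyx, h2]
        _ = x * (r * (x * z)) := by group
        _ = x * ((x * z) * r) := by rw [hrT _ (T.mul_mem hxT hz)]
        _ = (x * (x * z)) * r := by group
        _ = z * r := by rw [← e]
  obtain ⟨t, htP, ht3, htQ, hst, hgen⟩ := exists_t P T Q h.TP h.hQT h.hT2 h.cardP h.cardQ h.hQn h.hTn
    y hyT hyQ (h.hV'exp y hy)
  exact ⟨t, { hTP := h.TP, hQT := h.hQT, hVQ := h.hVQ, hQn := h.hQn, hVn := h.hVn, hVexp := h.hVexp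
              hQV := h.hQV, hCV := h.hCV, hsT := hyT, hsQ := hyQ, hs2 := h.hV'exp y hy, htP := htP
              ht3 := ht3, htQ := htQ, hst := hst, hgen := hgen, hr1 := hr1, hrV := hrV, hrT := hrT
              hcomm := hcomm }⟩

end Hyp


/-- both sides -/
structure Two (P P' T Q Q' V V' : Subgroup G) (x y t t' r : G) : Prop where
  hyp : Hyp P P' T Q Q' V V'
  hx : x ∈ V
  hy : y ∈ V'
  s1 : Side P T Q V y t r
  s2 : Side P' T Q' V' x t' r

theorem Hyp.two {P P' T Q Q' V V' : Subgroup G} (h : Hyp P P' T Q Q' V V') :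
    ∃ x y t t' r, Two P P' T Q Q' V V' x y t t' r := by
  obtain ⟨x, hx, y, hy, hxy⟩ := h.hne
  obtain ⟨t, ht⟩ := h.side hx hy hxy
  obtain ⟨t', ht'⟩ := h.symm.side hy hx (fun e => hxy e.symm)
  have hr : y * x * y⁻¹ * x⁻¹ = x * y * x⁻¹ * y⁻¹ := by
    have h1 : (x * y * x⁻¹ * y⁻¹)⁻¹ = x * y * x⁻¹ * y⁻¹ :=
      inv_eq_of_mul_eq_one_right (h.hVexp _ ht.hrV)
    rw [← h1]; group
  rw [hr] at ht'
  exact ⟨x, y, t, t', _, ⟨h, hx, hy, ht, ht'⟩⟩

namespace Two

variable {P P' T Q Q' V V' : Subgroup G} {x y t t' r : G}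

theorem swap (h : Two P P' T Q Q' V V' x y t t' r) : Two P' P T Q' Q V' V y x t' t r :=
  ⟨h.hyp.symm, h.hy, h.hx, h.s2, h.s1⟩

theorem r_notin_K (h : Two P P' T Q Q' V V' x y t t' r) : r ∉ h.s1.K :=
  fun hk => h.s1.hr1 (h.s1.K_inf_W hk h.s1.r_mem_W)

/-- `K` centralizes `V'`. -/
theorem K_cent_V' (h : Two P P' T Q Q' V V' x y t t' r) {k v : G} (hk : k ∈ h.s1.K) (hv : v ∈ V') :
    k * v = v * k := by
  have hkT : k ∈ T := h.hyp.hQT (h.s1.K_le_Q hk)
  have hvT : v ∈ T := h.hyp.V'T hv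
  -- k v k⁻¹ ∈ {v, v r}
  have h1 : k * v * k⁻¹ = v ∨ k * v * k⁻¹ = v * r := by
    by_cases hkQ' : k ∈ Q'
    · left
      rw [h.hyp.hQ'V' k hkQ' v hv]; group
    · have hxQ' : x ∉ Q' := h.s2.hsQ
      have hxT : x ∈ T := h.s2.hsT
      have := h.hyp.finT
      have h2 : x * k ∈ Q' := (idx2 h.hyp.hQ'T h.hyp.cardQ' hxT hkT).mpr (by simp [hxQ', hkQ'])
      have e : k = x * (x * k) := by rw [← mul_assoc, h.s2.hs2, one_mul]
      have h3 : (x * k) * v * (x * k)⁻¹ = v := by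
        rw [h.hyp.hQ'V' _ h2 v hv]; group
      have h4 : k * v * k⁻¹ = x * ((x * k) * v * (x * k)⁻¹) * x⁻¹ := by
        have e' : k * v * k⁻¹ = (x * (x * k)) * v * (x * (x * k))⁻¹ := by rw [← e]
        rw [e']; group
      rw [h4, h3]
      exact h.s2.hcomm v hvT
  rcases h1 with e | e
  · calc k * v = (k * v * k⁻¹) * k := by group
      _ = v * k := by rw [e]
  · exfalso
    -- then r = v⁻¹ k v k⁻¹ ∈ K
    apply h.r_notin_K
    have h5 : v⁻¹ * k * v ∈ h.s1.K := by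
      have := h.s1.K_normal (P.inv_mem (h.hyp.TP hvT)) hk
      simpa using this
    have h6 : r = (v⁻¹ * k * v) * k⁻¹ := by
      have : v * r = k * v * k⁻¹ := e.symm
      calc r = v⁻¹ * (v * r) := by group
        _ = v⁻¹ * (k * v * k⁻¹) := by rw [this]
        _ = (v⁻¹ * k * v) * k⁻¹ := by group
    have hmem := h.s1.K.mul_mem h5 (h.s1.K.inv_mem hk)
    rwa [← h6] at hmem

theorem K_le_Q' (h : Two P P' T Q Q' V V' x y t t' r) : h.s1.K ≤ Q' := by
  intro k hk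
  exact h.hyp.hCV' k (h.hyp.TP' (h.hyp.hQT (h.s1.K_le_Q hk))) (fun v hv => h.K_cent_V' hk hv)

/-- elements of `W` fixed by `s = y` -/
theorem W_fix_s (h : Two P P' T Q Q' V V' x y t t' r) {w : G} (hw : w ∈ h.s1.W)
    (hf : y * w * y⁻¹ = w) : w = 1 ∨ w = r := by
  rcases (h.s1.mem_W w).mp hw with e | e | e | e
  · exact Or.inl e
  · exact Or.inr e
  · exfalso
    rw [e, h.s1.s_r1] at hf
    exact h.s1.hr1 (mul_right_cancel (b := t * r * t⁻¹) (by rw [hf, one_mul]))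
  · exfalso
    rw [e, h.s1.s_rr1] at hf
    apply h.s1.hr1
    have : 1 * (t * r * t⁻¹) = r * (t * r * t⁻¹) := by rw [one_mul]; exact hf
    exact (mul_right_cancel this).symm

theorem W_inf_Q' (h : Two P P' T Q Q' V V' x y t t' r) {w : G} (hw : w ∈ h.s1.W) (hq : w ∈ Q') :
    w = 1 ∨ w = r := by
  apply h.W_fix_s hw
  rw [← h.hyp.hQ'V' w hq y h.hy]; group

/-- `Q' = K W'` -/
theorem Q'_eq (h : Two P P' T Q Q' V V' x y t t' r) {q : G} (hq : q ∈ Q') :
    ∃ k ∈ h.s1.K, ∃ w ∈ h.s2.W, q = k * w := by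
  obtain ⟨k', hk', w', hw', rfl⟩ := h.s2.Q_eq_KW hq
  have hk'Q : k' ∈ Q := h.swap.K_le_Q' hk'
  obtain ⟨k, hk, w, hw, e⟩ := h.s1.Q_eq_KW hk'Q
  have hwQ' : w ∈ Q' := by
    have : w = k⁻¹ * k' := by rw [e]; group
    rw [this]
    exact Q'.mul_mem (Q'.inv_mem (h.K_le_Q' hk)) (h.s2.K_le_Q hk')
  have hwW' : w ∈ h.s2.W := by
    rcases h.W_inf_Q' hw hwQ' with e1 | e1
    · rw [e1]; exact Subgroup.one_mem _
    · rw [e1]; exact h.s2.r_mem_W
  exact ⟨k, hk, w * w', h.s2.W.mul_mem hwW' hw', by rw [e]; group⟩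

theorem conj_closure_mem {S : Set G} {g : G} (hS : ∀ z ∈ S, g * z * g⁻¹ ∈ S) {z : G}
    (hz : z ∈ Subgroup.closure S) : g * z * g⁻¹ ∈ Subgroup.closure S := by
  induction hz using Subgroup.closure_induction with
  | mem a ha => exact Subgroup.subset_closure (hS a ha)
  | one => simp
  | mul a b _ _ iha ihb =>
    have : g * (a * b) * g⁻¹ = (g * a * g⁻¹) * (g * b * g⁻¹) := by group
    rw [this]; exact Subgroup.mul_mem _ iha ihb
  | inv a _ iha =>
    have : g * a⁻¹ * g⁻¹ = (g * a * g⁻¹)⁻¹ := by group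
    rw [this]; exact Subgroup.inv_mem _ iha

/-- `K` has exponent 2. -/
theorem K_sq (h : Two P P' T Q Q' V V' x y t t' r) {k : G} (hk : k ∈ h.s1.K) : k * k = 1 := by
  set S : Set G := {z | ∃ k ∈ h.s1.K, z = k * k} with hS
  have hSK : S ⊆ h.s1.K := by
    rintro z ⟨k, hk, rfl⟩
    exact h.s1.K.mul_mem hk hk
  have hXT : Subgroup.closure S ≤ T :=
    ((Subgroup.closure_le _).mpr hSK).trans (h.s1.K_le_Q.trans h.hyp.hQT)
  have hP : ∀ g ∈ P, ∀ z ∈ Subgroup.closure S, g * z * g⁻¹ ∈ Subgroup.closure S := by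
    intro g hg z hz
    apply conj_closure_mem _ hz
    rintro z ⟨k, hk, rfl⟩
    exact ⟨g * k * g⁻¹, h.s1.K_normal hg hk, by group⟩
  have hP' : ∀ g ∈ P', ∀ z ∈ Subgroup.closure S, g * z * g⁻¹ ∈ Subgroup.closure S := by
    intro g hg z hz
    apply conj_closure_mem _ hz
    rintro z ⟨k, hk, rfl⟩
    have hq : g * k * g⁻¹ ∈ Q' := h.hyp.hQ'n g hg k (h.K_le_Q' hk)
    obtain ⟨k1, hk1, w1, hw1, e⟩ := h.Q'_eq hq
    refine ⟨k1, hk1, ?_⟩
    have hcomm : k1 * w1 = w1 * k1 := h.hyp.hQ'V' k1 (h.K_le_Q' hk1) w1 (h.s2.W_le_V hw1)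
    calc g * (k * k) * g⁻¹ = (g * k * g⁻¹) * (g * k * g⁻¹) := by group
      _ = (k1 * w1) * (k1 * w1) := by rw [e]
      _ = k1 * (w1 * k1) * w1 := by group
      _ = k1 * (k1 * w1) * w1 := by rw [hcomm]
      _ = k1 * k1 * (w1 * w1) := by group
      _ = k1 * k1 := by rw [h.s2.W_sq hw1, mul_one]
  have hbot := h.hyp.hcore _ hXT hP hP'
  have : k * k ∈ Subgroup.closure S := Subgroup.subset_closure ⟨k, hk, rfl⟩
  rw [hbot] at this
  exact Subgroup.mem_bot.mp this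

theorem K_comm (h : Two P P' T Q Q' V V' x y t t' r) {a b : G} (ha : a ∈ h.s1.K) (hb : b ∈ h.s1.K) :
    a * b = b * a := by
  have h1 := h.K_sq (h.s1.K.mul_mem ha hb)
  have h2 := h.K_sq ha
  have h3 := h.K_sq hb
  calc a * b = (b * b) * (a * b) * (a * a) := by rw [h2, h3]; group
    _ = b * ((b * a) * (b * a)) * a := by group
    _ = b * a := by
      have : (b * a) * (b * a) = 1 := h.K_sq (h.s1.K.mul_mem hb ha)
      rw [this]; group

/-- `K` is central in `P`. -/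
theorem K_central (h : Two P P' T Q Q' V V' x y t t' r) {k g : G} (hk : k ∈ h.s1.K) (hg : g ∈ P) :
    g * k = k * g := by
  have hq : ∀ q ∈ Q, q * k = k * q := by
    intro q hq
    obtain ⟨k1, hk1, w, hw, rfl⟩ := h.s1.Q_eq_KW hq
    have h1 : w * k = k * w := (h.s1.hQV k (h.s1.K_le_Q hk) w (h.s1.W_le_V hw)).symm
    calc k1 * w * k = k1 * (w * k) := by group
      _ = k1 * (k * w) := by rw [h1]
      _ = (k1 * k) * w := by group
      _ = (k * k1) * w := by rw [h.K_comm hk1 hk]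
      _ = k * (k1 * w) := by group
  have ht : ∀ i : ℕ, t ^ i * k = k * t ^ i := by
    intro i
    have := h.s1.tpow_K i hk
    calc t ^ i * k = (t ^ i * k * (t ^ i)⁻¹) * t ^ i := by group
      _ = k * t ^ i := by rw [this]
  have hs : y * k = k * y := by
    have := h.s1.s_cent_K hk
    calc y * k = (y * k * y⁻¹) * y := by group
      _ = k * y := by rw [this]
  obtain ⟨q, hq', i, e | e⟩ := h.s1.hgen g hg
  · rw [e]
    calc q * t ^ i * k = q * (t ^ i * k) := by group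
      _ = q * (k * t ^ i) := by rw [ht]
      _ = (q * k) * t ^ i := by group
      _ = k * q * t ^ i := by rw [hq q hq']
      _ = k * (q * t ^ i) := by group
  · rw [e]
    calc q * t ^ i * y * k = q * t ^ i * (y * k) := by group
      _ = q * (t ^ i * k) * y := by rw [hs]; group
      _ = (q * k) * t ^ i * y := by rw [ht]; group
      _ = k * (q * t ^ i * y) := by rw [hq q hq']; group

theorem K_le_V (h : Two P P' T Q Q' V V' x y t t' r) : h.s1.K ≤ V := by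
  intro k hk
  apply h.hyp.hZV k (h.hyp.hQT (h.s1.K_le_Q hk)) (h.K_sq hk)
  intro z hz
  exact (h.K_central hk (h.hyp.TP hz)).symm

theorem Q_le_V (h : Two P P' T Q Q' V V' x y t t' r) : Q ≤ V := by
  intro q hq
  obtain ⟨k, hk, w, hw, rfl⟩ := h.s1.Q_eq_KW hq
  exact V.mul_mem (h.K_le_V hk) (h.s1.W_le_V hw)

/-- `K ⊓ K' = 1` -/
theorem K_inf_K' (h : Two P P' T Q Q' V V' x y t t' r) {k : G} (hk : k ∈ h.s1.K) (hk' : k ∈ h.s2.K) :
    k = 1 := by
  have hbot := h.hyp.hcore (h.s1.K ⊓ h.s2.K) (inf_le_left.trans (h.s1.K_le_Q.trans h.hyp.hQT))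
    (fun g hg z hz => by
      have : g * z * g⁻¹ = z := by rw [h.K_central hz.1 hg]; group
      rw [this]; exact hz)
    (fun g hg z hz => by
      have : g * z * g⁻¹ = z := by rw [h.swap.K_central hz.2 hg]; group
      rw [this]; exact hz)
  have : k ∈ h.s1.K ⊓ h.s2.K := ⟨hk, hk'⟩
  rw [hbot] at this
  exact Subgroup.mem_bot.mp this

/-- every element of `K'` lies in `K ∪ K r` -/
theorem K'_sub (h : Two P P' T Q Q' V V' x y t t' r) {k' : G} (hk' : k' ∈ h.s2.K) :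
    k' ∈ h.s1.K ∨ k' * r ∈ h.s1.K := by
  have hk'Q : k' ∈ Q := h.swap.K_le_Q' hk'
  obtain ⟨k, hk, w, hw, e⟩ := h.s1.Q_eq_KW hk'Q
  have hwQ' : w ∈ Q' := by
    have : w = k⁻¹ * k' := by rw [e]; group
    rw [this]
    exact Q'.mul_mem (Q'.inv_mem (h.K_le_Q' hk)) (h.s2.K_le_Q hk')
  rcases h.W_inf_Q' hw hwQ' with e1 | e1
  · left; rw [e, e1, mul_one]; exact hk
  · right; rw [e, e1, mul_assoc, h.s1.r2, mul_one]; exact hk

/-- `K'` has at most one non-identity element -/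
theorem K'_small (h : Two P P' T Q Q' V V' x y t t' r) {a b : G} (ha : a ∈ h.s2.K) (hb : b ∈ h.s2.K)
    (ha1 : a ≠ 1) (hb1 : b ≠ 1) : a = b := by
  have hra : a * r ∈ h.s1.K := by
    rcases h.K'_sub ha with e | e
    · exact absurd (h.K_inf_K' e ha) ha1
    · exact e
  have hrb : b * r ∈ h.s1.K := by
    rcases h.K'_sub hb with e | e
    · exact absurd (h.K_inf_K' e hb) hb1
    · exact e
  have h1 : a * b⁻¹ ∈ h.s1.K := by
    have : a * b⁻¹ = (a * r) * (b * r)⁻¹ := by group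
    rw [this]
    exact h.s1.K.mul_mem hra (h.s1.K.inv_mem hrb)
  have h2 : a * b⁻¹ ∈ h.s2.K := h.s2.K.mul_mem ha (h.s2.K.inv_mem hb)
  have := h.K_inf_K' h1 h2
  exact mul_inv_eq_one.mp this

theorem K_small (h : Two P P' T Q Q' V V' x y t t' r) {a b : G} (ha : a ∈ h.s1.K) (hb : b ∈ h.s1.K)
    (ha1 : a ≠ 1) (hb1 : b ≠ 1) : a = b := h.swap.K'_small ha hb ha1 hb1

end Two

end Cfsg.Agent.Lib.H23.SimsL2
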