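import Mathlib
import Cfsg.Agent.Lib.H23.SimsL2C
import Cfsg.Agent.Lib.H5.S4Recog
import Cfsg.Agent.Lib.H2.SimsR3

set_option autoImplicit false

/-!
# S3685 piece L2 (section 8 of the blueprint): `Hyp → Goal`

In the case `l = 2` (helper27's `b = 1`), `P ≃ S₄` or `P ≃ S₄ × Z₂`.
-/

namespace Cfsg.Agent.Lib.H23.SimsL2

open Cfsg.Agent.Lib.H5.KleinCount

variable {G : Type*} [Group G]

theorem kleinFour_of_card_of_sq {K : Type*} [Group K] (V : Subgroup K) (hcard : Nat.card ↥V = 4)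
    (hsq : ∀ x ∈ V, x ^ 2 = 1) : IsKleinFour ↥V := by
  refine ⟨hcard, ?_⟩
  have hdvd : Monoid.exponent ↥V ∣ 2 := by
    apply Monoid.exponent_dvd_of_forall_pow_eq_one
    rintro ⟨y, hy⟩
    apply Subtype.ext
    exact hsq y hy
  rcases (Nat.dvd_prime Nat.prime_two).1 hdvd with h | h
  · exfalso
    have hsub : Subsingleton ↥V := Monoid.exp_eq_one_iff.1 h
    have : Nat.card ↥V ≤ 1 := Finite.card_le_one_iff_subsingleton.2 hsub
    omega
  · exact h

namespace Two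

variable {P P' T Q Q' V V' : Subgroup G} {x y t t' r : G}

theorem card_W (h : Two P P' T Q Q' V V' x y t t' r) : Nat.card ↥h.s1.W = 4 :=
  card_kleinSub _ _ _ h.s1.hr1 h.s1.r1_ne_one h.s1.tr_ne

/-- `|Q| = |K| · 4` -/
theorem card_Q (h : Two P P' T Q Q' V V' x y t t' r) : Nat.card ↥Q = Nat.card ↥h.s1.K * 4 := by
  rw [← h.card_W, ← Nat.card_prod]
  symm
  let f : ↥h.s1.K × ↥h.s1.W → ↥Q := fun p =>
    ⟨(p.1 : G) * (p.2 : G), Q.mul_mem (h.s1.K_le_Q p.1.2) (h.s1.W_le_Q p.2.2)⟩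
  apply Nat.card_congr (Equiv.ofBijective f ⟨?_, ?_⟩)
  · rintro ⟨⟨k, hk⟩, ⟨w, hw⟩⟩ ⟨⟨k', hk'⟩, ⟨w', hw'⟩⟩ e
    have e' : k * w = k' * w' := congrArg Subtype.val e
    have h1 : k'⁻¹ * k = w' * w⁻¹ := by
      calc k'⁻¹ * k = k'⁻¹ * (k * w) * w⁻¹ := by group
        _ = w' * w⁻¹ := by rw [e']; group
    have h2 : k'⁻¹ * k ∈ h.s1.K := h.s1.K.mul_mem (h.s1.K.inv_mem hk') hk
    have h3 : k'⁻¹ * k ∈ h.s1.W := by rw [h1]; exact h.s1.W.mul_mem hw' (h.s1.W.inv_mem hw)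
    have h4 : k'⁻¹ * k = 1 := h.s1.K_inf_W h2 h3
    have hkk : k = k' := by
      have := inv_mul_eq_one.mp h4
      exact this.symm
    subst hkk
    have hww : w = w' := mul_left_cancel e'
    subst hww
    rfl
  · rintro ⟨q, hq⟩
    obtain ⟨k, hk, w, hw, rfl⟩ := h.s1.Q_eq_KW hq
    exact ⟨⟨⟨k, hk⟩, ⟨w, hw⟩⟩, rfl⟩

theorem card_K (h : Two P P' T Q Q' V V' x y t t' r) : Nat.card ↥h.s1.K = 1 ∨ Nat.card ↥h.s1.K = 2 := by
  by_cases hne : ∃ a ∈ h.s1.K, a ≠ 1
  · right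
    obtain ⟨a, ha, ha1⟩ := hne
    rw [Nat.card_eq_two_iff]
    refine ⟨⟨a, ha⟩, 1, fun e => ha1 (congrArg Subtype.val e), ?_⟩
    ext ⟨b, hb⟩
    simp only [Set.mem_insert_iff, Set.mem_singleton_iff, Set.mem_univ, iff_true]
    by_cases hb1 : b = 1
    · right; exact Subtype.ext hb1
    · left; exact Subtype.ext (h.K_small hb ha hb1 ha1)
  · left
    push Not at hne
    rw [Nat.card_eq_one_iff_unique]
    exact ⟨⟨fun a b => Subtype.ext ((hne a a.2).trans (hne b b.2).symm)⟩, ⟨1⟩⟩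

theorem cardP_eq (h : Two P P' T Q Q' V V' x y t t' r) : Nat.card ↥P = 24 * Nat.card ↥h.s1.K := by
  rw [h.hyp.cardP, h.hyp.cardQ, h.card_Q]; ring

/-- elements of `P` centralizing `W` and `K` lie in `Q`. -/
theorem cent_mem_Q (h : Two P P' T Q Q' V V' x y t t' r) {g : G} (hg : g ∈ P)
    (hW : ∀ w ∈ h.s1.W, g * w = w * g) (hK : ∀ k ∈ h.s1.K, g * k = k * g) : g ∈ Q := by
  apply h.hyp.hCV g hg
  intro v hv
  obtain ⟨k, hk, w, hw, rfl⟩ := h.s1.Q_eq_KW (h.hyp.hVQ hv)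
  calc g * (k * w) = (g * k) * w := by group
    _ = k * (g * w) := by rw [hK k hk]; group
    _ = k * w * g := by rw [hW w hw]; group

theorem goal (h : Two P P' T Q Q' V V' x y t t' r) : Goal P := by
  classical
  have := h.hyp.finP
  have hWP : h.s1.W ≤ P := h.s1.W_le_Q.trans (h.hyp.hQT.trans h.hyp.TP)
  have hKP : h.s1.K ≤ P := h.s1.K_le_Q.trans (h.hyp.hQT.trans h.hyp.TP)
  set W' : Subgroup ↥P := h.s1.W.subgroupOf P with hW'
  set C' : Subgroup ↥P := h.s1.K.subgroupOf P with hC'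
  have hW'n : W'.Normal := ⟨fun w hw g => by
    rw [hW', Subgroup.mem_subgroupOf] at hw ⊢
    simpa using h.s1.W_normal g.2 hw⟩
  have hW'card : Nat.card ↥W' = 4 := by
    rw [← h.card_W]
    exact Nat.card_congr (Subgroup.subgroupOfEquivOfLe hWP).toEquiv
  have hC'card : Nat.card ↥C' = Nat.card ↥h.s1.K :=
    Nat.card_congr (Subgroup.subgroupOfEquivOfLe hKP).toEquiv
  have hW'sq : ∀ z ∈ W', z ^ 2 = 1 := by
    intro z hz
    rw [hW', Subgroup.mem_subgroupOf] at hz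
    apply Subtype.ext
    rw [Subgroup.coe_pow, Subgroup.coe_one, pow_two]
    exact h.s1.W_sq hz
  rcases h.card_K with hK1 | hK2
  · -- `P ≃ S₄`
    left
    have hcard : Nat.card ↥P = 24 := by rw [h.cardP_eq, hK1]
    have hKbot : ∀ k ∈ h.s1.K, k = 1 := by
      intro k hk
      have hsub : Subsingleton ↥h.s1.K := (Nat.card_eq_one_iff_unique.mp hK1).1
      exact congrArg Subtype.val (Subsingleton.elim (⟨k, hk⟩ : ↥h.s1.K) 1)
    have hkl : IsKleinFour ↥W' := kleinFour_of_card_of_sq W' hW'card hW'sq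
    refine Cfsg.Agent.Lib.H5.S4Recog.nonempty_mulEquiv_perm_four hcard W' hkl ?_
    intro g hg
    rw [Subgroup.mem_centralizer_iff] at hg
    have hgQ : (g : G) ∈ Q := by
      apply h.cent_mem_Q g.2
      · intro w hw
        have := hg ⟨w, hWP hw⟩ (by rw [SetLike.mem_coe, hW', Subgroup.mem_subgroupOf]; exact hw)
        exact (congrArg Subtype.val this).symm
      · intro k hk
        rw [hKbot k hk]; group
    obtain ⟨k, hk, w, hw, e⟩ := h.s1.Q_eq_KW hgQ
    rw [hW', Subgroup.mem_subgroupOf, e, hKbot k hk, one_mul]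
    exact hw
  · -- `P ≃ S₄ × Z₂`
    right
    have hcard : Nat.card ↥P = 48 := by rw [h.cardP_eq, hK2]
    have hCc : C' ≤ Subgroup.center ↥P := by
      intro k hk
      rw [hC', Subgroup.mem_subgroupOf] at hk
      rw [Subgroup.mem_center_iff]
      intro g
      apply Subtype.ext
      exact h.K_central hk g.2
    have hCW : C' ⊓ W' = ⊥ := by
      rw [eq_bot_iff]
      intro z hz
      obtain ⟨hz1, hz2⟩ := Subgroup.mem_inf.mp hz
      rw [hC', Subgroup.mem_subgroupOf] at hz1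
      rw [hW', Subgroup.mem_subgroupOf] at hz2
      rw [Subgroup.mem_bot]
      exact Subtype.ext (h.s1.K_inf_W hz1 hz2)
    have hsupQ : ∀ z : ↥P, z ∈ W' ⊔ C' → (z : G) ∈ Q := by
      intro z hz
      have hle : W' ⊔ C' ≤ Q.subgroupOf P := by
        apply sup_le
        · intro a ha
          rw [hW', Subgroup.mem_subgroupOf] at ha
          rw [Subgroup.mem_subgroupOf]; exact h.s1.W_le_Q ha
        · intro a ha
          rw [hC', Subgroup.mem_subgroupOf] at ha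
          rw [Subgroup.mem_subgroupOf]; exact h.s1.K_le_Q ha
      exact Subgroup.mem_subgroupOf.mp (hle hz)
    have hcent : Subgroup.centralizer ((W' ⊔ C' : Subgroup ↥P) : Set ↥P) ≤ W' ⊔ C' := by
      intro g hg
      rw [Subgroup.mem_centralizer_iff] at hg
      have hgQ : (g : G) ∈ Q := by
        apply h.cent_mem_Q g.2
        · intro w hw
          have hmem : (⟨w, hWP hw⟩ : ↥P) ∈ W' ⊔ C' :=
            Subgroup.mem_sup_left (by rw [hW', Subgroup.mem_subgroupOf]; exact hw)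
          exact (congrArg Subtype.val (hg _ hmem)).symm
        · intro k hk
          have hmem : (⟨k, hKP hk⟩ : ↥P) ∈ W' ⊔ C' :=
            Subgroup.mem_sup_right (by rw [hC', Subgroup.mem_subgroupOf]; exact hk)
          exact (congrArg Subtype.val (hg _ hmem)).symm
      obtain ⟨k, hk, w, hw, e⟩ := h.s1.Q_eq_KW hgQ
      have hg' : g = (⟨w, hWP hw⟩ : ↥P) * ⟨k, hKP hk⟩ := by
        apply Subtype.ext
        rw [Subgroup.coe_mul]
        show (g : G) = w * k
        rw [e]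
        exact (h.s1.hQV k (h.s1.K_le_Q hk) w (h.s1.W_le_V hw))
      rw [hg']
      exact Subgroup.mul_mem_sup (by rw [hW', Subgroup.mem_subgroupOf]; exact hw)
        (by rw [hC', Subgroup.mem_subgroupOf]; exact hk)
    have hyP : y ∈ P := h.s1.sP
    refine Cfsg.Agent.Lib.H2.Sims.s4z2_of_card_48 hcard W' C' hW'card hW'sq (by rw [hC'card, hK2])
      hCc hCW hcent ⟨y, hyP⟩ ?_ ?_
    · apply Subtype.ext
      rw [Subgroup.coe_pow, Subgroup.coe_one, pow_two]
      exact h.s1.hs2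
    · intro hmem
      exact h.s1.hsQ (hsupQ _ hmem)

end Two

/-- **Piece L2**: in the case `l = 2`, `P ≃ S₄` or `P ≃ S₄ × Z₂`. -/
theorem l2_main {P P' T Q Q' V V' : Subgroup G} (h : Hyp P P' T Q Q' V V') : Goal P := by
  obtain ⟨x, y, t, t', r, h2⟩ := h.two
  exact h2.goal

end Cfsg.Agent.Lib.H23.SimsL2
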