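import Mathlib
import Cfsg.Agent.Lib.H5.Sims.Defs
import Cfsg.Agent.Lib.H23.SimsL2

set_option autoImplicit false

/-!
# S3685: the case `l = 2` on helper5's interface — `S.Ell 2 → P ≃ S₄ ∨ P ≃ S₄ × Z₂`

Adapter from `Cfsg.Agent.Lib.H5.Sims` (`Setup`, `Bent`, `Loc`, `Con`, `Ell 2`) to `SimsL2.l2_main`
(applied to `(P_0, P_1, T_0, Q_0, Q_1, V_0, V_1)`).  `Mod` is NOT needed.
-/

namespace Cfsg.Agent.Lib.H23.SimsL2

open scoped Pointwise
open Cfsg.Agent.Lib.H5.Sims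

variable {G : Type*} [Group G] [Finite G]

/-- a Sylow `X` of `P_j` (in the sense of `IsSyl`) is not normal in `P_j` -/
theorem not_normal_of_isSyl (S : Setup G) (hL : S.Loc) (j : ℤ) (X : Subgroup G) (hX : S.IsSyl j X) :
    ∃ g ∈ S.Pj j, ∃ x ∈ X, g * x * g⁻¹ ∉ X := by
  by_contra hcon
  push Not at hcon
  -- then every g ∈ P_j normalizes X, so P_j ≤ X
  have hle : S.Pj j ≤ X := by
    intro g hg
    apply hL.syl_selfnorm j X hX g hg
    apply Subgroup.eq_of_le_of_card_ge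
    · intro z hz
      rw [mem_conj_smul] at hz
      have := hcon g hg _ hz
      have e : g * (g⁻¹ * z * g) * g⁻¹ = z := by group
      rwa [e] at this
    · rw [Setup.card_conj_smul]
  have h1 : Nat.card (S.Pj j) ≤ Nat.card X := Subgroup.card_le_of_le hle
  rw [S.card_Pj_eq j, hX.2] at h1
  have hpos : 0 < Nat.card (S.Tj 0) := Nat.card_pos
  omega

theorem hyp_of_ell2 (S : Setup G) (hb : S.Bent) (hL : S.Loc) (hC : S.Con) (hl : S.Ell 2) :
    Hyp (S.Pj 0) (S.Pj 1) (S.Tj 0) (S.Qj 0) (S.Qj 1) (S.Vj 0) (S.Vj 1) := by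
  have hT01 : S.Tj 0 = S.Pj 0 ⊓ S.Pj 1 := by rw [Setup.Tj, zero_add]
  have hQ1T : S.Qj 1 ≤ S.Tj 0 := by
    have := S.Qj_le_left 1
    rwa [sub_self] at this
  have hsyl1 : S.IsSyl 1 (S.Tj 0) := by
    have := S.isSyl_Tj_succ 0
    rwa [zero_add] at this
  have hnorm : ∀ {N X : Subgroup G}, N ≤ Subgroup.normalizer (X : Set G) →
      ∀ g ∈ N, ∀ x ∈ X, g * x * g⁻¹ ∈ X := by
    intro N X hN g hg x hx
    exact (Subgroup.mem_normalizer_iff.mp (hN hg) x).mp hx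
  have hzof : ∀ x ∈ S.Tj 0, x * x = 1 → (∀ y ∈ S.Tj 0, x * y = y * x) → x ∈ zOf (S.Tj 0) := by
    intro x hx h2 hc
    exact ⟨hx, by rw [pow_two]; exact h2, fun y hy => (hc y hy).symm⟩
  refine
    { hT := hT01
      finP := inferInstance
      finP' := inferInstance
      hT2 := hb.two
      cardP := S.card_Pj_eq 0
      cardP' := S.card_Pj_eq 1
      hQT := S.Qj_le_right 0
      hQ'T := hQ1T
      cardQ := hL.cardQ 0
      cardQ' := hL.cardQ 1
      hQn := hnorm (hL.Q_norm 0)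
      hQ'n := hnorm (hL.Q_norm 1)
      hTn := not_normal_of_isSyl S hL 0 _ (S.isSyl_Tj 0)
      hTn' := not_normal_of_isSyl S hL 1 _ hsyl1
      hVQ := hC.V_le_Q 0
      hV'Q' := hC.V_le_Q 1
      hVn := hnorm (hC.V_norm 0)
      hV'n := hnorm (hC.V_norm 1)
      hVexp := fun x hx => by rw [← pow_two]; exact hC.V_sq 0 x hx
      hV'exp := fun x hx => by rw [← pow_two]; exact hC.V_sq 1 x hx
      hQV := fun q hq v hv => (hC.V_comm_Q 0 v hv q hq).symm
      hQ'V' := fun q hq v hv => (hC.V_comm_Q 1 v hv q hq).symm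
      hCV := hC.cV 0
      hCV' := hC.cV 1
      hZV := fun x hx h2 hc => hC.Z_le_V 0 _ (S.isSyl_Tj 0) (hzof x hx h2 hc)
      hZV' := fun x hx h2 hc => hC.Z_le_V 1 _ hsyl1 (hzof x hx h2 hc)
      hcore := ?_
      hne := ?_ }
  · intro X hX h1 h2
    apply S.no_common_normal_Pj 0 1 X (hX.trans (S.Tj_le_left 0)) _ _ (by simpa using hL.P_ne 0)
    · intro g hg
      rw [Subgroup.mem_normalizer_iff]
      intro x
      refine ⟨fun hx => h1 g hg x hx, fun hx => ?_⟩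
      have := h1 g⁻¹ ((S.Pj 0).inv_mem hg) _ hx
      have e : g⁻¹ * (g * x * g⁻¹) * g⁻¹⁻¹ = x := by group
      rwa [e] at this
    · intro g hg
      rw [Subgroup.mem_normalizer_iff]
      intro x
      refine ⟨fun hx => h2 g hg x hx, fun hx => ?_⟩
      have := h2 g⁻¹ ((S.Pj 1).inv_mem hg) _ hx
      have e : g⁻¹ * (g * x * g⁻¹) * g⁻¹⁻¹ = x := by group
      rwa [e] at this
  · have hnc := hl.nc (-1)
    have e : (-1 : ℤ) + (2 : ℕ) = 1 := by norm_num
    rw [e] at hnc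
    unfold Comm at hnc
    push Not at hnc
    obtain ⟨a, ha, b, hb', hab⟩ := hnc
    have hsylm : S.IsSyl 0 (S.Tj (-1)) := by
      have := S.isSyl_Tj_pred 0
      rwa [zero_sub] at this
    exact ⟨a, hC.Z_le_V 0 _ hsylm ha, b, hC.Z_le_V 1 _ (S.isSyl_Tj 1) hb', hab⟩

/-- **`l = 2` on the interface**: `P ≃ S₄` or `P ≃ S₄ × Z₂` (no `Mod` needed). -/
theorem l2_goal (S : Setup G) (hb : S.Bent) (hL : S.Loc) (hC : S.Con) (hl : S.Ell 2) :
    Nonempty (↥S.P ≃* Equiv.Perm (Fin 4)) ∨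
      Nonempty (↥S.P ≃* Equiv.Perm (Fin 4) × Multiplicative (ZMod 2)) := by
  have h := l2_main (hyp_of_ell2 S hb hL hC hl)
  have e : S.Pj 0 = S.P := S.Pj_zero
  unfold Goal at h
  rw [e] at h
  exact h

end Cfsg.Agent.Lib.H23.SimsL2
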