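import Cfsg.Agent.Lib.H23.BlockDefect
import Cfsg.Agent.Lib.H24.DetCyclic
import Cfsg.Agent.Lib.H24.CentralMod
import Cfsg.Agent.Lib.H24.CharOrth

/-!
# A faithful character of small degree in the principal block of a perfect group (helper23)

If `G` is perfect and the principal `p`-block contains a faithful irreducible character of degree
less than `2p`, then `C_G(P)` is a `p`-group for `P` a Sylow `p`-subgroup.
-/

set_option autoImplicit false
open Cfsg

namespace Cfsg.Agent.Lib.H23.SmallDegCent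

open Cfsg.Agent.Lib.H23 Cfsg.Agent.Lib.H24 Cfsg.Agent.Lib.L0
open scoped ComplexConjugate

variable {G : Type*} [Group G] [Fintype G] {p : ℕ} [Fact p.Prime] {M : Ideal AlgInt}

/-- For `χ ∈ B₀` and `y` centralizing a Sylow `p`-subgroup: `1 - χ(y)/χ(1) ∈ 𝔭`. -/
theorem one_sub_div_mem (hM : IsPModular p M) (P : Sylow p G) (χ : IrrCharacter G)
    (hχ : χ ∈ principalBlock M G) (y : G) (hy : y ∈ Subgroup.centralizer ((P : Subgroup G) : Set G)) :
    MemLocalIdeal M (1 - (χ : G → ℂ) y / (χ : G → ℂ) 1) := by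
  haveI hPr := isPrime_of_isPModular hM
  have h1 := hχ y
  unfold centralChar at h1
  set k := (Subgroup.centralizer ({y} : Set G)).index with hk
  have hle : (P : Subgroup G) ≤ Subgroup.centralizer ({y} : Set G) := by
    intro u hu
    rw [Subgroup.mem_centralizer_iff]
    intro z hz
    rw [Set.mem_singleton_iff] at hz
    subst hz
    exact (Subgroup.mem_centralizer_iff.mp hy u hu).symm
  have hkp : ¬ p ∣ k := fun h =>
    P.not_dvd_index (h.trans (Subgroup.index_dvd_of_le hle))
  have hk0 : (k : ℂ) ≠ 0 := by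
    intro h0
    apply hkp
    have : k = 0 := by exact_mod_cast h0
    rw [this]; exact dvd_zero p
  have h2 := memLocalIdeal_mul_left (memLocalRing_inv_natCast hM hkp) h1
  have h3 : ((k : ℂ))⁻¹ * ((k : ℂ) * 1 / 1 - (k : ℂ) * (χ : G → ℂ) y / (χ : G → ℂ) 1) =
      1 - (χ : G → ℂ) y / (χ : G → ℂ) 1 := by
    field_simp
  rwa [h3] at h2

section cyclic

variable {C : Type*} [CommGroup C] [Fintype C]

/-- Irreducible characters of an abelian group are linear. -/
theorem irr_one_of_comm (ψ : IrrCharacter C) : (ψ : C → ℂ) 1 = 1 := by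
  apply linear_of_commutator_ker ψ.2
  intro a b
  rw [mul_comm a b, mul_inv_cancel_right, mul_inv_cancel]

/-- The multiplicities of a function `f` on an abelian group with `1 - f(c)/d ∈ 𝔭` at the
nontrivial characters are `d` times elements of `𝔭`. -/
theorem classInner_mem (hM : IsPModular p M) (hC : ¬ p ∣ Nat.card C) (f : C → ℂ) (d : ℂ)
    (hd : d ≠ 0) (hf : ∀ c : C, MemLocalIdeal M (1 - f c / d)) (ψ : IrrCharacter C)
    (hψ : classInner (fun _ : C => (1 : ℂ)) (ψ : C → ℂ) = 0) :
    ∃ t : ℂ, MemLocalIdeal M t ∧ classInner f (ψ : C → ℂ) = d * t := by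
  haveI hPr := isPrime_of_isPModular hM
  have hcard : (Nat.card C : ℂ) ≠ 0 := by
    exact_mod_cast (Nat.card_pos (α := C)).ne'
  refine ⟨-((Nat.card C : ℂ))⁻¹ * ∑ c : C, (1 - f c / d) * conj ((ψ : C → ℂ) c), ?_, ?_⟩
  · apply memLocalIdeal_mul_left
    · apply memLocalRing_neg
      exact memLocalRing_inv_natCast hM hC
    · apply memLocalIdeal_sum
      intro c _
      apply memLocalIdeal_mul_right (hf c)
      exact mem_localRing.mp (isIntegral_mem_localRing (isIntegral_conj (irr_isIntegral ψ c)))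
  · unfold classInner at hψ ⊢
    have h0 : ∑ c : C, conj ((ψ : C → ℂ) c) = 0 := by
      have h1 : ∑ c : C, (1 : ℂ) * conj ((ψ : C → ℂ) c) = 0 := by
        rcases mul_eq_zero.mp hψ with h | h
        · exact absurd (inv_eq_zero.mp h) hcard
        · exact h
      simpa using h1
    have h2 : ∑ c : C, (1 - f c / d) * conj ((ψ : C → ℂ) c) =
        - (∑ c : C, f c * conj ((ψ : C → ℂ) c)) / d := by
      have : ∀ c : C, (1 - f c / d) * conj ((ψ : C → ℂ) c) =
          conj ((ψ : C → ℂ) c) - (f c * conj ((ψ : C → ℂ) c)) / d := by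
        intro c; field_simp
      simp only [this]
      rw [Finset.sum_sub_distrib, h0, zero_sub, ← Finset.sum_div, neg_div]
    rw [h2]
    field_simp

/-- the trivial character -/
noncomputable def triv (C : Type*) [Group C] : IrrCharacter C :=
  ⟨fun _ => 1, Cfsg.Agent.Lib.H24.isIrrCharacter_one⟩

theorem detChar_linear {H : Type*} [Group H] [Finite H] {φ : H → ℂ} (hφ : IsCharacter H φ)
    (h1 : φ 1 = 1) : detChar φ = φ := by
  have := detChar_homToFun (linearCharHom hφ h1)
  rwa [homToFun_linearCharHom hφ h1] at this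

theorem const_of_small (hM : IsPModular p M) (hC : ¬ p ∣ Nat.card C) (f : C → ℂ)
    (hfc : IsCharacter C f) (d : ℕ) (hd0 : 0 < d) (hd : d < 2 * p) (hf1 : f 1 = d)
    (hf : ∀ c : C, MemLocalIdeal M (1 - f c / d)) (hdet : detChar f = fun _ => 1) (c : C) :
    f c = d := by
  classical
  haveI hPr := isPrime_of_isPModular hM
  haveI : Fintype (IrrCharacter C) := Fintype.ofFinite _
  have hp : p.Prime := Fact.out
  have hdC : (d : ℂ) ≠ 0 := by exact_mod_cast hd0.ne'
  have hnat : ∀ ψ : IrrCharacter C, ∃ n : ℕ, classInner f (ψ : C → ℂ) = n := fun ψ =>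
    classInner_char_char_nat hfc (isCharacter_of_irr ψ.2)
  choose a ha using hnat
  have hexp : f = ∑ ψ : IrrCharacter C, (a ψ : ℂ) • (ψ : C → ℂ) := by
    have := classFunction_expansion f (isClassFunction_of_isCharacter hfc)
    simp only [ha] at this
    exact this
  have hsum : ∑ ψ : IrrCharacter C, a ψ = d := by
    have h1 := congrFun hexp 1
    rw [hf1, Finset.sum_apply] at h1
    simp only [Pi.smul_apply, smul_eq_mul, irr_one_of_comm, mul_one] at h1
    exact_mod_cast h1.symm
  have hne : ∀ ψ : IrrCharacter C, ψ ≠ triv C →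
      classInner (fun _ : C => (1 : ℂ)) (ψ : C → ℂ) = 0 := by
    intro ψ hψ
    exact irr_classInner_ne (triv C).2 ψ.2 (fun h => hψ (Subtype.ext h.symm))
  have hdvd : ∀ ψ : IrrCharacter C, ψ ≠ triv C → p ∣ a ψ := by
    intro ψ hψ
    obtain ⟨t, ht, hat⟩ := classInner_mem hM hC f d hdC hf ψ (hne ψ hψ)
    rw [ha] at hat
    rw [← natCast_memLocalIdeal_iff hM, hat]
    exact memLocalIdeal_mul_left (mem_localRing.mp (natCast_mem_localRing d)) ht
  by_cases hall : ∀ ψ : IrrCharacter C, ψ ≠ triv C → a ψ = 0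
  · have h1 : ∀ c : C, f c = a (triv C) := by
      intro c
      have h2 := congrFun hexp c
      rw [Finset.sum_apply, Finset.sum_eq_single (triv C)] at h2
      · rw [h2]; simp [triv]
      · intro ψ _ hψ
        rw [hall ψ hψ]; simp
      · intro h; exact absurd (Finset.mem_univ _) h
    rw [h1 c, ← hf1, h1 1]
  · exfalso
    push Not at hall
    obtain ⟨ψ₀, hψ₀, ha0⟩ := hall
    have hle : ∀ ψ : IrrCharacter C, ψ ≠ ψ₀ → a ψ₀ + a ψ ≤ d := by
      intro ψ hψ
      rw [← hsum, ← Finset.sum_pair hψ.symm]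
      exact Finset.sum_le_sum_of_subset (Finset.subset_univ _)
    have hap : a ψ₀ = p := by
      obtain ⟨k, hk⟩ := hdvd ψ₀ hψ₀
      have h1 := hle (triv C) (Ne.symm hψ₀)
      have hk1 : k = 1 := by
        rcases Nat.lt_or_ge k 2 with h | h
        · rcases Nat.eq_zero_or_pos k with h0 | h0
          · rw [h0, mul_zero] at hk; exact absurd hk ha0
          · omega
        · have : 2 * p ≤ p * k := by nlinarith
          omega
      rw [hk, hk1, mul_one]
    have hzero : ∀ ψ : IrrCharacter C, ψ ≠ triv C → ψ ≠ ψ₀ → a ψ = 0 := by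
      intro ψ h1 h2
      obtain ⟨k, hk⟩ := hdvd ψ h1
      have h3 := hle ψ h2
      rcases Nat.eq_zero_or_pos k with h0 | h0
      · rw [hk, h0, mul_zero]
      · have : p ≤ p * k := Nat.le_mul_of_pos_right p h0
        omega
    have hf2 : f = a (triv C) • ((triv C : IrrCharacter C) : C → ℂ) + p • (ψ₀ : C → ℂ) := by
      funext c
      have h2 := congrFun hexp c
      rw [Finset.sum_apply] at h2
      rw [h2, ← Finset.sum_subset (Finset.subset_univ {triv C, ψ₀}) ?_,
        Finset.sum_pair (Ne.symm hψ₀)]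
      · simp only [Pi.add_apply, Pi.smul_apply, smul_eq_mul, nsmul_eq_mul, hap, Pi.mul_apply,
          Pi.natCast_apply]
      · intro ψ _ hψ
        simp only [Finset.mem_insert, Finset.mem_singleton, not_or] at hψ
        rw [hzero ψ hψ.1 hψ.2]; simp
    have htc : IsCharacter C ((triv C : IrrCharacter C) : C → ℂ) := isCharacter_of_irr (triv C).2
    have hψc : IsCharacter C (ψ₀ : C → ℂ) := isCharacter_of_irr ψ₀.2
    have hdet2 : detChar f = (ψ₀ : C → ℂ) ^ p := by
      rw [hf2, detChar_add (isCharacter_nsmul htc _) (isCharacter_nsmul hψc _),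
        detChar_nsmul htc, detChar_nsmul hψc, detChar_linear htc rfl,
        detChar_linear hψc (irr_one_of_comm ψ₀)]
      have : ((triv C : IrrCharacter C) : C → ℂ) = 1 := rfl
      rw [this, one_pow, one_mul]
    have hpow : ∀ c : C, (ψ₀ : C → ℂ) c ^ p = 1 := by
      intro c
      have := congrFun hdet2 c
      rw [hdet, Pi.pow_apply] at this
      exact this.symm
    have hpow2 : ∀ c : C, (ψ₀ : C → ℂ) c ^ Nat.card C = 1 := by
      intro c
      have h1 := homToFun_linearCharHom hψc (irr_one_of_comm ψ₀)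
      have h2 : (ψ₀ : C → ℂ) c = ((linearCharHom hψc (irr_one_of_comm ψ₀)) c : ℂ) := by
        rw [← homToFun_apply, h1]
      rw [h2, ← Units.val_pow_eq_pow_val, ← map_pow, pow_card_eq_one', map_one, Units.val_one]
    apply hψ₀
    apply Subtype.ext
    funext c
    have h1 : orderOf ((ψ₀ : C → ℂ) c) ∣ Nat.gcd p (Nat.card C) :=
      Nat.dvd_gcd (orderOf_dvd_of_pow_eq_one (hpow c)) (orderOf_dvd_of_pow_eq_one (hpow2 c))
    rw [(hp.coprime_iff_not_dvd.mpr hC).gcd_eq_one, Nat.dvd_one, orderOf_eq_one_iff] at h1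
    rw [h1]; rfl

end cyclic

theorem eq_one_of_regular (hM : IsPModular p M) (hperf : commutator G = ⊤) (P : Sylow p G)
    (χ : IrrCharacter G) (hχ : χ ∈ principalBlock M G)
    (hfaith : ∀ g : G, (χ : G → ℂ) g = (χ : G → ℂ) 1 → g = 1)
    (hdeg : charDegree (χ : G → ℂ) < 2 * p) (x : G)
    (hx : x ∈ Subgroup.centralizer ((P : Subgroup G) : Set G)) (hreg : ¬ p ∣ orderOf x) :
    x = 1 := by
  classical
  set C : Subgroup G := Subgroup.zpowers x with hCdef
  letI : CommGroup C :=
    { (inferInstance : Group C) with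
      mul_comm := fun a b => by
        obtain ⟨a, ha⟩ := a
        obtain ⟨b, hb⟩ := b
        obtain ⟨i, rfl⟩ := Subgroup.mem_zpowers_iff.mp ha
        obtain ⟨j, rfl⟩ := Subgroup.mem_zpowers_iff.mp hb
        apply Subtype.ext
        simp only [Subgroup.coe_mul]
        rw [← zpow_add, ← zpow_add, add_comm] }
  have hχc : IsCharacter G (χ : G → ℂ) := isCharacter_of_irr χ.2
  have hCle : C ≤ Subgroup.centralizer ((P : Subgroup G) : Set G) := by
    rw [hCdef, Subgroup.zpowers_le]; exact hx
  have hcard : ¬ p ∣ Nat.card C := by rw [hCdef, Nat.card_zpowers]; exact hreg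
  set d := charDegree (χ : G → ℂ) with hd
  have hd0 : 0 < d := charDegree_pos (χ : G → ℂ) χ.2
  have hχ1 : (χ : G → ℂ) 1 = (d : ℂ) := apply_one_eq_charDegree (χ : G → ℂ) χ.2
  have hdet : detChar (fun c : C => (χ : G → ℂ) c) = fun _ => 1 := by
    rw [detChar_restrict C hχc]
    obtain ⟨ν, hν⟩ := exists_hom_detChar hχc
    have hν1 : ∀ g : G, ν g = 1 := by
      intro g
      have h1 : g ∈ commutator G := by rw [hperf]; trivial
      exact MonoidHom.mem_ker.mp (Abelianization.commutator_subset_ker ν h1)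
    funext c
    rw [hν, homToFun_apply, hν1]; rfl
  have h := const_of_small hM hcard (fun c : C => (χ : G → ℂ) c) (isCharacter_restrict C hχc) d hd0
    hdeg hχ1 (fun c => by
      have := one_sub_div_mem hM P χ hχ (c : G) (hCle c.2)
      rwa [hχ1] at this) hdet ⟨x, Subgroup.mem_zpowers x⟩
  exact hfaith x (by rw [hχ1]; exact h)

theorem centralizer_isPGroup (hM : IsPModular p M) (hperf : commutator G = ⊤) (P : Sylow p G)
    (χ : IrrCharacter G) (hχ : χ ∈ principalBlock M G)
    (hfaith : ∀ g : G, (χ : G → ℂ) g = (χ : G → ℂ) 1 → g = 1)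
    (hdeg : charDegree (χ : G → ℂ) < 2 * p) :
    IsPGroup p ↥(Subgroup.centralizer ((P : Subgroup G) : Set G)) := by
  have hp : p.Prime := Fact.out
  intro g
  obtain ⟨k, m, hm, hkm⟩ := Nat.exists_eq_pow_mul_and_not_dvd (orderOf_pos g).ne' p hp.ne_one
  refine ⟨k, ?_⟩
  have h1 : ((g ^ p ^ k : ↥(Subgroup.centralizer ((P : Subgroup G) : Set G))) : G) = 1 := by
    apply eq_one_of_regular hM hperf P χ hχ hfaith hdeg _ (SetLike.coe_mem _)
    intro hdvd
    apply hm
    refine hdvd.trans (orderOf_dvd_of_pow_eq_one ?_)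
    rw [← Subgroup.coe_pow, ← pow_mul, ← hkm, pow_orderOf_eq_one]; rfl
  exact Subtype.ext h1

end Cfsg.Agent.Lib.H23.SmallDegCent
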