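import Cfsg.Agent.Lib.H23.QuasiElem

/-!
# Solomon's induction theorem, `p`-local form (helper23)

* `qeSpan p G`: the additive group generated by the permutation characters `(1_H)^G`, `H` a
  `p`-quasi-elementary subgroup;
* `qeSpan_mul`: it is closed under products;
* `exists_const_mem_qeSpan`: it contains a constant function `m`, `p ∤ m`;
* `exists_coeff_of_mem_qeSpan`: elements are integer combinations with coefficients supported on
  `p`-quasi-elementary subgroups.
-/

set_option autoImplicit false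

namespace Cfsg.Agent.Lib.H23

open Cfsg.Agent.Lib.L0

section

variable {G : Type*} [Group G] [Fintype G]

/-- The additive group generated by the `(1_H)^G`, `H` `p`-quasi-elementary. -/
def qeSpan (p : ℕ) (G : Type*) [Group G] [Fintype G] : AddSubgroup (G → ℂ) :=
  AddSubgroup.closure {f | ∃ H : Subgroup G, IsQESub p H ∧ f = Cfsg.indFun H (fun _ => 1)}

theorem indFun_one_mem_qeSpan {p : ℕ} {H : Subgroup G} (h : IsQESub p H) :
    Cfsg.indFun H (fun _ => (1 : ℂ)) ∈ qeSpan p G :=
  AddSubgroup.subset_closure ⟨H, h, rfl⟩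

theorem qeSpan_mul {p : ℕ} (hp : p.Prime) {f g : G → ℂ} (hf : f ∈ qeSpan p G)
    (hg : g ∈ qeSpan p G) : f * g ∈ qeSpan p G := by
  classical
  have : Fintype (Subgroup G) := Fintype.ofFinite _
  induction hf using AddSubgroup.closure_induction with
  | mem f hf =>
    obtain ⟨H, hH, rfl⟩ := hf
    induction hg using AddSubgroup.closure_induction with
    | mem g hg =>
      obtain ⟨K, hK, rfl⟩ := hg
      obtain ⟨a, ha, heq⟩ := indFun_one_mul_indFun_one H K
      rw [heq]
      apply AddSubgroup.sum_mem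
      intro U _
      by_cases hU : a U = 0
      · rw [hU]; simp
      · rw [Nat.cast_smul_eq_nsmul]
        exact AddSubgroup.nsmul_mem _ (indFun_one_mem_qeSpan (hH.mono hp (ha U hU))) _
    | zero => rw [mul_zero]; exact AddSubgroup.zero_mem _
    | add g₁ g₂ _ _ h₁ h₂ => rw [mul_add]; exact AddSubgroup.add_mem _ h₁ h₂
    | neg g _ h => rw [mul_neg]; exact AddSubgroup.neg_mem _ h
  | zero => rw [zero_mul]; exact AddSubgroup.zero_mem _
  | add f₁ f₂ _ _ h₁ h₂ => rw [add_mul]; exact AddSubgroup.add_mem _ h₁ h₂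
  | neg f _ h => rw [neg_mul]; exact AddSubgroup.neg_mem _ h

theorem exists_coeff_of_mem_qeSpan [Fintype (Subgroup G)] {p : ℕ} {f : G → ℂ}
    (hf : f ∈ qeSpan p G) :
    ∃ a : Subgroup G → ℤ, (∀ H, a H ≠ 0 → IsQESub p H) ∧
      f = ∑ H : Subgroup G, (a H : ℂ) • Cfsg.indFun H (fun _ => 1) := by
  classical
  induction hf using AddSubgroup.closure_induction with
  | mem f hf =>
    obtain ⟨H, hH, rfl⟩ := hf
    refine ⟨Pi.single H 1, ?_, ?_⟩
    · intro K hK
      by_cases hKH : K = H
      · rw [hKH]; exact hH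
      · rw [Pi.single_eq_of_ne hKH] at hK
        exact absurd rfl hK
    · rw [Finset.sum_eq_single H]
      · simp
      · intro K _ hK
        rw [Pi.single_eq_of_ne hK]
        simp
      · intro h; exact absurd (Finset.mem_univ H) h
  | zero => exact ⟨0, fun H h => absurd rfl h, by simp⟩
  | add f₁ f₂ _ _ h₁ h₂ =>
    obtain ⟨a, ha, rfl⟩ := h₁
    obtain ⟨b, hb, rfl⟩ := h₂
    refine ⟨a + b, ?_, ?_⟩
    · intro H hH
      by_cases h0 : a H = 0
      · apply hb H
        intro hb0
        apply hH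
        simp [h0, hb0]
      · exact ha H h0
    · rw [← Finset.sum_add_distrib]
      refine Finset.sum_congr rfl fun H _ => ?_
      simp only [Pi.add_apply]
      push_cast
      rw [add_smul]
  | neg f _ h =>
    obtain ⟨a, ha, rfl⟩ := h
    refine ⟨-a, ?_, ?_⟩
    · intro H hH
      apply ha H
      intro h0
      apply hH
      simp [h0]
    · rw [← Finset.sum_neg_distrib]
      refine Finset.sum_congr rfl fun H _ => ?_
      simp only [Pi.neg_apply]
      push_cast
      rw [neg_smul]

omit [Group G] [Fintype G] in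
/-- Expansion of a product `∏ (n_x - f_x)` with `f_x` in a multiplicatively closed additive subgroup
`R` of functions: it is the constant `∏ n_x` minus an element of `R`. -/
theorem prod_const_sub_mem {ι : Type*} (R : AddSubgroup (G → ℂ))
    (hmul : ∀ f g, f ∈ R → g ∈ R → f * g ∈ R) (n : ι → ℤ) (f : ι → G → ℂ) (hf : ∀ i, f i ∈ R)
    (S : Finset ι) :
    ∃ r ∈ R, ∏ i ∈ S, ((fun _ : G => (n i : ℂ)) - f i) =
      (fun _ : G => ((∏ i ∈ S, n i : ℤ) : ℂ)) - r := by
  classical
  induction S using Finset.induction_on with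
  | empty =>
    refine ⟨0, R.zero_mem, ?_⟩
    funext y
    simp
  | insert i S hi ih =>
    obtain ⟨r, hr, heq⟩ := ih
    refine ⟨(n i) • r + (∏ j ∈ S, n j) • f i - f i * r, ?_, ?_⟩
    · apply R.sub_mem (R.add_mem (R.zsmul_mem hr _) (R.zsmul_mem (hf i) _))
      exact hmul _ _ (hf i) hr
    · rw [Finset.prod_insert hi, heq, Finset.prod_insert hi]
      funext y
      simp only [Pi.mul_apply, Pi.sub_apply, Pi.add_apply, Pi.smul_apply]
      simp only [zsmul_eq_mul]
      push_cast
      ring

/-- **Solomon's induction theorem**, `p`-local form. -/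
theorem exists_const_mem_qeSpan (p : ℕ) (hp : p.Prime) :
    ∃ m : ℤ, ¬ (p : ℤ) ∣ m ∧ (fun _ : G => (m : ℂ)) ∈ qeSpan p G := by
  classical
  choose H hH n hn hpn using fun x : G => exists_isQESub_not_dvd x p hp
  obtain ⟨r, hr, heq⟩ := prod_const_sub_mem (qeSpan p G) (fun f g => qeSpan_mul hp)
    (fun x : G => (n x : ℤ)) (fun x => Cfsg.indFun (H x) (fun _ => 1))
    (fun x => indFun_one_mem_qeSpan (hH x)) Finset.univ
  have hzero : ∏ x : G, ((fun _ : G => (((n x : ℤ)) : ℂ)) - Cfsg.indFun (H x) (fun _ => 1)) = 0 := by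
    funext y
    rw [Finset.prod_apply]
    apply Finset.prod_eq_zero (Finset.mem_univ y)
    simp only [Pi.sub_apply]
    rw [hn y]
    simp
  rw [hzero] at heq
  refine ⟨∏ x : G, (n x : ℤ), ?_, ?_⟩
  · intro hdvd
    obtain ⟨x, _, hx⟩ := (Prime.dvd_finsetProd_iff (Nat.prime_iff_prime_int.mp hp) _).mp hdvd
    exact hpn x (by exact_mod_cast hx)
  · have : (fun _ : G => ((∏ x : G, (n x : ℤ) : ℤ) : ℂ)) = r := by
      have := sub_eq_zero.mp heq.symm
      exact this
    rw [this]
    exact hr

end

end Cfsg.Agent.Lib.H23
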