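import Mathlib
import Cfsg.Agent.Lib.H24.ElusSpAtom

set_option autoImplicit false

/-!
# Arithmetic of the index `|Sp_{2km}(q) : Sp_{2m}(q^k)|` (helper23)
-/

namespace Cfsg.Agent.Lib.H23.SpF

open Cfsg.Agent.Lib.H24.Elus

/-- the cofactor of `|Sp_{2m}(q^k)|` in `|Sp_{2km}(q)|` -/
def quotF (q k m : ℕ) : ℕ :=
  q ^ ((k * m) ^ 2 - k * m ^ 2) *
    ∏ i ∈ (Finset.range (k * m)).filter (fun i => ¬ k ∣ i + 1), (q ^ (2 * (i + 1)) - 1)

theorem prod_multiples (g : ℕ → ℕ) (k m : ℕ) (hk : 0 < k) :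
    ∏ i ∈ (Finset.range (k * m)).filter (fun i => k ∣ i + 1), g (i + 1) =
      ∏ j ∈ Finset.range m, g (k * (j + 1)) := by
  symm
  apply Finset.prod_nbij' (fun j => k * (j + 1) - 1) (fun a => (a + 1) / k - 1)
  · intro j hj
    rw [Finset.mem_range] at hj
    rw [Finset.mem_filter, Finset.mem_range]
    have h1 : 1 ≤ k * (j + 1) := Nat.mul_pos hk (Nat.succ_pos j)
    have h2 : k * (j + 1) ≤ k * m := Nat.mul_le_mul_left k hj
    constructor
    · omega
    · rw [Nat.sub_add_cancel h1]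
      exact Dvd.intro _ rfl
  · intro a ha
    rw [Finset.mem_filter, Finset.mem_range] at ha
    obtain ⟨ha1, t, ht⟩ := ha
    rw [Finset.mem_range, ht, Nat.mul_div_cancel_left _ hk]
    have ht0 : 0 < t := by
      rcases Nat.eq_zero_or_pos t with h | h
      · rw [h, mul_zero] at ht; omega
      · exact h
    have : k * t ≤ k * m := by omega
    have : t ≤ m := Nat.le_of_mul_le_mul_left this hk
    omega
  · intro j _
    have h1 : 1 ≤ k * (j + 1) := Nat.mul_pos hk (Nat.succ_pos j)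
    show (k * (j + 1) - 1 + 1) / k - 1 = j
    rw [Nat.sub_add_cancel h1, Nat.mul_div_cancel_left _ hk, Nat.add_sub_cancel]
  · intro a ha
    rw [Finset.mem_filter, Finset.mem_range] at ha
    obtain ⟨ha1, t, ht⟩ := ha
    show k * ((a + 1) / k - 1 + 1) - 1 = a
    rw [ht, Nat.mul_div_cancel_left _ hk]
    have ht0 : 0 < t := by
      rcases Nat.eq_zero_or_pos t with h | h
      · rw [h, mul_zero] at ht; omega
      · exact h
    rw [Nat.sub_add_cancel ht0, ← ht, Nat.add_sub_cancel]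
  · intro j _
    have h1 : 1 ≤ k * (j + 1) := Nat.mul_pos hk (Nat.succ_pos j)
    show g (k * (j + 1)) = g (k * (j + 1) - 1 + 1)
    rw [Nat.sub_add_cancel h1]

/-- `|Sp_{2km}(q)| = |Sp_{2m}(q^k)| * quotF q k m` -/
theorem card_sp_eq' (q k m : ℕ) (hk : 0 < k) :
    q ^ ((k * m) ^ 2) * ∏ i ∈ Finset.range (k * m), (q ^ (2 * (i + 1)) - 1) =
      ((q ^ k) ^ (m ^ 2) * ∏ j ∈ Finset.range m, ((q ^ k) ^ (2 * (j + 1)) - 1)) * quotF q k m := by
  unfold quotF
  have hle : k * m ^ 2 ≤ (k * m) ^ 2 := by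
    have : (k * m) ^ 2 = k * (k * m ^ 2) := by ring
    rw [this]
    exact Nat.le_mul_of_pos_left _ hk
  have hpow : q ^ ((k * m) ^ 2) = (q ^ k) ^ (m ^ 2) * q ^ ((k * m) ^ 2 - k * m ^ 2) := by
    rw [← pow_mul, ← pow_add, Nat.add_sub_cancel' hle]
  have hprod : ∏ i ∈ Finset.range (k * m), (q ^ (2 * (i + 1)) - 1) =
      (∏ j ∈ Finset.range m, ((q ^ k) ^ (2 * (j + 1)) - 1)) *
      ∏ i ∈ (Finset.range (k * m)).filter (fun i => ¬ k ∣ i + 1), (q ^ (2 * (i + 1)) - 1) := by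
    rw [← Finset.prod_filter_mul_prod_filter_not (Finset.range (k * m)) (fun i => k ∣ i + 1)]
    congr 1
    rw [prod_multiples (fun n => q ^ (2 * n) - 1) k m hk]
    apply Finset.prod_congr rfl
    intro j _
    rw [← pow_mul]
    congr 2
    ring
  rw [hpow, hprod]
  ring

/-- a prime dividing the cofactor divides `q` or some `q^{2i} - 1` with `i ≤ km`, `k ∤ i` -/
theorem dvd_quotF (q k m r : ℕ) (hr : r.Prime) (h : r ∣ quotF q k m) :
    r ∣ q ∨ ∃ i, i ≤ k * m ∧ ¬ k ∣ i ∧ r ∣ q ^ (2 * i) - 1 := by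
  unfold quotF at h
  rcases (Nat.Prime.dvd_mul hr).mp h with h | h
  · left
    exact hr.dvd_of_dvd_pow h
  · right
    rw [Prime.dvd_finsetProd_iff hr.prime] at h
    obtain ⟨i, hi, hdvd⟩ := h
    rw [Finset.mem_filter, Finset.mem_range] at hi
    exact ⟨i + 1, by omega, hi.2, hdvd⟩

/-- halving `cOf (ord q)` -/
theorem exists_half (c i : ℕ) (hc : c ∣ 2 * i) : ∃ c', 2 * c' = cOf c ∧ c' ∣ i := by
  unfold cOf
  by_cases he : Even c
  · rw [if_pos he]
    obtain ⟨c', hc'⟩ := he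
    refine ⟨c', by omega, ?_⟩
    have : 2 * c' ∣ 2 * i := by
      have e : c = 2 * c' := by omega
      rwa [e] at hc
    exact Nat.dvd_of_mul_dvd_mul_left (by norm_num) this
  · rw [if_neg he]
    refine ⟨c, rfl, ?_⟩
    have hodd : Odd c := Nat.not_even_iff_odd.mp he
    exact (Nat.Coprime.dvd_mul_left hodd.coprime_two_right).mp hc

/-- `cOf (ord_r q) ≤ r - 1` for an odd prime `r ∤ q` -/
theorem cOf_order_le (q r : ℕ) [Fact r.Prime] (hr2 : r ≠ 2) (hrq : ¬ r ∣ q) :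
    cOf (orderOf (q : ZMod r)) ≤ r - 1 := by
  have hr : r.Prime := Fact.out
  have hq0 : (q : ZMod r) ≠ 0 := by
    rw [Ne, ZMod.natCast_eq_zero_iff]
    exact hrq
  have h1 : orderOf (q : ZMod r) ∣ r - 1 :=
    orderOf_dvd_of_pow_eq_one (ZMod.pow_card_sub_one_eq_one hq0)
  have hodd : Odd r := hr.odd_of_ne_two hr2
  have h2 : 2 ∣ r - 1 := by
    obtain ⟨t, ht⟩ := hodd
    exact ⟨t, by omega⟩
  have hpos : 0 < r - 1 := by have := hr.two_le; omega
  apply Nat.le_of_dvd hpos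
  unfold cOf
  by_cases he : Even (orderOf (q : ZMod r))
  · rw [if_pos he]; exact h1
  · rw [if_neg he]
    have hodd' : Odd (orderOf (q : ZMod r)) := Nat.not_even_iff_odd.mp he
    exact Nat.Coprime.mul_dvd_of_dvd_of_dvd hodd'.coprime_two_left h2 h1

end Cfsg.Agent.Lib.H23.SpF
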