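import Mathlib
import Cfsg.Agent.Lib.H23.SpFE
import Cfsg.Agent.Lib.H23.SpFF

set_option autoImplicit false
set_option linter.style.haveILetI false

/-!
# The index of the normalizer of `K` in `Sp_{2d}(q)` divides the cofactor (helper23)
-/

namespace Cfsg.Agent.Lib.H23.SpF

open Module
open scoped Matrix

section index

variable {F E : Type*} [Field F] [Field E] [Algebra F E] {d : ℕ} [Fintype F]
  [FiniteDimensional F E]

/-- the index of the normalizer divides the cofactor -/
theorem IStr.relIndex_dvd {ι : E →ₐ[F] Matrix (Fin d ⊕ Fin d) (Fin d ⊕ Fin d) F} (h : IStr ι)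
    (K : Subalgebra F (Matrix (Fin d ⊕ Fin d) (Fin d ⊕ Fin d) F)) (hK : ι.range = K)
    {q : ℕ} (hq : Fintype.card F = q) :
    ∃ m : ℕ, d = finrank F E * m ∧
      (Cfsg.Geo.subalgebraNormalizer K).relIndex (Cfsg.spGL d F) ∣ quotF q (finrank F E) m := by
  haveI : Finite E := Module.finite_of_finite F
  letI : Fintype E := Fintype.ofFinite E
  obtain ⟨m, hd, t, ht⟩ := h.card_dvd K hK
  refine ⟨m, hd, ?_⟩
  have hk : 0 < finrank F E := Module.finrank_pos
  have hcE : Fintype.card E = q ^ finrank F E := by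
    rw [Module.card_eq_pow_finrank (K := F) (V := E), hq]
  have hcard : (Cfsg.Geo.subalgebraNormalizer K).relIndex (Cfsg.spGL d F) *
      Nat.card ↥(Cfsg.Geo.subalgebraNormalizer K ⊓ Cfsg.spGL d F) =
      Nat.card ↥(Cfsg.spGL d F) := by
    rw [← Subgroup.inf_relIndex_right]
    have hle : Cfsg.Geo.subalgebraNormalizer K ⊓ Cfsg.spGL d F ≤ Cfsg.spGL d F := inf_le_right
    rw [Subgroup.relIndex, ← Nat.card_congr (Subgroup.subgroupOfEquivOfLe hle).toEquiv]
    exact Subgroup.index_mul_card _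
  have hpos : 0 < Nat.card ↥(Cfsg.spGL m E) := Nat.card_pos
  rw [ht, Cfsg.Agent.Lib.H13.SpQuadIndex.card_spGL (F := F) (d := d), hq] at hcard
  have hdd : d ^ 2 = (finrank F E * m) ^ 2 := by rw [← hd]
  rw [hdd] at hcard
  have hrange : Finset.range d = Finset.range (finrank F E * m) := by rw [← hd]
  rw [hrange, card_sp_eq' q (finrank F E) m hk] at hcard
  rw [Cfsg.Agent.Lib.H13.SpQuadIndex.card_spGL (F := E) (d := m), hcE] at hpos hcard
  refine ⟨t, ?_⟩
  have : ((q ^ finrank F E) ^ (m ^ 2) * ∏ j ∈ Finset.range m, ((q ^ finrank F E) ^ (2 * (j + 1)) - 1)) *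
      ((Cfsg.Geo.subalgebraNormalizer K).relIndex (Cfsg.spGL d F) * t) =
      ((q ^ finrank F E) ^ (m ^ 2) * ∏ j ∈ Finset.range m, ((q ^ finrank F E) ^ (2 * (j + 1)) - 1)) *
        quotF q (finrank F E) m := by
    rw [← hcard]; ring
  exact (Nat.eq_of_mul_eq_mul_left hpos this).symm

end index

end Cfsg.Agent.Lib.H23.SpF
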