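import Mathlib
import Cfsg.Agent.Lib.H23.SpFD
import Cfsg.Agent.Lib.H24.ElusSpForm

set_option autoImplicit false
set_option linter.style.haveILetI false

/-!
# Invariant subspaces, the Galois action of the normalizer, fixed-space bounds (helper23)
-/

namespace Cfsg.Agent.Lib.H23.SpF

open Module Polynomial
open scoped Matrix
open Cfsg.Agent.Lib.H13 Cfsg.Agent.Lib.H13.SpInvolCount
open Cfsg.Agent.Lib.H24.Elus

section invariant

variable {F E : Type*} [Field F] [Field E] [Algebra F E] [FiniteDimensional F E]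
  {n : Type*} [Fintype n] [DecidableEq n]

/-- an `F`-subspace invariant under `ι(E)`, as an `E`-subspace -/
noncomputable def subOf (ι : E →ₐ[F] Matrix n n F) (U : Submodule F (n → F))
    (hU : ∀ c, ∀ v ∈ U, ι c *ᵥ v ∈ U) :
    letI := modOf ι
    Submodule E (n → F) :=
  letI := modOf ι
  { toAddSubmonoid := U.toAddSubmonoid
    smul_mem' := fun c v hv => by
      rw [modOf_smul]
      exact hU c v hv }

omit [FiniteDimensional F E] in
theorem finrank_subOf (ι : E →ₐ[F] Matrix n n F) (U : Submodule F (n → F))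
    (hU : ∀ c, ∀ v ∈ U, ι c *ᵥ v ∈ U) :
    letI := modOf ι
    haveI := modOf_tower ι
    finrank F (subOf ι U hU) = finrank F U := by
  letI := modOf ι
  haveI := modOf_tower ι
  apply LinearEquiv.finrank_eq
  exact
    { toFun := fun x => ⟨x.1, x.2⟩
      invFun := fun x => ⟨x.1, x.2⟩
      map_add' := fun _ _ => rfl
      map_smul' := fun _ _ => rfl
      left_inv := fun _ => rfl
      right_inv := fun _ => rfl }

/-- an invariant subspace has dimension divisible by `[E : F]` -/
theorem dvd_finrank_of_invariant (ι : E →ₐ[F] Matrix n n F) (U : Submodule F (n → F))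
    (hU : ∀ c, ∀ v ∈ U, ι c *ᵥ v ∈ U) : finrank F E ∣ finrank F U := by
  letI := modOf ι
  haveI := modOf_tower ι
  rw [← finrank_subOf ι U hU]
  exact dvd_finrank (subOf ι U hU)

end invariant

section invariant2

variable {F E : Type*} [Field F] [Field E] [Algebra F E] [FiniteDimensional F E] {d : ℕ}

/-- a nondegenerate invariant subspace has dimension divisible by `2 [E : F]` -/
theorem IStr.two_mul_dvd_of_invariant {ι : E →ₐ[F] Matrix (Fin d ⊕ Fin d) (Fin d ⊕ Fin d) F}
    (h : IStr ι) (U : Submodule F (Fin d ⊕ Fin d → F))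
    (hU : ∀ c, ∀ v ∈ U, ι c *ᵥ v ∈ U) (hnd : NDon (sympB (F := F) d) U) :
    finrank F E * 2 ∣ finrank F U := by
  letI := modOf ι
  haveI := modOf_tower ι
  rw [← finrank_subOf ι U hU]
  apply two_mul_dvd_finrank (sympB (F := F) d) h.estr (subOf ι U hU)
  intro u hu hv
  exact hnd u hu hv

end invariant2

end Cfsg.Agent.Lib.H23.SpF
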