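import Mathlib
import Cfsg.Agent.Lib.H23.SpFH
import Cfsg.Agent.Lib.H23.SpFE
import Cfsg.Agent.Lib.H24.ElusSpIso

set_option autoImplicit false
set_option linter.style.haveILetI false

/-!
# The Galois action of the normalizer of `K`; fixed-space bound for non-centralizing elements
(helper23)
-/

namespace Cfsg.Agent.Lib.H23.SpF

open Module Polynomial
open scoped Matrix
open Cfsg.Agent.Lib.H24.Elus

section galois

variable {F E : Type*} [Field F] [Fintype F] [Field E] [Algebra F E] [Finite E]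

/-- an `F`-algebra endomorphism of `E` of prime order `r` forces `[E : F] = r` when `[E : F]` is
prime -/
theorem galois_order (σ : E →ₐ[F] E) (r : ℕ) (hk : (finrank F E).Prime) (hr : r.Prime)
    (hσr : σ ^ r = 1) (hσ : σ ≠ 1) : r = finrank F E := by
  obtain ⟨n, hn⟩ := (FiniteField.bijective_frobeniusAlgHom_pow F E).2 σ
  simp only at hn
  have h1 : (FiniteField.frobeniusAlgHom F E) ^ (n.1 * r) = 1 := by rw [pow_mul, hn, hσr]
  have h2 := orderOf_dvd_of_pow_eq_one h1
  rw [FiniteField.orderOf_frobeniusAlgHom] at h2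
  rcases (Nat.Prime.dvd_mul hk).mp h2 with h | h
  · exfalso
    have : n.1 = 0 := Nat.eq_zero_of_dvd_of_lt h n.2
    apply hσ
    rw [← hn, this, pow_zero]
  · exact ((Nat.prime_dvd_prime_iff_eq hk hr).mp h).symm

end galois

section sigma

variable {F E : Type*} [Field F] [Field E] [Algebra F E] {n : Type} [Fintype n] [DecidableEq n]

theorem exists_conj_preimage (ι : E →ₐ[F] Matrix n n F) (y : GL n F)
    (hy : y ∈ Cfsg.Geo.subalgebraNormalizer ι.range) (c : E) :
    ∃ c', ι c' = (y : Matrix n n F) * ι c * ((y⁻¹ : GL n F) : Matrix n n F) := by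
  have := (hy (ι c)).mp ⟨c, rfl⟩
  obtain ⟨c', hc'⟩ := this
  exact ⟨c', hc'⟩

/-- the underlying function of `sigmaOf` -/
noncomputable def sigmaFun (ι : E →ₐ[F] Matrix n n F) (y : GL n F)
    (hy : y ∈ Cfsg.Geo.subalgebraNormalizer ι.range) (c : E) : E :=
  Classical.choose (exists_conj_preimage ι y hy c)

theorem sigmaFun_spec (ι : E →ₐ[F] Matrix n n F) (y : GL n F)
    (hy : y ∈ Cfsg.Geo.subalgebraNormalizer ι.range) (c : E) :
    ι (sigmaFun ι y hy c) =
      (y : Matrix n n F) * ι c * ((y⁻¹ : GL n F) : Matrix n n F) :=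
  Classical.choose_spec (exists_conj_preimage ι y hy c)

/-- the algebra endomorphism of `E` induced by an element normalizing `ι(E)` -/
noncomputable def sigmaOf (ι : E →ₐ[F] Matrix n n F) (hinj : Function.Injective ι) (y : GL n F)
    (hy : y ∈ Cfsg.Geo.subalgebraNormalizer ι.range) : E →ₐ[F] E where
  toFun c := sigmaFun ι y hy c
  map_one' := by
    apply hinj
    rw [sigmaFun_spec, map_one, Matrix.mul_one, gl_mul_inv']
  map_mul' a b := by
    apply hinj
    rw [sigmaFun_spec, map_mul ι (sigmaFun ι y hy a), sigmaFun_spec, sigmaFun_spec, map_mul]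
    simp only [Matrix.mul_assoc, gl_inv_mul_cancel']
  map_zero' := by
    apply hinj
    rw [sigmaFun_spec, map_zero, Matrix.mul_zero, Matrix.zero_mul]
  map_add' a b := by
    apply hinj
    rw [sigmaFun_spec, map_add ι (sigmaFun ι y hy a), sigmaFun_spec, sigmaFun_spec, map_add,
      Matrix.mul_add, Matrix.add_mul]
  commutes' a := by
    apply hinj
    rw [sigmaFun_spec, AlgHom.commutes, Algebra.algebraMap_eq_smul_one,
      Matrix.mul_smul, Matrix.smul_mul, Matrix.mul_one, gl_mul_inv']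

theorem sigmaOf_spec (ι : E →ₐ[F] Matrix n n F) (hinj : Function.Injective ι) (y : GL n F)
    (hy : y ∈ Cfsg.Geo.subalgebraNormalizer ι.range) (c : E) :
    ι (sigmaOf ι hinj y hy c) =
      (y : Matrix n n F) * ι c * ((y⁻¹ : GL n F) : Matrix n n F) :=
  sigmaFun_spec ι y hy c

/-- the semilinearity relation -/
theorem sigmaOf_semilinear (ι : E →ₐ[F] Matrix n n F) (hinj : Function.Injective ι) (y : GL n F)
    (hy : y ∈ Cfsg.Geo.subalgebraNormalizer ι.range) (c : E) :
    ι (sigmaOf ι hinj y hy c) * (y : Matrix n n F) = (y : Matrix n n F) * ι c := by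
  rw [sigmaOf_spec, Matrix.mul_assoc, gl_inv_mul', Matrix.mul_one]

theorem sigmaOf_pow (ι : E →ₐ[F] Matrix n n F) (hinj : Function.Injective ι) (y : GL n F)
    (hy : y ∈ Cfsg.Geo.subalgebraNormalizer ι.range) (j : ℕ) (c : E) :
    ι ((sigmaOf ι hinj y hy ^ j) c) * ((y ^ j : GL n F) : Matrix n n F) =
      ((y ^ j : GL n F) : Matrix n n F) * ι c := by
  induction j generalizing c with
  | zero => simp
  | succ j ih =>
    rw [pow_succ', AlgHom.mul_apply, pow_succ', Units.val_mul, ← Matrix.mul_assoc,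
      sigmaOf_semilinear, Matrix.mul_assoc, ih, Matrix.mul_assoc]

/-- if `y ^ r` is scalar, `σ_y ^ r = 1` -/
theorem sigmaOf_pow_eq_one (ι : E →ₐ[F] Matrix n n F) (hinj : Function.Injective ι) (y : GL n F)
    (hy : y ∈ Cfsg.Geo.subalgebraNormalizer ι.range) (r : ℕ) (z : F)
    (hz : ((y ^ r : GL n F) : Matrix n n F) = z • 1) : sigmaOf ι hinj y hy ^ r = 1 := by
  apply AlgHom.ext
  intro c
  apply hinj
  have h1 := sigmaOf_pow ι hinj y hy r c
  have h2 : ι ((sigmaOf ι hinj y hy ^ r) c) = ((y ^ r : GL n F) : Matrix n n F) * ι c *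
      (((y ^ r)⁻¹ : GL n F) : Matrix n n F) := by
    rw [← h1, Matrix.mul_assoc, gl_mul_inv', Matrix.mul_one]
  rw [h2, AlgHom.one_apply]
  have h3 : ((y ^ r : GL n F) : Matrix n n F) * ι c = ι c * ((y ^ r : GL n F) : Matrix n n F) := by
    rw [hz, Matrix.smul_mul, Matrix.mul_smul, Matrix.one_mul, Matrix.mul_one]
  rw [h3, Matrix.mul_assoc, gl_mul_inv', Matrix.mul_one]

end sigma

end Cfsg.Agent.Lib.H23.SpF
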