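import Mathlib
import Cfsg.Agent.Lib.H23.SpFI
import Cfsg.Agent.Lib.H13.SSClass

set_option autoImplicit false
set_option linter.style.haveILetI false

/-!
# Elements of the normalizer of `K`: centralizing or with a small fixed space (helper23)
-/

namespace Cfsg.Agent.Lib.H23.SpF

open Module Polynomial
open scoped Matrix
open Cfsg.Agent.Lib.H13 Cfsg.Agent.Lib.H24.Elus

section bound

variable {F : Type*} [Field F] {V : Type*} [AddCommGroup V] [Module F V] [FiniteDimensional F V]

/-- if `Y A = A' Y` with `A` and `A' - A` injective, the fixed space of `Y` has at most half the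
dimension -/
theorem fix_bound (Y A A' : End F V) (h : ∀ v, Y (A v) = A' (Y v)) (hA : Function.Injective A)
    (hAA' : Function.Injective (A' - A)) :
    2 * finrank F (LinearMap.ker (aeval Y (X - 1 : F[X]))) ≤ finrank F V := by
  set W := LinearMap.ker (aeval Y (X - 1 : F[X])) with hW
  have hinf : W ⊓ W.map A = ⊥ := by
    rw [eq_bot_iff]
    intro v hv
    rw [Submodule.mem_inf] at hv
    obtain ⟨hv1, u, hu, rfl⟩ := hv
    rw [hW, mem_fix_iff] at hv1
    have hu' : Y u = u := (mem_fix_iff u).mp hu
    rw [h, hu'] at hv1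
    have h0 : (A' - A) u = 0 := by
      rw [LinearMap.sub_apply, hv1, sub_self]
    have hu0 : u = 0 := hAA' (by rw [h0, map_zero])
    rw [Submodule.mem_bot, hu0, map_zero]
  have hdim : finrank F (W.map A) = finrank F W :=
    (Submodule.equivMapOfInjective A hA W).finrank_eq.symm
  have h1 := Submodule.finrank_sup_add_finrank_inf_eq W (W.map A)
  rw [hinf, finrank_bot, add_zero, hdim] at h1
  have h2 : finrank F ↥(W ⊔ W.map A) ≤ finrank F V := Submodule.finrank_le _
  omega

end bound

section dich

variable {F E : Type*} [Field F] [Field E] [Algebra F E] {n : Type} [Fintype n] [DecidableEq n]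

theorem toLin_injective_of_ne_zero (ι : E →ₐ[F] Matrix n n F) (c : E) (hc : c ≠ 0) :
    Function.Injective (Matrix.toLin' (ι c)) := by
  intro u v huv
  have h1 : ι c⁻¹ * ι c = 1 := by rw [← map_mul, inv_mul_cancel₀ hc, map_one]
  have h2 := congrArg (fun w => ι c⁻¹ *ᵥ w) huv
  simp only [Matrix.toLin'_apply, Matrix.mulVec_mulVec, h1, Matrix.one_mulVec] at h2
  exact h2

/-- a non-centralizing element of the normalizer has a small fixed space -/
theorem fix_bound_of_not_central (ι : E →ₐ[F] Matrix n n F) (hinj : Function.Injective ι)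
    (y : GL n F) (hy : y ∈ Cfsg.Geo.subalgebraNormalizer ι.range) (c : E)
    (hc : sigmaOf ι hinj y hy c ≠ c) :
    2 * finrank F (LinearMap.ker (aeval (Matrix.toLin' (y : Matrix n n F)) (X - 1 : F[X]))) ≤
      Fintype.card n := by
  have hc0 : c ≠ 0 := by
    intro h0
    apply hc
    rw [h0, map_zero]
  have hd : sigmaOf ι hinj y hy c - c ≠ 0 := sub_ne_zero.mpr hc
  have := fix_bound (Matrix.toLin' (y : Matrix n n F)) (Matrix.toLin' (ι c))
    (Matrix.toLin' (ι (sigmaOf ι hinj y hy c))) ?_ (toLin_injective_of_ne_zero ι c hc0) ?_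
  · rwa [Module.finrank_fintype_fun_eq_card] at this
  · intro v
    rw [Matrix.toLin'_apply, Matrix.toLin'_apply, Matrix.toLin'_apply, Matrix.toLin'_apply,
      Matrix.mulVec_mulVec, Matrix.mulVec_mulVec, sigmaOf_semilinear]
  · rw [← map_sub, ← map_sub]
    exact toLin_injective_of_ne_zero ι _ hd

/-- an element of the normalizer centralizes `ι(E)` or moves some element -/
theorem central_or_moves (ι : E →ₐ[F] Matrix n n F) (hinj : Function.Injective ι)
    (y : GL n F) (hy : y ∈ Cfsg.Geo.subalgebraNormalizer ι.range) :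
    (∀ c, (y : Matrix n n F) * ι c = ι c * y) ∨ ∃ c, sigmaOf ι hinj y hy c ≠ c := by
  by_cases h : ∃ c, sigmaOf ι hinj y hy c ≠ c
  · right; exact h
  · left
    push Not at h
    intro c
    rw [← sigmaOf_semilinear ι hinj y hy c, h c]

/-- kernels of polynomials in `y` are invariant under matrices commuting with `y` -/
theorem ker_invariant_of_commute (y a : Matrix n n F) (hc : y * a = a * y) (P : F[X]) :
    ∀ v ∈ LinearMap.ker (aeval (Matrix.toLin' y) P),
      a *ᵥ v ∈ LinearMap.ker (aeval (Matrix.toLin' y) P) := by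
  intro v hv
  rw [LinearMap.mem_ker] at hv ⊢
  have := SSClass.aeval_intertwine (Matrix.toLin' y) (Matrix.toLin' y) (Matrix.toLin' a) (by
    intro w
    rw [Matrix.toLin'_apply, Matrix.toLin'_apply, Matrix.toLin'_apply, Matrix.toLin'_apply,
      Matrix.mulVec_mulVec, Matrix.mulVec_mulVec, hc]) P v
  rw [Matrix.toLin'_apply, Matrix.toLin'_apply] at this
  rw [← this, hv, Matrix.mulVec_zero]

end dich

end Cfsg.Agent.Lib.H23.SpF
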