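import Mathlib
import Cfsg.Agent.Lib.H23.SpFJ
import Cfsg.Agent.Lib.H23.SpUG
import Cfsg.Agent.Lib.H23.SpUI
import Cfsg.Agent.Lib.H23.SpUF

set_option autoImplicit false
set_option linter.style.haveILetI false

/-!
# Elements of `Sp_{2d}(q)` with a large fixed space are not conjugate into the normalizer of a
self-adjoint field subalgebra (helper23)
-/

namespace Cfsg.Agent.Lib.H23.SpF

open Module Polynomial
open scoped Matrix
open Cfsg.Agent.Lib.H13 Cfsg.Agent.Lib.H13.SpInvolCount Cfsg.Agent.Lib.H24.Elus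
open Cfsg.Agent.Lib.H23.SpU Cfsg.Agent.Lib.H4

section derange

variable {F E : Type*} [Field F] [Fintype F] [Field E] [Algebra F E] [Finite E] {d : ℕ}

omit [Fintype F] in
theorem conj_pow_eq_one (x g : GL (Fin d ⊕ Fin d) F) (r : ℕ) (hx : x ^ r = 1) :
    (g⁻¹ * x * g) ^ r = 1 := by
  have e : (g⁻¹ * x * g) ^ r = g⁻¹ * x ^ r * g := by
    have := conj_pow (a := g⁻¹) (b := x) (i := r)
    rw [inv_inv] at this
    exact this
  rw [e, hx, mul_one, inv_mul_cancel]

/-- an element of prime order `r` with fixed space of dimension `2 e`, `d = c' + e`,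
`[E : F] ∤ c'`, is not conjugate into the normalizer unless `r = [E : F]` and `d ≤ 2 c'` -/
theorem IStr.not_conj_of_fix {ι : E →ₐ[F] Matrix (Fin d ⊕ Fin d) (Fin d ⊕ Fin d) F}
    (h : IStr ι) (hinj : Function.Injective ι) (hk : (finrank F E).Prime)
    (x : GL (Fin d ⊕ Fin d) F) (hx : x ∈ Cfsg.spGL d F) (r : ℕ) [Fact r.Prime]
    (hxr : x ^ r = 1) (hr0 : (r : F) ≠ 0) (c' e : ℕ) (hde : d = c' + e)
    (hfix : finrank F (LinearMap.ker (aeval (Matrix.toLin'
      (x : Matrix (Fin d ⊕ Fin d) (Fin d ⊕ Fin d) F)) (X - 1 : F[X]))) = 2 * e)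
    (hkc : ¬ finrank F E ∣ c') (hbad : ¬ (r = finrank F E ∧ d ≤ 2 * c')) :
    ∀ g ∈ Cfsg.spGL d F, g⁻¹ * x * g ∉ Cfsg.Geo.subalgebraNormalizer ι.range := by
  intro g hg hmem
  have hr : r.Prime := Fact.out
  haveI : FiniteDimensional F E := Module.Finite.of_finite
  set y := g⁻¹ * x * g with hy
  have hyr : y ^ r = 1 := conj_pow_eq_one x g r hxr
  have hysp : y ∈ Cfsg.spGL d F :=
    (Cfsg.spGL d F).mul_mem ((Cfsg.spGL d F).mul_mem ((Cfsg.spGL d F).inv_mem hg) hx) hg
  set Y := Matrix.toLin' (y : Matrix (Fin d ⊕ Fin d) (Fin d ⊕ Fin d) F) with hY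
  have hYr : Y ^ r = 1 := toLin'_pow_eq_one y r hyr
  have hYiso : ∀ u v, sympB (F := F) d (Y u) (Y v) = sympB d u v := sp_toLin_iso y hysp
  have hfixy : finrank F (LinearMap.ker (aeval Y (X - 1 : F[X]))) = 2 * e := by
    rw [hY, hy, finrank_ker_conj]
    exact hfix
  rcases central_or_moves ι hinj y hmem with hc | ⟨c, hc⟩
  · -- the centralizing case
    have hnd : NDon (sympB (F := F) d) (LinearMap.ker (aeval Y (cyclotomic r F))) := by
      have := NDon_cyc_part (B := sympB (F := F) d) (sympB_alt d) hYiso hr0 hYr ⊤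
        (fun _ _ => Submodule.mem_top) (fun u _ hu => (sympB_nondeg d).1 u
          (fun w => hu w Submodule.mem_top))
      rwa [top_inf_eq] at this
    have hdim : finrank F (LinearMap.ker (aeval Y (cyclotomic r F))) = 2 * c' := by
      have := finrank_split_fix (y := Y) hr0 hYr ⊤ (fun _ _ => Submodule.mem_top)
      rw [top_inf_eq, top_inf_eq, finrank_top, finrank_II, hfixy] at this
      omega
    have hinv : ∀ c, ∀ v ∈ LinearMap.ker (aeval Y (cyclotomic r F)),
        ι c *ᵥ v ∈ LinearMap.ker (aeval Y (cyclotomic r F)) :=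
      fun c => ker_invariant_of_commute _ _ (hc c) _
    have hdvd := h.two_mul_dvd_of_invariant _ hinv hnd
    rw [hdim, mul_comm] at hdvd
    exact hkc (Nat.dvd_of_mul_dvd_mul_left (by norm_num) hdvd)
  · -- the semilinear case
    apply hbad
    have hσr : sigmaOf ι hinj y hmem ^ r = 1 := by
      apply sigmaOf_pow_eq_one ι hinj y hmem r 1
      rw [hyr, one_smul]
      rfl
    have hσ : sigmaOf ι hinj y hmem ≠ 1 := by
      intro h1
      apply hc
      rw [h1, AlgHom.one_apply]
    refine ⟨galois_order _ r hk hr hσr hσ, ?_⟩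
    have := fix_bound_of_not_central ι hinj y hmem c hc
    rw [← hY, hfixy, Fintype.card_sum, Fintype.card_fin] at this
    omega

/-- the fixed space of a transvection -/
theorem finrank_fix_tv (v : Fin d ⊕ Fin d → F) (hv : v ≠ 0) :
    finrank F (LinearMap.ker (aeval (Matrix.toLin'
      ((tvGL v : GL (Fin d ⊕ Fin d) F) : Matrix (Fin d ⊕ Fin d) (Fin d ⊕ Fin d) F))
        (X - 1 : F[X]))) + 1 = 2 * d := by
  set f : Module.Dual F (Fin d ⊕ Fin d → F) := LinearMap.flip (sympB (F := F) d) v with hf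
  have hf0 : f ≠ 0 := by
    obtain ⟨w, hw⟩ := exists_form_ne v hv
    intro h0
    apply hw
    have := congrArg (fun g : Module.Dual F (Fin d ⊕ Fin d → F) => g w) h0
    simpa [hf, sympB_apply] using this
  have hker : LinearMap.ker (aeval (Matrix.toLin'
      ((tvGL v : GL (Fin d ⊕ Fin d) F) : Matrix (Fin d ⊕ Fin d) (Fin d ⊕ Fin d) F))
        (X - 1 : F[X])) = LinearMap.ker f := by
    ext w
    rw [mem_fix_iff, LinearMap.mem_ker, Matrix.toLin'_apply, tvGL_val, sympTransvection_mulVec,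
      one_mul, hf, LinearMap.flip_apply, sympB_apply, add_eq_left, smul_eq_zero]
    constructor
    · rintro (h' | h')
      · exact h'
      · exact absurd h' hv
    · intro h'
      left; exact h'
  rw [hker, Module.Dual.finrank_ker_add_one_of_ne_zero hf0, finrank_II]

/-- transvections are not conjugate into the normalizer -/
theorem IStr.not_conj_tv {ι : E →ₐ[F] Matrix (Fin d ⊕ Fin d) (Fin d ⊕ Fin d) F}
    (h : IStr ι) (hinj : Function.Injective ι) (hk : (finrank F E).Prime) (hd : 2 ≤ d)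
    (v : Fin d ⊕ Fin d → F) (hv : v ≠ 0) :
    ∀ g ∈ Cfsg.spGL d F, g⁻¹ * tvGL v * g ∉ Cfsg.Geo.subalgebraNormalizer ι.range := by
  intro g hg hmem
  haveI : FiniteDimensional F E := Module.Finite.of_finite
  set y := g⁻¹ * tvGL v * g with hy
  set Y := Matrix.toLin' (y : Matrix (Fin d ⊕ Fin d) (Fin d ⊕ Fin d) F) with hY
  have hfixy : finrank F (LinearMap.ker (aeval Y (X - 1 : F[X]))) + 1 = 2 * d := by
    rw [hY, hy, finrank_ker_conj]
    exact finrank_fix_tv v hv
  rcases central_or_moves ι hinj y hmem with hc | ⟨c, hc⟩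
  · have hinv : ∀ c, ∀ v ∈ LinearMap.ker (aeval Y (X - 1 : F[X])),
        ι c *ᵥ v ∈ LinearMap.ker (aeval Y (X - 1 : F[X])) :=
      fun c => ker_invariant_of_commute _ _ (hc c) _
    have hdvd := dvd_finrank_of_invariant ι _ hinv
    obtain ⟨l, hl⟩ := exists_functional_ne_zero (F := F) (E := E)
    obtain ⟨m, -, -, -, hdm⟩ := h.exists_model l hl
    have h2 : finrank F E ∣ 2 * d := by rw [hdm]; exact ⟨2 * m, by ring⟩
    rw [← hfixy] at h2
    have h3 : finrank F E ∣ 1 := (Nat.dvd_add_right hdvd).mp h2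
    exact hk.one_lt.ne' (Nat.dvd_one.mp h3)
  · have := fix_bound_of_not_central ι hinj y hmem c hc
    rw [← hY, Fintype.card_sum, Fintype.card_fin] at this
    omega

end derange

end Cfsg.Agent.Lib.H23.SpF
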