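import Mathlib
import Cfsg.Agent.Lib.H23.SpFK
import Cfsg.Agent.Lib.H23.SpFG
import Cfsg.Agent.Lib.H24.ElusSpTest

set_option autoImplicit false
set_option linter.style.haveILetI false

/-!
# Self-adjoint field subalgebras of `Sp_{2d}(q)`: derangements of prime order (helper23)
-/

namespace Cfsg.Agent.Lib.H23.SpF

open Module Polynomial
open scoped Matrix
open Cfsg.Agent.Lib.H13 Cfsg.Agent.Lib.H13.SpInvolCount Cfsg.Agent.Lib.H24.Elus
open Cfsg.Agent.Lib.H23.SpU Cfsg.Agent.Lib.H4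

section invol

variable {F : Type*} [Field F]

/-- an involution of `Sp_{2d}` with a fixed space of codimension `2` -/
theorem exists_invol_fix (h2 : (2 : F) ≠ 0) (e : ℕ) :
    ∃ x : ↥(Matrix.symplecticGroup (Fin (1 + e)) F),
      (x : Matrix (Fin (1 + e) ⊕ Fin (1 + e)) (Fin (1 + e) ⊕ Fin (1 + e)) F) ^ 2 = 1 ∧
      finrank F (LinearMap.ker (aeval (Matrix.toLin'
        (x : Matrix (Fin (1 + e) ⊕ Fin (1 + e)) (Fin (1 + e) ⊕ Fin (1 + e)) F))
          (X - 1 : F[X]))) = 2 * e := by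
  set x₁ : ↥(Matrix.symplecticGroup (Fin 1) F) :=
    ⟨-1, SymplecticGroup.neg_mem (Matrix.symplecticGroup (Fin 1) F).one_mem⟩ with hx₁
  have hx₁sq : (x₁ : Matrix (Fin 1 ⊕ Fin 1) (Fin 1 ⊕ Fin 1) F) ^ 2 = 1 := by
    show (-1 : Matrix (Fin 1 ⊕ Fin 1) (Fin 1 ⊕ Fin 1) F) ^ 2 = 1
    rw [neg_one_sq]
  obtain ⟨x, hx, hk⟩ := exists_sp_sum 1 e x₁ 1 2 hx₁sq (one_pow 2)
  refine ⟨x, hx, ?_⟩
  rw [hk]
  have h1 : LinearMap.ker (aeval (Matrix.toLin'
      (x₁ : Matrix (Fin 1 ⊕ Fin 1) (Fin 1 ⊕ Fin 1) F)) (X - 1 : F[X])) = ⊥ := by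
    rw [eq_bot_iff]
    intro v hv
    rw [mem_fix_iff] at hv
    have hv' : (-1 : Matrix (Fin 1 ⊕ Fin 1) (Fin 1 ⊕ Fin 1) F) *ᵥ v = v := by
      rw [← Matrix.toLin'_apply]; exact hv
    rw [Matrix.neg_mulVec, Matrix.one_mulVec] at hv'
    have h3 : (2 : F) • v = 0 := by
      rw [two_smul]
      nth_rewrite 1 [← hv']
      exact neg_add_cancel v
    rcases smul_eq_zero.mp h3 with h' | h'
    · exact absurd h' h2
    · exact (Submodule.mem_bot F).mpr h'
  have h3 : LinearMap.ker (aeval (Matrix.toLin'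
      ((1 : ↥(Matrix.symplecticGroup (Fin e) F)) : Matrix (Fin e ⊕ Fin e) (Fin e ⊕ Fin e) F))
        (X - 1 : F[X])) = ⊤ := by
    rw [eq_top_iff]
    intro v _
    rw [mem_fix_iff]
    show Matrix.toLin' (1 : Matrix (Fin e ⊕ Fin e) (Fin e ⊕ Fin e) F) v = v
    rw [Matrix.toLin'_one, LinearMap.id_apply]
  rw [h1, h3, finrank_bot, finrank_top, finrank_std, zero_add]

end invol

section forward

variable {F E : Type*} [Field F] [Fintype F] [Field E] [Algebra F E] [Finite E] {d : ℕ}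
  {q : ℕ}

omit [Fintype F] in
theorem not_scalar_of_not_conj (K : Subalgebra F (Matrix (Fin d ⊕ Fin d) (Fin d ⊕ Fin d) F))
    (x : GL (Fin d ⊕ Fin d) F)
    (hnc : ∀ g ∈ Cfsg.spGL d F, g⁻¹ * x * g ∉ Cfsg.Geo.subalgebraNormalizer K) (z : F) :
    (x : Matrix (Fin d ⊕ Fin d) (Fin d ⊕ Fin d) F) ≠ z • 1 := by
  intro hz
  apply hnc 1 (Cfsg.spGL d F).one_mem
  rw [inv_one, one_mul, mul_one]
  apply mem_normalizer_of_commute
  intro k _
  rw [hz, Matrix.smul_mul, Matrix.one_mul, Matrix.mul_smul, Matrix.mul_one]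

/-- the forward direction -/
theorem IStr.forward {ι : E →ₐ[F] Matrix (Fin d ⊕ Fin d) (Fin d ⊕ Fin d) F}
    (h : IStr ι) (hinj : Function.Injective ι) (hk : (finrank F E).Prime) (hd : 2 ≤ d)
    (p : ℕ) [Fact p.Prime] [CharP F p]
    (hq : Fintype.card F = q) (r : ℕ) [Fact r.Prime]
    (hΩ : r ∣ (Cfsg.Geo.subalgebraNormalizer ι.range).relIndex (Cfsg.spGL d F))
    (hall : ∀ x ∈ Cfsg.spGL d F, (∃ z : F, ((x ^ r : GL (Fin d ⊕ Fin d) F) :
        Matrix (Fin d ⊕ Fin d) (Fin d ⊕ Fin d) F) = z • (1 : Matrix (Fin d ⊕ Fin d) (Fin d ⊕ Fin d) F)) →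
      (∀ z : F, (x : Matrix (Fin d ⊕ Fin d) (Fin d ⊕ Fin d) F) ≠
        z • (1 : Matrix (Fin d ⊕ Fin d) (Fin d ⊕ Fin d) F)) →
      ∃ g ∈ Cfsg.spGL d F, g⁻¹ * x * g ∈ Cfsg.Geo.subalgebraNormalizer ι.range) :
    r = 2 ∧ d = 2 ∧ finrank F E = 2 ∧ Odd q := by
  classical
  have hr : r.Prime := Fact.out
  have hp : p.Prime := Fact.out
  haveI : FiniteDimensional F E := Module.Finite.of_finite
  have hd1 : 1 ≤ d := by omega
  -- a derangement gives a contradiction
  have hcontra : ∀ x : GL (Fin d ⊕ Fin d) F, x ∈ Cfsg.spGL d F → x ^ r = 1 →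
      (∀ g ∈ Cfsg.spGL d F, g⁻¹ * x * g ∉ Cfsg.Geo.subalgebraNormalizer ι.range) → False := by
    intro x hx hxr hnc
    obtain ⟨g, hg, hgm⟩ := hall x hx ⟨1, by rw [hxr, one_smul]; rfl⟩
      (not_scalar_of_not_conj _ x hnc)
    exact hnc g hg hgm
  by_cases hrp : r = p
  · -- unipotent elements
    exfalso
    have : CharP F r := by rw [hrp]; infer_instance
    set v : Fin d ⊕ Fin d → F := Pi.single (Sum.inl ⟨0, hd1⟩) 1 with hv
    have hv0 : v ≠ 0 := by
      intro h0
      have := congrFun h0 (Sum.inl ⟨0, hd1⟩)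
      simp [hv] at this
    exact hcontra (tvGL v) (tvGL_mem v) (Units.ext (tvGL_pow v r))
      (h.not_conj_tv hinj hk hd v hv0)
  · have hr0 : (r : F) ≠ 0 := by
      intro h0
      rw [CharP.cast_eq_zero_iff F p r] at h0
      exact hrp ((Nat.prime_dvd_prime_iff_eq hp hr).mp h0).symm
    have hrq : ¬ r ∣ q := by
      obtain ⟨n, -, hn⟩ := FiniteField.card F p
      rw [← hq, hn]
      intro hdvd
      exact hrp ((Nat.prime_dvd_prime_iff_eq hr hp).mp (hr.dvd_of_dvd_pow hdvd))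
    by_cases hr2 : r = 2
    · -- involutions
      subst hr2
      have h2 : (2 : F) ≠ 0 := by exact_mod_cast hr0
      have hqodd : Odd q := by
        obtain ⟨n, -, hn⟩ := FiniteField.card F p
        rw [← hq, hn]
        apply Odd.pow
        exact hp.odd_of_ne_two (fun h => hrp h.symm)
      obtain ⟨e, rfl⟩ : ∃ e, d = 1 + e := ⟨d - 1, by omega⟩
      obtain ⟨Xm, hXr, hXk⟩ := exists_invol_fix h2 e
      by_cases hbad : 2 = finrank F E ∧ 1 + e ≤ 2 * 1
      · refine ⟨rfl, by omega, hbad.1.symm, hqodd⟩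
      · exfalso
        apply hcontra (glOfPow' Xm 2 (by norm_num) hXr) (glOfPow'_mem Xm 2 (by norm_num) hXr)
          (glOfPow'_pow _ 2 (by norm_num) hXr)
        apply h.not_conj_of_fix hinj hk _ (glOfPow'_mem Xm 2 (by norm_num) hXr) 2
          (glOfPow'_pow _ 2 (by norm_num) hXr) hr0 1 e rfl
        · rw [glOfPow'_val]; exact hXk
        · intro h1
          exact hk.one_lt.ne' (Nat.dvd_one.mp h1)
        · exact hbad
    · -- semisimple elements of odd order
      exfalso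
      obtain ⟨m, hdm, hdvd⟩ := h.relIndex_dvd ι.range rfl hq
      have hdvd' : r ∣ quotF q (finrank F E) m := hΩ.trans hdvd
      rcases dvd_quotF q (finrank F E) m r hr hdvd' with h' | ⟨i, hi, hki, hri⟩
      · exact hrq h'
      · rw [← hdm] at hi
        have hq1 : 1 ≤ q := by rw [← hq]; exact Fintype.card_pos
        have hord : orderOf (q : ZMod r) ∣ 2 * i := by
          apply orderOf_dvd_of_pow_eq_one
          have h1 : 1 ≤ q ^ (2 * i) := Nat.one_le_pow _ _ hq1
          rw [← ZMod.natCast_eq_zero_iff, Nat.cast_sub h1, Nat.cast_pow, Nat.cast_one,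
            sub_eq_zero] at hri
          exact hri
        obtain ⟨c', hc', hci⟩ := exists_half _ i hord
        have hi0 : 0 < i := by
          rcases Nat.eq_zero_or_pos i with h0 | h0
          · rw [h0] at hki; exact absurd (dvd_zero _) hki
          · exact h0
        have hkc : ¬ finrank F E ∣ c' := fun h' => hki (h'.trans hci)
        have hc'le : c' ≤ d := (Nat.le_of_dvd hi0 hci).trans hi
        have hord0 : 0 < orderOf (q : ZMod r) := CycFactor.orderOf_pos hq hr hrp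
        have hcOf := cOf_order_le q r hr2 hrq
        obtain ⟨e, rfl⟩ : ∃ e, d = c' + e := ⟨d - c', by omega⟩
        obtain ⟨Xm, hXr, hXk⟩ := exists_sp_test hq r hrp hr2 c' hc' e 1 (c' + e) (by ring)
        apply hcontra (glOfPow' Xm r hr.pos hXr) (glOfPow'_mem Xm r hr.pos hXr)
          (glOfPow'_pow _ r hr.pos hXr)
        apply h.not_conj_of_fix hinj hk _ (glOfPow'_mem Xm r hr.pos hXr) r
          (glOfPow'_pow _ r hr.pos hXr) hr0 c' e rfl
        · rw [glOfPow'_val]; exact hXk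
        · exact hkc
        · rintro ⟨hrk, hle⟩
          have hm0 : 0 < m := by
            rcases Nat.eq_zero_or_pos m with h0 | h0
            · rw [h0, mul_zero] at hdm; omega
            · exact h0
          have : finrank F E ≤ c' + e := by
            rw [hdm]
            exact Nat.le_mul_of_pos_right _ hm0
          omega

end forward

end Cfsg.Agent.Lib.H23.SpF
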