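import Mathlib
import Cfsg.Agent.Lib.H23.SpUE

set_option autoImplicit false

/-!
# Self-adjoint structures on a 4-dimensional symplectic space adapted to an isometry with
scalar square (helper23)
-/

namespace Cfsg.Agent.Lib.H23.SpF

open Module
open Cfsg.Agent.Lib.H13 Cfsg.Agent.Lib.H23.SpU

section mof

variable {F : Type*} [Field F] {V : Type*} [AddCommGroup V] [Module F V]

/-- the endomorphism swapping the two hyperbolic planes of a symplectic basis `e₀ e₁ | f₀ f₁` via
the matrix `(m00 m01; m10 m11)` and its adjugate -/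
noncomputable def mOf (b : Basis (Fin 2 ⊕ Fin 2) F V) (m00 m01 m10 m11 : F) : Module.End F V :=
  b.constr F (Sum.elim
    ![m00 • b (.inl 1) + m10 • b (.inr 1), m11 • b (.inl 0) - m10 • b (.inr 0)]
    ![m01 • b (.inl 1) + m11 • b (.inr 1), -(m01 • b (.inl 0)) + m00 • b (.inr 0)])

variable (b : Basis (Fin 2 ⊕ Fin 2) F V) (m00 m01 m10 m11 : F)

theorem mOf_e0 : mOf b m00 m01 m10 m11 (b (.inl 0)) = m00 • b (.inl 1) + m10 • b (.inr 1) := by
  unfold mOf; rw [Basis.constr_basis]; rfl

theorem mOf_e1 : mOf b m00 m01 m10 m11 (b (.inl 1)) = m11 • b (.inl 0) - m10 • b (.inr 0) := by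
  unfold mOf; rw [Basis.constr_basis]; rfl

theorem mOf_f0 : mOf b m00 m01 m10 m11 (b (.inr 0)) = m01 • b (.inl 1) + m11 • b (.inr 1) := by
  unfold mOf; rw [Basis.constr_basis]; rfl

theorem mOf_f1 : mOf b m00 m01 m10 m11 (b (.inr 1)) = -(m01 • b (.inl 0)) + m00 • b (.inr 0) := by
  unfold mOf; rw [Basis.constr_basis]; rfl

theorem mOf_sq (v : V) :
    mOf b m00 m01 m10 m11 (mOf b m00 m01 m10 m11 v) = (m00 * m11 - m01 * m10) • v := by
  have key : mOf b m00 m01 m10 m11 ∘ₗ mOf b m00 m01 m10 m11 =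
      (m00 * m11 - m01 * m10) • LinearMap.id := by
    apply b.ext
    intro x
    rw [LinearMap.comp_apply, LinearMap.smul_apply, LinearMap.id_apply]
    rcases x with i | i <;> fin_cases i
    · show mOf b m00 m01 m10 m11 (mOf b m00 m01 m10 m11 (b (.inl 0))) =
        (m00 * m11 - m01 * m10) • b (.inl 0)
      rw [mOf_e0, map_add, map_smul, map_smul, mOf_e1, mOf_f1]
      module
    · show mOf b m00 m01 m10 m11 (mOf b m00 m01 m10 m11 (b (.inl 1))) =
        (m00 * m11 - m01 * m10) • b (.inl 1)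
      rw [mOf_e1, map_sub, map_smul, map_smul, mOf_e0, mOf_f0]
      module
    · show mOf b m00 m01 m10 m11 (mOf b m00 m01 m10 m11 (b (.inr 0))) =
        (m00 * m11 - m01 * m10) • b (.inr 0)
      rw [mOf_f0, map_add, map_smul, map_smul, mOf_e1, mOf_f1]
      module
    · show mOf b m00 m01 m10 m11 (mOf b m00 m01 m10 m11 (b (.inr 1))) =
        (m00 * m11 - m01 * m10) • b (.inr 1)
      rw [mOf_f1, map_add, map_neg, map_smul, map_smul, mOf_e0, mOf_f0]
      module
  exact congrArg (fun T : V →ₗ[F] V => T v) key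

/-- `mOf` is self-adjoint for a symplectic basis -/
theorem mOf_selfadj (B : LinearMap.BilinForm F V) (halt : ∀ v, B v v = 0) (hb : IsSymp B b)
    (u v : V) : B (mOf b m00 m01 m10 m11 u) v = B u (mOf b m00 m01 m10 m11 v) := by
  have key : B.compl₁₂ (mOf b m00 m01 m10 m11) LinearMap.id =
      B.compl₁₂ LinearMap.id (mOf b m00 m01 m10 m11) := by
    apply LinearMap.BilinForm.ext_basis b
    intro x y
    rw [LinearMap.compl₁₂_apply, LinearMap.compl₁₂_apply, LinearMap.id_apply, LinearMap.id_apply]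
    have hp := hb.pair
    have hl := hb.iso_l
    have hr := hb.iso_r
    have hs := IsSymp.swap_pair halt hb
    rcases x with i | i <;> rcases y with j | j <;> fin_cases i <;> fin_cases j <;>
      simp [mOf_e0, mOf_e1, mOf_f0, mOf_f1, hp, hl, hr, hs]
  have := congrArg (fun T : LinearMap.BilinForm F V => T u v) key
  simpa using this

end mof

section s4

variable {F : Type*} [Field F] {V : Type*} [AddCommGroup V] [Module F V] [FiniteDimensional F V]

/-- Case A: an isometry of square `1`, not scalar, of a 4-dimensional symplectic space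
anticommutes with a self-adjoint structure -/
theorem exists_sstr_caseA (h2 : (2 : F) ≠ 0) (B : LinearMap.BilinForm F V) (x : Module.End F V)
    (halt : ∀ v, B v v = 0) (hnd : ∀ v, (∀ w, B v w = 0) → v = 0)
    (hiso : ∀ u v, B (x u) (x v) = B u v) (hsq : ∀ v, x (x v) = v)
    (hns : ∀ c : F, x ≠ c • 1) (hV : finrank F V = 4) (δ : F) :
    ∃ a : Module.End F V, (∀ v, a (a v) = δ • v) ∧ (∀ u v, B (a u) v = B u (a v)) ∧
      ∀ v, x (a v) = -a (x v) := by
  classical
  obtain ⟨ι, hι, hdec, b₀, ε₀, hb₀, h1₀, h2₀⟩ := caseA_aux h2 4 B x halt hnd hiso hsq hV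
  have hcard : Fintype.card ι = 2 := by
    have := Module.finrank_eq_card_basis b₀
    rw [Fintype.card_sum, hV] at this
    omega
  let e : ι ≃ Fin 2 := Fintype.equivFinOfCardEq hcard
  set b := b₀.reindex (e.sumCongr e) with hbdef
  have hb : IsSymp B b := IsSymp.reindex B b₀ hb₀ e
  set ε : Fin 2 → F := fun i => ε₀ (e.symm i) with hε
  have h1 : ∀ i, x (b (.inl i)) = ε i • b (.inl i) := by
    intro i
    simp only [hbdef, Basis.reindex_apply, Equiv.sumCongr_symm, Equiv.sumCongr_apply, Sum.map_inl]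
    exact h1₀ _
  have h2' : ∀ i, x (b (.inr i)) = ε i • b (.inr i) := by
    intro i
    simp only [hbdef, Basis.reindex_apply, Equiv.sumCongr_symm, Equiv.sumCongr_apply, Sum.map_inr]
    exact h2₀ _
  have hεsq : ∀ i, ε i * ε i = 1 := by
    intro i
    have h3 := hsq (b (.inl i))
    rw [h1, map_smul, h1, smul_smul] at h3
    have h4 : (ε i * ε i - 1) • b (.inl i) = 0 := by rw [sub_smul, h3, one_smul, sub_self]
    rcases smul_eq_zero.mp h4 with h' | h'
    · exact sub_eq_zero.mp h'
    · exact absurd h' (b.ne_zero _)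
  have hεne : ε 0 ≠ ε 1 := by
    intro heq
    apply hns (ε 0)
    apply b.ext
    intro k
    rw [LinearMap.smul_apply, Module.End.one_apply]
    rcases k with i | i <;> fin_cases i
    · exact h1 0
    · show x (b (.inl 1)) = ε 0 • b (.inl 1)
      rw [heq]; exact h1 1
    · exact h2' 0
    · show x (b (.inr 1)) = ε 0 • b (.inr 1)
      rw [heq]; exact h2' 1
  have hε1 : ε 1 = -ε 0 := by
    have h3 : (ε 0 - ε 1) * (ε 0 + ε 1) = 0 := by
      have := hεsq 0
      have := hεsq 1
      ring_nf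
      linear_combination hεsq 0 - hεsq 1
    rcases mul_eq_zero.mp h3 with h' | h'
    · exact absurd (sub_eq_zero.mp h') hεne
    · exact eq_neg_of_add_eq_zero_right h'
  refine ⟨mOf b 1 0 0 δ, ?_, mOf_selfadj b 1 0 0 δ B halt hb, ?_⟩
  · intro v
    rw [mOf_sq]
    congr 1
    ring
  · have key : x ∘ₗ mOf b 1 0 0 δ = -(mOf b 1 0 0 δ ∘ₗ x) := by
      apply b.ext
      intro k
      rw [LinearMap.neg_apply, LinearMap.comp_apply, LinearMap.comp_apply]
      rcases k with i | i <;> fin_cases i
      · show x (mOf b 1 0 0 δ (b (.inl 0))) = -mOf b 1 0 0 δ (x (b (.inl 0)))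
        rw [h1, map_smul, mOf_e0, one_smul, zero_smul, add_zero, h1, hε1, neg_smul]
      · show x (mOf b 1 0 0 δ (b (.inl 1))) = -mOf b 1 0 0 δ (x (b (.inl 1)))
        rw [h1, map_smul, mOf_e1, zero_smul, sub_zero, map_smul, h1, hε1, smul_smul, smul_smul]
        rw [← neg_smul]
        congr 1
        ring
      · show x (mOf b 1 0 0 δ (b (.inr 0))) = -mOf b 1 0 0 δ (x (b (.inr 0)))
        rw [h2', map_smul, mOf_f0, zero_smul, zero_add, map_smul, h2', hε1, smul_smul, smul_smul]
        rw [← neg_smul]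
        congr 1
        ring
      · show x (mOf b 1 0 0 δ (b (.inr 1))) = -mOf b 1 0 0 δ (x (b (.inr 1)))
        rw [h2', map_smul, mOf_f1, zero_smul, neg_zero, zero_add, one_smul, h2', hε1, neg_smul,
          neg_neg]
    intro v
    have := congrArg (fun T : V →ₗ[F] V => T v) key
    simpa using this

variable [Fintype F]

/-- Case B: an isometry of square `-1` of a 4-dimensional symplectic space commutes with a
self-adjoint structure -/
theorem exists_sstr_caseB (hodd : Fintype.card F % 2 = 1) (h2 : (2 : F) ≠ 0)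
    (B : LinearMap.BilinForm F V) (x : Module.End F V)
    (halt : ∀ v, B v v = 0) (hnd : ∀ v, (∀ w, B v w = 0) → v = 0)
    (hiso : ∀ u v, B (x u) (x v) = B u v) (hsq : ∀ v, x (x v) = -v)
    (hV : finrank F V = 4) (δ : F) :
    ∃ a : Module.End F V, (∀ v, a (a v) = δ • v) ∧ (∀ u v, B (a u) v = B u (a v)) ∧
      ∀ v, x (a v) = a (x v) := by
  classical
  have hU : UStr B x (-1) := by
    refine ⟨halt, hnd, ?_, ?_⟩
    · intro v
      rw [hsq, neg_smul, one_smul]
    · intro u v
      have h3 : v = x (x (-v)) := by rw [hsq, neg_neg]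
      nth_rewrite 1 [h3]
      rw [hiso, map_neg, map_neg]
  obtain ⟨b, hb, hxe, hxf⟩ := exists_adapted_basis hodd h2 (-1) (neg_ne_zero.mpr one_ne_zero)
    B x hU (m := 2) (by rw [hV])
  obtain ⟨s, t, hst⟩ := exists_norm_eq hodd (-1) δ (neg_ne_zero.mpr one_ne_zero)
  refine ⟨mOf b s (-t) t s, ?_, mOf_selfadj b s (-t) t s B halt hb, ?_⟩
  · intro v
    rw [mOf_sq]
    congr 1
    rw [← hst]
    ring
  · have key : x ∘ₗ mOf b s (-t) t s = mOf b s (-t) t s ∘ₗ x := by
      apply b.ext
      intro k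
      rw [LinearMap.comp_apply, LinearMap.comp_apply]
      rcases k with i | i <;> fin_cases i
      · show x (mOf b s (-t) t s (b (.inl 0))) = mOf b s (-t) t s (x (b (.inl 0)))
        rw [hxe, mOf_e0, mOf_f0, map_add, map_smul, map_smul, hxe, hxf]
        module
      · show x (mOf b s (-t) t s (b (.inl 1))) = mOf b s (-t) t s (x (b (.inl 1)))
        rw [hxe, mOf_e1, mOf_f1, map_sub, map_smul, map_smul, hxe, hxf]
        module
      · show x (mOf b s (-t) t s (b (.inr 0))) = mOf b s (-t) t s (x (b (.inr 0)))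
        rw [hxf, map_smul, mOf_e0, mOf_f0, map_add, map_smul, map_smul, hxe, hxf]
        module
      · show x (mOf b s (-t) t s (b (.inr 1))) = mOf b s (-t) t s (x (b (.inr 1)))
        rw [hxf, map_smul, mOf_e1, mOf_f1, map_add, map_neg, map_smul, map_smul, hxe, hxf]
        module
    intro v
    exact congrArg (fun T : V →ₗ[F] V => T v) key

end s4

end Cfsg.Agent.Lib.H23.SpF
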