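import Mathlib
import Cfsg.Agent.Lib.H23.SpFD
import Cfsg.Agent.Lib.H23.SpFM
import Cfsg.Agent.Lib.H23.SpUF
import Cfsg.Agent.Lib.H23.SpUL

set_option autoImplicit false
set_option linter.style.haveILetI false

/-!
# `Sp_4(q)`, `q` odd: every element with scalar square normalizes a conjugate of a self-adjoint
quadratic field subalgebra (helper23)
-/

namespace Cfsg.Agent.Lib.H23.SpF

open Module QuadraticAlgebra
open scoped Matrix
open Cfsg.Agent.Lib.H13 Cfsg.Agent.Lib.H13.SpInvolCount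
open Cfsg.Agent.Lib.H23.SpU

section sdata

variable {F : Type*} [Field F] {d : ℕ}

/-- the data extracted from a quadratic field subalgebra -/
structure SData (K : Subalgebra F (Matrix (Fin d ⊕ Fin d) (Fin d ⊕ Fin d) F))
    (α : Matrix (Fin d ⊕ Fin d) (Fin d ⊕ Fin d) F) (δ : F) : Prop where
  mem : α ∈ K
  sq : α * α = δ • 1
  nsq : ∀ c : F, c * c ≠ δ
  span : ∀ k ∈ K, ∃ s t : F, k = s • 1 + t • α

theorem exists_sdata (hd : 1 ≤ d) (h2 : (2 : F) ≠ 0)
    (K : Subalgebra F (Matrix (Fin d ⊕ Fin d) (Fin d ⊕ Fin d) F))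
    (hK : Cfsg.Geo.IsFieldSubalgebra 2 K) :
    ∃ (α : Matrix (Fin d ⊕ Fin d) (Fin d ⊕ Fin d) F) (δ : F), SData K α δ := by
  classical
  -- a non-scalar element
  obtain ⟨β, hβK, hβsc⟩ : ∃ β ∈ K, ∀ c : F, β ≠ c • 1 := by
    by_contra hcon
    push Not at hcon
    have hle : Subalgebra.toSubmodule K ≤
        Submodule.span F {(1 : Matrix (Fin d ⊕ Fin d) (Fin d ⊕ Fin d) F)} := by
      intro x hx
      obtain ⟨c, hc⟩ := hcon x hx
      rw [hc]
      exact Submodule.smul_mem _ _ (Submodule.subset_span rfl)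
    have h1 := Submodule.finrank_mono hle
    have h3 : finrank F ↥(Subalgebra.toSubmodule K) = 2 := hK.finrank_eq
    have h4 := finrank_span_le_card (R := F)
      ({(1 : Matrix (Fin d ⊕ Fin d) (Fin d ⊕ Fin d) F)} : Set _)
    rw [Set.toFinset_singleton, Finset.card_singleton] at h4
    omega
  have hβ0 : β ≠ 0 := by
    intro h0
    apply hβsc 0
    rw [h0, zero_smul]
  have hli : LinearIndependent F ![(1 : Matrix (Fin d ⊕ Fin d) (Fin d ⊕ Fin d) F), β] := by
    rw [LinearIndependent.pair_iff]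
    intro s t hst
    by_cases ht : t = 0
    · subst ht
      rw [zero_smul, add_zero] at hst
      exact ⟨smul_one_eq_zero hd s hst, rfl⟩
    · exfalso
      apply hβsc (-(t⁻¹ * s))
      have : β = t⁻¹ • (t • β) := by rw [smul_smul, inv_mul_cancel₀ ht, one_smul]
      rw [this, eq_neg_of_add_eq_zero_right hst, smul_neg, smul_smul, neg_smul]
  have hspan : Submodule.span F (Set.range ![(1 : Matrix (Fin d ⊕ Fin d) (Fin d ⊕ Fin d) F), β]) =
      Subalgebra.toSubmodule K := by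
    apply Submodule.eq_of_le_of_finrank_eq
    · rw [Submodule.span_le]
      rintro x ⟨i, rfl⟩
      fin_cases i
      · exact K.one_mem
      · exact hβK
    · rw [finrank_span_eq_card hli, Fintype.card_fin]
      exact hK.finrank_eq.symm
  have hKspan : ∀ x ∈ K, ∃ s t : F, x = s • 1 + t • β := by
    intro x hx
    have hx' : x ∈ Submodule.span F (Set.range ![(1 : Matrix (Fin d ⊕ Fin d) (Fin d ⊕ Fin d) F), β]) := by
      rw [hspan]; exact hx
    rw [Submodule.mem_span_range_iff_exists_fun] at hx'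
    obtain ⟨c, hc⟩ := hx'
    rw [Fin.sum_univ_two] at hc
    exact ⟨c 0, c 1, hc.symm⟩
  obtain ⟨s, t, hst⟩ := hKspan (β * β) (K.mul_mem hβK hβK)
  -- complete the square
  set c₀ : F := t / 2 with hc₀
  set α := β - c₀ • 1 with hα
  have hαK : α ∈ K := K.sub_mem hβK (K.smul_mem K.one_mem c₀)
  have hαsc : ∀ c : F, α ≠ c • 1 := by
    intro c hc
    apply hβsc (c + c₀)
    rw [add_smul, ← hc, hα, sub_add_cancel]
  have hαsq : α * α = (s + c₀ * c₀) • 1 := by
    have h2c : 2 * c₀ = t := by rw [hc₀]; field_simp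
    rw [hα]
    simp only [sub_mul, mul_sub, Matrix.smul_mul, Matrix.mul_smul, Matrix.one_mul, Matrix.mul_one,
      smul_smul, hst]
    rw [add_smul, ← h2c]
    module
  refine ⟨α, s + c₀ * c₀, hαK, hαsq, ?_, ?_⟩
  · intro c hc
    have hprod : (α - c • 1) * (α + c • 1) = 0 := by
      have : (α - c • 1) * (α + c • 1) = α * α - (c * c) • 1 := by
        simp only [sub_mul, mul_add, Matrix.smul_mul, Matrix.mul_smul, Matrix.one_mul,
          Matrix.mul_one, smul_smul]
        abel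
      rw [this, hαsq, hc, sub_self]
    by_cases hx : α - c • 1 = 0
    · exact hαsc c (sub_eq_zero.mp hx)
    · obtain ⟨y, hyK, hy⟩ := hK.inv _ (K.sub_mem hαK (K.smul_mem K.one_mem c)) hx
      have hy' : y * (α - c • 1) = 1 := by
        rw [← hK.comm _ (K.sub_mem hαK (K.smul_mem K.one_mem c)) _ hyK]; exact hy
      have : α + c • 1 = 0 := by
        calc α + c • 1 = (y * (α - c • 1)) * (α + c • 1) := by rw [hy', Matrix.one_mul]
          _ = 0 := by rw [Matrix.mul_assoc, hprod, Matrix.mul_zero]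
      apply hαsc (-c)
      rw [neg_smul]
      exact eq_neg_of_add_eq_zero_left this
  · intro k hk
    obtain ⟨s', t', rfl⟩ := hKspan k hk
    refine ⟨s' + t' * c₀, t', ?_⟩
    rw [hα]
    module

variable {K : Subalgebra F (Matrix (Fin d ⊕ Fin d) (Fin d ⊕ Fin d) F)}
  {α : Matrix (Fin d ⊕ Fin d) (Fin d ⊕ Fin d) F} {δ : F}

theorem SData.mem_iff (h : SData K α δ) (k : Matrix (Fin d ⊕ Fin d) (Fin d ⊕ Fin d) F) :
    k ∈ K ↔ ∃ s t : F, k = s • 1 + t • α := by
  constructor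
  · exact h.span k
  · rintro ⟨s, t, rfl⟩
    exact K.add_mem (K.smul_mem K.one_mem s) (K.smul_mem h.mem t)

/-- matrices commuting or anticommuting with `α` normalize `K` -/
theorem SData.mem_normalizer_of (h : SData K α δ) (g : GL (Fin d ⊕ Fin d) F)
    (hg : (g : Matrix (Fin d ⊕ Fin d) (Fin d ⊕ Fin d) F) * α = α * g ∨
       (g : Matrix (Fin d ⊕ Fin d) (Fin d ⊕ Fin d) F) * α = -(α * g)) :
    g ∈ Cfsg.Geo.subalgebraNormalizer K := by
  obtain ⟨ε, hε, hgε⟩ : ∃ ε : F, ε * ε = 1 ∧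
      (g : Matrix (Fin d ⊕ Fin d) (Fin d ⊕ Fin d) F) * α = ε • (α * g) := by
    rcases hg with hg | hg
    · exact ⟨1, one_mul 1, by rw [one_smul]; exact hg⟩
    · exact ⟨-1, by ring, by rw [neg_smul, one_smul]; exact hg⟩
  intro k
  constructor
  · intro hk
    obtain ⟨s, t, rfl⟩ := h.span k hk
    rw [conj_of_comm g ε hgε]
    exact (h.mem_iff _).mpr ⟨s, t * ε, rfl⟩
  · intro hk
    obtain ⟨s, t, hst⟩ := h.span _ hk
    have hk' : k = ((g⁻¹ : GL (Fin d ⊕ Fin d) F) : Matrix (Fin d ⊕ Fin d) (Fin d ⊕ Fin d) F) *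
        (s • 1 + t • α) * (((g⁻¹)⁻¹ : GL (Fin d ⊕ Fin d) F) :
          Matrix (Fin d ⊕ Fin d) (Fin d ⊕ Fin d) F) := by
      rw [← hst, inv_inv]
      calc k = (((g⁻¹ : GL (Fin d ⊕ Fin d) F) : Matrix (Fin d ⊕ Fin d) (Fin d ⊕ Fin d) F) * g) * k *
            (((g⁻¹ : GL (Fin d ⊕ Fin d) F) : Matrix (Fin d ⊕ Fin d) (Fin d ⊕ Fin d) F) * g) := by
            rw [gl_inv_mul, Matrix.one_mul, Matrix.mul_one]
        _ = _ := by simp only [Matrix.mul_assoc]
    rw [hk', conj_of_comm g⁻¹ ε (inv_comm g ε hε hgε)]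
    exact (h.mem_iff _).mpr ⟨s, t * ε, rfl⟩

end sdata

end Cfsg.Agent.Lib.H23.SpF
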