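import Mathlib
import Cfsg.Agent.Lib.H23.SpFN

set_option autoImplicit false
set_option linter.style.haveILetI false

/-!
# Sufficiency: `Sp_4(q)`, `q` odd, `K` a self-adjoint quadratic field subalgebra (helper23)
-/

namespace Cfsg.Agent.Lib.H23.SpF

open Module QuadraticAlgebra
open scoped Matrix
open Cfsg.Agent.Lib.H13 Cfsg.Agent.Lib.H13.SpInvolCount
open Cfsg.Agent.Lib.H23.SpU

section lift

variable {F : Type*} [Field F] {d : ℕ}

/-- the algebra map `F[ω] → M_{2d}(F)` attached to a square root of `δ` -/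
noncomputable def liftOf (a : Matrix (Fin d ⊕ Fin d) (Fin d ⊕ Fin d) F) (δ : F)
    (ha : a * a = δ • 1) : EE F δ →ₐ[F] Matrix (Fin d ⊕ Fin d) (Fin d ⊕ Fin d) F :=
  QuadraticAlgebra.lift ⟨a, by rw [ha, zero_smul, add_zero]⟩

theorem liftOf_apply (a : Matrix (Fin d ⊕ Fin d) (Fin d ⊕ Fin d) F) (δ : F)
    (ha : a * a = δ • 1) (z : EE F δ) : liftOf a δ ha z = z.re • 1 + z.im • a := rfl

theorem liftOf_omega (a : Matrix (Fin d ⊕ Fin d) (Fin d ⊕ Fin d) F) (δ : F)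
    (ha : a * a = δ • 1) : liftOf a δ ha ω = a := by
  rw [liftOf_apply, omega_re, omega_im, zero_smul, zero_add, one_smul]

/-- a self-adjoint square root of `δ` gives a self-adjoint structure -/
theorem istr_liftOf (h2 : (2 : F) ≠ 0)
    (a : Matrix (Fin d ⊕ Fin d) (Fin d ⊕ Fin d) F) (δ : F) (ha : a * a = δ • 1)
    [Fact (∀ r : F, r ^ 2 ≠ δ + 0 * r)]
    (hsa : ∀ u v, Cfsg.sympForm d F (a *ᵥ u) v = Cfsg.sympForm d F u (a *ᵥ v)) :
    IStr (liftOf a δ ha) := by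
  have halt : ∀ v, Cfsg.sympForm d F (a *ᵥ v) v = 0 := by
    intro v
    have h1 := hsa v v
    rw [Cfsg.Agent.Lib.H4.sympForm_swap d v] at h1
    have h3 : (2 : F) * Cfsg.sympForm d F (a *ᵥ v) v = 0 := by linear_combination h1
    rcases mul_eq_zero.mp h3 with h' | h'
    · exact absurd h' h2
    · exact h'
  constructor
  · intro c u v
    rw [liftOf_apply, Matrix.add_mulVec, Matrix.add_mulVec, Matrix.smul_mulVec, Matrix.smul_mulVec,
      Matrix.smul_mulVec, Matrix.smul_mulVec, Matrix.one_mulVec, Matrix.one_mulVec,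
      Cfsg.Agent.Lib.H4.sympForm_add_left, Cfsg.Agent.Lib.H4.sympForm_add_right,
      Cfsg.Agent.Lib.H4.sympForm_smul_left, Cfsg.Agent.Lib.H4.sympForm_smul_left,
      Cfsg.Agent.Lib.H4.sympForm_smul_right, Cfsg.Agent.Lib.H4.sympForm_smul_right, hsa]
  · intro c v
    rw [liftOf_apply, Matrix.add_mulVec, Matrix.smul_mulVec, Matrix.smul_mulVec,
      Matrix.one_mulVec, Cfsg.Agent.Lib.H4.sympForm_add_left,
      Cfsg.Agent.Lib.H4.sympForm_smul_left, Cfsg.Agent.Lib.H4.sympForm_smul_left,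
      halt, Cfsg.Agent.Lib.H4.sympForm_self, mul_zero, mul_zero, add_zero]

end lift

section suff

variable {F : Type*} [Field F] [Fintype F]

omit [Fintype F] in
/-- matrix form of a self-adjoint structure on the standard symplectic space -/
theorem matrix_of_sstr {d : ℕ} (a : Module.End F (Fin d ⊕ Fin d → F)) (δ : F)
    (hsq : ∀ v, a (a v) = δ • v)
    (hsa : ∀ u v, sympB (F := F) d (a u) v = sympB (F := F) d u (a v)) :
    LinearMap.toMatrix' a * LinearMap.toMatrix' a =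
        δ • (1 : Matrix (Fin d ⊕ Fin d) (Fin d ⊕ Fin d) F) ∧
      ∀ u v, Cfsg.sympForm d F (LinearMap.toMatrix' a *ᵥ u) v =
        Cfsg.sympForm d F u (LinearMap.toMatrix' a *ᵥ v) := by
  constructor
  · apply Matrix.toLin'.injective
    apply LinearMap.ext
    intro v
    rw [Matrix.toLin'_apply, ← Matrix.mulVec_mulVec, LinearMap.toMatrix'_mulVec,
      LinearMap.toMatrix'_mulVec, hsq, Matrix.toLin'_apply, Matrix.smul_mulVec,
      Matrix.one_mulVec]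
  · intro u v
    rw [LinearMap.toMatrix'_mulVec, LinearMap.toMatrix'_mulVec, ← sympB_apply, ← sympB_apply, hsa]

/-- every non-scalar element of `Sp_4(q)` with scalar square has a conjugate normalizing `K` -/
theorem two_suff (hodd : Fintype.card F % 2 = 1) (h2 : (2 : F) ≠ 0)
    (K : Subalgebra F (Matrix (Fin 2 ⊕ Fin 2) (Fin 2 ⊕ Fin 2) F))
    (hK : Cfsg.Geo.IsFieldSubalgebra 2 K)
    (hKf : Cfsg.Geo.IsSelfAdjointFor (Cfsg.sympForm 2 F) K)
    (x : GL (Fin 2 ⊕ Fin 2) F) (hx : x ∈ Cfsg.spGL 2 F) (z : F)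
    (hz : ((x ^ 2 : GL (Fin 2 ⊕ Fin 2) F) : Matrix (Fin 2 ⊕ Fin 2) (Fin 2 ⊕ Fin 2) F) = z • 1)
    (hns : ∀ z : F, (x : Matrix (Fin 2 ⊕ Fin 2) (Fin 2 ⊕ Fin 2) F) ≠ z • 1) :
    ∃ g ∈ Cfsg.spGL 2 F, g⁻¹ * x * g ∈ Cfsg.Geo.subalgebraNormalizer K := by
  obtain ⟨α, δ, h⟩ := exists_sdata (by norm_num) h2 K hK
  haveI : Fact (∀ r : F, r ^ 2 ≠ δ + 0 * r) := fact_of_nsq δ h.nsq
  have hαsa : ∀ u v, Cfsg.sympForm 2 F (α *ᵥ u) v = Cfsg.sympForm 2 F u (α *ᵥ v) := hKf α h.mem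
  set X : Matrix (Fin 2 ⊕ Fin 2) (Fin 2 ⊕ Fin 2) F := (x : Matrix (Fin 2 ⊕ Fin 2) (Fin 2 ⊕ Fin 2) F)
    with hX
  have hXX : X * X = z • 1 := by
    rw [← hz, pow_two, Units.val_mul]
  have hpres := (mem_spGL_iff x).mp hx
  have hzz : z * z = 1 := by
    obtain ⟨u, v, huv⟩ := exists_form_ne_zero (F := F) (d := 2) (by norm_num)
    have h1 : Cfsg.sympForm 2 F (X *ᵥ (X *ᵥ u)) (X *ᵥ (X *ᵥ v)) = Cfsg.sympForm 2 F u v := by
      rw [hpres, hpres]
    rw [Matrix.mulVec_mulVec, Matrix.mulVec_mulVec, hXX, Matrix.smul_mulVec,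
      Matrix.smul_mulVec, Matrix.one_mulVec, Matrix.one_mulVec,
      Cfsg.Agent.Lib.H4.sympForm_smul_left, Cfsg.Agent.Lib.H4.sympForm_smul_right] at h1
    have h3 : (z * z - 1) * Cfsg.sympForm 2 F u v = 0 := by linear_combination h1
    rcases mul_eq_zero.mp h3 with h' | h'
    · exact sub_eq_zero.mp h'
    · exact absurd h' huv
  have hz1 : z = 1 ∨ z = -1 := by
    have : (z - 1) * (z + 1) = 0 := by linear_combination hzz
    rcases mul_eq_zero.mp this with h' | h'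
    · left; exact sub_eq_zero.mp h'
    · right; exact eq_neg_of_add_eq_zero_left h'
  have hiso := sp_toLin_iso x hx
  have hV : finrank F (Fin 2 ⊕ Fin 2 → F) = 4 := by rw [finrank_II]
  -- a self-adjoint structure commuting or anticommuting with `x`
  obtain ⟨A, hA, hAsa, hxA⟩ : ∃ A : Matrix (Fin 2 ⊕ Fin 2) (Fin 2 ⊕ Fin 2) F,
      A * A = δ • 1 ∧
      (∀ u v, Cfsg.sympForm 2 F (A *ᵥ u) v = Cfsg.sympForm 2 F u (A *ᵥ v)) ∧
      (X * A = A * X ∨ X * A = -(A * X)) := by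
    rcases hz1 with hz1 | hz1
    · have hsq : ∀ v, Matrix.toLin' X (Matrix.toLin' X v) = v := by
        intro v
        rw [Matrix.toLin'_apply, Matrix.toLin'_apply, Matrix.mulVec_mulVec, hXX, hz1, one_smul,
          Matrix.one_mulVec]
      have hns' : ∀ c : F, Matrix.toLin' X ≠ c • 1 := by
        intro c hc
        apply hns c
        apply Matrix.toLin'.injective
        rw [hc, map_smul, Matrix.toLin'_one]
        rfl
      obtain ⟨a, ha1, ha2, ha3⟩ := exists_sstr_caseA h2 (sympB (F := F) 2) (Matrix.toLin' X)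
        (sympB_alt 2) (sympB_nondeg 2).1 hiso hsq hns' hV δ
      obtain ⟨e1, e2⟩ := matrix_of_sstr a δ ha1 ha2
      refine ⟨LinearMap.toMatrix' a, e1, e2, Or.inr ?_⟩
      apply Matrix.toLin'.injective
      apply LinearMap.ext
      intro v
      rw [map_neg, LinearMap.neg_apply, Matrix.toLin'_apply, Matrix.toLin'_apply,
        ← Matrix.mulVec_mulVec, ← Matrix.mulVec_mulVec,
        LinearMap.toMatrix'_mulVec, LinearMap.toMatrix'_mulVec, ← Matrix.toLin'_apply,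
        ← Matrix.toLin'_apply X v]
      exact ha3 v
    · have hsq : ∀ v, Matrix.toLin' X (Matrix.toLin' X v) = -v := by
        intro v
        rw [Matrix.toLin'_apply, Matrix.toLin'_apply, Matrix.mulVec_mulVec, hXX, hz1, neg_smul,
          one_smul, Matrix.neg_mulVec, Matrix.one_mulVec]
      obtain ⟨a, ha1, ha2, ha3⟩ := exists_sstr_caseB hodd h2 (sympB (F := F) 2) (Matrix.toLin' X)
        (sympB_alt 2) (sympB_nondeg 2).1 hiso hsq hV δ
      obtain ⟨e1, e2⟩ := matrix_of_sstr a δ ha1 ha2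
      refine ⟨LinearMap.toMatrix' a, e1, e2, Or.inl ?_⟩
      apply Matrix.toLin'.injective
      apply LinearMap.ext
      intro v
      rw [Matrix.toLin'_apply, Matrix.toLin'_apply,
        ← Matrix.mulVec_mulVec, ← Matrix.mulVec_mulVec,
        LinearMap.toMatrix'_mulVec, LinearMap.toMatrix'_mulVec, ← Matrix.toLin'_apply,
        ← Matrix.toLin'_apply X v]
      exact ha3 v
  -- conjugate `A` to `α`
  obtain ⟨g, hg, hgc⟩ := (istr_liftOf h2 α δ h.sq hαsa).exists_conj (istr_liftOf h2 A δ hA hAsa)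
  have hgα : (g : Matrix (Fin 2 ⊕ Fin 2) (Fin 2 ⊕ Fin 2) F) * α = A * g := by
    have := hgc ω
    rwa [liftOf_omega, liftOf_omega] at this
  refine ⟨g, hg, h.mem_normalizer_of _ ?_⟩
  have hgi : ((g⁻¹ : GL (Fin 2 ⊕ Fin 2) F) : Matrix (Fin 2 ⊕ Fin 2) (Fin 2 ⊕ Fin 2) F) * A =
      α * ((g⁻¹ : GL (Fin 2 ⊕ Fin 2) F) : Matrix (Fin 2 ⊕ Fin 2) (Fin 2 ⊕ Fin 2) F) := by
    calc ((g⁻¹ : GL (Fin 2 ⊕ Fin 2) F) : Matrix (Fin 2 ⊕ Fin 2) (Fin 2 ⊕ Fin 2) F) * A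
        = ((g⁻¹ : GL (Fin 2 ⊕ Fin 2) F) : Matrix (Fin 2 ⊕ Fin 2) (Fin 2 ⊕ Fin 2) F) * (A * g) *
            ((g⁻¹ : GL (Fin 2 ⊕ Fin 2) F) : Matrix (Fin 2 ⊕ Fin 2) (Fin 2 ⊕ Fin 2) F) := by
          rw [Matrix.mul_assoc, Matrix.mul_assoc, gl_mul_inv, Matrix.mul_one]
      _ = α * ((g⁻¹ : GL (Fin 2 ⊕ Fin 2) F) : Matrix (Fin 2 ⊕ Fin 2) (Fin 2 ⊕ Fin 2) F) := by
          rw [← hgα, ← Matrix.mul_assoc, gl_inv_mul, Matrix.one_mul]
  have e1 : ((g⁻¹ * x * g : GL (Fin 2 ⊕ Fin 2) F) : Matrix (Fin 2 ⊕ Fin 2) (Fin 2 ⊕ Fin 2) F) * α =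
      ((g⁻¹ : GL (Fin 2 ⊕ Fin 2) F) : Matrix (Fin 2 ⊕ Fin 2) (Fin 2 ⊕ Fin 2) F) *
        (X * A) * g := by
    rw [Units.val_mul, Units.val_mul, Matrix.mul_assoc, hgα]
    simp only [Matrix.mul_assoc, hX]
  have e2 : α * ((g⁻¹ * x * g : GL (Fin 2 ⊕ Fin 2) F) : Matrix (Fin 2 ⊕ Fin 2) (Fin 2 ⊕ Fin 2) F) =
      ((g⁻¹ : GL (Fin 2 ⊕ Fin 2) F) : Matrix (Fin 2 ⊕ Fin 2) (Fin 2 ⊕ Fin 2) F) *
        (A * X) * g := by
    rw [Units.val_mul, Units.val_mul, ← Matrix.mul_assoc, ← Matrix.mul_assoc, ← hgi]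
    simp only [Matrix.mul_assoc, hX]
  rcases hxA with hxA | hxA
  · left
    rw [e1, e2, hxA]
  · right
    rw [e1, e2, hxA, Matrix.mul_neg, Matrix.neg_mul]

end suff

end Cfsg.Agent.Lib.H23.SpF
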