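import Mathlib
import Cfsg.Prelude.Def_LieClassical
import Cfsg.Agent.Lib.H23.SpUA
import Cfsg.Agent.Lib.H23.SpUL

set_option autoImplicit false
set_option linter.unusedSectionVars false

/-!
# The unitary model: `E^d` as a symplectic space over `F` with a unitary structure (helper23)
-/

namespace Cfsg.Agent.Lib.H23.SpU

open QuadraticAlgebra Module

section model

variable {F : Type*} [Field F] (δ : F) (d : ℕ)

/-- the hermitian sum `Σ u_i conj(v_i)` -/
def hsum (u v : Fin d → EE F δ) : EE F δ := ∑ i, u i * star (v i)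

theorem star_smul' (c : F) (z : EE F δ) : star (c • z) = c • star z := by
  ext <;> simp

theorem hsum_add_left (u u' v : Fin d → EE F δ) :
    hsum δ d (u + u') v = hsum δ d u v + hsum δ d u' v := by
  simp only [hsum, Pi.add_apply, add_mul, Finset.sum_add_distrib]

theorem hsum_add_right (u v v' : Fin d → EE F δ) :
    hsum δ d u (v + v') = hsum δ d u v + hsum δ d u v' := by
  simp only [hsum, Pi.add_apply, star_add, mul_add, Finset.sum_add_distrib]

theorem hsum_smul_left (c : F) (u v : Fin d → EE F δ) :
    hsum δ d (c • u) v = c • hsum δ d u v := by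
  simp only [hsum, Pi.smul_apply, smul_mul_assoc, Finset.smul_sum]

theorem hsum_smul_right (c : F) (u v : Fin d → EE F δ) :
    hsum δ d u (c • v) = c • hsum δ d u v := by
  simp only [hsum, Pi.smul_apply, star_smul', mul_smul_comm, Finset.smul_sum]

/-- the alternating form `im (Σ u_i conj(v_i))` -/
noncomputable def modelB : LinearMap.BilinForm F (Fin d → EE F δ) :=
  LinearMap.mk₂ F (fun u v => (hsum δ d u v).im)
    (fun u u' v => by rw [hsum_add_left, im_add])
    (fun c u v => by rw [hsum_smul_left, im_smul])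
    (fun u v v' => by rw [hsum_add_right, im_add])
    (fun c u v => by rw [hsum_smul_right, im_smul])

theorem modelB_apply (u v : Fin d → EE F δ) : modelB δ d u v = (hsum δ d u v).im := rfl

/-- multiplication by `ω` -/
noncomputable def modelA : Module.End F (Fin d → EE F δ) where
  toFun u := (ω : EE F δ) • u
  map_add' u v := smul_add _ _ _
  map_smul' c u := by
    ext i : 1
    simp only [Pi.smul_apply, smul_eq_mul, RingHom.id_apply, mul_smul_comm]

theorem modelA_apply (u : Fin d → EE F δ) : modelA δ d u = (ω : EE F δ) • u := rfl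

theorem im_sum' {κ : Type*} (s : Finset κ) (f : κ → EE F δ) : (∑ i ∈ s, f i).im = ∑ i ∈ s, (f i).im :=
  map_sum (imₗ (R := F) (a := δ) (b := 0)) f s

theorem hsum_omega_left (u v : Fin d → EE F δ) :
    hsum δ d ((ω : EE F δ) • u) v = ω * hsum δ d u v := by
  simp only [hsum, Pi.smul_apply, smul_eq_mul, mul_assoc, Finset.mul_sum]

theorem hsum_omega_right (u v : Fin d → EE F δ) :
    hsum δ d u ((ω : EE F δ) • v) = -(ω * hsum δ d u v) := by
  simp only [hsum, Pi.smul_apply, smul_eq_mul, star_mul, Finset.mul_sum]
  rw [← Finset.sum_neg_distrib]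
  apply Finset.sum_congr rfl
  intro i _
  rw [star_omega]
  ring

/-- the model is a unitary structure -/
theorem ustr_model : UStr (modelB δ d) (modelA δ d) δ := by
  refine ⟨?_, ?_, ?_, ?_⟩
  · intro v
    rw [modelB_apply, hsum, im_sum']
    apply Finset.sum_eq_zero
    intro i _
    rw [← algebraMap_norm_eq_mul_star, algebraMap_im]
  · intro v hv
    ext j : 1
    have key : ∀ c : EE F δ, (v j * c).im = 0 := by
      intro c
      have := hv (Pi.single j (star c))
      rw [modelB_apply, hsum, Finset.sum_eq_single j] at this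
      · rwa [Pi.single_eq_same, star_star] at this
      · intro i _ hij
        rw [Pi.single_eq_of_ne hij, star_zero, mul_zero]
      · intro hj
        exact absurd (Finset.mem_univ j) hj
    have h1 := key 1
    have h2 := key ω
    rw [mul_one] at h1
    simp only [im_mul, omega_im, omega_re, mul_one, mul_zero, add_zero, zero_mul] at h2
    ext
    · simpa using h2
    · simpa using h1
  · intro v
    rw [modelA_apply, modelA_apply, smul_smul, omega_sq]
    ext i : 1
    simp only [Pi.smul_apply, smul_eq_mul, Algebra.smul_def]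
  · intro u v
    rw [modelB_apply, modelB_apply, modelA_apply, modelA_apply, hsum_omega_left, hsum_omega_right,
      im_neg, neg_neg]

theorem finrank_model : finrank F (Fin d → EE F δ) = 2 * d := by
  rw [Module.finrank_pi_fintype]
  simp only [finrank_eq_two, Finset.sum_const, Finset.card_univ, Fintype.card_fin, smul_eq_mul]
  ring

end model

section action

variable {F : Type*} [Field F] [Fintype F] (δ : F) (d : ℕ)
  [hδ : Fact (∀ r : F, r ^ 2 ≠ δ + 0 * r)] {q : ℕ}

/-- the action of `GU_d` on the model, as `F`-linear maps -/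
noncomputable def rhoU (q : ℕ) : ↥(Cfsg.GU d (EE F δ) q) →* Module.End F (Fin d → EE F δ) where
  toFun g := (Matrix.toLin' ((g : GL (Fin d) (EE F δ)) : Matrix (Fin d) (Fin d) (EE F δ))).restrictScalars F
  map_one' := by
    apply LinearMap.ext
    intro v
    simp
  map_mul' g h := by
    apply LinearMap.ext
    intro v
    simp [Matrix.toLin'_mul]

theorem rhoU_apply (g : ↥(Cfsg.GU d (EE F δ) q)) (v : Fin d → EE F δ) :
    rhoU δ d q g v = ((g : GL (Fin d) (EE F δ)) : Matrix (Fin d) (Fin d) (EE F δ)).mulVec v := by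
  show Matrix.toLin' _ v = _
  rw [Matrix.toLin'_apply]

theorem rhoU_injective : Function.Injective (rhoU δ d q) := by
  intro g h hgh
  apply Subtype.ext
  apply Units.ext
  apply Matrix.toLin'.injective
  apply LinearMap.ext
  intro v
  have := congrArg (fun f : Module.End F (Fin d → EE F δ) => f v) hgh
  simp only [rhoU_apply] at this
  rw [Matrix.toLin'_apply, Matrix.toLin'_apply]
  exact this

theorem rhoU_comm (g : ↥(Cfsg.GU d (EE F δ) q)) (v : Fin d → EE F δ) :
    rhoU δ d q g (modelA δ d v) = modelA δ d (rhoU δ d q g v) := by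
  rw [rhoU_apply, rhoU_apply, modelA_apply, modelA_apply, Matrix.mulVec_smul]

theorem hermForm_eq_hsum (p : ℕ) [Fact p.Prime] [CharP F p] (hq : Fintype.card F = q)
    (h2 : (2 : F) ≠ 0) (hnsq : ∀ c : F, c * c ≠ δ) (u v : Fin d → EE F δ) :
    Cfsg.hermForm d (EE F δ) q u v = hsum δ d u v := by
  unfold Cfsg.hermForm hsum
  apply Finset.sum_congr rfl
  intro i _
  rw [pow_card_eq_star δ p hq h2 hnsq]

theorem rhoU_iso (p : ℕ) [Fact p.Prime] [CharP F p] (hq : Fintype.card F = q)
    (h2 : (2 : F) ≠ 0) (hnsq : ∀ c : F, c * c ≠ δ)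
    (g : ↥(Cfsg.GU d (EE F δ) q)) (u v : Fin d → EE F δ) :
    modelB δ d (rhoU δ d q g u) (rhoU δ d q g v) = modelB δ d u v := by
  rw [modelB_apply, modelB_apply, rhoU_apply, rhoU_apply,
    ← hermForm_eq_hsum δ d p hq h2 hnsq, ← hermForm_eq_hsum δ d p hq h2 hnsq]
  congr 1
  exact g.2 u v

end action

end Cfsg.Agent.Lib.H23.SpU
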