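import Mathlib
import Cfsg.Agent.Lib.H23.SpUD
import Cfsg.Agent.Lib.H23.SpUM
import Cfsg.Agent.Lib.H2.Unitary3

set_option autoImplicit false
set_option linter.unusedSectionVars false

/-!
# `|GU_d(q)|` divides the order of the normalizer of `K` in `Sp_{2d}(q)` (helper23)
-/

namespace Cfsg.Agent.Lib.H23.SpU

open QuadraticAlgebra Module Matrix
open Cfsg.Agent.Lib.H13 Cfsg.Agent.Lib.H13.SpInvolCount

section embed

variable {F : Type*} [Field F] [Fintype F] {d : ℕ} {q : ℕ}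

attribute [local instance] fintypeEE

/-- transport of an endomorphism of the model along `φ`, as a matrix -/
noncomputable def psiU (δ : F) [Fact (∀ r : F, r ^ 2 ≠ δ + 0 * r)]
    (φ : (Fin d → EE F δ) ≃ₗ[F] (Fin d ⊕ Fin d → F)) (q : ℕ) :
    ↥(Cfsg.GU d (EE F δ) q) →* Matrix (Fin d ⊕ Fin d) (Fin d ⊕ Fin d) F where
  toFun g := LinearMap.toMatrix' ((φ : (Fin d → EE F δ) →ₗ[F] (Fin d ⊕ Fin d → F)) ∘ₗ
    rhoU δ d q g ∘ₗ (φ.symm : (Fin d ⊕ Fin d → F) →ₗ[F] (Fin d → EE F δ)))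
  map_one' := by
    rw [map_one]
    apply Matrix.toLin'.injective
    apply LinearMap.ext
    intro v
    simp
  map_mul' g h := by
    rw [map_mul, ← LinearMap.toMatrix'_comp]
    congr 1
    apply LinearMap.ext
    intro v
    simp

theorem psiU_mulVec (δ : F) [Fact (∀ r : F, r ^ 2 ≠ δ + 0 * r)]
    (φ : (Fin d → EE F δ) ≃ₗ[F] (Fin d ⊕ Fin d → F)) (g : ↥(Cfsg.GU d (EE F δ) q))
    (v : Fin d ⊕ Fin d → F) : psiU δ φ q g *ᵥ v = φ (rhoU δ d q g (φ.symm v)) := by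
  show LinearMap.toMatrix' _ *ᵥ v = _
  rw [LinearMap.toMatrix'_mulVec]
  rfl

theorem psiU_injective (δ : F) [Fact (∀ r : F, r ^ 2 ≠ δ + 0 * r)]
    (φ : (Fin d → EE F δ) ≃ₗ[F] (Fin d ⊕ Fin d → F)) : Function.Injective (psiU δ φ q) := by
  intro g h hgh
  apply rhoU_injective δ d
  apply LinearMap.ext
  intro w
  have := congrArg (fun M : Matrix (Fin d ⊕ Fin d) (Fin d ⊕ Fin d) F => M *ᵥ (φ w)) hgh
  simp only [psiU_mulVec, LinearEquiv.symm_apply_apply] at this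
  exact φ.injective this

/-- the order of `GU_d(q)` divides the order of the normalizer of `K` in `Sp` -/
theorem KData.ordGU_dvd {K : Subalgebra F (Matrix (Fin d ⊕ Fin d) (Fin d ⊕ Fin d) F)}
    {α : Matrix (Fin d ⊕ Fin d) (Fin d ⊕ Fin d) F} {δ : F} (h : KData K α δ) (hd : 1 ≤ d)
    (p : ℕ) [Fact p.Prime] [CharP F p] (hq : Fintype.card F = q)
    (hodd : Fintype.card F % 2 = 1) (h2 : (2 : F) ≠ 0) :
    Cfsg.Agent.Lib.H2.Unitary.ordGU q d ∣
      Nat.card ↥(Cfsg.Geo.subalgebraNormalizer K ⊓ Cfsg.spGL d F) := by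
  haveI : Fact (∀ r : F, r ^ 2 ≠ δ + 0 * r) := fact_of_nsq δ h.nsq
  obtain ⟨φ, hφB, hφa⟩ := exists_equiv hodd h2 δ h.delta_ne (modelB δ d) (modelA δ d)
    (ustr_model δ d) (sympB (F := F) d) (Matrix.toLin' α) (ustr_of_matrix α δ h.sq h.skew)
    (finrank_model δ d) finrank_II
  set Φ : ↥(Cfsg.GU d (EE F δ) q) →* GL (Fin d ⊕ Fin d) F := (psiU δ φ q).toHomUnits with hΦ
  have hΦval : ∀ g, ((Φ g : GL (Fin d ⊕ Fin d) F) : Matrix (Fin d ⊕ Fin d) (Fin d ⊕ Fin d) F) =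
      psiU δ φ q g := fun g => rfl
  have hmem : ∀ g, Φ g ∈ Cfsg.Geo.subalgebraNormalizer K ⊓ Cfsg.spGL d F := by
    intro g
    rw [Subgroup.mem_inf]
    constructor
    · rw [h.mem_normalizer_iff hd h2]
      left
      rw [hΦval]
      apply Matrix.toLin'.injective
      apply LinearMap.ext
      intro v
      rw [Matrix.toLin'_apply, Matrix.toLin'_apply, ← Matrix.mulVec_mulVec, ← Matrix.mulVec_mulVec,
        psiU_mulVec, psiU_mulVec]
      have e1 : φ.symm (α *ᵥ v) = modelA δ d (φ.symm v) := by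
        apply φ.injective
        rw [hφa, φ.apply_symm_apply, φ.apply_symm_apply, Matrix.toLin'_apply]
      rw [e1, rhoU_comm, hφa, Matrix.toLin'_apply]
    · rw [mem_spGL_iff, hΦval]
      intro u v
      rw [psiU_mulVec, psiU_mulVec, ← sympB_apply, ← sympB_apply, hφB,
        rhoU_iso δ d p hq h2 h.nsq, ← hφB, φ.apply_symm_apply, φ.apply_symm_apply]
  have hinj : Function.Injective (Φ.codRestrict
      (Cfsg.Geo.subalgebraNormalizer K ⊓ Cfsg.spGL d F) hmem) := by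
    intro g g' hgg
    apply psiU_injective δ φ
    have := congrArg (fun x : ↥(Cfsg.Geo.subalgebraNormalizer K ⊓ Cfsg.spGL d F) =>
      ((x : GL (Fin d ⊕ Fin d) F) : Matrix (Fin d ⊕ Fin d) (Fin d ⊕ Fin d) F)) hgg
    exact this
  have hdvd := Subgroup.card_dvd_of_injective _ hinj
  rwa [Cfsg.Agent.Lib.H2.Unitary.card_GU (F := EE F δ) (q := q)
    (by rw [card_EE, hq]) d] at hdvd

end embed

end Cfsg.Agent.Lib.H23.SpU
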