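import Mathlib
import Cfsg.Agent.Lib.H2.Unitary3

set_option autoImplicit false

/-!
# Arithmetic of the index `|Sp_{2d}(q) : GU_d(q)|` (helper23)
-/

namespace Cfsg.Agent.Lib.H23.SpU

open Cfsg.Agent.Lib.H2.Unitary

/-- the cofactor of `|GU_d(q)|` in `|Sp_{2d}(q)|` -/
def quotU (q d : ℕ) : ℕ :=
  q ^ (d * (d + 1) / 2) * ∏ i ∈ Finset.range d, (if Even i then q ^ (i + 1) - 1 else q ^ (i + 1) + 1)

theorem sq_sub_one' (a : ℕ) (ha : 1 ≤ a) : a ^ 2 - 1 = (a - 1) * (a + 1) := by
  obtain ⟨t, rfl⟩ : ∃ t, a = t + 1 := ⟨a - 1, by omega⟩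
  simp only [Nat.add_sub_cancel]
  have : (t + 1) ^ 2 = t * (t + 1 + 1) + 1 := by ring
  omega

theorem tri_add (d : ℕ) : d * (d - 1) / 2 + d * (d + 1) / 2 = d ^ 2 := by
  have h1 : 2 ∣ d * (d - 1) := by
    rcases Nat.even_or_odd d with h | h
    · exact (Even.mul_right h _).two_dvd
    · rcases d with _ | d
      · simp
      · rw [Nat.add_sub_cancel]
        have : Even d := by
          rcases Nat.even_or_odd d with h' | h'
          · exact h'
          · exact absurd h (by rw [Nat.not_odd_iff_even]; exact Nat.even_add_one.mpr (Nat.not_even_iff_odd.mpr h'))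
        exact (Even.mul_left this _).two_dvd
  have h2 : 2 ∣ d * (d + 1) := (Nat.even_mul_succ_self d).two_dvd
  obtain ⟨a, ha⟩ := h1
  obtain ⟨b, hb⟩ := h2
  rw [ha, hb, Nat.mul_div_cancel_left _ (by norm_num), Nat.mul_div_cancel_left _ (by norm_num)]
  have : d * (d - 1) + d * (d + 1) = 2 * d ^ 2 := by
    rcases d with _ | d
    · simp
    · rw [Nat.add_sub_cancel]; ring
  omega

/-- `|Sp_{2d}(q)| = |GU_d(q)| * quotU q d` -/
theorem card_sp_eq (q d : ℕ) (hq : 1 ≤ q) :
    q ^ (d ^ 2) * ∏ i ∈ Finset.range d, (q ^ (2 * (i + 1)) - 1) = ordGU q d * quotU q d := by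
  unfold ordGU quotU
  have hprod : ∏ i ∈ Finset.range d, (q ^ (2 * (i + 1)) - 1) =
      (∏ i ∈ Finset.range d, (if Even i then q ^ (i + 1) + 1 else q ^ (i + 1) - 1)) *
      ∏ i ∈ Finset.range d, (if Even i then q ^ (i + 1) - 1 else q ^ (i + 1) + 1) := by
    rw [← Finset.prod_mul_distrib]
    apply Finset.prod_congr rfl
    intro i _
    have h1 : q ^ (2 * (i + 1)) - 1 = (q ^ (i + 1) - 1) * (q ^ (i + 1) + 1) := by
      rw [mul_comm 2, pow_mul]
      exact sq_sub_one' _ (Nat.one_le_pow _ _ hq)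
    rw [h1]
    by_cases he : Even i
    · rw [if_pos he, if_pos he, mul_comm]
    · rw [if_neg he, if_neg he]
  rw [hprod, ← tri_add d, pow_add]
  ring

theorem dvd_pow_sub_one_iff'' (r a j : ℕ) (ha : 1 ≤ a) :
    r ∣ a ^ j - 1 ↔ (a : ZMod r) ^ j = 1 := by
  have h1 : 1 ≤ a ^ j := Nat.one_le_pow _ _ ha
  rw [← ZMod.natCast_eq_zero_iff, Nat.cast_sub h1, Nat.cast_pow, Nat.cast_one, sub_eq_zero]

theorem dvd_pow_add_one_iff'' (r a j : ℕ) :
    r ∣ a ^ j + 1 ↔ (a : ZMod r) ^ j = -1 := by
  rw [← ZMod.natCast_eq_zero_iff, Nat.cast_add, Nat.cast_pow, Nat.cast_one,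
    eq_neg_iff_add_eq_zero]

/-- a prime `r ∤ q` dividing the cofactor: the multiplicative order of `q` is odd and at most `d`,
or twice an even number at most `d` -/
theorem order_cases (q d r : ℕ) [Fact r.Prime] (hq : 1 ≤ q) (hr2 : r ≠ 2) (hrq : ¬ r ∣ q)
    (h : r ∣ quotU q d) :
    (Odd (orderOf (q : ZMod r)) ∧ orderOf (q : ZMod r) ≤ d) ∨
      ∃ c' : ℕ, 2 * c' = orderOf (q : ZMod r) ∧ Even c' ∧ c' ≤ d := by
  have hr : r.Prime := Fact.out
  unfold quotU at h
  rcases (Nat.Prime.dvd_mul hr).mp h with h | h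
  · exact absurd (hr.dvd_of_dvd_pow h) hrq
  · rw [Prime.dvd_finsetProd_iff hr.prime] at h
    obtain ⟨i, hi, hdvd⟩ := h
    rw [Finset.mem_range] at hi
    by_cases he : Even i
    · rw [if_pos he] at hdvd
      left
      rw [dvd_pow_sub_one_iff'' r q (i + 1) hq] at hdvd
      have h1 := orderOf_dvd_of_pow_eq_one hdvd
      constructor
      · have hodd : Odd (i + 1) := Even.add_one he
        exact Odd.of_dvd_nat hodd h1
      · exact (Nat.le_of_dvd (Nat.succ_pos i) h1).trans hi
    · rw [if_neg he] at hdvd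
      right
      rw [dvd_pow_add_one_iff''] at hdvd
      set j := i + 1 with hj
      have hjeven : Even j := by
        rw [hj, Nat.even_add_one]; exact he
      have h2j : (q : ZMod r) ^ (2 * j) = 1 := by
        rw [mul_comm, pow_mul, hdvd]; norm_num
      have h1 := orderOf_dvd_of_pow_eq_one h2j
      have hnj : ¬ orderOf (q : ZMod r) ∣ j := by
        intro hd'
        have := orderOf_dvd_iff_pow_eq_one.mp hd'
        rw [hdvd] at this
        -- `-1 = 1` in `ZMod r`, `r` odd
        have h3 : ((2 : ℕ) : ZMod r) = 0 := by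
          have : (1 : ZMod r) + 1 = 0 := by
            nth_rewrite 1 [← this]
            exact neg_add_cancel 1
          rw [Nat.cast_two, ← one_add_one_eq_two]
          exact this
        rw [ZMod.natCast_eq_zero_iff] at h3
        exact hr2 ((Nat.prime_dvd_prime_iff_eq hr Nat.prime_two).mp h3)
      -- the order is even
      have hieven : Even (orderOf (q : ZMod r)) := by
        by_contra hne
        have hodd : Odd (orderOf (q : ZMod r)) := Nat.not_even_iff_odd.mp hne
        have hcop : Nat.Coprime (orderOf (q : ZMod r)) 2 := hodd.coprime_two_right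
        exact hnj (hcop.dvd_of_dvd_mul_left h1)
      obtain ⟨c', hc'⟩ := hieven
      have hc2 : orderOf (q : ZMod r) = 2 * c' := by omega
      refine ⟨c', hc2.symm, ?_, ?_⟩
      · -- `c' ∣ j`, `j / c'` odd, `j` even
        rw [hc2] at h1 hnj
        have hcj : c' ∣ j := Nat.dvd_of_mul_dvd_mul_left (by norm_num) h1
        obtain ⟨t, ht⟩ := hcj
        have htodd : Odd t := by
          by_contra hne
          have hte : Even t := Nat.not_odd_iff_even.mp hne
          obtain ⟨t', ht'⟩ := hte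
          apply hnj
          rw [ht, ht']
          exact ⟨t', by ring⟩
        rw [ht] at hjeven
        rcases Nat.even_mul.mp hjeven with h' | h'
        · exact h'
        · exact absurd htodd (Nat.not_odd_iff_even.mpr h')
      · rw [hc2] at h1
        have hcj : c' ∣ j := Nat.dvd_of_mul_dvd_mul_left (by norm_num) h1
        have : c' ≤ j := Nat.le_of_dvd (by omega) hcj
        omega

end Cfsg.Agent.Lib.H23.SpU
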