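import Mathlib
import Cfsg.Agent.Lib.H23.SpUG
import Cfsg.Agent.Lib.H23.SpUK
import Cfsg.Agent.Lib.H23.SpUN
import Cfsg.Agent.Lib.H23.SpUO
import Cfsg.Agent.Lib.H13.SpQuadIndex

set_option autoImplicit false

/-!
# `PSp_{2d}(q)`, `q` odd, on the cosets of a subgroup of type `GU_d(q)`: the elements of prime order
`r` all fix a point iff `r = 2` (helper23)
-/

namespace Cfsg.Agent.Lib.H23.SpU

open Module Matrix
open Cfsg.Agent.Lib.H13 Cfsg.Agent.Lib.H13.SpInvolCount Cfsg.Agent.Lib.H2.Unitary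

section main

variable {F : Type*} [Field F] [Fintype F] {q : ℕ} {d : ℕ}

theorem two_ne_zero_of_odd (hq : Fintype.card F = q) (hodd : Odd q) : (2 : F) ≠ 0 := by
  intro h
  have : CharP F 2 := CharTwo.of_one_ne_zero_of_two_eq_zero one_ne_zero h
  have h1 := FiniteField.even_card_of_char_two (ringChar.eq F 2)
  rw [hq] at h1
  rcases hodd with ⟨k, hk⟩
  omega

/-- the index of the normalizer divides the cofactor -/
theorem KData.relIndex_dvd {K : Subalgebra F (Matrix (Fin d ⊕ Fin d) (Fin d ⊕ Fin d) F)}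
    {α : Matrix (Fin d ⊕ Fin d) (Fin d ⊕ Fin d) F} {δ : F} (h : KData K α δ) (hd : 1 ≤ d)
    (p : ℕ) [Fact p.Prime] [CharP F p]
    (hq : Fintype.card F = q) (hodd : Odd q) :
    (Cfsg.Geo.subalgebraNormalizer K).relIndex (Cfsg.spGL d F) ∣ quotU q d := by
  have h2 := two_ne_zero_of_odd hq hodd
  have hodd' : Fintype.card F % 2 = 1 := by rw [hq]; exact Nat.odd_iff.mp hodd
  have hq1 : 1 ≤ q := hodd.pos
  obtain ⟨t, ht⟩ := h.ordGU_dvd hd p hq hodd' h2
  have hcard : (Cfsg.Geo.subalgebraNormalizer K).relIndex (Cfsg.spGL d F) *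
      Nat.card ↥(Cfsg.Geo.subalgebraNormalizer K ⊓ Cfsg.spGL d F) =
      Nat.card ↥(Cfsg.spGL d F) := by
    rw [← Subgroup.inf_relIndex_right]
    have hle : Cfsg.Geo.subalgebraNormalizer K ⊓ Cfsg.spGL d F ≤ Cfsg.spGL d F := inf_le_right
    rw [Subgroup.relIndex, ← Nat.card_congr (Subgroup.subgroupOfEquivOfLe hle).toEquiv]
    exact Subgroup.index_mul_card _
  have hpos : 0 < ordGU q d := by
    have h3 : 0 < Nat.card ↥(Cfsg.Geo.subalgebraNormalizer K ⊓ Cfsg.spGL d F) := Nat.card_pos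
    rw [ht] at h3
    exact Nat.pos_of_ne_zero (fun h0 => by rw [h0, zero_mul] at h3; exact lt_irrefl 0 h3)
  rw [ht, Cfsg.Agent.Lib.H13.SpQuadIndex.card_spGL, hq, card_sp_eq q d hq1] at hcard
  refine ⟨t, ?_⟩
  have : ordGU q d * ((Cfsg.Geo.subalgebraNormalizer K).relIndex (Cfsg.spGL d F) * t) =
      ordGU q d * quotU q d := by
    rw [← hcard]; ring
  exact (Nat.eq_of_mul_eq_mul_left hpos this).symm

/-- the main theorem -/
theorem main_iff (p : ℕ) [Fact p.Prime] [CharP F p] (hq : Fintype.card F = q) (hodd : Odd q) (hd : 2 ≤ d)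
    (K : Subalgebra F (Matrix (Fin d ⊕ Fin d) (Fin d ⊕ Fin d) F))
    (hK : Cfsg.Geo.IsFieldSubalgebra 2 K)
    (hKf : Cfsg.Geo.IsAdjointClosedFor (Cfsg.sympForm d F) K)
    (hKns : ¬ Cfsg.Geo.IsSelfAdjointFor (Cfsg.sympForm d F) K)
    (r : ℕ) [Fact r.Prime]
    (hΩ : r ∣ (Cfsg.Geo.subalgebraNormalizer K).relIndex (Cfsg.spGL d F)) :
    (∀ x ∈ Cfsg.spGL d F, (∃ z : F, ((x ^ r : GL (Fin d ⊕ Fin d) F) :
        Matrix (Fin d ⊕ Fin d) (Fin d ⊕ Fin d) F) = z • (1 : Matrix (Fin d ⊕ Fin d) (Fin d ⊕ Fin d) F)) →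
      (∀ z : F, (x : Matrix (Fin d ⊕ Fin d) (Fin d ⊕ Fin d) F) ≠
        z • (1 : Matrix (Fin d ⊕ Fin d) (Fin d ⊕ Fin d) F)) →
      ∃ g ∈ Cfsg.spGL d F, g⁻¹ * x * g ∈ Cfsg.Geo.subalgebraNormalizer K) ↔ r = 2 := by
  classical
  have hr : r.Prime := Fact.out
  have hd1 : 1 ≤ d := by omega
  have h2 := two_ne_zero_of_odd hq hodd
  have hodd' : Fintype.card F % 2 = 1 := by rw [hq]; exact Nat.odd_iff.mp hodd
  have hq1 : 1 ≤ q := hodd.pos
  obtain ⟨α, δ, h⟩ := exists_alpha hd1 h2 K hK hKf hKns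
  constructor
  · intro hall
    by_contra hr2
    have hrodd : Odd r := hr.odd_of_ne_two hr2
    by_cases hrp : r = p
    · -- unipotent elements
      have : CharP F r := by rw [hrp]; infer_instance
      set v : Fin d ⊕ Fin d → F := Pi.single (Sum.inl ⟨0, hd1⟩) 1 with hv
      have hv0 : v ≠ 0 := by
        intro h0
        have := congrFun h0 (Sum.inl ⟨0, hd1⟩)
        simp [hv] at this
      obtain ⟨g, -, hg⟩ := hall (tvGL v) (tvGL_mem v)
        ⟨1, by rw [tvGL_pow v r, one_smul]⟩ (tvGL_not_scalar v hv0)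
      exact h.tv_not_conj hd1 h2 r hrodd v hv0 g hg
    · -- semisimple elements
      have hrq : ¬ r ∣ q := by
        obtain ⟨n, -, hn⟩ := FiniteField.card F p
        rw [← hq, hn]
        intro hdvd
        exact hrp ((Nat.prime_dvd_prime_iff_eq hr Fact.out).mp (hr.dvd_of_dvd_pow hdvd))
      have hdvd : r ∣ quotU q d := hΩ.trans (h.relIndex_dvd hd1 p hq hodd)
      rcases order_cases q d r hq1 hr2 hrq hdvd with ⟨ho, hle⟩ | ⟨c', hc, hce, hcd⟩
      · obtain ⟨x, hx, hxr, hxs, hxn⟩ := h.exists_d1 hd1 h2 hq r hrp hr2 ho hle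
        obtain ⟨g, hg, hgm⟩ := hall x hx ⟨1, by rw [hxr, one_smul]; rfl⟩ hxs
        exact hxn g hg hgm
      · obtain ⟨x, hx, hxr, hxs, hxn⟩ := h.exists_d2 hd1 h2 hq hodd r hrp hr2 c' hc hce hcd
        obtain ⟨g, hg, hgm⟩ := hall x hx ⟨1, by rw [hxr, one_smul]; rfl⟩ hxs
        exact hxn g hg hgm
  · intro hr2 x hx hz _
    obtain ⟨z, hz⟩ := hz
    subst hr2
    exact h.two_suff hd1 hodd' h2 x hx z hz

end main

end Cfsg.Agent.Lib.H23.SpU
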