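import Mathlib

/-!
# Elements of order `s * q` from a subgroup of order `s` normalised by an element of order `q`
(helper23)
-/

set_option autoImplicit false

namespace Cfsg.Agent.Lib.H23.SpecSec

open MulAction

/-- A normal subgroup `A` of prime order `s` and an element `y` of prime order `q ≠ s` with
`q ∤ s - 1` give an element of order `s * q`. -/
theorem exists_orderOf_eq_mul_of_normal {G : Type*} [Group G] [Finite G] (A : Subgroup G)
    [A.Normal] (s q : ℕ) (hs : s.Prime) (hq : q.Prime) (hA : Nat.card A = s) (y : G)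
    (hy : orderOf y = q) (hqs : ¬ q ∣ s - 1) (hne : q ≠ s) : ∃ g : G, orderOf g = s * q := by
  haveI : Fact q.Prime := ⟨hq⟩
  set Y : Subgroup G := Subgroup.zpowers y with hY
  have hYcard : Nat.card Y = q := by rw [hY, Nat.card_zpowers, hy]
  have hYp : IsPGroup q Y := IsPGroup.of_card (n := 1) (by rw [hYcard, pow_one])
  letI : MulAction Y A := MulAction.compHom A ((MulAut.conjNormal (H := A)).comp Y.subtype)
  have hsmul : ∀ (b : Y) (a : A), ((b • a : A) : G) = (b : G) * (a : G) * (b : G)⁻¹ := by
    intro b a
    rfl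
  have hmod := hYp.card_modEq_card_fixedPoints A
  rw [hA] at hmod
  have hex : ∃ a : A, a ∈ fixedPoints Y A ∧ a ≠ 1 := by
    by_contra hno
    push Not at hno
    have hfix : fixedPoints Y A = {1} := by
      ext a
      constructor
      · intro ha
        exact hno a ha
      · intro ha
        rw [Set.mem_singleton_iff] at ha
        subst ha
        intro b
        apply Subtype.ext
        rw [hsmul]
        simp
    have hcard1 : Nat.card (fixedPoints Y A) = 1 := by
      rw [hfix]
      simp
    rw [hcard1] at hmod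
    exact hqs ((Nat.modEq_iff_dvd' hs.one_lt.le).1 hmod.symm)
  obtain ⟨a, hafix, ha1⟩ := hex
  have hcomm : Commute (a : G) y := by
    have h1 := hafix ⟨y, Subgroup.mem_zpowers y⟩
    have h2 := congrArg (fun t : A => (t : G)) h1
    simp only [hsmul] at h2
    have h3 : y * (a : G) = (a : G) * y := by
      calc y * (a : G) = y * (a : G) * y⁻¹ * y := by group
        _ = (a : G) * y := by rw [h2]
    exact h3.symm
  have hoa : orderOf (a : G) = s := by
    have hdvd : orderOf a ∣ s := hA ▸ orderOf_dvd_natCard a
    rw [Subgroup.orderOf_coe]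
    rcases (Nat.dvd_prime hs).1 hdvd with h | h
    · exact absurd (orderOf_eq_one_iff.1 h) ha1
    · exact h
  refine ⟨(a : G) * y, ?_⟩
  rw [hcomm.orderOf_mul_eq_mul_orderOf_of_coprime, hoa, hy]
  rw [hoa, hy]
  exact (Nat.coprime_primes hs hq).2 (Ne.symm hne)

/-- The same for `y` in the normaliser of `A`. -/
theorem exists_orderOf_eq_mul {G : Type*} [Group G] [Finite G] (A : Subgroup G)
    (s q : ℕ) (hs : s.Prime) (hq : q.Prime) (hA : Nat.card A = s) (y : G)
    (hyA : y ∈ Subgroup.normalizer (A : Set G))
    (hy : orderOf y = q) (hqs : ¬ q ∣ s - 1) (hne : q ≠ s) : ∃ g : G, orderOf g = s * q := by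
  set X : Subgroup G := Subgroup.normalizer (A : Set G) with hX
  have hAX : A ≤ X := Subgroup.le_normalizer
  haveI : (A.subgroupOf X).Normal := Subgroup.normal_in_normalizer
  have hcard : Nat.card (A.subgroupOf X) = s := by
    rw [← hA]
    exact Nat.card_congr (Subgroup.subgroupOfEquivOfLe hAX).toEquiv
  obtain ⟨g, hg⟩ := exists_orderOf_eq_mul_of_normal (A.subgroupOf X) s q hs hq hcard
    (⟨y, hyA⟩ : X) (by rw [← Subgroup.orderOf_coe]; exact hy) hqs hne
  exact ⟨(g : G), by rw [Subgroup.orderOf_coe]; exact hg⟩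

end Cfsg.Agent.Lib.H23.SpecSec
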