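import Cfsg.Agent.Lib.H23.SpecSecA
import Cfsg.Agent.Lib.H18.MinNormal

/-!
# Nonabelian simple sections, lattice style (helper23)
-/

set_option autoImplicit false

namespace Cfsg.Agent.Lib.H23.SpecSec

/-- `N < H` and `H/N` is nonabelian simple, in lattice form (no quotient types). -/
def SimpSec {G : Type*} [Group G] (N H : Subgroup G) : Prop :=
  N ≤ H ∧ N ≠ H ∧
  (∀ K : Subgroup G, N ≤ K → K ≤ H → (∀ h ∈ H, ∀ k ∈ K, h * k * h⁻¹ ∈ K) → K = N ∨ K = H) ∧
  ∃ a ∈ H, ∃ b ∈ H, a * b * a⁻¹ * b⁻¹ ∉ N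

theorem SimpSec.comap {G Q : Type*} [Group G] [Group Q] (f : G →* Q)
    (hf : Function.Surjective f) {N H : Subgroup Q} (h : SimpSec N H) :
    SimpSec (N.comap f) (H.comap f) := by
  obtain ⟨hle, hne, hK, a, ha, b, hb, hab⟩ := h
  refine ⟨Subgroup.comap_mono hle, ?_, ?_, ?_⟩
  · intro heq
    apply hne
    have := congrArg (Subgroup.map f) heq
    rwa [Subgroup.map_comap_eq_self_of_surjective hf, Subgroup.map_comap_eq_self_of_surjective hf]
      at this
  · intro K hNK hKH hnorm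
    have hker : f.ker ≤ K := fun x hx => hNK (by
      rw [Subgroup.mem_comap, (MonoidHom.mem_ker).1 hx]; exact N.one_mem)
    have h1 : N ≤ K.map f := by
      have := Subgroup.map_mono (f := f) hNK
      rwa [Subgroup.map_comap_eq_self_of_surjective hf] at this
    have h2 : K.map f ≤ H := by
      have := Subgroup.map_mono (f := f) hKH
      rwa [Subgroup.map_comap_eq_self_of_surjective hf] at this
    have h3 : ∀ h ∈ H, ∀ k ∈ K.map f, h * k * h⁻¹ ∈ K.map f := by
      intro h hh k hk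
      obtain ⟨k₀, hk₀, rfl⟩ := hk
      obtain ⟨h₀, rfl⟩ := hf h
      exact ⟨h₀ * k₀ * h₀⁻¹, hnorm h₀ hh k₀ hk₀, by simp⟩
    rcases hK _ h1 h2 h3 with h4 | h4
    · left
      rw [← h4, Subgroup.comap_map_eq_self hker]
    · right
      rw [← h4, Subgroup.comap_map_eq_self hker]
  · obtain ⟨a₀, rfl⟩ := hf a
    obtain ⟨b₀, rfl⟩ := hf b
    refine ⟨a₀, ha, b₀, hb, ?_⟩
    intro hmem
    apply hab
    have : f (a₀ * b₀ * a₀⁻¹ * b₀⁻¹) ∈ N := hmem
    simpa using this

theorem SimpSec.isSimpleGroup {G : Type*} [Group G] {N H : Subgroup G} [N.Normal]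
    (h : SimpSec N H) :
    IsSimpleGroup (↥H ⧸ N.subgroupOf H) ∧ ¬ IsMulCommutative (↥H ⧸ N.subgroupOf H) := by
  obtain ⟨hle, hne, hK, a, ha, b, hb, hab⟩ := h
  have hsurj : Function.Surjective (QuotientGroup.mk' (N.subgroupOf H)) :=
    QuotientGroup.mk'_surjective _
  refine ⟨?_, ?_⟩
  · haveI : Nontrivial (↥H ⧸ N.subgroupOf H) := by
      by_contra hnt
      rw [not_nontrivial_iff_subsingleton] at hnt
      have htop : N.subgroupOf H = ⊤ := QuotientGroup.subgroup_eq_top_of_subsingleton _ hnt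
      rw [Subgroup.subgroupOf_eq_top] at htop
      exact hne (le_antisymm hle htop)
    refine ⟨?_⟩
    intro Mbar hMbar
    set M : Subgroup ↥H := Mbar.comap (QuotientGroup.mk' (N.subgroupOf H)) with hM
    haveI : M.Normal := hMbar.comap _
    have hNM : N.subgroupOf H ≤ M := by
      intro x hx
      rw [hM, Subgroup.mem_comap]
      have : QuotientGroup.mk' (N.subgroupOf H) x = 1 := by
        rw [QuotientGroup.mk'_apply, QuotientGroup.eq_one_iff]; exact hx
      rw [this]; exact Mbar.one_mem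
    have hMbar_eq : Mbar = M.map (QuotientGroup.mk' (N.subgroupOf H)) := by
      rw [hM, Subgroup.map_comap_eq_self_of_surjective hsurj]
    have h1 : N ≤ M.map H.subtype := by
      intro x hx
      exact ⟨⟨x, hle hx⟩, hNM (by rw [Subgroup.mem_subgroupOf]; exact hx), rfl⟩
    have h2 : M.map H.subtype ≤ H := Subgroup.map_subtype_le M
    have h3 : ∀ h ∈ H, ∀ k ∈ M.map H.subtype, h * k * h⁻¹ ∈ M.map H.subtype := by
      intro h hh k hk
      obtain ⟨m, hm, rfl⟩ := hk
      exact ⟨(⟨h, hh⟩ : H) * m * (⟨h, hh⟩ : H)⁻¹, ‹M.Normal›.conj_mem m hm _, by simp⟩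
    rcases hK _ h1 h2 h3 with h4 | h4
    · left
      have hMN : M = N.subgroupOf H := by
        apply le_antisymm _ hNM
        intro x hx
        rw [Subgroup.mem_subgroupOf, ← h4]
        exact ⟨x, hx, rfl⟩
      rw [hMbar_eq, hMN]
      rw [eq_bot_iff]
      rintro _ ⟨x, hx, rfl⟩
      rw [Subgroup.mem_bot, QuotientGroup.mk'_apply, QuotientGroup.eq_one_iff]
      exact hx
    · right
      have hMtop : M = ⊤ := by
        rw [eq_top_iff]
        intro x _
        have hx : (x : G) ∈ M.map H.subtype := by rw [h4]; exact x.2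
        obtain ⟨m, hm, hmx⟩ := hx
        have : m = x := Subtype.ext hmx
        rwa [← this]
      rw [hMbar_eq, hMtop, ← MonoidHom.range_eq_map, MonoidHom.range_eq_top]
      exact hsurj
  · intro hcomm
    apply hab
    have h1 := hcomm.is_comm.comm (QuotientGroup.mk' (N.subgroupOf H) ⟨a, ha⟩)
      (QuotientGroup.mk' (N.subgroupOf H) ⟨b, hb⟩)
    have h2 : QuotientGroup.mk' (N.subgroupOf H)
        ((⟨a, ha⟩ : H) * ⟨b, hb⟩ * (⟨a, ha⟩ : H)⁻¹ * (⟨b, hb⟩ : H)⁻¹) = 1 := by
      rw [map_mul, map_mul, map_mul, map_inv, map_inv, h1]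
      group
    rw [QuotientGroup.mk'_apply, QuotientGroup.eq_one_iff, Subgroup.mem_subgroupOf] at h2
    simpa using h2

theorem SimpSec.card_quotient {G : Type*} [Group G] {N H : Subgroup G} [N.Normal] :
    Nat.card (↥H ⧸ N.subgroupOf H) = N.relIndex H := by
  rw [Subgroup.relIndex, Subgroup.index_eq_card]

end Cfsg.Agent.Lib.H23.SpecSec
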