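import Cfsg.Agent.Lib.H23.SpecSecB

/-!
# A nonabelian simple section from an independent set of primes (helper23)

Let `S` be a set of at least two primes such that every `p ∈ S` divides `|G|` exactly once,
`G` has no element of order `p * q` for distinct `p, q ∈ S`, and `p ∤ q - 1` for distinct
`p, q ∈ S`.  Then `G` has normal subgroups `N < H` with `H / N` nonabelian simple of order
divisible by every member of `S`.
-/

set_option autoImplicit false

universe u

namespace Cfsg.Agent.Lib.H23.SpecSec

open Cfsg.Agent.Lib.H18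

theorem exists_orderOf_quotient {G : Type*} [Group G] [Finite G] (L : Subgroup G) [L.Normal]
    (m : ℕ) (hm : 0 < m) (x : G ⧸ L) (hx : orderOf x = m) : ∃ g : G, orderOf g = m := by
  obtain ⟨g, rfl⟩ := QuotientGroup.mk'_surjective L x
  have hdvd : m ∣ orderOf g := hx ▸ orderOf_map_dvd (QuotientGroup.mk' L) g
  obtain ⟨c, hc⟩ := hdvd
  have hpos : 0 < orderOf g := orderOf_pos g
  have hc0 : c ≠ 0 := by
    rintro rfl
    rw [mul_zero] at hc
    omega
  refine ⟨g ^ c, ?_⟩
  rw [orderOf_pow_of_dvd hc0 ⟨m, by rw [hc, mul_comm]⟩, hc]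
  exact Nat.mul_div_cancel _ (Nat.pos_of_ne_zero hc0)

theorem exists_simpSec (S : Set ℕ) (hS : ∀ p ∈ S, p.Prime) (hS2 : ∃ p ∈ S, ∃ q ∈ S, p ≠ q)
    (hSm : ∀ p ∈ S, ∀ q ∈ S, p ≠ q → ¬ p ∣ q - 1) :
    ∀ (k : ℕ) (G : Type u) [Group G] [Finite G], Nat.card G = k →
      (∀ p ∈ S, p ∣ Nat.card G ∧ ¬ p ^ 2 ∣ Nat.card G) →
      (∀ p ∈ S, ∀ q ∈ S, p ≠ q → ∀ g : G, orderOf g ≠ p * q) →
      ∃ N H : Subgroup G, N.Normal ∧ H.Normal ∧ SimpSec N H ∧ ∀ p ∈ S, p ∣ N.relIndex H := by
  intro k
  induction k using Nat.strong_induction_on with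
  | _ k ih =>
  intro G _ _ hk hdiv hord
  obtain ⟨p₁, hp₁, p₂, hp₂, hp₁₂⟩ := hS2
  have hother : ∀ s ∈ S, ∃ q ∈ S, q ≠ s := by
    intro s _
    by_cases h : p₁ = s
    · exact ⟨p₂, hp₂, fun h2 => hp₁₂ (h.trans h2.symm)⟩
    · exact ⟨p₁, hp₁, h⟩
  haveI : Nontrivial G := by
    rw [← Finite.one_lt_card_iff_nontrivial]
    have h1 := (hdiv p₁ hp₁).1
    have h2 := (hS p₁ hp₁).two_le
    have h3 := Nat.le_of_dvd Nat.card_pos h1
    omega
  obtain ⟨L, hLn, hLne, hLmin⟩ := exists_minimal_normal (N := G)
  haveI := hLn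
  by_cases hcase : ∃ s ∈ S, s ∣ Nat.card L
  · -- Case A
    obtain ⟨s, hsS, hsL⟩ := hcase
    have hsp := hS s hsS
    haveI : Nontrivial L := (Subgroup.nontrivial_iff_ne_bot L).2 hLne
    let φ : G →* MulAut L := MulAut.conjNormal
    have hmin : ∀ M : Subgroup L, (∀ a, M.map (φ a).toMonoidHom ≤ M) → M = ⊥ ∨ M = ⊤ := by
      intro M hM
      have hKn : (M.map L.subtype).Normal := by
        refine ⟨fun k hk g => ?_⟩
        obtain ⟨m, hm, rfl⟩ := hk
        refine ⟨φ g m, hM g ⟨m, hm, rfl⟩, ?_⟩
        simp [φ]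
      rcases hLmin _ hKn (Subgroup.map_subtype_le M) with h | h
      · left
        exact (Subgroup.map_eq_bot_iff_of_injective M L.subtype_injective).1 h
      · right
        rw [eq_top_iff]
        intro x _
        have hx : (x : G) ∈ M.map L.subtype := by rw [h]; exact x.2
        obtain ⟨m, hm, hmx⟩ := hx
        have : m = x := Subtype.ext hmx
        rwa [← this]
    obtain ⟨T, m, hT, hm, ⟨e⟩⟩ := exists_simple_pow φ hmin
    have hcardL : Nat.card L = Nat.card T ^ m := by
      rw [Nat.card_congr e.toEquiv, Nat.card_fun, Nat.card_fin]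
    have hsT : s ∣ Nat.card T := hsp.dvd_of_dvd_pow (hcardL ▸ hsL)
    have hLG : Nat.card L ∣ Nat.card G := Subgroup.card_subgroup_dvd_card L
    have hm1 : m = 1 := by
      by_contra hne
      have h2 : 2 ≤ m := by omega
      apply (hdiv s hsS).2
      calc s ^ 2 ∣ s ^ m := pow_dvd_pow s h2
        _ ∣ Nat.card T ^ m := pow_dvd_pow_of_dvd hsT m
        _ = Nat.card L := hcardL.symm
        _ ∣ Nat.card G := hLG
    subst hm1
    haveI : IsSimpleGroup L := (e.trans (MulEquiv.funUnique (Fin 1) T)).isSimpleGroup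
    have hs2L : ¬ s ^ 2 ∣ Nat.card L := fun h => (hdiv s hsS).2 (h.trans hLG)
    by_cases hcomm : ∀ a b : L, a * b = b * a
    · -- A1 : `L` abelian, impossible
      exfalso
      letI : CommGroup L := { (inferInstance : Group L) with mul_comm := hcomm }
      have hprime : (Nat.card L).Prime := IsSimpleGroup.prime_card
      have hLs : Nat.card L = s := ((Nat.prime_dvd_prime_iff_eq hsp hprime).1 hsL).symm
      obtain ⟨q, hqS, hqs⟩ := hother s hsS
      have hqp := hS q hqS
      haveI : Fact q.Prime := ⟨hqp⟩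
      obtain ⟨y, hy⟩ := exists_prime_orderOf_dvd_card' q (hdiv q hqS).1
      obtain ⟨g, hg⟩ := exists_orderOf_eq_mul_of_normal L s q hsp hqp hLs y hy
        (hSm q hqS s hsS hqs) hqs
      exact hord s hsS q hqS hqs.symm g hg
    · -- A2 : `L` nonabelian simple
      push Not at hcomm
      obtain ⟨a, b, hab⟩ := hcomm
      have hall : ∀ p ∈ S, p ∣ Nat.card L := by
        intro p hpS
        by_contra hpL
        have hps : p ≠ s := fun h => hpL (h ▸ hsL)
        have hpp := hS p hpS
        haveI : Fact s.Prime := ⟨hsp⟩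
        haveI : Fact p.Prime := ⟨hpp⟩
        obtain ⟨P⟩ : Nonempty (Sylow s L) := inferInstance
        set A : Subgroup G := (P : Subgroup L).map L.subtype with hA
        have hfact : (Nat.card L).factorization s = 1 := by
          have h1 : 1 ≤ (Nat.card L).factorization s :=
            (hsp.dvd_iff_one_le_factorization Nat.card_pos.ne').1 hsL
          have h2 : ¬ 2 ≤ (Nat.card L).factorization s := by
            intro h
            exact hs2L ((hsp.pow_dvd_iff_le_factorization Nat.card_pos.ne').2 h)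
          omega
        have hAcard : Nat.card A = s := by
          rw [hA, Subgroup.card_map_of_injective L.subtype_injective, P.card_eq_multiplicity,
            hfact, pow_one]
        have hfrat : Subgroup.normalizer (A : Set G) ⊔ L = ⊤ := Sylow.normalizer_sup_eq_top P
        set X : Subgroup G := Subgroup.normalizer (A : Set G) with hX
        have hidx : L.index = L.relIndex X := by
          rw [← Subgroup.relIndex_top_right, ← hfrat, Subgroup.relIndex_sup_right]
        have hpX : p ∣ Nat.card X := by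
          have h1 : p ∣ Nat.card L * L.index := by
            rw [Subgroup.card_mul_index]; exact (hdiv p hpS).1
          rcases (Nat.Prime.dvd_mul hpp).1 h1 with h | h
          · exact absurd h hpL
          · exact (hidx ▸ h).trans (Subgroup.relIndex_dvd_card L X)
        obtain ⟨x, hx⟩ := exists_prime_orderOf_dvd_card' p hpX
        obtain ⟨g, hg⟩ := exists_orderOf_eq_mul A s p hsp hpp hAcard (x : G) x.2
          (by rw [Subgroup.orderOf_coe]; exact hx) (hSm p hpS s hsS hps) hps
        exact hord s hsS p hpS hps.symm g hg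
      refine ⟨⊥, L, inferInstance, hLn, ⟨bot_le, hLne.symm, ?_, ?_⟩, ?_⟩
      · intro K _ hKL hnorm
        have hKn : (K.subgroupOf L).Normal := by
          refine ⟨fun k hk g => ?_⟩
          rw [Subgroup.mem_subgroupOf] at hk ⊢
          simpa using hnorm g g.2 k hk
        rcases hKn.eq_bot_or_eq_top with h | h
        · left
          rw [Subgroup.subgroupOf_eq_bot] at h
          exact (disjoint_of_le_iff_left_eq_bot hKL).1 h
        · right
          rw [Subgroup.subgroupOf_eq_top] at h
          exact le_antisymm hKL h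
      · refine ⟨a, a.2, b, b.2, ?_⟩
        intro hmem
        rw [Subgroup.mem_bot] at hmem
        apply hab
        have h1 : a * b * a⁻¹ * b⁻¹ = 1 := Subtype.ext (by simpa using hmem)
        calc a * b = a * b * a⁻¹ * b⁻¹ * b * a := by group
          _ = b * a := by rw [h1, one_mul]
      · intro p hpS
        rw [Subgroup.relIndex_bot_left]
        exact hall p hpS
  · -- Case B
    push Not at hcase
    have hLcard : 1 < Nat.card L := by
      rw [Finite.one_lt_card_iff_nontrivial]
      exact (Subgroup.nontrivial_iff_ne_bot L).2 hLne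
    have hmul : Nat.card G = Nat.card (G ⧸ L) * Nat.card L :=
      Subgroup.card_eq_card_quotient_mul_card_subgroup L
    have hQpos : 0 < Nat.card (G ⧸ L) := Nat.card_pos
    have hlt : Nat.card (G ⧸ L) < k := by
      rw [← hk, hmul]
      nlinarith
    have hdivQ : ∀ p ∈ S, p ∣ Nat.card (G ⧸ L) ∧ ¬ p ^ 2 ∣ Nat.card (G ⧸ L) := by
      intro p hpS
      refine ⟨?_, fun h => (hdiv p hpS).2 (h.trans ⟨Nat.card L, hmul⟩)⟩
      have h1 := (hdiv p hpS).1
      rw [hmul] at h1
      rcases (Nat.Prime.dvd_mul (hS p hpS)).1 h1 with h | h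
      · exact h
      · exact absurd h (hcase p hpS)
    have hordQ : ∀ p ∈ S, ∀ q ∈ S, p ≠ q → ∀ g : G ⧸ L, orderOf g ≠ p * q := by
      intro p hpS q hqS hpq x hx
      obtain ⟨g, hg⟩ := exists_orderOf_quotient L (p * q)
        (Nat.mul_pos (hS p hpS).pos (hS q hqS).pos) x hx
      exact hord p hpS q hqS hpq g hg
    obtain ⟨Nb, Hb, hNbn, hHbn, hsec, hdvd⟩ := ih _ hlt (G ⧸ L) rfl hdivQ hordQ
    refine ⟨Nb.comap (QuotientGroup.mk' L), Hb.comap (QuotientGroup.mk' L), hNbn.comap _,
      hHbn.comap _, hsec.comap _ (QuotientGroup.mk'_surjective L), ?_⟩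
    intro p hpS
    rw [Subgroup.relIndex_comap,
      Subgroup.map_comap_eq_self_of_surjective (QuotientGroup.mk'_surjective L)]
    exact hdvd p hpS

end Cfsg.Agent.Lib.H23.SpecSec
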