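import Cfsg.Agent.Lib.H23.TwoPrimesB

/-!
# Two primes in `(n, 2n]` for `n ≥ 6`, and in `(n/2, n]` for `n ≥ 11` (helper23)
-/

set_option autoImplicit false

namespace Cfsg.Agent.Lib.H23.TwoPrimes

theorem aux_chain (n a b c : ℕ) (hb : b.Prime) (hc : c.Prime) (hbc : b < c) (hc2 : c < 2 * a)
    (h1 : a ≤ n) (h2 : n < b) :
    ∃ p q : ℕ, p.Prime ∧ q.Prime ∧ p ≠ q ∧ n < p ∧ p ≤ 2 * n ∧ n < q ∧ q ≤ 2 * n :=
  ⟨b, c, hb, hc, by omega, h2, by omega, by omega, by omega⟩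

/-- For `n ≥ 6` the interval `(n, 2n]` contains two distinct primes. -/
theorem exists_two_primes (n : ℕ) (hn : 6 ≤ n) :
    ∃ p q : ℕ, p.Prime ∧ q.Prime ∧ p ≠ q ∧ n < p ∧ p ≤ 2 * n ∧ n < q ∧ q ≤ 2 * n := by
  rcases Nat.lt_or_ge n 512 with h | h
  · have hcases : n = 6 ∨ (7 ≤ n ∧ n < 11) ∨ (11 ≤ n ∧ n < 13) ∨ (13 ≤ n ∧ n < 19) ∨
        (19 ≤ n ∧ n < 23) ∨ (23 ≤ n ∧ n < 37) ∨ (37 ≤ n ∧ n < 43) ∨ (43 ≤ n ∧ n < 73) ∨
        (73 ≤ n ∧ n < 83) ∨ (83 ≤ n ∧ n < 139) ∨ (139 ≤ n ∧ n < 163) ∨ (163 ≤ n ∧ n < 277) ∨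
        (277 ≤ n ∧ n < 317) ∨ (317 ≤ n ∧ n < 547) := by omega
    rcases hcases with rfl | ⟨h1, h2⟩ | ⟨h1, h2⟩ | ⟨h1, h2⟩ | ⟨h1, h2⟩ | ⟨h1, h2⟩ | ⟨h1, h2⟩ |
      ⟨h1, h2⟩ | ⟨h1, h2⟩ | ⟨h1, h2⟩ | ⟨h1, h2⟩ | ⟨h1, h2⟩ | ⟨h1, h2⟩ | ⟨h1, h2⟩
    · exact ⟨7, 11, by norm_num, by norm_num, by norm_num, by norm_num, by norm_num, by norm_num,
        by norm_num⟩
    · exact aux_chain n 7 11 13 (by norm_num) (by norm_num) (by norm_num) (by norm_num) h1 h2
    · exact aux_chain n 11 13 19 (by norm_num) (by norm_num) (by norm_num) (by norm_num) h1 h2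
    · exact aux_chain n 13 19 23 (by norm_num) (by norm_num) (by norm_num) (by norm_num) h1 h2
    · exact aux_chain n 19 23 37 (by norm_num) (by norm_num) (by norm_num) (by norm_num) h1 h2
    · exact aux_chain n 23 37 43 (by norm_num) (by norm_num) (by norm_num) (by norm_num) h1 h2
    · exact aux_chain n 37 43 73 (by norm_num) (by norm_num) (by norm_num) (by norm_num) h1 h2
    · exact aux_chain n 43 73 83 (by norm_num) (by norm_num) (by norm_num) (by norm_num) h1 h2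
    · exact aux_chain n 73 83 139 (by norm_num) (by norm_num) (by norm_num) (by norm_num) h1 h2
    · exact aux_chain n 83 139 163 (by norm_num) (by norm_num) (by norm_num) (by norm_num) h1 h2
    · exact aux_chain n 139 163 277 (by norm_num) (by norm_num) (by norm_num) (by norm_num) h1 h2
    · exact aux_chain n 163 277 317 (by norm_num) (by norm_num) (by norm_num) (by norm_num) h1 h2
    · exact aux_chain n 277 317 547 (by norm_num) (by norm_num) (by norm_num) (by norm_num) h1 h2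
    · exact aux_chain n 317 547 631 (by norm_num) (by norm_num) (by norm_num) (by norm_num) h1 h2
  · exact exists_two_primes_eventually n h

/-- For `n ≥ 11` the interval `(n/2, n]` contains two distinct primes. -/
theorem exists_two_primes_half (n : ℕ) (hn : 11 ≤ n) :
    ∃ p q : ℕ, p.Prime ∧ q.Prime ∧ p ≠ q ∧ n < 2 * p ∧ p ≤ n ∧ n < 2 * q ∧ q ≤ n := by
  rcases Nat.even_or_odd' n with ⟨m, rfl | rfl⟩
  · obtain ⟨p, q, hp, hq, hpq, h1, h2, h3, h4⟩ := exists_two_primes m (by omega)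
    exact ⟨p, q, hp, hq, hpq, by omega, h2, by omega, h4⟩
  · obtain ⟨p, q, hp, hq, hpq, h1, h2, h3, h4⟩ := exists_two_primes (m + 1) (by omega)
    have hodd : ∀ r : ℕ, r.Prime → m + 1 < r → r ≤ 2 * (m + 1) → r ≤ 2 * m + 1 := by
      intro r hr hr1 hr2
      rcases Nat.lt_or_ge r (2 * (m + 1)) with h | h
      · omega
      · have hr' : r = 2 * (m + 1) := le_antisymm hr2 h
        have h2r : 2 ∣ r := ⟨m + 1, hr'⟩
        have := (Nat.prime_dvd_prime_iff_eq Nat.prime_two hr).1 h2r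
        omega
    exact ⟨p, q, hp, hq, hpq, by omega, hodd p hp h1 h2, by omega, hodd q hq h3 h4⟩

end Cfsg.Agent.Lib.H23.TwoPrimes
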