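import Cfsg.Agent.Lib.H23.SpecSecC
import Cfsg.Agent.Lib.H23.TwoPrimesC

/-!
# Large primes and the alternating groups (helper23)
-/

set_option autoImplicit false

namespace Cfsg.Agent.Lib.H23.SpecSec

open Equiv

theorem exists_mem_dvd_of_prime_dvd_lcm {p : ℕ} (hp : p.Prime) (s : Multiset ℕ)
    (h : p ∣ s.lcm) : ∃ c ∈ s, p ∣ c := by
  induction s using Multiset.induction with
  | empty =>
    rw [Multiset.lcm_zero] at h
    exact absurd (Nat.dvd_one.1 h) hp.one_lt.ne'
  | cons a s ih =>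
    rw [Multiset.lcm_cons] at h
    have h2 : p ∣ a * s.lcm := h.trans (Nat.lcm_dvd_mul a s.lcm)
    rcases (Nat.Prime.dvd_mul hp).1 h2 with h3 | h3
    · exact ⟨a, Multiset.mem_cons_self a s, h3⟩
    · obtain ⟨c, hc, hpc⟩ := ih h3
      exact ⟨c, Multiset.mem_cons_of_mem hc, hpc⟩

/-- A permutation of `n` points has no element of order `p * q` when `p + q > n`. -/
theorem orderOf_perm_ne_mul {n p q : ℕ} (hp : p.Prime) (hq : q.Prime) (hpq : p ≠ q)
    (hn : n < p + q) (σ : Perm (Fin n)) : orderOf σ ≠ p * q := by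
  intro hσ
  have hsum : σ.cycleType.sum ≤ n := by
    have := σ.sum_cycleType_le
    simpa using this
  have hlcm : σ.cycleType.lcm = p * q := by rw [Perm.lcm_cycleType, hσ]
  obtain ⟨c, hc, hpc⟩ := exists_mem_dvd_of_prime_dvd_lcm hp σ.cycleType (hlcm ▸ dvd_mul_right p q)
  obtain ⟨c', hc', hqc'⟩ := exists_mem_dvd_of_prime_dvd_lcm hq σ.cycleType (hlcm ▸ dvd_mul_left q p)
  have hcpos : 0 < c := by
    have := Perm.two_le_of_mem_cycleType hc
    omega
  have hc'pos : 0 < c' := by
    have := Perm.two_le_of_mem_cycleType hc'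
    omega
  by_cases hcc : c = c'
  · subst hcc
    have hpqc : p * q ∣ c :=
      (Nat.coprime_primes hp hq).2 hpq |>.mul_dvd_of_dvd_of_dvd hpc hqc'
    have h1 : p * q ≤ c := Nat.le_of_dvd hcpos hpqc
    have h2 : c ≤ σ.cycleType.sum := Multiset.single_le_sum (fun _ _ => Nat.zero_le _) c hc
    have h3 : p + q ≤ p * q := by
      have := hp.two_le
      have := hq.two_le
      nlinarith
    omega
  · have h1 : p ≤ c := Nat.le_of_dvd hcpos hpc
    have h2 : q ≤ c' := Nat.le_of_dvd hc'pos hqc'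
    have h3 : c + c' ≤ σ.cycleType.sum := by
      rw [← Multiset.cons_erase hc, Multiset.sum_cons]
      have hmem : c' ∈ σ.cycleType.erase c := (Multiset.mem_erase_of_ne (Ne.symm hcc)).2 hc'
      have := Multiset.single_le_sum (fun _ _ => Nat.zero_le _) c' hmem
      omega
    omega

/-- The `p`-part of `n!/2` for a prime `n/2 < p ≤ n`, `p` odd. -/
theorem prime_dvd_factorial_half {n p : ℕ} (hp : p.Prime) (hp2 : p ≠ 2) (h1 : n < 2 * p)
    (h2 : p ≤ n) : p ∣ n.factorial / 2 ∧ ¬ p ^ 2 ∣ n.factorial / 2 := by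
  have h2n : 2 ∣ n.factorial := Nat.dvd_factorial (by norm_num) (by have := hp.two_le; omega)
  have hpn : p ∣ n.factorial := (hp.dvd_factorial).2 h2
  obtain ⟨m, hm⟩ := h2n
  have hdiv : n.factorial / 2 = m := by rw [hm]; exact Nat.mul_div_cancel_left m (by norm_num)
  rw [hdiv]
  constructor
  · have : p ∣ 2 * m := hm ▸ hpn
    rcases (Nat.Prime.dvd_mul hp).1 this with h | h
    · exact absurd ((Nat.prime_dvd_prime_iff_eq hp Nat.prime_two).1 h) hp2
    · exact h
  · intro h
    have h3 : p ^ 2 ∣ n.factorial := hm ▸ (h.trans (dvd_mul_left m 2))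
    have hlog : Nat.log p n < 2 := by
      apply Nat.log_lt_of_lt_pow (by omega)
      have := hp.two_le
      nlinarith
    rw [hp.pow_dvd_factorial_iff hlog] at h3
    have h4 : n / p = 1 := by
      apply Nat.div_eq_of_lt_le
      · omega
      · omega
    simp [h4] at h3

end Cfsg.Agent.Lib.H23.SpecSec
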