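import Cfsg.Agent.Lib.H23.SpecSecD

/-!
# Groups with the order and spectrum of an alternating group (helper23)
-/

set_option autoImplicit false

universe u

namespace Cfsg.Agent.Lib.H23.SpecSec

/-- Two primes in `(n/2, n]` give a nonabelian simple section in a group with the order and
spectrum of `A_n`. -/
theorem alt_simpSec {G : Type u} [Group G] [Finite G] (n : ℕ) (hn : 5 ≤ n)
    (hcard : Nat.card G = Nat.card ↥(alternatingGroup (Fin n)))
    (hspec : Set.range (orderOf : G → ℕ) =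
      Set.range (orderOf : ↥(alternatingGroup (Fin n)) → ℕ))
    (htwo : ∃ p q : ℕ, p.Prime ∧ q.Prime ∧ p ≠ q ∧ n < 2 * p ∧ p ≤ n ∧ n < 2 * q ∧ q ≤ n) :
    ∃ N H : Subgroup G, N.Normal ∧ H.Normal ∧ SimpSec N H ∧
      ∀ p : ℕ, p.Prime → n < 2 * p → p ≤ n → p ∣ N.relIndex H := by
  haveI : Nontrivial (Fin n) := Fin.nontrivial_iff_two_le.2 (by omega)
  have hcardG : Nat.card G = n.factorial / 2 := by
    rw [hcard, nat_card_alternatingGroup, Nat.card_fin]
  set S : Set ℕ := {p | p.Prime ∧ n < 2 * p ∧ p ≤ n} with hS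
  obtain ⟨p₀, q₀, hp₀, hq₀, hpq₀, h1, h2, h3, h4⟩ := htwo
  have hSm : ∀ p ∈ S, ∀ q ∈ S, p ≠ q → ¬ p ∣ q - 1 := by
    rintro p ⟨hp, hp1, hp2⟩ q ⟨hq, hq1, hq2⟩ hpq hdvd
    obtain ⟨c, hc⟩ := hdvd
    have hq2' := hq.two_le
    have hc1 : c = 1 := by
      rcases Nat.lt_or_ge c 2 with h | h
      · rcases Nat.lt_or_ge c 1 with h' | h'
        · have : c = 0 := by omega
          subst this
          omega
        · omega
      · exfalso
        have : 2 * p ≤ p * c := by nlinarith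
        omega
    subst hc1
    have hqp : q = p + 1 := by omega
    rcases hp.eq_two_or_odd' with h | h
    · omega
    · rcases hq.eq_two_or_odd' with h' | h'
      · omega
      · obtain ⟨a, ha⟩ := h
        obtain ⟨b, hb⟩ := h'
        omega
  have hdiv : ∀ p ∈ S, p ∣ Nat.card G ∧ ¬ p ^ 2 ∣ Nat.card G := by
    rintro p ⟨hp, hp1, hp2⟩
    rw [hcardG]
    exact prime_dvd_factorial_half hp (by omega) hp1 hp2
  have hord : ∀ p ∈ S, ∀ q ∈ S, p ≠ q → ∀ g : G, orderOf g ≠ p * q := by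
    rintro p ⟨hp, hp1, hp2⟩ q ⟨hq, hq1, hq2⟩ hpq g hg
    have hmem : p * q ∈ Set.range (orderOf : G → ℕ) := ⟨g, hg⟩
    rw [hspec] at hmem
    obtain ⟨σ, hσ⟩ := hmem
    rw [← Subgroup.orderOf_coe] at hσ
    exact orderOf_perm_ne_mul hp hq hpq (by omega) _ hσ
  obtain ⟨N, H, hN, hH, hsec, hdvd⟩ := exists_simpSec S (fun p hp => hp.1)
    ⟨p₀, ⟨hp₀, h1, h2⟩, q₀, ⟨hq₀, h3, h4⟩, hpq₀⟩ hSm (Nat.card G) G rfl hdiv hord
  exact ⟨N, H, hN, hH, hsec, fun p hp hp1 hp2 => hdvd p ⟨hp, hp1, hp2⟩⟩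

/-- A group with a nonabelian simple section is not solvable. -/
theorem not_isSolvable_of_simpSec {G : Type*} [Group G] {N H : Subgroup G} (hN : N.Normal)
    (h : SimpSec N H) : ¬ Group.IsSolvable G := by
  intro hsolv
  haveI := hsolv
  haveI := hN
  obtain ⟨hsimp, hnc⟩ := h.isSimpleGroup
  haveI := hsimp
  apply hnc
  have hcomm := (IsSimpleGroup.comm_iff_isSolvable (G := ↥H ⧸ N.subgroupOf H)).2 inferInstance
  exact ⟨⟨hcomm⟩⟩

/-- An element of order `s * q` from Sylow counting. -/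
theorem exists_orderOf_of_card {X : Type*} [Group X] [Finite X] (s q : ℕ) (hs : s.Prime)
    (hq : q.Prime) (hne : q ≠ s) (hs1 : s ∣ Nat.card X) (hs2 : ¬ s ^ 2 ∣ Nat.card X)
    (hq1 : q ∣ Nat.card X) (hsyl : ∀ d, d ∣ Nat.card X → d % s = 1 → d = 1)
    (hqs : ¬ q ∣ s - 1) : ∃ g : X, orderOf g = s * q := by
  haveI : Fact s.Prime := ⟨hs⟩
  haveI : Fact q.Prime := ⟨hq⟩
  obtain ⟨P⟩ : Nonempty (Sylow s X) := inferInstance
  have hfact : (Nat.card X).factorization s = 1 := by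
    have h1 : 1 ≤ (Nat.card X).factorization s :=
      (hs.dvd_iff_one_le_factorization Nat.card_pos.ne').1 hs1
    have h2 : ¬ 2 ≤ (Nat.card X).factorization s := fun h =>
      hs2 ((hs.pow_dvd_iff_le_factorization Nat.card_pos.ne').2 h)
    omega
  have hPcard : Nat.card (P : Subgroup X) = s := by
    rw [P.card_eq_multiplicity, hfact, pow_one]
  have hcardSyl : Nat.card (Sylow s X) = 1 := by
    apply hsyl
    · exact (P.card_dvd_index).trans (Subgroup.index_dvd_card _)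
    · have := card_sylow_modEq_one s X
      rw [Nat.ModEq, Nat.mod_eq_of_lt hs.one_lt] at this
      exact this
  haveI : Subsingleton (Sylow s X) := (Nat.card_eq_one_iff_unique.1 hcardSyl).1
  haveI : (P : Subgroup X).Normal := Sylow.normal_of_subsingleton P
  obtain ⟨y, hy⟩ := exists_prime_orderOf_dvd_card' q hq1
  exact exists_orderOf_eq_mul_of_normal (P : Subgroup X) s q hs hq hPcard y hy hqs hne

end Cfsg.Agent.Lib.H23.SpecSec
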