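import Mathlib
import Cfsg.Prelude.Def_ParabolicCharacters

/-!
# S2314 piece IND (architect helper29): the permutation character on `B/Q` at an element of a normal subgroup
-/

set_option autoImplicit false

namespace Cfsg.Agent.Lib.H23.StCnt

/-- `b Q` is fixed by `x` iff `b⁻¹ x b ∈ Q`. -/
theorem mem_fixedBy_quot_iff {B : Type*} [Group B] (Q : Subgroup B) (x b : B) :
    ((b : B ⧸ Q) ∈ MulAction.fixedBy (B ⧸ Q) x) ↔ b⁻¹ * x * b ∈ Q := by
  rw [MulAction.mem_fixedBy]
  change ((x * b : B) : B ⧸ Q) = (b : B ⧸ Q) ↔ _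
  rw [eq_comm, QuotientGroup.eq, mul_assoc]

/-- IND.  `b Q` is fixed by `x` iff `b⁻¹ x b ∈ Q`, iff (`U` normal) `b⁻¹ x b ∈ Q ⊓ U = V`, iff (`V` normal) `x ∈ V`:
all cosets are fixed or none. -/
theorem fixedPointCharacter_of_normal {B : Type*} [Group B] [Finite B] (Q U V : Subgroup B) [U.Normal] [V.Normal]
    (hV : Q ⊓ U = V) (x : B) (hx : x ∈ U) :
    (x ∈ V → Cfsg.fixedPointCharacter Q x = (Q.index : ℂ)) ∧
      (x ∉ V → Cfsg.fixedPointCharacter Q x = 0) := by
  have key : ∀ b : B, ((b : B ⧸ Q) ∈ MulAction.fixedBy (B ⧸ Q) x) ↔ x ∈ V := by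
    intro b
    rw [mem_fixedBy_quot_iff]
    have hU : b⁻¹ * x * b ∈ U := by
      have := ‹U.Normal›.conj_mem x hx b⁻¹
      simpa using this
    constructor
    · intro h
      have h1 : b⁻¹ * x * b ∈ V := hV ▸ (Subgroup.mem_inf.mpr ⟨h, hU⟩)
      have := ‹V.Normal›.conj_mem _ h1 b
      simpa [mul_assoc] using this
    · intro h
      have h1 : b⁻¹ * x * b ∈ V := by
        have := ‹V.Normal›.conj_mem x h b⁻¹
        simpa using this
      rw [← hV] at h1
      exact (Subgroup.mem_inf.mp h1).1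
  unfold Cfsg.fixedPointCharacter
  constructor
  · intro h
    have : MulAction.fixedBy (B ⧸ Q) x = Set.univ := by
      ext c
      induction c using QuotientGroup.induction_on with
      | H b => simp only [Set.mem_univ, iff_true]; exact (key b).mpr h
    rw [this, Nat.card_congr (Equiv.Set.univ _)]
    rfl
  · intro h
    have : MulAction.fixedBy (B ⧸ Q) x = ∅ := by
      ext c
      induction c using QuotientGroup.induction_on with
      | H b => simp only [Set.mem_empty_iff_false, iff_false]; exact fun hc => h ((key b).mp hc)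
    rw [this]
    simp

end Cfsg.Agent.Lib.H23.StCnt
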