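import Mathlib
import Cfsg.Prelude.Def_Blocks
import Cfsg.Agent.Lib.H23.BlockCovering
import Cfsg.Agent.Lib.H23.FRBlock
import Cfsg.Agent.Lib.L0.BlockCover
import Cfsg.Agent.Lib.L0.BlockNormal
import Cfsg.Agent.Lib.H24.CharOrth
import Cfsg.Agent.S0174

/-!
# Counting blocks through a normal `p'`-subgroup (helper23)

`N` a normal `p'`-subgroup of `G` such that irreducible characters of `G` with a common constituent
on `N` lie in the same block.  Then the number of blocks of `G` equals the number of conjugacy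
classes of `G` contained in `N` (`card_blocks_eq`).
-/

set_option autoImplicit false

namespace Cfsg.Agent.Lib.H23.SylowCount

open Cfsg Cfsg.Agent.Lib.H23 Cfsg.Agent.Lib.H24 Cfsg.Agent.Lib.L0
open scoped ComplexConjugate

section Cut

variable {G : Type*} [Group G] (N : Subgroup G)

/-- Keep the values on `N`, zero elsewhere. -/
noncomputable def cut (f : G → ℂ) : G → ℂ := by
  classical exact fun g => if g ∈ N then f g else 0

theorem cut_apply_mem (f : G → ℂ) {g : G} (hg : g ∈ N) : cut N f g = f g := by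
  classical
  unfold cut
  rw [if_pos hg]

theorem cut_apply_not_mem (f : G → ℂ) {g : G} (hg : g ∉ N) : cut N f g = 0 := by
  classical
  unfold cut
  rw [if_neg hg]

theorem cut_smul (c : ℂ) (f : G → ℂ) : cut N (c • f) = c • cut N f := by
  funext g
  by_cases hg : g ∈ N
  · rw [cut_apply_mem N _ hg, Pi.smul_apply, Pi.smul_apply, cut_apply_mem N _ hg]
  · rw [cut_apply_not_mem N _ hg, Pi.smul_apply, cut_apply_not_mem N _ hg, smul_zero]

theorem isClassFunction_cut [hN : N.Normal] {f : G → ℂ} (hf : IsClassFunction G f) :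
    IsClassFunction G (cut N f) := by
  intro g h
  by_cases hg : g ∈ N
  · rw [cut_apply_mem N _ hg, cut_apply_mem N _ (hN.conj_mem g hg h)]
    exact hf g h
  · have : h * g * h⁻¹ ∉ N := by
      intro h1
      apply hg
      have := hN.conj_mem _ h1 h⁻¹
      simpa [mul_assoc] using this
    rw [cut_apply_not_mem N _ hg, cut_apply_not_mem N _ this]

variable [Fintype G] [Fintype N]

theorem classInner_cut_cut (f f' : G → ℂ) :
    classInner (cut N f) (cut N f') =
      ((Nat.card N : ℂ) / (Nat.card G : ℂ)) *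
        classInner (fun n : N => f n) (fun n : N => f' n) := by
  classical
  unfold classInner
  have h1 : ∑ g : G, cut N f g * conj (cut N f' g) =
      ∑ g ∈ Finset.univ.filter (· ∈ N), f g * conj (f' g) := by
    rw [Finset.sum_filter]
    refine Finset.sum_congr rfl fun g _ => ?_
    by_cases hg : g ∈ N
    · rw [if_pos hg, cut_apply_mem N _ hg, cut_apply_mem N _ hg]
    · rw [if_neg hg, cut_apply_not_mem N _ hg, zero_mul]
  rw [h1, ← Finset.sum_subtype (Finset.univ.filter (· ∈ N)) (p := (· ∈ N)) (by simp)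
    (fun g => f g * conj (f' g))]
  have hN0 : (Nat.card N : ℂ) ≠ 0 := by exact_mod_cast (Nat.card_pos (α := N)).ne'
  field_simp

end Cut

section Orth

variable {G : Type*} [Group G] [Fintype G] (N : Subgroup G) [hN : N.Normal] [Fintype N]

/-- Restrictions without common constituents are orthogonal. -/
theorem classInner_restrict_eq_zero (χ ψ : IrrCharacter G)
    (h : ∀ θ : IrrCharacter N, classInner (fun n : N => (χ : G → ℂ) n) (θ : N → ℂ) ≠ 0 →
      classInner (fun n : N => (ψ : G → ℂ) n) (θ : N → ℂ) = 0) :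
    classInner (fun n : N => (χ : G → ℂ) n) (fun n : N => (ψ : G → ℂ) n) = 0 := by
  classical
  haveI : Fintype (IrrCharacter N) := Fintype.ofFinite _
  have hcf : IsClassFunction N (fun n : N => (χ : G → ℂ) n) :=
    BlockNormal.isClassFunction_restrict N (irr_isClassFunction χ)
  have hexp := classFunction_expansion (fun n : N => (χ : G → ℂ) n) hcf
  rw [hexp, classInner_sum_left]
  apply Finset.sum_eq_zero
  intro θ _
  rw [classInner_smul_left]
  by_cases h0 : classInner (fun n : N => (χ : G → ℂ) n) (θ : N → ℂ) = 0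
  · rw [h0, zero_mul]
  · have h1 : classInner (θ : N → ℂ) (fun n : N => (ψ : G → ℂ) n) = 0 := by
      rw [← classInner_conj_symm, h θ h0, map_zero]
    rw [h1, mul_zero]

theorem classInner_cut_self_ne_zero (χ : IrrCharacter G) :
    classInner (cut N (χ : G → ℂ)) (cut N (χ : G → ℂ)) ≠ 0 := by
  intro h
  have h1 := classInner_self_eq_zero h
  have h2 := congrFun h1 1
  rw [cut_apply_mem N _ N.one_mem] at h2
  exact irr_one_ne_zero χ h2

end Orth

section Count

variable {G : Type*} [Group G] [Fintype G] (N : Subgroup G) [hN : N.Normal] [Fintype N]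
  {p : ℕ} (M : Ideal AlgInt)

/-- The type of blocks. -/
abbrev Blk (G : Type*) [Group G] (M : Ideal AlgInt) : Type _ :=
  {B : Set (IrrCharacter G) // IsPBlock M B}

/-- A representative of a block. -/
noncomputable def rep (B : Blk G M) : IrrCharacter G := B.2.choose

theorem rep_spec (B : Blk G M) : B.1 = blockOf M (rep M B : G → ℂ) := B.2.choose_spec

variable {M}

theorem linearIndependent_cut [hPr : M.IsPrime]
    (hA : ∀ χ₁ χ₂ : IrrCharacter G, ∀ θ : IrrCharacter N,
      classInner (fun n : N => (χ₁ : G → ℂ) n) (θ : N → ℂ) ≠ 0 →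
      classInner (fun n : N => (χ₂ : G → ℂ) n) (θ : N → ℂ) ≠ 0 →
      SameBlock M (χ₁ : G → ℂ) (χ₂ : G → ℂ)) :
    LinearIndependent ℂ (fun B : Blk G M => cut N (rep M B : G → ℂ)) := by
  classical
  rw [linearIndependent_iff']
  intro s c hc j hj
  have h1 : classInner (∑ i ∈ s, c i • cut N (rep M i : G → ℂ)) (cut N (rep M j : G → ℂ)) = 0 := by
    rw [hc, classInner_zero_left]
  rw [classInner_sum_left] at h1
  simp only [classInner_smul_left] at h1
  rw [Finset.sum_eq_single j] at h1
  · rcases mul_eq_zero.1 h1 with h | h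
    · exact h
    · exact absurd h (classInner_cut_self_ne_zero N (rep M j))
  · intro i _ hij
    rw [classInner_cut_cut, classInner_restrict_eq_zero N (rep M i) (rep M j), mul_zero, mul_zero]
    intro θ hθ
    by_contra hθ'
    apply hij
    have hs := hA (rep M j) (rep M i) θ hθ' hθ
    apply Subtype.ext
    rw [rep_spec M i, rep_spec M j]
    exact blockOf_eq_of_mem hs
  · intro hj'
    exact absurd hj hj'

/-- Same-block characters have proportional restrictions to a normal `p'`-subgroup. -/
theorem cut_eq_smul (hM : IsPModular p M) (hNp : ¬ p ∣ Nat.card N) (χ ψ : IrrCharacter G)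
    (hs : SameBlock M (ψ : G → ℂ) (χ : G → ℂ)) :
    ∃ r : ℂ, cut N (χ : G → ℂ) = r • cut N (ψ : G → ℂ) := by
  classical
  haveI hPr := isPrime_of_isPModular hM
  obtain ⟨θ, hθ⟩ := exists_constituent_restrict N χ
  have hθ' : classInner (fun n : N => (ψ : G → ℂ) n) (θ : N → ℂ) ≠ 0 := by
    intro h0
    exact BlockCover.not_sameBlock_of_constituent N hM hNp χ ψ (θ : N → ℂ) θ.2 hθ h0
      (sameBlock_symm hs)
  have h1 := Cfsg.Agent.S0174.result N hN (χ : G → ℂ) χ.2 (θ : N → ℂ) θ.2 hθ
  have h2 := Cfsg.Agent.S0174.result N hN (ψ : G → ℂ) ψ.2 (θ : N → ℂ) θ.2 hθ'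
  set S : N → ℂ := ∑ᶠ φ ∈ {φ : N → ℂ | ∃ g : G, φ = fun n : N =>
    (θ : N → ℂ) ⟨g * n * g⁻¹, hN.conj_mem n n.2 g⟩}, φ with hS
  set a := classInner (fun n : N => (χ : G → ℂ) n) (θ : N → ℂ) with ha
  set b := classInner (fun n : N => (ψ : G → ℂ) n) (θ : N → ℂ) with hb
  refine ⟨a / b, ?_⟩
  funext g
  by_cases hg : g ∈ N
  · rw [cut_apply_mem N _ hg, Pi.smul_apply, cut_apply_mem N _ hg]
    have e1 := congrFun h1 ⟨g, hg⟩
    have e2 := congrFun h2 ⟨g, hg⟩
    simp only [Pi.smul_apply, smul_eq_mul] at e1 e2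
    rw [e1, e2, smul_eq_mul]
    field_simp
  · rw [cut_apply_not_mem N _ hg, Pi.smul_apply, cut_apply_not_mem N _ hg, smul_zero]

/-- Class functions vanishing off `N` are spanned by the cut block representatives. -/
theorem mem_span_cut [hPr : M.IsPrime] (hM : IsPModular p M) (hNp : ¬ p ∣ Nat.card N)
    (f : G → ℂ) (hf : IsClassFunction G f) (hf0 : ∀ g ∉ N, f g = 0) :
    f ∈ Submodule.span ℂ (Set.range (fun B : Blk G M => cut N (rep M B : G → ℂ))) := by
  classical
  haveI : Fintype (IrrCharacter G) := Fintype.ofFinite _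
  have hexp := classFunction_expansion f hf
  have h1 : f = ∑ χ : IrrCharacter G, classInner f (χ : G → ℂ) • cut N (χ : G → ℂ) := by
    funext g
    by_cases hg : g ∈ N
    · conv_lhs => rw [hexp]
      rw [Finset.sum_apply, Finset.sum_apply]
      refine Finset.sum_congr rfl fun χ _ => ?_
      rw [Pi.smul_apply, Pi.smul_apply, cut_apply_mem N _ hg]
    · rw [hf0 g hg, Finset.sum_apply]
      symm
      apply Finset.sum_eq_zero
      intro χ _
      rw [Pi.smul_apply, cut_apply_not_mem N _ hg, smul_zero]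
  rw [h1]
  refine Submodule.sum_mem _ fun χ _ => Submodule.smul_mem _ _ ?_
  let B : Blk G M := ⟨blockOf M (χ : G → ℂ), χ, rfl⟩
  have hB : (rep M B) ∈ blockOf M (χ : G → ℂ) := by
    have := rep_spec M B
    have h2 : rep M B ∈ blockOf M (rep M B : G → ℂ) := mem_blockOf_self _
    rw [← this] at h2
    exact h2
  have hs : SameBlock M (rep M B : G → ℂ) (χ : G → ℂ) := sameBlock_symm hB
  obtain ⟨r, hr⟩ := cut_eq_smul N hM hNp χ (rep M B) hs
  rw [hr]
  exact Submodule.smul_mem _ _ (Submodule.subset_span ⟨B, rfl⟩)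

/-- The classes of `G` contained in `N`. -/
abbrev ClsIn : Type _ := {C : ConjClasses G // ∀ g : G, ConjClasses.mk g = C → g ∈ N}

/-- Functions on the classes inside `N`, as class functions of `G` vanishing off `N`. -/
noncomputable def Phi : (ClsIn N → ℂ) →ₗ[ℂ] (G → ℂ) where
  toFun φ := by
    classical exact fun g => (if h : ∀ g' : G, ConjClasses.mk g' = ConjClasses.mk g → g' ∈ N then φ ⟨ConjClasses.mk g, h⟩ else 0)
  map_add' φ₁ φ₂ := by
    funext g
    by_cases h : ∀ g' : G, ConjClasses.mk g' = ConjClasses.mk g → g' ∈ N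
    · simp only [Pi.add_apply, dif_pos h]
    · simp only [Pi.add_apply, dif_neg h, add_zero]
  map_smul' c φ := by
    funext g
    by_cases h : ∀ g' : G, ConjClasses.mk g' = ConjClasses.mk g → g' ∈ N
    · simp only [Pi.smul_apply, RingHom.id_apply, dif_pos h]
    · simp only [Pi.smul_apply, RingHom.id_apply, dif_neg h, smul_zero]

omit [Fintype N] in
theorem Phi_apply (φ : ClsIn N → ℂ) (g : G)
    (h : ∀ g' : G, ConjClasses.mk g' = ConjClasses.mk g → g' ∈ N) :
    Phi N φ g = φ ⟨ConjClasses.mk g, h⟩ := by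
  classical
  show (if h : ∀ g' : G, ConjClasses.mk g' = ConjClasses.mk g → g' ∈ N then φ ⟨ConjClasses.mk g, h⟩ else 0) = _
  rw [dif_pos h]

omit [Fintype N] in
theorem Phi_apply_not_mem (φ : ClsIn N → ℂ) {g : G} (hg : g ∉ N) : Phi N φ g = 0 := by
  classical
  show (if h : ∀ g' : G, ConjClasses.mk g' = ConjClasses.mk g → g' ∈ N then φ ⟨ConjClasses.mk g, h⟩ else 0) = _
  rw [dif_neg]
  intro h
  exact hg (h g rfl)

omit [Fintype N] in
theorem mem_class_iff (g : G) :
    (∀ g' : G, ConjClasses.mk g' = ConjClasses.mk g → g' ∈ N) ↔ g ∈ N := by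
  constructor
  · intro h
    exact h g rfl
  · intro hg g' hg'
    have h1 : IsConj g' g := ConjClasses.mk_eq_mk_iff_isConj.1 hg'
    obtain ⟨c, hc⟩ := isConj_iff.1 h1.symm
    rw [← hc]
    exact hN.conj_mem g hg c

omit [Fintype N] in
theorem Phi_injective : Function.Injective (Phi N) := by
  intro φ₁ φ₂ h
  funext C
  obtain ⟨C, hC⟩ := C
  obtain ⟨g, rfl⟩ := ConjClasses.mk_surjective C
  have := congrFun h g
  rw [Phi_apply N φ₁ g hC, Phi_apply N φ₂ g hC] at this
  exact this

omit [Fintype N] in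
theorem mem_range_Phi (f : G → ℂ) (hf : IsClassFunction G f) (hf0 : ∀ g ∉ N, f g = 0) :
    f ∈ LinearMap.range (Phi N) := by
  classical
  refine ⟨fun C => Quotient.liftOn C.1 f (fun a b hab => ?_), ?_⟩
  · exact isClassFunction_eq_of_isConj hf hab
  · funext g
    by_cases hg : g ∈ N
    · rw [Phi_apply N _ g ((mem_class_iff N g).2 hg)]
      rfl
    · rw [Phi_apply_not_mem N _ hg, hf0 g hg]

omit [Fintype N] in
theorem isClassFunction_Phi (φ : ClsIn N → ℂ) : IsClassFunction G (Phi N φ) := by
  intro g k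
  by_cases hg : g ∈ N
  · have hg' : k * g * k⁻¹ ∈ N := hN.conj_mem g hg k
    rw [Phi_apply N φ g ((mem_class_iff N g).2 hg),
      Phi_apply N φ _ ((mem_class_iff N _).2 hg')]
    congr 1
    apply Subtype.ext
    show ConjClasses.mk (k * g * k⁻¹) = ConjClasses.mk g
    rw [ConjClasses.mk_eq_mk_iff_isConj]
    exact (isConj_iff.2 ⟨k, rfl⟩).symm
  · have hg' : k * g * k⁻¹ ∉ N := by
      intro h1
      apply hg
      have := hN.conj_mem _ h1 k⁻¹
      simpa [mul_assoc] using this
    rw [Phi_apply_not_mem N φ hg, Phi_apply_not_mem N φ hg']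

/-- **Counting theorem.** -/
theorem card_blocks_eq (hM : IsPModular p M) (hNp : ¬ p ∣ Nat.card N)
    (hA : ∀ χ₁ χ₂ : IrrCharacter G, ∀ θ : IrrCharacter N,
      classInner (fun n : N => (χ₁ : G → ℂ) n) (θ : N → ℂ) ≠ 0 →
      classInner (fun n : N => (χ₂ : G → ℂ) n) (θ : N → ℂ) ≠ 0 →
      SameBlock M (χ₁ : G → ℂ) (χ₂ : G → ℂ)) :
    Nat.card {B : Set (IrrCharacter G) // IsPBlock M B} =
      Nat.card {C : ConjClasses G // ∀ g : G, ConjClasses.mk g = C → g ∈ N} := by
  classical
  haveI hPr := isPrime_of_isPModular hM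
  haveI : Fintype (IrrCharacter G) := Fintype.ofFinite _
  haveI : Finite (Blk G M) := by
    unfold Blk
    exact Finite.of_injective (fun B : {B : Set (IrrCharacter G) // IsPBlock M B} => B.1)
      Subtype.val_injective
  haveI : Fintype (Blk G M) := Fintype.ofFinite _
  haveI : Fintype (ClsIn N) := by
    unfold ClsIn
    exact Fintype.ofFinite _
  have hspan : Submodule.span ℂ (Set.range (fun B : Blk G M => cut N (rep M B : G → ℂ))) =
      LinearMap.range (Phi N) := by
    apply le_antisymm
    · rw [Submodule.span_le]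
      rintro _ ⟨B, rfl⟩
      exact mem_range_Phi N _ (isClassFunction_cut N (irr_isClassFunction _))
        (fun g hg => cut_apply_not_mem N _ hg)
    · rintro f ⟨φ, rfl⟩
      exact mem_span_cut N hM hNp _ (isClassFunction_Phi N φ)
        (fun g hg => Phi_apply_not_mem N φ hg)
  have h1 := finrank_span_eq_card (linearIndependent_cut N hA)
  rw [hspan, LinearMap.finrank_range_of_inj (Phi_injective N),
    Module.finrank_fintype_fun_eq_card] at h1
  show Nat.card (Blk G M) = Nat.card (ClsIn N)
  rw [Nat.card_eq_fintype_card, Nat.card_eq_fintype_card, h1]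

end Count

end Cfsg.Agent.Lib.H23.SylowCount
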