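import Mathlib
import Cfsg.Prelude.Def_Blocks
import Cfsg.Agent.Lib.H23.SylowCountA
import Cfsg.Agent.Lib.H23.BlockNilChar
import Cfsg.Agent.Lib.L0.BlockPReg
import Cfsg.Agent.Lib.L0.HallCentral
import Cfsg.Agent.Lib.L0.TransferPC

/-!
# Groups with a normal Sylow `p`-subgroup: the `p'`-part of the centralizer (helper23)

`P` a normal Sylow `p`-subgroup of `G`.
* `exists_pRegular_centralizer`: the `p`-regular elements of `C_G(P)` form a normal `p'`-subgroup
  `K` of `G`.
* `sameBlock_of_common_constituent`: irreducible characters of `G` with a common constituent on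
  `K` lie in the same block.
* `card_blocks_normal_sylow`: the number of blocks of `G` is the number of classes of `p`-regular
  elements of `C_G(P)`.
-/

set_option autoImplicit false

namespace Cfsg.Agent.Lib.H23.SylowCount

open Cfsg MonoidAlgebra Cfsg.Agent.Lib.H23 Cfsg.Agent.Lib.H24 Cfsg.Agent.Lib.L0
open scoped ComplexConjugate

section K0

variable {G : Type*} [Group G] [Finite G] {p : ℕ} [Fact p.Prime]

theorem exists_pRegular_centralizer (P : Sylow p G) [hPn : (P : Subgroup G).Normal] :
    ∃ K : Subgroup G, K.Normal ∧ ¬ p ∣ Nat.card K ∧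
      ∀ g : G, g ∈ K ↔ (¬ p ∣ orderOf g ∧
        g ∈ Subgroup.centralizer ((P : Subgroup G) : Set G)) := by
  classical
  have hp : p.Prime := Fact.out
  set C := Subgroup.centralizer ((P : Subgroup G) : Set G) with hC
  haveI hCn : C.Normal := Subgroup.normal_centralizer
  -- every `p`-subgroup lies in `P`
  haveI : Unique (Sylow p G) := Sylow.unique_of_normal P hPn
  have hle : ∀ Q : Subgroup G, IsPGroup p Q → Q ≤ (P : Subgroup G) := by
    intro Q hQ
    obtain ⟨R, hR⟩ := hQ.exists_le_sylow
    rw [Subsingleton.elim R P] at hR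
    exact hR
  obtain ⟨S⟩ : Nonempty (Sylow p C) := inferInstance
  have hScent : Subgroup.normalizer ((S : Subgroup C) : Set C) ≤
      Subgroup.centralizer ((S : Subgroup C) : Set C) := by
    intro c _
    rw [Subgroup.mem_centralizer_iff]
    intro s hs
    have hsP : (s : G) ∈ (P : Subgroup G) :=
      hle ((S : Subgroup C).map C.subtype) (S.2.map _) ⟨s, hs, rfl⟩
    have hc : (c : G) ∈ Subgroup.centralizer ((P : Subgroup G) : Set G) := c.2
    rw [Subgroup.mem_centralizer_iff] at hc
    exact Subtype.ext (hc (s : G) hsP)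
  obtain ⟨S', N, hNn, hcompl⟩ := hasNormalPComplement_of_normalizer_le_centralizer S hScent
  haveI := hNn
  have hcard := hcompl.card_mul_card
  have hS'card : Nat.card (S' : Subgroup C) = p ^ (Nat.card C).factorization p :=
    S'.card_eq_multiplicity
  have hidx : N.index = p ^ (Nat.card C).factorization p := by
    rw [← hS'card]
    exact hcompl.symm.index_eq_card
  have hNcard : Nat.card N = Nat.card C / p ^ (Nat.card C).factorization p := by
    rw [hS'card] at hcard
    exact (Nat.div_eq_of_eq_mul_left (pow_pos hp.pos _) hcard.symm).symm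
  have hNp : ¬ p ∣ Nat.card N := by
    rw [hNcard]
    exact Nat.not_dvd_ordCompl hp Nat.card_pos.ne'
  have hcop : Nat.Coprime (Nat.card N) N.index := by
    rw [hidx]
    exact Nat.Coprime.pow_right _ ((Nat.Prime.coprime_iff_not_dvd hp).2 hNp).symm
  refine ⟨N.map C.subtype, normal_map_subtype_of_coprime C N hcop, ?_, ?_⟩
  · rw [Subgroup.card_map_of_injective C.subtype_injective]
    exact hNp
  · intro g
    constructor
    · rintro ⟨n, hn, rfl⟩
      refine ⟨?_, n.2⟩
      intro hdvd
      apply hNp
      have h1 : orderOf (⟨n, hn⟩ : N) ∣ Nat.card N := orderOf_dvd_natCard _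
      rw [Subgroup.orderOf_mk] at h1
      have h2 : orderOf (n : G) = orderOf n := Subgroup.orderOf_coe n
      exact (h2 ▸ hdvd).trans h1
    · rintro ⟨hg, hgC⟩
      refine ⟨⟨g, hgC⟩, ?_, rfl⟩
      apply mem_of_coprime_orderOf_of_index_pow N _ hidx
      rw [Subgroup.orderOf_mk]
      exact ((Nat.Prime.coprime_iff_not_dvd hp).2 hg).symm

end K0

section LemmaA

variable {G : Type*} [Group G] [Fintype G] {p : ℕ} {M : Ideal AlgInt}

theorem sameBlock_of_common_constituent [Fact p.Prime] (hM : IsPModular p M) (P : Subgroup G)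
    [hPn : P.Normal] (hP : IsPGroup p P) (K : Subgroup G) [hK : K.Normal] [Fintype K]
    (hKmem : ∀ g : G, g ∈ K ↔ (¬ p ∣ orderOf g ∧ g ∈ Subgroup.centralizer (P : Set G)))
    (χ₁ χ₂ : IrrCharacter G) (θ : IrrCharacter K)
    (h1 : classInner (fun n : K => (χ₁ : G → ℂ) n) (θ : K → ℂ) ≠ 0)
    (h2 : classInner (fun n : K => (χ₂ : G → ℂ) n) (θ : K → ℂ) ≠ 0) :
    SameBlock M (χ₁ : G → ℂ) (χ₂ : G → ℂ) := by
  classical
  haveI hPr := isPrime_of_isPModular hM
  apply BlockPReg.sameBlock_of_pRegular hM
  intro g hg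
  by_cases hex : ∃ x : G, IsConj g x ∧ x ∈ Subgroup.centralizer (P : Set G)
  · obtain ⟨x, hgx, hxC⟩ := hex
    have hxK : x ∈ K := by
      rw [hKmem]
      refine ⟨?_, hxC⟩
      obtain ⟨c, hc⟩ := isConj_iff.1 hgx
      rw [← hc]
      have : orderOf (c * g * c⁻¹) = orderOf g := (MulAut.conj c).orderOf_eq g
      rw [this]
      exact hg
    have hsupp : ∀ y : G, y ∉ K → (classSum g).coeff y = 0 := by
      intro y hy
      rw [coeff_classSum, if_neg]
      intro hgy
      apply hy
      obtain ⟨c, hc⟩ := isConj_iff.1 (hgx.symm.trans hgy)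
      rw [← hc]
      exact hK.conj_mem x hxK c
    have e1 := BlockNormal.omega_eq_of_constituent K χ₁ θ h1 (classSum_mem_center g) hsupp
    have e2 := BlockNormal.omega_eq_of_constituent K χ₂ θ h2 (classSum_mem_center g) hsupp
    rw [omega_classSum (irr_isClassFunction χ₁)] at e1
    rw [omega_classSum (irr_isClassFunction χ₂)] at e2
    rw [e1, e2, sub_self]
    exact memLocalIdeal_zero hPr.ne_top
  · have hcon : ∀ x : G, IsConj g x → x ∉ Subgroup.centralizer (P : Set G) :=
      fun x hx hxc => hex ⟨x, hx, hxc⟩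
    exact memLocalIdeal_sub (centralChar_memLocalIdeal_of_normal hM P hP g hcon χ₁)
      (centralChar_memLocalIdeal_of_normal hM P hP g hcon χ₂)

end LemmaA

section Main

variable {G : Type*} [Group G] [Finite G] {p : ℕ} {M : Ideal AlgInt}

/-- The number of blocks of a group with a normal Sylow `p`-subgroup `P` is the number of classes of
`p`-regular elements of `C_G(P)`. -/
theorem card_blocks_normal_sylow [Fact p.Prime] (hM : IsPModular p M) (P : Sylow p G)
    [hPn : (P : Subgroup G).Normal] :
    Nat.card {B : Set (IrrCharacter G) // IsPBlock M B} =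
      Nat.card {C : ConjClasses G // ∀ g : G, ConjClasses.mk g = C →
        ¬ p ∣ orderOf g ∧ g ∈ Subgroup.centralizer ((P : Subgroup G) : Set G)} := by
  classical
  haveI : Fintype G := Fintype.ofFinite G
  obtain ⟨K, hKn, hKp, hKmem⟩ := exists_pRegular_centralizer P
  haveI := hKn
  haveI : Fintype K := Fintype.ofFinite K
  have h1 := card_blocks_eq K hM hKp
    (fun χ₁ χ₂ θ h1 h2 => sameBlock_of_common_constituent hM (P : Subgroup G) P.2 K hKmem
      χ₁ χ₂ θ h1 h2)
  rw [h1]
  refine Nat.card_congr (Equiv.subtypeEquivRight fun C => ?_)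
  constructor
  · intro h g hg
    exact (hKmem g).1 (h g hg)
  · intro h g hg
    exact (hKmem g).2 (h g hg)

end Main

end Cfsg.Agent.Lib.H23.SylowCount
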