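import Mathlib
import Cfsg.Prelude.Def_Local
import Cfsg.Agent.Lib.H7.FStar

set_option autoImplicit false
set_option linter.style.haveILetI false
set_option linter.unusedVariables false

namespace Cfsg.Agent.Lib.H23.SympBFS

universe u
variable {G : Type u} [Group G]

/-- FS: if `F*(C_G(A))` is a `p`-group (`A` an abelian `p`-subgroup) then `P = F*(C_G(A))` (as a subgroup of
`G`) contains its centralizer in `C_G(A)`, contains `A`, and is normal in `C_G(A)`. -/
theorem fs_setup [Finite G] (p : ℕ) [Fact p.Prime] (A : Subgroup G)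
    (hAc : ∀ a ∈ A, ∀ b ∈ A, a * b = b * a) (hAp : IsPGroup p ↥A)
    (hF : IsPGroup p ↥(Cfsg.generalizedFittingSubgroup ↥(Subgroup.centralizer (A : Set G)))) :
    ∃ P : Subgroup G, IsPGroup p ↥P ∧ P ≤ Subgroup.centralizer (A : Set G) ∧
      Subgroup.centralizer (A : Set G) ≤ Subgroup.normalizer (P : Set G) ∧
      Subgroup.centralizer (A : Set G) ⊓ Subgroup.centralizer (P : Set G) ≤ P ∧ A ≤ P := by
  classical
  set C : Subgroup G := Subgroup.centralizer (A : Set G) with hC
  set Fs : Subgroup C := Cfsg.generalizedFittingSubgroup C with hFs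
  have hFn : Fs.Normal := Cfsg.Agent.Lib.H7.generalizedFittingSubgroup_normal
  refine ⟨Fs.map C.subtype, hF.map _, ?_, ?_, ?_, ?_⟩
  · -- P ≤ C
    intro x hx
    obtain ⟨y, _, rfl⟩ := Subgroup.mem_map.mp hx
    exact y.2
  · -- C normalizes P
    intro c hc
    rw [Subgroup.mem_normalizer_iff]
    intro x
    constructor
    · intro hx
      obtain ⟨y, hy, rfl⟩ := Subgroup.mem_map.mp hx
      refine Subgroup.mem_map.mpr ⟨⟨c, hc⟩ * y * ⟨c, hc⟩⁻¹, hFn.conj_mem y hy ⟨c, hc⟩, ?_⟩
      simp
    · intro hx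
      obtain ⟨y, hy, hyx⟩ := Subgroup.mem_map.mp hx
      refine Subgroup.mem_map.mpr ⟨⟨c, hc⟩⁻¹ * y * ⟨c, hc⟩, ?_, ?_⟩
      · have := hFn.conj_mem y hy ⟨c, hc⟩⁻¹
        simpa using this
      · have h1 : (C.subtype y : G) = c * x * c⁻¹ := hyx
        simp only [Subgroup.subtype_apply, Subgroup.coe_mul, Subgroup.coe_inv] at h1 ⊢
        rw [h1]; group
  · -- C ∩ C_G(P) ≤ P
    intro x hx
    obtain ⟨hxC, hxP⟩ := hx
    have hmem : (⟨x, hxC⟩ : C) ∈ Subgroup.centralizer (Fs : Set C) := by
      rw [Subgroup.mem_centralizer_iff]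
      intro y hy
      apply Subtype.ext
      have := (Subgroup.mem_centralizer_iff.mp hxP) (y : G)
        (Subgroup.mem_map.mpr ⟨y, hy, rfl⟩)
      simpa using this
    have := Cfsg.Agent.Lib.H7.centralizer_generalizedFittingSubgroup_le hmem
    exact Subgroup.mem_map.mpr ⟨⟨x, hxC⟩, this, rfl⟩
  · -- A ≤ P
    have hAC : A ≤ C := by
      intro a ha
      rw [hC, Subgroup.mem_centralizer_iff]
      intro b hb
      exact hAc b hb a ha
    have hAn : (A.subgroupOf C).Normal := by
      refine ⟨fun a ha c => ?_⟩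
      rw [Subgroup.mem_subgroupOf] at ha ⊢
      have hc : (c : G) ∈ Subgroup.centralizer (A : Set G) := c.2
      have := (Subgroup.mem_centralizer_iff.mp hc) (a : G) ha
      have h2 : ((c * a * c⁻¹ : C) : G) = (a : G) := by
        simp only [Subgroup.coe_mul, Subgroup.coe_inv]
        rw [← this]; group
      rw [h2]; exact ha
    have hAnil : Group.IsNilpotent (A.subgroupOf C) := by
      haveI : IsMulCommutative (A.subgroupOf C) := ⟨⟨fun a b => by
        apply Subtype.ext; apply Subtype.ext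
        have := hAc (a : C) (Subgroup.mem_subgroupOf.mp a.2) (b : C) (Subgroup.mem_subgroupOf.mp b.2)
        simpa using this⟩⟩
      letI : CommGroup (A.subgroupOf C) :=
        { (inferInstance : Group (A.subgroupOf C)) with mul_comm := fun a b => mul_comm' a b }
      exact CommGroup.isNilpotent
    have h1 : A.subgroupOf C ≤ Cfsg.fittingSubgroup C :=
      Cfsg.Agent.Lib.H7.le_fittingSubgroup hAn hAnil
    have h2 : A.subgroupOf C ≤ Fs :=
      h1.trans Cfsg.Agent.Lib.H7.fittingSubgroup_le_generalizedFittingSubgroup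
    intro a ha
    exact Subgroup.mem_map.mpr ⟨⟨a, hAC ha⟩, h2 (Subgroup.mem_subgroupOf.mpr ha), rfl⟩

end Cfsg.Agent.Lib.H23.SympBFS
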