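import Mathlib
import Cfsg.Agent.Lib.H26.TMXDefs

/-!
# S4383 piece SIMPAB, parametrized form (helper23)

`simple_case_false_of`: the case `N = ⊤` of S4383, given the SIMPLE piece as a hypothesis.
-/

set_option autoImplicit false
open Pointwise

namespace Cfsg.Agent.Lib.H23.TMX

open Cfsg.Agent.Lib.H26.TMX

universe u
variable {G : Type u} [Group G] [Finite G]

omit [Finite G] in
/-- From "every nontrivial normal subgroup is `⊤`" (and `Nontrivial G`) the group is simple. -/
theorem isSimpleGroup_of_hmin (hmin : ∀ K : Subgroup G, K.Normal → K ≠ ⊥ → K = ⊤) [Nontrivial G] :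
    IsSimpleGroup G :=
  ⟨fun H hH => by
    by_cases h : H = ⊥
    · exact Or.inl h
    · exact Or.inr (hmin H hH h)⟩

/-- SIMPAB, with the SIMPLE piece as a hypothesis. -/
theorem simple_case_false_of
    (hsimple : IsSimpleGroup G → (∃ a b : G, a * b ≠ b * a) → ∀ (M₁ M₂ : Subgroup G),
        IsCoatom M₁ → IsCoatom M₂ → Cover M₁ M₂ → False)
    (hmin : ∀ K : Subgroup G, K.Normal → K ≠ ⊥ → K = ⊤) [Nontrivial G]
    (M₁ M₂ : Subgroup G) (h1 : IsCoatom M₁) (h2 : IsCoatom M₂)
    (hne : ∀ g : G, M₂ ≠ MulAut.conj g • M₁)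
    (hall : ∀ M : Subgroup G, IsCoatom M →
      ∃ g : G, M = MulAut.conj g • M₁ ∨ M = MulAut.conj g • M₂) : False := by
  have hS : IsSimpleGroup G := isSimpleGroup_of_hmin hmin
  by_cases hna : ∃ a b : G, a * b ≠ b * a
  · exact hsimple hS hna M₁ M₂ h1 h2 (cover_of_hall M₁ M₂ hall)
  · push Not at hna
    have hnorm : ∀ H : Subgroup G, H.Normal := fun H => ⟨fun n hn g => by
      have : g * n * g⁻¹ = n := by rw [hna g n, mul_assoc, mul_inv_cancel, mul_one]
      rw [this]; exact hn⟩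
    have hbot : ∀ M : Subgroup G, IsCoatom M → M = ⊥ := fun M hM => by
      by_contra h
      exact hM.1 (hmin M (hnorm M) h)
    apply hne 1
    rw [hbot M₁ h1, hbot M₂ h2]
    simp

end Cfsg.Agent.Lib.H23.TMX
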