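import Mathlib
import Cfsg.Agent.Lib.H26.TMXDefs
import Cfsg.Agent.Lib.H23.TMXSIMPABa
import Cfsg.Agent.Lib.H2.TMXSIMPLE

/-!
# S4383 piece SIMPAB (helper23): `simple_case_false`, exact statement

`simple_case_false_of` (Lib/H23/TMXSIMPABa) fed with the landed SIMPLE piece of helper2.
-/

set_option autoImplicit false
open Pointwise

namespace Cfsg.Agent.Lib.H23.TMX

open Cfsg.Agent.Lib.H26.TMX

universe u
variable {G : Type u} [Group G] [Finite G]

/-- SIMPAB: the case `N = ⊤` (the group is simple). -/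
theorem simple_case_false (hmin : ∀ K : Subgroup G, K.Normal → K ≠ ⊥ → K = ⊤) [Nontrivial G]
    (M₁ M₂ : Subgroup G) (h1 : IsCoatom M₁) (h2 : IsCoatom M₂)
    (hne : ∀ g : G, M₂ ≠ MulAut.conj g • M₁)
    (hall : ∀ M : Subgroup G, IsCoatom M →
      ∃ g : G, M = MulAut.conj g • M₁ ∨ M = MulAut.conj g • M₂) : False :=
  simple_case_false_of
    (fun hS hna N₁ N₂ a b c => @Cfsg.Agent.Lib.H2.TMX.simple_false G _ _ hS hna N₁ N₂ a b c)
    hmin M₁ M₂ h1 h2 hne hall

end Cfsg.Agent.Lib.H23.TMX
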