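import Mathlib
import Cfsg.Agent.Lib.H26.TMXDefs

/-!
# S4383 piece UNIQ (helper23): `unique_conj`

A `p`-subgroup `A` with `|A| > |M₁|_p` lies in at most one conjugate of `M₂`.
-/

set_option autoImplicit false
open Pointwise

namespace Cfsg.Agent.Lib.H23.TMX

open Cfsg.Agent.Lib.H26.TMX

universe u
variable {G : Type u} [Group G] [Finite G]

omit [Finite G] in
theorem uq_card_conj_smul (g : G) (H : Subgroup G) :
    Nat.card (MulAut.conj g • H : Subgroup G) = Nat.card H :=
  (Nat.card_congr (Subgroup.equivSMul (MulAut.conj g) H).toEquiv).symm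

/-- A `p`-subgroup of order `> |M₁|_p` lies in no conjugate of `M₁`. -/
theorem uq_not_le_conj (p : ℕ) [Fact p.Prime] (M₁ B : Subgroup G) (hB : IsPGroup p B)
    (h : p ^ ((Nat.card M₁).factorization p) < Nat.card B) (g : G) :
    ¬ B ≤ MulAut.conj g • M₁ := by
  intro hle
  have hp : p.Prime := Fact.out
  obtain ⟨k, hk⟩ := hB.exists_card_eq
  have hdvd : Nat.card B ∣ Nat.card M₁ := by
    have := Subgroup.card_dvd_of_le hle
    rwa [uq_card_conj_smul] at this
  rw [hk] at hdvd h
  have hk' : k ≤ (Nat.card M₁).factorization p :=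
    (hp.pow_dvd_iff_le_factorization Nat.card_pos.ne').1 hdvd
  exact absurd (Nat.pow_le_pow_right hp.pos hk') (not_le.2 h)

/-- In a finite group, `n A n⁻¹ ⊆ A` puts `n` in the normalizer. -/
theorem uq_mem_normalizer (A : Subgroup G) (n : G) (h : ∀ a ∈ A, n * a * n⁻¹ ∈ A) :
    n ∈ Subgroup.normalizer (A : Set G) := by
  rw [Subgroup.mem_normalizer_iff]
  intro g
  refine ⟨h g, fun hg => ?_⟩
  let f : A → A := fun a => ⟨n * a * n⁻¹, h a a.2⟩
  have hinj : Function.Injective f := by
    intro a b hab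
    have : n * (a : G) * n⁻¹ = n * (b : G) * n⁻¹ := congrArg Subtype.val hab
    exact Subtype.ext (mul_left_cancel (mul_right_cancel this))
  obtain ⟨a, ha⟩ := (Finite.injective_iff_surjective.1 hinj) ⟨n * g * n⁻¹, hg⟩
  have : n * (a : G) * n⁻¹ = n * g * n⁻¹ := congrArg Subtype.val ha
  have hag : (a : G) = g := mul_left_cancel (mul_right_cancel this)
  exact hag ▸ a.2

/-- The Sylow case: if `N_G(A) ≤ K`, `A` has the order of a Sylow `p`-subgroup of `K`, and
`A ≤ w K w⁻¹`, then `w K w⁻¹ = K`. -/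
theorem uq_conj_eq_of_sylow (p : ℕ) [Fact p.Prime] (K A : Subgroup G) (w : G)
    (hN : Subgroup.normalizer (A : Set G) ≤ K)
    (hcard : Nat.card A = p ^ (Nat.card K).factorization p)
    (hAw : A ≤ MulAut.conj w • K) : MulAut.conj w • K = K := by
  have hAK : A ≤ K := Subgroup.le_normalizer.trans hN
  -- `B := w⁻¹ A w ≤ K`
  set B : Subgroup G := MulAut.conj w⁻¹ • A with hB
  have hBK : B ≤ K := by
    intro b hb
    rw [hB, Subgroup.mem_pointwise_smul_iff_inv_smul_mem] at hb
    have h1 := hAw hb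
    rw [Subgroup.mem_pointwise_smul_iff_inv_smul_mem] at h1
    simpa [MulAut.smul_def, mul_assoc] using h1
  have hcardB : Nat.card B = p ^ (Nat.card K).factorization p := by
    rw [hB, uq_card_conj_smul, hcard]
  have e1 : Nat.card (A.subgroupOf K) = p ^ (Nat.card K).factorization p := by
    rw [← hcard]; exact Nat.card_congr (Subgroup.subgroupOfEquivOfLe hAK).toEquiv
  have e2 : Nat.card (B.subgroupOf K) = p ^ (Nat.card K).factorization p := by
    rw [← hcardB]; exact Nat.card_congr (Subgroup.subgroupOfEquivOfLe hBK).toEquiv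
  let PA : Sylow p K := Sylow.ofCard (A.subgroupOf K) e1
  let PB : Sylow p K := Sylow.ofCard (B.subgroupOf K) e2
  obtain ⟨u, hu⟩ := MulAction.exists_smul_eq K PB PA
  have hu' : MulAut.conj u • (B.subgroupOf K) = A.subgroupOf K := by
    have := congrArg (fun P : Sylow p K => (P : Subgroup K)) hu
    simpa [PA, PB, Sylow.coe_subgroup_smul] using this
  -- `u w⁻¹` normalizes `A`
  have hnorm : (u : G) * w⁻¹ ∈ Subgroup.normalizer (A : Set G) := by
    apply uq_mem_normalizer
    intro a ha
    have hb : w⁻¹ * a * w ∈ B := by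
      rw [hB, Subgroup.mem_pointwise_smul_iff_inv_smul_mem]
      simpa [MulAut.smul_def, mul_assoc] using ha
    have hbK : w⁻¹ * a * w ∈ K := hBK hb
    have h2 : (MulAut.conj u) • (⟨w⁻¹ * a * w, hbK⟩ : K) ∈ MulAut.conj u • (B.subgroupOf K) :=
      Subgroup.smul_mem_pointwise_smul _ _ _ (by rw [Subgroup.mem_subgroupOf]; exact hb)
    rw [hu', Subgroup.mem_subgroupOf] at h2
    have h3 : (u : G) * (w⁻¹ * a * w) * (u : G)⁻¹ ∈ A := by
      simpa [MulAut.smul_def] using h2
    have h4 : (u : G) * w⁻¹ * a * ((u : G) * w⁻¹)⁻¹ = (u : G) * (w⁻¹ * a * w) * (u : G)⁻¹ := by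
      simp [mul_assoc]
    rw [h4]; exact h3
  have hwK : w ∈ K := by
    have h5 : (u : G) * w⁻¹ ∈ K := hN hnorm
    have h6 : w⁻¹ ∈ K := by
      have := K.mul_mem (K.inv_mem u.2) h5
      simpa using this
    simpa using K.inv_mem h6
  exact Subgroup.conj_smul_eq_self_of_mem hwK

/-- Normalizers grow in `p`-groups: if `A < P'` with `P'` a `p`-group then some `A₁` with
`A < A₁ ≤ P'` normalizes `A`. -/
theorem uq_exists_lt (p : ℕ) [Fact p.Prime] (A P' : Subgroup G) (hP' : IsPGroup p P')
    (hlt : A < P') :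
    ∃ A₁ : Subgroup G, A < A₁ ∧ A₁ ≤ P' ∧ A₁ ≤ Subgroup.normalizer (A : Set G) := by
  have hnil : Group.IsNilpotent P' := hP'.isNilpotent
  have hne : A.subgroupOf P' < ⊤ := by
    rw [lt_top_iff_ne_top]
    intro h
    rw [Subgroup.subgroupOf_eq_top] at h
    exact absurd (le_antisymm hlt.le h) hlt.ne
  have hgrow := Group.normalizerCondition_of_isNilpotent (G := P') (A.subgroupOf P') hne
  obtain ⟨h, hh, hhA⟩ := SetLike.exists_of_lt hgrow
  rw [← Subgroup.subgroupOf_normalizer_eq hlt.le, Subgroup.mem_subgroupOf] at hh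
  rw [Subgroup.mem_subgroupOf] at hhA
  refine ⟨A ⊔ Subgroup.zpowers (h : G), ?_, ?_, ?_⟩
  · refine lt_of_le_of_ne le_sup_left ?_
    intro heq
    apply hhA
    rw [heq]
    exact (le_sup_right : Subgroup.zpowers (h : G) ≤ _) (Subgroup.mem_zpowers _)
  · exact sup_le hlt.le ((Subgroup.zpowers_le).2 h.2)
  · exact sup_le Subgroup.le_normalizer ((Subgroup.zpowers_le).2 hh)

theorem uq_aux (p : ℕ) [Fact p.Prime] (M₁ M₂ : Subgroup G) (hcov : Cover M₁ M₂)
    (hloc : ∀ A : Subgroup G, IsPGroup p A → A ≠ ⊥ → Subgroup.normalizer (A : Set G) ≠ ⊤) :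
    ∀ n : ℕ, ∀ A : Subgroup G, IsPGroup p A →
      p ^ ((Nat.card M₁).factorization p) < Nat.card A → Nat.card G - Nat.card A = n →
      ∀ x y : G, A ≤ MulAut.conj x • M₂ → A ≤ MulAut.conj y • M₂ →
        MulAut.conj x • M₂ = MulAut.conj y • M₂ := by
  intro n
  induction n using Nat.strong_induction_on with
  | _ n ih =>
    intro A hA hcard hn x y hx hy
    have hp : p.Prime := Fact.out
    have hAbot : A ≠ ⊥ := by
      intro h
      rw [h, Subgroup.card_bot] at hcard
      exact absurd (Nat.one_le_pow _ _ hp.pos) (not_le.2 hcard)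
    obtain ⟨g, hg | hg⟩ := hcov _ (hloc A hA hAbot)
    · exact absurd (Subgroup.le_normalizer.trans hg) (uq_not_le_conj p M₁ A hA hcard g)
    · -- every conjugate of `M₂` containing `A` is `g • M₂`
      have key : ∀ z : G, A ≤ MulAut.conj z • M₂ →
          MulAut.conj z • M₂ = MulAut.conj g • M₂ := by
        intro z hz
        set M : Subgroup G := MulAut.conj z • M₂ with hM
        set K : Subgroup G := MulAut.conj g • M₂ with hK
        have hMK : M = MulAut.conj (z * g⁻¹) • K := by
          rw [hM, hK, ← mul_smul, ← map_mul, inv_mul_cancel_right]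
        have hcardMK : Nat.card M = Nat.card K := by
          rw [hM, hK, uq_card_conj_smul, uq_card_conj_smul]
        obtain ⟨P, hP⟩ := (hA.comap_of_injective M.subtype M.subtype_injective :
            IsPGroup p (A.subgroupOf M)).exists_le_sylow
        set P' : Subgroup G := (P : Subgroup M).map M.subtype with hP'
        have hP'M : P' ≤ M := Subgroup.map_subtype_le _
        have hAP' : A ≤ P' := by
          intro a ha
          exact ⟨⟨a, hz ha⟩, hP (show (⟨a, hz ha⟩ : M) ∈ A.subgroupOf M from Subgroup.mem_subgroupOf.2 ha), rfl⟩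
        have hP'p : IsPGroup p P' := P.isPGroup'.map M.subtype
        rcases eq_or_lt_of_le hAP' with heq | hlt
        · -- `A` is (the image of) a Sylow subgroup of `M`
          have hc : Nat.card A = p ^ (Nat.card K).factorization p := by
            rw [heq, hP', ← hcardMK,
              Nat.card_congr (Subgroup.equivMapOfInjective _ _ M.subtype_injective).symm.toEquiv]
            exact P.card_eq_multiplicity
          rw [hMK]
          exact uq_conj_eq_of_sylow p K A (z * g⁻¹) hg hc (hMK ▸ hz)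
        · obtain ⟨A₁, hlt₁, hA₁P', hA₁N⟩ := uq_exists_lt p A P' hP'p hlt
          have hA₁ : IsPGroup p A₁ := hP'p.to_le hA₁P'
          have hcard₁ : Nat.card A < Nat.card A₁ := by
            by_contra hcon
            exact hlt₁.ne (Subgroup.eq_of_le_of_card_ge hlt₁.le (not_lt.1 hcon))
          have hle₁ : Nat.card A₁ ≤ Nat.card G := Subgroup.card_le_card_group A₁
          exact ih (Nat.card G - Nat.card A₁) (by omega) A₁ hA₁ (hcard.trans hcard₁) rfl z g
            (hA₁P'.trans hP'M) (hA₁N.trans hg)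
      rw [key x hx, key y hy]

/-- UNIQ: a `p`-subgroup `A` with `|A| > |M₁|_p` lies in at most one conjugate of `M₂`. -/
theorem unique_conj (p : ℕ) [Fact p.Prime] (M₁ M₂ : Subgroup G) (hcov : Cover M₁ M₂)
    (hloc : ∀ A : Subgroup G, IsPGroup p A → A ≠ ⊥ → Subgroup.normalizer (A : Set G) ≠ ⊤)
    (hp2 : ¬ p ∣ M₂.index)
    (A : Subgroup G) (hA : IsPGroup p A)
    (hcard : p ^ ((Nat.card M₁).factorization p) < Nat.card A)
    (x y : G) (hx : A ≤ MulAut.conj x • M₂) (hy : A ≤ MulAut.conj y • M₂) :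
    MulAut.conj x • M₂ = MulAut.conj y • M₂ :=
  uq_aux p M₁ M₂ hcov hloc _ A hA hcard rfl x y hx hy

end Cfsg.Agent.Lib.H23.TMX
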