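import Mathlib
import Cfsg.Prelude.Def_Solvable

set_option autoImplicit false
set_option linter.style.haveILetI false

namespace Cfsg.Agent.Lib.H23.TV3

open scoped IsMulCommutative

universe u

variable {G : Type u} [Group G] [Finite G]

/-- **AVG** (averaging trick). -/
theorem avg {r r' : ℕ} (hr : r.Prime) (hr' : r'.Prime) (hne : r ≠ r')
    (hord : ∀ g : G, orderOf g = 1 ∨ orderOf g = r ∨ orderOf g = r')
    (V : Subgroup G) [V.Normal] (hVc : ∀ a ∈ V, ∀ b ∈ V, a * b = b * a) (hVr : ∀ a ∈ V, a ^ r = 1)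
    (hV1 : V ≠ ⊥) (y c : G) (hy : orderOf y = r') (hc : orderOf c = r)
    (hn : c * y * c⁻¹ ∈ Subgroup.zpowers y) : False := by
  classical
  haveI : Fact r.Prime := ⟨hr⟩
  haveI : Fact r'.Prime := ⟨hr'⟩
  haveI : IsMulCommutative V := ⟨⟨fun a b => Subtype.ext (hVc a a.2 b b.2)⟩⟩
  have h2 := hr.two_le
  have h2' := hr'.two_le
  -- commuting elements of orders `r`, `r'` do not exist
  have L0 : ∀ a b : G, orderOf a = r → orderOf b = r' → a * b = b * a → False := by
    intro a b ha hb hab
    have hcop : (orderOf a).Coprime (orderOf b) := by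
      rw [ha, hb]; exact (Nat.coprime_primes hr hr').mpr hne
    have h := (show Commute a b from hab).orderOf_mul_eq_mul_orderOf_of_coprime hcop
    rw [ha, hb] at h
    rcases hord (a * b) with h1 | h1 | h1 <;> rw [h] at h1 <;> nlinarith
  have L : ∀ (a : V) (b : G), orderOf b = r' → (a : G) * b = b * (a : G) → a = 1 := by
    intro a b hb hab
    by_contra ha
    have hao : orderOf (a : G) = r :=
      orderOf_eq_prime (hVr a a.2) (fun h => ha (Subtype.ext h))
    exact L0 _ _ hao hb hab
  set φ : G →* MulAut V := MulAut.conjNormal with hφ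
  -- power formula
  have P : ∀ (v : V) (g : G) (n : ℕ),
      ((v : G) * g) ^ n = ((∏ i ∈ Finset.range n, φ (g ^ i) v : V) : G) * g ^ n := by
    intro v g n
    induction n with
    | zero => simp
    | succ n ih =>
      rw [pow_succ, ih, Finset.prod_range_succ, Subgroup.coe_mul, hφ, MulAut.conjNormal_apply,
        pow_succ]
      group
  -- vanishing of norms
  have N : ∀ g : G, g ^ r = 1 → ∀ v : V, ∏ i ∈ Finset.range r, φ (g ^ i) v = 1 := by
    intro g hg v
    have h := P v g r
    rw [hg, mul_one] at h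
    set Nv : V := ∏ i ∈ Finset.range r, φ (g ^ i) v with hNv
    have hNr : ((v : G) * g) ^ (r * r) = 1 := by
      rw [pow_mul, h]; exact hVr Nv Nv.2
    rcases hord ((v : G) * g) with h1 | h1 | h1
    · have h3 : ((v : G) * g) ^ r = 1 := by rw [orderOf_eq_one_iff.mp h1, one_pow]
      rw [h] at h3; exact Subtype.ext h3
    · have h3 : ((v : G) * g) ^ r = 1 := by rw [← h1]; exact pow_orderOf_eq_one _
      rw [h] at h3; exact Subtype.ext h3
    · exfalso
      have h3 : r' ∣ r * r := by rw [← h1]; exact orderOf_dvd_of_pow_eq_one hNr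
      have h4 : r' ∣ r := ((Nat.Prime.dvd_mul hr').mp h3).elim id id
      exact hne ((Nat.prime_dvd_prime_iff_eq hr' hr).mp h4).symm
  -- `c^i` normalizes `⟨y⟩`
  have Z : ∀ i : ℕ, c ^ i * y * (c ^ i)⁻¹ ∈ Subgroup.zpowers y := by
    intro i
    induction i with
    | zero => simp
    | succ i ih =>
      obtain ⟨n, hn'⟩ := Subgroup.mem_zpowers_iff.mp ih
      have h3 : c ^ (i + 1) * y * (c ^ (i + 1))⁻¹ = (c * y * c⁻¹) ^ n := by
        rw [conj_zpow, hn', pow_succ']
        group
      rw [h3]
      exact Subgroup.zpow_mem _ hn n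
  have hcr : c ^ r = 1 := by rw [← hc]; exact pow_orderOf_eq_one c
  have hyr : y ^ r' = 1 := by rw [← hy]; exact pow_orderOf_eq_one y
  -- main claim: every element of `V` is trivial
  have hall : ∀ v : V, v = 1 := by
    intro v
    have hg : ∀ t : ℕ, (y ^ t * c * (y ^ t)⁻¹) ^ r = 1 := by
      intro t; rw [conj_pow, hcr]; group
    have h1 : ∏ t ∈ Finset.range r', ∏ i ∈ Finset.range r, φ ((y ^ t * c * (y ^ t)⁻¹) ^ i) v = 1 :=
      Finset.prod_eq_one (fun t _ => N _ (hg t) v)
    rw [Finset.prod_comm] at h1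
    obtain ⟨r₀, hr₀⟩ : ∃ r₀, r = r₀ + 1 := ⟨r - 1, by omega⟩
    rw [hr₀, Finset.prod_range_succ'] at h1
    have h5 : ∀ i ∈ Finset.range r₀,
        ∏ t ∈ Finset.range r', φ ((y ^ t * c * (y ^ t)⁻¹) ^ (i + 1)) v = 1 := by
      intro i hi
      have hi' : i + 1 < r := by rw [hr₀]; simpa using hi
      set z : G := c ^ (i + 1) * y * (c ^ (i + 1))⁻¹ with hz
      obtain ⟨n, hzn⟩ := Subgroup.mem_zpowers_iff.mp (Z (i + 1))
      have hyz : Commute y z := by
        have hzn' : y ^ n = z := hzn
        rw [← hzn']; exact (Commute.refl y).zpow_right n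
      set b : G := y * z⁻¹ with hb
      have hzr : z ^ r' = 1 := by rw [hz, conj_pow, hyr]; group
      have hbr : b ^ r' = 1 := by
        rw [hb, (hyz.inv_right).mul_pow, hyr, inv_pow, hzr]; simp
      have hb1 : b ≠ 1 := by
        intro hb1
        have hyz' : y = z := by rw [hb] at hb1; exact mul_inv_eq_one.mp hb1
        have hcom : c ^ (i + 1) * y = y * c ^ (i + 1) := by
          rw [hz] at hyz'
          calc c ^ (i + 1) * y = (c ^ (i + 1) * y * (c ^ (i + 1))⁻¹) * c ^ (i + 1) := by group
            _ = y * c ^ (i + 1) := by rw [← hyz']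
        have hcop : (i + 1).Coprime (orderOf c) := by
          rw [hc]; exact (Nat.coprime_of_lt_prime (by omega) hi' hr).symm
        obtain ⟨m, hm⟩ := exists_pow_eq_self_of_coprime hcop
        have hcy : c * y = y * c := by
          have : Commute (c ^ (i + 1)) y := hcom
          have := this.pow_left m
          rw [hm] at this
          exact this
        exact L0 c y hc hy hcy
      have hbo : orderOf b = r' := orderOf_eq_prime hbr hb1
      -- rewrite the terms
      have hterm : ∀ t : ℕ, (y ^ t * c * (y ^ t)⁻¹) ^ (i + 1) = b ^ t * c ^ (i + 1) := by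
        intro t
        have hzt : c ^ (i + 1) * y ^ t * (c ^ (i + 1))⁻¹ = z ^ t := by rw [hz, conj_pow]
        rw [conj_pow, hb, (hyz.inv_right).mul_pow, inv_pow, ← hzt]
        group
      set w : V := φ (c ^ (i + 1)) v with hw
      have hterm' : ∀ t : ℕ, φ ((y ^ t * c * (y ^ t)⁻¹) ^ (i + 1)) v = ((φ b) ^ t) w := by
        intro t
        rw [hterm t, map_mul, map_pow, MulAut.mul_apply]
      simp only [hterm']
      set Q : V := ∏ t ∈ Finset.range r', ((φ b) ^ t) w with hQ
      have hfix : φ b Q = Q := by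
        have h6 : φ b Q = ∏ t ∈ Finset.range r', ((φ b) ^ (t + 1)) w := by
          rw [hQ, map_prod]
          refine Finset.prod_congr rfl (fun t _ => ?_)
          rw [pow_succ', MulAut.mul_apply]
        have h7 : Q * ((φ b) ^ r') w = (φ b Q) * w := by
          rw [h6, hQ, ← Finset.prod_range_succ, Finset.prod_range_succ']
          simp
        have h8 : (φ b) ^ r' = 1 := by rw [← map_pow, hbr, map_one]
        rw [h8, MulAut.one_apply] at h7
        exact (mul_right_cancel h7).symm
      apply L Q b hbo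
      have h9 : ((φ b Q : V) : G) = b * Q * b⁻¹ := by rw [hφ, MulAut.conjNormal_apply]
      rw [hfix] at h9
      calc (Q : G) * b = (b * Q * b⁻¹) * b := by rw [← h9]
        _ = b * Q := by group
    rw [Finset.prod_eq_one h5, one_mul] at h1
    simp only [pow_zero, map_one, MulAut.one_apply, Finset.prod_const, Finset.card_range] at h1
    have h10 : orderOf v ∣ r' := orderOf_dvd_of_pow_eq_one h1
    have h11 : orderOf v ∣ r := by
      apply orderOf_dvd_of_pow_eq_one
      exact Subtype.ext (by simpa using hVr v v.2)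
    have h12 : orderOf v ∣ Nat.gcd r r' := Nat.dvd_gcd h11 h10
    rw [(Nat.coprime_primes hr hr').mpr hne, Nat.dvd_one, orderOf_eq_one_iff] at h12
    exact h12
  apply hV1
  rw [eq_bot_iff]
  intro x hx
  have := hall ⟨x, hx⟩
  rw [Subgroup.mem_bot]
  exact congrArg Subtype.val this

end Cfsg.Agent.Lib.H23.TV3
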