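import Mathlib
import Cfsg.Prelude.Def_Solvable
import Cfsg.Agent.Lib.H22.TV3SYL
import Cfsg.Agent.Lib.H23.TV3AVG

set_option autoImplicit false
set_option linter.style.haveILetI false

open scoped Pointwise

namespace Cfsg.Agent.Lib.H23.TV3

universe u

variable {G : Type u} [Group G] [Finite G]

/-- **FROB**, parametric in SYL and AVG. -/
theorem exists_frobenius_complement_of {r r' : ℕ} (hr : r.Prime) [hr'F : Fact r'.Prime] (hne : r ≠ r')
    (hrG : r ∣ Nat.card G)
    (hord : ∀ g : G, orderOf g = 1 ∨ orderOf g = r ∨ orderOf g = r')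
    (hSYL : ∀ R : Sylow r' G, Nat.card R = r')
    (hAVG : ∀ y c : G, orderOf y = r' → orderOf c = r → c * y * c⁻¹ ∈ Subgroup.zpowers y → False) :
    ∃ C : Subgroup G, Cfsg.IsFrobeniusComplement C ∧ (Nat.card ↥C).Prime := by
  classical
  have hr' : r'.Prime := hr'F.out
  obtain ⟨R⟩ : Nonempty (Sylow r' G) := inferInstance
  have hcard : Nat.card (R : Subgroup G) = r' := hSYL R
  refine ⟨(R : Subgroup G), ⟨?_, ?_, ?_⟩, by rw [hcard]; exact hr'⟩
  · intro h
    rw [h, Subgroup.card_bot] at hcard
    exact hr'.one_lt.ne hcard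
  · intro h
    rw [h, Subgroup.card_top] at hcard
    rw [hcard] at hrG
    exact hne ((Nat.prime_dvd_prime_iff_eq hr hr').mp hrG)
  · intro g hg
    by_contra hne'
    -- the intersection has card dividing r', not 1, so equals r'
    set D : Subgroup G := (R : Subgroup G) ⊓ (MulAut.conj g • (R : Subgroup G)) with hD
    have hDle : D ≤ (R : Subgroup G) := inf_le_left
    have hDdvd : Nat.card D ∣ r' := hcard ▸ Subgroup.card_dvd_of_le hDle
    have hD1 : Nat.card D ≠ 1 := by
      intro h1
      exact hne' (Subgroup.card_eq_one.mp (by rw [hD] at h1; exact h1))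
    have hDcard : Nat.card D = r' := by
      rcases (Nat.dvd_prime hr').mp hDdvd with h | h
      · exact absurd h hD1
      · exact h
    have hDeq : D = (R : Subgroup G) :=
      Subgroup.eq_of_le_of_card_ge hDle (by rw [hDcard, hcard])
    have hRle : (R : Subgroup G) ≤ MulAut.conj g • (R : Subgroup G) := by
      have : D ≤ MulAut.conj g • (R : Subgroup G) := inf_le_right
      rwa [hDeq] at this
    have hcardconj : Nat.card (MulAut.conj g • (R : Subgroup G) : Subgroup G) = r' := by
      exact (Nat.card_congr (Subgroup.equivSMul (MulAut.conj g) (R : Subgroup G)).toEquiv.symm).trans hcard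
    have hReq : MulAut.conj g • (R : Subgroup G) = (R : Subgroup G) :=
      (Subgroup.eq_of_le_of_card_ge hRle (by rw [hcardconj, hcard])).symm
    -- a generator
    have hRne : (R : Subgroup G) ≠ ⊥ := by
      intro h
      rw [h, Subgroup.card_bot] at hcard
      exact hr'.one_lt.ne hcard
    obtain ⟨y, hyR, hy1⟩ := (Subgroup.ne_bot_iff_exists_ne_one.mp hRne) |> fun ⟨y, hy⟩ =>
      (⟨(y : G), y.2, fun h => hy (Subtype.ext h)⟩ : ∃ y : G, y ∈ (R : Subgroup G) ∧ y ≠ 1)
    have hyord : orderOf y = r' := by
      have hdvd : orderOf y ∣ r' := by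
        have := Subgroup.orderOf_dvd_natCard (R : Subgroup G) hyR
        rwa [hcard] at this
      rcases (Nat.dvd_prime hr').mp hdvd with h | h
      · exact absurd (orderOf_eq_one_iff.mp h) hy1
      · exact h
    have hzle : Subgroup.zpowers y ≤ (R : Subgroup G) := by
      rw [Subgroup.zpowers_le]; exact hyR
    have hzeq : Subgroup.zpowers y = (R : Subgroup G) :=
      Subgroup.eq_of_le_of_card_ge hzle (by rw [Nat.card_zpowers, hyord, hcard])
    have hconj : g * y * g⁻¹ ∈ Subgroup.zpowers y := by
      rw [hzeq, ← hReq]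
      exact Subgroup.smul_mem_pointwise_smul y (MulAut.conj g) _ hyR
    rcases hord g with h1 | h1 | h1
    · rw [orderOf_eq_one_iff] at h1
      rw [h1] at hg
      exact hg (Subgroup.one_mem _)
    · exact hAVG y g hyord h1 hconj
    · -- g is an r'-element normalizing R, so g ∈ R
      have hgN : g ∈ Subgroup.normalizer ((R : Subgroup G) : Set G) := by
        rw [Subgroup.mem_normalizer_iff]
        intro h
        constructor
        · intro hh
          have : g * h * g⁻¹ ∈ MulAut.conj g • (R : Subgroup G) :=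
            Subgroup.smul_mem_pointwise_smul h (MulAut.conj g) _ hh
          rwa [hReq] at this
        · intro hh
          rw [← hReq] at hh
          obtain ⟨c, hc, hce⟩ := Subgroup.mem_smul_pointwise_iff_exists _ _ _ |>.mp hh
          have : c = h := by
            have : g * c * g⁻¹ = g * h * g⁻¹ := hce
            simpa using this
          rwa [← this]
      have hzg : Subgroup.zpowers g ≤ Subgroup.normalizer ((R : Subgroup G) : Set G) := by
        rw [Subgroup.zpowers_le]; exact hgN
      have hgp : IsPGroup r' (Subgroup.zpowers g) := by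
        refine IsPGroup.of_card (n := 1) ?_
        rw [Nat.card_zpowers, h1, pow_one]
      have hsup : IsPGroup r' (Subgroup.zpowers g ⊔ (R : Subgroup G) : Subgroup G) :=
        IsPGroup.to_sup_of_normal_right' hgp R.isPGroup' hzg
      have := R.is_maximal' hsup le_sup_right
      apply hg
      rw [← this]
      exact le_sup_left (a := Subgroup.zpowers g) (Subgroup.mem_zpowers g)

/-- **FROB**, exact signature of the S4004 TV3 blueprint. -/
theorem exists_frobenius_complement {r r' : ℕ} (hr : r.Prime) (hr' : r'.Prime) (hne : r ≠ r')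
    (hrG : r ∣ Nat.card G) (hr'G : r' ∣ Nat.card G)
    (hord : ∀ g : G, orderOf g = 1 ∨ orderOf g = r ∨ orderOf g = r')
    (V : Subgroup G) [V.Normal] (hVc : ∀ a ∈ V, ∀ b ∈ V, a * b = b * a) (hVr : ∀ a ∈ V, a ^ r = 1)
    (hV1 : V ≠ ⊥) : ∃ C : Subgroup G, Cfsg.IsFrobeniusComplement C ∧ (Nat.card ↥C).Prime := by
  haveI : Fact r'.Prime := ⟨hr'⟩
  exact exists_frobenius_complement_of hr hne hrG hord
    (fun R => Cfsg.Agent.Lib.H22.TV3.card_sylow_eq hr hne hord V hVc hVr hV1 hr'G R)
    (fun y c hy hc hn => avg hr hr' hne hord V hVc hVr hV1 y c hy hc hn)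

end Cfsg.Agent.Lib.H23.TV3
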