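import Mathlib
import Cfsg.Agent.Lib.H26.TwoMinDefs
import Cfsg.Agent.Lib.H22.OrderPSq

set_option autoImplicit false
open scoped commutatorElement

/-!
# S4409 piece P5 (helper26 architect): `center_card_two`.

A nonabelian `AFree` 2-group with central squares has centre of order 2.
Also exported: `afree_false` (an abelian noncyclic subgroup of order `≥ 8` of an `AFree` 2-group does not exist),
`closure_insert_*` helper facts on `closure (Z ∪ {t})`.
-/

namespace Cfsg.Agent.Lib.H23.TwoMin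

open Cfsg.Agent.Lib.H26.TwoMin

variable {G : Type*} [Group G]

/-- An `AFree` 2-group has no abelian noncyclic subgroup of order `≥ 8` (this contains piece **L1**). -/
theorem afree_false [Finite G] {Y B : Subgroup G} (h2 : IsPGroup 2 ↥Y) (hA : AFree Y) (hBY : B ≤ Y)
    (hc : ∀ a ∈ B, ∀ b ∈ B, a * b = b * a) (hn : ¬ IsCyclic ↥B) (h8 : 8 ≤ Nat.card ↥B) : False := by
  have : Fact (Nat.Prime 2) := ⟨Nat.prime_two⟩
  have hB2 : IsPGroup 2 ↥B := h2.to_le hBY
  have hcB : ∀ a b : ↥B, a * b = b * a := fun a b => Subtype.ext (hc a a.2 b b.2)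
  have hnot : ¬ Cfsg.Agent.Lib.H22.AtMostOneOrderP 2 ↥B := fun huniq =>
    hn (Cfsg.Agent.Lib.H22.isCyclic_of_comm_of_atMostOne hB2 huniq hcB)
  obtain ⟨E, hE4, hEn⟩ := Cfsg.Agent.Lib.H22.exists_noncyclic_sq_of_not_atMostOne hB2 hnot
  obtain ⟨k, hk⟩ := hB2.exists_card_eq
  have hk3 : 3 ≤ k := by
    by_contra hlt
    push Not at hlt
    have : 2 ^ k ≤ 2 ^ 2 := Nat.pow_le_pow_right (by norm_num) (by omega)
    omega
  have hdvd : 2 ^ 3 ∣ Nat.card ↥B := by
    rw [hk]; exact pow_dvd_pow 2 hk3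
  obtain ⟨K, hK8, hEK⟩ := Sylow.exists_subgroup_card_pow_prime_le 2 hdvd E hE4 (by norm_num)
  have hinj : Function.Injective B.subtype := B.subtype_injective
  set A : Subgroup G := K.map B.subtype with hAdef
  have hAB : A ≤ B := Subgroup.map_subtype_le K
  have hAcard : Nat.card ↥A = 8 := by
    rw [hAdef, Subgroup.card_map_of_injective hinj, hK8]; norm_num
  have hAcyc : IsCyclic ↥A :=
    hA A (hAB.trans hBY) (fun a ha b hb => hc a (hAB ha) b (hAB hb)) hAcard
  have hKcyc : IsCyclic ↥K :=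
    (K.equivMapOfInjective B.subtype hinj).isCyclic.mpr hAcyc
  have hEcyc : IsCyclic ↥(E.subgroupOf K) := inferInstance
  exact hEn ((Subgroup.subgroupOfEquivOfLe hEK).isCyclic.mp hEcyc)

section closure

variable {Y Z : Subgroup G} {t : G}

/-- `closure (Z ∪ {t})` is abelian when `Z` is central in `Y ∋ t`. -/
theorem closure_insert_comm (hZY : Z ≤ Y) (hZc : Z ≤ Subgroup.centralizer (Y : Set G)) (ht : t ∈ Y) :
    ∀ a ∈ Subgroup.closure ((Z : Set G) ∪ {t}), ∀ b ∈ Subgroup.closure ((Z : Set G) ∪ {t}), a * b = b * a := by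
  have hcomm : ∀ ζ ∈ Z, ∀ x ∈ Y, x * ζ = ζ * x := fun ζ hζ x hx =>
    (Subgroup.mem_centralizer_iff.mp (hZc hζ)) x hx
  have hS : (Z : Set G) ∪ {t} ⊆ (Subgroup.centralizer ((Z : Set G) ∪ {t}) : Set G) := by
    intro s hs
    rw [SetLike.mem_coe, Subgroup.mem_centralizer_iff]
    intro h hh
    rcases hs with hs | hs <;> rcases hh with hh | hh
    · exact hcomm s hs h (hZY hh)
    · rw [Set.mem_singleton_iff] at hh; subst hh
      exact hcomm s hs h ht
    · rw [Set.mem_singleton_iff] at hs; subst hs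
      exact (hcomm h hh s ht).symm
    · rw [Set.mem_singleton_iff] at hs hh; subst hs; subst hh; rfl
  have hle : Subgroup.closure ((Z : Set G) ∪ {t}) ≤
      Subgroup.centralizer ((Subgroup.closure ((Z : Set G) ∪ {t}) : Subgroup G) : Set G) := by
    rw [Subgroup.centralizer_closure]
    exact (Subgroup.closure_le _).mpr hS
  intro a ha b hb
  exact ((Subgroup.mem_centralizer_iff.mp (hle hb)) a ha)

theorem closure_insert_le (hZY : Z ≤ Y) (ht : t ∈ Y) : Subgroup.closure ((Z : Set G) ∪ {t}) ≤ Y := by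
  rw [Subgroup.closure_le]
  intro s hs
  rcases hs with hs | hs
  · exact hZY hs
  · rw [Set.mem_singleton_iff] at hs; subst hs; exact ht

theorem le_closure_insert : Z ≤ Subgroup.closure ((Z : Set G) ∪ {t}) := fun _ hz =>
  Subgroup.subset_closure (Or.inl hz)

theorem mem_closure_insert : t ∈ Subgroup.closure ((Z : Set G) ∪ {t}) :=
  Subgroup.subset_closure (Or.inr rfl)

/-- `|closure (Z ∪ {t})| ≥ 2 |Z|` when `t ∉ Z`. -/
theorem two_mul_card_le_closure_insert [Finite G] (htZ : t ∉ Z) :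
    2 * Nat.card ↥Z ≤ Nat.card ↥(Subgroup.closure ((Z : Set G) ∪ {t})) := by
  set B := Subgroup.closure ((Z : Set G) ∪ {t}) with hB
  have hle : Z ≤ B := le_closure_insert
  have hdvd : Nat.card ↥Z ∣ Nat.card ↥B := Subgroup.card_dvd_of_le hle
  obtain ⟨m, hm⟩ := hdvd
  have hZpos : 0 < Nat.card ↥Z := Nat.card_pos
  have hBpos : 0 < Nat.card ↥B := Nat.card_pos
  have hm1 : m ≠ 1 := by
    intro h1
    rw [h1, mul_one] at hm
    have : Z = B := Subgroup.eq_of_le_of_card_ge hle hm.le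
    exact htZ (this ▸ mem_closure_insert)
  have hm0 : m ≠ 0 := by
    intro h0; rw [h0, mul_zero] at hm; omega
  have : 2 ≤ m := by omega
  calc 2 * Nat.card ↥Z = Nat.card ↥Z * 2 := by ring
    _ ≤ Nat.card ↥Z * m := Nat.mul_le_mul_left _ this
    _ = Nat.card ↥B := hm.symm

end closure

/-- **P5**.  A nonabelian `AFree` 2-group with central squares has centre of order 2. -/
theorem center_card_two [Finite G] {Y : Subgroup G} (h2 : IsPGroup 2 ↥Y) (hA : AFree Y)
    (hsq : ∀ x ∈ Y, x ^ 2 ∈ Subgroup.centralizer (Y : Set G))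
    (hnab : ¬ ∀ a ∈ Y, ∀ b ∈ Y, a * b = b * a) :
    Nat.card ↥(Y ⊓ Subgroup.centralizer (Y : Set G)) = 2 := by
  have : Fact (Nat.Prime 2) := ⟨Nat.prime_two⟩
  set Z : Subgroup G := Y ⊓ Subgroup.centralizer (Y : Set G) with hZdef
  have hZY : Z ≤ Y := inf_le_left
  have hZC : Z ≤ Subgroup.centralizer (Y : Set G) := inf_le_right
  -- `x * ζ = ζ * x`
  have hcomm : ∀ ζ ∈ Z, ∀ x ∈ Y, x * ζ = ζ * x := fun ζ hζ x hx =>
    (Subgroup.mem_centralizer_iff.mp (hZC hζ)) x hx
  have hsqZ : ∀ x ∈ Y, x ^ 2 ∈ Z := fun x hx => Subgroup.mem_inf.mpr ⟨Y.pow_mem hx 2, hsq x hx⟩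
  push Not at hnab
  obtain ⟨a, ha, b, hb, hab⟩ := hnab
  have haZ : a ∉ Z := fun h => hab (hcomm a h b hb).symm
  have hbZ : b ∉ Z := fun h => hab (hcomm b h a ha)
  have habY : a * b ∈ Y := Y.mul_mem ha hb
  have habZ : a * b ∉ Z := by
    intro h
    apply hab
    have h1 := hcomm (a * b) h a ha
    -- a * (a * b) = (a * b) * a
    have : a * (a * b) = a * (b * a) := by rw [h1, mul_assoc]
    exact mul_left_cancel this
  have hZ2 : IsPGroup 2 ↥Z := h2.to_le hZY
  obtain ⟨k, hk⟩ := hZ2.exists_card_eq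
  -- the centre is nontrivial
  have hk0 : k ≠ 0 := by
    intro h0
    rw [h0, pow_zero] at hk
    have hZbot : Z = ⊥ := Subgroup.card_eq_one.mp hk
    have : Nontrivial ↥Y := ⟨⟨⟨a, ha⟩, ⟨b, hb⟩, fun h => hab (by
      have : a = b := congrArg Subtype.val h
      rw [this])⟩⟩
    have : Nontrivial ↥(Subgroup.center ↥Y) := h2.center_nontrivial
    obtain ⟨c, hc⟩ := exists_ne (1 : ↥(Subgroup.center ↥Y))
    have hcZ : ((c : ↥Y) : G) ∈ Z := by
      refine Subgroup.mem_inf.mpr ⟨(c : ↥Y).2, ?_⟩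
      rw [Subgroup.mem_centralizer_iff]
      intro h hh
      have := (Subgroup.mem_center_iff.mp c.2) ⟨h, hh⟩
      exact congrArg Subtype.val this
    rw [hZbot, Subgroup.mem_bot] at hcZ
    apply hc
    apply Subtype.ext
    apply Subtype.ext
    simpa using hcZ
  by_contra hne
  have hk2 : 2 ≤ k := by
    by_contra hlt
    push Not at hlt
    have : k = 1 := by omega
    rw [this, pow_one] at hk
    exact hne hk
  have hZ4 : 4 ≤ Nat.card ↥Z := by
    rw [hk]
    calc 4 = 2 ^ 2 := by norm_num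
      _ ≤ 2 ^ k := Nat.pow_le_pow_right (by norm_num) hk2
  by_cases hcyc : IsCyclic ↥Z
  · -- cyclic centre of order ≥ 4
    obtain ⟨w, hw⟩ := IsCyclic.exists_generator (α := ↥Z)
    have hwZ : (w : G) ∈ Z := w.2
    have hgen : ∀ u ∈ Z, ∃ n : ℤ, (w : G) ^ n = u := by
      intro u hu
      obtain ⟨n, hn⟩ := Subgroup.mem_zpowers_iff.mp (hw ⟨u, hu⟩)
      refine ⟨n, ?_⟩
      have := congrArg Subtype.val hn
      simpa using this
    have hword : orderOf (w : G) = 2 ^ k := by
      rw [Subgroup.orderOf_coe, orderOf_eq_card_of_forall_mem_zpowers hw, hk]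
    -- Claim 1: a noncentral square is not the square of a central element
    have claim1 : ∀ y ∈ Y, y ∉ Z → ∀ u ∈ Z, y ^ 2 ≠ u ^ 2 := by
      intro y hy hyZ u hu heq
      set t : G := y * u⁻¹ with ht
      have huinv : u⁻¹ ∈ Z := Z.inv_mem hu
      have htY : t ∈ Y := Y.mul_mem hy (hZY huinv)
      have htZ : t ∉ Z := by
        intro h
        apply hyZ
        have : y = t * u := by rw [ht]; group
        rw [this]; exact Z.mul_mem h hu
      have ht2 : t ^ 2 = 1 := by
        have h1 : y * u⁻¹ = u⁻¹ * y := hcomm u⁻¹ huinv y hy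
        calc t ^ 2 = y * u⁻¹ * (y * u⁻¹) := by rw [ht, pow_two]
          _ = y * (u⁻¹ * y) * u⁻¹ := by simp only [mul_assoc]
          _ = y * (y * u⁻¹) * u⁻¹ := by rw [h1]
          _ = y ^ 2 * (u ^ 2)⁻¹ := by simp only [pow_two, mul_inv_rev, mul_assoc]
          _ = 1 := by rw [heq, mul_inv_cancel]
      have ht1 : t ≠ 1 := fun h => htZ (h ▸ Z.one_mem)
      set B := Subgroup.closure ((Z : Set G) ∪ {t}) with hB
      have hBY : B ≤ Y := closure_insert_le hZY htY
      have hBc := closure_insert_comm (t := t) hZY hZC htY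
      have hB8 : 8 ≤ Nat.card ↥B :=
        calc 8 ≤ 2 * Nat.card ↥Z := by omega
          _ ≤ Nat.card ↥B := two_mul_card_le_closure_insert (Z := Z) (t := t) htZ
      refine afree_false h2 hA hBY hBc ?_ hB8
      intro hBcyc
      -- two subgroups of order 2 in the cyclic group `B`
      have hdvd2 : 2 ∣ Nat.card ↥Z := by
        rw [hk]; exact dvd_pow_self 2 hk0
      obtain ⟨z0, hz0⟩ := exists_prime_orderOf_dvd_card' 2 hdvd2
      have hz0B : ((z0 : G)) ∈ B := le_closure_insert z0.2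
      have htB : t ∈ B := mem_closure_insert
      have hamo := Cfsg.Agent.Lib.H22.atMostOne_of_isCyclic 2 (by norm_num) (G := ↥B)
      have ho1 : orderOf (⟨t, htB⟩ : ↥B) = 2 := by
        rw [← Subgroup.orderOf_coe]
        exact orderOf_eq_prime ht2 ht1
      have ho2 : orderOf (⟨(z0 : G), hz0B⟩ : ↥B) = 2 := by
        rw [← Subgroup.orderOf_coe, Subgroup.orderOf_coe z0, hz0]
      have heqs := hamo (Subgroup.zpowers (⟨t, htB⟩ : ↥B)) (Subgroup.zpowers (⟨(z0 : G), hz0B⟩ : ↥B))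
        (by rw [Nat.card_zpowers, ho1]) (by rw [Nat.card_zpowers, ho2])
      have hmem : (⟨t, htB⟩ : ↥B) ∈ Subgroup.zpowers (⟨(z0 : G), hz0B⟩ : ↥B) := by
        rw [← heqs]; exact Subgroup.mem_zpowers _
      obtain ⟨n, hn⟩ := Subgroup.mem_zpowers_iff.mp hmem
      have hn' : ((z0 : G)) ^ n = t := by
        have := congrArg Subtype.val hn
        simpa using this
      exact htZ (hn' ▸ Z.zpow_mem z0.2 n)
    -- exponents
    obtain ⟨i, hi⟩ := hgen (a ^ 2) (hsqZ a ha)
    obtain ⟨j, hj⟩ := hgen (b ^ 2) (hsqZ b hb)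
    obtain ⟨m, hm⟩ := hgen ((a * b) ^ 2) (hsqZ (a * b) habY)
    have hodd : ∀ y ∈ Y, y ∉ Z → ∀ n : ℤ, (w : G) ^ n = y ^ 2 → ¬ (2 : ℤ) ∣ n := by
      intro y hy hyZ n hn hdiv
      obtain ⟨r, rfl⟩ := hdiv
      apply claim1 y hy hyZ ((w : G) ^ r) (Z.zpow_mem hwZ r)
      rw [← hn, ← zpow_natCast, ← zpow_mul]
      congr 1
      push_cast; ring
    have hi_odd := hodd a ha haZ i hi
    have hj_odd := hodd b hb hbZ j hj
    have hm_odd := hodd (a * b) habY habZ m hm
    -- the commutator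
    have ha2 : a * a ∈ Z := by have := hsqZ a ha; rwa [pow_two] at this
    have hb2 : b * b ∈ Z := by have := hsqZ b hb; rwa [pow_two] at this
    have hbaY : b * a ∈ Y := Y.mul_mem hb ha
    have hba2 : (b * a) * (b * a) ∈ Z := by have := hsqZ _ hbaY; rwa [pow_two] at this
    obtain ⟨c, hcZ, hconj, hba⟩ : ∃ c : G, c ∈ Z ∧ b * a * b⁻¹ = c * a ∧ b * a = c * a * b := by
      refine ⟨b * a * b⁻¹ * a⁻¹, ?_, by group, by group⟩
      have e1 : b * (b * b)⁻¹ = (b * b)⁻¹ * b := hcomm _ (Z.inv_mem hb2) b hb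
      have e3 : (b * a) * (b * b)⁻¹ = (b * b)⁻¹ * (b * a) := hcomm _ (Z.inv_mem hb2) _ hbaY
      have h1 : b * a * b⁻¹ * a⁻¹ = (b * b)⁻¹ * ((b * a) * (b * a)) * (a * a)⁻¹ := by
        calc b * a * b⁻¹ * a⁻¹ = b * a * (b * (b * b)⁻¹) * (a * (a * a)⁻¹) := by group
          _ = b * a * ((b * b)⁻¹ * b) * (a * (a * a)⁻¹) := by rw [e1]
          _ = (b * a * (b * b)⁻¹) * (b * a) * (a * a)⁻¹ := by group
          _ = ((b * b)⁻¹ * (b * a)) * (b * a) * (a * a)⁻¹ := by rw [e3]
          _ = (b * b)⁻¹ * ((b * a) * (b * a)) * (a * a)⁻¹ := by group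
      rw [h1]
      exact Z.mul_mem (Z.mul_mem (Z.inv_mem hb2) hba2) (Z.inv_mem ha2)
    have hc2 : c * c = 1 := by
      have h1 : (b * b) * a * (b * b)⁻¹ = c * c * a := by
        calc (b * b) * a * (b * b)⁻¹ = b * (b * a * b⁻¹) * b⁻¹ := by group
          _ = b * (c * a) * b⁻¹ := by rw [hconj]
          _ = b * c * (a * b⁻¹) := by group
          _ = c * b * (a * b⁻¹) := by rw [hcomm c hcZ b hb]
          _ = c * (b * a * b⁻¹) := by group
          _ = c * (c * a) := by rw [hconj]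
          _ = c * c * a := by group
      have h2' : (b * b) * a * (b * b)⁻¹ = a := by
        rw [← hcomm _ hb2 a ha, mul_assoc, mul_inv_cancel, mul_one]
      rw [h2'] at h1
      have : c * c * a = 1 * a := by rw [← h1, one_mul]
      exact mul_right_cancel this
    have hprod : (a * b) ^ 2 = c * a ^ 2 * b ^ 2 := by
      simp only [pow_two]
      calc (a * b) * (a * b) = a * (b * a) * b := by group
        _ = a * (c * a * b) * b := by rw [hba]
        _ = a * c * (a * b * b) := by group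
        _ = c * a * (a * b * b) := by rw [hcomm c hcZ a ha]
        _ = c * (a * a) * (b * b) := by group
    obtain ⟨l, hl⟩ := hgen c hcZ
    have hl_even : (2 : ℤ) ∣ l := by
      have h1 : (w : G) ^ (2 * l) = 1 := by
        rw [mul_comm, zpow_mul, hl, zpow_two, hc2]
      have h2' := (orderOf_dvd_iff_zpow_eq_one).mpr h1
      rw [hword] at h2'
      have h4 : ((4 : ℕ) : ℤ) ∣ 2 * l := by
        refine dvd_trans ?_ h2'
        have : (4 : ℕ) ∣ 2 ^ k := by
          calc (4 : ℕ) = 2 ^ 2 := by norm_num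
            _ ∣ 2 ^ k := pow_dvd_pow 2 hk2
        exact_mod_cast this
      push_cast at h4
      omega
    have hfin : (w : G) ^ (m - (l + i + j)) = 1 := by
      rw [zpow_sub, zpow_add, zpow_add, hm, hl, hi, hj, hprod, mul_inv_cancel]
    have h2' := (orderOf_dvd_iff_zpow_eq_one).mpr hfin
    rw [hword] at h2'
    have h2dvd : ((2 : ℕ) : ℤ) ∣ m - (l + i + j) := by
      refine dvd_trans ?_ h2'
      have : (2 : ℕ) ∣ 2 ^ k := dvd_pow_self 2 hk0
      exact_mod_cast this
    push_cast at h2dvd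
    omega
  · -- noncyclic centre
    set B := Subgroup.closure ((Z : Set G) ∪ {a}) with hB
    have hBY : B ≤ Y := closure_insert_le hZY ha
    have hBc := closure_insert_comm (t := a) hZY hZC ha
    have hB8 : 8 ≤ Nat.card ↥B :=
      calc 8 ≤ 2 * Nat.card ↥Z := by omega
        _ ≤ Nat.card ↥B := two_mul_card_le_closure_insert (Z := Z) (t := a) haZ
    refine afree_false h2 hA hBY hBc ?_ hB8
    intro hBcyc
    apply hcyc
    have hle : Z ≤ B := le_closure_insert
    have : IsCyclic ↥(Z.subgroupOf B) := inferInstance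
    exact (Subgroup.subgroupOfEquivOfLe hle).isCyclic.mp this

end Cfsg.Agent.Lib.H23.TwoMin
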