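import Mathlib
import Cfsg.Agent.Lib.H26.TwoMinDefs
import Cfsg.Agent.Lib.H23.TwoMinP5
import Cfsg.Agent.Lib.H22.UniqueInvolution
import Cfsg.Agent.Lib.H1.CharSubgroup
import Cfsg.Agent.Lib.H27.Extraspecial

set_option autoImplicit false
open scoped commutatorElement

/-!
# S4409 piece P6 (helper26 architect): `min_q8`.

Minimal nonabelian case with centre of order 2: `Y` is `Q₈`.
Reusable helpers: `conj_mem_closure`, `mem_or_of_card_eq_two_mul` (index-2 dichotomy for subgroups of an ambient group),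
`comm_mem_center` (central squares ⇒ commutators central).
-/

namespace Cfsg.Agent.Lib.H23.TwoMin

open Cfsg.Agent.Lib.H26.TwoMin

variable {G : Type*} [Group G]

/-- If conjugation by `h` maps generators into the closure, it maps the closure into itself. -/
theorem conj_mem_closure {S : Set G} {h : G} (hS : ∀ s ∈ S, h * s * h⁻¹ ∈ Subgroup.closure S) :
    ∀ u ∈ Subgroup.closure S, h * u * h⁻¹ ∈ Subgroup.closure S := by
  intro u hu
  induction hu using Subgroup.closure_induction with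
  | mem x hx => exact hS x hx
  | one => simp
  | mul x y _ _ hx hy =>
      have : h * (x * y) * h⁻¹ = (h * x * h⁻¹) * (h * y * h⁻¹) := by group
      rw [this]; exact Subgroup.mul_mem _ hx hy
  | inv x _ hx =>
      have : h * x⁻¹ * h⁻¹ = (h * x * h⁻¹)⁻¹ := by group
      rw [this]; exact Subgroup.inv_mem _ hx

/-- Index-2 dichotomy: if `|K| = 2 |H|`, `H ≤ K`, `a ∈ K \ H`, every `x ∈ K` lies in `H` or in `a H`. -/
theorem mem_or_of_card_eq_two_mul [Finite G] {H K : Subgroup G} (hHK : H ≤ K)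
    (hcard : Nat.card ↥K = 2 * Nat.card ↥H) {a : G} (haK : a ∈ K) (haH : a ∉ H) :
    ∀ x ∈ K, x ∈ H ∨ a⁻¹ * x ∈ H := by
  have hidx : (H.subgroupOf K).index = 2 := by
    have h1 := (H.subgroupOf K).card_mul_index
    rw [Nat.card_congr (Subgroup.subgroupOfEquivOfLe hHK).toEquiv, hcard] at h1
    have hpos : 0 < Nat.card ↥H := Nat.card_pos
    have h2 : Nat.card ↥H * (H.subgroupOf K).index = Nat.card ↥H * 2 := by rw [h1]; ring
    exact Nat.eq_of_mul_eq_mul_left hpos h2
  intro x hx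
  by_cases hxH : x ∈ H
  · exact Or.inl hxH
  · right
    have key := Subgroup.mul_mem_iff_of_index_two hidx
      (a := (⟨a⁻¹, K.inv_mem haK⟩ : ↥K)) (b := (⟨x, hx⟩ : ↥K))
    simp only [Subgroup.mem_subgroupOf, Subgroup.coe_mul] at key
    refine key.mpr ⟨fun h => absurd (by simpa using H.inv_mem h) haH, fun h => absurd h hxH⟩

/-- Central squares ⇒ commutators are central. -/
theorem comm_mem_center {Y : Subgroup G} (hsq : ∀ x ∈ Y, x ^ 2 ∈ Subgroup.centralizer (Y : Set G))
    {a b : G} (ha : a ∈ Y) (hb : b ∈ Y) :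
    b * a * b⁻¹ * a⁻¹ ∈ Y ⊓ Subgroup.centralizer (Y : Set G) := by
  set Z : Subgroup G := Y ⊓ Subgroup.centralizer (Y : Set G) with hZdef
  have hZC : Z ≤ Subgroup.centralizer (Y : Set G) := inf_le_right
  have hcomm : ∀ ζ ∈ Z, ∀ x ∈ Y, x * ζ = ζ * x := fun ζ hζ x hx =>
    (Subgroup.mem_centralizer_iff.mp (hZC hζ)) x hx
  have hsqZ : ∀ x ∈ Y, x * x ∈ Z := fun x hx => by
    have := Subgroup.mem_inf.mpr ⟨Y.pow_mem hx 2, hsq x hx⟩
    rwa [pow_two] at this
  have ha2 := hsqZ a ha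
  have hb2 := hsqZ b hb
  have hbaY : b * a ∈ Y := Y.mul_mem hb ha
  have hba2 := hsqZ _ hbaY
  have e1 : b * (b * b)⁻¹ = (b * b)⁻¹ * b := hcomm _ (Z.inv_mem hb2) b hb
  have e3 : (b * a) * (b * b)⁻¹ = (b * b)⁻¹ * (b * a) := hcomm _ (Z.inv_mem hb2) _ hbaY
  have h1 : b * a * b⁻¹ * a⁻¹ = (b * b)⁻¹ * ((b * a) * (b * a)) * (a * a)⁻¹ := by
    calc b * a * b⁻¹ * a⁻¹ = b * a * (b * (b * b)⁻¹) * (a * (a * a)⁻¹) := by group
      _ = b * a * ((b * b)⁻¹ * b) * (a * (a * a)⁻¹) := by rw [e1]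
      _ = (b * a * (b * b)⁻¹) * (b * a) * (a * a)⁻¹ := by group
      _ = ((b * b)⁻¹ * (b * a)) * (b * a) * (a * a)⁻¹ := by rw [e3]
      _ = (b * b)⁻¹ * ((b * a) * (b * a)) * (a * a)⁻¹ := by group
  rw [h1]
  exact Z.mul_mem (Z.mul_mem (Z.inv_mem hb2) hba2) (Z.inv_mem ha2)

/-- **P6**.  Minimal nonabelian case with centre of order 2: `Y` is `Q₈`. -/
theorem min_q8 [Finite G] {Y : Subgroup G} {g : G} (h2 : IsPGroup 2 ↥Y) (hA : AFree Y)
    (hgo : Odd (orderOf g)) (hm : MinActs Y g)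
    (hsq : ∀ x ∈ Y, x ^ 2 ∈ Subgroup.centralizer (Y : Set G))
    (hZ : Nat.card ↥(Y ⊓ Subgroup.centralizer (Y : Set G)) = 2) : ∃ z : G, Q8Type Y z := by
  obtain ⟨hgN, hgC, hmin⟩ := hm
  set Z : Subgroup G := Y ⊓ Subgroup.centralizer (Y : Set G) with hZdef
  have hZY : Z ≤ Y := inf_le_left
  have hZC : Z ≤ Subgroup.centralizer (Y : Set G) := inf_le_right
  have hcomm : ∀ ζ ∈ Z, ∀ x ∈ Y, x * ζ = ζ * x := fun ζ hζ x hx =>
    (Subgroup.mem_centralizer_iff.mp (hZC hζ)) x hx
  have hsqZ : ∀ x ∈ Y, x ^ 2 ∈ Z := fun x hx => Subgroup.mem_inf.mpr ⟨Y.pow_mem hx 2, hsq x hx⟩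
  -- the involution `z`
  obtain ⟨z, hzZ, hz1, hZel⟩ : ∃ z ∈ Z, z ≠ 1 ∧ ∀ u ∈ Z, u = 1 ∨ u = z := by
    obtain ⟨w, hw, hwu⟩ := (Nat.card_eq_two_iff' (1 : ↥Z)).mp hZ
    refine ⟨w, w.2, fun h => hw (Subtype.ext h), fun u hu => ?_⟩
    by_cases h1 : u = 1
    · exact Or.inl h1
    · right
      have := hwu ⟨u, hu⟩ (fun h => h1 (congrArg Subtype.val h))
      exact congrArg Subtype.val this
  have hzY : z ∈ Y := hZY hzZ
  have hzz : z * z = 1 := by
    rcases hZel (z * z) (Z.mul_mem hzZ hzZ) with h | h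
    · exact h
    · exfalso; apply hz1
      have : z * z = z * 1 := by rw [h, mul_one]
      exact mul_left_cancel this
  have hz2 : z ^ 2 = 1 := by rw [pow_two]; exact hzz
  have hZsq : ∀ u ∈ Z, u * u = 1 := by
    intro u hu
    rcases hZel u hu with rfl | rfl
    · simp
    · exact hzz
  -- exponent 4
  have hexp4 : ∀ x ∈ Y, x ^ 4 = 1 := by
    intro x hx
    have h1 := hZsq (x ^ 2) (hsqZ x hx)
    rw [← pow_two, ← pow_mul] at h1
    exact h1
  -- `g` normalizes `Y`
  have hgY : ∀ x, x ∈ Y ↔ g * x * g⁻¹ ∈ Y := Subgroup.mem_normalizer_iff.mp hgN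
  -- `g` normalizes and centralizes `Z`
  have hgNZ : g ∈ Subgroup.normalizer (Z : Set G) := by
    have := Cfsg.Agent.Lib.H1.normalizer_le_normalizer_map_of_characteristic (K := Y)
      (Subgroup.center ↥Y) hgN
    rwa [Cfsg.Agent.Lib.H27.map_center_eq] at this
  have hgz : g * z * g⁻¹ = z := by
    have h1 : g * z * g⁻¹ ∈ Z := (Subgroup.mem_normalizer_iff.mp hgNZ z).mp hzZ
    rcases hZel _ h1 with h' | h'
    · exfalso; apply hz1
      have : z = g⁻¹ * (g * z * g⁻¹) * g := by group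
      rw [this, h']; group
    · exact h'
  have hgZ : ∀ ζ ∈ Z, g * ζ * g⁻¹ = ζ := by
    intro ζ hζ
    rcases hZel ζ hζ with rfl | rfl
    · group
    · exact hgz
  -- `Y` is not abelian
  have hZneY : Z ≠ Y := by
    intro h
    apply hgC
    rw [Subgroup.mem_centralizer_iff]
    intro y hy
    have hyZ : y ∈ Z := by rw [h]; exact hy
    have h1 := hgZ y hyZ
    calc y * g = (g * y * g⁻¹) * g := by rw [h1]
      _ = g * y := by group
  have hZlt : Z < Y := lt_of_le_of_ne hZY hZneY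
  obtain ⟨y0, hy0, hy0Z⟩ := SetLike.exists_of_lt hZlt
  have hnab : ¬ ∀ a ∈ Y, ∀ b ∈ Y, a * b = b * a := by
    intro hab
    apply hy0Z
    refine Subgroup.mem_inf.mpr ⟨hy0, Subgroup.mem_centralizer_iff.mpr ?_⟩
    intro h hh
    exact hab h hh y0 hy0
  -- the subgroups `U y = ⟨Z, y⟩`
  have hUY : ∀ y ∈ Y, Subgroup.closure ((Z : Set G) ∪ {y}) ≤ Y := fun y hy => closure_insert_le hZY hy
  have hUcomm : ∀ y ∈ Y, ∀ a ∈ Subgroup.closure ((Z : Set G) ∪ {y}),
      ∀ b ∈ Subgroup.closure ((Z : Set G) ∪ {y}), a * b = b * a :=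
    fun y hy => closure_insert_comm (t := y) hZY hZC hy
  have hUne : ∀ y ∈ Y, Subgroup.closure ((Z : Set G) ∪ {y}) ≠ Y := by
    intro y hy h
    apply hnab
    intro a ha b hb
    exact hUcomm y hy a (h ▸ ha) b (h ▸ hb)
  have hU4le : ∀ y ∈ Y, y ∉ Z → 4 ≤ Nat.card ↥(Subgroup.closure ((Z : Set G) ∪ {y})) := by
    intro y _ hyZ
    have := two_mul_card_le_closure_insert (Z := Z) (t := y) hyZ
    omega
  have hYU : ∀ y ∈ Y, 2 * Nat.card ↥(Subgroup.closure ((Z : Set G) ∪ {y})) ≤ Nat.card ↥Y :=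
    fun y hy => Cfsg.Agent.Lib.H22.two_mul_card_le_of_lt (hUY y hy) (hUne y hy)
  -- no cyclic subgroup of order ≥ 8
  have hncyc : ∀ B : Subgroup G, B ≤ Y → 8 ≤ Nat.card ↥B → ¬ IsCyclic ↥B := by
    intro B hBY hB8 hcyc
    obtain ⟨w, hw⟩ := IsCyclic.exists_generator (α := ↥B)
    have hord : orderOf w = Nat.card ↥B := orderOf_eq_card_of_forall_mem_zpowers hw
    have hw4 : w ^ 4 = 1 := by
      apply Subtype.ext
      simpa using hexp4 (w : G) (hBY w.2)
    have := orderOf_le_of_pow_eq_one (by norm_num : 0 < 4) hw4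
    omega
  -- conjugates
  have hconj_cases : ∀ x ∈ Y, ∀ y ∈ Y, x * y * x⁻¹ = y ∨ x * y * x⁻¹ = z * y := by
    intro x hx y hy
    have hc := comm_mem_center hsq hy hx
    have e : x * y * x⁻¹ = (x * y * x⁻¹ * y⁻¹) * y := by group
    rcases hZel _ hc with h | h
    · left; rw [e, h, one_mul]
    · right; rw [e, h]
  -- centralizers have index ≤ 2
  have hC3 : ∀ y ∈ Y, Nat.card ↥Y ≤ 2 * Nat.card ↥(Y ⊓ Subgroup.centralizer ({y} : Set G)) := by
    intro y hy
    set C := Y ⊓ Subgroup.centralizer ({y} : Set G) with hC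
    have hmemC : ∀ x ∈ Y, x * y * x⁻¹ = y → x ∈ C := by
      intro x hx h
      refine Subgroup.mem_inf.mpr ⟨hx, Subgroup.mem_centralizer_iff.mpr ?_⟩
      intro h' hh'
      rw [Set.mem_singleton_iff] at hh'; subst hh'
      calc h' * x = (x * h' * x⁻¹) * x := by rw [h]
        _ = x * h' := by group
    by_cases hall : ∀ x ∈ Y, x * y * x⁻¹ = y
    · have hYC : Y ≤ C := fun x hx => hmemC x hx (hall x hx)
      have := Subgroup.card_le_of_le hYC
      omega
    · push Not at hall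
      obtain ⟨x0, hx0, hx0y⟩ := hall
      have hx0z : x0 * y * x0⁻¹ = z * y := (hconj_cases x0 hx0 y hy).resolve_left hx0y
      have hsub : (Y : Set G) ⊆ (C : Set G) ∪ (fun c => x0 * c) '' (C : Set G) := by
        intro x hx
        rcases hconj_cases x hx y hy with h | h
        · exact Or.inl (hmemC x hx h)
        · right
          refine ⟨x0⁻¹ * x, ?_, by group⟩
          apply hmemC _ (Y.mul_mem (Y.inv_mem hx0) hx)
          have e1 : x0⁻¹ * x * y * (x0⁻¹ * x)⁻¹ = x0⁻¹ * (x * y * x⁻¹) * x0 := by group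
          rw [e1, h, ← hx0z]; group
      have hfin : ((C : Set G) ∪ (fun c => x0 * c) '' (C : Set G)).Finite := Set.toFinite _
      calc Nat.card ↥Y = (Y : Set G).ncard := Nat.card_coe_set_eq (Y : Set G)
        _ ≤ ((C : Set G) ∪ (fun c => x0 * c) '' (C : Set G)).ncard := Set.ncard_le_ncard hsub hfin
        _ ≤ (C : Set G).ncard + ((fun c => x0 * c) '' (C : Set G)).ncard := Set.ncard_union_le _ _
        _ ≤ (C : Set G).ncard + (C : Set G).ncard :=
            Nat.add_le_add_left (Set.ncard_image_le (Set.toFinite _)) _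
        _ = 2 * Nat.card ↥C := by
            have hcc : (C : Set G).ncard = Nat.card ↥C := (Nat.card_coe_set_eq (C : Set G)).symm
            omega
  -- `|Y| = 8`
  have hY8 : Nat.card ↥Y = 8 := by
    have hge : 8 ≤ Nat.card ↥Y := by
      have h1 := hU4le y0 hy0 hy0Z
      have h3 := hYU y0 hy0
      omega
    obtain ⟨n, hn⟩ := h2.exists_card_eq
    by_contra hne
    have hn4 : 4 ≤ n := by
      by_contra hlt
      push Not at hlt
      have : n = 3 := by
        by_contra hn3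
        have hn2 : n ≤ 2 := by omega
        have : 2 ^ n ≤ 2 ^ 2 := Nat.pow_le_pow_right (by norm_num) hn2
        omega
      rw [this] at hn
      exact hne (by rw [hn]; norm_num)
    have h16 : 16 ≤ Nat.card ↥Y := by
      rw [hn]
      calc 16 = 2 ^ 4 := by norm_num
        _ ≤ 2 ^ n := Nat.pow_le_pow_right (by norm_num) hn4
    set C := Y ⊓ Subgroup.centralizer ({y0} : Set G) with hC
    have hCY : C ≤ Y := inf_le_left
    have hC8 : 8 ≤ Nat.card ↥C := by
      have h3 : Nat.card ↥Y ≤ 2 * Nat.card ↥C := hC3 y0 hy0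
      omega
    set U0 := Subgroup.closure ((Z : Set G) ∪ {y0}) with hU0
    have hCy0 : ∀ c ∈ C, y0 * c = c * y0 := by
      intro c hc
      exact (Subgroup.mem_centralizer_iff.mp (Subgroup.mem_inf.mp hc).2) y0 rfl
    have hU0C : U0 ≤ C := by
      rw [hU0, Subgroup.closure_le]
      intro s hs
      rcases hs with hs | hs
      · refine Subgroup.mem_inf.mpr ⟨hZY hs, Subgroup.mem_centralizer_iff.mpr ?_⟩
        intro h' hh'
        rw [Set.mem_singleton_iff] at hh'; subst hh'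
        exact hcomm s hs h' hy0
      · rw [Set.mem_singleton_iff] at hs; subst hs
        refine Subgroup.mem_inf.mpr ⟨hy0, Subgroup.mem_centralizer_iff.mpr ?_⟩
        intro h' hh'
        rw [Set.mem_singleton_iff] at hh'; subst hh'; rfl
    have hU0cent : U0 ≤ Subgroup.centralizer (C : Set G) := by
      rw [hU0, Subgroup.closure_le]
      intro s hs
      rw [SetLike.mem_coe, Subgroup.mem_centralizer_iff]
      intro c hc
      rcases hs with hs | hs
      · exact hcomm s hs c (hCY hc)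
      · rw [Set.mem_singleton_iff] at hs; subst hs
        exact (hCy0 c hc).symm
    by_cases hUC : U0 = C
    · have hU08 : 8 ≤ Nat.card ↥U0 := by rw [hUC]; exact hC8
      exact afree_false h2 hA (hUY y0 hy0) (hUcomm y0 hy0) (hncyc U0 (hUY y0 hy0) hU08) hU08
    · have hlt : U0 < C := lt_of_le_of_ne hU0C hUC
      obtain ⟨w, hwC, hwU⟩ := SetLike.exists_of_lt hlt
      set D := Subgroup.closure ((U0 : Set G) ∪ {w}) with hD
      have hDC : D ≤ C := closure_insert_le hU0C hwC
      have hDY : D ≤ Y := hDC.trans hCY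
      have hDcomm := closure_insert_comm (Y := C) (Z := U0) (t := w) hU0C hU0cent hwC
      have hD8 : 8 ≤ Nat.card ↥D := by
        have h1 : 2 * Nat.card ↥U0 ≤ Nat.card ↥D :=
          two_mul_card_le_closure_insert (Z := U0) (t := w) hwU
        have h2' : 4 ≤ Nat.card ↥U0 := hU4le y0 hy0 hy0Z
        omega
      exact afree_false h2 hA hDY hDcomm (hncyc D hDY hD8) hD8
  have hU4 : ∀ y ∈ Y, y ∉ Z → Nat.card ↥(Subgroup.closure ((Z : Set G) ∪ {y})) = 4 := by
    intro y hy hyZ
    have h1 := hU4le y hy hyZ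
    have h3 := hYU y hy
    omega
  -- D0: `g` normalizes no `U y`
  have hD0 : ∀ y ∈ Y, y ∉ Z →
      g ∈ Subgroup.normalizer ((Subgroup.closure ((Z : Set G) ∪ {y}) : Subgroup G) : Set G) → False := by
    intro y hy hyZ hgNU
    set U := Subgroup.closure ((Z : Set G) ∪ {y}) with hU
    have hUle : U ≤ Y := hUY y hy
    have hUlt : U < Y := lt_of_le_of_ne hUle (hUne y hy)
    have hgCU : g ∈ Subgroup.centralizer (U : Set G) := hmin U hUlt hgNU
    have hcard : Nat.card ↥Y = 2 * Nat.card ↥U := by rw [hY8, hU4 y hy hyZ]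
    apply hgC
    rw [Subgroup.mem_centralizer_iff]
    intro x hx
    by_cases hxU : x ∈ U
    · exact (Subgroup.mem_centralizer_iff.mp hgCU) x hxU
    · have hgx : g * x * g⁻¹ ∈ Y := (hgY x).mp hx
      have hgxU : g * x * g⁻¹ ∉ U := fun h => hxU ((Subgroup.mem_normalizer_iff.mp hgNU x).mpr h)
      rcases mem_or_of_card_eq_two_mul hUle hcard hx hxU (g * x * g⁻¹) hgx with h | h
      · exact absurd h hgxU
      · obtain ⟨u, huU, hconj⟩ : ∃ u ∈ U, g * x * g⁻¹ = x * u :=
          ⟨x⁻¹ * (g * x * g⁻¹), h, by group⟩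
        have hgu : Commute g u := ((Subgroup.mem_centralizer_iff.mp hgCU) u huU).symm
        have hpow : ∀ j : ℕ, g ^ j * x * (g ^ j)⁻¹ = x * u ^ j := by
          intro j
          induction j with
          | zero => simp
          | succ j ih =>
            have hguj : g * u ^ j * g⁻¹ = u ^ j := by
              rw [(hgu.pow_right j).eq, mul_inv_cancel_right]
            calc g ^ (j + 1) * x * (g ^ (j + 1))⁻¹ = g * (g ^ j * x * (g ^ j)⁻¹) * g⁻¹ := by
                  rw [pow_succ']; simp only [mul_inv_rev, mul_assoc]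
              _ = g * (x * u ^ j) * g⁻¹ := by rw [ih]
              _ = (g * x * g⁻¹) * (g * u ^ j * g⁻¹) := by simp only [mul_assoc, inv_mul_cancel_left]
              _ = x * u * u ^ j := by rw [hconj, hguj]
              _ = x * u ^ (j + 1) := by rw [pow_succ', mul_assoc]
        have hun : u ^ orderOf g = 1 := by
          have h1 := hpow (orderOf g)
          rw [pow_orderOf_eq_one, one_mul, inv_one, mul_one] at h1
          have : x * 1 = x * u ^ orderOf g := by rw [mul_one]; exact h1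
          exact (mul_left_cancel this).symm
        have hu4 : u ^ 4 = 1 := hexp4 u (hUle huU)
        have hu1 : u = 1 := by
          have hd1 : orderOf u ∣ orderOf g := orderOf_dvd_of_pow_eq_one hun
          have hd2 : orderOf u ∣ 4 := orderOf_dvd_of_pow_eq_one hu4
          have hcop : Nat.Coprime (orderOf g) 4 := by
            have : Nat.Coprime (orderOf g) 2 := Nat.Coprime.symm (Nat.coprime_two_left.mpr hgo)
            exact (this.pow_right 2)
          have := Nat.dvd_gcd hd1 hd2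
          rw [hcop.gcd_eq_one, Nat.dvd_one] at this
          exact orderOf_eq_one_iff.mp this
        rw [hu1, mul_one] at hconj
        calc x * g = (g * x * g⁻¹) * g := by rw [hconj]
          _ = g * x := by group
  -- Dh
  have hDh : ∀ h : G, g ∈ Subgroup.zpowers h → (∀ ζ ∈ Z, h * ζ * h⁻¹ = ζ) → ∀ y ∈ Y, y ∉ Z →
      h * y * h⁻¹ ∈ Subgroup.closure ((Z : Set G) ∪ {y}) → False := by
    intro h hgh hhZ y hy hyZ hmem
    apply hD0 y hy hyZ
    have hhN : h ∈ Subgroup.normalizer ((Subgroup.closure ((Z : Set G) ∪ {y}) : Subgroup G) : Set G) := by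
      apply Subgroup.mem_normalizer_fintype
      intro n hn
      refine conj_mem_closure (fun s hs => ?_) n hn
      rcases hs with hs | hs
      · rw [hhZ s hs]; exact Subgroup.subset_closure (Or.inl hs)
      · rw [Set.mem_singleton_iff] at hs; subst hs; exact hmem
    exact (Subgroup.zpowers_le.mpr hhN) hgh
  -- squares
  have hE : ∀ y ∈ Y, y ∉ Z → y ^ 2 = z := by
    intro y hy hyZ
    rcases hZel (y ^ 2) (hsqZ y hy) with hy2 | hy2
    swap
    · exact hy2
    exfalso
    have hyy : y * y = 1 := by rwa [pow_two] at hy2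
    set U := Subgroup.closure ((Z : Set G) ∪ {y}) with hU
    have hUle : U ≤ Y := hUY y hy
    have hcardY : Nat.card ↥Y = 2 * Nat.card ↥U := by rw [hY8, hU4 y hy hyZ]
    have hcardU : Nat.card ↥U = 2 * Nat.card ↥Z := by rw [hU4 y hy hyZ, hZ]
    have hZU : Z ≤ U := le_closure_insert
    have hyU : y ∈ U := mem_closure_insert
    obtain ⟨y1, hy1def⟩ : ∃ y1, y1 = g * y * g⁻¹ := ⟨_, rfl⟩
    have hy1Y : y1 ∈ Y := by rw [hy1def]; exact (hgY y).mp hy
    have hy1U : y1 ∉ U := fun h =>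
      hDh g (Subgroup.mem_zpowers g) hgZ y hy hyZ (by rw [← hy1def]; exact h)
    have hy1Z : y1 ∉ Z := fun h => hy1U (hZU h)
    obtain ⟨y2, hy2def⟩ : ∃ y2, y2 = g * y1 * g⁻¹ := ⟨_, rfl⟩
    have hy2Y : y2 ∈ Y := by rw [hy2def]; exact (hgY y1).mp hy1Y
    have hy2U1 : y2 ∉ Subgroup.closure ((Z : Set G) ∪ {y1}) := fun h =>
      hDh g (Subgroup.mem_zpowers g) hgZ y1 hy1Y hy1Z (by rw [← hy2def]; exact h)
    have hy2U : y2 ∉ U := by
      intro h
      refine hDh (g * g) ?_ ?_ y hy hyZ ?_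
      · -- `g ∈ zpowers (g * g)`
        obtain ⟨r, hr⟩ := hgo
        have hgg : (g * g) ^ (r + 1) = g := by
          rw [← pow_two, ← pow_mul]
          have : 2 * (r + 1) = orderOf g + 1 := by omega
          rw [this, pow_succ, pow_orderOf_eq_one, one_mul]
        have hmem' : (g * g) ^ (r + 1) ∈ Subgroup.zpowers (g * g) :=
          Subgroup.pow_mem _ (Subgroup.mem_zpowers _) _
        rw [hgg] at hmem'
        exact hmem'
      · intro ζ hζ
        have : g * g * ζ * (g * g)⁻¹ = g * (g * ζ * g⁻¹) * g⁻¹ := by group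
        rw [this, hgZ ζ hζ, hgZ ζ hζ]
      · have : g * g * y * (g * g)⁻¹ = y2 := by rw [hy2def, hy1def]; group
        rw [this]; exact h
    have hy1sq : y1 * y1 = 1 := by
      rw [hy1def]
      calc g * y * g⁻¹ * (g * y * g⁻¹) = g * (y * y) * g⁻¹ := by group
        _ = 1 := by rw [hyy]; group
    have hy2sq : y2 * y2 = 1 := by
      rw [hy2def]
      calc g * y1 * g⁻¹ * (g * y1 * g⁻¹) = g * (y1 * y1) * g⁻¹ := by group
        _ = 1 := by rw [hy1sq]; group
    -- decomposition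
    rcases mem_or_of_card_eq_two_mul hUle hcardY hy1Y hy1U y2 hy2Y with h1 | h1
    · exact hy2U h1
    rcases mem_or_of_card_eq_two_mul hZU hcardU hyU hyZ (y1⁻¹ * y2) h1 with h2' | h2'
    · apply hy2U1
      have : y2 = y1 * (y1⁻¹ * y2) := by group
      rw [this]
      exact Subgroup.mul_mem _ mem_closure_insert (le_closure_insert h2')
    · obtain ⟨ζ, hζZ, hy2eq⟩ : ∃ ζ ∈ Z, y2 = y1 * y * ζ := ⟨y⁻¹ * (y1⁻¹ * y2), h2', by group⟩
      have hy1y : y1 * y ∈ Y := Y.mul_mem hy1Y hy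
      have hζζ : ζ * ζ = 1 := hZsq ζ hζZ
      have hsq1 : (y1 * y) * (y1 * y) = 1 := by
        have e : y2 * y2 = (y1 * y) * (y1 * y) * (ζ * ζ) := by
          rw [hy2eq]
          calc y1 * y * ζ * (y1 * y * ζ) = (y1 * y) * (ζ * (y1 * y)) * ζ := by group
            _ = (y1 * y) * ((y1 * y) * ζ) * ζ := by rw [hcomm ζ hζZ (y1 * y) hy1y]
            _ = (y1 * y) * (y1 * y) * (ζ * ζ) := by group
        rw [hy2sq, hζζ, mul_one] at e
        exact e.symm
      have hyinv : y⁻¹ = y := inv_eq_of_mul_eq_one_right hyy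
      have hy1inv : y1⁻¹ = y1 := inv_eq_of_mul_eq_one_right hy1sq
      have hcomm1 : y1 * y = y * y1 := by
        have : (y1 * y)⁻¹ = y1 * y := inv_eq_of_mul_eq_one_right hsq1
        rw [mul_inv_rev, hyinv, hy1inv] at this
        exact this.symm
      apply hyZ
      refine Subgroup.mem_inf.mpr ⟨hy, Subgroup.mem_centralizer_iff.mpr ?_⟩
      intro x hx
      rcases mem_or_of_card_eq_two_mul hUle hcardY hy1Y hy1U x hx with hxU | hxU
      · exact hUcomm y hy x hxU y hyU
      · obtain ⟨u', hu'U, hx'⟩ : ∃ u' ∈ U, x = y1 * u' := ⟨y1⁻¹ * x, hxU, by group⟩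
        have hu'y : u' * y = y * u' := hUcomm y hy u' hu'U y hyU
        rw [hx']
        calc y1 * u' * y = y1 * (u' * y) := by group
          _ = y1 * (y * u') := by rw [hu'y]
          _ = (y1 * y) * u' := by group
          _ = (y * y1) * u' := by rw [hcomm1]
          _ = y * (y1 * u') := by group
  refine ⟨z, hY8, hzY, hz1, hz2, ?_⟩
  intro y hy hy1 hyz
  apply hE y hy
  intro hyZ
  rcases hZel y hyZ with h | h
  · exact hy1 h
  · exact hyz h

end Cfsg.Agent.Lib.H23.TwoMin
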