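import Cfsg.Agent.Lib.H23.TwoPrimesA

/-!
# Two primes in `(n, 2n]` for `n ≥ 6` (helper23)

Adaptation of Mathlib's proof of Bertrand's postulate: if `(n, 2n]` contained at most one
prime, the central binomial coefficient would be too small.
-/

set_option autoImplicit false

namespace Cfsg.Agent.Lib.H23.TwoPrimes

open Nat

theorem main_inequality' {n : ℕ} (n_large : 512 ≤ n) :
    n * (2 * n) * (2 * n) ^ sqrt (2 * n) * 4 ^ (2 * n / 3) ≤ 4 ^ n := by
  rw [← @cast_le ℝ]
  simp only [cast_mul, cast_pow, ← Real.rpow_natCast, cast_ofNat]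
  refine _root_.trans ?_ (real_main_inequality' (by exact_mod_cast n_large))
  gcongr
  · have n2_pos : 0 < 2 * n := by positivity
    exact mod_cast n2_pos
  · exact_mod_cast Real.nat_sqrt_le_real_sqrt
  · norm_num1
  · exact cast_div_le.trans (by norm_cast)

/-- The part of the central binomial coefficient coming from primes at most `2n/3`. -/
theorem prod_small_le (n : ℕ) (n_large : 2 < n) :
    ∏ p ∈ Finset.range (2 * n / 3 + 1), p ^ (centralBinom n).factorization p
      ≤ (2 * n) ^ sqrt (2 * n) * 4 ^ (2 * n / 3) := by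
  have n_pos : 0 < n := (Nat.zero_le _).trans_lt n_large
  have n2_pos : 1 ≤ 2 * n := mul_pos (zero_lt_two' ℕ) n_pos
  let S := {p ∈ Finset.range (2 * n / 3 + 1) | Nat.Prime p}
  let f x := x ^ n.centralBinom.factorization x
  have : ∏ x ∈ S, f x = ∏ x ∈ Finset.range (2 * n / 3 + 1), f x := by
    refine Finset.prod_filter_of_ne fun p _ h => ?_
    contrapose h; dsimp only [f]
    rw [factorization_eq_zero_of_not_prime n.centralBinom h, _root_.pow_zero]
  rw [← this, ← Finset.prod_filter_mul_prod_filter_not S (· ≤ sqrt (2 * n))]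
  apply mul_le_mul'
  · refine (Finset.prod_le_prod' fun p _ => (?_ : f p ≤ 2 * n)).trans ?_
    · exact pow_factorization_choose_le (mul_pos two_pos n_pos)
    have : (Finset.Icc 1 (sqrt (2 * n))).card = sqrt (2 * n) := by rw [card_Icc, Nat.add_sub_cancel]
    rw [Finset.prod_const]
    refine pow_right_mono₀ n2_pos ((Finset.card_le_card fun x hx => ?_).trans this.le)
    obtain ⟨h1, h2⟩ := Finset.mem_filter.1 hx
    exact Finset.mem_Icc.mpr ⟨(Finset.mem_filter.1 h1).2.one_lt.le, h2⟩
  · refine le_trans ?_ (primorial_le_four_pow (2 * n / 3))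
    refine (Finset.prod_le_prod' fun p hp => (?_ : f p ≤ p)).trans ?_
    · obtain ⟨h1, h2⟩ := Finset.mem_filter.1 hp
      refine (pow_right_mono₀ (Finset.mem_filter.1 h1).2.one_lt.le ?_).trans (pow_one p).le
      exact Nat.factorization_choose_le_one (sqrt_lt'.mp <| not_le.1 h2)
    refine Finset.prod_le_prod_of_subset_of_one_le' (Finset.filter_subset _ _) ?_
    exact fun p hp _ => (Finset.mem_filter.1 hp).2.one_lt.le

/-- If `(n, 2n]` contains at most one prime, the central binomial coefficient is small. -/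
theorem centralBinom_le_of_one_prime (n : ℕ) (n_large : 2 < n) (q₀ : ℕ)
    (h : ∀ p : ℕ, p.Prime → n < p → p ≤ 2 * n → p = q₀) :
    centralBinom n ≤ (2 * n) ^ sqrt (2 * n) * 4 ^ (2 * n / 3) * (2 * n) := by
  have n_pos : 0 < n := (Nat.zero_le _).trans_lt n_large
  let f : ℕ → ℕ := fun x => x ^ n.centralBinom.factorization x
  have hle : 2 * n / 3 + 1 ≤ 2 * n + 1 := by omega
  have hsplit : centralBinom n =
      (∏ p ∈ Finset.range (2 * n / 3 + 1), f p) * ∏ p ∈ Finset.Ico (2 * n / 3 + 1) (2 * n + 1), f p := by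
    rw [Finset.prod_range_mul_prod_Ico f hle]
    exact (n.prod_pow_factorization_centralBinom).symm
  have hone : ∀ b ∈ Finset.Ico (2 * n / 3 + 1) (2 * n + 1), b ≠ q₀ → f b = 1 := by
    intro b hb hbq
    obtain ⟨hb1, hb2⟩ := Finset.mem_Ico.1 hb
    dsimp only [f]
    by_cases hbp : b.Prime
    · rcases Nat.lt_or_ge n b with hnb | hnb
      · exact absurd (h b hbp hnb (by omega)) hbq
      · rw [factorization_centralBinom_of_two_mul_self_lt_three_mul n_large hnb (by omega),
          _root_.pow_zero]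
    · rw [factorization_eq_zero_of_not_prime n.centralBinom hbp, _root_.pow_zero]
  have hsecond : ∏ p ∈ Finset.Ico (2 * n / 3 + 1) (2 * n + 1), f p ≤ 2 * n := by
    by_cases hq : q₀ ∈ Finset.Ico (2 * n / 3 + 1) (2 * n + 1)
    · rw [Finset.prod_eq_single_of_mem q₀ hq hone]
      exact pow_factorization_choose_le (mul_pos two_pos n_pos)
    · rw [Finset.prod_eq_one]
      · omega
      · intro b hb
        exact hone b hb (fun hbq => hq (hbq ▸ hb))
  rw [hsplit]
  exact Nat.mul_le_mul (prod_small_le n n_large) hsecond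

/-- Two primes in `(n, 2n]` for large `n`. -/
theorem exists_two_primes_eventually (n : ℕ) (n_large : 512 ≤ n) :
    ∃ p q : ℕ, p.Prime ∧ q.Prime ∧ p ≠ q ∧ n < p ∧ p ≤ 2 * n ∧ n < q ∧ q ≤ 2 * n := by
  obtain ⟨q₀, hq₀, hq₀1, hq₀2⟩ := Nat.exists_prime_lt_and_le_two_mul n (by omega)
  by_contra hne
  have h : ∀ p : ℕ, p.Prime → n < p → p ≤ 2 * n → p = q₀ := by
    intro p hp hp1 hp2
    by_contra hpq
    exact hne ⟨p, q₀, hp, hq₀, hpq, hp1, hp2, hq₀1, hq₀2⟩
  have h1 : 4 ^ n < n * n.centralBinom :=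
    Nat.four_pow_lt_mul_centralBinom n (le_trans (by norm_num1) n_large)
  have h2 := centralBinom_le_of_one_prime n (by omega) q₀ h
  have h3 := main_inequality' n_large
  have h4 : n * n.centralBinom ≤ 4 ^ n := by
    calc n * n.centralBinom ≤ n * ((2 * n) ^ sqrt (2 * n) * 4 ^ (2 * n / 3) * (2 * n)) :=
          Nat.mul_le_mul_left _ h2
      _ = n * (2 * n) * (2 * n) ^ sqrt (2 * n) * 4 ^ (2 * n / 3) := by ring
      _ ≤ 4 ^ n := h3
  omega

end Cfsg.Agent.Lib.H23.TwoPrimes
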