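import Cfsg.Agent.Lib.H23.UP2Util

/-!
# UP2-B1 (helper23): `SU_n(q)` stabilises no proper non-zero subspace
-/

set_option autoImplicit false

namespace Cfsg.Agent.Lib.H23.UP2

open Cfsg Cfsg.Geo Cfsg.Agent.Lib.H17.Asch Cfsg.Agent.Lib.H28
open scoped MatrixGroups Matrix

variable {F : Type*} [Field F] [Fintype F] {n q : ℕ}

/-- If not all isotropic vectors lie in a subspace `X ≠ ⊤`. -/
theorem exists_isotropic_notMem (hF : Fintype.card F = q ^ 2) (hn : 2 ≤ n)
    (X : Submodule F (Fin n → F)) (hX : X ≠ ⊤) :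
    ∃ v : Fin n → F, hermForm n F q v v = 0 ∧ v ∉ X := by
  by_contra hcon
  push Not at hcon
  apply hX
  rw [eq_top_iff, ← span_isotropic hF hn]
  exact Submodule.span_le.2 fun v hv => hcon v hv

/-- **UP2-B1**. -/
theorem not_su_le_subspaceStabilizer (hF : Fintype.card F = q ^ 2) (hn : 3 ≤ n)
    (W : Submodule F (Fin n → F)) (h0 : W ≠ ⊥) (h1 : W ≠ ⊤) :
    ¬ GU n F q ⊓ specialLinear (Fin n) F ≤ subspaceStabilizer W := by
  intro hle
  obtain ⟨a, ha0, ha⟩ := exists_tr0 hF
  have key : ∀ v : Fin n → F, hermForm n F q v v = 0 → v ∈ W ∨ v ∈ perpQ hF W := by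
    intro v hv
    by_contra hcon
    push Not at hcon
    obtain ⟨hvW, hvP⟩ := hcon
    rw [mem_perpQ'] at hvP
    push Not at hvP
    obtain ⟨w, hw, hwv⟩ := hvP
    have hmem := hle (utv_mem hF a v hv ha)
    have h2 := ((mem_subspaceStabilizer_iff _ W).1 hmem w).1 hw
    rw [utv_mulVec] at h2
    have h3 : (a * hermForm n F q w v) • v ∈ W := by
      have := W.sub_mem h2 hw
      rwa [add_sub_cancel_left] at this
    have h4 := W.smul_mem (a * hermForm n F q w v)⁻¹ h3
    rw [smul_smul, inv_mul_cancel₀ (mul_ne_zero ha0 hwv), one_smul] at h4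
    exact hvW h4
  have hP1 : perpQ hF W ≠ ⊤ := by
    intro h
    have h2 := finrank_perpQ hF W
    rw [h, finrank_top, Module.finrank_fin_fun] at h2
    have h3 : 0 < Module.finrank F W := by
      rw [Module.finrank_pos_iff_exists_ne_zero]
      obtain ⟨w, hw, hw0⟩ := Submodule.exists_mem_ne_zero_of_ne_bot h0
      exact ⟨⟨w, hw⟩, fun h => hw0 (congrArg Subtype.val h)⟩
    have h4 : Module.finrank F W ≤ n := by
      have := Submodule.finrank_le W
      rwa [Module.finrank_fin_fun] at this
    omega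
  obtain ⟨v', hv', hv'W⟩ := exists_isotropic_notMem hF (by omega) W h1
  obtain ⟨v, hv, hvP⟩ := exists_isotropic_notMem hF (by omega) (perpQ hF W) hP1
  have hv'P : v' ∈ perpQ hF W := (key v' hv').resolve_left hv'W
  have hvW : v ∈ W := (key v hv).resolve_right hvP
  have e1 : hermForm n F q v' v = 0 := (mem_perpQ hF W v').1 hv'P v hvW
  have e2 : hermForm n F q v v' = 0 := (mem_perpQ' hF W v').1 hv'P v hvW
  have hiso : hermForm n F q (v + v') (v + v') = 0 := by
    rw [herm_add_left, herm_add_right hF, herm_add_right hF, hv, hv', e1, e2]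
    ring
  rcases key (v + v') hiso with h | h
  · apply hv'W
    have := W.sub_mem h hvW
    rwa [add_sub_cancel_left] at this
  · apply hvP
    have := (perpQ hF W).sub_mem h hv'P
    rwa [add_sub_cancel_right] at this

end Cfsg.Agent.Lib.H23.UP2
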