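import Cfsg.Agent.Lib.H23.UP2B1
import Cfsg.Agent.Lib.H2.AschP2B2F1

/-!
# UP2-B2 (helper23): `SU_n(q)` stabilises no decomposition into blocks of dimension `≥ 2`
-/

set_option autoImplicit false

namespace Cfsg.Agent.Lib.H23.UP2

open Cfsg Cfsg.Geo Cfsg.Agent.Lib.H17.Asch Cfsg.Agent.Lib.H28
open scoped MatrixGroups Matrix

variable {F : Type*} [Field F] [Fintype F] {n q : ℕ}

omit [Fintype F] in
/-- A functional has a non-zero kernel vector in every subspace of dimension at least 2. -/
theorem exists_ne_zero_mem_ker {V : Type*} [AddCommGroup V] [Module F V] [FiniteDimensional F V]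
    (X : Submodule F V) (φ : V →ₗ[F] F) (h : 2 ≤ Module.finrank F X) :
    ∃ x ∈ X, x ≠ 0 ∧ φ x = 0 := by
  set ψ : X →ₗ[F] F := φ.domRestrict X with hψ
  have h1 := LinearMap.finrank_range_add_finrank_ker ψ
  have h2 : Module.finrank F (LinearMap.range ψ) ≤ 1 := by
    have := Submodule.finrank_le (LinearMap.range ψ)
    rwa [Module.finrank_self] at this
  have h3 : 0 < Module.finrank F (LinearMap.ker ψ) := by omega
  rw [Module.finrank_pos_iff_exists_ne_zero] at h3
  obtain ⟨y, hy⟩ := h3
  refine ⟨(y : X), (y : X).2, ?_, ?_⟩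
  · intro h0
    apply hy
    apply Subtype.ext
    apply Subtype.ext
    exact h0
  · have := y.2
    rw [LinearMap.mem_ker] at this
    exact this

omit [Fintype F] in
theorem mulVec_mem_of_map_eq {g : GL (Fin n) F} {X Y : Submodule F (Fin n → F)}
    (h : X.map (Matrix.toLin' (g : Matrix (Fin n) (Fin n) F)) = Y) {x : Fin n → F} (hx : x ∈ X) :
    (g : Matrix (Fin n) (Fin n) F) *ᵥ x ∈ Y := by
  rw [← h]
  exact ⟨x, hx, by rw [Matrix.toLin'_apply]⟩

/-- In a stabilised decomposition into blocks of dimension `≥ 2`, every non-zero isotropic vector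
lies in a block. -/
theorem exists_mem_block (hF : Fintype.card F = q ^ 2) {t k : ℕ}
    (D : Fin t → Submodule F (Fin n → F)) (hD : IsMDecomposition k D) (hk : 2 ≤ k)
    (hle : GU n F q ⊓ specialLinear (Fin n) F ≤ decompositionStabilizer D)
    (v : Fin n → F) (hv : hermForm n F q v v = 0) (hv0 : v ≠ 0) : ∃ i, v ∈ D i := by
  classical
  obtain ⟨a, ha0, ha⟩ := exists_tr0 hF
  obtain ⟨σ, hσ⟩ := hle (utv_mem hF a v hv ha)
  have hσi : ∀ i, σ i = i := by
    intro i
    by_contra hne
    obtain ⟨x, hxD, hx0, hxv⟩ := exists_ne_zero_mem_ker (D i) (Bq hF n v)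
      (by rw [hD.finrank_eq i]; exact hk)
    rw [Bq_apply] at hxv
    have h1 := mulVec_mem_of_map_eq (hσ i) hxD
    rw [utv_mulVec, hxv, mul_zero, zero_smul, add_zero] at h1
    have h2 : Disjoint (D i) (D (σ i)) := hD.indep.pairwiseDisjoint (Ne.symm hne)
    exact hx0 ((Submodule.disjoint_def.1 h2) x hxD h1)
  by_contra hcon
  push Not at hcon
  apply hv0
  apply eq_zero_of_herm_eq_zero hF
  have hker : ∀ i, D i ≤ LinearMap.ker (Bq hF n v) := by
    intro i x hx
    rw [LinearMap.mem_ker, Bq_apply]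
    by_contra hne
    have h1 := mulVec_mem_of_map_eq (hσ i) hx
    rw [hσi i, utv_mulVec] at h1
    have h3 : (a * hermForm n F q x v) • v ∈ D i := by
      have := (D i).sub_mem h1 hx
      rwa [add_sub_cancel_left] at this
    have h4 := (D i).smul_mem (a * hermForm n F q x v)⁻¹ h3
    rw [smul_smul, inv_mul_cancel₀ (mul_ne_zero ha0 hne), one_smul] at h4
    exact hcon i h4
  intro u
  have hu : u ∈ iSup D := by rw [hD.iSup_eq_top]; exact Submodule.mem_top
  have := (iSup_le hker) hu
  rw [LinearMap.mem_ker, Bq_apply] at this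
  exact this

/-- **UP2-B2**. -/
theorem not_su_le_decompositionStabilizer (hF : Fintype.card F = q ^ 2) (hn : 3 ≤ n) {t k : ℕ}
    (D : Fin t → Submodule F (Fin n → F)) (hD : IsMDecomposition k D) (hk : 2 ≤ k) :
    ¬ GU n F q ⊓ specialLinear (Fin n) F ≤ decompositionStabilizer D := by
  classical
  intro hle
  have htk := Cfsg.Agent.Lib.H2.AschP2.mul_eq_of_isMDecomposition D hD
  have ht := hD.two_le
  have hne_top : ∀ j, D j ≠ ⊤ := by
    intro j h
    have h1 := hD.finrank_eq j
    rw [h, finrank_top, Module.finrank_fin_fun] at h1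
    have : 2 * k ≤ t * k := Nat.mul_le_mul_right k ht
    omega
  have hblock := exists_mem_block hF D hD hk hle
  obtain ⟨v', hv', hv'0⟩ := exists_isotropic_notMem hF (by omega) (D ⟨0, by omega⟩) (hne_top _)
  have hv'ne : v' ≠ 0 := by
    rintro rfl
    exact hv'0 (Submodule.zero_mem _)
  obtain ⟨j, hj⟩ := hblock v' hv' hv'ne
  obtain ⟨v, hv, hvj⟩ := exists_isotropic_notMem hF (by omega) (D j) (hne_top j)
  have hvne : v ≠ 0 := by
    rintro rfl
    exact hvj (Submodule.zero_mem _)
  obtain ⟨i, hi⟩ := hblock v hv hvne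
  have hij : i ≠ j := by
    rintro rfl
    exact hvj hi
  obtain ⟨c, hc0, hc⟩ := exists_isotropic_add hF v v' hv hv'
  have hw0 : v + c • v' ≠ 0 := by
    intro h
    apply hvj
    have : v = -(c • v') := eq_neg_of_add_eq_zero_left h
    rw [this]
    exact (D j).neg_mem ((D j).smul_mem c hj)
  obtain ⟨l, hl⟩ := hblock _ hc hw0
  by_cases hli : l = i
  · subst hli
    have h1 : c • v' ∈ D l := by
      have := (D l).sub_mem hl hi
      rwa [add_sub_cancel_left] at this
    have h2 := (D l).smul_mem c⁻¹ h1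
    rw [smul_smul, inv_mul_cancel₀ hc0, one_smul] at h2
    have h3 : Disjoint (D l) (D j) := hD.indep.pairwiseDisjoint hij
    exact hv'ne ((Submodule.disjoint_def.1 h3) v' h2 hj)
  · have h1 : v ∈ ⨆ (m) (_ : m ≠ i), D m := by
      have e : v = (v + c • v') - c • v' := by abel
      rw [e]
      refine Submodule.sub_mem _ ?_ ?_
      · exact (le_iSup₂ (f := fun (m : Fin t) (_ : m ≠ i) => D m) l hli) hl
      · exact (le_iSup₂ (f := fun (m : Fin t) (_ : m ≠ i) => D m) j (Ne.symm hij))
          ((D j).smul_mem c hj)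
    exact hvne ((Submodule.disjoint_def.1 (hD.indep i)) v hi h1)

end Cfsg.Agent.Lib.H23.UP2
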