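import Cfsg.Agent.Lib.Lead.AschUDefs
import Cfsg.Agent.Lib.H28.GLBasic
import Cfsg.Agent.Lib.H2.HermCount
import Cfsg.Agent.Lib.H17.AschUM1
import Cfsg.Agent.Lib.H4.AschUM3

/-!
# Unitary transvections and isotropic vectors (helper23, for the UP2 farm-out of helper15)

`|F| = q²`, `f = hermForm n F q`.
* `herm_add_left`, `herm_smul_left`, `herm_add_right`, `herm_smul_right`: sesquilinearity;
* `exists_tr0`: some `a ≠ 0` has `a + a ^ q = 0`;
* `exists_norm_eq`, `exists_two_norm_eq`: the norm `x ↦ x x^q` is onto the fixed field;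
* `utv hF a v hv`: the unitary transvection `x ↦ x + (a f(x,v)) v`; `utv_mulVec`, `utv_mem`;
* `span_isotropic`: the isotropic vectors span `F^n` (`n ≥ 2`);
* `exists_isotropic_add`: for isotropic `v, v'` some `v + c v'`, `c ≠ 0`, is isotropic.
-/

set_option autoImplicit false

namespace Cfsg.Agent.Lib.H23.UP2

open Cfsg Cfsg.Geo Cfsg.Agent.Lib.H17.Asch Cfsg.Agent.Lib.H28
open scoped MatrixGroups Matrix

variable {F : Type*} [Field F] [Fintype F] {n q : ℕ}

theorem q_pos (hF : Fintype.card F = q ^ 2) : 0 < q := by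
  have := Cfsg.Agent.Lib.H2.Herm.two_le_q hF
  omega

omit [Fintype F] in
theorem herm_add_left (u u' v : Fin n → F) :
    hermForm n F q (u + u') v = hermForm n F q u v + hermForm n F q u' v := by
  unfold hermForm
  rw [← Finset.sum_add_distrib]
  refine Finset.sum_congr rfl fun i _ => ?_
  rw [Pi.add_apply, add_mul]

omit [Fintype F] in
theorem herm_smul_left (c : F) (u v : Fin n → F) :
    hermForm n F q (c • u) v = c * hermForm n F q u v := by
  unfold hermForm
  rw [Finset.mul_sum]
  refine Finset.sum_congr rfl fun i _ => ?_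
  rw [Pi.smul_apply, smul_eq_mul, mul_assoc]

theorem herm_add_right (hF : Fintype.card F = q ^ 2) (u v v' : Fin n → F) :
    hermForm n F q u (v + v') = hermForm n F q u v + hermForm n F q u v' := by
  unfold hermForm
  rw [← Finset.sum_add_distrib]
  refine Finset.sum_congr rfl fun i _ => ?_
  rw [Pi.add_apply, Cfsg.Agent.Lib.H2.Herm.add_pow_q hF, mul_add]

omit [Fintype F] in
theorem herm_smul_right (c : F) (u v : Fin n → F) :
    hermForm n F q u (c • v) = c ^ q * hermForm n F q u v := by
  unfold hermForm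
  rw [Finset.mul_sum]
  refine Finset.sum_congr rfl fun i _ => ?_
  rw [Pi.smul_apply, smul_eq_mul, mul_pow]
  ring

theorem herm_zero_left (hF : Fintype.card F = q ^ 2) (v : Fin n → F) :
    hermForm n F q 0 v = 0 := by
  have := q_pos hF
  unfold hermForm
  simp

theorem herm_zero_right (hF : Fintype.card F = q ^ 2) (u : Fin n → F) :
    hermForm n F q u 0 = 0 := by
  have := q_pos hF
  unfold hermForm
  simp [zero_pow (by omega : q ≠ 0)]

omit [Fintype F] in
theorem herm_sub_left (u u' v : Fin n → F) :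
    hermForm n F q (u - u') v = hermForm n F q u v - hermForm n F q u' v := by
  have h := herm_add_left (q := q) (u - u') u' v
  rw [sub_add_cancel] at h
  rw [h, add_sub_cancel_right]

/-- Nondegeneracy: a vector orthogonal to everything is zero. -/
theorem eq_zero_of_herm_eq_zero (hF : Fintype.card F = q ^ 2) {v : Fin n → F}
    (h : ∀ u, hermForm n F q u v = 0) : v = 0 := by
  have hq := q_pos hF
  funext i
  have h1 := h (Pi.single i 1)
  unfold hermForm at h1
  simp only [Pi.single_apply, ite_mul, one_mul, zero_mul, Finset.sum_ite_eq', Finset.mem_univ,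
    if_true] at h1
  exact (pow_eq_zero_iff (by omega)).1 h1

/-- An element of trace zero. -/
theorem exists_tr0 (hF : Fintype.card F = q ^ 2) : ∃ a : F, a ≠ 0 ∧ a + a ^ q = 0 := by
  obtain ⟨x, hx⟩ := Cfsg.Agent.Lib.H4.Asch.exists_pow_ne hF
  refine ⟨x - x ^ q, sub_ne_zero.2 (Ne.symm hx), ?_⟩
  rw [Cfsg.Agent.Lib.H2.Herm.sub_pow_q hF, Cfsg.Agent.Lib.H2.Herm.pow_q_pow_q hF]
  ring

/-- The norm is onto the fixed field: at least two preimages for non-zero `c`. -/
theorem exists_two_norm_eq (hF : Fintype.card F = q ^ 2) (c : F) (hc0 : c ≠ 0) (hc : c ^ q = c) :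
    ∃ x y : F, x ≠ y ∧ x * x ^ q = c ∧ y * y ^ q = c := by
  classical
  have hq := Cfsg.Agent.Lib.H2.Herm.two_le_q hF
  have h1 := Cfsg.Agent.Lib.H2.Herm.card_N_fiber hF c hc0 hc
  have h2 : 1 < Nat.card {x : F // Cfsg.Agent.Lib.H2.Herm.N q x = c} := by rw [h1]; omega
  rw [Nat.card_eq_fintype_card, Fintype.one_lt_card_iff] at h2
  obtain ⟨x, y, hxy⟩ := h2
  exact ⟨x.1, y.1, fun h => hxy (Subtype.ext h), x.2, y.2⟩

theorem exists_norm_eq (hF : Fintype.card F = q ^ 2) (c : F) (hc : c ^ q = c) :
    ∃ x : F, x * x ^ q = c := by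
  by_cases hc0 : c = 0
  · exact ⟨0, by rw [hc0, zero_mul]⟩
  · obtain ⟨x, -, -, hx, -⟩ := exists_two_norm_eq hF c hc0 hc
    exact ⟨x, hx⟩

theorem neg_one_pow_q (hF : Fintype.card F = q ^ 2) : ((-1 : F)) ^ q = -1 := by
  have h := Cfsg.Agent.Lib.H2.Herm.sub_pow_q hF (0 : F) 1
  have hq := q_pos hF
  rw [zero_sub, zero_pow (by omega), one_pow, zero_sub] at h
  exact h

/-- `f v v` lies in the fixed field. -/
theorem herm_self_pow (hF : Fintype.card F = q ^ 2) (v : Fin n → F) :
    (hermForm n F q v v) ^ q = hermForm n F q v v :=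
  (herm_symm hF v v).symm

/-- The functional `x ↦ a f(x, v)`. -/
noncomputable def hermDual (hF : Fintype.card F = q ^ 2) (a : F) (v : Fin n → F) :
    Module.Dual F (Fin n → F) := a • Bq hF n v

theorem hermDual_apply (hF : Fintype.card F = q ^ 2) (a : F) (v x : Fin n → F) :
    hermDual hF a v x = a * hermForm n F q x v := by
  unfold hermDual
  rw [LinearMap.smul_apply, Bq_apply, smul_eq_mul]

/-- The unitary transvection `x ↦ x + (a f(x,v)) v` (`f v v = 0`). -/
noncomputable def utv (hF : Fintype.card F = q ^ 2) (a : F) (v : Fin n → F)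
    (hv : hermForm n F q v v = 0) : GL (Fin n) F :=
  tvGL (hermDual hF a v) v (by rw [hermDual_apply, hv, mul_zero])

theorem utv_mulVec (hF : Fintype.card F = q ^ 2) (a : F) (v : Fin n → F)
    (hv : hermForm n F q v v = 0) (x : Fin n → F) :
    ((utv hF a v hv : GL (Fin n) F) : Matrix (Fin n) (Fin n) F) *ᵥ x =
      x + (a * hermForm n F q x v) • v := by
  unfold utv
  rw [tvGL_mulVec, hermDual_apply]

theorem utv_mem (hF : Fintype.card F = q ^ 2) (a : F) (v : Fin n → F)
    (hv : hermForm n F q v v = 0) (ha : a + a ^ q = 0) :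
    utv hF a v hv ∈ GU n F q ⊓ specialLinear (Fin n) F := by
  refine ⟨?_, tvGL_mem_specialLinear _ _ _⟩
  intro x y
  show hermForm n F q (((utv hF a v hv : GL (Fin n) F) : Matrix (Fin n) (Fin n) F) *ᵥ x)
    (((utv hF a v hv : GL (Fin n) F) : Matrix (Fin n) (Fin n) F) *ᵥ y) = hermForm n F q x y
  rw [utv_mulVec, utv_mulVec, herm_add_left, herm_add_right hF, herm_add_right hF, herm_smul_left,
    herm_smul_left, herm_smul_right, herm_smul_right, hv, herm_symm hF y v, mul_pow]
  have : a ^ q = -a := by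
    have := ha
    exact (neg_eq_of_add_eq_zero_right this).symm
  rw [this]
  ring

/-- The isotropic vectors span the whole space, `n ≥ 2`. -/
theorem span_isotropic (hF : Fintype.card F = q ^ 2) (hn : 2 ≤ n) :
    Submodule.span F {v : Fin n → F | hermForm n F q v v = 0} = ⊤ := by
  classical
  have hq := q_pos hF
  set S := Submodule.span F {v : Fin n → F | hermForm n F q v v = 0} with hS
  have hm1 : ((-1 : F)) ^ q = -1 := neg_one_pow_q hF
  obtain ⟨c, c', hcc', hc, hc'⟩ := exists_two_norm_eq hF (-1 : F) (by simp) hm1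
  -- for i ≠ j : e_i + c e_j isotropic
  have hiso : ∀ (i j : Fin n) (x : F), i ≠ j → x * x ^ q = -1 →
      hermForm n F q (Pi.single i 1 + x • Pi.single j 1) (Pi.single i 1 + x • Pi.single j 1) = 0 := by
    intro i j x hij hx
    unfold hermForm
    rw [Finset.sum_eq_add_of_mem i j (Finset.mem_univ _) (Finset.mem_univ _) hij]
    · simp [hij, hij.symm]
      linear_combination hx
    · intro k _ hk
      simp [hk.1, hk.2, zero_pow (by omega : q ≠ 0)]
  have hmem : ∀ (i j : Fin n), i ≠ j → (Pi.single j (1 : F) : Fin n → F) ∈ S := by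
    intro i j hij
    have h1 : (Pi.single i 1 + c • Pi.single j 1 : Fin n → F) ∈ S :=
      Submodule.subset_span (hiso i j c hij hc)
    have h2 : (Pi.single i 1 + c' • Pi.single j 1 : Fin n → F) ∈ S :=
      Submodule.subset_span (hiso i j c' hij hc')
    have h3 := S.sub_mem h1 h2
    have h4 : (Pi.single i 1 + c • Pi.single j 1 : Fin n → F) -
        (Pi.single i 1 + c' • Pi.single j 1) = (c - c') • (Pi.single j (1 : F) : Fin n → F) := by
      rw [sub_smul]; abel
    rw [h4] at h3
    have h5 := S.smul_mem (c - c')⁻¹ h3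
    rwa [smul_smul, inv_mul_cancel₀ (sub_ne_zero.2 hcc'), one_smul] at h5
  rw [eq_top_iff]
  intro x _
  have hx : x = ∑ j, x j • (Pi.single j (1 : F) : Fin n → F) := by
    funext k
    simp [Finset.sum_apply, Pi.single_apply]
  rw [hx]
  refine S.sum_mem fun j _ => S.smul_mem _ ?_
  obtain ⟨i, hi⟩ : ∃ i : Fin n, i ≠ j := by
    by_cases h0 : j = ⟨0, by omega⟩
    · exact ⟨⟨1, by omega⟩, by rw [h0]; simp [Fin.ext_iff]⟩
    · exact ⟨⟨0, by omega⟩, fun h => h0 h.symm⟩
  exact hmem i j hi

/-- For isotropic `v, v'` there is `c ≠ 0` with `v + c v'` isotropic. -/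
theorem exists_isotropic_add (hF : Fintype.card F = q ^ 2) (v v' : Fin n → F)
    (hv : hermForm n F q v v = 0) (hv' : hermForm n F q v' v' = 0) :
    ∃ c : F, c ≠ 0 ∧ hermForm n F q (v + c • v') (v + c • v') = 0 := by
  have hexp : ∀ c : F, hermForm n F q (v + c • v') (v + c • v') =
      c ^ q * hermForm n F q v v' + c * (hermForm n F q v v') ^ q := by
    intro c
    rw [herm_add_left, herm_add_right hF, herm_add_right hF, herm_smul_left, herm_smul_left,
      herm_smul_right, herm_smul_right, hv, hv', herm_symm hF v v']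
    ring
  by_cases hβ : hermForm n F q v v' = 0
  · refine ⟨1, one_ne_zero, ?_⟩
    have hq := q_pos hF
    rw [hexp, hβ, zero_pow (by omega)]
    ring
  · obtain ⟨a, ha0, ha⟩ := exists_tr0 hF
    set β := hermForm n F q v v' with hβdef
    have hβq : β ^ q ≠ 0 := pow_ne_zero _ hβ
    refine ⟨a / β ^ q, div_ne_zero ha0 hβq, ?_⟩
    rw [hexp, div_pow, Cfsg.Agent.Lib.H2.Herm.pow_q_pow_q hF]
    field_simp
    linear_combination ha

end Cfsg.Agent.Lib.H23.UP2
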