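import Mathlib

/-!
# Relative cores and Wielandt's index bound (helper23)

`relCore Y M` is the core in `M` of `Y ⊓ M`, in the exact shape used by the frozen statement S5752
(Thompson–Wielandt).  Main result: `relIndex_relCore2_dvd`, the bound
`|M₁ : A₂| ∣ d₁! * ((d₂ - 1)!)^d₁`.
-/

set_option autoImplicit false

namespace Cfsg.Agent.Lib.H23.WB

variable {G : Type*} [Group G]

/-- relative core of `Y` in `M`, in the exact form used by S5752 -/
def relCore (Y M : Subgroup G) : Subgroup G :=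
  ((Y.subgroupOf M).normalCore).map M.subtype

theorem mem_relCore {Y M : Subgroup G} {x : G} :
    x ∈ relCore Y M ↔ x ∈ M ∧ ∀ m ∈ M, m * x * m⁻¹ ∈ Y := by
  unfold relCore
  constructor
  · rintro ⟨⟨y, hyM⟩, hy, rfl⟩
    refine ⟨hyM, fun m hm => ?_⟩
    have := hy ⟨m, hm⟩
    simpa [Subgroup.mem_subgroupOf] using this
  · rintro ⟨hx, h⟩
    refine ⟨⟨x, hx⟩, ?_, rfl⟩
    intro b
    rw [Subgroup.mem_subgroupOf]
    simpa using h b b.2

theorem relCore_le_right (Y M : Subgroup G) : relCore Y M ≤ M := fun _ hx => (mem_relCore.1 hx).1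

theorem relCore_le_left (Y M : Subgroup G) : relCore Y M ≤ Y := fun x hx => by
  have := (mem_relCore.1 hx).2 1 M.one_mem
  simpa using this

theorem relCore_conj_mem {Y M : Subgroup G} {x m : G} (hx : x ∈ relCore Y M) (hm : m ∈ M) :
    m * x * m⁻¹ ∈ relCore Y M := by
  rw [mem_relCore] at hx ⊢
  refine ⟨M.mul_mem (M.mul_mem hm hx.1) (M.inv_mem hm), fun n hn => ?_⟩
  have := hx.2 (n * m) (M.mul_mem hn hm)
  simpa [mul_assoc] using this

theorem relCore_subgroupOf (Y M : Subgroup G) :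
    (relCore Y M).subgroupOf M = (Y.subgroupOf M).normalCore := by
  unfold relCore
  exact Subgroup.comap_map_eq_self_of_injective M.subtype_injective _

theorem relCore_mono {Y Y' M : Subgroup G} (h : Y ≤ Y') : relCore Y M ≤ relCore Y' M := by
  intro x hx
  rw [mem_relCore] at hx ⊢
  exact ⟨hx.1, fun m hm => h (hx.2 m hm)⟩

/-- cardinality of a point stabilizer in the full symmetric group -/
theorem card_stabilizer_perm {α : Type*} [Finite α] (x : α) :
    Nat.card (MulAction.stabilizer (Equiv.Perm α) x) = (Nat.card α - 1).factorial := by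
  classical
  have h1 := (MulAction.stabilizer (Equiv.Perm α) x).card_mul_index
  rw [MulAction.index_stabilizer_of_transitive, Nat.card_perm] at h1
  have hpos : 0 < Nat.card α := Nat.card_pos_iff.2 ⟨⟨x⟩, inferInstance⟩
  have h2 : Nat.card α * (Nat.card α - 1).factorial = (Nat.card α).factorial :=
    Nat.mul_factorial_pred hpos.ne'
  rw [← h2, mul_comm] at h1
  exact Nat.eq_of_mul_eq_mul_left hpos h1

/-- a subgroup `K` of `H` acts on the cosets of `H` fixing the trivial coset -/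
theorem relIndex_normalCore_dvd [Finite G] (H K : Subgroup G) (hKH : K ≤ H) :
    H.normalCore.relIndex K ∣ (H.index - 1).factorial := by
  classical
  let f := MulAction.toPermHom G (G ⧸ H)
  have h1 : H.normalCore = f.ker := Subgroup.normalCore_eq_ker H
  have h2 : H.normalCore.relIndex K = Nat.card (K.map f) := by
    unfold Subgroup.relIndex
    rw [h1, ← Subgroup.ker_subgroupMap K f, Subgroup.index_ker,
      MonoidHom.range_eq_top.2 (f.subgroupMap_surjective K)]
    exact Nat.card_congr Subgroup.topEquiv.toEquiv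
  have h3 : K.map f ≤ MulAction.stabilizer (Equiv.Perm (G ⧸ H)) ((1 : G) : G ⧸ H) := by
    rintro _ ⟨k, hk, rfl⟩
    rw [MulAction.mem_stabilizer_iff]
    change f k ((1 : G) : G ⧸ H) = _
    rw [MulAction.toPermHom_apply, MulAction.toPerm_apply, MulAction.Quotient.smul_coe,
      smul_eq_mul, mul_one, QuotientGroup.eq]
    simpa using H.inv_mem (hKH hk)
  rw [h2]
  have h4 := Subgroup.card_dvd_of_le h3
  rwa [card_stabilizer_perm, ← Subgroup.index_eq_card] at h4


/-- relative version: `K ≤ D ≤ M` -/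
theorem relIndex_relCore_dvd [Finite G] (D M K : Subgroup G) (hDM : D ≤ M) (hKD : K ≤ D) :
    (relCore D M).relIndex K ∣ (D.relIndex M - 1).factorial := by
  have h := relIndex_normalCore_dvd (D.subgroupOf M) (K.subgroupOf M)
    (by intro x hx; exact hKD hx)
  rw [← relCore_subgroupOf, Subgroup.relIndex_subgroupOf (hKD.trans hDM)] at h
  exact h

theorem relIndex_relCore_dvd_factorial [Finite G] (D M : Subgroup G) :
    (relCore D M).relIndex M ∣ (D.relIndex M).factorial := by
  classical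
  unfold Subgroup.relIndex
  rw [relCore_subgroupOf, Subgroup.normalCore_eq_ker, Subgroup.index_ker, Subgroup.index_eq_card,
    ← Nat.card_perm]
  exact Subgroup.card_subgroup_dvd_card _

theorem relIndex_inf_dvd_of_normal [Finite G] (H K A : Subgroup G) (hn : (H.subgroupOf A).Normal) :
    (H ⊓ K).relIndex A ∣ H.relIndex A * K.relIndex A := by
  unfold Subgroup.relIndex
  have h1 : (H ⊓ K).subgroupOf A = H.subgroupOf A ⊓ K.subgroupOf A := by
    ext x; simp [Subgroup.mem_subgroupOf]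
  rw [h1, ← Subgroup.relIndex_mul_index (inf_le_right : H.subgroupOf A ⊓ K.subgroupOf A ≤ _),
    Subgroup.inf_relIndex_right]
  exact Nat.mul_dvd_mul_right (Subgroup.relIndex_dvd_index_of_normal _ _) _

theorem relIndex_iInf_dvd_prod [Finite G] {ι : Type*} [Fintype ι] (N : ι → Subgroup G) (A : Subgroup G)
    (hn : ∀ i, ((N i).subgroupOf A).Normal) :
    (⨅ i, N i).relIndex A ∣ ∏ i, (N i).relIndex A := by
  classical
  have key : ∀ s : Finset ι, (⨅ i ∈ s, N i).relIndex A ∣ ∏ i ∈ s, (N i).relIndex A := by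
    intro s
    induction s using Finset.induction_on with
    | empty => simp
    | insert j s hj ih =>
      rw [Finset.iInf_insert, Finset.prod_insert hj]
      exact (relIndex_inf_dvd_of_normal _ _ A (hn j)).trans (Nat.mul_dvd_mul_left _ ih)
  simpa using key Finset.univ

theorem relIndex_map_conj_of_normalizes (B A : Subgroup G) (m : G)
    (hm : A.map (MulAut.conj m).toMonoidHom = A) :
    (B.map (MulAut.conj m).toMonoidHom).relIndex A = B.relIndex A := by
  conv_lhs => rw [← hm]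
  exact Subgroup.relIndex_map_map_of_injective B A (MulAut.conj m).injective

theorem map_conj_eq_of_forall_mem (A : Subgroup G) [Finite G] (m : G)
    (hm : ∀ x ∈ A, m * x * m⁻¹ ∈ A) : A.map (MulAut.conj m).toMonoidHom = A := by
  have hle : A.map (MulAut.conj m).toMonoidHom ≤ A := by
    rintro _ ⟨x, hx, rfl⟩
    simpa [MulAut.conj_apply] using hm x hx
  apply le_antisymm hle
  have hcard : Nat.card (A.map (MulAut.conj m).toMonoidHom) = Nat.card A :=
    Nat.card_congr (A.equivMapOfInjective _ (MulAut.conj m).injective).toEquiv.symm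
  intro x hx
  by_contra hne
  have hlt : A.map (MulAut.conj m).toMonoidHom < A := lt_of_le_of_ne hle (fun h => hne (by rw [h]; exact hx))
  have := Set.ncard_lt_ncard (SetLike.coe_ssubset_coe.2 hlt) (Set.toFinite _)
  simp only [← Nat.card_coe_set_eq] at this
  exact absurd hcard (ne_of_lt this)

/-- Wielandt's index bound for the second core. -/
theorem relIndex_relCore2_dvd [Finite G] (M₁ M₂ : Subgroup G) :
    (relCore (relCore (M₁ ⊓ M₂) M₁ ⊓ relCore (M₁ ⊓ M₂) M₂) M₁).relIndex M₁ ∣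
      ((M₁ ⊓ M₂).relIndex M₁).factorial *
        (((M₁ ⊓ M₂).relIndex M₂ - 1).factorial) ^ ((M₁ ⊓ M₂).relIndex M₁) := by
  classical
  set D := M₁ ⊓ M₂ with hD
  set A₁ := relCore D M₁ with hA₁
  set B₁ := relCore D M₂ with hB₁
  set A₂ := relCore (A₁ ⊓ B₁) M₁ with hA₂
  have hA₁M : A₁ ≤ M₁ := relCore_le_right _ _
  have hA₁D : A₁ ≤ D := relCore_le_left _ _
  have hA₂A₁ : A₂ ≤ A₁ := (relCore_le_left _ _).trans inf_le_left
  rw [← Subgroup.relIndex_mul_relIndex _ _ _ hA₂A₁ hA₁M, mul_comm]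
  apply Nat.mul_dvd_mul (relIndex_relCore_dvd_factorial D M₁)
  -- the family of conjugates of `B₁`
  let ι := ↥M₁ ⧸ (D.subgroupOf M₁)
  haveI : Fintype ι := Fintype.ofFinite ι
  let N : ι → Subgroup G := fun q => B₁.map (MulAut.conj ((q.out : ↥M₁) : G)).toMonoidHom
  have hcardι : Fintype.card ι = D.relIndex M₁ := by
    rw [← Nat.card_eq_fintype_card]; rfl
  -- `D` normalizes `B₁`
  have hDB : ∀ δ ∈ D, ∀ x ∈ B₁, δ * x * δ⁻¹ ∈ B₁ := fun δ hδ x hx =>
    relCore_conj_mem hx (inf_le_right (a := M₁) hδ)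
  have hA₂eq : A₂ = A₁ ⊓ ⨅ q, N q := by
    ext x
    rw [hA₂, mem_relCore, Subgroup.mem_inf, Subgroup.mem_iInf]
    constructor
    · rintro ⟨hx, h⟩
      have hxA₁ : x ∈ A₁ := by simpa using (h 1 M₁.one_mem).1
      refine ⟨hxA₁, fun q => ?_⟩
      refine ⟨(q.out : G)⁻¹ * x * (q.out : G), ?_, ?_⟩
      · have := (h ((q.out : G)⁻¹) (M₁.inv_mem q.out.2)).2
        simpa using this
      · simp [MulAut.conj_apply, mul_assoc]
    · rintro ⟨hxA₁, h⟩
      refine ⟨hA₁M hxA₁, fun m hm => ⟨relCore_conj_mem hxA₁ hm, ?_⟩⟩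
      -- `m⁻¹ = out * δ`
      set q : ι := ((⟨m⁻¹, M₁.inv_mem hm⟩ : ↥M₁) : ι) with hq
      obtain ⟨y, hy, hyx⟩ := h q
      have hδ : ((q.out : ↥M₁)⁻¹ * ⟨m⁻¹, M₁.inv_mem hm⟩ : ↥M₁) ∈ D.subgroupOf M₁ := by
        rw [← QuotientGroup.eq, QuotientGroup.out_eq']
      rw [Subgroup.mem_subgroupOf] at hδ
      simp only [Subgroup.coe_mul, Subgroup.coe_inv] at hδ
      set o : G := ((q.out : ↥M₁) : G) with ho
      set δ : G := o⁻¹ * m⁻¹ with hδdef
      have hm' : m = δ⁻¹ * o⁻¹ := by rw [hδdef]; group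
      have hyx' : x = o * y * o⁻¹ := by
        rw [← hyx]; simp [MulAut.conj_apply, ho]
      have : m * x * m⁻¹ = δ⁻¹ * y * (δ⁻¹)⁻¹ := by
        rw [hm', hyx']; group
      rw [this]
      exact hDB _ (D.inv_mem hδ) y hy
  rw [hA₂eq, Subgroup.inf_relIndex_left]
  have hnorm : ∀ q : ι, ((N q).subgroupOf A₁).Normal := by
    intro q
    constructor
    intro n hn g
    rw [Subgroup.mem_subgroupOf] at hn ⊢
    obtain ⟨y, hy, hyn⟩ := hn
    set o : G := ((q.out : ↥M₁) : G) with ho
    have hoM : o ∈ M₁ := q.out.2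
    -- `o⁻¹ g o ∈ A₁ ≤ D`
    have hg' : o⁻¹ * (g : G) * (o⁻¹)⁻¹ ∈ A₁ := relCore_conj_mem g.2 (M₁.inv_mem hoM)
    refine ⟨(o⁻¹ * (g : G) * (o⁻¹)⁻¹) * y * (o⁻¹ * (g : G) * (o⁻¹)⁻¹)⁻¹, hDB _ (hA₁D hg') y hy, ?_⟩
    have hyn' : (n : G) = o * y * o⁻¹ := by
      rw [← hyn]; simp [MulAut.conj_apply, ho]
    change o * _ * o⁻¹ = _
    simp only [Subgroup.coe_mul, Subgroup.coe_inv, hyn']
    group
  refine (relIndex_iInf_dvd_prod N A₁ hnorm).trans ?_
  have hfac : ∀ q : ι, (N q).relIndex A₁ ∣ (D.relIndex M₂ - 1).factorial := by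
    intro q
    have hconj : A₁.map (MulAut.conj ((q.out : ↥M₁) : G)).toMonoidHom = A₁ :=
      map_conj_eq_of_forall_mem A₁ _ (fun x hx => relCore_conj_mem hx q.out.2)
    rw [show N q = B₁.map (MulAut.conj ((q.out : ↥M₁) : G)).toMonoidHom from rfl,
      relIndex_map_conj_of_normalizes B₁ A₁ _ hconj]
    exact relIndex_relCore_dvd D M₂ A₁ inf_le_right hA₁D
  calc ∏ q, (N q).relIndex A₁ ∣ ∏ _q : ι, (D.relIndex M₂ - 1).factorial :=
        Finset.prod_dvd_prod_of_dvd _ _ (fun q _ => hfac q)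
    _ = ((D.relIndex M₂ - 1).factorial) ^ (D.relIndex M₁) := by
        rw [Finset.prod_const, Finset.card_univ, hcardι]

end Cfsg.Agent.Lib.H23.WB
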