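import Mathlib
import Cfsg.Agent.S5752
import Cfsg.Agent.Lib.H23.WB1

/-!
# Wielandt's bound via Thompson–Wielandt (helper23)
-/

set_option autoImplicit false

namespace Cfsg.Agent.Lib.H23.WB

variable {G : Type*} [Group G]

/-- the Thompson–Wielandt sequences `(A_i, B_i)` -/
def seqAB (M₁ M₂ : Subgroup G) : ℕ → Subgroup G × Subgroup G
  | 0 => (M₁, M₂)
  | i + 1 => (relCore ((seqAB M₁ M₂ i).1 ⊓ (seqAB M₁ M₂ i).2) M₁,
              relCore ((seqAB M₁ M₂ i).1 ⊓ (seqAB M₁ M₂ i).2) M₂)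

theorem seqAB_one (M₁ M₂ : Subgroup G) :
    seqAB M₁ M₂ 1 = (relCore (M₁ ⊓ M₂) M₁, relCore (M₁ ⊓ M₂) M₂) := rfl

theorem seqAB_two (M₁ M₂ : Subgroup G) :
    seqAB M₁ M₂ 2 =
      (relCore (relCore (M₁ ⊓ M₂) M₁ ⊓ relCore (M₁ ⊓ M₂) M₂) M₁,
       relCore (relCore (M₁ ⊓ M₂) M₁ ⊓ relCore (M₁ ⊓ M₂) M₂) M₂) := rfl

/-- Thompson–Wielandt (S5752) for the sequences `seqAB`. -/
theorem tw [Finite G] (M₁ M₂ : Subgroup G) (hmax : IsCoatom M₁) (g : G)
    (hconj : M₂ = M₁.map (MulAut.conj g).toMonoidHom) (hne : M₁ ≠ M₂) (hcore : M₁.normalCore = ⊥)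
    (hA2 : (seqAB M₁ M₂ 2).1 ≠ ⊥) (hB2 : (seqAB M₁ M₂ 2).2 ≠ ⊥) :
    ∃ p : ℕ, p.Prime ∧ IsPGroup p ↥((seqAB M₁ M₂ 2).1 ⊔ (seqAB M₁ M₂ 2).2) ∧
      Cfsg.generalizedFittingSubgroup ↥M₁ = Cfsg.pCore p ↥M₁ ∧
      Cfsg.generalizedFittingSubgroup ↥((seqAB M₁ M₂ 1).1) = Cfsg.pCore p ↥((seqAB M₁ M₂ 1).1) ∧
      Cfsg.generalizedFittingSubgroup ↥M₂ = Cfsg.pCore p ↥M₂ ∧
      Cfsg.generalizedFittingSubgroup ↥((seqAB M₁ M₂ 1).2) = Cfsg.pCore p ↥((seqAB M₁ M₂ 1).2) :=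
  Cfsg.Agent.S5752.result M₁ M₂ hmax g hconj hne hcore (fun i => (seqAB M₁ M₂ i).1)
    (fun i => (seqAB M₁ M₂ i).2) rfl rfl (fun _ => rfl) (fun _ => rfl) hA2 hB2

theorem card_eq_of_conj [Finite G] {M₁ M₂ : Subgroup G} {g : G}
    (hconj : M₂ = M₁.map (MulAut.conj g).toMonoidHom) : Nat.card M₂ = Nat.card M₁ := by
  rw [hconj]
  exact Nat.card_congr (M₁.equivMapOfInjective _ (MulAut.conj g).injective).toEquiv.symm

theorem card_inf_mul_relIndex [Finite G] (D M : Subgroup G) (h : D ≤ M) :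
    Nat.card D * D.relIndex M = Nat.card M := by
  have := Subgroup.relIndex_mul_relIndex ⊥ D M bot_le h
  rwa [Subgroup.relIndex_bot_left, Subgroup.relIndex_bot_left] at this

theorem relIndex_eq_of_conj [Finite G] {M₁ M₂ : Subgroup G} {g : G}
    (hconj : M₂ = M₁.map (MulAut.conj g).toMonoidHom) :
    (M₁ ⊓ M₂).relIndex M₂ = (M₁ ⊓ M₂).relIndex M₁ := by
  have h1 := card_inf_mul_relIndex (M₁ ⊓ M₂) M₁ inf_le_left
  have h2 := card_inf_mul_relIndex (M₁ ⊓ M₂) M₂ inf_le_right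
  rw [card_eq_of_conj hconj, ← h1] at h2
  exact Nat.eq_of_mul_eq_mul_left Nat.card_pos h2

/-- both second cores satisfy Wielandt's index bound -/
theorem relIndex_A2_dvd [Finite G] (M₁ M₂ : Subgroup G) (d : ℕ)
    (hd₁ : (M₁ ⊓ M₂).relIndex M₁ = d) (hd₂ : (M₁ ⊓ M₂).relIndex M₂ = d) :
    (seqAB M₁ M₂ 2).1.relIndex M₁ ∣ d.factorial * ((d - 1).factorial) ^ d := by
  have := relIndex_relCore2_dvd M₁ M₂
  rwa [hd₁, hd₂] at this

theorem relIndex_B2_dvd [Finite G] (M₁ M₂ : Subgroup G) (d : ℕ)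
    (hd₁ : (M₁ ⊓ M₂).relIndex M₁ = d) (hd₂ : (M₁ ⊓ M₂).relIndex M₂ = d) :
    (seqAB M₁ M₂ 2).2.relIndex M₂ ∣ d.factorial * ((d - 1).factorial) ^ d := by
  have := relIndex_relCore2_dvd M₂ M₁
  rw [inf_comm M₂ M₁, inf_comm (relCore (M₁ ⊓ M₂) M₂), hd₁, hd₂] at this
  exact this

/-- Wielandt's dichotomy: either `|M₁|` divides the bound, or both second cores are nontrivial. -/
theorem card_dvd_or [Finite G] (M₁ M₂ : Subgroup G) (g : G)
    (hconj : M₂ = M₁.map (MulAut.conj g).toMonoidHom) (d : ℕ)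
    (hd₁ : (M₁ ⊓ M₂).relIndex M₁ = d) :
    Nat.card M₁ ∣ d.factorial * ((d - 1).factorial) ^ d ∨
      ((seqAB M₁ M₂ 2).1 ≠ ⊥ ∧ (seqAB M₁ M₂ 2).2 ≠ ⊥) := by
  have hd₂ : (M₁ ⊓ M₂).relIndex M₂ = d := (relIndex_eq_of_conj hconj).trans hd₁
  by_cases hA : (seqAB M₁ M₂ 2).1 = ⊥
  · left
    have := relIndex_A2_dvd M₁ M₂ d hd₁ hd₂
    rwa [hA, Subgroup.relIndex_bot_left] at this
  by_cases hB : (seqAB M₁ M₂ 2).2 = ⊥
  · left
    have := relIndex_B2_dvd M₁ M₂ d hd₁ hd₂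
    rwa [hB, Subgroup.relIndex_bot_left, card_eq_of_conj hconj] at this
  exact Or.inr ⟨hA, hB⟩

/-! ### the permutation-group setting -/

section Perm

variable {Ω : Type*} [MulAction G Ω]

open MulAction

theorem relIndex_stabilizer_eq (a b : Ω) :
    (stabilizer G a ⊓ stabilizer G b).relIndex (stabilizer G a) =
      Nat.card (orbit (stabilizer G a) b) := by
  rw [Subgroup.inf_relIndex_left]
  unfold Subgroup.relIndex
  have h : (stabilizer G b).subgroupOf (stabilizer G a) = stabilizer (stabilizer G a) b := by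
    ext x
    simp [Subgroup.mem_subgroupOf, mem_stabilizer_iff, Subgroup.smul_def]
  rw [h, index_stabilizer, Nat.card_coe_set_eq]

theorem ne_of_two_le_card_orbit [Finite Ω] (a b : Ω)
    (h2 : 2 ≤ Nat.card (orbit (stabilizer G a) b)) : stabilizer G a ≠ stabilizer G b := by
  intro heq
  have hsub : orbit (stabilizer G a) b ⊆ {b} := by
    rintro _ ⟨x, rfl⟩
    have : (x : G) ∈ stabilizer G b := heq ▸ x.2
    simpa [Subgroup.smul_def] using this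
  have : Nat.card (orbit (stabilizer G a) b) ≤ 1 := by
    rw [Nat.card_coe_set_eq]
    calc (orbit (stabilizer G a) b).ncard ≤ ({b} : Set Ω).ncard :=
          Set.ncard_le_ncard hsub (Set.finite_singleton b)
      _ = 1 := Set.ncard_singleton b
  omega

theorem normalCore_stabilizer_eq_bot [FaithfulSMul G Ω] [IsPretransitive G Ω] (a : Ω) :
    (stabilizer G a).normalCore = ⊥ := by
  rw [Subgroup.eq_bot_iff_forall]
  intro x hx
  apply FaithfulSMul.eq_of_smul_eq_smul (α := Ω)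
  intro c
  obtain ⟨g, rfl⟩ := exists_smul_eq G a c
  have := hx g⁻¹
  rw [mem_stabilizer_iff] at this
  rw [one_smul]
  have h2 : g • ((g⁻¹ * x * g⁻¹⁻¹) • a) = g • a := by rw [this]
  simpa [smul_smul, mul_assoc] using h2

end Perm

end Cfsg.Agent.Lib.H23.WB
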