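import Mathlib
import Cfsg.Prelude.Def_Solvable
import Cfsg.Agent.Lib.H23.WB1

/-!
# Two-point stabilizers with trivial Fitting subgroup (helper23)

`OqOf q H` : `O_q(H)` as a subgroup of the ambient group.
`normal_qsub_eq_bot` : the elementary argument behind S3693: if every `D`-invariant `q`-subgroup of
`D = M₁ ⊓ M₂` lies in the core `A₁` of `D` in `M₁`, then there is no nontrivial one.
-/

set_option autoImplicit false

namespace Cfsg.Agent.Lib.H23.WB

variable {G : Type*} [Group G]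

/-- `O_q(H)` viewed in `G`. -/
def OqOf (q : ℕ) (H : Subgroup G) : Subgroup G := (Cfsg.pCore q ↥H).map H.subtype

theorem OqOf_le (q : ℕ) (H : Subgroup G) : OqOf q H ≤ H := by
  rintro _ ⟨x, -, rfl⟩
  exact x.2

theorem pCore_isPGroup' (q : ℕ) (H : Type*) [Group H] : IsPGroup q (Cfsg.pCore q H) :=
  Sylow.sSup_of_normal _ (fun _ h => h.2) (fun _ h => h.1)

theorem pCore_normal'' (q : ℕ) (H : Type*) [Group H] : (Cfsg.pCore q H).Normal :=
  Subgroup.sSup_normal _ (fun _ h => h.1)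

theorem OqOf_isPGroup (q : ℕ) (H : Subgroup G) : IsPGroup q ↥(OqOf q H) :=
  (pCore_isPGroup' q ↥H).map H.subtype

theorem OqOf_conj_mem {q : ℕ} {H : Subgroup G} {x h : G} (hx : x ∈ OqOf q H) (hh : h ∈ H) :
    h * x * h⁻¹ ∈ OqOf q H := by
  obtain ⟨y, hy, rfl⟩ := hx
  refine ⟨⟨h, hh⟩ * y * ⟨h, hh⟩⁻¹, (pCore_normal'' q ↥H).conj_mem y hy _, ?_⟩
  simp

theorem le_OqOf {q : ℕ} {H N : Subgroup G} (hNH : N ≤ H)
    (hn : ∀ h ∈ H, ∀ x ∈ N, h * x * h⁻¹ ∈ N) (hq : IsPGroup q ↥N) : N ≤ OqOf q H := by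
  intro x hx
  have h1 : N.subgroupOf H ≤ Cfsg.pCore q ↥H := by
    apply le_sSup
    refine ⟨⟨?_⟩, hq.comap_subtype⟩
    intro n hn' g
    rw [Subgroup.mem_subgroupOf] at hn' ⊢
    simpa using hn g g.2 n hn'
  exact ⟨⟨x, hNH hx⟩, h1 (by rw [Subgroup.mem_subgroupOf]; exact hx), rfl⟩

/-- `O_q` is invariant under anything normalizing `H`. -/
theorem OqOf_conj_mem_of_normalizes {q : ℕ} {H : Subgroup G} {m : G}
    (hm : ∀ h ∈ H, m * h * m⁻¹ ∈ H) (hm' : ∀ h ∈ H, m⁻¹ * h * m ∈ H) {x : G}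
    (hx : x ∈ OqOf q H) : m * x * m⁻¹ ∈ OqOf q H := by
  have hle : (OqOf q H).map (MulAut.conj m).toMonoidHom ≤ OqOf q H := by
    apply le_OqOf
    · rintro _ ⟨y, hy, rfl⟩
      simpa [MulAut.conj_apply] using hm y (OqOf_le q H hy)
    · rintro h hh _ ⟨y, hy, rfl⟩
      refine ⟨(m⁻¹ * h * m) * y * (m⁻¹ * h * m)⁻¹, OqOf_conj_mem hy (hm' h hh), ?_⟩
      simp only [MulEquiv.coe_toMonoidHom, MulAut.conj_apply]
      group
    · exact (OqOf_isPGroup q H).map _
  apply hle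
  exact ⟨x, hx, by simp [MulAut.conj_apply]⟩

theorem OqOf_map_conj_le [Finite G] (q : ℕ) (H : Subgroup G) (g : G) :
    (OqOf q H).map (MulAut.conj g).toMonoidHom ≤ OqOf q (H.map (MulAut.conj g).toMonoidHom) := by
  apply le_OqOf
  · exact Subgroup.map_mono (OqOf_le q H)
  · rintro _ ⟨h, hh, rfl⟩ _ ⟨y, hy, rfl⟩
    refine ⟨h * y * h⁻¹, OqOf_conj_mem hy hh, ?_⟩
    simp [MulAut.conj_apply, mul_assoc]
  · exact (OqOf_isPGroup q H).map _

theorem card_OqOf_map_conj [Finite G] (q : ℕ) (H : Subgroup G) (g : G) :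
    Nat.card (OqOf q (H.map (MulAut.conj g).toMonoidHom)) = Nat.card (OqOf q H) := by
  have hcard : ∀ (K : Subgroup G) (t : G), Nat.card (K.map (MulAut.conj t).toMonoidHom) = Nat.card K :=
    fun K t => Nat.card_congr (K.equivMapOfInjective _ (MulAut.conj t).injective).toEquiv.symm
  apply le_antisymm
  · have h1 := OqOf_map_conj_le q (H.map (MulAut.conj g).toMonoidHom) g⁻¹
    have h2 : (H.map (MulAut.conj g).toMonoidHom).map (MulAut.conj g⁻¹).toMonoidHom = H := by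
      rw [Subgroup.map_map]
      convert Subgroup.map_id H
      ext x
      simp [MulAut.conj_apply, mul_assoc]
    rw [h2] at h1
    have := Subgroup.card_le_of_le h1
    rwa [hcard] at this
  · have := Subgroup.card_le_of_le (OqOf_map_conj_le q H g)
    rwa [hcard] at this


theorem exists_mul_of_mem_sup {A B : Subgroup G} (hAB : A ≤ Subgroup.normalizer (B : Set G))
    {x : G} (hx : x ∈ A ⊔ B) : ∃ a ∈ A, ∃ b ∈ B, x = a * b := by
  let T : Subgroup G :=
    { carrier := {x | ∃ a ∈ A, ∃ b ∈ B, x = a * b}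
      one_mem' := ⟨1, A.one_mem, 1, B.one_mem, by simp⟩
      mul_mem' := by
        rintro _ _ ⟨a, ha, b, hb, rfl⟩ ⟨a', ha', b', hb', rfl⟩
        refine ⟨a * a', A.mul_mem ha ha', a'⁻¹ * b * a' * b', B.mul_mem ?_ hb', by group⟩
        have := (Subgroup.mem_normalizer_iff.1 (hAB (A.inv_mem ha')) b).1 hb
        rwa [inv_inv] at this
      inv_mem' := by
        rintro _ ⟨a, ha, b, hb, rfl⟩
        refine ⟨a⁻¹, A.inv_mem ha, a * b⁻¹ * a⁻¹, ?_, by group⟩
        exact (Subgroup.mem_normalizer_iff.1 (hAB ha) _).1 (B.inv_mem hb) }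
  have hA : A ≤ T := fun a ha => ⟨a, ha, 1, B.one_mem, by simp⟩
  have hB : B ≤ T := fun b hb => ⟨1, A.one_mem, b, hb, by simp⟩
  exact sup_le hA hB hx

/-- The elementary heart of S3693. -/
theorem normal_qsub_eq_bot [Finite G] (M₁ M₂ : Subgroup G) (hmax : IsCoatom M₁) (g : G)
    (hconj : M₂ = M₁.map (MulAut.conj g).toMonoidHom) (hne : M₁ ≠ M₂) (hcore : M₁.normalCore = ⊥)
    (q : ℕ) [hq : Fact q.Prime]
    (hX : ∀ N : Subgroup G, N ≤ M₁ ⊓ M₂ → (∀ h ∈ M₁ ⊓ M₂, ∀ x ∈ N, h * x * h⁻¹ ∈ N) →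
      IsPGroup q ↥N → N ≤ relCore (M₁ ⊓ M₂) M₁) :
    OqOf q (M₁ ⊓ M₂) = ⊥ := by
  classical
  set D := M₁ ⊓ M₂ with hD
  set A₁ := relCore D M₁ with hA₁
  set Q := OqOf q D with hQ
  by_contra hQne
  have hA₁D : A₁ ≤ D := relCore_le_left _ _
  have hA₁M : A₁ ≤ M₁ := relCore_le_right _ _
  have hQD : Q ≤ D := OqOf_le q D
  -- (1) `Q ≤ A₁`
  have hQA₁ : Q ≤ A₁ := hX Q hQD (fun h hh x hx => OqOf_conj_mem hx hh) (OqOf_isPGroup q D)
  -- (2)-(4) `Q = O_q(A₁)` is `M₁`-invariant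
  set Q' := OqOf q A₁ with hQ'
  have hQQ' : Q ≤ Q' :=
    le_OqOf hQA₁ (fun h hh x hx => OqOf_conj_mem hx (hA₁D hh)) (OqOf_isPGroup q D)
  have hQ'inv : ∀ m ∈ M₁, ∀ x ∈ Q', m * x * m⁻¹ ∈ Q' := by
    intro m hm x hx
    apply OqOf_conj_mem_of_normalizes _ _ hx
    · intro h hh; exact relCore_conj_mem hh hm
    · intro h hh
      have := relCore_conj_mem hh (M₁.inv_mem hm)
      simpa using this
  have hQ'Q : Q' ≤ Q :=
    le_OqOf ((OqOf_le q A₁).trans hA₁D) (fun h hh x hx => hQ'inv h (inf_le_left (a := M₁) hh) x hx)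
      (OqOf_isPGroup q A₁)
  have hQeq : Q = Q' := le_antisymm hQQ' hQ'Q
  have hQinv : ∀ m ∈ M₁, ∀ x ∈ Q, m * x * m⁻¹ ∈ Q := by rw [hQeq]; exact hQ'inv
  -- (5) the normalizer of `Q` is `M₁`
  have hM₁N : M₁ ≤ Subgroup.normalizer (Q : Set G) := by
    intro m hm
    rw [Subgroup.mem_normalizer_iff]
    intro x
    constructor
    · intro hx; exact hQinv m hm x hx
    · intro hx
      have := hQinv m⁻¹ (M₁.inv_mem hm) _ hx
      simpa [mul_assoc] using this
  have hN : Subgroup.normalizer (Q : Set G) = M₁ := by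
    rcases eq_or_lt_of_le hM₁N with h | h
    · exact h.symm
    · exfalso
      have htop : Subgroup.normalizer (Q : Set G) = ⊤ := hmax.2 _ h
      have hQn : Q.Normal := Subgroup.normalizer_eq_top_iff.1 htop
      have : Q ≤ M₁.normalCore := Subgroup.normal_le_normalCore.2 (hQD.trans inf_le_left)
      rw [hcore] at this
      exact hQne (le_bot_iff.1 this)
  -- (6), (7)
  set T := OqOf q M₁ with hT
  set S := OqOf q M₂ with hS
  have hSM₁ : S ⊓ M₁ ≤ Q := by
    apply le_OqOf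
    · intro x hx; exact ⟨hx.2, OqOf_le q M₂ hx.1⟩
    · intro h hh x hx
      exact ⟨OqOf_conj_mem hx.1 hh.2, M₁.mul_mem (M₁.mul_mem hh.1 hx.2) (M₁.inv_mem hh.1)⟩
    · exact (OqOf_isPGroup q M₂).to_le inf_le_left
  have hQT : Q ≤ T := le_OqOf (hQD.trans inf_le_left) hQinv (OqOf_isPGroup q D)
  -- (8) `R = Q ⊔ S` is a `q`-group
  have hQS : Q ≤ Subgroup.normalizer (S : Set G) := by
    intro x hx
    rw [Subgroup.mem_normalizer_iff]
    intro y
    have hxM₂ : x ∈ M₂ := (hQD hx).2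
    constructor
    · intro hy; exact OqOf_conj_mem hy hxM₂
    · intro hy
      have := OqOf_conj_mem hy (M₂.inv_mem hxM₂)
      simpa [mul_assoc] using this
  have hRq : IsPGroup q ↥(Q ⊔ S) :=
    IsPGroup.to_sup_of_normal_right' (OqOf_isPGroup q D) (OqOf_isPGroup q M₂) hQS
  -- (9),(10) normalizers grow in the `q`-group `R`
  have hSQ : S ≤ Q := by
    haveI : Group.IsNilpotent ↥(Q ⊔ S) := hRq.isNilpotent
    have hnc := Group.normalizerCondition_of_isNilpotent (G := ↥(Q ⊔ S))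
    by_contra hnot
    have hlt : Q.subgroupOf (Q ⊔ S) < ⊤ := by
      rw [lt_top_iff_ne_top]
      intro htop
      apply hnot
      intro s hs
      have : (⟨s, (le_sup_right : S ≤ Q ⊔ S) hs⟩ : ↥(Q ⊔ S)) ∈ Q.subgroupOf (Q ⊔ S) := by
        rw [htop]; trivial
      simpa [Subgroup.mem_subgroupOf] using this
    have hgrow := hnc _ hlt
    obtain ⟨r, hrN, hrQ⟩ := SetLike.exists_of_lt hgrow
    apply hrQ
    rw [Subgroup.mem_subgroupOf]
    -- `r` normalizes `Q`, so `r ∈ M₁`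
    have hrM₁ : (r : G) ∈ M₁ := by
      rw [← hN, Subgroup.mem_normalizer_iff]
      intro x
      rw [Subgroup.mem_normalizer_iff] at hrN
      constructor
      · intro hx
        have := (hrN ⟨x, (le_sup_left : Q ≤ Q ⊔ S) hx⟩).1
          (by rw [Subgroup.mem_subgroupOf]; exact hx)
        simpa [Subgroup.mem_subgroupOf] using this
      · intro hx
        have hxR : x ∈ Q ⊔ S := by
          have h1 : (r : G) * x * (r : G)⁻¹ ∈ Q ⊔ S := (le_sup_left : Q ≤ Q ⊔ S) hx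
          have h2 := (Q ⊔ S).mul_mem ((Q ⊔ S).mul_mem ((Q ⊔ S).inv_mem r.2) h1) r.2
          simpa [mul_assoc] using h2
        have := (hrN ⟨x, hxR⟩).2 (by rw [Subgroup.mem_subgroupOf]; simpa using hx)
        simpa [Subgroup.mem_subgroupOf] using this
    -- `r = u * s` with `u ∈ Q`, `s ∈ S`
    obtain ⟨u, hu, s, hs, hus⟩ := exists_mul_of_mem_sup hQS r.2
    have hus := hus.symm
    have hsM₁ : s ∈ M₁ := by
      have : s = u⁻¹ * (r : G) := by rw [← hus]; group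
      rw [this]
      exact M₁.mul_mem (M₁.inv_mem ((hQD hu).1)) hrM₁
    rw [← hus]
    exact Q.mul_mem hu (hSM₁ ⟨hs, hsM₁⟩)
  -- (11) `S = Q = T`, normal in `M₁ ⊔ M₂ = ⊤`
  have hcardST : Nat.card S = Nat.card T := by
    rw [hS, hconj]; exact card_OqOf_map_conj q M₁ g
  have hST : S = T := by
    have hle : S ≤ T := hSQ.trans hQT
    apply SetLike.coe_injective
    apply Set.eq_of_subset_of_ncard_le hle _ (Set.toFinite _)
    rw [← Nat.card_coe_set_eq, ← Nat.card_coe_set_eq]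
    exact hcardST.ge
  have hQS' : Q = S := le_antisymm (hQT.trans hST.ge) hSQ
  have hM₂N : M₂ ≤ Subgroup.normalizer (Q : Set G) := by
    intro m hm
    rw [Subgroup.mem_normalizer_iff, hQS']
    intro x
    constructor
    · intro hx; exact OqOf_conj_mem hx hm
    · intro hx
      have := OqOf_conj_mem hx (M₂.inv_mem hm)
      simpa [mul_assoc] using this
  rw [hN] at hM₂N
  -- `M₂ ≤ M₁` with equal cardinalities
  apply hne
  symm
  apply SetLike.coe_injective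
  apply Set.eq_of_subset_of_ncard_le hM₂N _ (Set.toFinite _)
  rw [← Nat.card_coe_set_eq, ← Nat.card_coe_set_eq, hconj]
  exact (Nat.card_congr (M₁.equivMapOfInjective _ (MulAut.conj g).injective).toEquiv).le

end Cfsg.Agent.Lib.H23.WB
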