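import Mathlib
import Cfsg.Prelude.Def_Solvable
import Cfsg.Prelude.Def_Local
import Cfsg.Agent.Lib.H23.WB2
import Cfsg.Agent.Lib.H23.WB3
import Cfsg.Agent.Lib.H1.Fitting
import Cfsg.Agent.Lib.H7.FStar

/-!
# Two-point stabilizers with Fitting-free subconstituent (helper23)
-/

set_option autoImplicit false
set_option linter.style.haveILetI false

namespace Cfsg.Agent.Lib.H23.WB

variable {G : Type*} [Group G]

/-- if all `O_q(H)` vanish then `F(H) = 1` -/
theorem fitting_eq_bot_of_OqOf [Finite G] (H : Subgroup G)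
    (h : ∀ (q : ℕ) [Fact q.Prime], OqOf q H = ⊥) : Cfsg.fittingSubgroup ↥H = ⊥ := by
  rw [Cfsg.Agent.Lib.H1.fittingSubgroup_eq_iSup_pCore]
  apply le_bot_iff.1
  apply iSup_le
  intro p
  haveI : Fact (p : ℕ).Prime := ⟨p.2⟩
  have := h (p : ℕ)
  unfold OqOf at this
  rw [(Subgroup.map_eq_bot_iff_of_injective _ H.subtype_injective).1 this]

/-- a nontrivial finite group has nontrivial generalized Fitting subgroup -/
theorem genFitting_ne_bot (H : Type*) [Group H] [Finite H] [Nontrivial H] :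
    Cfsg.generalizedFittingSubgroup H ≠ ⊥ := by
  intro hbot
  have h := Cfsg.Agent.Lib.H7.centralizer_generalizedFittingSubgroup_le (G := H)
  rw [hbot] at h
  have htop : Subgroup.centralizer (((⊥ : Subgroup H) : Subgroup H) : Set H) = ⊤ := by
    rw [Subgroup.coe_bot]
    exact Subgroup.centralizer_eq_top_iff_subset.2 (by simp)
  rw [htop] at h
  exact top_ne_bot (le_bot_iff.1 h)

/-- **S3693 in subgroup form.** -/
theorem fitting_two_point [Finite G] (M₁ M₂ : Subgroup G) (hmax : IsCoatom M₁) (g : G)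
    (hconj : M₂ = M₁.map (MulAut.conj g).toMonoidHom) (hne : M₁ ≠ M₂) (hcore : M₁.normalCore = ⊥)
    (hX : ∀ (q : ℕ) [Fact q.Prime] (N : Subgroup G), N ≤ M₁ ⊓ M₂ →
      (∀ h ∈ M₁ ⊓ M₂, ∀ x ∈ N, h * x * h⁻¹ ∈ N) → IsPGroup q ↥N → N ≤ relCore (M₁ ⊓ M₂) M₁)
    (d : ℕ) (hd₁ : (M₁ ⊓ M₂).relIndex M₁ = d) :
    Cfsg.fittingSubgroup ↥(M₁ ⊓ M₂) = ⊥ ∧
      Nat.card M₁ ∣ d.factorial * ((d - 1).factorial) ^ d := by
  have hOq : ∀ (q : ℕ) [Fact q.Prime], OqOf q (M₁ ⊓ M₂) = ⊥ := fun q _ =>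
    normal_qsub_eq_bot M₁ M₂ hmax g hconj hne hcore q (hX q)
  refine ⟨fitting_eq_bot_of_OqOf _ hOq, ?_⟩
  rcases card_dvd_or M₁ M₂ g hconj d hd₁ with h | ⟨hA, hB⟩
  · exact h
  exfalso
  obtain ⟨p, hp, -, -, hFA, -, -⟩ := tw M₁ M₂ hmax g hconj hne hcore hA hB
  haveI : Fact p.Prime := ⟨hp⟩
  rw [seqAB_one] at hFA
  simp only at hFA
  set A₁ := relCore (M₁ ⊓ M₂) M₁ with hA₁
  have hA₁ne : A₁ ≠ ⊥ := by
    intro hbot
    apply hA
    rw [seqAB_two]
    simp only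
    apply le_bot_iff.1
    refine (relCore_le_left _ _).trans ?_
    rw [← hA₁, hbot]
    exact inf_le_left
  haveI : Nontrivial ↥A₁ := by
    rw [Subgroup.nontrivial_iff_ne_bot]; exact hA₁ne
  have h1 := genFitting_ne_bot ↥A₁
  rw [hFA] at h1
  have h2 : OqOf p A₁ ≠ ⊥ := by
    intro hbot
    apply h1
    unfold OqOf at hbot
    exact (Subgroup.map_eq_bot_iff_of_injective _ A₁.subtype_injective).1 hbot
  apply h2
  apply le_bot_iff.1
  rw [← hOq p]
  have hA₁D : A₁ ≤ M₁ ⊓ M₂ := relCore_le_left _ _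
  apply le_OqOf ((OqOf_le p A₁).trans hA₁D) _ (OqOf_isPGroup p A₁)
  intro h hh x hx
  apply OqOf_conj_mem_of_normalizes _ _ hx
  · intro y hy; exact relCore_conj_mem hy hh.1
  · intro y hy
    have := relCore_conj_mem hy (M₁.inv_mem hh.1)
    simpa using this

/-- a `D`-invariant `q`-subgroup dies in a quotient of `D` with trivial Fitting subgroup -/
theorem le_ker_of_fitting_eq_bot {H P : Type*} [Group H] [Group P] [Finite H] (φ : H →* P)
    (D N : Subgroup H) (hND : N ≤ D) (hinv : ∀ h ∈ D, ∀ x ∈ N, h * x * h⁻¹ ∈ N)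
    (q : ℕ) [Fact q.Prime] (hq : IsPGroup q ↥N)
    (hF : Cfsg.fittingSubgroup ↥(D.map φ) = ⊥) : N ≤ φ.ker := by
  set N'' : Subgroup ↥(D.map φ) := (N.map φ).subgroupOf (D.map φ) with hN''
  have hnorm : N''.Normal := by
    constructor
    intro n hn y
    rw [hN'', Subgroup.mem_subgroupOf] at hn ⊢
    obtain ⟨x, hx, hxn⟩ := hn
    obtain ⟨h, hh, hhy⟩ := y.2
    refine ⟨h * x * h⁻¹, hinv h hh x hx, ?_⟩
    simp [hxn, hhy]
  have hpg : IsPGroup q ↥N'' := (hq.map φ).comap_subtype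
  haveI : Finite ↥(D.map φ) := by
    apply Finite.of_surjective (fun x : ↥D => (⟨φ x, Subgroup.mem_map_of_mem φ x.2⟩ : ↥(D.map φ)))
    rintro ⟨_, x, hx, rfl⟩
    exact ⟨⟨x, hx⟩, rfl⟩
  have hnil : Group.IsNilpotent ↥N'' := hpg.isNilpotent
  have hle : N'' ≤ Cfsg.fittingSubgroup ↥(D.map φ) := Cfsg.Agent.Lib.H1.le_fittingSubgroup hnorm hnil
  rw [hF] at hle
  intro x hx
  have hmem : (⟨φ x, Subgroup.mem_map_of_mem φ (hND hx)⟩ : ↥(D.map φ)) ∈ N'' := by
    rw [hN'', Subgroup.mem_subgroupOf]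
    exact Subgroup.mem_map_of_mem φ hx
  have := hle hmem
  rw [Subgroup.mem_bot] at this
  rw [MonoidHom.mem_ker]
  exact congrArg Subtype.val this

section Perm

variable {Ω : Type*} [MulAction G Ω]

open MulAction

/-- the hypothesis `hX` of `fitting_two_point` from the Fitting-free subconstituent -/
theorem le_relCore_of_subconstituent [Finite G] (a b : Ω)
    (hF : Cfsg.fittingSubgroup ↥(((stabilizer G b).subgroupOf (stabilizer G a)).map
      (toPermHom (stabilizer G a) (orbit (stabilizer G a) b))) = ⊥)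
    (q : ℕ) [Fact q.Prime] (N : Subgroup G) (hND : N ≤ stabilizer G a ⊓ stabilizer G b)
    (hinv : ∀ h ∈ stabilizer G a ⊓ stabilizer G b, ∀ x ∈ N, h * x * h⁻¹ ∈ N)
    (hq : IsPGroup q ↥N) :
    N ≤ relCore (stabilizer G a ⊓ stabilizer G b) (stabilizer G a) := by
  have hker := le_ker_of_fitting_eq_bot
    (toPermHom (stabilizer G a) (orbit (stabilizer G a) b))
    ((stabilizer G b).subgroupOf (stabilizer G a)) (N.subgroupOf (stabilizer G a))
    (by
      intro x hx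
      rw [Subgroup.mem_subgroupOf] at hx ⊢
      exact (hND hx).2)
    (by
      intro h hh x hx
      rw [Subgroup.mem_subgroupOf] at hh hx ⊢
      have := hinv h ⟨h.2, hh⟩ x hx
      simpa using this)
    q hq.comap_subtype hF
  intro x hx
  have hxa : x ∈ stabilizer G a := (hND hx).1
  rw [mem_relCore]
  refine ⟨hxa, fun m hm => ⟨(stabilizer G a).mul_mem ((stabilizer G a).mul_mem hm hxa)
    ((stabilizer G a).inv_mem hm), ?_⟩⟩
  have h1 : toPermHom (stabilizer G a) (orbit (stabilizer G a) b) ⟨x, hxa⟩ = 1 := by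
    rw [← MonoidHom.mem_ker]
    apply hker
    rw [Subgroup.mem_subgroupOf]
    exact hx
  have hmb : m⁻¹ • b ∈ orbit (stabilizer G a) b :=
    ⟨⟨m⁻¹, (stabilizer G a).inv_mem hm⟩, rfl⟩
  have h2 := congrArg (fun σ : Equiv.Perm (orbit (stabilizer G a) b) => ((σ ⟨m⁻¹ • b, hmb⟩ : orbit (stabilizer G a) b) : Ω)) h1
  simp only [toPermHom_apply, toPerm_apply, Equiv.Perm.coe_one, id_eq] at h2
  have h3 : x • (m⁻¹ • b) = m⁻¹ • b := h2
  show m * x * m⁻¹ ∈ stabilizer G b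
  rw [mem_stabilizer_iff, mul_smul, mul_smul, h3, smul_inv_smul]

end Perm

end Cfsg.Agent.Lib.H23.WB
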