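import Cfsg.Agent.Lib.H23.MaxPairA
import Cfsg.Agent.Lib.H23.BlockVanishP
import Cfsg.Agent.Lib.H23.Isaacs1129
import Cfsg.Agent.Lib.H24.CharOrth
import Cfsg.Agent.Lib.H23.BlockIdem
import Cfsg.Agent.Lib.H23.WeightCoreA

set_option autoImplicit false

namespace Cfsg.Agent.Lib.H23.WeightCore

open Cfsg Cfsg.Agent.Lib.H23 Cfsg.Agent.Lib.H24 Cfsg.Agent.Lib.L0 Cfsg.Agent.Lib.H23.MaxPair
open scoped ComplexConjugate

section Weight

variable {K : Type*} [Group K] [Fintype K] {p : ℕ} [Fact p.Prime] {M : Ideal AlgInt}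
  (Q : Subgroup K) [hQ : Q.Normal]

theorem deflation_degree (χ : IrrCharacter K)
    (hdeg : (charDegree (χ : K → ℂ)).factorization p + (Nat.card Q).factorization p =
      (Nat.card K).factorization p)
    (ψ : IrrCharacter (K ⧸ Q)) (hψ : ∀ g : K, (ψ : K ⧸ Q → ℂ) (g : K ⧸ Q) = (χ : K → ℂ) g) :
    (charDegree (ψ : K ⧸ Q → ℂ)).factorization p = (Nat.card (K ⧸ Q)).factorization p := by
  have h1 : charDegree (ψ : K ⧸ Q → ℂ) = charDegree (χ : K → ℂ) := by
    unfold charDegree
    rw [← hψ 1]
    rfl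
  rw [h1, ← Subgroup.index_eq_card]
  have := factorization_index_add (p := p) Q
  omega

theorem normal_pSubgroup_le_of_weight (hM : IsPModular p M) (χ : IrrCharacter K)
    (hker : ∀ q ∈ Q, (χ : K → ℂ) q = (χ : K → ℂ) 1)
    (hdeg : (charDegree (χ : K → ℂ)).factorization p + (Nat.card Q).factorization p =
      (Nat.card K).factorization p)
    (R : Subgroup K) [hR : R.Normal] (hRp : IsPGroup p R) : R ≤ Q := by
  classical
  haveI : Fintype (K ⧸ Q) := Fintype.ofFinite _
  obtain ⟨ψ, hψ⟩ := exists_deflation χ Q hker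
  have hd := deflation_degree Q χ hdeg ψ hψ
  have hD : IsDefectGroup p M (blockOf M (ψ : K ⧸ Q → ℂ)) ⊥ := by
    apply isDefectGroup_of_degree hM ⊥ IsPGroup.of_bot bot_le ψ
    rw [hd]
    simp
  haveI : (R.map (QuotientGroup.mk' Q)).Normal :=
    Subgroup.Normal.map hR _ (QuotientGroup.mk'_surjective Q)
  have h1 := normal_le_defectGroup hM ψ (R.map (QuotientGroup.mk' Q)) (hRp.map _) ⊥ hD
  intro r hr
  have h2 : (QuotientGroup.mk' Q r) ∈ R.map (QuotientGroup.mk' Q) := Subgroup.mem_map_of_mem _ hr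
  have h3 := h1 h2
  rw [Subgroup.mem_bot] at h3
  exact (QuotientGroup.eq_one_iff r).1 h3

theorem weight_core {C' : Type*} [Group C'] [Fintype C'] (χ : IrrCharacter K)
    (hker : ∀ q ∈ Q, (χ : K → ℂ) q = (χ : K → ℂ) 1)
    (hdeg : (charDegree (χ : K → ℂ)).factorization p + (Nat.card Q).factorization p =
      (Nat.card K).factorization p)
    (j : C' →* K) (hj : j.range.Normal) :
    ∃ θ : IrrCharacter C', classInner ((χ : K → ℂ) ∘ j) (θ : C' → ℂ) ≠ 0 ∧
      (∀ z : C', j z ∈ Q → (θ : C' → ℂ) z = (θ : C' → ℂ) 1) ∧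
      (charDegree (θ : C' → ℂ)).factorization p + (Nat.card (Q.comap j)).factorization p =
        (Nat.card C').factorization p := by
  classical
  haveI : Fintype (K ⧸ Q) := Fintype.ofFinite _
  obtain ⟨ψ, hψ⟩ := exists_deflation χ Q hker
  have hd := deflation_degree Q χ hdeg ψ hψ
  set π₀ : C' →* K ⧸ Q := (QuotientGroup.mk' Q).comp j with hπ₀
  set Cb : Subgroup (K ⧸ Q) := π₀.range with hCb
  haveI hCbn : Cb.Normal := by
    have : Cb = j.range.map (QuotientGroup.mk' Q) := by
      rw [hCb, hπ₀, MonoidHom.range_comp]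
    rw [this]
    exact Subgroup.Normal.map hj _ (QuotientGroup.mk'_surjective Q)
  haveI : Fintype Cb := Fintype.ofFinite _
  set π : C' →* Cb := π₀.rangeRestrict with hπdef
  have hπ : Function.Surjective π := π₀.rangeRestrict_surjective
  set β : Cb → ℂ := fun x => (ψ : K ⧸ Q → ℂ) x with hβdef
  have hβ : IsCharacter Cb β := isCharacter_restrict Cb (isCharacter_of_irr ψ.2)
  have hβ1 : β 1 ≠ 0 := irr_one_ne_zero ψ
  obtain ⟨θb, hθb, hcon⟩ := exists_irr_constituent hβ hβ1
  have h11 := degree_dvd_index_mul Cb ψ.2 hθb hcon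
  have hkerπ : π.ker = Q.comap j := by
    ext c
    rw [MonoidHom.mem_ker, Subgroup.mem_comap]
    constructor
    · intro h
      have h1 : π₀ c = 1 := by
        have := congrArg Subtype.val h
        exact this
      exact (QuotientGroup.eq_one_iff (j c)).1 h1
    · intro h
      apply Subtype.ext
      exact (QuotientGroup.eq_one_iff (j c)).2 h
  refine ⟨⟨θb ∘ π, isIrrCharacter_comp_of_surjective π hπ hθb⟩, ?_, ?_, ?_⟩
  · have h1 : (χ : K → ℂ) ∘ j = β ∘ π := by
      funext c
      show (χ : K → ℂ) (j c) = (ψ : K ⧸ Q → ℂ) ((j c : K) : K ⧸ Q)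
      rw [hψ]
    show classInner ((χ : K → ℂ) ∘ j) (θb ∘ π) ≠ 0
    rw [h1, classInner_comp_surjective π hπ]
    exact hcon
  · intro z hz
    have h1 : π z = 1 := by
      rw [← MonoidHom.mem_ker, hkerπ]
      exact hz
    show θb (π z) = θb (π 1)
    rw [h1, map_one]
  · have h1 : charDegree (θb ∘ π) = charDegree θb := by
      unfold charDegree
      rw [Function.comp_apply, map_one]
    show (charDegree (θb ∘ π)).factorization p + _ = _
    rw [h1, ← hkerπ]
    have h2 : Nat.card C' = Nat.card π.ker * Nat.card Cb := by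
      have h2 := Subgroup.index_ker π
      have h3 : Nat.card π.range = Nat.card Cb := by
        rw [MonoidHom.range_eq_top.2 hπ]
        exact Nat.card_congr Subgroup.topEquiv.toEquiv
      rw [← h3, ← h2, mul_comm]
      exact (Subgroup.index_mul_card π.ker).symm
    have h3 : (Nat.card C').factorization p =
        (Nat.card π.ker).factorization p + (Nat.card Cb).factorization p := by
      rw [h2, Nat.factorization_mul Nat.card_pos.ne' Nat.card_pos.ne']
      rfl
    have h4 := factorization_index_add (p := p) Cb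
    have h5 : (charDegree θb).factorization p ≤ (Nat.card Cb).factorization p :=
      (Nat.factorization_le_iff_dvd (Cfsg.Agent.Lib.H23.charDegree_pos _ hθb).ne'
        Nat.card_pos.ne').mpr (charDegree_dvd_card θb hθb) p
    have h6 : (charDegree (ψ : K ⧸ Q → ℂ)).factorization p ≤
        (Cb.index * charDegree θb).factorization p :=
      (Nat.factorization_le_iff_dvd (Cfsg.Agent.Lib.H24.charDegree_pos ψ).ne'
        (Nat.mul_ne_zero Subgroup.index_ne_zero_of_finite
          (Cfsg.Agent.Lib.H23.charDegree_pos _ hθb).ne')).mpr h11 p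
    rw [Nat.factorization_mul Subgroup.index_ne_zero_of_finite
      (Cfsg.Agent.Lib.H23.charDegree_pos _ hθb).ne'] at h6
    simp only [Finsupp.coe_add, Pi.add_apply] at h6
    omega

end Weight

end Cfsg.Agent.Lib.H23.WeightCore
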